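import Mathlib
import Cfsg.Agent.Lib.helper8.Burnside
import Cfsg.Agent.Lib.helper8.SylowBasic
import Cfsg.Agent.Lib.helper8.SubgroupCard

set_option autoImplicit false

namespace Cfsg.Agent.Lib.helper4

open Subgroup Cfsg.Agent.Lib.helper8
open scoped Pointwise

/-- a normal subgroup whose order is coprime to its index is characteristic -/
theorem characteristic_of_normal_coprime {N : Type*} [Group N] [Finite N] (K : Subgroup N)
    [K.Normal] (h : (Nat.card K).Coprime K.index) : K.Characteristic := by
  rw [Subgroup.characteristic_iff_comap_le]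
  intro φ x hx
  rw [Subgroup.mem_comap] at hx
  have h1 : orderOf x ∣ Nat.card K := by
    have : orderOf (φ x) = orderOf x := MulEquiv.orderOf_eq φ x
    have h' := Subgroup.orderOf_dvd_natCard K hx
    change orderOf (φ x) ∣ Nat.card K at h'
    rwa [this] at h'
  have h2 : orderOf (QuotientGroup.mk x : N ⧸ K) ∣ orderOf x := by
    apply orderOf_dvd_of_pow_eq_one
    rw [← QuotientGroup.mk_pow, pow_orderOf_eq_one]
    rfl
  have h3 : orderOf (QuotientGroup.mk x : N ⧸ K) ∣ K.index := by
    rw [Subgroup.index_eq_card]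
    exact orderOf_dvd_natCard _
  have h4 : orderOf (QuotientGroup.mk x : N ⧸ K) = 1 :=
    Nat.eq_one_of_dvd_coprimes h (h2.trans h1) h3
  rw [orderOf_eq_one_iff, QuotientGroup.eq_one_iff] at h4
  exact h4

theorem sylow_le_normal_of_dvd {G : Type*} [Group G] [Finite G] (p m : ℕ) [hp : Fact p.Prime]
    (hcard : Nat.card G = p * m) (hpm : ¬ p ∣ m) (P : Sylow p G) (N : Subgroup G) [hN : N.Normal]
    (hd : p ∣ Nat.card N) : (P : Subgroup G) ≤ N := by
  have hcard' : Nat.card G = p ^ 1 * m := by rw [pow_one]; exact hcard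
  obtain ⟨x, hx⟩ := exists_prime_orderOf_dvd_card' p hd
  have hQ : IsPGroup p (zpowers (x : G)) := by
    apply IsPGroup.of_card (n := 1)
    rw [Nat.card_zpowers, pow_one, Subgroup.orderOf_coe, hx]
  obtain ⟨P', hP'⟩ := hQ.exists_le_sylow
  have hcP' : Nat.card P' = p := by
    have := h8_sylow_card p 1 m hcard' hpm P'
    rwa [pow_one] at this
  have hcQ : Nat.card (zpowers (x : G)) = p := by
    rw [Nat.card_zpowers, Subgroup.orderOf_coe, hx]
  have hQP' : zpowers (x : G) = P' := by
    apply Subgroup.eq_of_le_of_card_ge hP'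
    rw [hcP', hcQ]
  have hP'N : (P' : Subgroup G) ≤ N := by
    rw [← hQP', Subgroup.zpowers_le]
    exact x.2
  obtain ⟨g, hg⟩ := MulAction.exists_smul_eq G P' P
  intro y hy
  have hy' : y ∈ MulAut.conj g • (P' : Subgroup G) := by
    rw [← Sylow.coe_subgroup_smul, hg]
    exact hy
  rw [Subgroup.mem_smul_pointwise_iff_exists] at hy'
  obtain ⟨q, hq, rfl⟩ := hy'
  change g * q * g⁻¹ ∈ N
  exact hN.conj_mem q (hP'N hq) g

theorem simple_of_sylow_prime {G : Type*} [Group G] [Finite G] (p r m : ℕ) [hp : Fact p.Prime]
    (hr : r.Prime) (hcard : Nat.card G = p * m) (hpm : ¬ p ∣ m) (hmr : m ≠ r)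
    (hN : ∀ N : Subgroup G, N.Normal → N ≠ ⊥ → p ∣ Nat.card N)
    (P : Sylow p G)
    (hNP : Nat.card (normalizer ((P : Subgroup G) : Set G)) = p * r) : IsSimpleGroup G := by
  have hcard' : Nat.card G = p ^ 1 * m := by rw [pow_one]; exact hcard
  have hcP : Nat.card P = p := by
    have := h8_sylow_card p 1 m hcard' hpm P
    rwa [pow_one] at this
  have hm0 : m ≠ 0 := by
    intro h
    rw [h, mul_zero] at hcard
    have := Nat.card_pos (α := G)
    omega
  haveI : Nontrivial G := by
    rw [← Finite.one_lt_card_iff_nontrivial, hcard]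
    have := hp.out.two_le
    have : 1 ≤ m := Nat.pos_of_ne_zero hm0
    nlinarith
  refine ⟨fun N hNn => ?_⟩
  by_cases hbot : N = ⊥
  · exact Or.inl hbot
  right
  haveI := hNn
  have hdN : p ∣ Nat.card N := hN N hNn hbot
  have hPN : (P : Subgroup G) ≤ N := sylow_le_normal_of_dvd p m hcard hpm P N hdN
  set A : Subgroup G := normalizer ((P : Subgroup G) : Set G) ⊓ N with hA
  have hPA : (P : Subgroup G) ≤ A := le_inf Subgroup.le_normalizer hPN
  have hA1 : Nat.card A ∣ p * r := by
    rw [← hNP]
    exact Subgroup.card_dvd_of_le inf_le_left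
  have hA2 : p ∣ Nat.card A := by
    have := Subgroup.card_dvd_of_le hPA
    rwa [hcP] at this
  obtain ⟨k, hk⟩ := hA2
  have hkr : k ∣ r := by
    rw [hk] at hA1
    exact (Nat.mul_dvd_mul_iff_left hp.out.pos).mp hA1
  rcases (Nat.dvd_prime hr).mp hkr with hk1 | hkr'
  · -- |A| = p : Burnside
    exfalso
    rw [hk1, mul_one] at hk
    have hAP : (P : Subgroup G) = A := by
      apply Subgroup.eq_of_le_of_card_ge hPA
      rw [hk]
      exact le_of_eq hcP.symm
    let PN : Sylow p N := P.subtype hPN
    have hPNcoe : (PN : Subgroup N) = (P : Subgroup G).subgroupOf N := P.coe_subtype hPN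
    have hcPN : Nat.card PN = p := by
      change Nat.card (PN : Subgroup N) = p
      rw [hPNcoe, h8_card_subgroupOf hPN, hcP]
    haveI : IsCyclic (PN : Subgroup N) := isCyclic_of_prime_card hcPN
    have hcomm : ∀ a ∈ (PN : Subgroup N), ∀ b ∈ (PN : Subgroup N), a * b = b * a := by
      intro a ha b hb
      have := IsCyclic.commGroup.mul_comm (⟨a, ha⟩ : (PN : Subgroup N)) ⟨b, hb⟩
      exact congrArg Subtype.val this
    have hnc : normalizer ((PN : Subgroup N) : Set N) ≤ centralizer ((PN : Subgroup N) : Set N) := by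
      intro n hn
      have hn' : n ∈ (normalizer ((P : Subgroup G) : Set G)).subgroupOf N := by
        rw [subgroupOf_normalizer_eq hPN, ← hPNcoe]
        exact hn
      have hnA : (n : G) ∈ A := Subgroup.mem_inf.mpr ⟨Subgroup.mem_subgroupOf.mp hn', n.2⟩
      rw [← hAP] at hnA
      have hnP : n ∈ (PN : Subgroup N) := by
        rw [hPNcoe, Subgroup.mem_subgroupOf]
        exact hnA
      rw [Subgroup.mem_centralizer_iff]
      intro b hb
      exact hcomm b hb n hnP
    have hcompl := MonoidHom.ker_transferSylow_isComplement' PN hnc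
    set K : Subgroup N := (MonoidHom.transferSylow PN hnc).ker with hK
    have hKcard : Nat.card K * p = Nat.card N := by
      have := hcompl.card_mul
      rwa [hcPN] at this
    have hNdvd : Nat.card N ∣ p * m := by
      rw [← hcard]
      exact Subgroup.card_subgroup_dvd_card N
    have hpK : ¬ p ∣ Nat.card K := by
      intro hd
      obtain ⟨c, hc⟩ := hd
      rw [← hKcard, hc] at hNdvd
      have : p * (c * p) ∣ p * m := by
        have e : p * c * p = p * (c * p) := by ring
        rwa [e] at hNdvd
      have := (Nat.mul_dvd_mul_iff_left hp.out.pos).mp this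
      exact hpm (Dvd.dvd.trans (Dvd.intro_left c rfl) this)
    have hKidx : K.index = p := by
      have h1 := Subgroup.card_mul_index K
      rw [← hKcard] at h1
      have hKpos : 0 < Nat.card K := Nat.card_pos
      exact Nat.eq_of_mul_eq_mul_left hKpos h1
    have hcop : (Nat.card K).Coprime K.index := by
      rw [hKidx]
      exact (Nat.Coprime.symm ((Nat.Prime.coprime_iff_not_dvd hp.out).mpr hpK))
    haveI : K.Characteristic := characteristic_of_normal_coprime K hcop
    have hKG : (K.map N.subtype).Normal := ConjAct.normal_of_characteristic_of_normal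
    have hKbot : K.map N.subtype = ⊥ := by
      by_contra hne
      have := hN _ hKG hne
      rw [Subgroup.card_map_of_injective (Subgroup.subtype_injective N)] at this
      exact hpK this
    have hK1 : Nat.card K = 1 := by
      have := Subgroup.card_map_of_injective (K := K) (Subgroup.subtype_injective N)
      rw [hKbot, Subgroup.card_bot] at this
      exact this.symm
    rw [hK1, one_mul] at hKcard
    have hNP' : (P : Subgroup G) = N := by
      apply Subgroup.eq_of_le_of_card_ge hPN
      rw [hcP, hKcard]
    have hPnormal : (P : Subgroup G).Normal := by rw [hNP']; exact hNn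
    have htop : normalizer ((P : Subgroup G) : Set G) = ⊤ := Subgroup.normalizer_eq_top _
    rw [htop, Subgroup.card_top, hcard] at hNP
    exact hmr (Nat.eq_of_mul_eq_mul_left hp.out.pos hNP)
  · -- |A| = p r : Frattini
    rw [hkr'] at hk
    have hAN : A = normalizer ((P : Subgroup G) : Set G) := by
      apply Subgroup.eq_of_le_of_card_ge inf_le_left
      rw [hk, hNP]
    have hle : normalizer ((P : Subgroup G) : Set G) ≤ N := by
      rw [← hAN]
      exact inf_le_right
    have h1 : normalizer ((P : Subgroup G) : Set G) ⊔ N = ⊤ := Sylow.normalizer_sup_eq_top' P hPN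
    rw [sup_eq_right.mpr hle] at h1
    exact h1

end Cfsg.Agent.Lib.helper4
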