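import Mathlib
import Cfsg.Prelude.Def_SolvableStructure
import Cfsg.Agent.Lib.Helper1.Schmidt2

set_option autoImplicit false

namespace Cfsg.Agent.Lib.helper4

open Subgroup

section

variable {G : Type*} [Group G]

/-- In a finite nilpotent subgroup, a `p`-element commutes with a `q`-element. -/
theorem nilp_commute_coprime [Finite G] (H : Subgroup G) [Group.IsNilpotent H] (p q : ℕ)
    [Fact p.Prime] [Fact q.Prime] (hpq : p ≠ q) (x y : G) (hx : x ∈ H) (hy : y ∈ H)
    (a b : ℕ) (hxa : x ^ (p ^ a) = 1) (hyb : y ^ (q ^ b) = 1) : x * y = y * x := by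
  have hX : IsPGroup p (Subgroup.zpowers (⟨x, hx⟩ : H)) := by
    rw [IsPGroup.iff_card, Nat.card_zpowers]
    have h1 : orderOf (⟨x, hx⟩ : H) ∣ p ^ a := by
      apply orderOf_dvd_of_pow_eq_one
      apply Subtype.ext
      rw [Subgroup.coe_pow]
      exact hxa
    obtain ⟨k, -, hk⟩ := (Nat.dvd_prime_pow Fact.out).mp h1
    exact ⟨k, hk⟩
  have hY : IsPGroup q (Subgroup.zpowers (⟨y, hy⟩ : H)) := by
    rw [IsPGroup.iff_card, Nat.card_zpowers]
    have h1 : orderOf (⟨y, hy⟩ : H) ∣ q ^ b := by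
      apply orderOf_dvd_of_pow_eq_one
      apply Subtype.ext
      rw [Subgroup.coe_pow]
      exact hyb
    obtain ⟨k, -, hk⟩ := (Nat.dvd_prime_pow Fact.out).mp h1
    exact ⟨k, hk⟩
  obtain ⟨P, hP⟩ := hX.exists_le_sylow
  obtain ⟨Q, hQ⟩ := hY.exists_le_sylow
  have hPn : (P : Subgroup H).Normal := inferInstance
  have hQn : (Q : Subgroup H).Normal := inferInstance
  have hdisj : Disjoint (P : Subgroup H) (Q : Subgroup H) :=
    IsPGroup.disjoint_of_ne p q hpq _ _ P.2 Q.2
  have := Subgroup.commute_of_normal_of_disjoint _ _ hPn hQn hdisj ⟨x, hx⟩ ⟨y, hy⟩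
    (hP (Subgroup.mem_zpowers _)) (hQ (Subgroup.mem_zpowers _))
  exact congrArg Subtype.val this

/-- A Sylow subgroup of `G` contained in a nilpotent normal subgroup is normal in `G`. -/
theorem sylow_normal_of_le_nilp_normal [Finite G] (M : Subgroup G) [hMn : M.Normal]
    [Group.IsNilpotent M] (p : ℕ) [Fact p.Prime] (P : Sylow p G) (hPM : (P : Subgroup G) ≤ M) :
    (P : Subgroup G).Normal := by
  constructor
  intro n hn g
  have hnM : n ∈ M := hPM hn
  have hgM : g * n * g⁻¹ ∈ M := hMn.conj_mem n hnM g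
  -- zpowers of the conjugate is a p-subgroup of M
  obtain ⟨k, hk⟩ := (P.2 ⟨n, hn⟩)
  have hk' : n ^ (p ^ k) = 1 := by
    have := congrArg Subtype.val hk
    simpa using this
  have hZ : IsPGroup p (Subgroup.zpowers (⟨g * n * g⁻¹, hgM⟩ : M)) := by
    rw [IsPGroup.iff_card, Nat.card_zpowers]
    have h1 : orderOf (⟨g * n * g⁻¹, hgM⟩ : M) ∣ p ^ k := by
      apply orderOf_dvd_of_pow_eq_one
      apply Subtype.ext
      rw [Subgroup.coe_pow]
      show (g * n * g⁻¹) ^ (p ^ k) = 1
      rw [conj_pow, hk']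
      group
    obtain ⟨j, -, hj⟩ := (Nat.dvd_prime_pow Fact.out).mp h1
    exact ⟨j, hj⟩
  obtain ⟨Q, hQ⟩ := hZ.exists_le_sylow
  obtain ⟨m, hm⟩ := MulAction.exists_smul_eq M (P.subtype hPM) Q
  have hPn : ((P.subtype hPM : Sylow p M) : Subgroup M).Normal := inferInstance
  rw [Sylow.smul_eq_of_normal] at hm
  have h2 : (⟨g * n * g⁻¹, hgM⟩ : M) ∈ (P.subtype hPM : Sylow p M) := by
    rw [hm]
    exact hQ (Subgroup.mem_zpowers _)
  exact h2

theorem normal_of_commutator_le (M : Subgroup G) (h : commutator G ≤ M) : M.Normal := by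
  constructor
  intro m hm g
  have h1 : g * m * g⁻¹ * m⁻¹ ∈ commutator G := by
    rw [commutator_def]
    have := Subgroup.commutator_mem_commutator (H₁ := ⊤) (H₂ := ⊤) (Subgroup.mem_top g)
      (Subgroup.mem_top m)
    rwa [commutatorElement_def] at this
  have h2 := M.mul_mem (h h1) hm
  simpa using h2

theorem exists_normal_coatom [Finite G] [Group.IsSolvable G] [Nontrivial G] :
    ∃ M : Subgroup G, M.Normal ∧ IsCoatom M := by
  have hlt : commutator G < ⊤ := Group.IsSolvable.commutator_lt_top_of_nontrivial G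
  obtain ⟨M, hM, hle⟩ := (eq_top_or_exists_le_coatom (commutator G)).resolve_left hlt.ne
  exact ⟨M, normal_of_commutator_le M hle, hM⟩

/-- a subgroup containing a Sylow `r`-subgroup for every prime `r` is everything -/
theorem eq_top_of_contains_sylows [Finite G] (K : Subgroup G)
    (h : ∀ (r : ℕ) [Fact r.Prime], ∃ S : Sylow r G, (S : Subgroup G) ≤ K) : K = ⊤ := by
  apply (Subgroup.card_eq_iff_eq_top K).mp
  apply Nat.dvd_antisymm (Subgroup.card_subgroup_dvd_card K)
  rw [← Nat.factorization_prime_le_iff_dvd Nat.card_pos.ne' Nat.card_pos.ne']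
  intro p hp
  haveI : Fact p.Prime := ⟨hp⟩
  obtain ⟨P, hP⟩ := h p
  rw [← hp.pow_dvd_iff_le_factorization Nat.card_pos.ne', ← P.card_eq_multiplicity]
  exact Subgroup.card_dvd_of_le hP

end

end Cfsg.Agent.Lib.helper4
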