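import Mathlib
import Cfsg.Agent.Lib.helper4.MinNonNilp
import Cfsg.Agent.Lib.Helper20.Wielandt

set_option autoImplicit false

namespace Cfsg.Agent.Lib.helper4

open Subgroup

/-- Core structure of a finite non-nilpotent group whose proper subgroups are nilpotent -/
theorem min_non_nilp_core {G : Type*} [Group G] [Finite G] (hG : Cfsg.IsMinimalNonNilpotent G) :
    ∃ p q : ℕ, p.Prime ∧ q.Prime ∧ p ≠ q ∧ ∃ (P : Sylow p G) (Q : Sylow q G),
      (Q : Subgroup G).Normal ∧ (P : Subgroup G) ⊔ Q = ⊤ ∧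
      ¬ (Q : Subgroup G) ≤ Subgroup.normalizer ((P : Subgroup G) : Set G) ∧
      (∀ x ∈ (P : Subgroup G), Subgroup.zpowers x ⊔ (Q : Subgroup G) ≠ ⊤ →
        ∀ y ∈ (Q : Subgroup G), x * y = y * x) := by
  classical
  obtain ⟨hnn, hprop⟩ := hG
  haveI hsolv : Group.IsSolvable G :=
    Cfsg.Agent.Lib.Helper1.schmidt (fun M hM => hprop M hM.1)
  haveI : Nontrivial G := by
    by_contra hnt
    rw [not_nontrivial_iff_subsingleton] at hnt
    exact hnn inferInstance
  obtain ⟨M, hMn, hMc⟩ := exists_normal_coatom (G := G)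
  haveI := hMn
  haveI hMnil : Group.IsNilpotent M := hprop M hMc.1
  -- a non-normal Sylow subgroup
  obtain ⟨p, hp, P, hPn⟩ : ∃ (p : ℕ) (_ : Fact p.Prime) (P : Sylow p G),
      ¬ (P : Subgroup G).Normal := by
    by_contra hall
    push Not at hall
    exact hnn (((Group.isNilpotent_of_finite_tfae (G := G)).out 0 3).mpr hall)
  haveI := hp
  have hPM : ¬ (P : Subgroup G) ≤ M := fun h => hPn (sylow_normal_of_le_nilp_normal M p P h)
  have hsup : (P : Subgroup G) ⊔ M = ⊤ := by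
    have h1 : M ≤ (P : Subgroup G) ⊔ M := le_sup_right
    rcases eq_or_lt_of_le h1 with h | h
    · exfalso
      apply hPM
      rw [h]
      exact le_sup_left
    · exact hMc.2 _ h
  have hdecomp : ∀ g : G, ∃ x ∈ (P : Subgroup G), ∃ m ∈ M, g = x * m := by
    intro g
    have h1 : g ∈ ((P : Subgroup G) ⊔ M : Subgroup G) := by rw [hsup]; exact Subgroup.mem_top g
    rw [← SetLike.mem_coe, Subgroup.mul_normal] at h1
    obtain ⟨x, hx, m, hm, rfl⟩ := Set.mem_mul.mp h1
    exact ⟨x, hx, m, hm, rfl⟩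
  -- Sylow q-subgroups for q ≠ p are normal
  have hQnormal : ∀ (q : ℕ) [Fact q.Prime], q ≠ p → ∀ Q : Sylow q G, (Q : Subgroup G).Normal := by
    intro q hq hqp Q
    apply sylow_normal_of_le_nilp_normal M q Q
    intro y hy
    obtain ⟨x, hx, m, hm, rfl⟩ := hdecomp y
    obtain ⟨a, ha⟩ := P.2 ⟨x, hx⟩
    obtain ⟨b, hb⟩ := Q.2 ⟨x * m, hy⟩
    have ha' : x ^ (p ^ a) = 1 := by simpa using congrArg Subtype.val ha
    have hb' : (x * m) ^ (q ^ b) = 1 := by simpa using congrArg Subtype.val hb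
    have hm1 : QuotientGroup.mk' M m = 1 := by
      rw [QuotientGroup.mk'_apply]
      exact (QuotientGroup.eq_one_iff m).mpr hm
    have hmk : (QuotientGroup.mk' M (x * m)) = QuotientGroup.mk' M x := by
      rw [map_mul, hm1, mul_one]
    have h1 : (QuotientGroup.mk' M x) ^ (p ^ a) = 1 := by rw [← map_pow, ha', map_one]
    have h2 : (QuotientGroup.mk' M x) ^ (q ^ b) = 1 := by rw [← hmk, ← map_pow, hb', map_one]
    have hcop : Nat.Coprime (p ^ a) (q ^ b) :=
      Nat.Coprime.pow _ _ ((Nat.coprime_primes hp.out hq.out).mpr (Ne.symm hqp))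
    have h3 : orderOf (QuotientGroup.mk' M x) ∣ 1 := by
      rw [← Nat.Coprime.gcd_eq_one hcop]
      exact Nat.dvd_gcd (orderOf_dvd_of_pow_eq_one h1) (orderOf_dvd_of_pow_eq_one h2)
    have h4 : QuotientGroup.mk' M x = 1 := orderOf_eq_one_iff.mp (Nat.dvd_one.mp h3)
    have hxM : x ∈ M := by
      rw [QuotientGroup.mk'_apply] at h4
      exact (QuotientGroup.eq_one_iff x).mp h4
    exact M.mul_mem hxM hm
  -- some Q not normalizing P
  obtain ⟨q, hq, hqp, Q, hQN⟩ : ∃ (q : ℕ) (_ : Fact q.Prime) (_ : q ≠ p) (Q : Sylow q G),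
      ¬ (Q : Subgroup G) ≤ Subgroup.normalizer ((P : Subgroup G) : Set G) := by
    by_contra hall
    push Not at hall
    apply hPn
    rw [← Subgroup.normalizer_eq_top_iff]
    apply eq_top_of_contains_sylows
    intro r hr
    by_cases hrp : r = p
    · subst hrp
      exact ⟨P, Subgroup.le_normalizer⟩
    · obtain ⟨Q⟩ : Nonempty (Sylow r G) := inferInstance
      exact ⟨Q, hall r hr hrp Q⟩
  haveI := hq
  have hQn : (Q : Subgroup G).Normal := hQnormal q hqp Q
  -- commuting lemma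
  have hcomm : ∀ (H : Subgroup G), H ≠ ⊤ → ∀ x ∈ (P : Subgroup G), x ∈ H →
      ∀ y ∈ (Q : Subgroup G), y ∈ H → x * y = y * x := by
    intro H hH x hx hxH y hy hyH
    haveI : Group.IsNilpotent H := hprop H hH
    obtain ⟨a, ha⟩ := P.2 ⟨x, hx⟩
    obtain ⟨b, hb⟩ := Q.2 ⟨y, hy⟩
    have ha' : x ^ (p ^ a) = 1 := by simpa using congrArg Subtype.val ha
    have hb' : y ^ (q ^ b) = 1 := by simpa using congrArg Subtype.val hb
    exact nilp_commute_coprime H p q (Ne.symm hqp) x y hxH hyH a b ha' hb'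
  have hcent : ∀ (H : Subgroup G), H ≠ ⊤ → (P : Subgroup G) ≤ H → (Q : Subgroup G) ≤ H → False := by
    intro H hH hPH hQH
    apply hQN
    apply Cfsg.Agent.Lib.Helper20.le_normalizer_of_conj_mem'
    intro y hy x hx
    have := hcomm H hH x hx (hPH hx) y hy (hQH hy)
    have e : y * x * y⁻¹ = x := by rw [← this]; group
    rw [e]; exact hx
  have hPQ : (P : Subgroup G) ⊔ Q = ⊤ := by
    by_contra hne
    exact hcent _ hne le_sup_left le_sup_right
  refine ⟨p, q, hp.out, hq.out, Ne.symm hqp, P, Q, hQn, hPQ, hQN, ?_⟩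
  intro x hx hK y hy
  exact hcomm _ hK x hx (le_sup_left (a := Subgroup.zpowers x) (Subgroup.mem_zpowers x)) y hy
    (le_sup_right (a := Subgroup.zpowers x) hy)

end Cfsg.Agent.Lib.helper4
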