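import Mathlib
import Cfsg.Agent.Lib.helper4.MinNonNilpB

set_option autoImplicit false

namespace Cfsg.Agent.Lib.helper4

open Subgroup

theorem sylow_cyclic_of_sup_zpowers {G : Type*} [Group G] (p q : ℕ) [Fact p.Prime] [Fact q.Prime]
    (hpq : p ≠ q) (P : Sylow p G) (Q : Sylow q G) [hQn : (Q : Subgroup G).Normal] (x : G)
    (hx : x ∈ (P : Subgroup G)) (h : Subgroup.zpowers x ⊔ (Q : Subgroup G) = ⊤) :
    IsCyclic (P : Subgroup G) := by
  have hdisj : Disjoint (P : Subgroup G) (Q : Subgroup G) :=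
    IsPGroup.disjoint_of_ne p q hpq _ _ P.2 Q.2
  refine ⟨⟨⟨x, hx⟩, ?_⟩⟩
  intro g
  have h1 : (g : G) ∈ (Subgroup.zpowers x ⊔ (Q : Subgroup G) : Subgroup G) := by
    rw [h]; exact Subgroup.mem_top _
  rw [← SetLike.mem_coe, Subgroup.mul_normal] at h1
  obtain ⟨z, hz, y, hy, hzy⟩ := Set.mem_mul.mp h1
  have hzP : z ∈ (P : Subgroup G) := by
    have hle : Subgroup.zpowers x ≤ (P : Subgroup G) := by
      rw [Subgroup.zpowers_le]; exact hx
    exact hle hz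
  have hyP : y ∈ (P : Subgroup G) := by
    have : y = z⁻¹ * (g : G) := by rw [← hzy]; group
    rw [this]
    exact Subgroup.mul_mem _ (Subgroup.inv_mem _ hzP) g.2
  have hy1 : y = 1 := by
    have : y ∈ (P : Subgroup G) ⊓ (Q : Subgroup G) := ⟨hyP, hy⟩
    rw [disjoint_iff.mp hdisj, Subgroup.mem_bot] at this
    exact this
  rw [hy1, mul_one] at hzy
  obtain ⟨k, hk⟩ := Subgroup.mem_zpowers_iff.mp hz
  refine ⟨k, ?_⟩
  apply Subtype.ext
  show ((⟨x, hx⟩ : (P : Subgroup G)) ^ k : (P : Subgroup G)).1 = g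
  rw [Subgroup.coe_zpow]
  show x ^ k = g
  rw [hk, hzy]

theorem min_non_nilp_structure {G : Type*} [Group G] [Finite G]
    (hG : Cfsg.IsMinimalNonNilpotent G) :
    ∃ p q : ℕ, p.Prime ∧ q.Prime ∧ p ≠ q ∧ ∃ (P : Sylow p G) (Q : Sylow q G),
      IsCyclic P ∧ (Q : Subgroup G).Normal ∧ (P : Subgroup G) ⊔ Q = ⊤ := by
  obtain ⟨p, q, hp, hq, hpq, P, Q, hQn, hPQ, hQN, hcomm⟩ := min_non_nilp_core hG
  haveI : Fact p.Prime := ⟨hp⟩
  haveI : Fact q.Prime := ⟨hq⟩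
  refine ⟨p, q, hp, hq, hpq, P, Q, ?_, hQn, hPQ⟩
  by_contra hnc
  apply hQN
  apply Cfsg.Agent.Lib.Helper20.le_normalizer_of_conj_mem'
  intro y hy x hx
  have hne : Subgroup.zpowers x ⊔ (Q : Subgroup G) ≠ ⊤ := by
    intro h
    exact hnc (sylow_cyclic_of_sup_zpowers p q hpq P Q x hx h)
  have := hcomm x hx hne y hy
  have e : y * x * y⁻¹ = x := by rw [← this]; group
  rw [e]; exact hx

end Cfsg.Agent.Lib.helper4
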