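import Mathlib
import Cfsg.Prelude.Def_Transfer
import Cfsg.Agent.Lib.helper4.MinNonNilpC
import Cfsg.Agent.Lib.Helper1.CoprimeAbelian

set_option autoImplicit false

namespace Cfsg.Agent.Lib.helper4

open Subgroup

theorem nilp_of_isMulCommutative {H : Type*} [Group H] (h : IsMulCommutative H) :
    Group.IsNilpotent H := by
  let _inst : CommGroup H :=
    { (inferInstance : Group H) with mul_comm := fun a b => (isMulCommutative_iff.mp h) a b }
  exact CommGroup.isNilpotent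

theorem min_non_nilp_full {G : Type*} [Group G] [Finite G]
    (hG : Cfsg.IsMinimalNonNilpotent G) :
    ∃ p q : ℕ, p.Prime ∧ q.Prime ∧ p ≠ q ∧ ∃ (P : Sylow p G) (Q : Sylow q G),
      IsCyclic P ∧ (Q : Subgroup G).Normal ∧ (P : Subgroup G) ⊔ Q = ⊤ ∧
      ¬ (Q : Subgroup G) ≤ Subgroup.normalizer ((P : Subgroup G) : Set G) := by
  obtain ⟨p, q, hp, hq, hpq, P, Q, hQn, hPQ, hQN, hcomm⟩ := min_non_nilp_core hG
  haveI : Fact p.Prime := ⟨hp⟩
  haveI : Fact q.Prime := ⟨hq⟩
  refine ⟨p, q, hp, hq, hpq, P, Q, ?_, hQn, hPQ, hQN⟩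
  by_contra hnc
  apply hQN
  apply Cfsg.Agent.Lib.Helper20.le_normalizer_of_conj_mem'
  intro y hy x hx
  have hne : Subgroup.zpowers x ⊔ (Q : Subgroup G) ≠ ⊤ := by
    intro h
    exact hnc (sylow_cyclic_of_sup_zpowers p q hpq P Q x hx h)
  have := hcomm x hx hne y hy
  have e : y * x * y⁻¹ = x := by rw [← this]; group
  rw [e]; exact hx

/-- the nilpotent case -/
theorem comm_of_nilp_of_sylows_comm {G : Type*} [Group G] [Finite G] [Group.IsNilpotent G]
    (h : ∀ (p : ℕ) [Fact p.Prime] (P : Sylow p G), IsMulCommutative ↥(P : Subgroup G)) :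
    IsMulCommutative G := by
  obtain ⟨e⟩ := ((Group.isNilpotent_of_finite_tfae (G := G)).out 0 4).mp ‹Group.IsNilpotent G›
  rw [isMulCommutative_iff]
  intro x y
  obtain ⟨a, rfl⟩ := e.surjective x
  obtain ⟨b, rfl⟩ := e.surjective y
  rw [← map_mul, ← map_mul]
  congr 1
  funext p P
  haveI : Fact (p : ℕ).Prime := ⟨Nat.prime_of_mem_primeFactors p.2⟩
  exact (isMulCommutative_iff.mp (h p P)) (a p P) (b p P)

theorem min_non_abelian_structure {G : Type*} [Group G] [Finite G] (hna : ¬ IsMulCommutative G)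
    (h : ∀ H : Subgroup G, H ≠ ⊤ → IsMulCommutative H) :
    (∃ p : ℕ, p.Prime ∧ IsPGroup p G) ∨ ∃ p q : ℕ, p.Prime ∧ q.Prime ∧ p ≠ q ∧
      ∃ (P : Sylow p G) (Q : Sylow q G), IsCyclic P ∧ (Q : Subgroup G).Normal ∧
        Cfsg.IsElementaryAbelian q (Q : Subgroup G) ∧ (P : Subgroup G) ⊔ Q = ⊤ := by
  classical
  by_cases hpg : ∃ p : ℕ, p.Prime ∧ IsPGroup p G
  · exact Or.inl hpg
  right
  have hSylne : ∀ (p : ℕ) [Fact p.Prime] (P : Sylow p G), (P : Subgroup G) ≠ ⊤ := by
    intro p hp P htop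
    apply hpg
    refine ⟨p, hp.out, ?_⟩
    intro g
    obtain ⟨k, hk⟩ := P.2 ⟨g, by rw [htop]; exact Subgroup.mem_top g⟩
    exact ⟨k, by simpa using congrArg Subtype.val hk⟩
  have hnn : ¬ Group.IsNilpotent G := by
    intro hnil
    exact hna (comm_of_nilp_of_sylows_comm (fun p _ P => h _ (hSylne p P)))
  have hmnn : Cfsg.IsMinimalNonNilpotent G :=
    ⟨hnn, fun H hH => nilp_of_isMulCommutative (h H hH)⟩
  obtain ⟨p, q, hp, hq, hpq, P, Q, hcyc, hQn, hPQ, hQN⟩ := min_non_nilp_full hmnn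
  haveI : Fact p.Prime := ⟨hp⟩
  haveI : Fact q.Prime := ⟨hq⟩
  haveI := hQn
  refine ⟨p, q, hp, hq, hpq, P, Q, hcyc, hQn, ⟨h _ (hSylne q Q), ?_⟩, hPQ⟩
  have hQc : IsMulCommutative (Q : Subgroup G) := h _ (hSylne q Q)
  have hQcomm := (Cfsg.Agent.Lib.Helper1.isMulCommutative_subgroup_iff _).mp hQc
  have hdisj : Disjoint (P : Subgroup G) (Q : Subgroup G) :=
    IsPGroup.disjoint_of_ne p q hpq _ _ P.2 Q.2
  -- Ω₁(Q)
  let A : Subgroup G :=
    { carrier := {z | z ∈ (Q : Subgroup G) ∧ z ^ q = 1}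
      one_mem' := ⟨Subgroup.one_mem _, one_pow _⟩
      mul_mem' := by
        rintro a b ⟨ha, ha'⟩ ⟨hb, hb'⟩
        refine ⟨Subgroup.mul_mem _ ha hb, ?_⟩
        rw [Commute.mul_pow (show Commute a b from hQcomm a ha b hb) q, ha', hb', one_mul]
      inv_mem' := by
        rintro a ⟨ha, ha'⟩
        exact ⟨Subgroup.inv_mem _ ha, by rw [inv_pow, ha', inv_one]⟩ }
  have hAmem : ∀ z, z ∈ A ↔ z ∈ (Q : Subgroup G) ∧ z ^ q = 1 := fun z => Iff.rfl
  haveI hAn : A.Normal := by
    constructor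
    intro z hz g
    rw [hAmem] at hz ⊢
    exact ⟨hQn.conj_mem z hz.1 g, by rw [conj_pow, hz.2]; group⟩
  by_cases hPA : (P : Subgroup G) ⊔ A = ⊤
  · intro g hg
    have h1 : g ∈ ((P : Subgroup G) ⊔ A : Subgroup G) := by rw [hPA]; exact Subgroup.mem_top g
    rw [← SetLike.mem_coe, Subgroup.mul_normal] at h1
    obtain ⟨x, hx, z, hz, rfl⟩ := Set.mem_mul.mp h1
    have hzQ : z ∈ (Q : Subgroup G) := ((hAmem z).mp hz).1
    have hxQ : x ∈ (Q : Subgroup G) := by
      have : x = x * z * z⁻¹ := by group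
      rw [this]
      exact Subgroup.mul_mem _ hg (Subgroup.inv_mem _ hzQ)
    have hx1 : x = 1 := by
      have : x ∈ (P : Subgroup G) ⊓ (Q : Subgroup G) := ⟨hx, hxQ⟩
      rw [disjoint_iff.mp hdisj, Subgroup.mem_bot] at this
      exact this
    rw [hx1, one_mul]
    exact ((hAmem z).mp hz).2
  · exfalso
    have hPAc := (Cfsg.Agent.Lib.Helper1.isMulCommutative_subgroup_iff _).mp (h _ hPA)
    -- A ≤ C_Q(P)
    have hAC : A ≤ (Q : Subgroup G) ⊓ Subgroup.centralizer ((P : Subgroup G) : Set G) := by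
      intro z hz
      refine Subgroup.mem_inf.mpr ⟨((hAmem z).mp hz).1, ?_⟩
      rw [Subgroup.mem_centralizer_iff]
      intro x hx
      exact hPAc x (le_sup_left (b := A) hx) z (le_sup_right (a := (P : Subgroup G)) hz)
    have hPNQ : (P : Subgroup G) ≤ Subgroup.normalizer ((Q : Subgroup G) : Set G) := by
      rw [Subgroup.normalizer_eq_top_iff.mpr hQn]
      exact le_top
    have hcop : (Nat.card (P : Subgroup G)).Coprime (Nat.card (Q : Subgroup G)) := by
      obtain ⟨a, ha⟩ := IsPGroup.iff_card.mp P.2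
      obtain ⟨b, hb⟩ := IsPGroup.iff_card.mp Q.2
      rw [ha, hb]
      exact Nat.Coprime.pow _ _ ((Nat.coprime_primes hp hq).mpr hpq)
    haveI := hQc
    have hdec := Cfsg.Agent.Lib.Helper1.inf_centralizer_inf_commutator_eq_bot
      (P : Subgroup G) (Q : Subgroup G) hPNQ hcop
    -- the commutator is trivial
    set C : Subgroup G := ⁅(Q : Subgroup G), (P : Subgroup G)⁆ with hCdef
    have hcomm_bot : C = ⊥ := by
      by_contra hne
      have hle : C ≤ (Q : Subgroup G) := Subgroup.commutator_le_left _ _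
      have hqg : IsPGroup q C := Q.2.to_le hle
      obtain ⟨k, hk⟩ := IsPGroup.iff_card.mp hqg
      have hk0 : k ≠ 0 := by
        rintro rfl
        rw [pow_zero] at hk
        exact hne (Subgroup.card_eq_one.mp hk)
      have hdvd : q ∣ Nat.card C := by
        rw [hk]; exact dvd_pow_self q hk0
      obtain ⟨z, hz⟩ := exists_prime_orderOf_dvd_card' q hdvd
      have hzq : ((z : G)) ^ q = 1 := by
        have := pow_orderOf_eq_one z
        rw [hz] at this
        simpa using congrArg Subtype.val this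
      have hzA : (z : G) ∈ A := (hAmem _).mpr ⟨hle z.2, hzq⟩
      have hmem : (z : G) ∈ ((Q : Subgroup G) ⊓ Subgroup.centralizer ((P : Subgroup G) : Set G)) ⊓
          C := ⟨hAC hzA, z.2⟩
      rw [hdec, Subgroup.mem_bot] at hmem
      have hz1 : z = 1 := Subtype.ext hmem
      rw [hz1, orderOf_one] at hz
      exact hq.one_lt.ne hz
    rw [hCdef] at hcomm_bot
    rw [Subgroup.commutator_eq_bot_iff_le_centralizer] at hcomm_bot
    apply hQN
    exact hcomm_bot.trans (Subgroup.centralizer_le_normalizer _)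

end Cfsg.Agent.Lib.helper4
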