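import Mathlib
import Cfsg.Agent.Lib.helper14.BGL.SPDefs
import Cfsg.Agent.Lib.helper14.BGL.SPDefs2
import Cfsg.Agent.Lib.helper8.ChevW0
import Cfsg.Agent.Lib.helper8.ChevNgen

/-!
# Project BGL, block SP (designer helper14), rows N3 (`refl_facts`) and S1 (`stabP_n`) (helper4), VERBATIM.
-/

set_option autoImplicit false

namespace Cfsg.Agent.Lib.helper14.BGLSP

open Cfsg.Lie Cfsg.Lie.ChevalleyDatum Cfsg.Agent.Lib.helper8 Matrix

universe u

variable {K : Type u} [Field K] (D : ChevalleyDatum)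

/-- N3 [S]  facts on the reflections from `H8ReflAll` (`h8reflAll_spec`). -/
theorem refl_facts (hA : H8ReflAll D) {i : ℕ} (hi : i < D.rank) {s : ℕ} (hs : s < D.nroots) :
    D.reflectRoot i s < D.nroots ∧ D.reflectRoot i (D.reflectRoot i s) = s ∧
      D.reflectRoot i (D.neg s) = D.neg (D.reflectRoot i s) := by
  obtain ⟨η, hη⟩ := h8reflAll_spec D hA i hi
  exact ⟨hη.lt s hs, hη.invol s hs, hη.negc s hs⟩

/-- S1 [S]  `h8nMat_eq_prod` (`-(1:K)⁻¹ = -1`), `Matrix.mulVec_mulVec`. -/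
theorem stabP_n {P : (D.Idx → K) → Prop} (hP : StabP D P) {r : ℕ} (hr : r < D.nroots) (hnr : D.neg r < D.nroots)
    {w : D.Idx → K} (hw : P w) : P (D.nMat K r 1 *ᵥ w) := by
  rw [h8nMat_eq_prod]
  have e : -(1 : K)⁻¹ = -1 := by rw [inv_one]
  rw [e, ← Matrix.mulVec_mulVec, ← Matrix.mulVec_mulVec]
  exact (hP r hr _ ((hP (D.neg r) hnr _ (hP r hr w hw).1).2)).1

end Cfsg.Agent.Lib.helper14.BGLSP

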