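import Mathlib
import Cfsg.Agent.Lib.helper14.BGL.SPDefs
import Cfsg.Agent.Lib.helper14.BGL.SPDefs2

/-!
# Project BGL, block SP (designer helper14), rows X4 (`x_mulVec_self`) and X5 (`x_mulVec_other`) (helper4), VERBATIM.

The rows `e_r` and `e_u` (`u ≠ r`) of the root element matrix `x_r(t)`, read off the definition of `xMat`.
-/

set_option autoImplicit false

namespace Cfsg.Agent.Lib.helper14.BGLSP

open Cfsg.Lie Cfsg.Lie.ChevalleyDatum Cfsg.Agent.Lib.helper8 Matrix

universe u

variable {K : Type u} [Field K] (D : ChevalleyDatum)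

/-- the `r`-chain through `s` does not contain `r`: `chainCoeff r s r = []` -/
theorem bglspx4_chainCoeff_self {r : ℕ}
    (hself : ∀ e ∈ (D.chain.getD r #[]).toList, ∀ q ∈ e.2.toList, q.1 ≠ r) (s : ℕ) :
    D.chainCoeff r s r = [] := by
  unfold ChevalleyDatum.chainCoeff
  rw [List.flatMap_eq_nil_iff]
  intro e he
  rw [List.map_eq_nil_iff, List.filter_eq_nil_iff]
  intro q hq
  have he' := (List.mem_filter.1 he).1
  have hq' : q.1 ∈ e.2.toList := List.fst_mem_of_mem_zipIdx hq
  have := hself e he' q.1 hq'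
  simpa using this

/-- hence `cc D r s r t = 0` -/
theorem bglspx4_chainCoeff_cc {r : ℕ}
    (hself : ∀ e ∈ (D.chain.getD r #[]).toList, ∀ q ∈ e.2.toList, q.1 ≠ r) (s : ℕ) (t : K) :
    cc D r s r t = 0 := by
  unfold cc
  rw [bglspx4_chainCoeff_self D hself s]
  rfl

/-- the entries of row `e_u` of `xMat` in the Cartan columns -/
theorem bglspx4_xMat_inr_inl (r u : Fin D.nroots) (t : K) (i : Fin D.rank) :
    D.xMat K r t (Sum.inr u) (Sum.inl i) =
      if u = r then -(((D.cartan i.val r.val : ℤ) : K)) * t else 0 := by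
  unfold ChevalleyDatum.xMat
  rw [Matrix.of_apply]
  rfl

/-- the entries of row `e_u` of `xMat` in the root columns -/
theorem bglspx4_xMat_inr_inr (r u s : Fin D.nroots) (t : K) :
    D.xMat K r t (Sum.inr u) (Sum.inr s) =
      if s = r then (if u = r then 1 else 0)
      else if s.val = D.neg r.val then (if u = s then 1 else if u = r then -(t ^ 2) else 0)
      else (if u = s then 1 else 0) + cc D r.val s.val u.val t := by
  unfold ChevalleyDatum.xMat
  rw [Matrix.of_apply]
  rfl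

/-- X4 [M]  row `e_r`: `(x_r(t) w)_r = w_r − t α_r(w) − t² w_{−r}`; the other columns `e_s` contribute `chainCoeff r s r = []` (`hself`). -/
theorem x_mulVec_self {r : ℕ} (hr : r < D.nroots) (hne : D.neg r ≠ r)
    (hself : ∀ e ∈ (D.chain.getD r #[]).toList, ∀ q ∈ e.2.toList, q.1 ≠ r) (t : K) (w : D.Idx → K) :
    rc D (D.x K r t *ᵥ w) r = rc D w r - t * alpha D r w - t ^ 2 * rc D w (D.neg r) := by
  classical
  unfold ChevalleyDatum.x
  rw [dif_pos hr]
  have e1 : rc D (D.xMat K ⟨r, hr⟩ t *ᵥ w) r = (D.xMat K ⟨r, hr⟩ t *ᵥ w) (Sum.inr ⟨r, hr⟩) := by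
    unfold rc
    rw [dif_pos hr]
  have e2 : rc D w r = w (Sum.inr ⟨r, hr⟩) := by
    unfold rc
    rw [dif_pos hr]
  rw [e1, e2, Matrix.mulVec, dotProduct, Fintype.sum_sum_type]
  have h1 : ∑ i : Fin D.rank, D.xMat K ⟨r, hr⟩ t (Sum.inr ⟨r, hr⟩) (Sum.inl i) * w (Sum.inl i) =
      - (t * alpha D r w) := by
    unfold alpha
    rw [Finset.mul_sum, ← Finset.sum_neg_distrib]
    apply Finset.sum_congr rfl
    intro i _
    rw [bglspx4_xMat_inr_inl, if_pos rfl]
    ring
  have h2 : ∑ s : Fin D.nroots, D.xMat K ⟨r, hr⟩ t (Sum.inr ⟨r, hr⟩) (Sum.inr s) * w (Sum.inr s) =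
      w (Sum.inr ⟨r, hr⟩) - t ^ 2 * rc D w (D.neg r) := by
    have hterm : ∀ s : Fin D.nroots, D.xMat K ⟨r, hr⟩ t (Sum.inr ⟨r, hr⟩) (Sum.inr s) * w (Sum.inr s) =
        (if s = ⟨r, hr⟩ then w (Sum.inr ⟨r, hr⟩) else 0) +
          (if s.val = D.neg r then -(t ^ 2) * w (Sum.inr s) else 0) := by
      intro s
      rw [bglspx4_xMat_inr_inr]
      by_cases hs : s = ⟨r, hr⟩
      · have hs' : ¬ s.val = D.neg r := by
          rw [hs]
          exact fun h => hne h.symm
        rw [if_pos hs, if_pos rfl, if_pos hs, if_neg hs', hs, one_mul, add_zero]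
      · rw [if_neg hs, if_neg hs]
        have hrs : ¬ (⟨r, hr⟩ : Fin D.nroots) = s := fun h => hs h.symm
        by_cases hs' : s.val = D.neg r
        · rw [if_pos hs', if_pos hs', if_neg hrs, if_pos rfl, zero_add]
        · rw [if_neg hs', if_neg hs', if_neg hrs, bglspx4_chainCoeff_cc D hself]
          ring
    have hsum : ∑ s : Fin D.nroots, (if s.val = D.neg r then -(t ^ 2) * w (Sum.inr s) else 0) =
        -(t ^ 2 * rc D w (D.neg r)) := by
      unfold rc
      by_cases hn : D.neg r < D.nroots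
      · rw [dif_pos hn, Finset.sum_eq_single (⟨D.neg r, hn⟩ : Fin D.nroots)]
        · rw [if_pos rfl]
          ring
        · intro b _ hb
          rw [if_neg]
          intro h
          exact hb (Fin.ext h)
        · intro h
          exact absurd (Finset.mem_univ _) h
      · rw [dif_neg hn, mul_zero, neg_zero]
        apply Finset.sum_eq_zero
        intro s _
        rw [if_neg]
        intro h
        exact hn (h ▸ s.2)
    rw [Finset.sum_congr rfl (fun s _ => hterm s), Finset.sum_add_distrib,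
      Finset.sum_ite_eq' Finset.univ (⟨r, hr⟩ : Fin D.nroots), if_pos (Finset.mem_univ _), hsum]
    ring
  rw [h1, h2]
  ring

/-- X5 [M]  row `e_u`, `u ≠ r`: the definition of `xMat` (the column `e_{−r}` contributes `w_u` if `u = −r`, the column `e_u` contributes `w_u` otherwise). -/
theorem x_mulVec_other {r u : ℕ} (hr : r < D.nroots) (hu : u < D.nroots) (hur : u ≠ r) (hne : D.neg r ≠ r) (t : K)
    (w : D.Idx → K) :
    rc D (D.x K r t *ᵥ w) u = rc D w u +
      ∑ s : Fin D.nroots, if s.val = r ∨ s.val = D.neg r then 0 else cc D r s.val u t * w (Sum.inr s) := by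
  classical
  unfold ChevalleyDatum.x
  rw [dif_pos hr]
  have e1 : rc D (D.xMat K ⟨r, hr⟩ t *ᵥ w) u = (D.xMat K ⟨r, hr⟩ t *ᵥ w) (Sum.inr ⟨u, hu⟩) := by
    unfold rc
    rw [dif_pos hu]
  have e2 : rc D w u = w (Sum.inr ⟨u, hu⟩) := by
    unfold rc
    rw [dif_pos hu]
  rw [e1, e2, Matrix.mulVec, dotProduct, Fintype.sum_sum_type]
  have hur' : ¬ (⟨u, hu⟩ : Fin D.nroots) = ⟨r, hr⟩ := fun h => hur (Fin.mk.inj h)
  have h1 : ∑ i : Fin D.rank, D.xMat K ⟨r, hr⟩ t (Sum.inr ⟨u, hu⟩) (Sum.inl i) * w (Sum.inl i) = 0 := by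
    apply Finset.sum_eq_zero
    intro i _
    rw [bglspx4_xMat_inr_inl, if_neg hur', zero_mul]
  have hterm : ∀ s : Fin D.nroots, D.xMat K ⟨r, hr⟩ t (Sum.inr ⟨u, hu⟩) (Sum.inr s) * w (Sum.inr s) =
      (if s = ⟨u, hu⟩ then w (Sum.inr ⟨u, hu⟩) else 0) +
        (if s.val = r ∨ s.val = D.neg r then 0 else cc D r s.val u t * w (Sum.inr s)) := by
    intro s
    rw [bglspx4_xMat_inr_inr]
    by_cases hs : s = ⟨r, hr⟩
    · have hsu : ¬ s = ⟨u, hu⟩ := fun h => hur' (h.symm.trans hs)
      have hsr : s.val = r ∨ s.val = D.neg r := Or.inl (by rw [hs])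
      rw [if_pos hs, if_neg hur', if_neg hsu, if_pos hsr, zero_mul, add_zero]
    · rw [if_neg hs]
      have hsr : ¬ s.val = r := fun h => hs (Fin.ext h)
      by_cases hs' : s.val = D.neg r
      · rw [if_pos hs', if_pos (Or.inr hs'), add_zero]
        by_cases hsu : s = ⟨u, hu⟩
        · rw [if_pos hsu.symm, if_pos hsu, hsu, one_mul]
        · have hus : ¬ (⟨u, hu⟩ : Fin D.nroots) = s := fun h => hsu h.symm
          rw [if_neg hus, if_neg hur', if_neg hsu, zero_mul]
      · have hor : ¬ (s.val = r ∨ s.val = D.neg r) := fun h => h.elim hsr hs'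
        rw [if_neg hs', if_neg hor]
        by_cases hsu : s = ⟨u, hu⟩
        · rw [if_pos hsu.symm, if_pos hsu, hsu]
          ring
        · have hus : ¬ (⟨u, hu⟩ : Fin D.nroots) = s := fun h => hsu h.symm
          rw [if_neg hus, if_neg hsu]
          ring
  rw [h1, zero_add, Finset.sum_congr rfl (fun s _ => hterm s), Finset.sum_add_distrib,
    Finset.sum_ite_eq' Finset.univ (⟨u, hu⟩ : Fin D.nroots), if_pos (Finset.mem_univ _)]

end Cfsg.Agent.Lib.helper14.BGLSP

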