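import Mathlib
import Cfsg.Agent.Lib.Helper28.BP2.Defs

/-!
# BP2 rows U2 (`pr_eq_iff`) and U3 (`pr_injective_char2`).
-/

set_option autoImplicit false

namespace Cfsg.Agent.Lib.Helper28.BP2

open Cfsg.Agent.Lib.helper14

universe u v w

section Util

variable {F : Type u} [Field F]

/-- **U2**.  the centre of `SL₂(F)` is `{1, -1}`. -/
theorem pr_eq_iff (g h : SL2 F) : pr F g = pr F h ↔ g = h ∨ g = -h := by
  have key : pr F g = pr F h ↔ g⁻¹ * h ∈ Subgroup.center (SL2 F) := by
    unfold pr
    rw [QuotientGroup.mk'_apply, QuotientGroup.mk'_apply, QuotientGroup.eq]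
  rw [key, Matrix.SpecialLinearGroup.mem_center_iff]
  constructor
  · rintro ⟨r, hr, hs⟩
    rw [Fintype.card_fin, sq_eq_one_iff] at hr
    rcases hr with rfl | rfl
    · left
      have h1 : g⁻¹ * h = 1 := by
        apply Subtype.ext
        rw [← hs, map_one]
        rfl
      exact inv_mul_eq_one.1 h1
    · right
      have h1 : g⁻¹ * h = -1 := by
        apply Subtype.ext
        rw [← hs, map_neg, map_one]
        rfl
      have h2 : h = g * -1 := by rw [← h1, mul_inv_cancel_left]
      rw [h2, mul_neg, mul_one, neg_neg]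
  · rintro (hgh | hgh)
    · refine ⟨1, one_pow _, ?_⟩
      rw [hgh, inv_mul_cancel, map_one]
      rfl
    · refine ⟨-1, ?_, ?_⟩
      · rw [Fintype.card_fin]
        exact neg_one_sq
      · have h2 : h = g * -1 := by rw [hgh, mul_neg, mul_one, neg_neg]
        have h1 : g⁻¹ * h = -1 := by rw [h2, inv_mul_cancel_left]
        rw [h1, map_neg, map_one]
        rfl

/-- **U3**. -/
theorem pr_injective_char2 [CharP F 2] : Function.Injective (pr F) := by
  intro g h hgh
  rcases (pr_eq_iff g h).1 hgh with h1 | h1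
  · exact h1
  · rw [h1]
    apply Subtype.ext
    rw [Matrix.SpecialLinearGroup.coe_neg]
    ext i j
    rw [Matrix.neg_apply, CharTwo.neg_eq]

end Util

end Cfsg.Agent.Lib.Helper28.BP2
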