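import Mathlib
import Cfsg.Agent.Lib.helper7.BD.D1Defs

/-!
# Project BD, stage B, piece CLIFF1 : `clifford_simpleUnder`
-/

set_option autoImplicit false
set_option linter.unusedVariables false
set_option linter.unusedSectionVars false

namespace Cfsg.Agent.Lib.helper7.BD

section abstract

variable {F : Type*} [Field F] {H : Type*} [Group H] {S : Type*} [AddCommGroup S] [Module F S]

/-- the span of the translates of a subspace, as a subrepresentation -/
noncomputable def bd2cliff1_span (σ : Representation F H S) (W' : Submodule F S) :
    Subrepresentation σ where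
  toSubmodule := ⨆ n : H, W'.map (σ n)
  apply_mem_toSubmodule g v hv := by
    induction hv using Submodule.iSup_induction' with
    | mem n x hx =>
      obtain ⟨w, hw, rfl⟩ := hx
      have h1 : σ g (σ n w) = σ (g * n) w := by
        rw [map_mul]
        rfl
      rw [h1]
      exact Submodule.mem_iSup_of_mem (g * n) ⟨w, hw, rfl⟩
    | zero =>
      rw [map_zero]
      exact Submodule.zero_mem _
    | add x y _ _ hx hy =>
      rw [map_add]
      exact Submodule.add_mem _ hx hy

theorem bd2cliff1_le_span (σ : Representation F H S) (W' : Submodule F S) :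
    W' ≤ (bd2cliff1_span σ W').toSubmodule := by
  intro w hw
  refine Submodule.mem_iSup_of_mem (1 : H) ⟨w, hw, ?_⟩
  rw [map_one]
  rfl

/-- M3 = CLIFF1 : Clifford: the range of a `T`-invariant idempotent which is orthogonal to its conjugates
outside `T` is a minimal `T`-stable subspace of an irreducible representation. -/
theorem clifford_simpleUnder (σ : Representation F H S) [σ.IsIrreducible] (E : S →ₗ[F] S)
    (hE : E ∘ₗ E = E) (hE0 : E ≠ 0) (T : Subgroup H)
    (hT : ∀ t ∈ T, σ t ∘ₗ E = E ∘ₗ σ t) (hN : ∀ n : H, n ∉ T → E ∘ₗ σ n ∘ₗ E = 0) :
    SimpleUnder σ T (LinearMap.range E) := by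
  have hEE : ∀ s : S, E (E s) = E s := fun s => LinearMap.congr_fun hE s
  have hfix : ∀ w ∈ LinearMap.range E, E w = w := by
    rintro w ⟨s, rfl⟩
    exact hEE s
  refine ⟨?_, ?_, ?_⟩
  · intro h
    exact hE0 (LinearMap.range_eq_bot.mp h)
  · rintro t ht w ⟨s, rfl⟩
    refine ⟨σ t s, ?_⟩
    have := LinearMap.congr_fun (hT t ht) s
    simp only [LinearMap.comp_apply] at this
    exact this.symm
  · intro W' hW'W hW'0 hW'T
    refine le_antisymm hW'W ?_
    -- the span of the translates of `W'` is everything
    have htop : bd2cliff1_span σ W' = ⊤ := by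
      rcases eq_bot_or_eq_top (bd2cliff1_span σ W') with h | h
      · exfalso
        apply hW'0
        rw [eq_bot_iff]
        intro w hw
        have h1 : w ∈ (bd2cliff1_span σ W').toSubmodule := bd2cliff1_le_span σ W' hw
        rw [h] at h1
        exact h1
      · exact h
    -- `E` maps the span into `W'`
    have key : ∀ u ∈ (bd2cliff1_span σ W').toSubmodule, E u ∈ W' := by
      intro u hu
      change u ∈ ⨆ n : H, W'.map (σ n) at hu
      induction hu using Submodule.iSup_induction' with
      | mem n x hx =>
        obtain ⟨w, hw, rfl⟩ := hx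
        by_cases hn : n ∈ T
        · have h1 : σ n w ∈ W' := hW'T n hn w hw
          rw [hfix _ (hW'W h1)]
          exact h1
        · have h2 : E w = w := hfix w (hW'W hw)
          have h3 := LinearMap.congr_fun (hN n hn) w
          simp only [LinearMap.comp_apply, LinearMap.zero_apply] at h3
          rw [h2] at h3
          rw [h3]
          exact Submodule.zero_mem _
      | zero =>
        rw [map_zero]
        exact Submodule.zero_mem _
      | add x y _ _ hx hy =>
        rw [map_add]
        exact Submodule.add_mem _ hx hy
    intro w hw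
    have h1 : w ∈ (bd2cliff1_span σ W').toSubmodule := by
      rw [htop]
      exact Submodule.mem_top
    have h2 := key w h1
    rwa [hfix w hw] at h2

end abstract

end Cfsg.Agent.Lib.helper7.BD
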