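import Mathlib
import Cfsg.Agent.Lib.helper7.BD.D1Defs

/-!
# Project BD, stage B, piece CLIFF2 : `simpleUnder_of_cyclic`
-/

set_option autoImplicit false
set_option linter.unusedVariables false
set_option linter.unusedSectionVars false

namespace Cfsg.Agent.Lib.helper7.BD

section abstract

variable {F : Type*} [Field F] {H : Type*} [Group H] {S : Type*} [AddCommGroup S] [Module F S]

theorem bd2cliff2_mul (σ : Representation F H S) (a b : H) (v : S) :
    σ a (σ b v) = σ (a * b) v := by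
  rw [map_mul]
  rfl

/-- existence of a minimal nonzero `C`-stable subspace inside a nonzero `C`-stable subspace -/
theorem bd2cliff2_exists_min [FiniteDimensional F S] (σ : Representation F H S) (C : Subgroup H)
    (W : Submodule F S) (hW0 : W ≠ ⊥) (hWC : StableUnder σ C W) :
    ∃ X : Submodule F S, X ≤ W ∧ SimpleUnder σ C X := by
  let 𝒮 : Set (Submodule F S) := {X | X ≤ W ∧ X ≠ ⊥ ∧ StableUnder σ C X}
  have hne : 𝒮.Nonempty := ⟨W, le_rfl, hW0, hWC⟩
  obtain ⟨X, hXS, hXmin⟩ := (wellFounded_lt (α := Submodule F S)).has_min 𝒮 hne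
  refine ⟨X, hXS.1, hXS.2.1, hXS.2.2, ?_⟩
  intro X' hX'X hX'0 hX'st
  by_contra hne'
  exact hXmin X' ⟨hX'X.trans hXS.1, hX'0, hX'st⟩ (lt_of_le_of_ne hX'X hne')

/-- the space of `C`-equivariant maps `X → W` -/
def bd2cliff2_L (σ : Representation F H S) (C : Subgroup H) (W X : Submodule F S) :
    Submodule F (↥X →ₗ[F] S) where
  carrier := {h | (∀ x : ↥X, h x ∈ W) ∧
    ∀ c ∈ C, ∀ x y : ↥X, (y : S) = σ c (x : S) → h y = σ c (h x)}
  zero_mem' := by
    refine ⟨fun x => ?_, fun c hc x y hxy => ?_⟩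
    · rw [LinearMap.zero_apply]
      exact W.zero_mem
    · rw [LinearMap.zero_apply, LinearMap.zero_apply, map_zero]
  add_mem' := by
    rintro h1 h2 ⟨a1, b1⟩ ⟨a2, b2⟩
    refine ⟨fun x => ?_, fun c hc x y hxy => ?_⟩
    · rw [LinearMap.add_apply]
      exact W.add_mem (a1 x) (a2 x)
    · rw [LinearMap.add_apply, LinearMap.add_apply, map_add, b1 c hc x y hxy, b2 c hc x y hxy]
  smul_mem' := by
    rintro r h ⟨a, b⟩
    refine ⟨fun x => ?_, fun c hc x y hxy => ?_⟩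
    · rw [LinearMap.smul_apply]
      exact W.smul_mem r (a x)
    · rw [LinearMap.smul_apply, LinearMap.smul_apply, map_smul, b c hc x y hxy]

theorem bd2cliff2_mem_L (σ : Representation F H S) (C : Subgroup H) (W X : Submodule F S)
    (h : ↥X →ₗ[F] S) : h ∈ bd2cliff2_L σ C W X ↔ ((∀ x : ↥X, h x ∈ W) ∧
    ∀ c ∈ C, ∀ x y : ↥X, (y : S) = σ c (x : S) → h y = σ c (h x)) := Iff.rfl

/-- the operator `h ↦ σ(t₀) ∘ h ∘ A` -/
def bd2cliff2_Psi (σ : Representation F H S) (t₀ : H) (X : Submodule F S) (AX : ↥X →ₗ[F] ↥X) :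
    (↥X →ₗ[F] S) →ₗ[F] (↥X →ₗ[F] S) where
  toFun h := (σ t₀) ∘ₗ h ∘ₗ AX
  map_add' h1 h2 := by
    ext x
    simp only [LinearMap.comp_apply, LinearMap.add_apply, map_add]
  map_smul' r h := by
    ext x
    simp only [LinearMap.comp_apply, LinearMap.smul_apply, map_smul, RingHom.id_apply]

theorem bd2cliff2_Psi_apply (σ : Representation F H S) (t₀ : H) (X : Submodule F S)
    (AX : ↥X →ₗ[F] ↥X) (h : ↥X →ₗ[F] S) (x : ↥X) :
    bd2cliff2_Psi σ t₀ X AX h x = σ t₀ (h (AX x)) := rfl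

/-- M4 = CLIFF2 : multiplicity one for a cyclic quotient: a minimal `T`-stable subspace is already minimal
`C`-stable, if `T = ⟨C, t₀⟩` and every minimal `C`-stable subspace is isomorphic to its `t₀`-twist. -/
theorem simpleUnder_of_cyclic [IsAlgClosed F] [FiniteDimensional F S] (σ : Representation F H S)
    (C T : Subgroup H) (hCT : C ≤ T) (t₀ : H) (ht₀ : t₀ ∈ T) (hnorm : ∀ c ∈ C, t₀⁻¹ * c * t₀ ∈ C)
    (hgen : ∀ t ∈ T, ∃ k : ℕ, ∃ c ∈ C, t = t₀ ^ k * c)
    (W : Submodule F S) (hW : SimpleUnder σ T W)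
    (hiso : ∀ X : Submodule F S, X ≤ W → SimpleUnder σ C X →
      ∃ A : S →ₗ[F] S, (∀ x ∈ X, A x ∈ X) ∧ (∀ x ∈ X, A x = 0 → x = 0) ∧
        ∀ c ∈ C, ∀ x ∈ X, A (σ c x) = σ (t₀⁻¹ * c * t₀) (A x)) :
    SimpleUnder σ C W := by
  classical
  obtain ⟨hW0, hWT, hWmin⟩ := hW
  have hWC : StableUnder σ C W := fun c hc w hw => hWT c (hCT hc) w hw
  obtain ⟨X, hXW, hX⟩ := bd2cliff2_exists_min σ C W hW0 hWC
  obtain ⟨A, hA1, hA2, hA3⟩ := hiso X hXW hX
  obtain ⟨hX0, hXC, hXmin⟩ := hX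
  -- the restriction of `A` to `X`
  let AX : ↥X →ₗ[F] ↥X := A.restrict hA1
  have hAXv : ∀ x : ↥X, ((AX x : ↥X) : S) = A (x : S) := fun x => rfl
  have hAXinj : Function.Injective AX := by
    rw [← LinearMap.ker_eq_bot, LinearMap.ker_eq_bot']
    intro x hx
    have h1 : A (x : S) = 0 := by
      rw [← hAXv x, hx]
      rfl
    exact Subtype.ext (hA2 x x.2 h1)
  have hAXsurj : Function.Surjective AX := LinearMap.surjective_of_injective hAXinj
  -- the space `L` and the operator `Ψ`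
  have hΨL : ∀ h ∈ bd2cliff2_L σ C W X, bd2cliff2_Psi σ t₀ X AX h ∈ bd2cliff2_L σ C W X := by
    rintro h ⟨ha, hb⟩
    refine ⟨fun x => ?_, fun c hc x y hxy => ?_⟩
    · rw [bd2cliff2_Psi_apply]
      exact hWT t₀ ht₀ _ (ha _)
    · rw [bd2cliff2_Psi_apply, bd2cliff2_Psi_apply]
      have h1 : ((AX y : ↥X) : S) = σ (t₀⁻¹ * c * t₀) ((AX x : ↥X) : S) := by
        rw [hAXv, hAXv, hxy]
        exact hA3 c hc x x.2
      rw [hb (t₀⁻¹ * c * t₀) (hnorm c hc) (AX x) (AX y) h1, bd2cliff2_mul, bd2cliff2_mul]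
      congr 2
      group
  let Ψ : Module.End F ↥(bd2cliff2_L σ C W X) := (bd2cliff2_Psi σ t₀ X AX).restrict hΨL
  have hΨv : ∀ h : ↥(bd2cliff2_L σ C W X), ((Ψ h : ↥(bd2cliff2_L σ C W X)) : ↥X →ₗ[F] S) =
      bd2cliff2_Psi σ t₀ X AX (h : ↥X →ₗ[F] S) := fun h => rfl
  -- `L` is nontrivial
  have hsubL : X.subtype ∈ bd2cliff2_L σ C W X := by
    refine ⟨fun x => hXW x.2, fun c hc x y hxy => ?_⟩
    rw [Submodule.subtype_apply, Submodule.subtype_apply, hxy]
  haveI : Nontrivial ↥(bd2cliff2_L σ C W X) := by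
    refine ⟨⟨⟨X.subtype, hsubL⟩, 0, ?_⟩⟩
    intro h
    apply hX0
    rw [eq_bot_iff]
    intro x hx
    have h1 : (X.subtype : ↥X →ₗ[F] S) = 0 := congrArg Subtype.val h
    have h2 : X.subtype ⟨x, hx⟩ = 0 := by
      rw [h1]
      rfl
    rw [Submodule.mem_bot]
    exact h2
  -- an eigenvector
  obtain ⟨ν, hν⟩ := Module.End.exists_eigenvalue Ψ
  obtain ⟨h₀', hh₀'⟩ := hν.exists_hasEigenvector
  have hh₀ne' : h₀' ≠ 0 := hh₀'.2
  have heig' : Ψ h₀' = ν • h₀' := hh₀'.apply_eq_smul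
  obtain ⟨h₀, hh₀L⟩ := h₀'
  have hh₀ne : h₀ ≠ 0 := by
    intro h
    apply hh₀ne'
    exact Subtype.ext h
  have heig : ∀ x : ↥X, σ t₀ (h₀ (AX x)) = ν • h₀ x := by
    intro x
    have h1 : ((Ψ ⟨h₀, hh₀L⟩ : ↥(bd2cliff2_L σ C W X)) : ↥X →ₗ[F] S) = ν • h₀ := by
      rw [heig']
      rfl
    rw [hΨv] at h1
    have h2 := LinearMap.congr_fun h1 x
    rw [bd2cliff2_Psi_apply] at h2
    exact h2
  obtain ⟨hh₀W, hh₀C⟩ := hh₀L
  -- `σ t₀` is injective
  have hσinj : ∀ g : H, ∀ v : S, σ g v = 0 → v = 0 := by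
    intro g v hv
    have h1 : σ g⁻¹ (σ g v) = v := by
      rw [bd2cliff2_mul, inv_mul_cancel, map_one]
      rfl
    rw [← h1, hv, map_zero]
  -- `ν ≠ 0`
  have hν0 : ν ≠ 0 := by
    intro h0
    apply hh₀ne
    ext y
    obtain ⟨x, rfl⟩ := hAXsurj y
    have h1 := heig x
    rw [h0, zero_smul] at h1
    rw [LinearMap.zero_apply]
    exact hσinj t₀ _ h1
  -- the range of `h₀`
  have hR_le : LinearMap.range h₀ ≤ W := by
    rintro w ⟨x, rfl⟩
    exact hh₀W x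
  have hR_C : StableUnder σ C (LinearMap.range h₀) := by
    rintro c hc w ⟨x, rfl⟩
    exact ⟨⟨σ c (x : S), hXC c hc x x.2⟩, hh₀C c hc x ⟨σ c (x : S), hXC c hc x x.2⟩ rfl⟩
  have hR_t : ∀ w ∈ LinearMap.range h₀, σ t₀ w ∈ LinearMap.range h₀ := by
    rintro w ⟨y, rfl⟩
    obtain ⟨x, rfl⟩ := hAXsurj y
    rw [heig x]
    exact Submodule.smul_mem _ _ ⟨x, rfl⟩
  have hR_tk : ∀ k : ℕ, ∀ w ∈ LinearMap.range h₀, σ (t₀ ^ k) w ∈ LinearMap.range h₀ := by
    intro k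
    induction k with
    | zero =>
      intro w hw
      rw [pow_zero, map_one]
      exact hw
    | succ k ih =>
      intro w hw
      rw [pow_succ, ← bd2cliff2_mul]
      exact ih _ (hR_t w hw)
  have hR_T : StableUnder σ T (LinearMap.range h₀) := by
    intro t ht w hw
    obtain ⟨k, c, hc, rfl⟩ := hgen t ht
    rw [← bd2cliff2_mul]
    exact hR_tk k _ (hR_C c hc w hw)
  have hR0 : LinearMap.range h₀ ≠ ⊥ := by
    intro h
    exact hh₀ne (LinearMap.range_eq_bot.mp h)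
  have hR : LinearMap.range h₀ = W := hWmin _ hR_le hR0 hR_T
  -- `h₀` is injective
  have hker : ∀ x : ↥X, h₀ x = 0 → x = 0 := by
    by_contra hcon
    rw [not_forall] at hcon
    obtain ⟨x₁, hcon⟩ := hcon
    rw [Classical.not_imp] at hcon
    obtain ⟨hx₁, hx₁0⟩ := hcon
    -- the kernel, as a subspace of `S`
    let K : Submodule F S := (LinearMap.ker h₀).map X.subtype
    have hKX : K ≤ X := by
      rintro _ ⟨x, _, rfl⟩
      exact x.2
    have hK0 : K ≠ ⊥ := by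
      intro h
      apply hx₁0
      have h1 : (x₁ : S) ∈ K := ⟨x₁, hx₁, rfl⟩
      rw [h, Submodule.mem_bot] at h1
      exact Subtype.ext h1
    have hKC : StableUnder σ C K := by
      rintro c hc _ ⟨x, hx, rfl⟩
      have hx' : h₀ x = 0 := hx
      refine ⟨⟨σ c (x : S), hXC c hc x x.2⟩, ?_, rfl⟩
      change h₀ _ = 0
      rw [hh₀C c hc x ⟨σ c (x : S), hXC c hc x x.2⟩ rfl, hx', map_zero]
    have hKeq : K = X := hXmin K hKX hK0 hKC
    apply hh₀ne
    ext x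
    have h1 : (x : S) ∈ K := by
      rw [hKeq]
      exact x.2
    obtain ⟨x', hx', hxx'⟩ := h1
    have h2 : x' = x := Subtype.ext hxx'
    rw [← h2, LinearMap.zero_apply]
    exact hx'
  -- conclusion
  refine ⟨hW0, hWC, ?_⟩
  intro W'' hW''W hW''0 hW''C
  refine le_antisymm hW''W ?_
  -- pull back `W''` along `h₀`
  let X'' : Submodule F S := (W''.comap h₀).map X.subtype
  have hX''X : X'' ≤ X := by
    rintro _ ⟨x, _, rfl⟩
    exact x.2
  have hX''0 : X'' ≠ ⊥ := by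
    intro h
    apply hW''0
    rw [eq_bot_iff]
    intro w hw
    have hwR : w ∈ LinearMap.range h₀ := by
      rw [hR]
      exact hW''W hw
    obtain ⟨x, rfl⟩ := hwR
    have h1 : (x : S) ∈ X'' := ⟨x, hw, rfl⟩
    rw [h, Submodule.mem_bot] at h1
    have h2 : x = 0 := Subtype.ext h1
    rw [h2, map_zero]
    exact Submodule.zero_mem _
  have hX''C : StableUnder σ C X'' := by
    rintro c hc _ ⟨x, hx, rfl⟩
    have hx' : h₀ x ∈ W'' := hx
    refine ⟨⟨σ c (x : S), hXC c hc x x.2⟩, ?_, rfl⟩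
    change h₀ _ ∈ W''
    rw [hh₀C c hc x ⟨σ c (x : S), hXC c hc x x.2⟩ rfl]
    exact hW''C c hc _ hx'
  have hX''eq : X'' = X := hXmin X'' hX''X hX''0 hX''C
  intro w hw
  have hwR : w ∈ LinearMap.range h₀ := by
    rw [hR]
    exact hw
  obtain ⟨x, rfl⟩ := hwR
  have h1 : (x : S) ∈ X'' := by
    rw [hX''eq]
    exact x.2
  obtain ⟨x', hx', hxx'⟩ := h1
  have h2 : x' = x := Subtype.ext hxx'
  rw [← h2]
  exact hx'

end abstract

end Cfsg.Agent.Lib.helper7.BD
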