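import Mathlib
import Cfsg.Agent.Lib.helper7.BD.Defs
import Cfsg.Agent.Lib.helper7.BD.D1Defs
import Cfsg.Agent.Lib.Helper24.CyclicInertial3
import Cfsg.Agent.Lib.helper7.Br.Defs
import Cfsg.Agent.Lib.Helper10.BDLINKB
import Cfsg.Agent.Lib.Helper1.BD2IDCJ
import Cfsg.Agent.Lib.Helper1.BD2BLKCJ
import Cfsg.Agent.Lib.helper2.BD2IDORTH
import Cfsg.Agent.Lib.Helper25.BDTSTAB

/-!
# Project BD, stage B, piece TORTH : the block idempotent of `b` is orthogonal to its conjugates by
elements of `N` outside `T`
-/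

set_option autoImplicit false
set_option linter.unusedVariables false
set_option linter.unusedSectionVars false

namespace Cfsg.Agent.Lib.helper7.BD

open Cfsg.Agent.Lib.helper7 Cfsg.Agent.Lib.helper7.Br Cfsg.Agent.Lib.helper7.R1

universe u v w

section subop

variable {F : Type*} [Field F] {G : Type*} [Group G] {S : Type*} [AddCommGroup S] [Module F S]

theorem bd2torth_subOp_mul {C N : Subgroup G} (hCN : C ≤ N) [Fintype ↥C] (σ : Representation F ↥N S)
    (a a' : GA F ↥C) : subOp hCN σ (a * a') = subOp hCN σ a ∘ₗ subOp hCN σ a' := by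
  have h1 : ∀ a : GA F ↥C, subOp hCN σ a = bdlinkb_act (σ.comp (Subgroup.inclusion hCN)) a :=
    fun a => rfl
  rw [h1, h1, h1, bdlinkb_act_mul]
  rfl

end subop

section root

variable {G : Type u} [Group G] [Fintype G] {M : Ideal Cfsg.AlgInt} {p : ℕ} [Fact p.Prime]
  {P : Sylow p G} {B : Set (Cfsg.IrrCharacter G)}
  {b : Set (Cfsg.IrrCharacter (Subgroup.centralizer ((P : Subgroup G) : Set G)))}
  {θ : Cfsg.IrrCharacter (Subgroup.centralizer ((P : Subgroup G) : Set G))} {T : Subgroup G}

variable [Fintype ↥(Subgroup.centralizer ((P : Subgroup G) : Set G))]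
  [Fintype ↥(Subgroup.normalizer ((P : Subgroup G) : Set G))]

/-- M6b = TORTH : the block idempotent of `b` is orthogonal to its conjugates by elements outside `T` -/
theorem root_blockOp_orth (h : RootHyp p M P B b θ T) (hMp : M.IsPrime) {S : Type v} [AddCommGroup S]
    [Module (h7_resRing M hMp) S]
    (σ : Representation (h7_resRing M hMp) ↥(Subgroup.normalizer ((P : Subgroup G) : Set G)) S)
    (n : ↥(Subgroup.normalizer ((P : Subgroup G) : Set G))) (hn : (n : G) ∉ T) :
    subOp (Subgroup.centralizer_le_normalizer ((P : Subgroup G) : Set G)) σ (eBar hMp b) ∘ₗ σ n ∘ₗ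
      subOp (Subgroup.centralizer_le_normalizer ((P : Subgroup G) : Set G)) σ (eBar hMp b) = 0 := by
  classical
  have hCN : Subgroup.centralizer ((P : Subgroup G) : Set G) ≤
      Subgroup.normalizer ((P : Subgroup G) : Set G) :=
    Subgroup.centralizer_le_normalizer ((P : Subgroup G) : Set G)
  have hnN : (n : G) ∈ Subgroup.normalizer
      (((Subgroup.centralizer ((P : Subgroup G) : Set G)) : Subgroup G) : Set G) :=
    Cfsg.Agent.Lib.Helper24.ci_normalizer_le (P : Subgroup G) n.2
  have hbne : b ≠ cjSet (Subgroup.centralizer ((P : Subgroup G) : Set G)) (n : G) b := by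
    intro heq
    exact hn ((root_stab h (n : G) n.2).2 heq.symm)
  have hb : Cfsg.IsPBlock M b := h.hind.1
  have hb' : Cfsg.IsPBlock M (cjSet (Subgroup.centralizer ((P : Subgroup G) : Set G)) (n : G) b) :=
    isPBlock_cjSet (Subgroup.centralizer ((P : Subgroup G) : Set G)) hnN b hb
  have horth : eBar hMp b *
      eBar hMp (cjSet (Subgroup.centralizer ((P : Subgroup G) : Set G)) (n : G) b) = 0 :=
    eBar_mul_eBar_of_ne h.hM b _ hb hb' hbne
  -- conjugation by `n` as a permutation of `C`
  have hconj : ∀ c : ↥(Subgroup.centralizer ((P : Subgroup G) : Set G)),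
      (n : G) * (c : G) * (n : G)⁻¹ ∈ Subgroup.centralizer ((P : Subgroup G) : Set G) := fun c =>
    (Subgroup.mem_normalizer_iff.mp hnN (c : G)).mp c.2
  have hconj' : ∀ c : ↥(Subgroup.centralizer ((P : Subgroup G) : Set G)),
      (n : G)⁻¹ * (c : G) * (n : G) ∈ Subgroup.centralizer ((P : Subgroup G) : Set G) := fun c => by
    have := (Subgroup.mem_normalizer_iff.mp (Subgroup.inv_mem _ hnN) (c : G)).mp c.2
    simpa using this
  let e : ↥(Subgroup.centralizer ((P : Subgroup G) : Set G)) ≃
      ↥(Subgroup.centralizer ((P : Subgroup G) : Set G)) :=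
    { toFun := fun c => ⟨(n : G) * (c : G) * (n : G)⁻¹, hconj c⟩
      invFun := fun c => ⟨(n : G)⁻¹ * (c : G) * (n : G), hconj' c⟩
      left_inv := fun c => by apply Subtype.ext; simp [mul_assoc]
      right_inv := fun c => by apply Subtype.ext; simp [mul_assoc] }
  have heb : ∀ c : ↥(Subgroup.centralizer ((P : Subgroup G) : Set G)),
      eBar hMp (cjSet (Subgroup.centralizer ((P : Subgroup G) : Set G)) (n : G) b) (e c) =
        eBar hMp b c := by
    intro c
    exact eBar_cjSet hMp (Subgroup.centralizer ((P : Subgroup G) : Set G)) hnN b c (e c) rfl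
  have hσ : ∀ c : ↥(Subgroup.centralizer ((P : Subgroup G) : Set G)),
      σ n ∘ₗ σ (Subgroup.inclusion hCN c) = σ (Subgroup.inclusion hCN (e c)) ∘ₗ σ n := by
    intro c
    have h1 : n * Subgroup.inclusion hCN c = Subgroup.inclusion hCN (e c) * n := by
      apply Subtype.ext
      show (n : G) * (c : G) = (n : G) * (c : G) * (n : G)⁻¹ * (n : G)
      rw [inv_mul_cancel_right]
    have h2 : σ (n * Subgroup.inclusion hCN c) = σ (Subgroup.inclusion hCN (e c) * n) := by rw [h1]
    rw [map_mul, map_mul] at h2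
    exact h2
  -- `σ n ∘ E = E' ∘ σ n`
  have hswap : σ n ∘ₗ subOp hCN σ (eBar hMp b) =
      subOp hCN σ (eBar hMp (cjSet (Subgroup.centralizer ((P : Subgroup G) : Set G)) (n : G) b)) ∘ₗ
        σ n := by
    have key1 : subOp hCN σ (eBar hMp b) =
        ∑ c : ↥(Subgroup.centralizer ((P : Subgroup G) : Set G)),
          eBar hMp b c • σ (Subgroup.inclusion hCN c) := rfl
    have key2 : subOp hCN σ
        (eBar hMp (cjSet (Subgroup.centralizer ((P : Subgroup G) : Set G)) (n : G) b)) =
        ∑ c : ↥(Subgroup.centralizer ((P : Subgroup G) : Set G)),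
          eBar hMp (cjSet (Subgroup.centralizer ((P : Subgroup G) : Set G)) (n : G) b) c •
            σ (Subgroup.inclusion hCN c) := rfl
    rw [key1, key2]
    apply LinearMap.ext
    intro x
    simp only [LinearMap.comp_apply, LinearMap.sum_apply, LinearMap.smul_apply, map_sum, map_smul]
    rw [← Equiv.sum_comp e (fun c =>
      eBar hMp (cjSet (Subgroup.centralizer ((P : Subgroup G) : Set G)) (n : G) b) c •
        σ (Subgroup.inclusion hCN c) (σ n x))]
    refine Finset.sum_congr rfl fun c _ => ?_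
    have h3 := LinearMap.congr_fun (hσ c) x
    simp only [LinearMap.comp_apply] at h3
    rw [heb c, ← h3]
  show subOp hCN σ (eBar hMp b) ∘ₗ σ n ∘ₗ subOp hCN σ (eBar hMp b) = 0
  rw [hswap, ← LinearMap.comp_assoc, ← bd2torth_subOp_mul, horth]
  have h0 : subOp hCN σ (0 : GA (h7_resRing M hMp)
      ↥(Subgroup.centralizer ((P : Subgroup G) : Set G))) = 0 := by
    have h1 : subOp hCN σ (0 : GA (h7_resRing M hMp)
        ↥(Subgroup.centralizer ((P : Subgroup G) : Set G))) =
        bdlinkb_act (σ.comp (Subgroup.inclusion hCN)) 0 := rfl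
    rw [h1, map_zero]
  rw [h0, LinearMap.zero_comp]

end root

end Cfsg.Agent.Lib.helper7.BD
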