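import Mathlib
import Cfsg.Agent.Lib.helper15.PSL.Defs
import Cfsg.Agent.Lib.Helper25.CharOrth

/-!
# Project PSL (S4504), piece MOMA, core : the moment identity in case A, with the other pieces
(CENPROD, SINGSUM2, CARDG, SQSUM) as hypotheses

`pslmoma_split` is the generic splitting of a sum over `G` of a class function into the `p`-singular part
(computed by SINGSUM2), the central part and the rest; `pslmoma_core` is the piece MOMA with the pieces it
uses as hypotheses.
-/

set_option autoImplicit false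
set_option linter.unusedVariables false
set_option linter.unusedSectionVars false
open scoped ComplexConjugate
open Classical

namespace Cfsg.Agent.Lib.helper15.PSL

open Cfsg.Agent.Lib.helper7 Cfsg.Agent.Lib.helper7.BR Cfsg.Agent.Lib.helper2 Cfsg.Agent.Lib.Helper25
  Cfsg.Agent.Lib.Helper29 Cfsg.Agent.Lib.helper15.BH

universe u

variable {G : Type u} [Group G] [Fintype G] {p : ℕ} [Fact p.Prime]

/-- a nontrivial element of a group of order `p` is `p`-singular -/
theorem pslmoma_sing {P : Subgroup G} (hP : Nat.card ↥P = p) (x : G) (hx : x ∈ P) (hx1 : x ≠ 1) :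
    p ∣ orderOf x := by
  have h1 : orderOf (⟨x, hx⟩ : ↥P) ∣ Nat.card ↥P := orderOf_dvd_natCard _
  rw [Subgroup.orderOf_mk, hP] at h1
  rcases (Nat.Prime.eq_one_or_self_of_dvd (Fact.out : p.Prime) _ h1) with h | h
  · exact absurd (orderOf_eq_one_iff.mp h) hx1
  · rw [h]

/-- central elements are `p`-regular in the local configuration -/
theorem pslmoma_center_reg (hcp : ¬ p ∣ Nat.card ↥(Subgroup.center G)) (ζ : G)
    (hζ : ζ ∈ Subgroup.center G) : ¬ p ∣ orderOf ζ := by
  intro hp
  apply hcp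
  have h1 : orderOf (⟨ζ, hζ⟩ : ↥(Subgroup.center G)) ∣ Nat.card ↥(Subgroup.center G) :=
    orderOf_dvd_natCard _
  rw [Subgroup.orderOf_mk] at h1
  exact dvd_trans hp h1

/-- the sum over the centre of a function which is constant there -/
theorem pslmoma_center_sum (F : G → ℂ) (z0 : ℂ) (hcen : ∀ ζ ∈ Subgroup.center G, F ζ = z0) :
    ∑ g : G, (if g ∈ Subgroup.center G then F g else 0) =
      (Nat.card ↥(Subgroup.center G) : ℂ) * z0 := by
  have h1 : ∀ g : G, (if g ∈ Subgroup.center G then F g else 0) =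
      (if g ∈ Subgroup.center G then z0 else 0) := by
    intro g
    by_cases hg : g ∈ Subgroup.center G
    · simp [hg, hcen g hg]
    · simp [hg]
  rw [Finset.sum_congr rfl (fun g _ => h1 g), ← Finset.sum_filter, Finset.sum_const, nsmul_eq_mul]
  congr 2
  rw [Nat.subtype_card (Finset.univ.filter (fun g : G => g ∈ Subgroup.center G))]
  intro x
  simp

/-- the sum over `P ∖ 1` of a constant -/
theorem pslmoma_const_sum {P : Subgroup G} (hP : Nat.card ↥P = p) (K : ℂ) :
    ∑ x : ↥P, (if (x : G) = 1 then 0 else K) = ((p : ℂ) - 1) * K := by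
  have h1 : ∀ x : ↥P, (if (x : G) = 1 then (0 : ℂ) else K) = K - (if x = 1 then K else 0) := by
    intro x
    by_cases hx : x = 1
    · simp [hx]
    · have hx' : (x : G) ≠ 1 := fun h => hx (Subtype.ext h)
      simp [hx, hx']
  rw [Finset.sum_congr rfl (fun x _ => h1 x), Finset.sum_sub_distrib, Finset.sum_const,
    Finset.sum_ite_eq' Finset.univ (1 : ↥P) (fun _ => K), nsmul_eq_mul, Finset.card_univ,
    ← Nat.card_eq_fintype_card, hP]
  simp
  ring

/-- the generic splitting: `p`-singular part, central part, the rest -/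
theorem pslmoma_split {P : Sylow p G} (hcp : ¬ p ∣ Nat.card ↥(Subgroup.center G)) (F : G → ℂ)
    (hss : ∑ g : G, (if p ∣ orderOf g then F g else 0) =
      ((nrm P).index : ℂ) * ∑ x : ↥(P : Subgroup G), ∑ ζ : ↥(Subgroup.center G),
        (if (x : G) = 1 then 0 else F ((x : G) * (ζ : G)))) (z0 : ℂ)
    (hsing : ∀ x ∈ (P : Subgroup G), x ≠ 1 → ∀ ζ ∈ Subgroup.center G, F (x * ζ) = F x)
    (hcen : ∀ ζ ∈ Subgroup.center G, F ζ = z0) :
    ∑ g : G, (if ¬ p ∣ orderOf g ∧ g ∉ Subgroup.center G then F g else 0) =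
      ∑ g : G, F g - ((nrm P).index : ℂ) * ((Nat.card ↥(Subgroup.center G) : ℂ) *
        ∑ x : ↥(P : Subgroup G), (if (x : G) = 1 then 0 else F (x : G)))
        - (Nat.card ↥(Subgroup.center G) : ℂ) * z0 := by
  have h1 : ∑ g : G, F g = ∑ g : G, (if p ∣ orderOf g then F g else 0)
      + ∑ g : G, (if g ∈ Subgroup.center G then F g else 0)
      + ∑ g : G, (if ¬ p ∣ orderOf g ∧ g ∉ Subgroup.center G then F g else 0) := by
    rw [← Finset.sum_add_distrib, ← Finset.sum_add_distrib]
    apply Finset.sum_congr rfl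
    intro g _
    by_cases hp : p ∣ orderOf g
    · have hz : g ∉ Subgroup.center G := fun h => pslmoma_center_reg hcp g h hp
      simp [hp, hz]
    · by_cases hz : g ∈ Subgroup.center G
      · simp [hp, hz]
      · simp [hp, hz]
  have h2 := hss
  have h3 : ∑ x : ↥(P : Subgroup G), ∑ ζ : ↥(Subgroup.center G),
        (if (x : G) = 1 then 0 else F ((x : G) * (ζ : G))) =
      (Nat.card ↥(Subgroup.center G) : ℂ) *
        ∑ x : ↥(P : Subgroup G), (if (x : G) = 1 then 0 else F (x : G)) := by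
    rw [Finset.mul_sum]
    apply Finset.sum_congr rfl
    intro x _
    by_cases hx : (x : G) = 1
    · simp [hx]
    · simp only [hx, if_false]
      rw [Finset.sum_congr rfl (fun (ζ : ↥(Subgroup.center G)) _ => hsing (x : G) x.2 hx (ζ : G) ζ.2), Finset.sum_const,
        nsmul_eq_mul, Finset.card_univ, ← Nat.card_eq_fintype_card]
  rw [h3] at h2
  rw [pslmoma_center_sum F z0 hcen, h2] at h1
  rw [h1]
  ring

/-- MOMA with the pieces CENPROD, SINGSUM2, CARDG, SQSUM as hypotheses -/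
theorem pslmoma_core {f : ℕ} {P : Sylow p G} {X Y : Finset (Cfsg.IrrCharacter G)}
    {a : Cfsg.IrrCharacter G → ℤ} {ε : ℤ} {D : ℕ} {χ : Cfsg.IrrCharacter G} (hL : Loc p f P)
    (hB : PB p f (P : Subgroup G) X Y a ε D) (hA : CaseA f χ X a ε D)
    (hχ1 : (χ : G → ℂ) 1 = (f : ℂ))
    (hcp : ¬ p ∣ Nat.card ↥(Subgroup.center G))
    (hss : ∀ F : G → ℂ, Cfsg.IsClassFunction G F →
      ∑ g : G, (if p ∣ orderOf g then F g else 0) =
        ((nrm P).index : ℂ) * ∑ x : ↥(P : Subgroup G), ∑ ζ : ↥(Subgroup.center G),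
          (if (x : G) = 1 then 0 else F ((x : G) * (ζ : G))))
    (hcard : Nat.card G = (nrm P).index * f * p * Nat.card ↥(Subgroup.center G))
    (hsq : ∀ S : Finset (Cfsg.IrrCharacter G),
      ∑ g : G, (∑ ξ ∈ S, (ξ : G → ℂ) g) * conj (∑ ξ ∈ S, (ξ : G → ℂ) g) =
        (Nat.card G : ℂ) * (S.card : ℂ)) :
    2 * ∑ g : G, (if ¬ p ∣ orderOf g ∧ g ∉ Subgroup.center G then
        (χ : G → ℂ) g * conj ((χ : G → ℂ) g) * ((χ : G → ℂ) g * conj ((χ : G → ℂ) g) - 1) else 0) =
      (Nat.card ↥(Subgroup.center G) : ℂ) * (f : ℂ) ^ 2 * ((f : ℂ) - 1) *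
        (((nrm P).index : ℂ) - ((p : ℂ) + 1)) := by
  set W : G → ℂ := fun g => (χ : G → ℂ) g * conj ((χ : G → ℂ) g) with hW
  have hWcl : ∀ g h : G, W (h * g * h⁻¹) = W g := by
    intro g h
    simp only [hW]
    rw [irr_conj_invariant χ g h]
  have hFcl : Cfsg.IsClassFunction G (fun g => W g * (W g - 1)) := by
    intro g h
    simp only []
    rw [hWcl g h]
  have hWreal : ∀ g, conj (W g) = W g := by
    intro g
    simp only [hW, map_mul, Complex.conj_conj]
    ring
  have hWsum : ∀ g, W g = ∑ ξ ∈ Xp X a, (ξ : G → ℂ) g := hA.W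
  set c : ℂ := ((Xp X a).card : ℂ) with hcdef
  have hc : 2 * c = (f : ℂ) + 1 := by
    rw [hcdef]
    exact_mod_cast hA.cardXp
  have hXpX : ∀ ξ ∈ Xp X a, ξ ∈ X ∧ a ξ = 1 := by
    intro ξ h
    simpa [Xp] using h
  -- the values on the singular elements
  have hsingW : ∀ x ∈ (P : Subgroup G), x ≠ 1 → ∀ ζ ∈ Subgroup.center G, W (x * ζ) = c := by
    intro x hx hx1 ζ hζ
    rw [hWsum]
    have hpx : p ∣ orderOf x := pslmoma_sing hL.cardP x hx hx1
    have h1 : ∀ ξ ∈ Xp X a, (ξ : G → ℂ) (x * ζ) = 1 := by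
      intro ξ hξ
      obtain ⟨hξX, haξ⟩ := hXpX ξ hξ
      rw [hB.cker ξ (Finset.mem_union_left _ hξX) ζ hζ x, hB.valX ξ hξX x hpx, haξ]
      simp
    rw [Finset.sum_congr rfl h1]
    simp [hcdef]
  have hsingW1 : ∀ x ∈ (P : Subgroup G), x ≠ 1 → W x = c := by
    intro x hx hx1
    have := hsingW x hx hx1 1 (Subgroup.one_mem _)
    rwa [mul_one] at this
  -- the values on the centre
  have hcenW : ∀ ζ ∈ Subgroup.center G, W ζ = (f : ℂ) ^ 2 := by
    intro ζ hζ
    have h1 : W ζ = W 1 := by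
      rw [hWsum, hWsum]
      apply Finset.sum_congr rfl
      intro ξ hξ
      have := hB.cker ξ (Finset.mem_union_left _ (hXpX ξ hξ).1) ζ hζ 1
      rwa [one_mul] at this
    rw [h1]
    simp only [hW, hχ1]
    simp
    ring
  -- the sums over `G`
  have hS1 : ∑ g : G, W g = (Nat.card G : ℂ) := by
    have := hsq ({χ} : Finset (Cfsg.IrrCharacter G))
    simpa [hW] using this
  have hS2 : ∑ g : G, W g * W g = (Nat.card G : ℂ) * c := by
    have := hsq (Xp X a)
    rw [← this]
    apply Finset.sum_congr rfl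
    intro g _
    rw [← hWsum g, hWreal g]
  have hSF : ∑ g : G, W g * (W g - 1) = (Nat.card G : ℂ) * c - (Nat.card G : ℂ) := by
    have h0 : ∑ g : G, W g * (W g - 1) = ∑ g : G, W g * W g - ∑ g : G, W g := by
      rw [← Finset.sum_sub_distrib]
      apply Finset.sum_congr rfl
      intro g _
      ring
    rw [h0, hS1, hS2]
  have hsplit := pslmoma_split (P := P) hcp (fun g => W g * (W g - 1)) (hss _ hFcl)
    ((f : ℂ) ^ 2 * ((f : ℂ) ^ 2 - 1))
    (by
      intro x hx hx1 ζ hζ
      show W (x * ζ) * (W (x * ζ) - 1) = W x * (W x - 1)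
      rw [hsingW x hx hx1 ζ hζ, hsingW1 x hx hx1])
    (by
      intro ζ hζ
      show W ζ * (W ζ - 1) = _
      rw [hcenW ζ hζ])
  have hP1 : ∑ x : ↥(P : Subgroup G), (if (x : G) = 1 then 0 else W (x : G) * (W (x : G) - 1)) =
      ((p : ℂ) - 1) * (c * (c - 1)) := by
    rw [← pslmoma_const_sum hL.cardP (c * (c - 1))]
    apply Finset.sum_congr rfl
    intro x _
    by_cases hx : (x : G) = 1
    · simp [hx]
    · simp only [hx, if_false]
      rw [hsingW1 (x : G) x.2 hx]
  have hG : (Nat.card G : ℂ) = ((nrm P).index : ℂ) * (f : ℂ) * (p : ℂ) *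
      (Nat.card ↥(Subgroup.center G) : ℂ) := by
    exact_mod_cast hcard
  have hp : (p : ℂ) = 2 * (f : ℂ) + 1 := by
    have := hL.two_f
    exact_mod_cast this.symm
  have hc' : c = ((f : ℂ) + 1) / 2 := by
    linear_combination hc / 2
  rw [hsplit, hSF, hP1, hG, hp, hc']
  ring

end Cfsg.Agent.Lib.helper15.PSL
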