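import Mathlib
import Cfsg.Agent.Lib.helper4.PSLMOMAcore

/-!
# Project PSL (S4504), piece MOMB, core : the moment identity in case B, with the other pieces
(CENPROD, SINGSUM2, CARDG, SQSUM, YSQ) as hypotheses
-/

set_option autoImplicit false
set_option linter.unusedVariables false
set_option linter.unusedSectionVars false
open scoped ComplexConjugate
open Classical

namespace Cfsg.Agent.Lib.helper15.PSL

open Cfsg.Agent.Lib.helper7 Cfsg.Agent.Lib.helper7.BR Cfsg.Agent.Lib.helper2 Cfsg.Agent.Lib.Helper25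
  Cfsg.Agent.Lib.Helper29 Cfsg.Agent.Lib.helper15.BH

universe u

variable {G : Type u} [Group G] [Fintype G] {p : ℕ} [Fact p.Prime]

/-- the sum over `P ∖ 1` from the sum over `P` -/
theorem pslmomb_sum_ne_one {P : Subgroup G} (F : G → ℂ) :
    ∑ x : ↥P, (if (x : G) = 1 then 0 else F (x : G)) = ∑ x : ↥P, F (x : G) - F 1 := by
  have h1 : ∀ x : ↥P, (if (x : G) = 1 then (0 : ℂ) else F (x : G)) =
      F (x : G) - (if x = 1 then F 1 else 0) := by
    intro x
    by_cases hx : x = 1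
    · simp [hx]
    · have hx' : (x : G) ≠ 1 := fun h => hx (Subtype.ext h)
      simp [hx, hx']
  rw [Finset.sum_congr rfl (fun x _ => h1 x), Finset.sum_sub_distrib,
    Finset.sum_ite_eq' Finset.univ (1 : ↥P) (fun _ => F 1)]
  simp

/-- MOMB with the pieces CENPROD, SINGSUM2, CARDG, SQSUM, YSQ as hypotheses -/
theorem pslmomb_core {f : ℕ} {P : Sylow p G} {X Y : Finset (Cfsg.IrrCharacter G)}
    {a : Cfsg.IrrCharacter G → ℤ} {ε : ℤ} {D : ℕ} {χ χ' η₀ : Cfsg.IrrCharacter G} (hL : Loc p f P)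
    (hB : PB p f (P : Subgroup G) X Y a ε D) (hC : CaseB f χ χ' X Y a ε D η₀)
    (hχ1 : (χ : G → ℂ) 1 = (f : ℂ))
    (hcp : ¬ p ∣ Nat.card ↥(Subgroup.center G))
    (hss : ∀ F : G → ℂ, Cfsg.IsClassFunction G F →
      ∑ g : G, (if p ∣ orderOf g then F g else 0) =
        ((nrm P).index : ℂ) * ∑ x : ↥(P : Subgroup G), ∑ ζ : ↥(Subgroup.center G),
          (if (x : G) = 1 then 0 else F ((x : G) * (ζ : G))))
    (hcard : Nat.card G = (nrm P).index * f * p * Nat.card ↥(Subgroup.center G))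
    (hsq : ∀ S : Finset (Cfsg.IrrCharacter G),
      ∑ g : G, (∑ ξ ∈ S, (ξ : G → ℂ) g) * conj (∑ ξ ∈ S, (ξ : G → ℂ) g) =
        (Nat.card G : ℂ) * (S.card : ℂ))
    (hysq : ∑ x : ↥(P : Subgroup G),
        (if (x : G) = 1 then 0 else (η₀ : G → ℂ) (x : G) * conj ((η₀ : G → ℂ) (x : G))) =
      (f : ℂ) * ((f : ℂ) + 1)) :
    2 * ∑ g : G, (if ¬ p ∣ orderOf g ∧ g ∉ Subgroup.center G then
        (χ : G → ℂ) g * conj ((χ : G → ℂ) g) * ((χ : G → ℂ) g * conj ((χ : G → ℂ) g) - 1) else 0) =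
      (Nat.card ↥(Subgroup.center G) : ℂ) * (f : ℂ) ^ 2 * ((f : ℂ) - 1) *
        (((nrm P).index : ℂ) - ((p : ℂ) + 1)) := by
  set W : G → ℂ := fun g => (χ : G → ℂ) g * conj ((χ : G → ℂ) g) with hW
  have hWcl : ∀ g h : G, W (h * g * h⁻¹) = W g := by
    intro g h
    simp only [hW]
    rw [irr_conj_invariant χ g h]
  have hFcl : Cfsg.IsClassFunction G (fun g => W g * (W g - 1)) := by
    intro g h
    show W (h * g * h⁻¹) * (W (h * g * h⁻¹) - 1) = W g * (W g - 1)
    rw [hWcl g h]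
  have hWreal : ∀ g, conj (W g) = W g := by
    intro g
    simp only [hW, map_mul, Complex.conj_conj]
    ring
  have hWsum : ∀ g, W g = ∑ ξ ∈ Xp X a, (ξ : G → ℂ) g + (η₀ : G → ℂ) g := hC.W
  set c : ℂ := ((Xp X a).card : ℂ) with hcdef
  have hc : 2 * c = (f : ℂ) := by
    rw [hcdef]
    exact_mod_cast hC.cardXp
  have hXpX : ∀ ξ ∈ Xp X a, ξ ∈ X ∧ a ξ = 1 := by
    intro ξ h
    simpa [Xp] using h
  have hη₀X : η₀ ∉ Xp X a := by
    intro h
    exact (Finset.disjoint_left.mp hB.disj (hXpX η₀ h).1) hC.mem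
  have hη₀XY : η₀ ∈ X ∪ Y := Finset.mem_union_right _ hC.mem
  -- the values on the singular elements
  have hsingW : ∀ x ∈ (P : Subgroup G), x ≠ 1 → ∀ ζ ∈ Subgroup.center G,
      W (x * ζ) = c + (η₀ : G → ℂ) x := by
    intro x hx hx1 ζ hζ
    rw [hWsum]
    have hpx : p ∣ orderOf x := pslmoma_sing hL.cardP x hx hx1
    have h1 : ∀ ξ ∈ Xp X a, (ξ : G → ℂ) (x * ζ) = 1 := by
      intro ξ hξ
      obtain ⟨hξX, haξ⟩ := hXpX ξ hξ
      rw [hB.cker ξ (Finset.mem_union_left _ hξX) ζ hζ x, hB.valX ξ hξX x hpx, haξ]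
      simp
    rw [Finset.sum_congr rfl h1, hB.cker η₀ hη₀XY ζ hζ x]
    simp [hcdef]
  have hsingW1 : ∀ x ∈ (P : Subgroup G), x ≠ 1 → W x = c + (η₀ : G → ℂ) x := by
    intro x hx hx1
    have := hsingW x hx hx1 1 (Subgroup.one_mem _)
    rwa [mul_one] at this
  -- `η₀` is real on `P ∖ 1`
  have hreal : ∀ x ∈ (P : Subgroup G), x ≠ 1 → conj ((η₀ : G → ℂ) x) = (η₀ : G → ℂ) x := by
    intro x hx hx1
    have h1 := hWreal x
    rw [hsingW1 x hx hx1, map_add] at h1
    have h2 : conj c = c := by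
      rw [hcdef]
      simp
    rw [h2] at h1
    exact add_left_cancel h1
  -- the values on the centre
  have hcenW : ∀ ζ ∈ Subgroup.center G, W ζ = (f : ℂ) ^ 2 := by
    intro ζ hζ
    have h1 : W ζ = W 1 := by
      rw [hWsum, hWsum]
      congr 1
      · apply Finset.sum_congr rfl
        intro ξ hξ
        have := hB.cker ξ (Finset.mem_union_left _ (hXpX ξ hξ).1) ζ hζ 1
        rwa [one_mul] at this
      · have := hB.cker η₀ hη₀XY ζ hζ 1
        rwa [one_mul] at this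
    rw [h1]
    simp only [hW, hχ1]
    simp
    ring
  -- the sums over `G`
  have hS1 : ∑ g : G, W g = (Nat.card G : ℂ) := by
    have := hsq ({χ} : Finset (Cfsg.IrrCharacter G))
    simpa [hW] using this
  have hS2 : ∑ g : G, W g * W g = (Nat.card G : ℂ) * (c + 1) := by
    have := hsq (insert η₀ (Xp X a))
    rw [Finset.card_insert_of_notMem hη₀X] at this
    have h2 : (((Xp X a).card + 1 : ℕ) : ℂ) = c + 1 := by
      rw [hcdef]
      push_cast
      ring
    rw [h2] at this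
    rw [← this]
    apply Finset.sum_congr rfl
    intro g _
    rw [Finset.sum_insert hη₀X, add_comm ((η₀ : G → ℂ) g), ← hWsum g, hWreal g]
  have hSF : ∑ g : G, W g * (W g - 1) = (Nat.card G : ℂ) * c := by
    have h0 : ∑ g : G, W g * (W g - 1) = ∑ g : G, W g * W g - ∑ g : G, W g := by
      rw [← Finset.sum_sub_distrib]
      apply Finset.sum_congr rfl
      intro g _
      ring
    rw [h0, hS1, hS2]
    ring
  have hsplit := pslmoma_split (P := P) hcp (fun g => W g * (W g - 1)) (hss _ hFcl)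
    ((f : ℂ) ^ 2 * ((f : ℂ) ^ 2 - 1))
    (by
      intro x hx hx1 ζ hζ
      show W (x * ζ) * (W (x * ζ) - 1) = W x * (W x - 1)
      rw [hsingW x hx hx1 ζ hζ, hsingW1 x hx hx1])
    (by
      intro ζ hζ
      show W ζ * (W ζ - 1) = _
      rw [hcenW ζ hζ])
  -- the sums over `P ∖ 1`
  have hε : (ε : ℂ) = -1 := by
    rw [hC.eps]
    simp
  have hT1 : ∑ x : ↥(P : Subgroup G), (if (x : G) = 1 then 0 else (η₀ : G → ℂ) (x : G)) = (f : ℂ) := by
    rw [pslmomb_sum_ne_one, hB.sumP η₀ hC.mem, hε]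
    ring
  have hT2 : ∑ x : ↥(P : Subgroup G),
      (if (x : G) = 1 then 0 else (η₀ : G → ℂ) (x : G) * (η₀ : G → ℂ) (x : G)) =
      (f : ℂ) * ((f : ℂ) + 1) := by
    rw [← hysq]
    apply Finset.sum_congr rfl
    intro x _
    by_cases hx : (x : G) = 1
    · simp [hx]
    · simp only [hx, if_false]
      rw [hreal (x : G) x.2 hx]
  have hP1 : ∑ x : ↥(P : Subgroup G), (if (x : G) = 1 then 0 else W (x : G) * (W (x : G) - 1)) =
      ((p : ℂ) - 1) * (c * (c - 1)) + (2 * c - 1) * (f : ℂ) + (f : ℂ) * ((f : ℂ) + 1) := by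
    have key : ∑ x : ↥(P : Subgroup G),
        (if (x : G) = 1 then 0 else W (x : G) * (W (x : G) - 1)) =
        ∑ x : ↥(P : Subgroup G), (if (x : G) = 1 then 0 else c * (c - 1)) +
        (2 * c - 1) * ∑ x : ↥(P : Subgroup G), (if (x : G) = 1 then 0 else (η₀ : G → ℂ) (x : G)) +
        ∑ x : ↥(P : Subgroup G),
          (if (x : G) = 1 then 0 else (η₀ : G → ℂ) (x : G) * (η₀ : G → ℂ) (x : G)) := by
      rw [Finset.mul_sum, ← Finset.sum_add_distrib, ← Finset.sum_add_distrib]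
      apply Finset.sum_congr rfl
      intro x _
      by_cases hx : (x : G) = 1
      · simp [hx]
      · simp only [hx, if_false]
        rw [hsingW1 (x : G) x.2 hx]
        ring
    rw [key, pslmoma_const_sum hL.cardP (c * (c - 1)), hT1, hT2]
  have hG : (Nat.card G : ℂ) = ((nrm P).index : ℂ) * (f : ℂ) * (p : ℂ) *
      (Nat.card ↥(Subgroup.center G) : ℂ) := by
    exact_mod_cast hcard
  have hp : (p : ℂ) = 2 * (f : ℂ) + 1 := by
    have := hL.two_f
    exact_mod_cast this.symm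
  have hc' : c = (f : ℂ) / 2 := by
    linear_combination hc / 2
  rw [hsplit, hSF, hP1, hG, hp, hc']
  ring

end Cfsg.Agent.Lib.helper15.PSL
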