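import Mathlib
import Cfsg.Agent.Lib.helper4.PSLMOMBcore
import Cfsg.Agent.Lib.Helper9.PSLCENPROD
import Cfsg.Agent.Lib.Helper16.PSLSINGSUM2
import Cfsg.Agent.Lib.Helper28.PSLCARDG
import Cfsg.Agent.Lib.helper23.PSLSQSUM
import Cfsg.Agent.Lib.Helper10.PSLYSQ

/-!
# Project PSL (S4504), piece MOMB : the moment identity in case B (verbatim wrapper of `pslmomb_core`)
-/

set_option autoImplicit false
set_option linter.unusedVariables false
set_option linter.unusedSectionVars false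
open scoped ComplexConjugate
open Classical

namespace Cfsg.Agent.Lib.helper15.PSL

open Cfsg.Agent.Lib.helper7 Cfsg.Agent.Lib.helper7.BR Cfsg.Agent.Lib.helper2 Cfsg.Agent.Lib.Helper25
  Cfsg.Agent.Lib.Helper29 Cfsg.Agent.Lib.helper15.BH

universe u

variable {G : Type u} [Group G] [Fintype G] {p : ℕ} [Fact p.Prime]

/-- MOMB : the moment identity in case B -/
theorem moment_B {f : ℕ} {P : Sylow p G} {X Y : Finset (Cfsg.IrrCharacter G)}
    {a : Cfsg.IrrCharacter G → ℤ} {ε : ℤ} {D : ℕ} {χ χ' η₀ : Cfsg.IrrCharacter G} (hL : Loc p f P)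
    (hB : PB p f (P : Subgroup G) X Y a ε D) (hC : CaseB f χ χ' X Y a ε D η₀)
    (hχ1 : (χ : G → ℂ) 1 = (f : ℂ)) :
    2 * ∑ g : G, (if ¬ p ∣ orderOf g ∧ g ∉ Subgroup.center G then
        (χ : G → ℂ) g * conj ((χ : G → ℂ) g) * ((χ : G → ℂ) g * conj ((χ : G → ℂ) g) - 1) else 0) =
      (Nat.card ↥(Subgroup.center G) : ℂ) * (f : ℂ) ^ 2 * ((f : ℂ) - 1) *
        (((nrm P).index : ℂ) - ((p : ℂ) + 1)) :=
  pslmomb_core hL hB hC hχ1 (cen_prod hL).1 (fun F hF => sing_sum_loc hL F hF) (card_G hL)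
    sum_sq_of_decomp (Y_sq_sum hL hB η₀ hC.mem)

end Cfsg.Agent.Lib.helper15.PSL
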