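import Mathlib

set_option autoImplicit false

namespace Cfsg.Agent.Lib.helper4

open MulAction

section

variable {K β : Type*} [Group K] [MulAction K β]

/-- the embedding of four distinct points -/
def embFour (a b c d : β) (h : [a, b, c, d].Nodup) : Fin 4 ↪ β :=
  ⟨![a, b, c, d], by
    intro i j hij
    simp only [List.nodup_cons, List.mem_cons, List.not_mem_nil, or_false, not_or,
      List.nodup_nil, and_true, not_false_eq_true] at h
    obtain ⟨⟨h1, h2, h3⟩, ⟨h4, h5⟩, h6⟩ := h
    fin_cases i <;> fin_cases j <;> simp_all⟩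

theorem exists_map4 [IsMultiplyPretransitive K β 4] (a b c d a' b' c' d' : β)
    (h : [a, b, c, d].Nodup) (h' : [a', b', c', d'].Nodup) :
    ∃ g : K, g • a = a' ∧ g • b = b' ∧ g • c = c' ∧ g • d = d' := by
  obtain ⟨g, hg⟩ := MulAction.exists_smul_eq K (embFour a b c d h) (embFour a' b' c' d' h')
  refine ⟨g, ?_, ?_, ?_, ?_⟩
  · exact congrArg (fun f => f 0) hg
  · exact congrArg (fun f => f 1) hg
  · exact congrArg (fun f => f 2) hg
  · exact congrArg (fun f => f 3) hg

theorem eq_of_agree4 (hs : ∀ v : Fin 4 ↪ β, stabilizer K v = ⊥) (g h : K) (a b c d : β)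
    (hn : [a, b, c, d].Nodup) (ha : g • a = h • a) (hb : g • b = h • b) (hc : g • c = h • c)
    (hd : g • d = h • d) : g = h := by
  have hmem : h⁻¹ * g ∈ stabilizer K (embFour a b c d hn) := by
    rw [mem_stabilizer_iff]
    ext i
    rw [Function.Embedding.smul_apply, mul_smul, inv_smul_eq_iff]
    fin_cases i
    · exact ha
    · exact hb
    · exact hc
    · exact hd
  rw [hs, Subgroup.mem_bot, inv_mul_eq_one] at hmem
  exact hmem.symm

end

section

variable {K β : Type*} [Group K] [MulAction K β] [Fintype β] [DecidableEq β]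

theorem nodup4_of_moved_fixed (x : K) (hxinv : ∀ a : β, x • (x • a) = a) (r p q : β)
    (hr : x • r ≠ r) (hp : x • p = p) (hq : x • q = q) (hpq : p ≠ q) :
    [r, x • r, p, q].Nodup := by
  have h1 : r ≠ x • r := fun h => hr h.symm
  have h2 : r ≠ p := fun h => hr (h ▸ hp)
  have h3 : r ≠ q := fun h => hr (h ▸ hq)
  have h4 : x • r ≠ p := by
    intro h
    apply hr
    have := congrArg (fun t => x • t) h
    simp only [hxinv, hp] at this
    rw [this, hp]
  have h5 : x • r ≠ q := by
    intro h
    apply hr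
    have := congrArg (fun t => x • t) h
    simp only [hxinv, hq] at this
    rw [this, hq]
  simp only [List.nodup_cons, List.mem_cons, List.not_mem_nil, or_false, not_or,
    List.nodup_nil, and_true, not_false_eq_true]
  exact ⟨⟨h1, h2, h3⟩, ⟨h4, h5⟩, hpq⟩

theorem nodup4_of_moved_moved (x : K) (hxinv : ∀ a : β, x • (x • a) = a) (a c : β)
    (ha : x • a ≠ a) (hc : x • c ≠ c) (hac : c ≠ a) (hac' : c ≠ x • a) :
    [a, x • a, c, x • c].Nodup := by
  have h1 : a ≠ x • a := fun h => ha h.symm
  have h2 : a ≠ c := fun h => hac h.symm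
  have h3 : a ≠ x • c := by
    intro h
    apply hac'
    have := congrArg (fun t => x • t) h
    simp only [hxinv] at this
    exact this.symm
  have h4 : x • a ≠ c := fun h => hac' h.symm
  have h5 : x • a ≠ x • c := by
    intro h
    exact hac (smul_left_cancel x h).symm
  have h6 : c ≠ x • c := fun h => hc h.symm
  simp only [List.nodup_cons, List.mem_cons, List.not_mem_nil, or_false, not_or,
    List.nodup_nil, and_true, not_false_eq_true]
  exact ⟨⟨h1, h2, h3⟩, ⟨h4, h5⟩, h6⟩

end

end Cfsg.Agent.Lib.helper4
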