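import Mathlib
import Cfsg.Agent.Lib.helper4.SharpFour

set_option autoImplicit false

namespace Cfsg.Agent.Lib.helper4

open MulAction

section

variable {K β : Type*} [Group K] [MulAction K β] [Fintype β] [DecidableEq β]

/-- the centralizer of the involution `x` is in bijection with the configurations
(moved point, two distinct fixed points) -/
theorem card_conf_fixed [IsMultiplyPretransitive K β 4]
    (hs : ∀ v : Fin 4 ↪ β, stabilizer K v = ⊥) (x : K) (hxinv : ∀ a : β, x • (x • a) = a)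
    (p1 p3 p4 : β) (h1 : x • p1 ≠ p1) (h3 : x • p3 = p3) (h4 : x • p4 = p4) (h34 : p3 ≠ p4) :
    Nat.card {c : K // c * x = x * c} =
      ((Finset.univ.filter (fun a : β => x • a ≠ a)) ×ˢ
        (Finset.univ.filter (fun a : β => x • a = a)).offDiag).card := by
  set M := Finset.univ.filter (fun a : β => x • a ≠ a) with hM
  set F := Finset.univ.filter (fun a : β => x • a = a) with hF
  have mem_M : ∀ a, a ∈ M ↔ x • a ≠ a := fun a => by simp [hM]
  have mem_F : ∀ a, a ∈ F ↔ x • a = a := fun a => by simp [hF]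
  have hcomm : ∀ c : {c : K // c * x = x * c}, ∀ a : β, x • ((c : K) • a) = (c : K) • (x • a) := by
    intro c a
    rw [← mul_smul, ← mul_smul, c.2]
  have hbase := nodup4_of_moved_fixed x hxinv p1 p3 p4 h1 h3 h4 h34
  rw [← Fintype.card_coe, ← Nat.card_eq_fintype_card]
  apply Nat.card_congr
  refine Equiv.ofBijective (fun c => ⟨((c : K) • p1, (c : K) • p3, (c : K) • p4), ?_⟩) ⟨?_, ?_⟩
  · rw [Finset.mem_product, Finset.mem_offDiag, mem_M, mem_F, mem_F]
    refine ⟨?_, ?_, ?_, ?_⟩
    · rw [hcomm]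
      intro h
      exact h1 (smul_left_cancel _ h)
    · rw [hcomm, h3]
    · rw [hcomm, h4]
    · intro h
      exact h34 (smul_left_cancel _ h)
  · intro c c' h
    have h' := congrArg Subtype.val h
    simp only [Prod.mk.injEq] at h'
    obtain ⟨e1, e3, e4⟩ := h'
    apply Subtype.ext
    apply eq_of_agree4 hs _ _ p1 (x • p1) p3 p4 hbase e1 _ e3 e4
    rw [← hcomm c, ← hcomm c', e1]
  · rintro ⟨⟨r, p, q⟩, hmem⟩
    rw [Finset.mem_product, Finset.mem_offDiag, mem_M, mem_F, mem_F] at hmem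
    obtain ⟨hr, hp, hq, hpq⟩ := hmem
    have htarget := nodup4_of_moved_fixed x hxinv r p q hr hp hq hpq
    obtain ⟨g, g1, g2, g3, g4⟩ := exists_map4 (K := K) p1 (x • p1) p3 p4 r (x • r) p q hbase htarget
    have hgx : g * x = x * g := by
      apply eq_of_agree4 hs _ _ p1 (x • p1) p3 p4 hbase
      · rw [mul_smul, mul_smul, g2, g1]
      · rw [mul_smul, mul_smul, hxinv, g1, g2, hxinv]
      · rw [mul_smul, mul_smul, h3, g3, hp]
      · rw [mul_smul, mul_smul, h4, g4, hq]
    refine ⟨⟨g, hgx⟩, ?_⟩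
    apply Subtype.ext
    simp only [g1, g3, g4]

/-- the centralizer of the involution `x` is in bijection with the configurations
(moved point, moved point in another cycle) -/
theorem card_conf_moved [IsMultiplyPretransitive K β 4]
    (hs : ∀ v : Fin 4 ↪ β, stabilizer K v = ⊥) (x : K) (hxinv : ∀ a : β, x • (x • a) = a)
    (a₀ c₀ : β) (ha : x • a₀ ≠ a₀) (hc : x • c₀ ≠ c₀) (hca : c₀ ≠ a₀) (hca' : c₀ ≠ x • a₀) :
    Nat.card {c : K // c * x = x * c} =
      ((Finset.univ.filter (fun a : β => x • a ≠ a)).offDiag.filter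
        (fun t => t.2 ≠ x • t.1)).card := by
  set M := Finset.univ.filter (fun a : β => x • a ≠ a) with hM
  have mem_M : ∀ a, a ∈ M ↔ x • a ≠ a := fun a => by simp [hM]
  have hcomm : ∀ c : {c : K // c * x = x * c}, ∀ a : β, x • ((c : K) • a) = (c : K) • (x • a) := by
    intro c a
    rw [← mul_smul, ← mul_smul, c.2]
  have hbase := nodup4_of_moved_moved x hxinv a₀ c₀ ha hc hca hca'
  rw [← Fintype.card_coe, ← Nat.card_eq_fintype_card]
  apply Nat.card_congr
  refine Equiv.ofBijective (fun c => ⟨((c : K) • a₀, (c : K) • c₀), ?_⟩) ⟨?_, ?_⟩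
  · rw [Finset.mem_filter, Finset.mem_offDiag, mem_M, mem_M]
    refine ⟨⟨?_, ?_, ?_⟩, ?_⟩
    · rw [hcomm]
      intro h
      exact ha (smul_left_cancel _ h)
    · rw [hcomm]
      intro h
      exact hc (smul_left_cancel _ h)
    · intro h
      exact hca (smul_left_cancel _ h).symm
    · show (c : K) • c₀ ≠ x • ((c : K) • a₀)
      rw [hcomm]
      intro h
      exact hca' (smul_left_cancel _ h)
  · intro c c' h
    have h' := congrArg Subtype.val h
    simp only [Prod.mk.injEq] at h'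
    obtain ⟨e1, e3⟩ := h'
    apply Subtype.ext
    apply eq_of_agree4 hs _ _ a₀ (x • a₀) c₀ (x • c₀) hbase e1 _ e3 _
    · rw [← hcomm c, ← hcomm c', e1]
    · rw [← hcomm c, ← hcomm c', e3]
  · rintro ⟨⟨a, c⟩, hmem⟩
    rw [Finset.mem_filter, Finset.mem_offDiag, mem_M, mem_M] at hmem
    obtain ⟨⟨ha', hc', hac⟩, hne⟩ := hmem
    have hne' : c ≠ x • a := hne
    have htarget := nodup4_of_moved_moved x hxinv a c ha' hc' (Ne.symm hac) hne'
    obtain ⟨g, g1, g2, g3, g4⟩ :=
      exists_map4 (K := K) a₀ (x • a₀) c₀ (x • c₀) a (x • a) c (x • c) hbase htarget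
    have hgx : g * x = x * g := by
      apply eq_of_agree4 hs _ _ a₀ (x • a₀) c₀ (x • c₀) hbase
      · rw [mul_smul, mul_smul, g2, g1]
      · rw [mul_smul, mul_smul, hxinv, g1, g2, hxinv]
      · rw [mul_smul, mul_smul, g4, g3]
      · rw [mul_smul, mul_smul, hxinv, g3, g4, hxinv]
    refine ⟨⟨g, hgx⟩, ?_⟩
    apply Subtype.ext
    simp only [g1, g3]

end

end Cfsg.Agent.Lib.helper4
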