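import Mathlib
import Cfsg.Agent.Lib.helper4.SharpFourB

set_option autoImplicit false

namespace Cfsg.Agent.Lib.helper4

open MulAction

section

variable {K β : Type*} [Group K] [MulAction K β] [Fintype β] [DecidableEq β]

theorem card_offDiag_filter_ne (M : Finset β) (f : β → β) (hf : ∀ a ∈ M, f a ∈ M)
    (hf' : ∀ a ∈ M, f a ≠ a) :
    (M.offDiag.filter (fun t => t.2 ≠ f t.1)).card + M.card = M.card * M.card - M.card := by
  have h1 := Finset.card_filter_add_card_filter_not (s := M.offDiag)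
    (fun t : β × β => t.2 ≠ f t.1)
  rw [Finset.offDiag_card] at h1
  have h2 : (M.offDiag.filter (fun t : β × β => ¬ t.2 ≠ f t.1)) = M.image (fun a => (a, f a)) := by
    ext ⟨a, c⟩
    simp only [Finset.mem_filter, Finset.mem_offDiag, not_not, Finset.mem_image, Prod.mk.injEq]
    constructor
    · rintro ⟨⟨ha, _, _⟩, hc⟩
      exact ⟨a, ha, rfl, hc.symm⟩
    · rintro ⟨b, hb, rfl, rfl⟩
      exact ⟨⟨hb, hf b hb, fun h => hf' b hb h.symm⟩, rfl⟩
  have h3 : (M.image (fun a => (a, f a))).card = M.card := by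
    apply Finset.card_image_of_injective
    intro a b h
    exact (Prod.mk.injEq _ _ _ _ ▸ h).1
  rw [h2, h3] at h1
  exact h1

theorem sharp_four_card [IsMultiplyPretransitive K β 4]
    (hs : ∀ v : Fin 4 ↪ β, stabilizer K v = ⊥) (h4 : 4 ≤ Fintype.card β) :
    Fintype.card β = 4 ∨ Fintype.card β = 5 ∨ Fintype.card β = 6 ∨ Fintype.card β = 11 := by
  obtain ⟨v₀⟩ : Nonempty (Fin 4 ↪ β) :=
    Function.Embedding.nonempty_of_card_le (by simpa using h4)
  have hne : ∀ i j : Fin 4, i ≠ j → v₀ i ≠ v₀ j := fun i j hij h => hij (v₀.injective h)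
  have hnd : [v₀ 0, v₀ 1, v₀ 2, v₀ 3].Nodup := by
    simp only [List.nodup_cons, List.mem_cons, List.not_mem_nil, or_false, not_or,
      List.nodup_nil, and_true, not_false_eq_true]
    exact ⟨⟨hne 0 1 (by decide), hne 0 2 (by decide), hne 0 3 (by decide)⟩,
      ⟨hne 1 2 (by decide), hne 1 3 (by decide)⟩, hne 2 3 (by decide)⟩
  have hnd' : [v₀ 1, v₀ 0, v₀ 2, v₀ 3].Nodup := by
    simp only [List.nodup_cons, List.mem_cons, List.not_mem_nil, or_false, not_or,
      List.nodup_nil, and_true, not_false_eq_true]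
    exact ⟨⟨hne 1 0 (by decide), hne 1 2 (by decide), hne 1 3 (by decide)⟩,
      ⟨hne 0 2 (by decide), hne 0 3 (by decide)⟩, hne 2 3 (by decide)⟩
  obtain ⟨x, hx1, hx2, hx3, hx4⟩ :=
    exists_map4 (K := K) (v₀ 0) (v₀ 1) (v₀ 2) (v₀ 3) (v₀ 1) (v₀ 0) (v₀ 2) (v₀ 3) hnd hnd'
  have hxx : x * x = 1 := by
    apply eq_of_agree4 hs _ _ (v₀ 0) (v₀ 1) (v₀ 2) (v₀ 3) hnd
    · rw [mul_smul, hx1, hx2, one_smul]
    · rw [mul_smul, hx2, hx1, one_smul]
    · rw [mul_smul, hx3, hx3, one_smul]
    · rw [mul_smul, hx4, hx4, one_smul]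
  have hxinv : ∀ a : β, x • (x • a) = a := by
    intro a
    rw [← mul_smul, hxx, one_smul]
  set M := Finset.univ.filter (fun a : β => x • a ≠ a) with hM
  set F := Finset.univ.filter (fun a : β => x • a = a) with hF
  have mem_M : ∀ a, a ∈ M ↔ x • a ≠ a := fun a => by simp [hM]
  have mem_F : ∀ a, a ∈ F ↔ x • a = a := fun a => by simp [hF]
  have hFM : F.card + M.card = Fintype.card β := by
    have := Finset.card_filter_add_card_filter_not (s := (Finset.univ : Finset β))
      (fun a : β => x • a = a)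
    rw [Finset.card_univ] at this
    exact this
  have h0M : v₀ 0 ∈ M := by
    rw [mem_M, hx1]
    exact hne 1 0 (by decide)
  have h1M : v₀ 1 ∈ M := by
    rw [mem_M, hx2]
    exact hne 0 1 (by decide)
  have hF2 : 2 ≤ F.card := by
    have : 1 < F.card :=
      Finset.one_lt_card.mpr ⟨v₀ 2, (mem_F _).2 hx3, v₀ 3, (mem_F _).2 hx4, hne 2 3 (by decide)⟩
    omega
  have hF3 : F.card ≤ 3 := by
    by_contra hcon
    push Not at hcon
    obtain ⟨w, hw⟩ := Function.Embedding.exists_of_card_le_finset (α := Fin 4) (s := F)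
      (by simp only [Fintype.card_fin]; omega)
    have hxw : x ∈ stabilizer K w := by
      rw [mem_stabilizer_iff]
      ext i
      rw [Function.Embedding.smul_apply]
      exact (mem_F _).1 (hw ⟨i, rfl⟩)
    rw [hs, Subgroup.mem_bot] at hxw
    rw [hxw, one_smul] at hx1
    exact hne 0 1 (by decide) hx1
  by_cases hMle : M.card ≤ 2
  · omega
  push Not at hMle
  obtain ⟨c₀, hc₀M, hc₀⟩ : ∃ c ∈ M, c ∉ ({v₀ 0, v₀ 1} : Finset β) :=
    Finset.exists_mem_notMem_of_card_lt_card (lt_of_le_of_lt Finset.card_le_two hMle)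
  rw [Finset.mem_insert, Finset.mem_singleton, not_or] at hc₀
  have hE := card_conf_fixed hs x hxinv (v₀ 0) (v₀ 2) (v₀ 3) ((mem_M _).1 h0M) hx3 hx4
    (hne 2 3 (by decide))
  have hE' := card_conf_moved hs x hxinv (v₀ 0) c₀ ((mem_M _).1 h0M) ((mem_M _).1 hc₀M) hc₀.1
    (by rw [hx1]; exact hc₀.2)
  rw [hE, Finset.card_product, Finset.offDiag_card, ← hM, ← hF] at hE'
  have hcnt := card_offDiag_filter_ne M (fun a => x • a)
    (fun a ha => by rw [mem_M] at ha ⊢; rw [hxinv]; exact fun h => ha h.symm)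
    (fun a ha => (mem_M a).1 ha)
  rw [← hE'] at hcnt
  have hMpos : 0 < M.card := by omega
  have hle : M.card ≤ M.card * M.card := Nat.le_mul_self _
  have hf : F.card = 2 ∨ F.card = 3 := by omega
  rcases hf with hf | hf
  · rw [hf] at hcnt
    have h5 : M.card * M.card = M.card * 4 := by
      generalize M.card * M.card = mm at *
      omega
    have h6 : M.card = 4 := Nat.eq_of_mul_eq_mul_left hMpos h5
    omega
  · rw [hf] at hcnt
    have h5 : M.card * M.card = M.card * 8 := by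
      generalize M.card * M.card = mm at *
      omega
    have h6 : M.card = 8 := Nat.eq_of_mul_eq_mul_left hMpos h5
    omega

end

end Cfsg.Agent.Lib.helper4
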