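import Mathlib
import Cfsg.Prelude.Def_Classical
import Cfsg.Agent.Lib.Helper1.O9L.Defs

/-!
# Project O9L, row FREEN (`omn_of_free`): the core, with the conclusions of NONMEM (`free_not_mem`) and DETFREE (`free_det`) as hypotheses.  (helper4)
-/

set_option autoImplicit false

namespace Cfsg.Agent.Lib.Helper1.O9L

open Matrix Module Cfsg.Agent.Lib.Helper13.OTS

/-- `N = q^d - s ≥ 2` for `q` odd, `d ≥ 1`, `s = ± 1` -/
theorem o9lfreen_two_le {F : Type*} [Field F] [Fintype F] (h2 : (2 : F) ≠ 0) (d : ℕ) (s : ℤ) (hs : s = 1 ∨ s = -1)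
    (hd : 1 ≤ d) (N : ℕ) (hN : (N : ℤ) = (Fintype.card F : ℤ) ^ d - s) : 2 ≤ N := by
  have hq2 : 2 ≤ Fintype.card F := Fintype.one_lt_card
  have hq : 3 ≤ Fintype.card F := by
    rcases Nat.lt_or_ge 2 (Fintype.card F) with h | h
    · exact h
    · exfalso
      apply h2
      have h3 : ((Fintype.card F : ℕ) : F) = 0 := Nat.cast_card_eq_zero F
      have h4 : Fintype.card F = 2 := by omega
      rw [h4] at h3
      exact_mod_cast h3
  have hqd : Fintype.card F ^ 1 ≤ Fintype.card F ^ d := Nat.pow_le_pow_right (by omega) hd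
  rw [pow_one] at hqd
  have hqd' : (3 : ℤ) ≤ (Fintype.card F : ℤ) ^ d := by
    have : (3 : ℕ) ≤ Fintype.card F ^ d := le_trans hq hqd
    exact_mod_cast this
  have : (2 : ℤ) ≤ (N : ℤ) := by
    rcases hs with h | h <;> rw [hN, h] <;> omega
  exact_mod_cast this

/-- FREEN from the conclusions of NONMEM and DETFREE -/
theorem o9lfreen_core {F : Type*} [Field F] [Fintype F] (h2 : (2 : F) ≠ 0) {ι : Type} [Fintype ι] [DecidableEq ι]
    (Qs : QuadraticForm F (ι → F)) (d : ℕ) (s : ℤ) (hs : QStd Qs d s) (hd : 1 ≤ d)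
    (g : ↥(Cfsg.isometryGroup F (⇑Qs))) (N : ℕ) (hN : (N : ℤ) = (Fintype.card F : ℤ) ^ d - s)
    (hfree : FreeG (g : GL ι F) N)
    (hnm : g ∉ Cfsg.Omega F (⇑Qs))
    (hdet : Even (Fintype.card ι) →
      (∀ v : ι → F, ((g : GL ι F) : Matrix ι ι F) *ᵥ v = v → v = 0) →
      ((g : GL ι F) : Matrix ι ι F).det = 1) : OmN F d s N := by
  have hN2 : 2 ≤ N := o9lfreen_two_le h2 d s hs.eps hd N hN
  refine ⟨ι, inferInstance, inferInstance, Qs, hs, g, hnm, ?_, ?_⟩
  · apply hdet
    · rw [hs.card]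
      exact even_two_mul d
    · intro v hv
      have h1 : ¬ N ∣ 1 := by
        intro h
        have := Nat.le_of_dvd (by norm_num) h
        omega
      apply hfree.2 1 h1 v
      rw [pow_one]
      exact hv
  · rw [← hfree.1]
    exact (Subgroup.orderOf_coe g).symm

end Cfsg.Agent.Lib.Helper1.O9L
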