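import Mathlib
import Cfsg.Agent.Lib.Helper13.OTS.Defs
import Cfsg.Agent.Lib.Helper16.OHelp

/-!
# Project OTS, row STDP (`q_std_plus`, `q_std_minus`), verbatim from `Helper13/OTS/Skel.lean.txt`.  (helper4)

The two standard instances of `QStd`: `qfPlus d F` (type `1`) and `qfMinus (d - 1) F a b` (type `-1`).
-/

set_option autoImplicit false

namespace Cfsg.Agent.Lib.Helper13.OTS

theorem q_std_plus {F : Type*} [Field F] [Fintype F] (d : ℕ) :
    QStd (Cfsg.Agent.Lib.Helper16.qfPlus d F) d 1 := by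
  refine ⟨Cfsg.Agent.Lib.Helper16.qfPlus_nondeg d F, ?_, ?_, Or.inl rfl⟩
  · rw [Fintype.card_sum, Fintype.card_fin]
    ring
  · rw [Cfsg.Agent.Lib.Helper16.qfPlus_coe]
    exact Cfsg.Agent.Lib.Helper16.OSemi.isType_plus d

/-- the minus instance with `d = k + 1` -/
theorem otsstdp_minus {F : Type*} [Field F] [Fintype F] (k : ℕ) (a b : F)
    (hab : ∀ x y : F, x ^ 2 + a * x * y + b * y ^ 2 = 0 → x = 0 ∧ y = 0) :
    QStd (Cfsg.Agent.Lib.Helper16.qfMinus k F a b) (k + 1) (-1) := by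
  refine ⟨Cfsg.Agent.Lib.Helper16.OSemi.qfMinus_nondeg k a b hab, ?_, ?_, Or.inr rfl⟩
  · rw [Fintype.card_sum, Fintype.card_sum, Fintype.card_fin, Fintype.card_fin]
    ring
  · rw [Cfsg.Agent.Lib.Helper16.qfMinus_coe]
    exact Cfsg.Agent.Lib.Helper16.OSemi.isType_minus k a b hab

theorem q_std_minus {F : Type*} [Field F] [Fintype F] (d : ℕ) (hd : 1 ≤ d) (a b : F)
    (hab : ∀ x y : F, x ^ 2 + a * x * y + b * y ^ 2 = 0 → x = 0 ∧ y = 0) :
    QStd (Cfsg.Agent.Lib.Helper16.qfMinus (d - 1) F a b) d (-1) := by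
  obtain ⟨k, rfl⟩ : ∃ k, d = k + 1 := ⟨d - 1, by omega⟩
  exact otsstdp_minus k a b hab

end Cfsg.Agent.Lib.Helper13.OTS
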