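import Mathlib
import Cfsg.Agent.Lib.Helper12.OMB.Defs
import Cfsg.Agent.Lib.Lead.STB.Defs2
import Cfsg.Agent.Lib.Helper28.CTDM1f
import Cfsg.Agent.Lib.Helper28.OMMO10

/-!
# Project OMB (designer helper12), rows V1 (`TbL_mulVec TbS_mulVec`) and V2 (`embM_Td embM_mulVec embM_mulVec_ex0 ex0_single ex0_of_zero`), VERBATIM (helper4).
-/

set_option autoImplicit false

namespace Cfsg.Agent.Lib.Helper12.OMB

open Matrix Cfsg.Agent.Lib.helper15.St2 Cfsg.Agent.Lib.helper3.STC Cfsg.Agent.Lib.Lead.STD Cfsg.Agent.Lib.Lead.STB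
  Cfsg.Agent.Lib.Lead.SPN Cfsg.Agent.Lib.Helper28.CTD Cfsg.Agent.Lib.Helper28.OMM

universe u w

/-- a matrix unit on a vector -/
theorem ombv1_single_mulVec {F : Type u} [Field F] {κ : Type*} [Fintype κ] [DecidableEq κ] (i j : κ) (c : F) (x : κ → F) :
    Matrix.single i j c *ᵥ x = Pi.single i (c * x j) := by
  rw [Matrix.single_mulVec]
  rfl

section V

variable {F : Type u} [Field F] {ι : Type w} [Fintype ι] [DecidableEq ι]

/-- V1 [S-M]  `unfold TbL`, `Matrix.sub_mulVec`, `Matrix.add_mulVec`, `Matrix.one_mulVec`, and `Matrix.single i j c *ᵥ x = Pi.single i (c * x j)` (model `Helper18.STDR0` `stdr0_single_mulVec`, `Td_mulVec`). -/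
theorem TbL_mulVec (a b : ι ⊕ ι) (t : F) (x : Ix ι → F) :
    TbL a b t *ᵥ x = x + Pi.single (Sum.inr a) (t * x (Sum.inr b)) - Pi.single (Sum.inr (ng b)) (t * x (Sum.inr (ng a))) := by
  unfold TbL
  rw [Matrix.sub_mulVec, Matrix.add_mulVec, Matrix.one_mulVec, ombv1_single_mulVec, ombv1_single_mulVec]

theorem TbS_mulVec (a : ι ⊕ ι) (t : F) (x : Ix ι → F) :
    TbS a t *ᵥ x = x + Pi.single i0 (t * x (Sum.inr (ng a))) -
      Pi.single (Sum.inr a) (2 * t * x i0 + t * t * x (Sum.inr (ng a))) := by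
  unfold TbS
  rw [Matrix.sub_mulVec, Matrix.sub_mulVec, Matrix.add_mulVec, Matrix.one_mulVec, ombv1_single_mulVec, ombv1_single_mulVec,
    ombv1_single_mulVec, sub_sub, ← Pi.single_add]

/-- V2 [S-M]  `unfold embM Td TbL`; `Matrix.fromBlocks_add`, `fromBlocks_sub`-type lemmas or `ext i j; rcases i, j`; `Matrix.single_apply`.  `embM_mulVec`: `Matrix.fromBlocks_mulVec`. -/
theorem embM_Td (a b : ι ⊕ ι) (t : F) : embM (Td a b t) = TbL a b t := by
  unfold embM Td TbL
  ext i j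
  rcases i with i | i <;> rcases j with j | j
  · simp [Matrix.single_apply, Matrix.one_apply]
  · simp [Matrix.single_apply, Matrix.one_apply]
  · simp [Matrix.single_apply, Matrix.one_apply]
  · simp [Matrix.single_apply, Matrix.one_apply, Matrix.sub_apply, Matrix.add_apply]

theorem embM_mulVec (A : Matrix (ι ⊕ ι) (ι ⊕ ι) F) (x : Ix ι → F) :
    embM A *ᵥ x = Sum.elim (fun _ => x i0) (A *ᵥ (fun k => x (Sum.inr k))) := by
  unfold embM
  rw [Matrix.fromBlocks_mulVec]
  ext i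
  rcases i with i | i
  · simp only [Sum.elim_inl, Matrix.one_mulVec, Matrix.zero_mulVec, add_zero, Function.comp_apply]
  · simp only [Sum.elim_inr, Matrix.zero_mulVec, zero_add]
    rfl

theorem embM_mulVec_ex0 (A : Matrix (ι ⊕ ι) (ι ⊕ ι) F) (u : ι ⊕ ι → F) : embM A *ᵥ ex0 u = ex0 (A *ᵥ u) := by
  rw [embM_mulVec]
  rfl

theorem ex0_single (a : ι ⊕ ι) (c : F) : ex0 (Pi.single a c) = (Pi.single (Sum.inr a) c : Ix ι → F) := by
  ext i
  rcases i with i | i
  · simp [ex0]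
  · simp only [ex0, Sum.elim_inr, Pi.single_apply]
    by_cases h : i = a
    · rw [if_pos h, if_pos (by rw [h])]
    · rw [if_neg h, if_neg (fun h' => h (Sum.inr.inj h'))]

theorem ex0_of_zero (x : Ix ι → F) (hx : x i0 = 0) : x = ex0 (fun k => x (Sum.inr k)) := by
  ext i
  rcases i with i | i
  · cases i
    simp only [ex0, Sum.elim_inl]
    exact hx
  · rfl

end V

end Cfsg.Agent.Lib.Helper12.OMB
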