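import Mathlib
import Cfsg.Agent.Lib.Helper12.OMN.Defs
import Cfsg.Agent.Lib.Lead.SPN.Defs
import Cfsg.Agent.Lib.Helper28.CTDM1f
import Cfsg.Agent.Lib.Helper28.OMMO10

/-!
# Project OMN (designer helper12), rows V2 (`embMm_Td embMm_mulVec embMm_mulVec_exW exW_single exW_of_zero`) and V3 (`bM_exW QM_exW bM_exW_left QM_split`), VERBATIM (helper4).

Twins of `helper4.OMBV1` (V2) and `Helper26.OMBV3` (V3).
-/

set_option autoImplicit false

namespace Cfsg.Agent.Lib.Helper12.OMN

open Matrix Cfsg.Agent.Lib.helper15.St2 Cfsg.Agent.Lib.helper3.STC Cfsg.Agent.Lib.Lead.STD Cfsg.Agent.Lib.helper17.STM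
  Cfsg.Agent.Lib.Lead.SPN Cfsg.Agent.Lib.Helper28.CTD Cfsg.Agent.Lib.Helper28.OMM

universe u w

section V

variable {F : Type u} [Field F] {A B : F} {ι : Type w} [Fintype ι] [DecidableEq ι]

/-- V2 [S-M]  model `helper4.OMBV1` (`embM_Td`, `embM_mulVec`, …); here the blocks are `fromBlocks A 0 0 1` (`Matrix.fromBlocks_mulVec`). -/
theorem embMm_Td (a b : ι ⊕ ι) (t : F) : embMm (Td a b t) = TmL a b t := by
  unfold embMm Td TmL
  ext i j
  rcases i with i | i <;> rcases j with j | j
  · simp [Matrix.single_apply, Matrix.one_apply, Matrix.sub_apply, Matrix.add_apply]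
  · simp [Matrix.single_apply, Matrix.one_apply]
  · simp [Matrix.single_apply, Matrix.one_apply]
  · simp [Matrix.single_apply, Matrix.one_apply]

theorem embMm_mulVec (M : Matrix (ι ⊕ ι) (ι ⊕ ι) F) (x : Im ι → F) :
    embMm M *ᵥ x = Sum.elim (M *ᵥ (fun k => x (Sum.inl k))) (fun j => x (Sum.inr j)) := by
  unfold embMm
  rw [Matrix.fromBlocks_mulVec]
  ext i
  rcases i with i | i
  · simp only [Sum.elim_inl, Matrix.zero_mulVec, add_zero]
    rfl
  · simp only [Sum.elim_inr, Matrix.one_mulVec, Matrix.zero_mulVec, zero_add, Function.comp_apply]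

theorem embMm_mulVec_exW (M : Matrix (ι ⊕ ι) (ι ⊕ ι) F) (u : ι ⊕ ι → F) : embMm M *ᵥ exW u = exW (M *ᵥ u) := by
  rw [embMm_mulVec]
  rfl

theorem exW_single (a : ι ⊕ ι) (c : F) : exW (Pi.single a c) = (Pi.single (Sum.inl a) c : Im ι → F) := by
  ext i
  rcases i with i | i
  · simp only [exW, Sum.elim_inl, Pi.single_apply]
    by_cases h : i = a
    · rw [if_pos h, if_pos (by rw [h])]
    · rw [if_neg h, if_neg (fun h' => h (Sum.inl.inj h'))]
  · simp [exW]

theorem exW_of_zero (x : Im ι → F) (h1 : x iz1 = 0) (h2 : x iz2 = 0) : x = exW (fun k => x (Sum.inl k)) := by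
  ext i
  rcases i with i | i
  · rfl
  · simp only [exW, Sum.elim_inr]
    fin_cases i
    · exact h1
    · exact h2

end V

section V0

variable {m : ℕ} {F : Type u} [Field F] {A B : F}

/-- V3 [S]  the hyperbolic part `W^⊥` carries the form of OMM; the form splits.  Model `Helper26.OMBV3`; `nm_def` of `helper17.STM.Defs2`. -/
theorem bM_exW (u v : Fin m ⊕ Fin m → F) : bM A B (exW u) (exW v) = bP u v := by
  unfold bM bP exW
  simp only [Sum.elim_inl, Sum.elim_inr, mul_zero, zero_mul, add_zero]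

theorem QM_exW (u : Fin m ⊕ Fin m → F) : Cfsg.quadFormMinus m F A B (exW u) = Cfsg.quadFormPlus m F u := by
  unfold Cfsg.quadFormMinus Cfsg.quadFormPlus exW
  simp only [Sum.elim_inl, Sum.elim_inr]
  rw [zero_pow two_ne_zero, mul_zero, mul_zero, add_zero, add_zero, add_zero]

theorem bM_exW_left (u : Fin m ⊕ Fin m → F) (x : Im (Fin m) → F) : bM A B (exW u) x = bP u (fun k => x (Sum.inl k)) := by
  unfold bM bP exW
  simp only [Sum.elim_inl, Sum.elim_inr, mul_zero, zero_mul, add_zero]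

theorem QM_split (x : Im (Fin m) → F) :
    Cfsg.quadFormMinus m F A B x = Cfsg.quadFormPlus m F (fun k => x (Sum.inl k)) + nm (wv x : Kq F A B) := by
  unfold Cfsg.quadFormMinus Cfsg.quadFormPlus
  rw [nm_def]
  unfold wv
  simp only
  ring

end V0

end Cfsg.Agent.Lib.Helper12.OMN
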