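import Mathlib
import Cfsg.Agent.Lib.Helper12.OMN.Defs
import Cfsg.Agent.Lib.Lead.SPN.Defs
import Cfsg.Agent.Lib.Helper28.CTDM1f
import Cfsg.Agent.Lib.Helper28.OMMO10

/-!
# Project OMN (designer helper12, matrix side of S2099), row G4 (helper4), VERBATIM:
`TmL_iso`, `TmS_iso`, `EOM_iso`, `EOM_le_iso`: the generators `TmL a b t`, `TmS a u` are isometries of `Cfsg.quadFormMinus m F A B`.
Twin of `Helper18.OMBG4`.  Self-contained (own-name copies `omng4_*` of the V0 / V1 facts used).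
-/

set_option autoImplicit false

namespace Cfsg.Agent.Lib.Helper12.OMN

open Matrix Cfsg.Agent.Lib.helper15.St2 Cfsg.Agent.Lib.helper3.STC Cfsg.Agent.Lib.Lead.STD Cfsg.Agent.Lib.helper17.STM
  Cfsg.Agent.Lib.Lead.SPN Cfsg.Agent.Lib.Helper28.CTD Cfsg.Agent.Lib.Helper28.OMM

universe u w

/-- a matrix unit on a vector -/
theorem omng4_single_mulVec {F : Type u} [Field F] {κ : Type*} [Fintype κ] [DecidableEq κ] (i j : κ) (c : F) (x : κ → F) :
    Matrix.single i j c *ᵥ x = Pi.single i (c * x j) := by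
  rw [Matrix.single_mulVec]
  rfl

section V

variable {F : Type u} [Field F] {A B : F} {ι : Type w} [Fintype ι] [DecidableEq ι]

/-- own-name copy of V1 `TmL_mulVec` -/
theorem omng4_TmL_mulVec (a b : ι ⊕ ι) (t : F) (x : Im ι → F) :
    TmL a b t *ᵥ x = x + Pi.single (Sum.inl a) (t * x (Sum.inl b)) - Pi.single (Sum.inl (ng b)) (t * x (Sum.inl (ng a))) := by
  unfold TmL
  rw [Matrix.sub_mulVec, Matrix.add_mulVec, Matrix.one_mulVec, omng4_single_mulVec, omng4_single_mulVec]

/-- own-name copy of V1 `TmS_mulVec` -/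
theorem omng4_TmS_mulVec (a : ι ⊕ ι) (u : Kq F A B) (x : Im ι → F) :
    TmS a u *ᵥ x = x + Pi.single iz1 (u.re * x (Sum.inl (ng a))) + Pi.single iz2 (u.im * x (Sum.inl (ng a))) -
      Pi.single (Sum.inl a) ((2 * u.re + A * u.im) * x iz1 + (A * u.re + 2 * B * u.im) * x iz2 + nm u * x (Sum.inl (ng a))) := by
  unfold TmS
  rw [Matrix.sub_mulVec, Matrix.sub_mulVec, Matrix.sub_mulVec, Matrix.add_mulVec, Matrix.add_mulVec, Matrix.one_mulVec,
    omng4_single_mulVec, omng4_single_mulVec, omng4_single_mulVec, omng4_single_mulVec, omng4_single_mulVec, sub_sub, sub_sub,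
    ← Pi.single_add, ← Pi.single_add]
  congr 2
  ring

end V

section G

variable {m : ℕ} {F : Type u} [Field F] {A B : F}

theorem omng4_Q_add (x y : Im (Fin m) → F) :
    Cfsg.quadFormMinus m F A B (x + y) = Cfsg.quadFormMinus m F A B x + Cfsg.quadFormMinus m F A B y + bM A B x y := by
  unfold Cfsg.quadFormMinus bM
  simp only [Pi.add_apply]
  have : ∑ i : Fin m, (x (Sum.inl (Sum.inl i)) + y (Sum.inl (Sum.inl i))) * (x (Sum.inl (Sum.inr i)) + y (Sum.inl (Sum.inr i))) =
      ∑ i : Fin m, x (Sum.inl (Sum.inl i)) * x (Sum.inl (Sum.inr i)) + ∑ i : Fin m, y (Sum.inl (Sum.inl i)) * y (Sum.inl (Sum.inr i)) +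
        ∑ i : Fin m, (x (Sum.inl (Sum.inl i)) * y (Sum.inl (Sum.inr i)) + y (Sum.inl (Sum.inl i)) * x (Sum.inl (Sum.inr i))) := by
    rw [← Finset.sum_add_distrib, ← Finset.sum_add_distrib]
    apply Finset.sum_congr rfl
    intro i _
    ring
  rw [this]
  ring

theorem omng4_bM_add_right (x y z : Im (Fin m) → F) : bM A B x (y + z) = bM A B x y + bM A B x z := by
  unfold bM
  simp only [Pi.add_apply]
  have : ∑ i : Fin m, (x (Sum.inl (Sum.inl i)) * (y (Sum.inl (Sum.inr i)) + z (Sum.inl (Sum.inr i))) +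
        (y (Sum.inl (Sum.inl i)) + z (Sum.inl (Sum.inl i))) * x (Sum.inl (Sum.inr i))) =
      ∑ i : Fin m, (x (Sum.inl (Sum.inl i)) * y (Sum.inl (Sum.inr i)) + y (Sum.inl (Sum.inl i)) * x (Sum.inl (Sum.inr i))) +
      ∑ i : Fin m, (x (Sum.inl (Sum.inl i)) * z (Sum.inl (Sum.inr i)) + z (Sum.inl (Sum.inl i)) * x (Sum.inl (Sum.inr i))) := by
    rw [← Finset.sum_add_distrib]
    apply Finset.sum_congr rfl
    intro i _
    ring
  rw [this]
  ring

theorem omng4_bM_single (x : Im (Fin m) → F) (a : Fin m ⊕ Fin m) (c : F) :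
    bM A B x (Pi.single (Sum.inl a) c) = c * x (Sum.inl (ng a)) := by
  unfold bM
  rcases a with j | j
  · simp [Pi.single_apply, ng, mul_comm]
  · simp [Pi.single_apply, ng, mul_comm]

theorem omng4_bM_single1 (x : Im (Fin m) → F) (c : F) :
    bM A B x (Pi.single iz1 c) = (2 * x iz1 + A * x iz2) * c := by
  unfold bM
  simp [Pi.single_apply]
  ring

theorem omng4_bM_single2 (x : Im (Fin m) → F) (c : F) :
    bM A B x (Pi.single iz2 c) = (A * x iz1 + 2 * B * x iz2) * c := by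
  unfold bM
  simp [Pi.single_apply]
  ring

theorem omng4_Q_single (a : Fin m ⊕ Fin m) (c : F) :
    Cfsg.quadFormMinus m F A B (Pi.single (Sum.inl a) c) = 0 := by
  unfold Cfsg.quadFormMinus
  rcases a with j | j
  · simp [Pi.single_apply]
  · simp [Pi.single_apply]

theorem omng4_Q_single1 (c : F) :
    Cfsg.quadFormMinus m F A B (Pi.single iz1 c) = c ^ 2 := by
  unfold Cfsg.quadFormMinus
  simp [Pi.single_apply]

theorem omng4_Q_single2 (c : F) :
    Cfsg.quadFormMinus m F A B (Pi.single iz2 c) = B * c ^ 2 := by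
  unfold Cfsg.quadFormMinus
  simp [Pi.single_apply]

/-- G4 [S-M]  model `Helper18.OMBG4`.  The generators are isometries (`TmL_mulVec`, `TmS_mulVec`, unfold `Cfsg.quadFormMinus`, `nm_def`; or `QM_add`, `QM_smul`); closure induction. -/
theorem TmL_iso {a b : Fin m ⊕ Fin m} (hab : a ≠ b) (hab' : a ≠ ng b) (t : F) (x : Im (Fin m) → F) :
    Cfsg.quadFormMinus m F A B (TmL a b t *ᵥ x) = Cfsg.quadFormMinus m F A B x := by
  have _ := hab'
  rw [omng4_TmL_mulVec, sub_eq_add_neg, ← Pi.single_neg, add_assoc, omng4_Q_add, omng4_Q_add, omng4_Q_single,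
    omng4_Q_single, omng4_bM_add_right, omng4_bM_single, omng4_bM_single, omng4_bM_single, ng_ng,
    Pi.single_apply, if_neg (fun e => hab (Sum.inl.inj e).symm)]
  ring

theorem TmS_iso (a : Fin m ⊕ Fin m) (u : Kq F A B) (x : Im (Fin m) → F) :
    Cfsg.quadFormMinus m F A B (TmS a u *ᵥ x) = Cfsg.quadFormMinus m F A B x := by
  rw [omng4_TmS_mulVec, sub_eq_add_neg, ← Pi.single_neg, add_assoc, add_assoc, omng4_Q_add, omng4_Q_add, omng4_Q_add,
    omng4_Q_single, omng4_Q_single1, omng4_Q_single2, omng4_bM_add_right, omng4_bM_add_right, omng4_bM_add_right,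
    omng4_bM_single, omng4_bM_single, omng4_bM_single, omng4_bM_single1, omng4_bM_single2, omng4_bM_single2,
    nm_def]
  have e1 : (Pi.single iz1 (u.re * x (Sum.inl (ng a))) : Im (Fin m) → F) iz1 = u.re * x (Sum.inl (ng a)) :=
    Pi.single_eq_same _ _
  have e2 : (Pi.single iz1 (u.re * x (Sum.inl (ng a))) : Im (Fin m) → F) iz2 = 0 :=
    Pi.single_eq_of_ne (by intro e; have := Sum.inr.inj e; exact absurd this (by decide)) _
  have e3 : (Pi.single iz1 (u.re * x (Sum.inl (ng a))) : Im (Fin m) → F) (Sum.inl (ng a)) = 0 :=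
    Pi.single_eq_of_ne (by simp) _
  have e4 : (Pi.single iz2 (u.im * x (Sum.inl (ng a))) : Im (Fin m) → F) (Sum.inl (ng a)) = 0 :=
    Pi.single_eq_of_ne (by simp) _
  rw [e1, e2, e3, e4]
  ring

theorem EOM_iso (k : Matrix.GeneralLinearGroup (Im (Fin m)) F) (hk : k ∈ EOM m F A B) (x : Im (Fin m) → F) :
    Cfsg.quadFormMinus m F A B ((k : Matrix (Im (Fin m)) (Im (Fin m)) F) *ᵥ x) = Cfsg.quadFormMinus m F A B x := by
  revert x
  unfold EOM at hk
  induction hk using Subgroup.closure_induction with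
  | mem M hM =>
    intro x
    rcases hM with ⟨a, b, t, hab, hab', hMt⟩ | ⟨a, t, hMt⟩
    · rw [hMt]
      exact TmL_iso hab hab' t x
    · rw [hMt]
      exact TmS_iso a t x
  | one =>
    intro x
    rw [Units.val_one, Matrix.one_mulVec]
  | mul k₁ k₂ _ _ h₁ h₂ =>
    intro x
    rw [Units.val_mul, ← Matrix.mulVec_mulVec, h₁, h₂]
  | inv k₁ _ h₁ =>
    intro x
    have h := h₁ (((k₁⁻¹ : Matrix.GeneralLinearGroup (Im (Fin m)) F) : Matrix (Im (Fin m)) (Im (Fin m)) F) *ᵥ x)
    rw [Matrix.mulVec_mulVec, ← Units.val_mul, mul_inv_cancel, Units.val_one, Matrix.one_mulVec] at h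
    exact h.symm

theorem EOM_le_iso : EOM m F A B ≤ Cfsg.isometryGroup F (Cfsg.quadFormMinus m F A B) := by
  intro k hk u _
  exact EOM_iso k hk u

end G

end Cfsg.Agent.Lib.Helper12.OMN
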