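import Mathlib
import Cfsg.Agent.Lib.Helper12.OMN.Defs
import Cfsg.Agent.Lib.Helper12.OMN.Mat
import Cfsg.Agent.Lib.helper4.OMNG4
import Cfsg.Agent.Lib.Helper29.CTDM1a
import Cfsg.Agent.Lib.helper6.CTDM1c
import Cfsg.Agent.Lib.Lead.OMMO5

/-!
# Project OMN (designer helper12, matrix side of S2099), row G8 (helper4), VERBATIM:
`TmL_mem_omegaGL`, `TmS_mem_omegaGL`: the root elements `TmL a b t`, `TmS a u` are (products of) commutators of isometries, hence lie in `Ω`.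
Twin of `Helper18.OMBG8`; on `mx_comm3` of CTD through `embGLm`, and M1 `tmS`, `tmL`, M3 `TmL_TmS_ls` of `Helper12.OMN.Mat`.
-/

set_option autoImplicit false

namespace Cfsg.Agent.Lib.Helper12.OMN

open Matrix Cfsg.Agent.Lib.helper15.St2 Cfsg.Agent.Lib.helper3.STC Cfsg.Agent.Lib.Lead.STD Cfsg.Agent.Lib.helper17.STM
  Cfsg.Agent.Lib.Lead.SPN Cfsg.Agent.Lib.Helper28.CTD Cfsg.Agent.Lib.Helper28.OMM

universe u w

section G

variable {m : ℕ} {F : Type u} [Field F] {A B : F}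

theorem omng8_tmL_mem {a b : Fin m ⊕ Fin m} (hab : a ≠ b) (hab' : a ≠ ng b) (t : F) :
    (tmL a b t : Matrix.GeneralLinearGroup (Im (Fin m)) F) ∈ EOM m F A B :=
  Subgroup.subset_closure (Or.inl ⟨a, b, t, hab, hab', tmL_coe hab hab' t⟩)

theorem omng8_tmS_mem (a : Fin m ⊕ Fin m) (u : Kq F A B) :
    (tmS a u : Matrix.GeneralLinearGroup (Im (Fin m)) F) ∈ EOM m F A B :=
  Subgroup.subset_closure (Or.inr ⟨a, u, rfl⟩)

theorem omng8_tmL_inv {ι : Type w} [Fintype ι] [DecidableEq ι] {a b : ι ⊕ ι} (hab : a ≠ b) (hab' : a ≠ ng b) (t : F) :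
    (tmL a b t : Matrix.GeneralLinearGroup (Im ι) F)⁻¹ = tmL a b (-t) := by
  have h0 : (mx a b (0 : F) : Matrix.SpecialLinearGroup (ι ⊕ ι) F) = 1 := by
    unfold mx
    rw [neg_zero, ctdm1a_tv_zero, ctdm1a_tv_zero, one_mul]
  have h1 : (mx a b t : Matrix.SpecialLinearGroup (ι ⊕ ι) F)⁻¹ = mx a b (-t) := by
    apply inv_eq_of_mul_eq_one_right
    rw [mx_add a b hab hab', add_neg_cancel, h0]
  unfold tmL
  rw [← map_inv, ← map_inv, h1]

/-- a commutator of two isometries lies in `Ω` -/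
theorem omng8_comm_mem (g1 g2 : Matrix.GeneralLinearGroup (Im (Fin m)) F)
    (h1 : g1 ∈ Cfsg.isometryGroup F (Cfsg.quadFormMinus m F A B)) (h2 : g2 ∈ Cfsg.isometryGroup F (Cfsg.quadFormMinus m F A B)) :
    g1 * g2 * g1⁻¹ * g2⁻¹ ∈ Cfsg.Geo.omegaGL (Cfsg.quadFormMinus m F A B) := by
  unfold Cfsg.Geo.omegaGL
  have hMmem : g1 * g2 * g1⁻¹ * g2⁻¹ ∈ Cfsg.isometryGroup F (Cfsg.quadFormMinus m F A B) :=
    mul_mem (mul_mem (mul_mem h1 h2) (inv_mem h1)) (inv_mem h2)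
  refine ⟨⟨g1 * g2 * g1⁻¹ * g2⁻¹, hMmem⟩, ?_, rfl⟩
  have hc := Subgroup.commutator_mem_commutator (H₁ := ⊤) (H₂ := ⊤)
    (Subgroup.mem_top (⟨g1, h1⟩ : ↥(Cfsg.isometryGroup F (Cfsg.quadFormMinus m F A B))))
    (Subgroup.mem_top (⟨g2, h2⟩ : ↥(Cfsg.isometryGroup F (Cfsg.quadFormMinus m F A B))))
  rw [commutatorElement_def] at hc
  show (⟨g1 * g2 * g1⁻¹ * g2⁻¹, hMmem⟩ : ↥(Cfsg.isometryGroup F (Cfsg.quadFormMinus m F A B))) ∈
    commutator ↥(Cfsg.isometryGroup F (Cfsg.quadFormMinus m F A B))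
  rw [commutator_def]
  convert hc using 1
  apply Subtype.ext
  rfl

/-- G8 [M]  **the root elements are commutators of isometries.** -/
theorem TmL_mem_omegaGL (hm : 3 ≤ m) {a b : Fin m ⊕ Fin m} (hab : a ≠ b) (hab' : a ≠ ng b) (t : F)
    (M : Matrix.GeneralLinearGroup (Im (Fin m)) F) (hM : (M : Matrix (Im (Fin m)) (Im (Fin m)) F) = TmL a b t) :
    M ∈ Cfsg.Geo.omegaGL (Cfsg.quadFormMinus m F A B) := by
  obtain ⟨c, hac, hac', hcb, hcb'⟩ := ommo5_third hm a b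
  have h1 : (tmL a c t : Matrix.GeneralLinearGroup (Im (Fin m)) F) ∈ Cfsg.isometryGroup F (Cfsg.quadFormMinus m F A B) :=
    EOM_le_iso (omng8_tmL_mem hac hac' t)
  have h2 : (tmL c b (1 : F) : Matrix.GeneralLinearGroup (Im (Fin m)) F) ∈ Cfsg.isometryGroup F (Cfsg.quadFormMinus m F A B) :=
    EOM_le_iso (omng8_tmL_mem hcb hcb' 1)
  have hcomm : M = tmL a c t * tmL c b 1 * (tmL a c t)⁻¹ * (tmL c b 1)⁻¹ := by
    have h3 := mx_comm3 (K := F) (l := Fin m) a c b hac hac' hcb hcb' hab hab' t 1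
    rw [mul_one] at h3
    have e : (tmL a b t : Matrix.GeneralLinearGroup (Im (Fin m)) F) =
        tmL a c t * tmL c b 1 * (tmL a c t)⁻¹ * (tmL c b 1)⁻¹ := by
      unfold tmL
      rw [← h3]
      simp only [map_mul, map_inv]
    rw [← e]
    apply Units.ext
    rw [hM, tmL_coe hab hab' t]
  rw [hcomm]
  exact omng8_comm_mem _ _ h1 h2

theorem TmS_mem_omegaGL [Fact (∀ r : F, r ^ 2 ≠ -B + A * r)] (hm : 3 ≤ m) (a : Fin m ⊕ Fin m) (u : Kq F A B)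
    (M : Matrix.GeneralLinearGroup (Im (Fin m)) F) (hM : (M : Matrix (Im (Fin m)) (Im (Fin m)) F) = TmS a u) :
    M ∈ Cfsg.Geo.omegaGL (Cfsg.quadFormMinus m F A B) := by
  obtain ⟨b, hab, hab', -, -⟩ := ommo5_third hm a a
  have hanb : a ≠ ng (ng b) := by rw [ng_ng]; exact hab
  have h1 : (tmL a b (1 : F) : Matrix.GeneralLinearGroup (Im (Fin m)) F) ∈ Cfsg.isometryGroup F (Cfsg.quadFormMinus m F A B) :=
    EOM_le_iso (omng8_tmL_mem hab hab' 1)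
  have h2 : (tmS b u : Matrix.GeneralLinearGroup (Im (Fin m)) F) ∈ Cfsg.isometryGroup F (Cfsg.quadFormMinus m F A B) :=
    EOM_le_iso (omng8_tmS_mem b u)
  have hN := omng8_comm_mem _ _ h1 h2
  have h3 : (tmL a (ng b) (nm u) : Matrix.GeneralLinearGroup (Im (Fin m)) F) ∈ Cfsg.Geo.omegaGL (Cfsg.quadFormMinus m F A B) :=
    TmL_mem_omegaGL hm hab' hanb (nm u) _ (tmL_coe hab' hanb (nm u))
  have hM' : M = (tmL a b 1 * tmS b u * (tmL a b 1)⁻¹ * (tmS b u)⁻¹) * (tmL a (ng b) (nm u))⁻¹ := by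
    rw [eq_mul_inv_iff_mul_eq]
    apply Units.ext
    rw [Units.val_mul, Units.val_mul, Units.val_mul, Units.val_mul, hM, omng8_tmL_inv hab hab', tmS_inv, tmL_coe hab hab',
      tmL_coe hab hab', tmL_coe hab' hanb, tmS_coe, tmS_coe, TmL_TmS_ls hab hab' 1 u, one_smul, one_mul]
  rw [hM']
  exact mul_mem hN (inv_mem h3)

end G

end Cfsg.Agent.Lib.Helper12.OMN
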