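import Mathlib
import Cfsg.Agent.Lib.helper17.OMP.Defs
import Cfsg.Agent.Lib.Helper29.CTDL6

/-!
# Project OMP (S2295, designer helper17), row E9 (`exists_Mv3`) (helper4), VERBATIM.

A signed permutation matrix moving three indices: helper28's CTD row L6 `permN` (`Helper29.CTDL6`) with `m = 3`.
-/

set_option autoImplicit false

namespace Cfsg.Agent.Lib.helper17.OMP

open Matrix Cfsg.Agent.Lib.helper14.CTE Cfsg.Agent.Lib.helper14.CTA Cfsg.Agent.Lib.helper17.SLN Cfsg.Agent.Lib.Helper28.CTD
  Cfsg.Agent.Lib.helper3.STC Cfsg.Agent.Lib.Lead.STD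

universe u v w

section E

variable {F : Type u} [Field F] {ι : Type w} [Fintype ι] [DecidableEq ι]

/-- an index outside three given ones -/
theorem ompe9_exists_ne (h4 : 4 ≤ Fintype.card ι) (a b c : ι) : ∃ k : ι, a ≠ k ∧ b ≠ k ∧ c ≠ k := by
  classical
  by_contra hcon
  push Not at hcon
  have hsub : (Finset.univ : Finset ι) ⊆ {a, b, c} := by
    intro k _
    simp only [Finset.mem_insert, Finset.mem_singleton]
    by_cases h1 : a = k
    · exact Or.inl h1.symm
    · by_cases h2 : b = k
      · exact Or.inr (Or.inl h2.symm)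
      · exact Or.inr (Or.inr (hcon k h1 h2).symm)
  have h1 := Finset.card_le_card hsub
  have h2 : ({a, b, c} : Finset ι).card ≤ 3 := Finset.card_le_three
  rw [Finset.card_univ] at h1
  omega

/-- E9 [M]  a signed permutation matrix moving three indices. -/
theorem exists_Mv3 (h4 : 4 ≤ Fintype.card ι) (a b c a' b' c' : ι) (hab : a ≠ b) (hac : a ≠ c) (hbc : b ≠ c)
    (hab' : a' ≠ b') (hac' : a' ≠ c') (hbc' : b' ≠ c') :
    ∃ g : Matrix.SpecialLinearGroup ι F, Mv1 g a a' ∧ Mv1 g b b' ∧ Mv1 g c c' := by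
  obtain ⟨k, hk1, hk2, hk3⟩ := ompe9_exists_ne h4 a' b' c'
  have hx : Function.Injective (![a, b, c] : Fin 3 → ι) := by
    intro i j h
    fin_cases i <;> fin_cases j <;> simp at h ⊢ <;>
      first
        | exact absurd h hab | exact absurd h.symm hab
        | exact absurd h hac | exact absurd h.symm hac
        | exact absurd h hbc | exact absurd h.symm hbc
  have hy : Function.Injective (![a', b', c'] : Fin 3 → ι) := by
    intro i j h
    fin_cases i <;> fin_cases j <;> simp at h ⊢ <;>
      first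
        | exact absurd h hab' | exact absurd h.symm hab'
        | exact absurd h hac' | exact absurd h.symm hac'
        | exact absurd h hbc' | exact absurd h.symm hbc'
  have hk : ∀ i : Fin 3, (![a', b', c'] : Fin 3 → ι) i ≠ k := by
    intro i
    fin_cases i
    · exact hk1
    · exact hk2
    · exact hk3
  obtain ⟨g, hg⟩ := permN (F := F) 3 ![a, b, c] ![a', b', c'] hx hy k hk
  refine ⟨g, ⟨(hg 0).1, (hg 0).2.1⟩, ⟨(hg 1).1, (hg 1).2.1⟩, ⟨(hg 2).1, (hg 2).2.1⟩⟩

end E

end Cfsg.Agent.Lib.helper17.OMP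

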