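import Mathlib
import Cfsg.Agent.Lib.helper17.OMP.Defs
import Cfsg.Agent.Lib.Helper22.CTATVAPI

/-!
# Project OMP (S2295, designer helper17), row E11 (`blk_gen`) (helper4), VERBATIM.

The block `SL` on the complement of `{a, b}` is generated by its transvections: `g = embI Subtype.val _ A` with `A` the submatrix of `g` on
`κ = {i // i ≠ a ∧ i ≠ b}`; `A` is a product of transvections (`tv_gen` of `Helper22.CTATVAPI`), pushed forward along `embI`.
-/

set_option autoImplicit false

namespace Cfsg.Agent.Lib.helper17.OMP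

open Matrix Cfsg.Agent.Lib.helper14.CTE Cfsg.Agent.Lib.helper14.CTA Cfsg.Agent.Lib.helper17.SLN

universe u v w

section E

variable {F : Type u} [Field F] {ι : Type w} [Fintype ι] [DecidableEq ι]

/-- the entries of `embM` on the image of `f` -/
theorem ompe11_embM_apply_mem {κ : Type w} [Fintype κ] [DecidableEq κ] (f : κ → ι) (hf : Function.Injective f)
    (M : Matrix κ κ F) (x y : κ) : embM f M (f x) (f y) = M x y := by
  unfold embM
  rw [Matrix.add_apply, Matrix.mul_apply]
  have h1 : ∀ z : κ, (inclI F f * (M - 1) : Matrix ι κ F) (f x) z = (M - 1) x z := by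
    intro z
    rw [Matrix.mul_apply, Finset.sum_eq_single x]
    · simp [inclI]
    · intro c _ hc
      have : ¬ f x = f c := fun h => hc (hf h).symm
      simp [inclI, this]
    · intro h
      exact absurd (Finset.mem_univ _) h
  rw [Finset.sum_eq_single y]
  · rw [h1]
    by_cases hxy : x = y
    · subst hxy
      simp [inclI]
    · have : ¬ f x = f y := fun h => hxy (hf h)
      simp [inclI, hxy, this]
  · intro c _ hc
    have : ¬ f y = f c := fun h => hc (hf h).symm
    simp [inclI, this]
  · intro h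
    exact absurd (Finset.mem_univ _) h

/-- the rows of `embM` outside the image of `f` -/
theorem ompe11_embM_apply_row {κ : Type w} [Fintype κ] [DecidableEq κ] (f : κ → ι)
    (M : Matrix κ κ F) (i j : ι) (hi : ∀ x, i ≠ f x) : embM f M i j = (1 : Matrix ι ι F) i j := by
  unfold embM
  rw [Matrix.add_apply, Matrix.mul_apply]
  have h1 : ∀ z : κ, (inclI F f * (M - 1) : Matrix ι κ F) i z = 0 := by
    intro z
    rw [Matrix.mul_apply]
    apply Finset.sum_eq_zero
    intro c _
    simp [inclI, hi c]
  rw [Finset.sum_eq_zero, add_zero]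
  intro z _
  rw [h1, zero_mul]

/-- the columns of `embM` outside the image of `f` -/
theorem ompe11_embM_apply_col {κ : Type w} [Fintype κ] [DecidableEq κ] (f : κ → ι)
    (M : Matrix κ κ F) (i j : ι) (hj : ∀ x, j ≠ f x) : embM f M i j = (1 : Matrix ι ι F) i j := by
  unfold embM
  rw [Matrix.add_apply, Matrix.mul_apply]
  rw [Finset.sum_eq_zero, add_zero]
  intro z _
  simp [inclI, hj z]

/-- own-name copy of E10 `embI_tv` -/
theorem ompe11_embI_tv {κ : Type w} [Fintype κ] [DecidableEq κ] (f : κ → ι) (hf : Function.Injective f) (a b : κ)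
    (hab : a ≠ b) (t : F) :
    embI f hf (tv a b t : Matrix.SpecialLinearGroup κ F) = tv (f a) (f b) t := by
  classical
  have hfab : f a ≠ f b := fun h => hab (hf h)
  apply Subtype.ext
  rw [embI_coe, tv_coe hfab]
  show embM f ((tv a b t : Matrix.SpecialLinearGroup κ F) : Matrix κ κ F) = _
  rw [tv_coe hab]
  ext i j
  by_cases hi : ∃ x, i = f x
  · obtain ⟨x, rfl⟩ := hi
    by_cases hj : ∃ y, j = f y
    · obtain ⟨y, rfl⟩ := hj
      rw [ompe11_embM_apply_mem f hf]
      unfold Matrix.transvection
      rw [Matrix.add_apply, Matrix.add_apply, Matrix.one_apply, Matrix.one_apply, Matrix.single_apply,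
        Matrix.single_apply]
      have e1 : (f x = f y) ↔ (x = y) := hf.eq_iff
      have e2 : (f a = f x ∧ f b = f y) ↔ (a = x ∧ b = y) := by rw [hf.eq_iff, hf.eq_iff]
      simp only [e1, e2]
    · have hj' : ∀ y, j ≠ f y := fun y h => hj ⟨y, h⟩
      rw [ompe11_embM_apply_col f _ _ _ hj']
      unfold Matrix.transvection
      rw [Matrix.add_apply, Matrix.single_apply, if_neg, add_zero]
      rintro ⟨-, h2⟩
      exact hj' b h2.symm
  · have hi' : ∀ x, i ≠ f x := fun x h => hi ⟨x, h⟩
    rw [ompe11_embM_apply_row f _ _ _ hi']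
    unfold Matrix.transvection
    rw [Matrix.add_apply, Matrix.single_apply, if_neg, add_zero]
    rintro ⟨h1, -⟩
    exact hi' a h1.symm

/-- a matrix which is the identity outside the image of `f` (rows and columns) is a product of transvections along `f` -/
theorem ompe11_blk_aux {κ : Type w} [Fintype κ] [DecidableEq κ] (f : κ → ι) (hf : Function.Injective f)
    (g : Matrix.SpecialLinearGroup ι F)
    (hrow : ∀ i, (∀ x, i ≠ f x) → ∀ j, g.1 i j = (1 : Matrix ι ι F) i j)
    (hcol : ∀ j, (∀ x, j ≠ f x) → ∀ i, g.1 i j = (1 : Matrix ι ι F) i j) :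
    g ∈ Subgroup.closure {x : Matrix.SpecialLinearGroup ι F | ∃ (i j : κ) (t : F), i ≠ j ∧ x = tv (f i) (f j) t} := by
  classical
  have hgA : g.1 = embM f (g.1.submatrix f f) := by
    ext i j
    by_cases hi : ∃ x, i = f x
    · obtain ⟨x, rfl⟩ := hi
      by_cases hj : ∃ y, j = f y
      · obtain ⟨y, rfl⟩ := hj
        rw [ompe11_embM_apply_mem f hf]
        rfl
      · rw [ompe11_embM_apply_col f _ _ _ (fun y h => hj ⟨y, h⟩)]
        exact hcol j (fun y h => hj ⟨y, h⟩) _
    · rw [ompe11_embM_apply_row f _ _ _ (fun x h => hi ⟨x, h⟩)]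
      exact hrow i (fun x h => hi ⟨x, h⟩) _
  have hdet : (g.1.submatrix f f).det = 1 := by
    rw [← embM_det f hf (g.1.submatrix f f), ← hgA]
    exact g.2
  obtain ⟨A', hA'⟩ : ∃ A' : Matrix.SpecialLinearGroup κ F, A'.1 = g.1.submatrix f f := ⟨⟨_, hdet⟩, rfl⟩
  have hgE : g = embI f hf A' := by
    apply Subtype.ext
    rw [embI_coe, hA']
    exact hgA
  rw [hgE]
  rcases subsingleton_or_nontrivial κ with hs | hn
  · have hA1 : A' = 1 := by
      apply Subtype.ext
      ext x y
      have hxy : x = y := Subsingleton.elim x y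
      subst hxy
      rw [hA']
      show (g.1.submatrix f f) x x = (1 : Matrix κ κ F) x x
      rw [Matrix.one_apply_eq, ← Matrix.det_eq_elem_of_subsingleton (g.1.submatrix f f) x, hdet]
    rw [hA1, map_one]
    exact Subgroup.one_mem _
  · have hmem : A' ∈
        Subgroup.closure {x : Matrix.SpecialLinearGroup κ F | ∃ (i j : κ) (t : F), i ≠ j ∧ x = tv i j t} := by
      rw [tv_gen]
      exact Subgroup.mem_top _
    have hmap := Subgroup.mem_map_of_mem (embI f hf) hmem
    rw [MonoidHom.map_closure] at hmap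
    refine Subgroup.closure_mono ?_ hmap
    rintro _ ⟨x, ⟨i, j, t, hij, rfl⟩, rfl⟩
    exact ⟨i, j, t, hij, ompe11_embI_tv f hf i j hij t⟩

/-- E11 [M-L]  the block `SL` on the complement of `{a, b}` is generated by its transvections. -/
theorem blk_gen (a b : ι) (hab : a ≠ b) (g : Matrix.SpecialLinearGroup ι F) (hg : Mv g a b a b) :
    g ∈ Subgroup.closure {x : Matrix.SpecialLinearGroup ι F |
      ∃ (i j : ι) (t : F), i ≠ j ∧ i ≠ a ∧ i ≠ b ∧ j ≠ a ∧ j ≠ b ∧ x = tv i j t} := by
  classical
  obtain ⟨hca, hcb, hra, hrb⟩ := hg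
  -- rows and columns `a`, `b` of `g`
  have hcol : ∀ c : ι, (c = a ∨ c = b) → ∀ i, g.1 i c = (1 : Matrix ι ι F) i c := by
    intro c hc i
    rcases hc with rfl | rfl
    · have := congrFun hca i
      rw [Matrix.mulVec_single_one] at this
      rw [Matrix.one_apply, ← Pi.single_apply]
      exact this
    · have := congrFun hcb i
      rw [Matrix.mulVec_single_one] at this
      rw [Matrix.one_apply, ← Pi.single_apply]
      exact this
  have hrow : ∀ c : ι, (c = a ∨ c = b) → ∀ j, g.1 c j = (1 : Matrix ι ι F) c j := by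
    intro c hc j
    rcases hc with rfl | rfl
    · have := congrFun hra j
      rw [Matrix.single_one_vecMul] at this
      simpa [Matrix.one_apply, Pi.single_apply, eq_comm] using this
    · have := congrFun hrb j
      rw [Matrix.single_one_vecMul] at this
      simpa [Matrix.one_apply, Pi.single_apply, eq_comm] using this
  have hrange : ∀ i : ι, (∀ x : {i : ι // i ≠ a ∧ i ≠ b}, i ≠ x.val) → (i = a ∨ i = b) := by
    intro i hi
    by_contra hcon
    push Not at hcon
    exact hi ⟨i, hcon.1, hcon.2⟩ rfl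
  have h := ompe11_blk_aux (F := F) (κ := {i : ι // i ≠ a ∧ i ≠ b}) Subtype.val Subtype.val_injective g
    (fun i hi j => hrow i (hrange i hi) j) (fun j hj i => hcol j (hrange j hj) i)
  refine Subgroup.closure_mono ?_ h
  rintro _ ⟨i, j, t, hij, rfl⟩
  exact ⟨i.val, j.val, t, fun h => hij (Subtype.val_injective h), i.2.1, i.2.2, j.2.1, j.2.2, rfl⟩

end E

end Cfsg.Agent.Lib.helper17.OMP

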