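import Cfsg.Agent.Lib.helper7.SAP.Defs

/-!
# SAP CAR2 (`car_cover`): the coset cover in Carmichael's bound.
-/

namespace Cfsg.Agent.Lib.helper7.SAP

open Equiv

universe u

theorem sapcar2_inv {G : Type*} [Group G] (a : G) (h : a ^ 3 = 1) : a⁻¹ = a ^ 2 := by
  rw [inv_eq_iff_mul_eq_one, ← pow_succ', h]

theorem sapcar2_self_inv {G : Type*} [Group G] (a b : G) (h : (a * b) ^ 2 = 1) :
    (a * b)⁻¹ = a * b := by
  rw [inv_eq_iff_mul_eq_one, ← sq, h]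

theorem sapcar2_aba {G : Type*} [Group G] (a b : G) (h : (a * b) ^ 2 = 1) :
    a * b * a = b⁻¹ := by
  rw [eq_inv_iff_mul_eq_one, mul_assoc (a * b), ← sq, h]

/-- `X² p X = p⁻¹ X² p`. -/
theorem sapcar2_L1 {G : Type*} [Group G] (X p : G) (hX : X ^ 3 = 1) (hp : p ^ 3 = 1)
    (hXp : (X * p) ^ 2 = 1) (hpX : (p * X) ^ 2 = 1) :
    X ^ 2 * p * X = p⁻¹ * X ^ 2 * p := by
  have h1 : X * p * X = p⁻¹ := sapcar2_aba X p hXp
  have h2 : p * X * p = X⁻¹ := sapcar2_aba p X hpX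
  have h3 : X⁻¹ = X ^ 2 := sapcar2_inv X hX
  have h4 : p⁻¹ = p ^ 2 := sapcar2_inv p hp
  calc X ^ 2 * p * X = X * (X * p * X) := by rw [sq]; simp only [mul_assoc]
    _ = X * p⁻¹ := by rw [h1]
    _ = p⁻¹ * (p * X * p) * p := by
      simp only [mul_assoc, inv_mul_cancel_left]; rw [← sq, ← h4]
    _ = p⁻¹ * X ^ 2 * p := by rw [h2, h3]

/-- `X q = q⁻¹ X²`. -/
theorem sapcar2_L2 {G : Type*} [Group G] (X q : G) (hX : X ^ 3 = 1)
    (hXq : (X * q) ^ 2 = 1) : X * q = q⁻¹ * X ^ 2 := by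
  have h := sapcar2_self_inv X q hXq
  rw [mul_inv_rev, sapcar2_inv X hX] at h
  exact h.symm

/-- `X² p p = p X`. -/
theorem sapcar2_L3 {G : Type*} [Group G] (X p : G) (hX : X ^ 3 = 1) (hp : p ^ 3 = 1)
    (hpX : (p * X) ^ 2 = 1) : X ^ 2 * p * p = p * X := by
  have h := sapcar2_self_inv p X hpX
  rw [mul_inv_rev, sapcar2_inv X hX, sapcar2_inv p hp] at h
  rw [mul_assoc, ← sq]
  exact h

/-- `X² p q = q p⁻¹ X² p`. -/
theorem sapcar2_L4 {G : Type*} [Group G] (X p q : G) (hX : X ^ 3 = 1) (hp : p ^ 3 = 1)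
    (hpq : (p * q) ^ 2 = 1) (hpX : (p * X) ^ 2 = 1) (hXq : (X * q) ^ 2 = 1) :
    X ^ 2 * p * q = q * p⁻¹ * X ^ 2 * p := by
  have h1 : p * q * p = q⁻¹ := sapcar2_aba p q hpq
  have h2 : (p * X)⁻¹ = p * X := sapcar2_self_inv p X hpX
  have h3 : (X * q)⁻¹ = X * q := sapcar2_self_inv X q hXq
  have h4 : p⁻¹ = p ^ 2 := sapcar2_inv p hp
  have h5 : X⁻¹ = X ^ 2 := sapcar2_inv X hX
  -- key : p q p⁻¹ X = X q p⁻¹
  have key : p * q * p⁻¹ * X = X * q * p⁻¹ := by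
    calc p * q * p⁻¹ * X = (p * q * p) * (p * X) := by rw [h4, sq]; simp only [mul_assoc]
      _ = q⁻¹ * (p * X)⁻¹ := by rw [h1, h2]
      _ = (X * q)⁻¹ * p⁻¹ := by simp only [mul_inv_rev, mul_assoc]
      _ = X * q * p⁻¹ := by rw [h3]
  -- X⁻¹ p q = q p⁻¹ X⁻¹ p
  rw [← h5]
  have : p * q = X * (q * p⁻¹ * X⁻¹ * p) := by
    have := congrArg (fun t => t * X⁻¹ * p) key
    simp only [mul_assoc, mul_inv_cancel, mul_one, inv_mul_cancel] at this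
    rw [this]; simp only [mul_assoc]
  calc X⁻¹ * p * q = X⁻¹ * (p * q) := by rw [mul_assoc]
    _ = X⁻¹ * (X * (q * p⁻¹ * X⁻¹ * p)) := by rw [this]
    _ = q * p⁻¹ * X⁻¹ * p := by rw [inv_mul_cancel_left]

theorem sapcar2_step {G : Type u} [Group G] {ι : Type*} (x : ι → G) (h : CarRel x) (i₀ : ι)
    (g : G) (j : ι)
    (hg : ∃ h' ∈ Subgroup.closure (x '' {i | i ≠ i₀}),
      g = h' ∨ g = h' * x i₀ ∨ g = h' * x i₀ ^ 2 ∨ ∃ i, i ≠ i₀ ∧ g = h' * x i₀ ^ 2 * x i) :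
    ∃ h' ∈ Subgroup.closure (x '' {i | i ≠ i₀}),
      g * x j = h' ∨ g * x j = h' * x i₀ ∨ g * x j = h' * x i₀ ^ 2 ∨
        ∃ i, i ≠ i₀ ∧ g * x j = h' * x i₀ ^ 2 * x i := by
  obtain ⟨h3, h2⟩ := h
  have hmem : ∀ i, i ≠ i₀ → x i ∈ Subgroup.closure (x '' {i | i ≠ i₀}) :=
    fun i hi => Subgroup.subset_closure ⟨i, hi, rfl⟩
  obtain ⟨h', hh', hcase⟩ := hg
  by_cases hj : j = i₀
  · subst hj
    rcases hcase with hg | rfl | rfl | ⟨i, hi, rfl⟩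
    · exact ⟨h', hh', Or.inr (Or.inl (by rw [hg]))⟩
    · refine ⟨h', hh', Or.inr (Or.inr (Or.inl ?_))⟩
      rw [mul_assoc, ← sq]
    · refine ⟨h', hh', Or.inl ?_⟩
      rw [mul_assoc, ← pow_succ, h3, mul_one]
    · refine ⟨h' * (x i)⁻¹, mul_mem hh' (inv_mem (hmem i hi)), Or.inr (Or.inr (Or.inr ⟨i, hi, ?_⟩))⟩
      have := sapcar2_L1 (x j) (x i) (h3 j) (h3 i) (h2 j i (Ne.symm hi)) (h2 i j hi)
      calc h' * x j ^ 2 * x i * x j = h' * (x j ^ 2 * x i * x j) := by simp only [mul_assoc]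
        _ = h' * ((x i)⁻¹ * x j ^ 2 * x i) := by rw [this]
        _ = h' * (x i)⁻¹ * x j ^ 2 * x i := by simp only [mul_assoc]
  · rcases hcase with hg | rfl | rfl | ⟨i, hi, rfl⟩
    · exact ⟨h' * x j, mul_mem hh' (hmem j hj), Or.inl (by rw [hg])⟩
    · refine ⟨h' * (x j)⁻¹, mul_mem hh' (inv_mem (hmem j hj)), Or.inr (Or.inr (Or.inl ?_))⟩
      have := sapcar2_L2 (x i₀) (x j) (h3 i₀) (h2 i₀ j (Ne.symm hj))
      calc h' * x i₀ * x j = h' * (x i₀ * x j) := by rw [mul_assoc]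
        _ = h' * ((x j)⁻¹ * x i₀ ^ 2) := by rw [this]
        _ = h' * (x j)⁻¹ * x i₀ ^ 2 := by rw [mul_assoc]
    · exact ⟨h', hh', Or.inr (Or.inr (Or.inr ⟨j, hj, rfl⟩))⟩
    · by_cases hji : j = i
      · subst hji
        refine ⟨h' * x j, mul_mem hh' (hmem j hj), Or.inr (Or.inl ?_)⟩
        have := sapcar2_L3 (x i₀) (x j) (h3 i₀) (h3 j) (h2 j i₀ hj)
        calc h' * x i₀ ^ 2 * x j * x j = h' * (x i₀ ^ 2 * x j * x j) := by simp only [mul_assoc]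
          _ = h' * (x j * x i₀) := by rw [this]
          _ = h' * x j * x i₀ := by rw [mul_assoc]
      · refine ⟨h' * (x j * (x i)⁻¹), mul_mem hh' (mul_mem (hmem j hj) (inv_mem (hmem i hi))),
          Or.inr (Or.inr (Or.inr ⟨i, hi, ?_⟩))⟩
        have := sapcar2_L4 (x i₀) (x i) (x j) (h3 i₀) (h3 i) (h2 i j (Ne.symm hji)) (h2 i i₀ hi)
          (h2 i₀ j (Ne.symm hj))
        calc h' * x i₀ ^ 2 * x i * x j = h' * (x i₀ ^ 2 * x i * x j) := by simp only [mul_assoc]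
          _ = h' * (x j * (x i)⁻¹ * x i₀ ^ 2 * x i) := by rw [this]
          _ = h' * (x j * (x i)⁻¹) * x i₀ ^ 2 * x i := by simp only [mul_assoc]

/-- CAR2 [M]: the coset cover (see header). -/
theorem car_cover {G : Type u} [Group G] {ι : Type*} (x : ι → G) (h : CarRel x) (i₀ : ι)
    (g : G) (hg : g ∈ Subgroup.closure (Set.range x)) :
    ∃ h' ∈ Subgroup.closure (x '' {i | i ≠ i₀}),
      g = h' ∨ g = h' * x i₀ ∨ g = h' * x i₀ ^ 2 ∨ ∃ i, i ≠ i₀ ∧ g = h' * x i₀ ^ 2 * x i := by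
  induction hg using Subgroup.closure_induction_right with
  | one => exact ⟨1, one_mem _, Or.inl rfl⟩
  | mul_right g y hg hy ih =>
    obtain ⟨j, rfl⟩ := hy
    exact sapcar2_step x h i₀ g j ih
  | mul_inv_cancel g y hg hy ih =>
    obtain ⟨j, rfl⟩ := hy
    have e : (x j)⁻¹ = x j * x j := by rw [sapcar2_inv (x j) (h.1 j), sq]
    rw [e, ← mul_assoc]
    exact sapcar2_step x h i₀ (g * x j) j (sapcar2_step x h i₀ g j ih)

end Cfsg.Agent.Lib.helper7.SAP
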