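import Cfsg.Agent.Lib.helper7.SAP.Defs
import Cfsg.Agent.Lib.helper4.SAPCAR2

/-!
# SAP CAR3 (`car_card_le`): Carmichael's bound.
-/

namespace Cfsg.Agent.Lib.helper7.SAP

open Equiv

universe u v

/-- the map whose range covers `closure (range x)` -/
def sapcar3_f {G : Type u} [Group G] {ι : Type v} (x : ι → G) (i₀ : ι) :
    (Subgroup.closure (x '' {i | i ≠ i₀})) × (Fin 3 ⊕ {i : ι // i ≠ i₀}) → G
  | (h, Sum.inl 0) => h
  | (h, Sum.inl 1) => h * x i₀
  | (h, Sum.inl 2) => h * x i₀ ^ 2
  | (h, Sum.inr i) => h * x i₀ ^ 2 * x i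

theorem sapcar3_sub {G : Type u} [Group G] {ι : Type v} (x : ι → G) (h : CarRel x) (i₀ : ι) :
    (Subgroup.closure (Set.range x) : Set G) ⊆ Set.range (sapcar3_f x i₀) := by
  intro g hg
  obtain ⟨h', hh', hc⟩ := car_cover x h i₀ g hg
  rcases hc with hc | hc | hc | ⟨i, hi, hc⟩
  · exact ⟨(⟨h', hh'⟩, Sum.inl 0), hc.symm⟩
  · exact ⟨(⟨h', hh'⟩, Sum.inl 1), hc.symm⟩
  · exact ⟨(⟨h', hh'⟩, Sum.inl 2), hc.symm⟩
  · exact ⟨(⟨h', hh'⟩, Sum.inr ⟨i, hi⟩), hc.symm⟩

theorem sapcar3_aux {G : Type u} [Group G] : ∀ (n : ℕ) (ι : Type v) [Finite ι] (x : ι → G),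
    CarRel x → Nat.card ι = n →
    Finite (Subgroup.closure (Set.range x)) ∧
      2 * Nat.card (Subgroup.closure (Set.range x)) ≤ (n + 2).factorial := by
  intro n
  induction n with
  | zero =>
    intro ι _ x _ hn
    have hemp : IsEmpty ι := by
      rcases (Finite.card_eq_zero_iff (α := ι)).1 hn with h
      exact h
    have hr : Set.range x = ∅ := Set.range_eq_empty x
    rw [hr, Subgroup.closure_empty]
    refine ⟨inferInstance, ?_⟩
    rw [Subgroup.card_bot]
    decide
  | succ n ih =>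
    intro ι _ x h hn
    have hne : Nonempty ι := by
      by_contra hcon
      rw [not_nonempty_iff] at hcon
      rw [Nat.card_of_isEmpty] at hn
      omega
    obtain ⟨i₀⟩ := hne
    classical
    -- the restricted family
    have hcard : Nat.card {i : ι // i ≠ i₀} = n := by
      have e : Option {i : ι // i ≠ i₀} ≃ ι := Equiv.optionSubtypeNe i₀
      have := Nat.card_congr e
      rw [Finite.card_option, hn] at this
      omega
    have hrel : CarRel (fun i : {i : ι // i ≠ i₀} => x i) :=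
      ⟨fun i => h.1 i, fun i j hij => h.2 i j (fun hh => hij (Subtype.ext hh))⟩
    have hrange : Set.range (fun i : {i : ι // i ≠ i₀} => x i) = x '' {i | i ≠ i₀} := by
      ext g
      constructor
      · rintro ⟨⟨i, hi⟩, rfl⟩
        exact ⟨i, hi, rfl⟩
      · rintro ⟨i, hi, rfl⟩
        exact ⟨⟨i, hi⟩, rfl⟩
    obtain ⟨hfin, hle⟩ := ih {i : ι // i ≠ i₀} (fun i => x i) hrel hcard
    rw [hrange] at hfin hle
    have hsub := sapcar3_sub x h i₀
    have hfinT : Finite ((Subgroup.closure (x '' {i | i ≠ i₀})) × (Fin 3 ⊕ {i : ι // i ≠ i₀})) :=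
      inferInstance
    have hfr : (Set.range (sapcar3_f x i₀)).Finite := Set.finite_range _
    have hfinK : Finite (Subgroup.closure (Set.range x)) := (hfr.subset hsub).to_subtype
    refine ⟨hfinK, ?_⟩
    have h1 : Nat.card (Subgroup.closure (Set.range x)) ≤
        Nat.card (Set.range (sapcar3_f x i₀)) := Nat.card_mono hfr hsub
    have h2 : Nat.card (Set.range (sapcar3_f x i₀)) ≤
        Nat.card ((Subgroup.closure (x '' {i | i ≠ i₀})) × (Fin 3 ⊕ {i : ι // i ≠ i₀})) :=
      Finite.card_range_le _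
    have h3 : Nat.card ((Subgroup.closure (x '' {i | i ≠ i₀})) × (Fin 3 ⊕ {i : ι // i ≠ i₀})) =
        Nat.card (Subgroup.closure (x '' {i | i ≠ i₀})) * (n + 3) := by
      rw [Nat.card_prod, Nat.card_sum, hcard, Nat.card_fin]
      ring
    have h4 : (n + 1 + 2).factorial = (n + 3) * (n + 2).factorial := by
      rw [show n + 1 + 2 = (n + 2) + 1 from by ring, Nat.factorial_succ]
    rw [h4]
    calc 2 * Nat.card (Subgroup.closure (Set.range x))
        ≤ 2 * (Nat.card (Subgroup.closure (x '' {i | i ≠ i₀})) * (n + 3)) := by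
          apply Nat.mul_le_mul_left
          exact h1.trans (h2.trans h3.le)
      _ = (n + 3) * (2 * Nat.card (Subgroup.closure (x '' {i | i ≠ i₀}))) := by ring
      _ ≤ (n + 3) * (n + 2).factorial := Nat.mul_le_mul_left _ hle

/-- CAR3 [M]: Carmichael's bound (induction on `Nat.card ι`, CAR2). -/
theorem car_card_le {G : Type u} [Group G] {ι : Type*} [Finite ι] (x : ι → G) (h : CarRel x) :
    Finite (Subgroup.closure (Set.range x)) ∧
      2 * Nat.card (Subgroup.closure (Set.range x)) ≤ (Nat.card ι + 2).factorial :=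
  sapcar3_aux (Nat.card ι) ι x h rfl

end Cfsg.Agent.Lib.helper7.SAP
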