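import Cfsg.Agent.Lib.helper17.SL3.Defs
import Cfsg.Agent.Lib.helper17.SL3.Defs2

/-!
# SL3 row E8 (`cell_2`): the cells `B n2 B n1 B = B n2 n1 B`, `B n2 B n1 n2 B = B n2 n1 n2 B`.

Extra: `sl3e8_push` (`n2 * g = β * y' * n2` with `β ∈ B`, `y' ∈ X21`).
-/

set_option autoImplicit false

namespace Cfsg.Agent.Lib.helper17.SL3

open Cfsg.Agent.Lib.helper17.SLP
open Polynomial

universe u v

section E

variable {G : Type u} [Group G]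

variable (q : ℕ) (T X01 X02 X12 X10 X21 : Subgroup G) (n1 n2 : G)

/-- `n2 * g = β * y' * n2` with `β ∈ B`, `y' ∈ X21`, for `g ∈ B`. -/
theorem sl3e8_push (D : RD q T X01 X02 X12 X10 X21 n1 n2) (B : Subgroup G)
    (hT : T ≤ B) (h01 : X01 ≤ B) (h02 : X02 ≤ B)
    (hB : ∀ g, g ∈ B ↔ ∃ b ∈ X12, ∃ τ ∈ T, ∃ a ∈ X01, ∃ z ∈ X02, g = b * τ * a * z) :
    ∀ g ∈ B, ∃ β ∈ B, ∃ y' ∈ X21, n2 * g = β * y' * n2 := by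
  intro g hg
  obtain ⟨b, hb, τ, hτ, a, ha, z, hz, rfl⟩ := (hB g).1 hg
  -- the conjugates
  have hy : n2 * b * n2⁻¹ ∈ X21 := D.n2a b hb
  have hτ' : n2 * τ * n2⁻¹ ∈ T := D.n2T τ hτ
  have hz' : n2 * a * n2⁻¹ ∈ X02 := D.n2b a ha
  have ha' : n2 * z * n2⁻¹ ∈ X01 := D.n2c z hz
  set y := n2 * b * n2⁻¹ with hydef
  set τ' := n2 * τ * n2⁻¹ with hτdef
  set z' := n2 * a * n2⁻¹ with hzdef
  set a' := n2 * z * n2⁻¹ with hadef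
  -- `y' = τ'⁻¹ y τ'`
  have hy' : τ'⁻¹ * y * τ'⁻¹⁻¹ ∈ X21 := D.t21 τ'⁻¹ (T.inv_mem hτ') y hy
  set y' := τ'⁻¹ * y * τ'⁻¹⁻¹ with hy'def
  have hc : y' * z' * y'⁻¹ * z'⁻¹ ∈ X01 := D.m4 y' hy' z' hz'
  have hcomm : y' * a' = a' * y' := D.m3 y' hy' a' ha'
  refine ⟨τ' * (y' * z' * y'⁻¹ * z'⁻¹) * z' * a', ?_, y', hy', ?_⟩
  · exact B.mul_mem (B.mul_mem (B.mul_mem (hT hτ') (h01 hc)) (h02 hz')) (h01 ha')
  · have h1 : n2 * (b * τ * a * z) = y * τ' * z' * a' * n2 := by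
      rw [hydef, hτdef, hzdef, hadef]; group
    have h2 : y * τ' = τ' * y' := by rw [hy'def]; group
    have h3 : y' * z' = (y' * z' * y'⁻¹ * z'⁻¹) * z' * y' := by group
    calc n2 * (b * τ * a * z) = y * τ' * z' * a' * n2 := h1
      _ = τ' * y' * z' * a' * n2 := by rw [h2]
      _ = τ' * (y' * z') * a' * n2 := by simp only [mul_assoc]
      _ = τ' * ((y' * z' * y'⁻¹ * z'⁻¹) * z' * y') * a' * n2 := by rw [← h3]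
      _ = τ' * (y' * z' * y'⁻¹ * z'⁻¹) * z' * (y' * a') * n2 := by simp only [mul_assoc]
      _ = τ' * (y' * z' * y'⁻¹ * z'⁻¹) * z' * (a' * y') * n2 := by rw [hcomm]
      _ = τ' * (y' * z' * y'⁻¹ * z'⁻¹) * z' * a' * y' * n2 := by simp only [mul_assoc]

/-- E8 [M] -/
theorem cell_2 (D : RD q T X01 X02 X12 X10 X21 n1 n2) (B : Subgroup G)
    (hT : T ≤ B) (h01 : X01 ≤ B) (h02 : X02 ≤ B) (h12 : X12 ≤ B)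
    (hB : ∀ g, g ∈ B ↔ ∃ b ∈ X12, ∃ τ ∈ T, ∃ a ∈ X01, ∃ z ∈ X02, g = b * τ * a * z) :
    (∀ g ∈ B, ∃ b₁ ∈ B, ∃ b₂ ∈ B, n2 * g * n1 = b₁ * (n2 * n1) * b₂) ∧
      ∀ g ∈ B, ∃ b₁ ∈ B, ∃ b₂ ∈ B, n2 * g * (n1 * n2) = b₁ * (n2 * n1 * n2) * b₂ := by
  constructor
  · intro g hg
    obtain ⟨β, hβ, y', hy', hgy⟩ := sl3e8_push q T X01 X02 X12 X10 X21 n1 n2 D B hT h01 h02 hB g hg
    have h1 : n2⁻¹ * y' * n2 ∈ X12 := D.n2a' y' hy'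
    have h2 : n1⁻¹ * (n2⁻¹ * y' * n2) * n1 ∈ X02 := D.n1b' _ h1
    refine ⟨β, hβ, n1⁻¹ * (n2⁻¹ * y' * n2) * n1, h02 h2, ?_⟩
    rw [hgy]; group
  · intro g hg
    obtain ⟨β, hβ, y', hy', hgy⟩ := sl3e8_push q T X01 X02 X12 X10 X21 n1 n2 D B hT h01 h02 hB g hg
    have h1 : n2⁻¹ * y' * n2 ∈ X12 := D.n2a' y' hy'
    have h2 : n1⁻¹ * (n2⁻¹ * y' * n2) * n1 ∈ X02 := D.n1b' _ h1
    have h3 : n2⁻¹ * (n1⁻¹ * (n2⁻¹ * y' * n2) * n1) * n2 ∈ X01 := D.n2c' _ h2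
    refine ⟨β, hβ, n2⁻¹ * (n1⁻¹ * (n2⁻¹ * y' * n2) * n1) * n2, h01 h3, ?_⟩
    rw [hgy]; group

end E

end Cfsg.Agent.Lib.helper17.SL3
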