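import Cfsg.Agent.Lib.helper17.SL3.Defs
import Cfsg.Agent.Lib.helper17.SL3.Defs2

/-!
# SL3 row E9 (`cover_B`): `n1 * B ⊆ B * n1 * X01`, `n2 * B ⊆ B * n2 * X12`.
-/

set_option autoImplicit false

namespace Cfsg.Agent.Lib.helper17.SL3

open Cfsg.Agent.Lib.helper17.SLP
open Polynomial

universe u v

section E

variable {G : Type u} [Group G]

variable (q : ℕ) (T X01 X02 X12 X10 X21 : Subgroup G) (n1 n2 : G)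

/-- E9 [S-M] -/
theorem cover_B (D : RD q T X01 X02 X12 X10 X21 n1 n2) (B : Subgroup G)
    (hT : T ≤ B) (h01 : X01 ≤ B) (h02 : X02 ≤ B) (h12 : X12 ≤ B)
    (hB1 : ∀ g, g ∈ B ↔ ∃ τ ∈ T, ∃ z ∈ X02, ∃ b ∈ X12, ∃ a ∈ X01, g = τ * z * b * a)
    (hB2 : ∀ g, g ∈ B ↔ ∃ τ ∈ T, ∃ a ∈ X01, ∃ z ∈ X02, ∃ b ∈ X12, g = τ * a * z * b) :
    (∀ g ∈ B, ∃ b ∈ B, ∃ y ∈ (X01 : Set G), n1 * g = b * n1 * y) ∧
      ∀ g ∈ B, ∃ b ∈ B, ∃ y ∈ (X12 : Set G), n2 * g = b * n2 * y := by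
  constructor
  · intro g hg
    obtain ⟨τ, hτ, z, hz, b, hb, a, ha, rfl⟩ := (hB1 g).1 hg
    refine ⟨(n1 * τ * n1⁻¹) * (n1 * z * n1⁻¹) * (n1 * b * n1⁻¹), ?_, a, ha, by group⟩
    exact B.mul_mem (B.mul_mem (hT (D.n1T τ hτ)) (h12 (D.n1b z hz))) (h02 (D.n1c b hb))
  · intro g hg
    obtain ⟨τ, hτ, a, ha, z, hz, b, hb, rfl⟩ := (hB2 g).1 hg
    refine ⟨(n2 * τ * n2⁻¹) * (n2 * a * n2⁻¹) * (n2 * z * n2⁻¹), ?_, b, hb, by group⟩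
    exact B.mul_mem (B.mul_mem (hT (D.n2T τ hτ)) (h02 (D.n2b a ha))) (h01 (D.n2c z hz))

end E

end Cfsg.Agent.Lib.helper17.SL3
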