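import Cfsg.Agent.Lib.helper17.SL3.Defs
import Cfsg.Agent.Lib.helper17.SL3.Defs2
import Cfsg.Agent.Lib.Helper27.SLPK1

/-!
# SL3 row T1 (`hyp_basic`): the first consequences of `Hyp`.
-/

set_option autoImplicit false

namespace Cfsg.Agent.Lib.helper17.SL3

open Cfsg.Agent.Lib.helper17.SLP
open Polynomial

universe u v

section T

variable {F : Type u} [Field F] {G : Type v} [Group G]

/-- T1 [S] -/
theorem hyp_basic (ζ : Fˣ) (x : F → G) (d w c : G) (H : Hyp ζ x d w c) :
    x 0 = 1 ∧ (∀ t, x (-t) = (x t)⁻¹) ∧ (∀ s t, Commute (x s) (x t)) ∧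
      ∀ (i : ℤ) (t : F), d ^ i * x t * d ^ (-i) = x (((ζ ^ i : Fˣ) : F) * t) := by
  have h0 : x 0 = 1 := by
    have h := H.add 0 0
    rw [add_zero] at h
    exact mul_left_cancel (h.symm.trans (mul_one _).symm)
  refine ⟨h0, ?_, ?_, ?_⟩
  · intro t
    apply eq_inv_of_mul_eq_one_left
    rw [← H.add, neg_add_cancel, h0]
  · intro s t
    show x s * x t = x t * x s
    rw [← H.add, ← H.add, add_comm]
  · intro i t
    rw [slpk1_conj_zpow (ζ : F) ζ.ne_zero x d H.dconj i t, Units.val_zpow_eq_zpow_val]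

end T

end Cfsg.Agent.Lib.helper17.SL3
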