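import Cfsg.Agent.Lib.helper4.SL3T1

/-!
# SL3 row T2 (`hyp_x_unit`): `x t`, `t ≠ 0`, is a `d`-conjugate of `x 1`.
-/

set_option autoImplicit false

namespace Cfsg.Agent.Lib.helper17.SL3

open Cfsg.Agent.Lib.helper17.SLP
open Polynomial

universe u v

section T

variable {F : Type u} [Field F] {G : Type v} [Group G]

/-- T2 [S] -/
theorem hyp_x_unit (ζ : Fˣ) (hζ : ∀ y : Fˣ, y ∈ Subgroup.zpowers ζ) (x : F → G) (d w c : G)
    (H : Hyp ζ x d w c) (t : F) (ht : t ≠ 0) :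
    ∃ i : ℤ, t = ((ζ ^ i : Fˣ) : F) ∧ x t = d ^ i * x 1 * d ^ (-i) := by
  obtain ⟨i, hi⟩ := Subgroup.mem_zpowers_iff.1 (hζ (Units.mk0 t ht))
  have hti : t = ((ζ ^ i : Fˣ) : F) := by rw [hi]; rfl
  refine ⟨i, hti, ?_⟩
  rw [(hyp_basic ζ x d w c H).2.2.2 i 1, mul_one, ← hti]

end T

end Cfsg.Agent.Lib.helper17.SL3
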