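import Mathlib
import Cfsg.Agent.Lib.Helper1.SLN.Defs

/-!
# SL7 (Helper1 skeleton `Helper1/SLN/Skel`) block P: P0 `exists_perm4`, P1 `exists_sig2`,
P2 `exists_sig3`, P3 `exists_sig4`, verbatim.
-/

set_option autoImplicit false

namespace Cfsg.Agent.Lib.Helper1.SLN

open Matrix Equiv
open Cfsg.Agent.Lib.helper17.SLP

universe u v

/-- a permutation of a finite type carrying one injective family to another -/
theorem sl7p0_extend {α : Type*} [Fintype α] [DecidableEq α] {k : ℕ} (g f : Fin k → α)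
    (hg : Function.Injective g) (hf : Function.Injective f) :
    ∃ π : Equiv.Perm α, ∀ a, π (g a) = f a := by
  classical
  let e : {x // x ∈ Set.range g} ≃ {x // x ∈ Set.range f} :=
    (Equiv.ofInjective g hg).symm.trans (Equiv.ofInjective f hf)
  refine ⟨e.extendSubtype, fun a => ?_⟩
  rw [Equiv.extendSubtype_apply_of_mem e (g a) ⟨a, rfl⟩]
  have h1 : (Equiv.ofInjective g hg).symm ⟨g a, ⟨a, rfl⟩⟩ = a := by
    rw [Equiv.symm_apply_eq]
    rfl
  show ((Equiv.ofInjective f hf) ((Equiv.ofInjective g hg).symm ⟨g a, ⟨a, rfl⟩⟩) : α) = f a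
  rw [h1]
  rfl

/-- P0 [M]  Any injective `f : Fin 4 → Fin (M + 4)` extends to a permutation. -/
theorem exists_perm4 (M : ℕ) (f : Fin 4 → Fin (M + 4)) (hf : Function.Injective f) :
    ∃ π : Equiv.Perm (Fin (M + 4)), π (i0 M) = f 0 ∧ π (i1 M) = f 1 ∧ π (i2 M) = f 2 ∧ π (i3 M) = f 3 := by
  have h4 : 4 ≤ M + 4 := by omega
  obtain ⟨π, hπ⟩ := sl7p0_extend (Fin.castLE h4) f (Fin.castLE_injective h4) hf
  exact ⟨π, hπ 0, hπ 1, hπ 2, hπ 3⟩

/-- an element outside a small finset -/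
theorem sl7p0_exists_notMem (M : ℕ) (S : Finset (Fin (M + 4))) (hS : S.card < M + 4) :
    ∃ x, x ∉ S := by
  by_contra h
  push_neg at h
  have : S = Finset.univ := Finset.eq_univ_iff_forall.2 h
  rw [this, Finset.card_univ, Fintype.card_fin] at hS
  omega

/-- a fourth index -/
theorem sl7p0_fourth (M : ℕ) (i j k : Fin (M + 4)) :
    ∃ l, l ≠ i ∧ l ≠ j ∧ l ≠ k := by
  obtain ⟨l, hl⟩ := sl7p0_exists_notMem M {i, j, k}
    (lt_of_le_of_lt Finset.card_le_three (by omega))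
  simp only [Finset.mem_insert, Finset.mem_singleton, not_or] at hl
  exact ⟨l, hl.1, hl.2.1, hl.2.2⟩

/-- a permutation with prescribed values at the four special indices -/
theorem sl7p0_perm4 (M : ℕ) (i j k l : Fin (M + 4)) (hij : i ≠ j) (hik : i ≠ k) (hil : i ≠ l)
    (hjk : j ≠ k) (hjl : j ≠ l) (hkl : k ≠ l) :
    ∃ π : Equiv.Perm (Fin (M + 4)), π (i0 M) = i ∧ π (i1 M) = j ∧ π (i2 M) = k ∧ π (i3 M) = l := by
  have hf : Function.Injective (![i, j, k, l] : Fin 4 → Fin (M + 4)) := by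
    intro a b hab
    fin_cases a <;> fin_cases b <;> simp_all
  obtain ⟨π, h0, h1, h2, h3⟩ := exists_perm4 M ![i, j, k, l] hf
  exact ⟨π, h0, h1, h2, h3⟩

/-- P1 [S-M]  an even permutation with `σ (0, 1) = (i, j)`. -/
theorem exists_sig2 (M : ℕ) (i j : Fin (M + 4)) (hij : i ≠ j) :
    ∃ σ : alternatingGroup (Fin (M + 4)),
      (σ : Equiv.Perm (Fin (M + 4))) (i0 M) = i ∧ (σ : Equiv.Perm (Fin (M + 4))) (i1 M) = j := by
  obtain ⟨k, hki, hkj, -⟩ := sl7p0_fourth M i j j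
  obtain ⟨l, hli, hlj, hlk⟩ := sl7p0_fourth M i j k
  obtain ⟨π, h0, h1, h2, h3⟩ := sl7p0_perm4 M i j k l hij hki.symm hli.symm hkj.symm hlj.symm hlk.symm
  rcases Int.units_eq_one_or (Equiv.Perm.sign π) with hs | hs
  · exact ⟨⟨π, Equiv.Perm.mem_alternatingGroup.2 hs⟩, h0, h1⟩
  · refine ⟨⟨π * swap (i2 M) (i3 M), ?_⟩, ?_, ?_⟩
    · rw [Equiv.Perm.mem_alternatingGroup, Equiv.Perm.sign_mul, hs, Equiv.Perm.sign_swap (i23 M)]
      norm_num
    · show (π * swap (i2 M) (i3 M)) (i0 M) = i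
      rw [Equiv.Perm.mul_apply, Equiv.swap_apply_of_ne_of_ne (i02 M) (i03 M), h0]
    · show (π * swap (i2 M) (i3 M)) (i1 M) = j
      rw [Equiv.Perm.mul_apply, Equiv.swap_apply_of_ne_of_ne (i12 M) (i13 M), h1]

/-- P2 [S-M]  an even permutation carrying `(0, 1, 2)` or `(1, 0, 2)` to `(i, j, k)`. -/
theorem exists_sig3 (M : ℕ) (i j k : Fin (M + 4)) (hij : i ≠ j) (hjk : j ≠ k) (hik : i ≠ k) :
    ∃ (σ : alternatingGroup (Fin (M + 4))) (a b c : Fin 3), a ≠ b ∧ b ≠ c ∧ a ≠ c ∧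
      (σ : Equiv.Perm (Fin (M + 4))) (inc M a) = i ∧ (σ : Equiv.Perm (Fin (M + 4))) (inc M b) = j ∧
      (σ : Equiv.Perm (Fin (M + 4))) (inc M c) = k := by
  obtain ⟨l, hli, hlj, hlk⟩ := sl7p0_fourth M i j k
  obtain ⟨π, h0, h1, h2, h3⟩ := sl7p0_perm4 M i j k l hij hik hli.symm hjk hlj.symm hlk.symm
  rcases Int.units_eq_one_or (Equiv.Perm.sign π) with hs | hs
  · refine ⟨⟨π, Equiv.Perm.mem_alternatingGroup.2 hs⟩, 0, 1, 2, by decide, by decide, by decide,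
      ?_, ?_, ?_⟩
    · rw [inc_zero]; exact h0
    · rw [inc_one]; exact h1
    · rw [inc_two]; exact h2
  · refine ⟨⟨π * swap (i0 M) (i1 M), ?_⟩, 1, 0, 2, by decide, by decide, by decide, ?_, ?_, ?_⟩
    · rw [Equiv.Perm.mem_alternatingGroup, Equiv.Perm.sign_mul, hs, Equiv.Perm.sign_swap (i01 M)]
      norm_num
    · rw [inc_one]
      show (π * swap (i0 M) (i1 M)) (i1 M) = i
      rw [Equiv.Perm.mul_apply, Equiv.swap_apply_right, h0]
    · rw [inc_zero]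
      show (π * swap (i0 M) (i1 M)) (i0 M) = j
      rw [Equiv.Perm.mul_apply, Equiv.swap_apply_left, h1]
    · rw [inc_two]
      show (π * swap (i0 M) (i1 M)) (i2 M) = k
      rw [Equiv.Perm.mul_apply, Equiv.swap_apply_of_ne_of_ne (i02 M).symm (i12 M).symm, h2]

/-- P3 [S-M]  an even permutation carrying `(0, 1, 2, 3)` or `(1, 0, 2, 3)` to `(i, j, k, l)`. -/
theorem exists_sig4 (M : ℕ) (i j k l : Fin (M + 4)) (hij : i ≠ j) (hik : i ≠ k) (hil : i ≠ l)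
    (hjk : j ≠ k) (hjl : j ≠ l) (hkl : k ≠ l) :
    ∃ σ : alternatingGroup (Fin (M + 4)),
      (σ : Equiv.Perm (Fin (M + 4))) (i2 M) = k ∧ (σ : Equiv.Perm (Fin (M + 4))) (i3 M) = l ∧
      (((σ : Equiv.Perm (Fin (M + 4))) (i0 M) = i ∧ (σ : Equiv.Perm (Fin (M + 4))) (i1 M) = j) ∨
        ((σ : Equiv.Perm (Fin (M + 4))) (i0 M) = j ∧ (σ : Equiv.Perm (Fin (M + 4))) (i1 M) = i)) := by
  obtain ⟨π, h0, h1, h2, h3⟩ := sl7p0_perm4 M i j k l hij hik hil hjk hjl hkl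
  rcases Int.units_eq_one_or (Equiv.Perm.sign π) with hs | hs
  · exact ⟨⟨π, Equiv.Perm.mem_alternatingGroup.2 hs⟩, h2, h3, Or.inl ⟨h0, h1⟩⟩
  · refine ⟨⟨π * swap (i0 M) (i1 M), ?_⟩, ?_, ?_, Or.inr ⟨?_, ?_⟩⟩
    · rw [Equiv.Perm.mem_alternatingGroup, Equiv.Perm.sign_mul, hs, Equiv.Perm.sign_swap (i01 M)]
      norm_num
    · show (π * swap (i0 M) (i1 M)) (i2 M) = k
      rw [Equiv.Perm.mul_apply, Equiv.swap_apply_of_ne_of_ne (i02 M).symm (i12 M).symm, h2]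
    · show (π * swap (i0 M) (i1 M)) (i3 M) = l
      rw [Equiv.Perm.mul_apply, Equiv.swap_apply_of_ne_of_ne (i03 M).symm (i13 M).symm, h3]
    · show (π * swap (i0 M) (i1 M)) (i0 M) = j
      rw [Equiv.Perm.mul_apply, Equiv.swap_apply_left, h1]
    · show (π * swap (i0 M) (i1 M)) (i1 M) = i
      rw [Equiv.Perm.mul_apply, Equiv.swap_apply_right, h0]

end Cfsg.Agent.Lib.Helper1.SLN
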