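import Mathlib
import Cfsg.Agent.Lib.Helper1.SLN.Defs

/-!
# SL7 (Helper1 skeleton `Helper1/SLN/Skel`) block MG: MG0a `alphaM_conj_tv`, MG0b `betaM_tv`,
MG2 `alphaM_c3`, verbatim.
-/

set_option autoImplicit false

namespace Cfsg.Agent.Lib.Helper1.SLN

open Matrix Equiv
open Cfsg.Agent.Lib.helper17.SLP

universe u v

section MG

variable {F : Type u} [Field F]

/-- the commutation rule behind MG0a -/
theorem sl7mg0_comm {n : ℕ} (σ : alternatingGroup (Fin n)) (i j : Fin n) (h : i ≠ j) (t : F) :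
    alphaM σ * Matrix.SpecialLinearGroup.transvection h t =
      Matrix.SpecialLinearGroup.transvection (i := (σ : Equiv.Perm (Fin n)) i)
        (j := (σ : Equiv.Perm (Fin n)) j)
        (fun e => h ((σ : Equiv.Perm (Fin n)).injective e)) t * alphaM σ := by
  apply Subtype.ext
  rw [Matrix.SpecialLinearGroup.coe_mul, Matrix.SpecialLinearGroup.coe_mul,
    Matrix.SpecialLinearGroup.transvection_coe, Matrix.SpecialLinearGroup.transvection_coe,
    mul_add, add_mul, mul_one, one_mul]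
  congr 1
  ext a b
  by_cases hb : b = j
  · subst hb
    rw [Matrix.mul_single_apply_same, alphaM_apply]
    by_cases ha : a = (σ : Equiv.Perm (Fin n)) i
    · subst ha
      rw [if_pos rfl, Matrix.single_mul_apply_same, alphaM_apply, if_pos rfl]
      ring
    · rw [if_neg ha, Matrix.single_mul_apply_of_ne (h := ha)]
      ring
  · rw [Matrix.mul_single_apply_of_ne (hbj := hb)]
    by_cases ha : a = (σ : Equiv.Perm (Fin n)) i
    · subst ha
      rw [Matrix.single_mul_apply_same, alphaM_apply, if_neg, mul_zero]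
      intro e
      exact hb ((σ : Equiv.Perm (Fin n)).injective e).symm
    · rw [Matrix.single_mul_apply_of_ne (h := ha)]

/-- MG0a [M]  permutation matrices conjugate transvections. -/
theorem alphaM_conj_tv {n : ℕ} (σ : alternatingGroup (Fin n)) (i j : Fin n) (h : i ≠ j) (t : F) :
    alphaM σ * Matrix.SpecialLinearGroup.transvection h t * (alphaM σ)⁻¹ =
      Matrix.SpecialLinearGroup.transvection (i := (σ : Equiv.Perm (Fin n)) i)
        (j := (σ : Equiv.Perm (Fin n)) j)
        (fun e => h ((σ : Equiv.Perm (Fin n)).injective e)) t := by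
  rw [mul_inv_eq_iff_eq_mul]
  exact sl7mg0_comm σ i j h t

theorem sl7mg0_inc_val (M : ℕ) (a : Fin 3) : ((inc M a : Fin (M + 4)) : ℕ) = a := rfl

/-- MG0b [S-M]  the block embedding maps transvections to transvections. -/
theorem betaM_tv (M : ℕ) (a b : Fin 3) (h : a ≠ b) (t : F) :
    betaM M (Matrix.SpecialLinearGroup.transvection h t) =
      Matrix.SpecialLinearGroup.transvection (i := inc M a) (j := inc M b)
        (fun e => h (inc_injective M e)) t := by
  apply Subtype.ext
  ext i j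
  rw [betaM_apply, Matrix.SpecialLinearGroup.transvection_coe,
    Matrix.SpecialLinearGroup.transvection_coe]
  by_cases hij : (i : ℕ) < 3 ∧ (j : ℕ) < 3
  · rw [dif_pos hij]
    simp only [Matrix.add_apply, Matrix.one_apply, Matrix.single_apply]
    have e1 : ((⟨i, hij.1⟩ : Fin 3) = ⟨j, hij.2⟩) ↔ i = j := by
      constructor
      · intro e; exact Fin.ext (by simpa using congrArg Fin.val e)
      · intro e; subst e; rfl
    have e2 : (a = (⟨i, hij.1⟩ : Fin 3) ∧ b = ⟨j, hij.2⟩) ↔ (inc M a = i ∧ inc M b = j) := by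
      constructor
      · rintro ⟨ha, hb⟩
        exact ⟨Fin.ext (by rw [sl7mg0_inc_val, ha]), Fin.ext (by rw [sl7mg0_inc_val, hb])⟩
      · rintro ⟨ha, hb⟩
        have ha' := congrArg Fin.val ha
        have hb' := congrArg Fin.val hb
        rw [sl7mg0_inc_val] at ha' hb'
        exact ⟨Fin.ext ha', Fin.ext hb'⟩
    simp only [e1, e2]
  · rw [dif_neg hij]
    simp only [Matrix.add_apply, Matrix.one_apply, Matrix.single_apply]
    have e2 : ¬ (inc M a = i ∧ inc M b = j) := by
      rintro ⟨ha, hb⟩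
      apply hij
      rw [← ha, ← hb, sl7mg0_inc_val, sl7mg0_inc_val]
      exact ⟨a.2, b.2⟩
    rw [if_neg e2, add_zero]

/-- the values of the 3-cycle `c3` -/
theorem sl7mg2_c3_val (M : ℕ) (j : Fin (M + 4)) :
    ((((c3 M : alternatingGroup (Fin (M + 4))) : Equiv.Perm (Fin (M + 4))) j : Fin (M + 4)) : ℕ) =
      if (j : ℕ) = 0 then 1 else if (j : ℕ) = 1 then 2 else if (j : ℕ) = 2 then 0 else (j : ℕ) := by
  rw [c3_coe, Equiv.Perm.mul_apply]
  by_cases h0 : j = i0 M
  · subst h0
    rw [Equiv.swap_apply_of_ne_of_ne (i01 M) (i02 M), Equiv.swap_apply_left]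
    simp [i0, i1]
  by_cases h1 : j = i1 M
  · subst h1
    rw [Equiv.swap_apply_left, Equiv.swap_apply_of_ne_of_ne (i02 M).symm (i12 M).symm]
    simp [i1, i2]
  by_cases h2 : j = i2 M
  · subst h2
    rw [Equiv.swap_apply_right, Equiv.swap_apply_right]
    simp [i0, i2]
  · rw [Equiv.swap_apply_of_ne_of_ne h1 h2, Equiv.swap_apply_of_ne_of_ne h0 h1]
    have g0 : (j : ℕ) ≠ 0 := fun h => h0 (Fin.ext h)
    have g1 : (j : ℕ) ≠ 1 := fun h => h1 (Fin.ext h)
    have g2 : (j : ℕ) ≠ 2 := fun h => h2 (Fin.ext h)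
    rw [if_neg g0, if_neg g1, if_neg g2]

theorem sl7mg2_cM_apply (a b : Fin 3) :
    ((cM : Matrix.SpecialLinearGroup (Fin 3) F) : Matrix (Fin 3) (Fin 3) F) a b =
      if (a : ℕ) = ((b : ℕ) + 1) % 3 then 1 else 0 := by
  rw [cM_coe]
  fin_cases a <;> fin_cases b <;> simp

/-- MG2 [S-M]  `alphaM (c3) = betaM cM`. -/
theorem alphaM_c3 (M : ℕ) : alphaM (c3 M) = betaM M (cM : Matrix.SpecialLinearGroup (Fin 3) F) := by
  apply Subtype.ext
  ext i j
  rw [alphaM_apply, betaM_apply]
  have hv := sl7mg2_c3_val M j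
  have e1 : (i = ((c3 M : alternatingGroup (Fin (M + 4))) : Equiv.Perm (Fin (M + 4))) j) ↔
      (i : ℕ) = if (j : ℕ) = 0 then 1 else if (j : ℕ) = 1 then 2 else if (j : ℕ) = 2 then 0
        else (j : ℕ) := by
    rw [← hv]
    exact Fin.ext_iff
  by_cases hij : (i : ℕ) < 3 ∧ (j : ℕ) < 3
  · rw [dif_pos hij, sl7mg2_cM_apply]
    have e2 : ((i : ℕ) = if (j : ℕ) = 0 then 1 else if (j : ℕ) = 1 then 2
        else if (j : ℕ) = 2 then 0 else (j : ℕ)) ↔ ((i : ℕ) = ((j : ℕ) + 1) % 3) := by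
      obtain ⟨hi, hj⟩ := hij
      split_ifs <;> omega
    simp only [e1, e2]
  · rw [dif_neg hij]
    have e2 : ((i : ℕ) = if (j : ℕ) = 0 then 1 else if (j : ℕ) = 1 then 2
        else if (j : ℕ) = 2 then 0 else (j : ℕ)) ↔ i = j := by
      rw [Fin.ext_iff]
      split_ifs <;> omega
    simp only [e1, e2]

end MG

end Cfsg.Agent.Lib.Helper1.SLN
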