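import Mathlib
import Cfsg.Agent.Lib.Helper18.ONE.Defs
import Cfsg.Agent.Lib.helper14.JTa

/-!
# Project ONE, row UNIPABS: a unipotent isometry `x = 1 + N`, `N³ = 0`, with at most one Jordan block of
odd size: every invariant even-dimensional direct summand `W` has `N W` totally isotropic of half the
dimension.  (Kernel dimensions `dk` of helper14, additive over invariant decompositions.)
-/

set_option autoImplicit false
set_option linter.unusedVariables false

namespace Cfsg.Agent.Lib.Helper18.ONE

open Polynomial Module Cfsg.Agent.Lib.Helper13.S5955 Cfsg.Agent.Lib.helper15.S5972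
open Cfsg.Agent.Lib.helper14.JTa

theorem oneunipabs_rank_nullity {F : Type*} [Field F] {V : Type*} [AddCommGroup V] [Module F V]
    [FiniteDimensional F V] (f : Module.End F V) (U : Submodule F V) :
    finrank F U = finrank F ↥(U ⊓ LinearMap.ker f) + finrank F ↥(U.map f) := by
  have h := LinearMap.finrank_range_add_finrank_ker (f.domRestrict U)
  rw [LinearMap.range_domRestrict, LinearMap.ker_domRestrict,
    ← Submodule.finrank_map_subtype_eq U (Submodule.comap U.subtype (LinearMap.ker f)),
    Submodule.map_comap_subtype] at h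
  omega

/-- UNIPABS [M-L] -/
theorem unip_abs {F : Type*} [Field F] {V : Type*} [AddCommGroup V] [Module F V]
    [FiniteDimensional F V] (B : LinearMap.BilinForm F V) (hsymm : ∀ u v, B u v = B v u)
    (x : Module.End F V) (hpres : ∀ u v, B (x u) (x v) = B u v) (h3 : (x - 1) ^ 3 = 0)
    (hone : finrank F (LinearMap.ker (x - 1)) + finrank F (LinearMap.range ((x - 1) ^ 2)) ≤
      finrank F ↥(LinearMap.range (x - 1) ⊓ LinearMap.ker (x - 1)) + 1)
    (W W' : Submodule F V) (hW : SInv x W) (hW' : SInv x W') (hc : IsCompl W W')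
    (hev : Even (finrank F W)) : SHyp B W := by
  obtain ⟨N, hN⟩ : ∃ N : Module.End F V, N = x - 1 := ⟨_, rfl⟩
  rw [← hN] at h3 hone
  have hxN : ∀ v, x v = v + N v := by
    intro v
    rw [hN, LinearMap.sub_apply, Module.End.one_apply]
    abel
  have hNW : ∀ v ∈ W, N v ∈ W := fun v hv => by
    rw [hN, LinearMap.sub_apply, Module.End.one_apply]
    exact W.sub_mem (hW v hv) hv
  have hNW' : ∀ v ∈ W', N v ∈ W' := fun v hv => by
    rw [hN, LinearMap.sub_apply, Module.End.one_apply]
    exact W'.sub_mem (hW' v hv) hv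
  -- kernel dimensions
  have hd : ∀ k, dk N k = dk (N.restrict hNW) k + dk (N.restrict hNW') k :=
    dk_add N W W' hc hNW hNW'
  have he3 : dk (N.restrict hNW) 3 = finrank F W := by
    rw [dk_restrict, h3, LinearMap.ker_zero, top_inf_eq]
  have he3' : dk (N.restrict hNW') 3 = finrank F W' := by
    rw [dk_restrict, h3, LinearMap.ker_zero, top_inf_eq]
  have hd3 : dk N 3 = finrank F V := dk_of_pow_eq_zero N 3 h3
  have hR : finrank F (LinearMap.range (N ^ 2)) + dk N 2 = finrank F V := by
    unfold dk
    exact LinearMap.finrank_range_add_finrank_ker (N ^ 2)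
  have hd1 : finrank F (LinearMap.ker N) = dk N 1 := by
    unfold dk
    rw [pow_one]
  have hE1 : finrank F ↥(LinearMap.range N ⊓ LinearMap.ker N) = ek N 1 := by
    unfold ek
    rw [pow_one]
  have hd2 := dk_succ N 1
  -- on `W`
  have a0 := dk_zero (N.restrict hNW)
  have a1 := dk_succ (N.restrict hNW) 0
  have a2 := dk_succ (N.restrict hNW) 1
  have a3 := dk_succ (N.restrict hNW) 2
  have a4 := ek_succ_le (N.restrict hNW) 0
  have b0 := dk_zero (N.restrict hNW')
  have b1 := dk_succ (N.restrict hNW') 0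
  have b2 := dk_succ (N.restrict hNW') 1
  have b3 := dk_succ (N.restrict hNW') 2
  have b4 := ek_succ_le (N.restrict hNW') 0
  have c1 := hd 1
  have c2 := hd 2
  have c3 := hd 3
  rw [hd1, hE1] at hone
  obtain ⟨t, ht⟩ := hev
  have key : 2 * dk (N.restrict hNW) 1 = finrank F W ∧ dk (N.restrict hNW) 2 = finrank F W := by
    simp only [zero_add, Nat.reduceAdd] at a1 a2 a3 a4 b1 b2 b3 b4 hd2
    omega
  obtain ⟨k1, k2⟩ := key
  -- `N² W = 0`
  have hker2 : W ≤ LinearMap.ker (N ^ 2) := by
    rw [dk_restrict] at k2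
    have h5 : LinearMap.ker (N ^ 2) ⊓ W = W :=
      Submodule.eq_of_le_of_finrank_eq inf_le_right k2
    rw [← h5]
    exact inf_le_left
  have hNN : ∀ v ∈ W, N (N v) = 0 := by
    intro v hv
    have h5 := hker2 hv
    rw [LinearMap.mem_ker, pow_two, Module.End.mul_apply] at h5
    exact h5
  -- dimension of `N W`
  have hrn := oneunipabs_rank_nullity N W
  rw [dk_restrict, pow_one, inf_comm] at k1
  refine ⟨W.map N, ?_, ?_, by omega⟩
  · rintro _ ⟨w, hw, rfl⟩
    exact hNW w hw
  · rintro _ ⟨u, hu, rfl⟩ _ ⟨v, hv, rfl⟩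
    have h5 := hpres u (N v)
    rw [hxN u, hxN (N v), hNN v hv, add_zero, map_add, LinearMap.add_apply] at h5
    have h6 : B (N u) (N v) = 0 := by
      have h7 : B u (N v) + B (N u) (N v) = B u (N v) := h5
      exact add_left_cancel (a := B u (N v)) (by rw [h7, add_zero])
    exact h6

end Cfsg.Agent.Lib.Helper18.ONE
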