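import Cfsg.Agent.Lib.Helper1.SLK.Defs

/-!
# SLK row D3 (`norm_quot_pow`), core: induction on `e` from the statement of D2 (`norm_quot_mul`).
-/

set_option autoImplicit false

namespace Cfsg.Agent.Lib.Helper1.SLK

open Polynomial
open Cfsg.Agent.Lib.Helper29.GLK

universe u

/-- **D3 core**. -/
theorem slkd3_core {F : Type u} [Field F]
    (hD2 : ∀ f g a : F[X], f ≠ 0 → g ≠ 0 →
      Algebra.norm F (Ideal.Quotient.mk (Ideal.span {f * g}) a) =
        Algebra.norm F (Ideal.Quotient.mk (Ideal.span {f}) a) *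
          Algebra.norm F (Ideal.Quotient.mk (Ideal.span {g}) a))
    (p a : F[X]) (hp : p ≠ 0) (e : ℕ) :
    Algebra.norm F (Ideal.Quotient.mk (Ideal.span {p ^ e}) a) =
      Algebra.norm F (Ideal.Quotient.mk (Ideal.span {p}) a) ^ e := by
  induction e with
  | zero =>
    haveI : Subsingleton (F[X] ⧸ Ideal.span {p ^ 0}) :=
      Ideal.Quotient.subsingleton_iff.2 (by rw [pow_zero, Ideal.span_singleton_one])
    have h1 : Algebra.norm F (Ideal.Quotient.mk (Ideal.span {p ^ 0}) a) = 1 := by
      rw [Algebra.norm_apply]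
      exact LinearMap.det_eq_one_of_subsingleton _
    rw [h1]
    exact (pow_zero _).symm
  | succ e ih =>
    rw [pow_succ p e, hD2 (p ^ e) p a (pow_ne_zero e hp) hp, ih, pow_succ]

end Cfsg.Agent.Lib.Helper1.SLK
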