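import Cfsg.Agent.Lib.Helper1.SLKD2
import Cfsg.Agent.Lib.helper4.SLKD3core

/-!
# SLK row D3 (`norm_quot_pow`), verbatim: the core fed with D2 (`norm_quot_mul`).
-/

set_option autoImplicit false

namespace Cfsg.Agent.Lib.Helper1.SLK

open Polynomial
open Cfsg.Agent.Lib.Helper29.GLK

universe u

/-- D3 -/
theorem norm_quot_pow {F : Type u} [Field F] (p a : F[X]) (hp : p ≠ 0) (e : ℕ) :
    Algebra.norm F (Ideal.Quotient.mk (Ideal.span {p ^ e}) a) =
      Algebra.norm F (Ideal.Quotient.mk (Ideal.span {p}) a) ^ e :=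
  slkd3_core (fun f g a hf hg => norm_quot_mul f g a hf hg) p a hp e

end Cfsg.Agent.Lib.Helper1.SLK
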