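import Cfsg.Agent.Lib.Helper1.SLK.Defs

/-!
# SLK row D4 (`norm_quot_X`): the norm of the class of `X` in `F[X]/(p)`.
-/

set_option autoImplicit false

namespace Cfsg.Agent.Lib.Helper1.SLK

open Polynomial
open Cfsg.Agent.Lib.Helper29.GLK

universe u

/-- D4 [M] norm of the class of `X`. -/
theorem norm_quot_X {F : Type u} [Field F] [DecidableEq F] (p : F[X]) (hp : p ≠ 0) :
    Algebra.norm F (Ideal.Quotient.mk (Ideal.span {p}) (X : F[X])) =
      (-1) ^ p.natDegree * (normalize p).coeff 0 := by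
  have h1 := Algebra.PowerBasis.norm_gen_eq_coeff_zero_minpoly (AdjoinRoot.powerBasis hp)
  have h2 : normalize p = p * C p.leadingCoeff⁻¹ := by
    rw [normalize_apply, Polynomial.coe_normUnit_of_ne_zero hp]
  rw [h2, ← AdjoinRoot.minpoly_root hp]
  exact h1

end Cfsg.Agent.Lib.Helper1.SLK
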