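import Cfsg.Agent.Lib.Helper1.PLK.Defs

/-!
# PLK row U1 (`nu_conj`): `nu` is a conjugation invariant.

Extras: `plku1_equiv` (conjugate elements have `F[X]`-isomorphic `gMod`s),
`plku1_finrank_ker_congr` (an `F[X]`-linear equivalence preserves `dim ker (a •)`; this is the
statement of row U4b).
-/

set_option autoImplicit false

namespace Cfsg.Agent.Lib.Helper1.PLK

open Polynomial
open Cfsg.Agent.Lib.Helper29.GLK
open Cfsg.Agent.Lib.Helper1.SLK

universe u

/-- conjugate elements have `F[X]`-isomorphic modules -/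
theorem plku1_equiv {F : Type u} [Field F] {n : ℕ} (x y : Matrix.GeneralLinearGroup (Fin n) F)
    (h : IsConj x y) : Nonempty (gMod x ≃ₗ[F[X]] gMod y) := by
  obtain ⟨c, hc⟩ := isConj_iff.1 h
  have hcx' : c * x = y * c := by rw [← hc]; group
  have hcx : (c : Matrix (Fin n) (Fin n) F) * (x : Matrix (Fin n) (Fin n) F) =
      (y : Matrix (Fin n) (Fin n) F) * (c : Matrix (Fin n) (Fin n) F) := by
    have := congrArg (fun g : Matrix.GeneralLinearGroup (Fin n) F =>
      (g : Matrix (Fin n) (Fin n) F)) hcx'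
    simpa using this
  let T : (Fin n → F) ≃ₗ[F] (Fin n → F) := Matrix.toLin'OfInv c.inv_val c.val_inv
  have hT : ∀ v, T v = Matrix.toLin' (c : Matrix (Fin n) (Fin n) F) v := fun v => rfl
  have hTx : ∀ v, T (Matrix.toLin' (x : Matrix (Fin n) (Fin n) F) v) =
      Matrix.toLin' (y : Matrix (Fin n) (Fin n) F) (T v) := by
    intro v
    rw [hT, hT, ← LinearMap.comp_apply, ← LinearMap.comp_apply, ← Matrix.toLin'_mul,
      ← Matrix.toLin'_mul, hcx]
  refine ⟨LinearEquiv.ofAEval (Matrix.toLin' (x : Matrix (Fin n) (Fin n) F))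
    (T.trans (Module.AEval'.of (Matrix.toLin' (y : Matrix (Fin n) (Fin n) F)))) ?_⟩
  intro v
  rw [LinearEquiv.trans_apply, LinearEquiv.trans_apply, Module.AEval'.X_smul_of]
  congr 1
  exact hTx v

/-- an `F[X]`-linear equivalence preserves the dimension of the kernel of `a •` (statement of U4b) -/
theorem plku1_finrank_ker_congr {F : Type u} [Field F] {M N : Type*} [AddCommGroup M] [Module F M]
    [Module F[X] M] [IsScalarTower F F[X] M] [AddCommGroup N] [Module F N] [Module F[X] N]
    [IsScalarTower F F[X] N] (Φ : M ≃ₗ[F[X]] N) (a : F[X]) :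
    Module.finrank F (LinearMap.ker (sm a M)) = Module.finrank F (LinearMap.ker (sm a N)) := by
  have hmap : (LinearMap.ker (sm a M)).map ((Φ.restrictScalars F : M ≃ₗ[F] N) : M →ₗ[F] N) =
      LinearMap.ker (sm a N) := by
    ext w
    constructor
    · rintro ⟨m, hm, rfl⟩
      have hm : a • m = 0 := by
        have := LinearMap.mem_ker.1 (SetLike.mem_coe.1 hm)
        rwa [sm_apply] at this
      rw [LinearMap.mem_ker, sm_apply]
      show a • Φ m = 0
      rw [← map_smul, hm, map_zero]
    · intro hw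
      rw [LinearMap.mem_ker, sm_apply] at hw
      refine ⟨Φ.symm w, ?_, ?_⟩
      · show Φ.symm w ∈ LinearMap.ker (sm a M)
        rw [LinearMap.mem_ker, sm_apply, ← map_smul, hw, map_zero]
      · show Φ (Φ.symm w) = w
        exact Φ.apply_symm_apply w
  rw [← hmap]
  exact (LinearEquiv.finrank_map_eq (Φ.restrictScalars F) _).symm

/-- U1 [M] -/
theorem nu_conj {F : Type u} [Field F] {n : ℕ} (x y : Matrix.GeneralLinearGroup (Fin n) F)
    (h : IsConj x y) (a : F[X]) : nu x a = nu y a := by
  obtain ⟨Φ⟩ := plku1_equiv x y h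
  exact plku1_finrank_ker_congr Φ a

end Cfsg.Agent.Lib.Helper1.PLK
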