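import Cfsg.Agent.Lib.Helper1.PLK.Defs

/-!
# PLK row Z1d (`czFix_one`): every class is fixed by the identity.
-/

set_option autoImplicit false

namespace Cfsg.Agent.Lib.Helper1.PLK

open Polynomial
open Cfsg.Agent.Lib.Helper29.GLK
open Cfsg.Agent.Lib.Helper1.SLK

universe u

/-- Z1d [S] -/
theorem czFix_one (S : Type*) [Group S] : czFix (1 : S) = Set.univ := by
  ext C
  simp only [czFix, Set.mem_setOf_eq, Set.mem_univ, iff_true]
  obtain ⟨x, rfl⟩ := ConjClasses.mk_surjective C
  exact ⟨x, rfl, by rw [one_mul]⟩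

end Cfsg.Agent.Lib.Helper1.PLK
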