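import Mathlib
import Cfsg.Agent.Lib.helper7.REE.Defs

/-! REE row G4H (`V_basic`), helper4.  Self-contained (from `ReeAx` alone). -/

set_option autoImplicit false

namespace Cfsg.Agent.Lib.helper7.REE

open Matrix Cfsg.Agent.Lib.helper8

universe u v

namespace ReeAx

variable {G : Type u} [Group G] [Finite G] {K : Type v} [Field K] [Fintype K] {m : ℕ}

theorem reeg4h_W_mem : (h8slW : SpecialLinearGroup (Fin 2) K) ∈ so2 K := by
  show (h8slW : SpecialLinearGroup (Fin 2) K) 0 0 = (h8slW : SpecialLinearGroup (Fin 2) K) 1 1 ∧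
    (h8slW : SpecialLinearGroup (Fin 2) K) 0 1 = -((h8slW : SpecialLinearGroup (Fin 2) K) 1 0)
  have h := h8slW_val (F := K)
  refine ⟨?_, ?_⟩
  · show ((h8slW : SpecialLinearGroup (Fin 2) K) : Matrix (Fin 2) (Fin 2) K) 0 0 =
      ((h8slW : SpecialLinearGroup (Fin 2) K) : Matrix (Fin 2) (Fin 2) K) 1 1
    rw [h]; simp
  · show ((h8slW : SpecialLinearGroup (Fin 2) K) : Matrix (Fin 2) (Fin 2) K) 0 1 =
      -(((h8slW : SpecialLinearGroup (Fin 2) K) : Matrix (Fin 2) (Fin 2) K) 1 0)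
    rw [h]; simp

theorem reeg4h_n0_mem_L (R : ReeAx G K m) : R.n0 ∈ R.L := ⟨h8slW, R.psi_W⟩

theorem reeg4h_n0_mem_D (R : ReeAx G K m) : R.n0 ∈ R.D :=
  Subgroup.mem_map.mpr ⟨h8slW, reeg4h_W_mem, R.psi_W⟩

theorem reeg4h_t_notin_L (R : ReeAx G K m) : R.t ∉ R.L := by
  rintro ⟨g, hg⟩
  exact R.psi_ne_t g hg

theorem reeg4h_t_mem_B (R : ReeAx G K m) : R.t ∈ R.B :=
  (R.B_iff R.t).mpr ⟨1, one_mem _, R.t, R.t_mem, (one_mul _).symm⟩

theorem reeg4h_comm (R : ReeAx G K m) : R.t * R.n0 = R.n0 * R.t := by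
  have h1 := R.n0_inv R.t R.t_mem
  have h2 : R.t⁻¹ = R.t := inv_eq_of_mul_eq_one_left R.t_sq
  rw [h2] at h1
  have h3 : R.n0 * R.t = R.t * R.n0 := by
    have : R.n0 * R.t * R.n0⁻¹ * R.n0 = R.t * R.n0 := by rw [h1]
    simpa [mul_assoc] using this
  exact h3.symm

theorem reeg4h_mem (R : ReeAx G K m) (v : G) :
    v ∈ R.V ↔ v = 1 ∨ v = R.t ∨ v = R.n0 ∨ v = R.t * R.n0 := by
  have hc := reeg4h_comm R
  have htt : ∀ x : G, R.t * (R.t * x) = x := fun x => by rw [← mul_assoc, R.t_sq, one_mul]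
  have hnn : ∀ x : G, R.n0 * (R.n0 * x) = x := fun x => by rw [← mul_assoc, R.n0_sq, one_mul]
  have hnt : R.n0 * R.t = R.t * R.n0 := hc.symm
  have hnt' : ∀ x : G, R.n0 * (R.t * x) = R.t * (R.n0 * x) := fun x => by
    rw [← mul_assoc, hnt, mul_assoc]
  have htinv : R.t⁻¹ = R.t := inv_eq_of_mul_eq_one_left R.t_sq
  have hninv : R.n0⁻¹ = R.n0 := inv_eq_of_mul_eq_one_left R.n0_sq
  let W : Subgroup G :=
    { carrier := {v | v = 1 ∨ v = R.t ∨ v = R.n0 ∨ v = R.t * R.n0}
      mul_mem' := by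
        intro a b ha hb
        rcases ha with rfl | rfl | rfl | rfl <;> rcases hb with rfl | rfl | rfl | rfl <;>
          simp [mul_assoc, R.t_sq, R.n0_sq, htt, hnn, hnt, hnt']
      one_mem' := Or.inl rfl
      inv_mem' := by
        intro a ha
        rcases ha with rfl | rfl | rfl | rfl <;>
          simp [mul_assoc, htinv, hninv, hnt] }
  constructor
  · intro hv
    have hle : R.V ≤ W := by
      unfold ReeAx.V
      rw [Subgroup.closure_le]
      intro x hx
      simp only [Set.mem_insert_iff, Set.mem_singleton_iff] at hx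
      rcases hx with rfl | rfl
      · exact Or.inr (Or.inl rfl)
      · exact Or.inr (Or.inr (Or.inl rfl))
    exact hle hv
  · have ht : R.t ∈ R.V := Subgroup.subset_closure (by simp)
    have hn : R.n0 ∈ R.V := Subgroup.subset_closure (by simp)
    rintro (rfl | rfl | rfl | rfl)
    · exact one_mem _
    · exact ht
    · exact hn
    · exact mul_mem ht hn

/-- G4H. The four-group `V = {1, t, n0, t n0}`. -/
theorem V_basic (R : ReeAx G K m) :
    (∀ v, v ∈ R.V ↔ v = 1 ∨ v = R.t ∨ v = R.n0 ∨ v = R.t * R.n0) ∧ Nat.card R.V = 4 ∧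
    R.t * R.n0 = R.n0 * R.t ∧ R.t ≠ R.n0 ∧ R.n0 ≠ 1 ∧ R.t * R.n0 ≠ 1 ∧
    (∀ v ∈ R.V, v * v = 1) ∧ R.V ≤ R.E ∧ (∀ v ∈ R.V, v ∈ R.L → v = 1 ∨ v = R.n0) := by
  have hc := reeg4h_comm R
  have hn1 : R.n0 ≠ 1 := fun h => R.n0_notin (h ▸ one_mem _)
  have htn : R.t ≠ R.n0 := fun h => R.n0_notin (h ▸ reeg4h_t_mem_B R)
  have htinv : R.t⁻¹ = R.t := inv_eq_of_mul_eq_one_left R.t_sq
  have htn1 : R.t * R.n0 ≠ 1 := by
    intro h
    have h2 : R.n0 = R.t⁻¹ := (inv_eq_of_mul_eq_one_right h).symm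
    rw [htinv] at h2
    exact htn h2.symm
  refine ⟨reeg4h_mem R, ?_, hc, htn, hn1, htn1, ?_, ?_, ?_⟩
  · classical
    have hset : (R.V : Set G) = ((({1, R.t, R.n0, R.t * R.n0} : Finset G)) : Set G) := by
      ext v
      rw [SetLike.mem_coe, reeg4h_mem R v]
      simp
    have h1 : Nat.card R.V = Set.ncard (R.V : Set G) := (Nat.card_coe_set_eq (R.V : Set G))
    rw [h1, hset, Set.ncard_coe_finset]
    have ht1 : R.t ≠ 1 := R.t_ne
    have h4 : R.t ≠ R.t * R.n0 := by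
      intro h
      exact hn1 (mul_left_cancel (a := R.t) (by rw [mul_one]; exact h.symm))
    have h5 : R.n0 ≠ R.t * R.n0 := by
      intro h
      exact ht1 (mul_right_cancel (b := R.n0) (by rw [one_mul]; exact h.symm))
    rw [Finset.card_insert_of_notMem, Finset.card_insert_of_notMem, Finset.card_insert_of_notMem,
      Finset.card_singleton]
    · simpa using h5
    · simp only [Finset.mem_insert, Finset.mem_singleton, not_or]
      exact ⟨htn, h4⟩
    · simp only [Finset.mem_insert, Finset.mem_singleton, not_or]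
      exact ⟨fun h => ht1 h.symm, fun h => hn1 h.symm, fun h => htn1 h.symm⟩
  · intro v hv
    rcases (reeg4h_mem R v).mp hv with rfl | rfl | rfl | rfl
    · exact mul_one 1
    · exact R.t_sq
    · exact R.n0_sq
    · have : R.t * R.n0 * (R.t * R.n0) = R.t * (R.n0 * R.t) * R.n0 := by group
      rw [this, ← hc, mul_assoc, mul_assoc, R.n0_sq, mul_one, R.t_sq]
  · unfold ReeAx.V ReeAx.E
    rw [Subgroup.closure_le]
    intro x hx
    simp only [Set.mem_insert_iff, Set.mem_singleton_iff] at hx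
    rcases hx with rfl | rfl
    · exact (le_sup_left : Subgroup.zpowers R.t ≤ _) (Subgroup.mem_zpowers R.t)
    · exact (le_sup_right : R.D ≤ Subgroup.zpowers R.t ⊔ R.D) (reeg4h_n0_mem_D R)
  · intro v hv hvL
    rcases (reeg4h_mem R v).mp hv with rfl | rfl | rfl | rfl
    · exact Or.inl rfl
    · exact absurd hvL (reeg4h_t_notin_L R)
    · exact Or.inr rfl
    · exfalso
      have hn := reeg4h_n0_mem_L R
      have : R.t ∈ R.L := by
        have h2 := mul_mem hvL (inv_mem hn)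
        simpa [mul_assoc] using h2
      exact reeg4h_t_notin_L R this

end ReeAx

end Cfsg.Agent.Lib.helper7.REE
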