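import Mathlib
import Cfsg.Agent.Lib.helper7.REE.Defs

/-! REE row G1A (`B_basic`), helper4. -/

set_option autoImplicit false

namespace Cfsg.Agent.Lib.helper7.REE

open Matrix Cfsg.Agent.Lib.helper8

universe u v

/-- `q = 3^(2m+1) ≡ 3 (mod 12)` -/
theorem reeg1a_qq_mod (m : ℕ) : ∃ j, qq m = 12 * j + 3 := by
  induction m with
  | zero => exact ⟨0, by simp [qq]⟩
  | succ m ih =>
    obtain ⟨k, hk⟩ := ih
    refine ⟨9 * k + 2, ?_⟩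
    have h1 : qq (m + 1) = 9 * qq m := by
      unfold qq
      rw [show 2 * (m + 1) + 1 = (2 * m + 1) + 2 by ring, pow_add]
      ring
    rw [h1, hk]
    ring

namespace ReeAx

variable {G : Type u} [Group G] [Finite G] {K : Type v} [Field K] [Fintype K] {m : ℕ}

theorem reeg1a_inf (R : ReeAx G K m) : R.U ⊓ R.H = ⊥ := by
  rw [Subgroup.eq_bot_iff_forall]
  intro x hx
  obtain ⟨hxU, hxH⟩ := Subgroup.mem_inf.mp hx
  have h9 : orderOf x ∣ 9 := orderOf_dvd_of_pow_eq_one (R.U_exp x hxU)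
  have hq : orderOf x ∣ qq m - 1 := by
    have := Subgroup.orderOf_dvd_natCard R.H hxH
    rwa [R.H_card] at this
  obtain ⟨j, hj⟩ := reeg1a_qq_mod m
  have h3 : Nat.Coprime 3 (qq m - 1) := by
    rw [Nat.Prime.coprime_iff_not_dvd Nat.prime_three]
    omega
  have hcop : Nat.Coprime 9 (qq m - 1) := by
    have := Nat.Coprime.pow_left 2 h3
    simpa using this
  have h1 := Nat.dvd_gcd h9 hq
  rw [hcop.gcd_eq_one, Nat.dvd_one] at h1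
  exact orderOf_eq_one_iff.mp h1

theorem reeg1a_uniq (R : ReeAx G K m) :
    ∀ u ∈ R.U, ∀ h ∈ R.H, ∀ u' ∈ R.U, ∀ h' ∈ R.H, u * h = u' * h' → u = u' ∧ h = h' := by
  intro u hu h hh u' hu' h' hh' he
  have hx : u'⁻¹ * u = h' * h⁻¹ := by
    have h1 : u = u' * h' * h⁻¹ := by rw [← he]; group
    rw [h1]; group
  have hmem : u'⁻¹ * u ∈ R.U ⊓ R.H :=
    Subgroup.mem_inf.mpr ⟨mul_mem (inv_mem hu') hu, by rw [hx]; exact mul_mem hh' (inv_mem hh)⟩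
  rw [reeg1a_inf R, Subgroup.mem_bot] at hmem
  have e1 : u = u' := (inv_mul_eq_one.mp hmem).symm
  subst e1
  exact ⟨rfl, mul_left_cancel he⟩

theorem reeg1a_cardB (R : ReeAx G K m) : Nat.card R.B = qq m ^ 3 * (qq m - 1) := by
  rw [← R.U_card, ← R.H_card, ← Nat.card_prod]
  symm
  apply Nat.card_congr
  refine Equiv.ofBijective (fun p : R.U × R.H =>
    (⟨p.1.1 * p.2.1, (R.B_iff _).mpr ⟨p.1.1, p.1.2, p.2.1, p.2.2, rfl⟩⟩ : R.B)) ⟨?_, ?_⟩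
  · rintro ⟨⟨u, hu⟩, ⟨h, hh⟩⟩ ⟨⟨u', hu'⟩, ⟨h', hh'⟩⟩ heq
    have h1 : u * h = u' * h' := congrArg Subtype.val heq
    obtain ⟨e1, e2⟩ := reeg1a_uniq R u hu h hh u' hu' h' hh' h1
    subst e1
    subst e2
    rfl
  · rintro ⟨b, hb⟩
    obtain ⟨u, hu, h, hh, rfl⟩ := (R.B_iff b).mp hb
    exact ⟨(⟨u, hu⟩, ⟨h, hh⟩), rfl⟩

/-- G1A. -/
theorem B_basic (R : ReeAx G K m) :
    R.U ≤ R.B ∧ R.H ≤ R.B ∧ R.U ⊓ R.H = ⊥ ∧ Nat.card R.B = qq m ^ 3 * (qq m - 1) ∧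
    Nat.card G = (qq m ^ 3 + 1) * Nat.card R.B ∧
    (∀ b ∈ R.B, ∀ u ∈ R.U, b * u * b⁻¹ ∈ R.U) ∧
    (∀ h₁ ∈ R.H, ∀ h₂ ∈ R.H, h₁ * h₂ = h₂ * h₁) ∧
    (∀ u ∈ R.U, ∀ h ∈ R.H, ∀ u' ∈ R.U, ∀ h' ∈ R.H, u * h = u' * h' → u = u' ∧ h = h') ∧
    (∀ u ∈ R.U, Odd (orderOf u) ∧ orderOf u ∣ 9) ∧
    R.n0⁻¹ = R.n0 ∧ R.t⁻¹ = R.t ∧ orderOf R.t = 2 ∧ orderOf R.n0 = 2 := by
  have hn0ne : R.n0 ≠ 1 := fun h => R.n0_notin (h ▸ one_mem _)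
  refine ⟨?_, ?_, reeg1a_inf R, reeg1a_cardB R, ?_, ?_, ?_, reeg1a_uniq R, ?_,
    inv_eq_of_mul_eq_one_left R.n0_sq, inv_eq_of_mul_eq_one_left R.t_sq,
    orderOf_eq_prime (by rw [sq]; exact R.t_sq) R.t_ne,
    orderOf_eq_prime (by rw [sq]; exact R.n0_sq) hn0ne⟩
  · intro u hu
    exact (R.B_iff u).mpr ⟨u, hu, 1, one_mem _, (mul_one u).symm⟩
  · intro h hh
    exact (R.B_iff h).mpr ⟨1, one_mem _, h, hh, (one_mul h).symm⟩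
  · rw [reeg1a_cardB R, R.card]
    unfold gg
    ring
  · intro b hb u hu
    obtain ⟨u', hu', h, hh, rfl⟩ := (R.B_iff b).mp hb
    have h1 : u' * h * u * (u' * h)⁻¹ = u' * (h * u * h⁻¹) * u'⁻¹ := by group
    rw [h1]
    exact mul_mem (mul_mem hu' (R.H_norm h hh u hu)) (inv_mem hu')
  · intro h₁ hh₁ h₂ hh₂
    haveI := R.H_cyc
    obtain ⟨g, hg⟩ := IsCyclic.exists_generator (α := R.H)
    obtain ⟨i, hi⟩ := Subgroup.mem_zpowers_iff.mp (hg ⟨h₁, hh₁⟩)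
    obtain ⟨j, hj⟩ := Subgroup.mem_zpowers_iff.mp (hg ⟨h₂, hh₂⟩)
    have h1 : (⟨h₁, hh₁⟩ : R.H) * ⟨h₂, hh₂⟩ = ⟨h₂, hh₂⟩ * ⟨h₁, hh₁⟩ := by
      rw [← hi, ← hj, ← _root_.zpow_add, ← _root_.zpow_add, add_comm]
    exact congrArg Subtype.val h1
  · intro u hu
    have h9 : orderOf u ∣ 9 := orderOf_dvd_of_pow_eq_one (R.U_exp u hu)
    exact ⟨Odd.of_dvd_nat (by decide) h9, h9⟩

end ReeAx

end Cfsg.Agent.Lib.helper7.REE
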