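import Mathlib
import Cfsg.Agent.Lib.helper7.REE.Defs
import Cfsg.Agent.Lib.helper4.REEG1A

/-! REE row G1B (`H_invol`), helper4. -/

set_option autoImplicit false

namespace Cfsg.Agent.Lib.helper7.REE

open Matrix Cfsg.Agent.Lib.helper8

universe u v

namespace ReeAx

variable {G : Type u} [Group G] [Finite G] {K : Type v} [Field K] [Fintype K] {m : ℕ}

theorem reeg1b_pow (R : ReeAx G K m) : ∀ h ∈ R.H, h ^ (qq m - 1) = 1 := by
  intro h hh
  have h1 := pow_card_eq_one' (G := R.H) (x := ⟨h, hh⟩)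
  rw [R.H_card] at h1
  have h2 := congrArg Subtype.val h1
  simpa using h2

theorem reeg1b_sq_pow (R : ReeAx G K m) : ∀ h ∈ R.H, (h * h) ^ ((qq m - 1) / 2) = 1 := by
  intro h hh
  obtain ⟨j, hj⟩ := reeg1a_qq_mod m
  rw [← sq, ← pow_mul]
  have h1 : 2 * ((qq m - 1) / 2) = qq m - 1 := by omega
  rw [h1]
  exact reeg1b_pow R h hh

/-- G1B. `t` is the only involution of the cyclic group `H` of order `q - 1 = 2 · odd`. -/
theorem H_invol (R : ReeAx G K m) :
    (∀ h ∈ R.H, h * h = 1 → h = 1 ∨ h = R.t) ∧ (∀ h ∈ R.H, Odd (orderOf (h * h))) ∧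
    (∀ h ∈ R.H, h ^ (qq m - 1) = 1) ∧ (∀ h ∈ R.H, (h * h) ^ ((qq m - 1) / 2) = 1) := by
  refine ⟨?_, ?_, reeg1b_pow R, reeg1b_sq_pow R⟩
  · intro h hh hsq
    by_contra hcon
    push_neg at hcon
    obtain ⟨hne1, hnet⟩ := hcon
    classical
    haveI := R.H_cyc
    haveI : Fintype R.H := Fintype.ofFinite R.H
    have hle := IsCyclic.card_pow_eq_one_le (α := R.H) (n := 2) (by norm_num)
    have hsub : ({1, ⟨R.t, R.t_mem⟩, ⟨h, hh⟩} : Finset R.H) ⊆
        Finset.univ.filter (fun a : R.H => a ^ 2 = 1) := by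
      intro x hx
      simp only [Finset.mem_insert, Finset.mem_singleton] at hx
      rw [Finset.mem_filter]
      refine ⟨Finset.mem_univ _, ?_⟩
      rcases hx with rfl | rfl | rfl
      · exact one_pow 2
      · apply Subtype.ext
        rw [sq]
        exact R.t_sq
      · apply Subtype.ext
        rw [sq]
        exact hsq
    have hcard : ({1, ⟨R.t, R.t_mem⟩, ⟨h, hh⟩} : Finset R.H).card = 3 := by
      rw [Finset.card_insert_of_notMem, Finset.card_insert_of_notMem, Finset.card_singleton]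
      · rw [Finset.mem_singleton]
        intro e
        exact hnet (congrArg Subtype.val e).symm
      · rw [Finset.mem_insert, Finset.mem_singleton]
        rintro (e | e)
        · exact R.t_ne (congrArg Subtype.val e).symm
        · exact hne1 (congrArg Subtype.val e).symm
    have h3 := Finset.card_le_card hsub
    omega
  · intro h hh
    obtain ⟨j, hj⟩ := reeg1a_qq_mod m
    have h1 := reeg1b_sq_pow R h hh
    have h2 : (qq m - 1) / 2 = 2 * (3 * j) + 1 := by omega
    rw [h2] at h1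
    exact Odd.of_dvd_nat ⟨3 * j, rfl⟩ (orderOf_dvd_of_pow_eq_one h1)

end ReeAx

end Cfsg.Agent.Lib.helper7.REE
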