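import Mathlib
import Cfsg.Agent.Lib.helper7.REE.Defs
import Cfsg.Agent.Lib.helper8.SylowBasic
import Cfsg.Agent.Lib.helper4.REEG4H

/-! REE row G5A (`syl2_card`), helper4. -/

set_option autoImplicit false

namespace Cfsg.Agent.Lib.helper7.REE

open Matrix Cfsg.Agent.Lib.helper8

universe u v

/-- `q = 3^(2m+1) ≡ 3 (mod 24)` -/
theorem reeg5a_qq_mod (m : ℕ) : ∃ j, qq m = 24 * j + 3 := by
  induction m with
  | zero => exact ⟨0, by simp [qq]⟩
  | succ m ih =>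
    obtain ⟨k, hk⟩ := ih
    refine ⟨9 * k + 1, ?_⟩
    have h1 : qq (m + 1) = 9 * qq m := by
      unfold qq
      rw [show 2 * (m + 1) + 1 = (2 * m + 1) + 2 by ring, pow_add]
      ring
    rw [h1, hk]
    ring

/-- the 2-part of `|G|` is `8` -/
theorem reeg5a_gg (m : ℕ) : ∃ k, gg m = 2 ^ 3 * k ∧ ¬ 2 ∣ k := by
  obtain ⟨j, hj⟩ := reeg5a_qq_mod m
  refine ⟨(24 * j + 3) ^ 3 * (12 * j + 1) * ((6 * j + 1) * (576 * j ^ 2 + 120 * j + 7)), ?_, ?_⟩
  · unfold gg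
    rw [hj]
    have h1 : 24 * j + 3 - 1 = 24 * j + 2 := by omega
    rw [h1]
    ring
  · have ho : Odd ((24 * j + 3) ^ 3 * (12 * j + 1) * ((6 * j + 1) * (576 * j ^ 2 + 120 * j + 7))) := by
      apply Odd.mul (Odd.mul (Odd.pow ⟨12 * j + 1, by ring⟩) ⟨6 * j, by ring⟩)
        (Odd.mul ⟨3 * j, by ring⟩ ⟨288 * j ^ 2 + 60 * j + 3, by ring⟩)
    intro h2
    exact (Nat.not_even_iff_odd.mpr ho) (even_iff_two_dvd.mpr h2)

namespace ReeAx

variable {G : Type u} [Group G] [Finite G] {K : Type v} [Field K] [Fintype K] {m : ℕ}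

/-- G5A. The Sylow 2-subgroups have order 8, and one of them contains `V`. -/
theorem syl2_card (R : ReeAx G K m) :
    (∀ S : Sylow 2 G, Nat.card S = 8) ∧ ∃ S : Sylow 2 G, R.V ≤ S := by
  obtain ⟨k, hk, hk2⟩ := reeg5a_gg m
  refine ⟨?_, ?_⟩
  · intro S
    have h := h8_sylow_card 2 3 k (by rw [R.card]; exact hk) hk2 S
    norm_num at h
    exact h
  · have hV : IsPGroup 2 R.V := IsPGroup.of_card (n := 2) (by rw [(V_basic R).2.1]; norm_num)
    exact hV.exists_le_sylow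

end ReeAx

end Cfsg.Agent.Lib.helper7.REE
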