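import Mathlib
import Cfsg.Agent.Lib.helper7.REE.Defs
import Cfsg.Agent.Lib.helper4.REEG4H
import Cfsg.Agent.Lib.helper4.REEG5A

/-! REE row G5B (`rho_exists`), helper4: core on the statement of GENB (`four_normalizer`). -/

set_option autoImplicit false

namespace Cfsg.Agent.Lib.helper7.REE

open Matrix Cfsg.Agent.Lib.helper8

universe u v

namespace ReeAx

variable {G : Type u} [Group G] [Finite G] {K : Type v} [Field K] [Fintype K] {m : ℕ}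

theorem reeg5b_core (R : ReeAx G K m)
    (hfour : ∀ (S : Sylow 2 G), (∀ x ∈ S, x * x = 1) → Nat.card S = 8 →
      Subgroup.centralizer ((S : Subgroup G) : Set G) = S →
      Nat.card (Subgroup.normalizer ((S : Subgroup G) : Set G)) = 168 →
      ∀ a b : G, a ∈ S → b ∈ S → a ≠ 1 → b ≠ 1 → a ≠ b →
      ∃ ρ : G, ρ * a * ρ⁻¹ = b ∧ ρ * b * ρ⁻¹ = a * b) :
    ∃ ρ : G, ρ * R.t * ρ⁻¹ = R.n0 ∧ ρ * R.n0 * ρ⁻¹ = R.t * R.n0 := by
  obtain ⟨hcard, S, hVS⟩ := syl2_card R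
  obtain ⟨hexp, hcent, hnorm⟩ := R.syl2 S
  have hV := V_basic R
  have ht : R.t ∈ R.V := (hV.1 R.t).mpr (Or.inr (Or.inl rfl))
  have hn : R.n0 ∈ R.V := (hV.1 R.n0).mpr (Or.inr (Or.inr (Or.inl rfl)))
  exact hfour S hexp (hcard S) hcent hnorm R.t R.n0 (hVS ht) (hVS hn) R.t_ne hV.2.2.2.2.1 hV.2.2.2.1

end ReeAx

end Cfsg.Agent.Lib.helper7.REE
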