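import Mathlib
import Cfsg.Agent.Lib.helper7.REE.Defs
import Cfsg.Agent.Lib.helper4.REEG5Bcore
import Cfsg.Agent.Lib.Helper24.REEGENB

/-! REE row G5B (`rho_exists`), helper4. -/

set_option autoImplicit false

namespace Cfsg.Agent.Lib.helper7.REE

open Matrix Cfsg.Agent.Lib.helper8

universe u v

namespace ReeAx

variable {G : Type u} [Group G] [Finite G] {K : Type v} [Field K] [Fintype K] {m : ℕ}

/-- G5B. An element `ρ` inducing the 3-cycle `t ↦ n0 ↦ t n0` (`four_normalizer`). -/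
theorem rho_exists (R : ReeAx G K m) :
    ∃ ρ : G, ρ * R.t * ρ⁻¹ = R.n0 ∧ ρ * R.n0 * ρ⁻¹ = R.t * R.n0 :=
  reeg5b_core R (fun S h1 h2 h3 h4 a b ha hb ha1 hb1 hab =>
    four_normalizer S h1 h2 h3 h4 a b ha hb ha1 hb1 hab)

end ReeAx

end Cfsg.Agent.Lib.helper7.REE
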