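import Mathlib
import Cfsg.Agent.Lib.Helper18.REELA.Defs

/-! REE block LA, row LA05 (`la_ker_dvd`), helper4. -/

set_option autoImplicit false

namespace Cfsg.Agent.Lib.helper7.REE

open Matrix Polynomial

universe v

section general

variable {F : Type*} [Field F]

variable {V : Type*} [AddCommGroup V] [Module F V]

/-- LA05 [S-M]. On `W = ker p(f)` (`p` irreducible, `dim W = deg p`, so `W ≠ 0`), `s(f)`
vanishes iff `p ∣ s`.  (If `p ∤ s` then `u p + w s = 1`, so every `x ∈ W` is
`w(f) s(f) x = 0`, but `finrank W = deg p > 0`.) -/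
theorem la_ker_dvd (f : Module.End F V) (p : F[X]) (hp : Irreducible p)
    (hW : Module.finrank F (LinearMap.ker (aeval f p)) = p.natDegree) (s : F[X]) :
    (∀ x ∈ LinearMap.ker (aeval f p), aeval f s x = 0) ↔ p ∣ s := by
  constructor
  · intro h
    by_contra hnd
    have hcop : IsCoprime p s := (hp.coprime_iff_not_dvd).mpr hnd
    obtain ⟨u, w, huw⟩ := hcop
    have hbot : LinearMap.ker (aeval f p) = ⊥ := by
      rw [Submodule.eq_bot_iff]
      intro x hx
      have h1 : aeval f (u * p + w * s) x = x := by
        rw [huw, map_one]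
        rfl
      rw [map_add, map_mul, map_mul, LinearMap.add_apply, Module.End.mul_apply,
        Module.End.mul_apply, LinearMap.mem_ker.mp hx, h x hx, map_zero, map_zero, add_zero] at h1
      exact h1.symm
    rw [hbot, finrank_bot] at hW
    have := hp.natDegree_pos
    omega
  · rintro ⟨c, rfl⟩ x hx
    rw [mul_comm, map_mul, Module.End.mul_apply, LinearMap.mem_ker.mp hx, map_zero]

end general

end Cfsg.Agent.Lib.helper7.REE
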