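import Mathlib
import Cfsg.Agent.Lib.Lead.STB.Defs
import Cfsg.Agent.Lib.Lead.STB.Defs3
import Cfsg.Agent.Lib.helper7.StC
import Cfsg.Agent.Lib.Helper1.STBX1

/-!
# Project STB (designer lead), part 2, rows F18 (`InD_one InD_mul InD_mul_s`) and F18b (`InD_all`) (helper4), CORES.

`stbf18_one` = `InD_one`; `stbf18_mul` / `stbf18_mul_s`: `InD_mul` / `InD_mul_s` with the statements of F10 / F10s, F17 / F17s, F17N as hypotheses; `stbf18_all`: `InD_all` with the statements of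
`InD_mul`, `InD_mul_s` as hypotheses (`closure_left_induction'` of `helper7.StC`, `XQ_gens_inv` of helper1's X1).
-/

set_option autoImplicit false

namespace Cfsg.Agent.Lib.Lead.STB

open Cfsg.Agent.Lib.helper15.St2 Cfsg.Agent.Lib.helper3.STC Cfsg.Agent.Lib.Lead.STD Cfsg.Agent.Lib.helper7.St

universe v w

namespace SysB

variable {K : Type*} [Field K] {ι : Type*} {G : Type*} [Group G] (S : SysB K ι G)

section F
variable (o : ι ⊕ ι)

/-- F18, first statement -/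
theorem stbf18_one : S.InD o 1 :=
  Or.inl ⟨1, one_mem _, 1, one_mem _, by group⟩

/-- core of F18 `InD_mul` -/
theorem stbf18_mul
    (hA : ∀ (a b : ι ⊕ ι) (t : K) {y p : G}, y ∈ S.Yg o → p ∈ S.Phat o → S.InD o (S.x a b t * (y * p)))
    (hB : ∀ {k : ι ⊕ ι}, k ≠ o → k ≠ ng o → ∀ (a b : ι ⊕ ι) (t : K) {y p : G}, y ∈ S.Yg o → p ∈ S.Phat o →
      S.InD o (S.x a b t * (S.w o k 1 * y * p)))
    (hBN : ∀ (a b : ι ⊕ ι) (t : K) {y p : G}, y ∈ S.Yg o → p ∈ S.Phat o → S.InD o (S.x a b t * (S.ws o 1 * y * p)))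
    (a b : ι ⊕ ι) (t : K) {g : G} (hg : S.InD o g) :
    S.InD o (S.x a b t * g) := by
  rcases hg with ⟨y, hy, p, hp, rfl⟩ | ⟨k, hk, hk', y, hy, p, hp, rfl⟩ | ⟨y, hy, p, hp, rfl⟩
  · exact hA a b t hy hp
  · exact hB hk hk' a b t hy hp
  · exact hBN a b t hy hp

/-- core of F18 `InD_mul_s` -/
theorem stbf18_mul_s
    (hA : ∀ (a : ι ⊕ ι) (t : K) {y p : G}, y ∈ S.Yg o → p ∈ S.Phat o → S.InD o (S.xs a t * (y * p)))
    (hB : ∀ {k : ι ⊕ ι}, k ≠ o → k ≠ ng o → ∀ (a : ι ⊕ ι) (t : K) {y p : G}, y ∈ S.Yg o → p ∈ S.Phat o →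
      S.InD o (S.xs a t * (S.w o k 1 * y * p)))
    (hBN : ∀ (a : ι ⊕ ι) (t : K) {y p : G}, y ∈ S.Yg o → p ∈ S.Phat o → S.InD o (S.xs a t * (S.ws o 1 * y * p)))
    (a : ι ⊕ ι) (t : K) {g : G} (hg : S.InD o g) :
    S.InD o (S.xs a t * g) := by
  rcases hg with ⟨y, hy, p, hp, rfl⟩ | ⟨k, hk, hk', y, hy, p, hp, rfl⟩ | ⟨y, hy, p, hp, rfl⟩
  · exact hA a t hy hp
  · exact hB hk hk' a t hy hp
  · exact hBN a t hy hp

/-- core of F18b `InD_all` -/
theorem stbf18_all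
    (hmul : ∀ (a b : ι ⊕ ι) (t : K) {g : G}, S.InD o g → S.InD o (S.x a b t * g))
    (hmuls : ∀ (a : ι ⊕ ι) (t : K) {g : G}, S.InD o g → S.InD o (S.xs a t * g))
    (hgen : S.XQ (fun _ _ => True) (fun _ => True) = ⊤) (g : G) : S.InD o g := by
  have hg : g ∈ S.XQ (fun _ _ => True) (fun _ => True) := by rw [hgen]; exact Subgroup.mem_top g
  revert g
  refine closure_left_induction' (p := fun g => S.InD o g) (S.XQ_gens_inv _ _) (S.stbf18_one o) ?_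
  rintro _ (⟨a, b, t, -, -, -, rfl⟩ | ⟨a, t, -, rfl⟩) g hg
  · exact hmul a b t hg
  · exact hmuls a t hg

end F

end SysB

end Cfsg.Agent.Lib.Lead.STB
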