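import Cfsg.Agent.Lib.Helper19.MOD.Basic
import Cfsg.Agent.Lib.helper15.WB.EFrameEx
import Cfsg.Agent.Lib.Helper21.SUnP7

/-!
# MOD (block of project PSU, S2291; designer helper19), rows F1 (`frame_even`) and F2 (`frame_odd`) (helper4), VERBATIM.

`modf1_even_aux`: the even analogue of `Helper21.SUnP7.exists_frame_aux` (same span argument, on `helper15.WB.part_all_even` + `Helper28.UGen.perp_full`).
`modf1_reindex`: from `ℕ`-indexed frames to `Fin m ⊕ Fin m`.
-/

set_option autoImplicit false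

namespace Cfsg.Agent.Lib.Helper19.MOD

open Matrix Cfsg.Agent.Lib.helper15.SUn Cfsg.Agent.Lib.helper3.STC Cfsg.Agent.Lib.Helper27.STU
  Cfsg.Agent.Lib.helper15.St2

universe u

section frames

variable {F : Type*} [Field F] [Fintype F] {n q : ℕ} {σ : F ≃+* F}

open Cfsg.Agent.Lib.Helper28.UGen Cfsg.Agent.Lib.Helper28.UForm Cfsg.Agent.Lib.Helper21.SUnP7 in
/-- abstract form of the frame in even dimension, for an arbitrary unitary form -/
theorem modf1_even_aux {f : (Fin n → F) → (Fin n → F) → F} (hf : Cfsg.Geo.IsUnitaryForm σ f)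
    (m : ℕ) (hn : n = 2 * m) :
    ∃ (E Fv : ℕ → Fin n → F),
      (∀ i j, i < m → j < m → f (E i) (E j) = 0) ∧
      (∀ i j, i < m → j < m → f (Fv i) (Fv j) = 0) ∧
      (∀ i j, i < m → j < m → f (E i) (Fv j) = if i = j then 1 else 0) ∧
      (∀ i j, i < m → j < m → f (Fv i) (E j) = if i = j then 1 else 0) ∧
      (∀ x : Fin n → F, x = ∑ i ∈ Finset.range m, (f x (Fv i) • E i + f x (E i) • Fv i)) := by
  obtain ⟨E, Fv, k, a, hP⟩ := Cfsg.Agent.Lib.helper15.WB.part_all_even hf m hn m le_rfl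
  have hk := hP.hk
  have hef : ∀ i j, i < m → j < m → f (E i) (Fv j) = if i = j then 1 else 0 := by
    intro i j hi hj
    rw [hf.herm, hP.fe j i hj hi]
    by_cases hij : i = j
    · subst hij; rw [if_pos rfl, map_one]
    · rw [if_neg hij, if_neg (Ne.symm hij), map_zero]
  refine ⟨E, Fv, hP.ee, hP.ff, hef, hP.fe, ?_⟩
  intro x
  have h0 : x - (∑ i ∈ Finset.range m, (f x (Fv i) • E i + f x (E i) • Fv i)) = 0 := by
    apply perp_full _ hP.nd (by omega)
    rw [hP.perp]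
    have hsumE : ∀ i0, i0 < m →
        f (∑ i ∈ Finset.range m, (f x (Fv i) • E i + f x (E i) • Fv i)) (E i0) = f x (E i0) := by
      intro i0 hi0
      rw [f_sum_left hf]
      have hterm : ∀ i ∈ Finset.range m, f (f x (Fv i) • E i + f x (E i) • Fv i) (E i0) =
          if i = i0 then f x (E i0) else 0 := by
        intro i hi
        have him : i < m := Finset.mem_range.mp hi
        rw [hf.add_left, hf.smul_left, hf.smul_left, hP.ee i i0 him hi0, hP.fe i i0 him hi0]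
        by_cases hii : i = i0
        · subst hii; rw [if_pos rfl, if_pos rfl]; ring
        · rw [if_neg hii, if_neg hii]; ring
      rw [Finset.sum_congr rfl hterm, Finset.sum_ite_eq' (Finset.range m) i0,
        if_pos (Finset.mem_range.mpr hi0)]
    have hsumF : ∀ i0, i0 < m →
        f (∑ i ∈ Finset.range m, (f x (Fv i) • E i + f x (E i) • Fv i)) (Fv i0) = f x (Fv i0) := by
      intro i0 hi0
      rw [f_sum_left hf]
      have hterm : ∀ i ∈ Finset.range m, f (f x (Fv i) • E i + f x (E i) • Fv i) (Fv i0) =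
          if i = i0 then f x (Fv i0) else 0 := by
        intro i hi
        have him : i < m := Finset.mem_range.mp hi
        rw [hf.add_left, hf.smul_left, hf.smul_left, hP.ff i i0 him hi0, hef i i0 him hi0]
        by_cases hii : i = i0
        · subst hii; rw [if_pos rfl, if_pos rfl]; ring
        · rw [if_neg hii, if_neg hii]; ring
      rw [Finset.sum_congr rfl hterm, Finset.sum_ite_eq' (Finset.range m) i0,
        if_pos (Finset.mem_range.mpr hi0)]
    intro i0 hi0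
    refine ⟨?_, ?_⟩
    · rw [f_sub_left hf, hsumE i0 hi0]; ring
    · rw [f_sub_left hf, hsumF i0 hi0]; ring
  exact sub_eq_zero.mp h0

/-- reindexing a frame from `ℕ` to `Fin m ⊕ Fin m` -/
theorem modf1_reindex {f : (Fin n → F) → (Fin n → F) → F} (m : ℕ) (E Fv : ℕ → Fin n → F)
    (h1 : ∀ i j, i < m → j < m → f (E i) (E j) = 0)
    (h2 : ∀ i j, i < m → j < m → f (Fv i) (Fv j) = 0)
    (h3 : ∀ i j, i < m → j < m → f (E i) (Fv j) = if i = j then 1 else 0)
    (h4 : ∀ i j, i < m → j < m → f (Fv i) (E j) = if i = j then 1 else 0) :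
    ∃ fr : Fin m ⊕ Fin m → Fin n → F,
      (∀ i : Fin m, fr (Sum.inl i) = E i) ∧ (∀ i : Fin m, fr (Sum.inr i) = Fv i) ∧
      (∀ a, f (fr a) (fr (ng a)) = 1) ∧ (∀ a b, b ≠ ng a → f (fr a) (fr b) = 0) ∧
      ∀ x : Fin n → F, ∑ a, f x (fr (ng a)) • fr a =
        ∑ i ∈ Finset.range m, (f x (Fv i) • E i + f x (E i) • Fv i) := by
  refine ⟨Sum.elim (fun i : Fin m => E i) (fun i : Fin m => Fv i), fun _ => rfl, fun _ => rfl, ?_, ?_, ?_⟩
  · rintro (i | i)
    · show f (E i) (Fv i) = 1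
      rw [h3 i i i.2 i.2, if_pos rfl]
    · show f (Fv i) (E i) = 1
      rw [h4 i i i.2 i.2, if_pos rfl]
  · rintro (i | i) (j | j) hb
    · exact h1 i j i.2 j.2
    · show f (E i) (Fv j) = 0
      have hij : (i : ℕ) ≠ j := fun h => hb (by rw [Fin.ext h]; rfl)
      rw [h3 i j i.2 j.2, if_neg hij]
    · show f (Fv i) (E j) = 0
      have hij : (i : ℕ) ≠ j := fun h => hb (by rw [Fin.ext h]; rfl)
      rw [h4 i j i.2 j.2, if_neg hij]
    · exact h2 i j i.2 j.2
  · intro x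
    rw [Fintype.sum_sum_type, Finset.sum_add_distrib,
      ← Fin.sum_univ_eq_sum_range (fun i => f x (Fv i) • E i) m,
      ← Fin.sum_univ_eq_sum_range (fun i => f x (E i) • Fv i) m]
    rfl

/-- F1 [M] (`Cfsg.Agent.Lib.helper15.WB.part_all_even`, `Cfsg.Agent.Lib.Helper28.UGen.perp_full`; see the proof of `Helper21.SUnP7.exists_frame_aux`) -/
theorem frame_even (hσ : ∀ x, σ x = x ^ q) (hf : Cfsg.Geo.IsUnitaryForm σ (Cfsg.hermForm n F q)) (m : ℕ) (hn : n = 2 * m) :
    ∃ fr : Fin m ⊕ Fin m → Fin n → F,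
      (∀ a, Cfsg.hermForm n F q (fr a) (fr (ng a)) = 1) ∧
      (∀ a b, b ≠ ng a → Cfsg.hermForm n F q (fr a) (fr b) = 0) ∧
      ∀ x : Fin n → F, x = ∑ a, Cfsg.hermForm n F q x (fr (ng a)) • fr a := by
  obtain ⟨E, Fv, h1, h2, h3, h4, h5⟩ := modf1_even_aux hf m hn
  obtain ⟨fr, -, -, g1, g0, gs⟩ := modf1_reindex m E Fv h1 h2 h3 h4
  refine ⟨fr, g1, g0, fun x => ?_⟩
  rw [gs x]
  exact h5 x

/-- F2 [M] (`Cfsg.Agent.Lib.Helper21.SUnP7.exists_frame`) -/
theorem frame_odd (hF : Fintype.card F = q ^ 2) (hσ : ∀ x, σ x = x ^ q) (hf : Cfsg.Geo.IsUnitaryForm σ (Cfsg.hermForm n F q)) (m : ℕ)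
    (hn : n = 2 * m + 1) :
    ∃ (fr : Fin m ⊕ Fin m → Fin n → F) (dv : Fin n → F),
      (∀ a, Cfsg.hermForm n F q (fr a) (fr (ng a)) = 1) ∧
      (∀ a b, b ≠ ng a → Cfsg.hermForm n F q (fr a) (fr b) = 0) ∧
      (∀ a, Cfsg.hermForm n F q dv (fr a) = 0) ∧ Cfsg.hermForm n F q dv dv = 1 ∧
      ∀ x : Fin n → F, x = ∑ a, Cfsg.hermForm n F q x (fr (ng a)) • fr a + Cfsg.hermForm n F q x dv • dv := by
  obtain ⟨E, Fv, d, h1, h2, h3, h4, h5, h6, h7, h8, h9, h10⟩ :=
    Cfsg.Agent.Lib.Helper21.SUnP7.exists_frame_aux hf m hn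
  obtain ⟨fr, e1, e2, g1, g0, gs⟩ := modf1_reindex m E Fv h1 h2 h3 h4
  refine ⟨fr, d, g1, g0, ?_, h5, fun x => ?_⟩
  · rintro (i | i)
    · rw [e1]; exact h7 i i.2
    · rw [e2]; exact h9 i i.2
  · rw [gs x]
    exact h10 x

end frames

end Cfsg.Agent.Lib.Helper19.MOD
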