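import Mathlib
import Cfsg.Agent.Lib.Helper10.TEM.Defs
import Cfsg.Agent.Lib.helper8.ChevFix1
import Cfsg.Agent.Lib.helper8.ChevFix2
import Cfsg.Agent.Lib.helper8.ChevTw7
import Cfsg.Agent.Lib.helper8.ChevTwU1
import Cfsg.Agent.Lib.helper8.ChevTwU2

/-!
# Project TEM = S2191 (designer helper10), rows R2 (`rat_X rat_hh rat_nW rat_nrho rat_XS`) and R3 (`XS_not_rat`) (helper4), VERBATIM.
Self-contained: own-name copy `temr2_rat_iff` of the statement of R1 `rat_iff` (`Rat q g ↔ h8Psi chevE6 f g = g`).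
-/

set_option autoImplicit false

namespace Cfsg.Agent.Lib.Helper10.TEM

open Cfsg.Lie Cfsg.Lie.ChevalleyDatum Matrix
open Cfsg.Agent.Lib.helper8

universe u

variable {K : Type u} [Field K] {q : ℕ} {f : K ≃+* K} {M H : Subgroup (GG K)}

/-- own-name copy of R1 `rat_iff` -/
theorem temr2_rat_iff (hF : Frob q f) (g : GG K) :
    Rat q g ↔ h8Psi chevE6 (f : K →+* K) g = g := by
  constructor
  · intro h
    apply Units.ext
    rw [h8Psi_val]
    ext i j
    rw [Matrix.map_apply]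
    show f _ = _
    rw [hF.pow]
    exact h i j
  · intro h i j
    have h1 := congrArg (fun g : GG K => (g : Matrix chevE6.Idx chevE6.Idx K) i j) h
    simp only [h8Psi_val, Matrix.map_apply] at h1
    rw [← hF.pow]
    exact h1

/-- a fixed parameter -/
theorem temr2_fix (hF : Frob q f) {t : K} (ht : t ^ q = t) : (f : K →+* K) t = t := by
  show f t = t
  rw [hF.pow, ht]

-- ROW R2  [S]  `h8Psi_xU h8Psi_hU h8Psi_nWU h8Psi_nU` + R1.
theorem rat_X (hF : Frob q f) (r : ℕ) (t : K) (ht : t ^ q = t) : Rat q (X r t) := by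
  rw [temr2_rat_iff hF]
  unfold X
  rw [h8Psi_xU chevE6 hB hB, temr2_fix hF ht]

theorem rat_hh (hF : Frob q f) (r : ℕ) (t : K) (ht : t ^ q = t) : Rat q (hh r t) := by
  rw [temr2_rat_iff hF]
  unfold hh
  rw [h8Psi_hU chevE6 hB hB, temr2_fix hF ht]

theorem rat_nW (hF : Frob q f) (w : List ℕ) : Rat q (nW w : GG K) := by
  rw [temr2_rat_iff hF]
  unfold nW
  rw [h8Psi_nWU chevE6 hB hB]

theorem rat_nrho (hF : Frob q f) : Rat q (nrho : GG K) := by
  rw [temr2_rat_iff hF]
  unfold nrho nO nW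
  rw [map_mul, map_mul, map_inv, h8Psi_nWU chevE6 hB hB, h8Psi_nU chevE6 hB hB, map_one]

theorem rat_XS (hF : Frob q f) (r : ℕ) (t : K) (ht : t ^ q = t) : Rat q (XS q r t) := by
  rw [temr2_rat_iff hF]
  unfold XS X
  rw [map_mul, h8Psi_xU chevE6 hB hB, h8Psi_xU chevE6 hB hB, temr2_fix hF ht, map_mul, map_intCast, ht, temr2_fix hF ht]

/-- the block `4` of `posi` -/
theorem temr3_Lb : h8Lb chevE6 posi 4 = [36, 56] := by decide +kernel

-- ROW R3  [S-M]
theorem XS_not_rat (hF : Frob q f) (t : K) (ht : t ^ q ≠ t) : ¬ Rat q (XS q 56 t) := by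
  intro hr
  rw [temr2_rat_iff hF] at hr
  unfold XS X at hr
  rw [map_mul, h8Psi_xU chevE6 hB hB, h8Psi_xU chevE6 hB hB] at hr
  have hs : h8sE6 56 = 36 := by decide
  rw [hs] at hr
  have hc : ∀ a b : K, h8xU chevE6 hB 56 a * h8xU chevE6 hB 36 b = h8xU chevE6 hB 36 b * h8xU chevE6 hB 56 a :=
    fun a b => h8xU_commute chevE6 hB hC 56 36 (by decide) (by decide) (by decide) (by decide) (by decide +kernel) a b
  rw [hc, hc] at hr
  set s1 : K := ((h8eE6 56 : ℤ) : K) * t ^ q with hs1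
  have key := h8Ub_unique chevE6 hB hC hBN hO2 posi blk blkRead 4
    (fun r => if r = 36 then (f : K →+* K) s1 else (f : K →+* K) t) (fun r => if r = 36 then s1 else t) 1 1
    (one_mem _) (one_mem _) (by
      rw [temr3_Lb, h8Pb_cons, h8Pb_cons, h8Pb_nil, h8Pb_cons, h8Pb_cons, h8Pb_nil]
      simp only [if_true, mul_one]
      rw [if_neg (by decide), if_neg (by decide)]
      exact hr) 56 (by rw [temr3_Lb]; simp)
  beta_reduce at key
  rw [if_neg (by decide), if_neg (by decide)] at key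
  apply ht
  rw [← hF.pow]
  exact key

end Cfsg.Agent.Lib.Helper10.TEM
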