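import Cfsg.Agent.Lib.helper23.TD4V.Defs

/-!
# TD4V row G: the seven generic lemmas on `CjG`, `CovG`.
-/

set_option autoImplicit false

namespace Cfsg.Agent.Lib.helper23.TD4V

open Cfsg.Lie Cfsg.Lie.ChevalleyDatum Matrix
open Cfsg.Agent.Lib.helper8 Cfsg.Agent.Lib.helper8.TD4
open Cfsg.Agent.Lib.helper23.P4V

universe u v

section G

variable {K : Type u} [Field K] (q : ℕ)

/-- **G** [S] -/
theorem CjG.refl (x : GG K) : CjG q x x := by
  exact ⟨1, Subgroup.one_mem _, by group⟩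

theorem CjG.symm {x y : GG K} (h : CjG q x y) : CjG q y x := by
  obtain ⟨c, hc, rfl⟩ := h
  exact ⟨c⁻¹, Subgroup.inv_mem _ hc, by group⟩

theorem CjG.trans {x y z : GG K} (h : CjG q x y) (h' : CjG q y z) : CjG q x z := by
  obtain ⟨c, hc, rfl⟩ := h
  obtain ⟨d, hd, rfl⟩ := h'
  exact ⟨d * c, Subgroup.mul_mem _ hd hc, by group⟩

theorem CjG.conj {x y : GG K} (h : CjG q x y) (c : GG K) (hc : c ∈ twistedD4 K q) :
    CjG q x (c * y * c⁻¹) := by
  obtain ⟨d, hd, rfl⟩ := h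
  exact ⟨c * d, Subgroup.mul_mem _ hc hd, by group⟩

theorem CovG.of_mul {x y z : GG K} (hy : CjG q x y) (hz : CjG q x z) : CovG q x (y * z) := by
  obtain ⟨c, hc, rfl⟩ := hy
  obtain ⟨d, hd, rfl⟩ := hz
  exact ⟨c, hc, d, hd, rfl⟩

theorem CovG.conj {x g : GG K} (h : CovG q x g) (c : GG K) (hc : c ∈ twistedD4 K q) :
    CovG q x (c * g * c⁻¹) := by
  obtain ⟨a, ha, b, hb, rfl⟩ := h
  exact ⟨c * a, Subgroup.mul_mem _ hc ha, c * b, Subgroup.mul_mem _ hc hb, by group⟩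

theorem CovG.of_conj {x g : GG K} (c : GG K) (hc : c ∈ twistedD4 K q) (h : CovG q x (c * g * c⁻¹)) :
    CovG q x g := by
  have h1 := CovG.conj q h c⁻¹ (Subgroup.inv_mem _ hc)
  have e : c⁻¹ * (c * g * c⁻¹) * c⁻¹⁻¹ = g := by group
  rwa [e] at h1

end G

end Cfsg.Agent.Lib.helper23.TD4V
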