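import Cfsg.Agent.Lib.helper23.TD4V.Defs
import Cfsg.Agent.S1047
import Cfsg.Agent.Lib.helper8.ChevTri
import Cfsg.Agent.Lib.helper8.ChevGroup
import Cfsg.Agent.Lib.helper8.ChevUp

/-!
# TD4V row U1 (`PK_upper`): the elements of `PK` are block upper triangular for the grading `dg`.

Extras (reusable for U2): `td4vu1_dgN` (the degree of a root index), `td4vu1_x_entry` (a nonzero
off-diagonal entry `(i, j)` of `x_r(t)` has `dg i = dg j + k * deg r`, `k ≥ 1`), `td4vu1_mul`
(block upper triangular matrices are closed under products).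
-/

set_option autoImplicit false

namespace Cfsg.Agent.Lib.helper23.TD4V

open Cfsg.Lie Cfsg.Lie.ChevalleyDatum Matrix
open Cfsg.Agent.Lib.helper8 Cfsg.Agent.Lib.helper8.TD4
open Cfsg.Agent.Lib.helper23.P4V

universe u v

/-- the degree of the root with index `r`: the sum of its coefficients on `α₁ α₃ α₄` -/
def td4vu1_dgN (r : ℕ) : ℤ :=
  (chevD4.coroot.getD r #[]).getD 0 0 + (chevD4.coroot.getD r #[]).getD 2 0 +
    (chevD4.coroot.getD r #[]).getD 3 0

theorem td4vu1_dg_inr (r : Fin chevD4.nroots) : dg (Sum.inr r) = td4vu1_dgN r.val := rfl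

theorem td4vu1_dg_inl (a : Fin chevD4.rank) : dg (Sum.inl a) = 0 := rfl

theorem td4vu1_neg : ∀ r < 24, td4vu1_dgN (chevD4.negIdx.getD r 0) = - td4vu1_dgN r := by
  decide +kernel

theorem td4vu1_chain : ∀ r < 24, ∀ e ∈ (chevD4.chain.getD r #[]).toList, ∀ q ∈ e.2.toList,
    td4vu1_dgN q.1 = td4vu1_dgN e.1 + td4vu1_dgN r := by
  decide +kernel

theorem td4vu1_pos : ∀ r < 24, chevD4.IsPosRoot r → 0 ≤ td4vu1_dgN r := by
  decide +kernel

section U

variable {K : Type u} [Field K]

/-- a nonzero off-diagonal entry `(i, j)` of `x_r(t)` has `dg i = dg j + k * deg r` with `k ≥ 1` -/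
theorem td4vu1_xMat_entry (r : Fin chevD4.nroots) (t : K) (i j : chevD4.Idx) (hij : i ≠ j)
    (h : chevD4.xMat K r t i j ≠ 0) : ∃ k : ℕ, 1 ≤ k ∧ dg i = dg j + k * td4vu1_dgN r.val := by
  have hr24 : r.val < 24 := r.2
  have hneg := td4vu1_neg r.val hr24
  have hch := td4vu1_chain r.val hr24
  unfold ChevalleyDatum.xMat at h
  rw [Matrix.of_apply] at h
  generalize chevD4.negIdx.getD r.val 0 = nr at h hneg
  rcases j with a | s
  · rcases i with a' | u
    · exfalso
      apply h
      have hne : a' ≠ a := fun e => hij (by rw [e])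
      simp [hne]
    · by_cases hur : u = r
      · subst hur
        refine ⟨1, le_refl _, ?_⟩
        rw [td4vu1_dg_inr, td4vu1_dg_inl]
        simp
      · exfalso
        apply h
        simp [hur]
  · by_cases hsr : s = r
    · exfalso
      apply h
      subst hsr
      rcases i with a' | u
      · simp
      · have hne : u ≠ s := fun e => hij (by rw [e])
        simp [hne]
    · by_cases hsn : s.val = nr
      · rcases i with a' | u
        · refine ⟨1, le_refl _, ?_⟩
          rw [td4vu1_dg_inr, td4vu1_dg_inl, hsn, hneg]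
          simp
        · by_cases hus : u = s
          · exact absurd (by rw [hus]) hij
          · by_cases hur : u = r
            · subst hur
              refine ⟨2, by norm_num, ?_⟩
              rw [td4vu1_dg_inr, td4vu1_dg_inr, hsn, hneg]
              push_cast
              ring
            · exfalso
              apply h
              simp [hsr, hsn, hus, hur]
      · rcases i with a' | u
        · exfalso
          apply h
          simp [hsr, hsn]
        · simp only [hsr, hsn, if_false] at h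
          have hus : u ≠ s := fun e => hij (by rw [e])
          by_cases hcc : chevD4.chainCoeff r.val s.val u.val = []
          · exfalso
            apply h
            rw [hcc]
            simp [hus]
          · obtain ⟨e, he, hes, q, hq, hqu⟩ := h8_chainCoeff_ne_nil chevD4 _ _ _ hcc
            have h1 := hch e he q hq
            refine ⟨1, le_refl _, ?_⟩
            rw [td4vu1_dg_inr, td4vu1_dg_inr, ← hqu, ← hes, h1]
            simp

theorem td4vu1_x_entry (r : ℕ) (t : K) (i j : chevD4.Idx) (hij : i ≠ j)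
    (h : chevD4.x K r t i j ≠ 0) : ∃ k : ℕ, 1 ≤ k ∧ dg i = dg j + k * td4vu1_dgN r := by
  unfold ChevalleyDatum.x at h
  by_cases hr : r < chevD4.nroots
  · rw [dif_pos hr] at h
    exact td4vu1_xMat_entry ⟨r, hr⟩ t i j hij h
  · rw [dif_neg hr, Matrix.one_apply_ne hij] at h
    exact absurd rfl h

/-- `x_r(t)` is block upper triangular when `deg r ≥ 0` -/
theorem td4vu1_x_upper (r : ℕ) (hr : 0 ≤ td4vu1_dgN r) (t : K) (i j : chevD4.Idx)
    (h : dg i < dg j) : chevD4.x K r t i j = 0 := by
  by_contra hne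
  have hij : i ≠ j := fun e => by rw [e] at h; exact lt_irrefl _ h
  obtain ⟨k, hk, e⟩ := td4vu1_x_entry r t i j hij hne
  have : 0 ≤ (k : ℤ) * td4vu1_dgN r := mul_nonneg (by positivity) hr
  omega

/-- block upper triangular matrices are closed under products -/
theorem td4vu1_mul (A B : Matrix chevD4.Idx chevD4.Idx K)
    (hA : ∀ i j, dg i < dg j → A i j = 0) (hB : ∀ i j, dg i < dg j → B i j = 0)
    (i j : chevD4.Idx) (h : dg i < dg j) : (A * B) i j = 0 := by
  rw [Matrix.mul_apply]
  apply Finset.sum_eq_zero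
  intro k _
  by_cases hk : dg i < dg k
  · rw [hA i k hk, zero_mul]
  · rw [hB k j (by omega), mul_zero]

theorem td4vu1_deg_nonneg (r : ℕ)
    (hr : chevD4.IsPosRoot r ∨ chevD4.InRootSub ({1} : Set ℕ) r) : 0 ≤ td4vu1_dgN r := by
  rcases hr with h | h
  · exact td4vu1_pos r h.1 h
  · have hrk : chevD4.rank = 4 := rfl
    have h0 := h.2 0 (by rw [hrk]; norm_num) (by simp)
    have h2 := h.2 2 (by rw [hrk]; norm_num) (by simp)
    have h3 := h.2 3 (by rw [hrk]; norm_num) (by simp)
    unfold td4vu1_dgN
    rw [h0, h2, h3]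
    norm_num

/-- **U1** [M] -/
theorem PK_upper (g : GG K) (hg : g ∈ PK K) (i j : chevD4.Idx) (h : dg i < dg j) :
    (g : Matrix chevD4.Idx chevD4.Idx K) i j = 0 := by
  have hD : chevD4 ∈ [chevG2, chevB2, chevD4, chevF4, chevE6, chevE7, chevE8] := by simp
  have hPK : PK K = chevD4.diagonalSubgroup K ⊔
      Subgroup.closure {g : GL chevD4.Idx K | ∃ (r : ℕ) (t : K),
        (chevD4.IsPosRoot r ∨ chevD4.InRootSub ({1} : Set ℕ) r) ∧
        (g : Matrix chevD4.Idx chevD4.Idx K) = chevD4.x K r t} :=
    Cfsg.Agent.S1047.result (F := K) chevD4 hD ({1} : Set ℕ)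
  rw [hPK, ← Subgroup.closure_eq (chevD4.diagonalSubgroup K), ← Subgroup.closure_union] at hg
  revert i j
  induction hg using Subgroup.closure_induction'' with
  | mem x hx =>
    intro i j h
    have hij : i ≠ j := fun e => by rw [e] at h; exact lt_irrefl _ h
    rcases hx with hx | ⟨r, t, hr, hx⟩
    · obtain ⟨d, hd⟩ := h8_diag_of_mem_H chevD4 hB x hx
      rw [hd, Matrix.diagonal_apply_ne _ hij]
    · rw [hx]
      exact td4vu1_x_upper r (td4vu1_deg_nonneg r hr) t i j h
  | inv_mem x hx =>
    intro i j h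
    have hij : i ≠ j := fun e => by rw [e] at h; exact lt_irrefl _ h
    rcases hx with hx | ⟨r, t, hr, hx⟩
    · obtain ⟨d, hd⟩ := h8_diag_of_mem_H chevD4 hB x⁻¹ (Subgroup.inv_mem _ hx)
      rw [hd, Matrix.diagonal_apply_ne _ hij]
    · have hxe : x = h8xU chevD4 hB r t := Units.ext hx
      rw [hxe, h8xU_inv, h8xU_val]
      exact td4vu1_x_upper r (td4vu1_deg_nonneg r hr) (-t) i j h
  | one =>
    intro i j h
    have hij : i ≠ j := fun e => by rw [e] at h; exact lt_irrefl _ h
    rw [Units.val_one, Matrix.one_apply_ne hij]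
  | mul x y _ _ hx hy =>
    intro i j h
    rw [Units.val_mul]
    exact td4vu1_mul _ _ hx hy i j h

end U

end Cfsg.Agent.Lib.helper23.TD4V
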