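import Cfsg.Agent.Lib.helper23.TD4V.Defs
import Cfsg.Agent.Lib.helper8.ChevCommAll
import Cfsg.Agent.Lib.helper8.ChevTw7
import Cfsg.Agent.Lib.helper8.ChevBN2

/-!
# TD4V row J2 (`X_comm`, `hh_comm`): commuting root elements of `D₄(K)`.

Extras: `td4vj2_neg` (`chevD4.negIdx.getD r 0 = 23 - r`), `td4vj2_hh_eq` (`hh r c` as a word in
`X r _`, `X (23 - r) _`).
-/

set_option autoImplicit false

namespace Cfsg.Agent.Lib.helper23.TD4V

open Cfsg.Lie Cfsg.Lie.ChevalleyDatum Matrix
open Cfsg.Agent.Lib.helper8 Cfsg.Agent.Lib.helper8.TD4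
open Cfsg.Agent.Lib.helper23.P4V

universe u v

section J

variable {K : Type u} [Field K]

/-- the negative of the root `r` of `chevD4` has index `23 - r` -/
theorem td4vj2_neg : ∀ r < 24, chevD4.negIdx.getD r 0 = 23 - r := by decide

/-- `h_r(c) = n_r(c) n_r(-1)` as a word in the root elements of `± r` -/
theorem td4vj2_hh_eq (r : ℕ) (hr : r < 24) (c : K) :
    hh r c = (X r c * X (23 - r) (-c⁻¹) * X r c) * (X r (-1) * X (23 - r) (-(-1 : K)⁻¹) * X r (-1)) := by
  have e : hh r c = h8nU chevD4 hB r c * h8nU chevD4 hB r (-1) := by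
    unfold hh h8hU ChevalleyDatum.hWord
    rw [h8wordU_append]
    rfl
  rw [e, h8nU_eq, h8nU_eq, td4vj2_neg r hr]
  rfl

/-- **J2** [S-M] -/
theorem X_comm (r s : ℕ) (hr : r < 24) (hs : s < 24) (h : chevD4.commTerms r s = []) (hne : r + s ≠ 23)
    (t u : K) : X r t * X s u = X s u * X r t := by
  by_cases hrs : s = r
  · subst hrs
    unfold X
    rw [h8xU_add chevD4 hB s hs, h8xU_add chevD4 hB s hs, add_comm]
  · have hneg : s ≠ chevD4.negIdx.getD r 0 := by
      rw [td4vj2_neg r hr]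
      omega
    exact h8xU_commute chevD4 hB (h8commAll chevD4 (by simp)) r s hr hs hrs hneg h t u

theorem hh_comm (r s : ℕ) (hr : r < 24) (hs : s < 24) (h : chevD4.commTerms r s = [])
    (h' : chevD4.commTerms (23 - r) s = []) (hne : r + s ≠ 23) (hne' : r ≠ s) (c u : K) :
    hh r c * X s u = X s u * hh r c := by
  have h1 : ∀ t : K, Commute (X r t) (X s u) := fun t => X_comm r s hr hs h hne t u
  have h2 : ∀ t : K, Commute (X (23 - r) t) (X s u) := fun t =>
    X_comm (23 - r) s (by omega) hs h' (by omega) t u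
  rw [td4vj2_hh_eq r hr c]
  exact (((h1 _).mul_left (h2 _)).mul_left (h1 _)).mul_left
    (((h1 _).mul_left (h2 _)).mul_left (h1 _))

end J

end Cfsg.Agent.Lib.helper23.TD4V
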