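import Cfsg.Agent.Lib.helper4.TSNONSINGcore
import Cfsg.Agent.Lib.Helper10.TSHYPB
import Cfsg.Agent.Lib.Helper11.TSTVCL

/-!
# Project TS, piece NONSING: `tt_nonsing` verbatim (= `tsnonsing_core` + HYPB `sing_ex` + TVCL)
-/

set_option autoImplicit false
set_option linter.unusedSectionVars false
set_option linter.unusedVariables false

namespace Cfsg.Agent.Lib.Helper21.TS

open Matrix
open scoped Kronecker
open Cfsg.Agent.Lib.helper7.TP

variable {ι : Type*} [Fintype ι] [DecidableEq ι] {a b : ℕ} {F : Type*} [Field F]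
  {J1 : Matrix (Fin a) (Fin a) F} {J2 : Matrix (Fin b) (Fin b) F}
  {M : Subgroup (Matrix.GeneralLinearGroup (Fin a × Fin b) F)}

/-- NONSING [M-L]. singular `w` ⟹ all `w`. -/
theorem tt_nonsing [Fintype F] (C : Ctx J1 J2) (hb : 3 ≤ b) (hT0 : T0 J1 J2 ≤ M) (hMS : M ≤ SpV J1 J2)
    (hsing : ∀ (u : Fin a → F) (w : Fin b → F), bf J2 w w = 0 → TT J1 J2 M (ten u w)) :
    ∀ (u : Fin a → F) (w : Fin b → F), TT J1 J2 M (ten u w) :=
  tsnonsing_core C hT0 (sing_ex C.sym C.two C.det2 hb) tt_zero (fun h hh v hv => tt_conj hMS hh hv)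
    (fun v hv c => tt_smul hv c) (fun v v' hv hv' hne => tt_hyp C hMS hv hv' hne) hsing

end Cfsg.Agent.Lib.Helper21.TS
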