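import Cfsg.Agent.Lib.helper4.TSMAINAcore
import Cfsg.Agent.Lib.helper4.TSNONSING
import Cfsg.Agent.Lib.Helper24.TSLA
import Cfsg.Agent.Lib.Helper20.TSSPAN

/-!
# Project TS, piece MAINA: `main_A`, `main_tv` verbatim (assembly of `la_sing`, `tt_nonsing`, `tt_all`)
-/

set_option autoImplicit false
set_option linter.unusedSectionVars false
set_option linter.unusedVariables false

namespace Cfsg.Agent.Lib.Helper21.TS

open Matrix
open scoped Kronecker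
open Cfsg.Agent.Lib.helper7.TP

variable {ι : Type*} [Fintype ι] [DecidableEq ι] {a b : ℕ} {F : Type*} [Field F]
  {J1 : Matrix (Fin a) (Fin a) F} {J2 : Matrix (Fin b) (Fin b) F}
  {M : Subgroup (Matrix.GeneralLinearGroup (Fin a × Fin b) F)}

/-- MAINA [S]. `la_sing`, `tt_nonsing`, `tt_all`. -/
theorem main_A [Fintype F] (C : Ctx J1 J2) (hb : 3 ≤ b) (hex : 5 ≤ Fintype.card F ∨ 4 ≤ b)
    (hT0 : T0 J1 J2 ≤ M) (hMS : M ≤ SpV J1 J2) {u : Fin a → F} (hu : u ≠ 0)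
    {η : Matrix (Fin b) (Fin b) F} (hη : η ∈ LamU J1 J2 M u) (hns : ∀ c : F, η ≠ c • 1) :
    ∀ v : Fin a × Fin b → F, TT J1 J2 M v :=
  tt_all C hMS (tt_nonsing C hb hT0 hMS (la_sing C hb hex hT0 hMS hu hη hns))

/-- MAINTV [M]. one transvection `≠ 1` with a pure centre ⟹ all transvections. -/
theorem main_tv [Fintype F] (C : Ctx J1 J2) (hb : 3 ≤ b) (hex : 5 ≤ Fintype.card F ∨ 4 ≤ b)
    (hT0 : T0 J1 J2 ≤ M) (hMS : M ≤ SpV J1 J2) (hNT : ¬ NTp J1 J2 M) :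
    ∀ v : Fin a × Fin b → F, TT J1 J2 M v :=
  tsmaina_tv_core C (by omega) (fun u hu η hη hns => main_A C hb hex hT0 hMS hu hη hns) hNT

end Cfsg.Agent.Lib.Helper21.TS
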