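import Cfsg.Agent.Lib.helper7.TP.Defs
import Cfsg.Agent.Lib.Helper20.TPALG

/-!
# Project TP (S5637), piece NS : `ns_of_nt`

If `g (A ⊗ w₀) ⊆ A ⊗ ker ψ` then `g (A ⊗ w₀)` is a `B`-line (under `NT M`).
-/

set_option autoImplicit false
set_option linter.unusedVariables false
set_option linter.unusedSectionVars false

namespace Cfsg.Agent.Lib.helper7.TP

open Matrix
open scoped Kronecker

variable {a b : ℕ} {F : Type*} [Field F]

/-! ## small linear-algebra lemmas about `ten` and `ctr` -/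

theorem tpns_ctr_sub (ψ : Fin b → F) (v v' : Fin a × Fin b → F) :
    ctr ψ (v - v') = ctr ψ v - ctr ψ v' := by
  have h := ctr_add ψ (v - v') v'
  rw [sub_add_cancel] at h
  rw [h, add_sub_cancel_right]

theorem tpns_ctr_zero (ψ : Fin b → F) : ctr ψ (0 : Fin a × Fin b → F) = 0 := by
  funext i
  simp [ctr]

theorem tpns_ctr_add_left (ψ ψ' : Fin b → F) (v : Fin a × Fin b → F) :
    ctr (ψ + ψ') v = ctr ψ v + ctr ψ' v := by
  funext i
  simp [ctr, mul_add, Finset.sum_add_distrib]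

theorem tpns_ctr_smul_left (c : F) (ψ : Fin b → F) (v : Fin a × Fin b → F) :
    ctr (c • ψ) v = c • ctr ψ v := by
  funext i
  simp only [ctr, Pi.smul_apply, smul_eq_mul]
  rw [Finset.mul_sum]
  refine Finset.sum_congr rfl fun j _ => ?_
  ring

theorem tpns_ctr_sub_left (ψ ψ' : Fin b → F) (v : Fin a × Fin b → F) :
    ctr (ψ - ψ') v = ctr ψ v - ctr ψ' v := by
  have h := tpns_ctr_add_left (ψ - ψ') ψ' v
  rw [sub_add_cancel] at h
  rw [h, add_sub_cancel_right]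

theorem tpns_ctr_single (j : Fin b) (v : Fin a × Fin b → F) :
    ctr (Pi.single j (1 : F)) v = fun i => v (i, j) := by
  funext i
  simp only [ctr]
  rw [Finset.sum_eq_single j]
  · rw [Pi.single_eq_same, mul_one]
  · intro k _ hk
    rw [Pi.single_eq_of_ne hk, mul_zero]
  · intro h
    exact absurd (Finset.mem_univ j) h

theorem tpns_ten_sub_left (u u' : Fin a → F) (w : Fin b → F) :
    ten (u - u') w = ten u w - ten u' w := by
  have h := ten_add_left (u - u') u' w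
  rw [sub_add_cancel] at h
  rw [h, add_sub_cancel_right]

theorem tpns_ten_zero_left (w : Fin b → F) : ten (0 : Fin a → F) w = 0 := by
  funext p
  simp [ten]

theorem tpns_ten_zero_right (u : Fin a → F) : ten u (0 : Fin b → F) = 0 := by
  funext p
  simp [ten]

theorem tpns_ten_neg_left (u : Fin a → F) (w : Fin b → F) : ten (-u) w = -ten u w := by
  funext p
  simp [ten]

theorem tpns_exists_ne {k : ℕ} {w : Fin k → F} (hw : w ≠ 0) : ∃ j, w j ≠ 0 := by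
  by_contra hc
  push Not at hc
  exact hw (funext hc)

theorem tpns_ten_eq_zero {u : Fin a → F} {w : Fin b → F} (h : ten u w = 0) (hw : w ≠ 0) : u = 0 := by
  obtain ⟨j, hj⟩ := tpns_exists_ne hw
  funext i
  have h1 := congrFun h (i, j)
  simp only [ten, Pi.zero_apply] at h1
  rcases mul_eq_zero.1 h1 with h2 | h2
  · exact h2
  · exact absurd h2 hj

theorem tpns_ten_left_inj {u u' : Fin a → F} {w : Fin b → F} (h : ten u w = ten u' w) (hw : w ≠ 0) :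
    u = u' := by
  have h1 : ten (u - u') w = 0 := by rw [tpns_ten_sub_left, h, sub_self]
  exact sub_eq_zero.1 (tpns_ten_eq_zero h1 hw)

/-- `u ↦ ten u w` as a linear map -/
def tpns_tenL (w : Fin b → F) : (Fin a → F) →ₗ[F] (Fin a × Fin b → F) where
  toFun u := ten u w
  map_add' u u' := ten_add_left u u' w
  map_smul' c u := ten_smul_left c u w

/-- `ctr ψ` as a linear map -/
def tpns_ctrL (ψ : Fin b → F) : (Fin a × Fin b → F) →ₗ[F] (Fin a → F) where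
  toFun v := ctr ψ v
  map_add' v v' := ctr_add ψ v v'
  map_smul' c v := ctr_smul ψ c v

/-- the linear map `u ↦ ctr ψ (G (ten u w))` -/
def tpns_lin (G : Matrix (Fin a × Fin b) (Fin a × Fin b) F) (ψ w : Fin b → F) :
    (Fin a → F) →ₗ[F] (Fin a → F) :=
  (tpns_ctrL ψ).comp ((Matrix.toLin' G).comp (tpns_tenL w))

theorem tpns_lin_apply (G : Matrix (Fin a × Fin b) (Fin a × Fin b) F) (ψ w : Fin b → F)
    (u : Fin a → F) : tpns_lin G ψ w u = ctr ψ (G *ᵥ ten u w) := rfl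

/-- the matrix `⟨ψ| G |w⟩` of `u ↦ ctr ψ (G (ten u w))` -/
noncomputable def tpns_mat (G : Matrix (Fin a × Fin b) (Fin a × Fin b) F) (ψ w : Fin b → F) :
    Matrix (Fin a) (Fin a) F :=
  LinearMap.toMatrix' (tpns_lin G ψ w)

theorem tpns_mat_mulVec (G : Matrix (Fin a × Fin b) (Fin a × Fin b) F) (ψ w : Fin b → F)
    (u : Fin a → F) : tpns_mat G ψ w *ᵥ u = ctr ψ (G *ᵥ ten u w) := by
  rw [tpns_mat, LinearMap.toMatrix'_mulVec, tpns_lin_apply]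

/-- two covectors on `F^b`, `b ≥ 3`, have a common non-zero kernel vector -/
theorem tpns_common_ker (hb : 3 ≤ b) (ψ ψ' : Fin b → F) :
    ∃ w : Fin b → F, w ≠ 0 ∧ ψ ⬝ᵥ w = 0 ∧ ψ' ⬝ᵥ w = 0 := by
  classical
  obtain ⟨i0, hi0⟩ : ∃ i0 : Fin b, i0 = ⟨0, by omega⟩ := ⟨_, rfl⟩
  obtain ⟨i1, hi1⟩ : ∃ i1 : Fin b, i1 = ⟨1, by omega⟩ := ⟨_, rfl⟩
  obtain ⟨i2, hi2⟩ : ∃ i2 : Fin b, i2 = ⟨2, by omega⟩ := ⟨_, rfl⟩
  have h01 : i1 ≠ i0 := by rw [hi0, hi1]; simp [Fin.ext_iff]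
  have h20 : i2 ≠ i0 := by rw [hi0, hi2]; simp [Fin.ext_iff]
  have h21 : i2 ≠ i1 := by rw [hi1, hi2]; simp [Fin.ext_iff]
  obtain ⟨A, hA⟩ : ∃ A : Matrix (Fin b) (Fin b) F,
      A = Matrix.of (fun i => if i = i0 then ψ else if i = i1 then ψ' else 0) := ⟨_, rfl⟩
  have hdet : A.det = 0 := by
    apply Matrix.det_eq_zero_of_row_eq_zero i2
    intro j
    rw [hA, Matrix.of_apply, if_neg h20, if_neg h21]
    rfl
  obtain ⟨v, hv0, hv⟩ := Matrix.exists_mulVec_eq_zero_iff.2 hdet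
  refine ⟨v, hv0, ?_, ?_⟩
  · have h1 := congrFun hv i0
    rw [hA] at h1
    simp only [Matrix.mulVec, Matrix.of_apply, if_true, Pi.zero_apply] at h1
    exact h1
  · have h1 := congrFun hv i1
    rw [hA] at h1
    simp only [Matrix.mulVec, Matrix.of_apply, if_neg h01, if_true, Pi.zero_apply] at h1
    exact h1

/-- two independent vectors in the kernel of a covector, `b ≥ 3` -/
theorem tpns_two_ker (hb : 3 ≤ b) (ψ : Fin b → F) :
    ∃ w w' : Fin b → F, ψ ⬝ᵥ w = 0 ∧ ψ ⬝ᵥ w' = 0 ∧ w' ≠ 0 ∧ ∀ c : F, w ≠ c • w' := by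
  classical
  obtain ⟨w', hw'0, hw', _⟩ := tpns_common_ker hb ψ ψ
  obtain ⟨k, hk⟩ := tpns_exists_ne hw'0
  obtain ⟨w, hw0, hw, hwk⟩ := tpns_common_ker hb ψ (Pi.single k 1)
  rw [single_one_dotProduct] at hwk
  refine ⟨w, w', hw, hw', hw'0, fun c hc => ?_⟩
  have h1 := congrFun hc k
  rw [hwk, Pi.smul_apply, smul_eq_mul] at h1
  rcases mul_eq_zero.1 h1.symm with h2 | h2
  · apply hw0
    rw [hc, h2, zero_smul]
  · exact hk h2

/-- a vector killed by all contractions with covectors vanishing on `w₀ ≠ 0` lies on the `B`-line of `w₀` -/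
theorem tpns_mem_Bline_of_ctr {w₀ : Fin b → F} (hw₀ : w₀ ≠ 0) (v : Fin a × Fin b → F)
    (h : ∀ ψ₀ : Fin b → F, ψ₀ ⬝ᵥ w₀ = 0 → ctr ψ₀ v = 0) : ∃ u₁ : Fin a → F, v = ten u₁ w₀ := by
  classical
  obtain ⟨j₀, hj₀⟩ := tpns_exists_ne hw₀
  refine ⟨fun i => v (i, j₀) * (w₀ j₀)⁻¹, ?_⟩
  funext ⟨i, j⟩
  have hψ : ((w₀ j₀) • Pi.single j (1 : F) - (w₀ j) • Pi.single j₀ (1 : F) : Fin b → F) ⬝ᵥ w₀ = 0 := by
    rw [sub_dotProduct, smul_dotProduct, smul_dotProduct, single_one_dotProduct,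
      single_one_dotProduct, smul_eq_mul, smul_eq_mul]
    ring
  have h1 := congrFun (h _ hψ) i
  rw [tpns_ctr_sub_left, tpns_ctr_smul_left, tpns_ctr_smul_left, tpns_ctr_single, tpns_ctr_single] at h1
  simp only [Pi.sub_apply, Pi.smul_apply, smul_eq_mul, Pi.zero_apply] at h1
  simp only [ten]
  field_simp
  linear_combination h1

/-- the commutator of two invertible matrices from a matrix identity -/
theorem tpns_comm_eq {n : Type*} [Fintype n] [DecidableEq n] (p q : Matrix.GeneralLinearGroup n F)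
    (C : Matrix n n F)
    (h : C * ((q : Matrix n n F) * (p : Matrix n n F)) = (p : Matrix n n F) * (q : Matrix n n F)) :
    ((p * q * p⁻¹ * q⁻¹ : Matrix.GeneralLinearGroup n F) : Matrix n n F) = C := by
  have h1 : ((p * q * p⁻¹ * q⁻¹ : Matrix.GeneralLinearGroup n F) : Matrix n n F) *
      ((q * p : Matrix.GeneralLinearGroup n F) : Matrix n n F) =
      ((p * q : Matrix.GeneralLinearGroup n F) : Matrix n n F) := by
    rw [← Units.val_mul]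
    congr 1
    group
  have h2 : C * ((q * p : Matrix.GeneralLinearGroup n F) : Matrix n n F) =
      ((p * q : Matrix.GeneralLinearGroup n F) : Matrix n n F) := by
    rw [Units.val_mul, Units.val_mul]
    exact h
  exact (Units.mul_left_inj (q * p)).1 (h1.trans h2.symm)

/-- all `B`-transvections lie in `M` -/
theorem tpns_EL_mem (M : Subgroup (Matrix.GeneralLinearGroup (Fin a × Fin b) F)) (hTM : T0 a b F ≤ M)
    (w ψ : Fin b → F) (h : ψ ⬝ᵥ w = 0) : EL (1 : Matrix (Fin a) (Fin a) F) w ψ h ∈ M := by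
  have h1 := lamA_scalar M hTM (1 : F)
  rw [one_smul] at h1
  exact (LamA_iff M 1).1 h1 w ψ h

/-- the key computation: two commutators put `ELm (-(P' Q)) w' ψ` into `M`, so `P' Q` is a scalar -/
theorem tpns_key (M : Subgroup (Matrix.GeneralLinearGroup (Fin a × Fin b) F)) (hTM : T0 a b F ≤ M)
    (hNT : NT M) (g : Matrix.GeneralLinearGroup (Fin a × Fin b) F) (hg : g ∈ M)
    (G Gi : Matrix (Fin a × Fin b) (Fin a × Fin b) F)
    (hG : (g : Matrix (Fin a × Fin b) (Fin a × Fin b) F) = G)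
    (hGi : ((g⁻¹ : Matrix.GeneralLinearGroup (Fin a × Fin b) F) :
      Matrix (Fin a × Fin b) (Fin a × Fin b) F) = Gi)
    (w₀ ψ : Fin b → F) (hψ : ψ ≠ 0) (h : ∀ u : Fin a → F, ctr ψ (G *ᵥ ten u w₀) = 0)
    (ψ₀ w ψ' w' : Fin b → F) (h₀ : ψ₀ ⬝ᵥ w₀ = 0) (hw : ψ ⬝ᵥ w = 0) (hw'0 : w' ≠ 0)
    (hψ'w' : ψ' ⬝ᵥ w' = 0) (hψw' : ψ ⬝ᵥ w' = 0) :
    ∃ c : F, tpns_mat G ψ' w₀ * tpns_mat Gi ψ₀ w = c • (1 : Matrix (Fin a) (Fin a) F) := by
  have hGGi : ∀ v : Fin a × Fin b → F, G *ᵥ (Gi *ᵥ v) = v := by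
    intro v
    rw [Matrix.mulVec_mulVec, ← hG, ← hGi, ← Units.val_mul, mul_inv_cancel, Units.val_one,
      Matrix.one_mulVec]
  obtain ⟨P, hPdef⟩ : ∃ P : Matrix (Fin a) (Fin a) F, P = tpns_mat G ψ' w₀ := ⟨_, rfl⟩
  obtain ⟨Q, hQdef⟩ : ∃ Q : Matrix (Fin a) (Fin a) F, Q = tpns_mat Gi ψ₀ w := ⟨_, rfl⟩
  rw [← hPdef, ← hQdef]
  have hP : ∀ u : Fin a → F, P *ᵥ u = ctr ψ' (G *ᵥ ten u w₀) := by
    intro u
    rw [hPdef, tpns_mat_mulVec]
  have hQ : ∀ u : Fin a → F, Q *ᵥ u = ctr ψ₀ (Gi *ᵥ ten u w) := by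
    intro u
    rw [hQdef, tpns_mat_mulVec]
  -- the group elements
  have hxM := tpns_EL_mem (a := a) M hTM w ψ hw
  have hx'M := tpns_EL_mem (a := a) M hTM w' ψ' hψ'w'
  have hx₀M := tpns_EL_mem (a := a) M hTM w₀ ψ₀ h₀
  obtain ⟨x, hxdef⟩ : ∃ x : Matrix.GeneralLinearGroup (Fin a × Fin b) F,
      x = EL (1 : Matrix (Fin a) (Fin a) F) w ψ hw := ⟨_, rfl⟩
  obtain ⟨x', hx'def⟩ : ∃ x' : Matrix.GeneralLinearGroup (Fin a × Fin b) F,
      x' = EL (1 : Matrix (Fin a) (Fin a) F) w' ψ' hψ'w' := ⟨_, rfl⟩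
  obtain ⟨y, hydef⟩ : ∃ y : Matrix.GeneralLinearGroup (Fin a × Fin b) F,
      y = g * EL (1 : Matrix (Fin a) (Fin a) F) w₀ ψ₀ h₀ * g⁻¹ := ⟨_, rfl⟩
  rw [← hxdef] at hxM
  rw [← hx'def] at hx'M
  have hyM : y ∈ M := by
    rw [hydef]
    exact M.mul_mem (M.mul_mem hg hx₀M) (M.inv_mem hg)
  have hxm : (x : Matrix (Fin a × Fin b) (Fin a × Fin b) F) = ELm 1 w ψ := by rw [hxdef, EL_coe]
  have hx'm : (x' : Matrix (Fin a × Fin b) (Fin a × Fin b) F) = ELm 1 w' ψ' := by rw [hx'def, EL_coe]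
  have hym : (y : Matrix (Fin a × Fin b) (Fin a × Fin b) F) = G * ELm 1 w₀ ψ₀ * Gi := by
    rw [hydef, Units.val_mul, Units.val_mul, hG, hGi, EL_coe]
  -- the actions
  have hX : ∀ v : Fin a × Fin b → F,
      (x : Matrix (Fin a × Fin b) (Fin a × Fin b) F) *ᵥ v = v + ten (ctr ψ v) w := by
    intro v
    rw [hxm, ELm_mulVec, Matrix.one_mulVec]
  have hX' : ∀ v : Fin a × Fin b → F,
      (x' : Matrix (Fin a × Fin b) (Fin a × Fin b) F) *ᵥ v = v + ten (ctr ψ' v) w' := by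
    intro v
    rw [hx'm, ELm_mulVec, Matrix.one_mulVec]
  have hY : ∀ v : Fin a × Fin b → F,
      (y : Matrix (Fin a × Fin b) (Fin a × Fin b) F) *ᵥ v = v + G *ᵥ ten (ctr ψ₀ (Gi *ᵥ v)) w₀ := by
    intro v
    rw [hym, ← Matrix.mulVec_mulVec, ← Matrix.mulVec_mulVec, ELm_mulVec, Matrix.one_mulVec,
      Matrix.mulVec_add, hGGi]
  obtain ⟨C₁, hC₁def⟩ : ∃ C₁ : Matrix (Fin a × Fin b) (Fin a × Fin b) F,
      C₁ = 1 - G * (Q ⊗ₖ Matrix.vecMulVec w₀ ψ) := ⟨_, rfl⟩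
  have hC : ∀ v : Fin a × Fin b → F, C₁ *ᵥ v = v - G *ᵥ ten (Q *ᵥ ctr ψ v) w₀ := by
    intro v
    rw [hC₁def, Matrix.sub_mulVec, Matrix.one_mulVec, ← Matrix.mulVec_mulVec, kron_vecMulVec_mulVec]
  have hZ : ∀ v : Fin a × Fin b → F,
      ELm (-(P * Q)) w' ψ *ᵥ v = v - ten (P *ᵥ (Q *ᵥ ctr ψ v)) w' := by
    intro v
    rw [ELm_mulVec, Matrix.neg_mulVec, ← Matrix.mulVec_mulVec, tpns_ten_neg_left, sub_eq_add_neg]
  -- first commutator
  have hc₁ : ((x * y * x⁻¹ * y⁻¹ : Matrix.GeneralLinearGroup (Fin a × Fin b) F) :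
      Matrix (Fin a × Fin b) (Fin a × Fin b) F) = C₁ := by
    apply tpns_comm_eq
    rw [Matrix.ext_iff_mulVec]
    intro v
    simp only [← Matrix.mulVec_mulVec, hX, hY, hC, hQ, Matrix.mulVec_add, ctr_add, ctr_ten, hw, h,
      zero_smul, add_zero, ten_add_left]
    abel
  obtain ⟨c₁, hc₁def⟩ : ∃ c₁ : Matrix.GeneralLinearGroup (Fin a × Fin b) F,
      c₁ = x * y * x⁻¹ * y⁻¹ := ⟨_, rfl⟩
  rw [← hc₁def] at hc₁
  have hc₁M : c₁ ∈ M := by
    rw [hc₁def]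
    exact M.mul_mem (M.mul_mem (M.mul_mem hxM hyM) (M.inv_mem hxM)) (M.inv_mem hyM)
  -- second commutator
  have hz : ((x' * c₁ * x'⁻¹ * c₁⁻¹ : Matrix.GeneralLinearGroup (Fin a × Fin b) F) :
      Matrix (Fin a × Fin b) (Fin a × Fin b) F) = ELm (-(P * Q)) w' ψ := by
    apply tpns_comm_eq
    rw [hc₁, Matrix.ext_iff_mulVec]
    intro v
    simp only [← Matrix.mulVec_mulVec, hX', hC, hZ, hQ, hP, Matrix.mulVec_add, Matrix.mulVec_sub,
      ctr_add, tpns_ctr_sub, ctr_ten, hψw', hψ'w', h, zero_smul, add_zero, sub_zero, ten_add_left,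
      tpns_ten_sub_left]
    abel
  have hzM : x' * c₁ * x'⁻¹ * c₁⁻¹ ∈ M :=
    M.mul_mem (M.mul_mem (M.mul_mem hx'M hc₁M) (M.inv_mem hx'M)) (M.inv_mem hc₁M)
  obtain ⟨c, hc⟩ := hNT (-(P * Q)) ⟨w', ψ, _, hw'0, hψ, hψw', hz, hzM⟩
  refine ⟨-c, ?_⟩
  rw [neg_smul, ← hc, neg_neg]

/-- NS: if `g (A ⊗ w₀) ⊆ A ⊗ ker ψ` then `g (A ⊗ w₀)` is a `B`-line. -/
theorem ns_of_nt (ha : 1 ≤ a) (hb : 3 ≤ b)
    (M : Subgroup (Matrix.GeneralLinearGroup (Fin a × Fin b) F)) (hTM : T0 a b F ≤ M) (hNT : NT M)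
    (g : Matrix.GeneralLinearGroup (Fin a × Fin b) F) (hg : g ∈ M)
    (w₀ ψ : Fin b → F) (hw₀ : w₀ ≠ 0) (hψ : ψ ≠ 0)
    (h : ∀ u : Fin a → F,
      ctr ψ ((g : Matrix (Fin a × Fin b) (Fin a × Fin b) F) *ᵥ ten u w₀) = 0) :
    ∃ w₁ : Fin b → F, w₁ ≠ 0 ∧ ∀ u : Fin a → F, ∃ u' : Fin a → F,
      (g : Matrix (Fin a × Fin b) (Fin a × Fin b) F) *ᵥ ten u w₀ = ten u' w₁ := by
  classical
  obtain ⟨G, hG⟩ : ∃ G : Matrix (Fin a × Fin b) (Fin a × Fin b) F,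
      (g : Matrix (Fin a × Fin b) (Fin a × Fin b) F) = G := ⟨_, rfl⟩
  obtain ⟨Gi, hGi⟩ : ∃ Gi : Matrix (Fin a × Fin b) (Fin a × Fin b) F,
      ((g⁻¹ : Matrix.GeneralLinearGroup (Fin a × Fin b) F) :
        Matrix (Fin a × Fin b) (Fin a × Fin b) F) = Gi := ⟨_, rfl⟩
  rw [hG] at h ⊢
  have hGGi : ∀ v : Fin a × Fin b → F, G *ᵥ (Gi *ᵥ v) = v := by
    intro v
    rw [Matrix.mulVec_mulVec, ← hG, ← hGi, ← Units.val_mul, mul_inv_cancel, Units.val_one,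
      Matrix.one_mulVec]
  have hGiG : ∀ v : Fin a × Fin b → F, Gi *ᵥ (G *ᵥ v) = v := by
    intro v
    rw [Matrix.mulVec_mulVec, ← hG, ← hGi, ← Units.val_mul, inv_mul_cancel, Units.val_one,
      Matrix.one_mulVec]
  -- the vector `u₀ = (1, …, 1)` of `A`
  obtain ⟨u₀, hu₀⟩ : ∃ u₀ : Fin a → F, u₀ = fun _ => 1 := ⟨_, rfl⟩
  obtain ⟨i₀, hi₀⟩ : ∃ i₀ : Fin a, i₀ = ⟨0, by omega⟩ := ⟨_, rfl⟩
  have hu₀i : u₀ i₀ = 1 := by rw [hu₀]
  have hu₀0 : u₀ ≠ 0 := by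
    intro h0
    have := congrFun h0 i₀
    rw [hu₀i, Pi.zero_apply] at this
    exact one_ne_zero this
  by_cases hcase : ∃ ψ₀ w ψ' : Fin b → F, ψ₀ ⬝ᵥ w₀ = 0 ∧ ψ ⬝ᵥ w = 0 ∧
      tpns_mat G ψ' w₀ * tpns_mat Gi ψ₀ w ≠ 0
  · -- Case A
    obtain ⟨ψ₀, w, ψ'₁, h₀, hw, hne⟩ := hcase
    have hscal : ∀ ψ' : Fin b → F, ∃ c : F,
        tpns_mat G ψ' w₀ * tpns_mat Gi ψ₀ w = c • (1 : Matrix (Fin a) (Fin a) F) := by
      intro ψ'
      obtain ⟨w', hw'0, h1, h2⟩ := tpns_common_ker hb ψ' ψ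
      exact tpns_key M hTM hNT g hg G Gi hG hGi w₀ ψ hψ h ψ₀ w ψ' w' h₀ hw hw'0 h1 h2
    obtain ⟨c, hc⟩ := hscal ψ'₁
    have hc0 : c ≠ 0 := by
      intro h0
      apply hne
      rw [hc, h0, zero_smul]
    choose cj hcj using fun j : Fin b => hscal (Pi.single j 1)
    obtain ⟨P₁, hP₁⟩ : ∃ P₁ : Matrix (Fin a) (Fin a) F, P₁ = tpns_mat G ψ'₁ w₀ := ⟨_, rfl⟩
    obtain ⟨Q, hQ⟩ : ∃ Q : Matrix (Fin a) (Fin a) F, Q = tpns_mat Gi ψ₀ w := ⟨_, rfl⟩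
    rw [← hP₁, ← hQ] at hc
    have hQinv : Q * (c⁻¹ • P₁) = 1 := by
      apply mul_eq_one_comm.1
      rw [Matrix.smul_mul, hc, smul_smul, inv_mul_cancel₀ hc0, one_smul]
    have hPj : ∀ j : Fin b, tpns_mat G (Pi.single j 1) w₀ = (cj j * c⁻¹) • P₁ := by
      intro j
      have h1 := hcj j
      rw [← hQ] at h1
      calc tpns_mat G (Pi.single j 1) w₀
          = tpns_mat G (Pi.single j 1) w₀ * (Q * (c⁻¹ • P₁)) := by rw [hQinv, mul_one]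
        _ = (tpns_mat G (Pi.single j 1) w₀ * Q) * (c⁻¹ • P₁) := by rw [mul_assoc]
        _ = (cj j * c⁻¹) • P₁ := by
            rw [h1, Matrix.smul_mul, Matrix.one_mul, smul_smul]
    have hform : ∀ u : Fin a → F, G *ᵥ ten u w₀ = ten (P₁ *ᵥ u) (fun j => cj j * c⁻¹) := by
      intro u
      funext ⟨i, j⟩
      have h1 := congrFun (tpns_mat_mulVec G (Pi.single j 1) w₀ u) i
      rw [tpns_ctr_single, hPj j, Matrix.smul_mulVec, Pi.smul_apply, smul_eq_mul] at h1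
      have h1' : cj j * c⁻¹ * (P₁ *ᵥ u) i = (G *ᵥ ten u w₀) (i, j) := h1
      simp only [ten]
      rw [← h1']
      ring
    refine ⟨fun j => cj j * c⁻¹, ?_, fun u => ⟨P₁ *ᵥ u, hform u⟩⟩
    intro h0
    have h1 := hform u₀
    rw [h0] at h1
    have h2 : ten (P₁ *ᵥ u₀) (0 : Fin b → F) = 0 := tpns_ten_zero_right _
    rw [h2] at h1
    have h4 := hGiG (ten u₀ w₀)
    rw [h1, Matrix.mulVec_zero] at h4
    exact hu₀0 (tpns_ten_eq_zero h4.symm hw₀)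
  · -- Case B
    exfalso
    push Not at hcase
    -- B1
    have hB1 : ∀ (ψ₀ w : Fin b → F) (u : Fin a → F), ψ₀ ⬝ᵥ w₀ = 0 → ψ ⬝ᵥ w = 0 →
        ctr ψ₀ (Gi *ᵥ ten u w) = 0 := by
      intro ψ₀ w u h₀ hw
      have h1 : G *ᵥ ten (ctr ψ₀ (Gi *ᵥ ten u w)) w₀ = 0 := by
        funext ⟨i, j⟩
        have h2 := hcase ψ₀ w (Pi.single j 1) h₀ hw
        have h3 : (tpns_mat G (Pi.single j 1) w₀ * tpns_mat Gi ψ₀ w) *ᵥ u = 0 := by
          rw [h2, Matrix.zero_mulVec]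
        rw [← Matrix.mulVec_mulVec, tpns_mat_mulVec, tpns_mat_mulVec, tpns_ctr_single] at h3
        exact congrFun h3 i
      have h4 := hGiG (ten (ctr ψ₀ (Gi *ᵥ ten u w)) w₀)
      rw [h1, Matrix.mulVec_zero] at h4
      exact tpns_ten_eq_zero h4.symm hw₀
    -- B2
    have hB2 : ∀ (w : Fin b → F) (u : Fin a → F), ψ ⬝ᵥ w = 0 →
        ∃ u₁ : Fin a → F, Gi *ᵥ ten u w = ten u₁ w₀ := by
      intro w u hw
      exact tpns_mem_Bline_of_ctr hw₀ _ (fun ψ₀ h₀ => hB1 ψ₀ w u h₀ hw)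
    -- B3
    obtain ⟨w, w', hw, hw', hw'0, hind⟩ := tpns_two_ker hb ψ
    obtain ⟨j₀, hj₀⟩ := tpns_exists_ne hw₀
    have hval : ∀ (w₂ : Fin b → F) (u u₁ : Fin a → F), Gi *ᵥ ten u w₂ = ten u₁ w₀ →
        tpns_lin Gi (Pi.single j₀ 1) w₂ u = w₀ j₀ • u₁ := by
      intro w₂ u u₁ h1
      rw [tpns_lin_apply, h1, ctr_ten, single_one_dotProduct]
    have hinj : Function.Injective (tpns_lin (a := a) Gi (Pi.single j₀ 1) w') := by
      rw [injective_iff_map_eq_zero]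
      intro u hu
      obtain ⟨u₁, hu₁⟩ := hB2 w' u hw'
      rw [hval w' u u₁ hu₁] at hu
      have hu₁0 : u₁ = 0 := by
        rcases smul_eq_zero.1 hu with h1 | h1
        · exact absurd h1 hj₀
        · exact h1
      rw [hu₁0, tpns_ten_zero_left] at hu₁
      have h2 := hGGi (ten u w')
      rw [hu₁, Matrix.mulVec_zero] at h2
      exact tpns_ten_eq_zero h2.symm hw'0
    have hsurj := LinearMap.injective_iff_surjective.1 hinj
    obtain ⟨u', hu'⟩ := hsurj (tpns_lin Gi (Pi.single j₀ 1) w u₀)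
    obtain ⟨u₁, hu₁⟩ := hB2 w u₀ hw
    obtain ⟨u₂, hu₂⟩ := hB2 w' u' hw'
    rw [hval w u₀ u₁ hu₁, hval w' u' u₂ hu₂] at hu'
    have h12 : u₂ = u₁ := by
      have h1 := congrArg (fun z => (w₀ j₀)⁻¹ • z) hu'
      simp only [smul_smul, inv_mul_cancel₀ hj₀, one_smul] at h1
      exact h1
    rw [h12, ← hu₁] at hu₂
    have h3 : ten u' w' = ten u₀ w := by
      have h4 := congrArg (fun z => G *ᵥ z) hu₂
      simp only [hGGi] at h4
      exact h4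
    apply hind (u' i₀)
    funext j
    have h5 := congrFun h3 (i₀, j)
    simp only [ten] at h5
    rw [hu₀i, one_mul] at h5
    rw [Pi.smul_apply, smul_eq_mul, h5]

end Cfsg.Agent.Lib.helper7.TP
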