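import Cfsg.Agent.Lib.Lead.UDK1Q2.Defs
import Cfsg.Agent.Lib.Lead.UDK1Q2FLD

/-!
# Block UDK1Q2, row W2: the zero vector and the vectors of weight two lie in `C.X`
(the unitary transvection of a weight-two vector over `F_4` is a monomial matrix).
-/

set_option autoImplicit false

namespace Cfsg.Agent.Lib.Lead.UDK1Q2

open Matrix Cfsg.Agent.Lib.Helper29.ExtrL Cfsg.Agent.Lib.Helper28.UMax

variable {n : ℕ} {F : Type*} [Field F] [Fintype F] [DecidableEq F]

theorem q2w2_neg (hF : Fintype.card F = 4) (c : F) : -c = c := by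
  have h2 := q2_two hF
  have h : c + c = 0 := by rw [← two_mul, h2, zero_mul]
  exact neg_eq_of_add_eq_zero_left h

theorem q2w2_herm_single (k : Fin n) (a : F) (w : Fin n → F) :
    Cfsg.hermForm n F 2 (Pi.single k a) w = a * w k ^ 2 := by
  unfold Cfsg.hermForm
  rw [Finset.sum_eq_single k]
  · rw [Pi.single_eq_same]
  · intro b _ hb
    rw [Pi.single_eq_of_ne hb, zero_mul]
  · intro h
    exact absurd (Finset.mem_univ k) h

theorem q2w2_herm_zero (x : Fin n → F) : Cfsg.hermForm n F 2 x 0 = 0 := by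
  unfold Cfsg.hermForm
  simp

theorem q2w2_eq_one {t : Matrix.GeneralLinearGroup (Fin n) F}
    (ht : ∀ x, (t : Matrix (Fin n) (Fin n) F) *ᵥ x = x) : t = 1 := by
  apply Units.ext
  rw [Matrix.ext_iff_mulVec]
  intro x
  rw [ht x, Units.val_one, Matrix.one_mulVec]

theorem q2_zero (C : Ctx n F) : (0 : Fin n → F) ∈ C.X := by
  refine ⟨?_, fun c _ t ht => ?_⟩
  · exact q2w2_herm_zero 0
  · have h1 : t = 1 := q2w2_eq_one (fun x => by rw [ht x, smul_zero, add_zero])
    rw [h1]
    exact C.M.one_mem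

/-- core of `q2_w2`, for a vector given by its coordinates. -/
theorem q2w2_core (C : Ctx n F) {i j : Fin n} (hij : i ≠ j) {a b : F} (ha : a ≠ 0) (hb : b ≠ 0)
    (y : Fin n → F) (hyi : y i = a) (hyj : y j = b) (hyo : ∀ l, l ≠ i → l ≠ j → y l = 0) :
    y ∈ C.X := by
  have h2 := q2_two C.hF
  have h11 : (1 : F) + 1 = 0 := by rw [one_add_one_eq_two, h2]
  have ha3 : a ^ 2 * a = 1 := by rw [← q2_cube C.hF ha]; ring
  have ha3' : a * a ^ 2 = 1 := by rw [← q2_cube C.hF ha]; ring
  have hb3 : b ^ 2 * b = 1 := by rw [← q2_cube C.hF hb]; ring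
  have hb3' : b * b ^ 2 = 1 := by rw [← q2_cube C.hF hb]; ring
  have hyy : Cfsg.hermForm n F 2 y y = 0 := by
    unfold Cfsg.hermForm
    rw [Finset.sum_eq_add i j hij (fun l _ hl => by rw [hyo l hl.1 hl.2, zero_mul])
      (fun h => absurd (Finset.mem_univ i) h) (fun h => absurd (Finset.mem_univ j) h),
      hyi, hyj, ha3', hb3', h11]
  refine ⟨hyy, fun c hc t ht => ?_⟩
  rcases (q2_sigma C c).1 hc with h0 | h1
  · have h1 : t = 1 := q2w2_eq_one (fun x => by
      rw [ht x, h0, zero_smul, q2w2_herm_zero, zero_smul, add_zero])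
    rw [h1]
    exact C.M.one_mem
  · have hmem : t ∈ Cfsg.GU n F 2 ⊓ Cfsg.Geo.specialLinear (Fin n) F :=
      UT_mem_G C.hf _ (fun g => by rw [Subgroup.mem_inf]; exact Iff.rfl) hyy hc ht
    refine C.hN t hmem ?_
    have hent : ∀ l k, (t : Matrix (Fin n) (Fin n) F) l k
        = (if l = k then 1 else 0) + y k ^ 2 * y l := by
      intro l k
      have h := congrFun (ht (Pi.single k 1)) l
      rw [Matrix.mulVec_single_one, h1, one_smul, q2w2_herm_single, one_mul, Pi.add_apply,
        Pi.smul_apply, smul_eq_mul, Pi.single_apply] at h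
      exact h
    intro k0
    by_cases hki : k0 = i
    · refine ⟨j, fun l hl => ?_⟩
      rw [hent, hki, hyi]
      by_cases hli : l = i
      · rw [hli, if_pos rfl, hyi, ha3, h11]
      · rw [if_neg hli, hyo l hli hl, mul_zero, add_zero]
    · by_cases hkj : k0 = j
      · refine ⟨i, fun l hl => ?_⟩
        rw [hent, hkj, hyj]
        by_cases hlj : l = j
        · rw [hlj, if_pos rfl, hyj, hb3, h11]
        · rw [if_neg hlj, hyo l hl hlj, mul_zero, add_zero]
      · refine ⟨k0, fun l hl => ?_⟩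
        rw [hent, if_neg hl, hyo k0 hki hkj, zero_add]
        simp

theorem q2_w2 (C : Ctx n F) {i j : Fin n} (hij : i ≠ j) {a b : F} (ha : a ≠ 0) (hb : b ≠ 0) :
    (Pi.single i a + Pi.single j b : Fin n → F) ∈ C.X := by
  apply q2w2_core C hij ha hb
  · rw [Pi.add_apply, Pi.single_eq_same, Pi.single_eq_of_ne hij, add_zero]
  · rw [Pi.add_apply, Pi.single_eq_same, Pi.single_eq_of_ne hij.symm, zero_add]
  · intro l hli hlj
    rw [Pi.add_apply, Pi.single_eq_of_ne hli, Pi.single_eq_of_ne hlj, add_zero]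

end Cfsg.Agent.Lib.Lead.UDK1Q2
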