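import Mathlib
import Cfsg.Prelude.Def_GeometricClasses
import Cfsg.Agent.Lib.Helper27.ASC.Defs

/-!
# Project ASC, piece SUBF1 : if an absolutely irreducible `H`-normal subgroup is realisable over a subfield `F₀`
then `H` lies in a subfield group over `F₀` (Frobenius entrywise argument).
-/

set_option autoImplicit false
set_option linter.unusedVariables false

namespace Cfsg.Agent.Lib.Helper27.ASC

open Cfsg Cfsg.Geo
open scoped MatrixGroups Matrix

variable {n : ℕ} {F : Type*} [Field F] [Fintype F]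

/-- elements fixed by `x ↦ x ^ |F₀|` lie in `F₀` -/
theorem ascsubf1_mem_of_pow (F₀ : Subfield F) (x : F) (hx : x ^ Nat.card F₀ = x) : x ∈ F₀ := by
  classical
  by_contra hxn
  rw [Nat.card_eq_fintype_card] at hx
  have hq1 : 1 < Fintype.card F₀ := Fintype.one_lt_card
  let f : Polynomial F := Polynomial.X ^ (Fintype.card F₀) - Polynomial.X
  have hf0 : f ≠ 0 := FiniteField.X_pow_card_sub_X_ne_zero F hq1
  have hdeg : f.natDegree = Fintype.card F₀ := FiniteField.X_pow_card_sub_X_natDegree_eq F hq1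
  let S : Finset F := insert x (Finset.univ.image (fun a : F₀ => (a : F)))
  have hroot : ∀ y ∈ S, y ∈ f.roots := by
    intro y hy
    rw [Polynomial.mem_roots hf0, Polynomial.IsRoot.def]
    simp only [f, Polynomial.eval_sub, Polynomial.eval_pow, Polynomial.eval_X]
    rcases Finset.mem_insert.mp hy with rfl | hy
    · rw [hx, sub_self]
    · obtain ⟨a, -, rfl⟩ := Finset.mem_image.mp hy
      have h1 : a ^ Fintype.card F₀ = a := FiniteField.pow_card a
      have h2 : ((a ^ Fintype.card F₀ : F₀) : F) = (a : F) := by rw [h1]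
      push_cast at h2
      rw [h2, sub_self]
  have hsub : S.val ⊆ f.roots := by
    intro y hy
    exact hroot y (Finset.mem_val.mp hy)
  have hcard : S.card = Fintype.card F₀ + 1 := by
    have hnot : x ∉ Finset.univ.image (fun a : F₀ => (a : F)) := by
      intro h
      obtain ⟨a, -, rfl⟩ := Finset.mem_image.mp h
      exact hxn a.2
    rw [Finset.card_insert_of_notMem hnot, Finset.card_image_of_injective _ Subtype.val_injective,
      Finset.card_univ]
  have := Polynomial.card_le_degree_of_subset_roots hsub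
  rw [hcard, hdeg] at this
  omega

/-- SUBF1 -/
theorem subfield_of_realisable {H P : Subgroup (GL (Fin n) F)} (hP : NormalIn P H) (hA : AbsIrr P)
    (F₀ : Subfield F) (hR : RealisableOver F₀ (matrixSet P)) :
    ∃ B : GL (Fin n) F, H ≤ subfieldSubgroup F₀ B := by
  classical
  obtain ⟨B, hB⟩ := hR
  refine ⟨B⁻¹, fun h hh => ?_⟩
  -- the Frobenius power with fixed field `F₀`
  obtain ⟨p, hchar⟩ := CharP.exists F
  have hcharF : CharP F p := hchar
  have hchar0 : CharP F₀ p := inferInstance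
  obtain ⟨d, hpp, hcard0⟩ := FiniteField.card F₀ p
  have hfact : Fact p.Prime := ⟨hpp⟩
  let σ : F →+* F := iterateFrobenius F p d
  have hσ : ∀ x : F, σ x = x ^ Nat.card F₀ := by
    intro x
    rw [Nat.card_eq_fintype_card, hcard0]
    exact iterateFrobenius_def p d x
  have hσfix : ∀ x ∈ F₀, σ x = x := by
    intro x hx
    rw [hσ, Nat.card_eq_fintype_card]
    have h1 : (⟨x, hx⟩ : F₀) ^ Fintype.card F₀ = ⟨x, hx⟩ := FiniteField.pow_card _
    have h2 := congrArg (fun a : F₀ => (a : F)) h1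
    simpa using h2
  have hσmem : ∀ x : F, σ x = x → x ∈ F₀ := by
    intro x hx
    exact ascsubf1_mem_of_pow F₀ x (by rw [← hσ]; exact hx)
  -- conjugated elements
  set h' : GL (Fin n) F := B * h * B⁻¹ with hh'
  -- it suffices to show `h' ∈ range ⊔ scalars`
  suffices hmem : h' ∈ (Matrix.GeneralLinearGroup.map (F₀.subtype : F₀ →+* F)).range ⊔ scalars (Fin n) F by
    unfold subfieldSubgroup
    rw [Subgroup.mem_map]
    refine ⟨h', hmem, ?_⟩
    simp only [MulEquiv.coe_toMonoidHom, MulAut.conj_apply, hh']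
    group
  -- the entrywise Frobenius on matrices
  let Sg : Matrix (Fin n) (Fin n) F →+* Matrix (Fin n) (Fin n) F := σ.mapMatrix
  have hSgfix : ∀ x ∈ P, Sg ((B * x * B⁻¹ : GL (Fin n) F) : Matrix (Fin n) (Fin n) F) =
      ((B * x * B⁻¹ : GL (Fin n) F) : Matrix (Fin n) (Fin n) F) := by
    intro x hx
    ext i j
    simp only [Sg, RingHom.mapMatrix_apply, Matrix.map_apply]
    apply hσfix
    have := hB (x : Matrix (Fin n) (Fin n) F) ⟨x, hx, rfl⟩ i j
    simpa [Units.val_mul] using this
  -- `M = h'⁻¹ σ(h')` commutes with all `B x B⁻¹`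
  set M : Matrix (Fin n) (Fin n) F := ((h'⁻¹ : GL (Fin n) F) : Matrix (Fin n) (Fin n) F) *
    Sg (h' : Matrix (Fin n) (Fin n) F) with hM
  have hcomm : ∀ x ∈ P, M * ((B * x * B⁻¹ : GL (Fin n) F) : Matrix (Fin n) (Fin n) F) =
      ((B * x * B⁻¹ : GL (Fin n) F) : Matrix (Fin n) (Fin n) F) * M := by
    intro x hx
    have hy : h * x * h⁻¹ ∈ P := hP.2 h hh x hx
    set x' : GL (Fin n) F := B * x * B⁻¹ with hx'
    set y' : GL (Fin n) F := B * (h * x * h⁻¹) * B⁻¹ with hy'
    have e1 : h' * x' = y' * h' := by rw [hh', hx', hy']; group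
    have e2 : x' * h'⁻¹ = h'⁻¹ * y' := by rw [hh', hx', hy']; group
    have e1m : (h' : Matrix (Fin n) (Fin n) F) * (x' : Matrix (Fin n) (Fin n) F) =
        (y' : Matrix (Fin n) (Fin n) F) * (h' : Matrix (Fin n) (Fin n) F) := by
      rw [← Units.val_mul, ← Units.val_mul, e1]
    have e2m : (x' : Matrix (Fin n) (Fin n) F) * ((h'⁻¹ : GL (Fin n) F) : Matrix (Fin n) (Fin n) F) =
        ((h'⁻¹ : GL (Fin n) F) : Matrix (Fin n) (Fin n) F) * (y' : Matrix (Fin n) (Fin n) F) := by
      rw [← Units.val_mul, ← Units.val_mul, e2]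
    have e3 : Sg (h' : Matrix (Fin n) (Fin n) F) * (x' : Matrix (Fin n) (Fin n) F) =
        (y' : Matrix (Fin n) (Fin n) F) * Sg (h' : Matrix (Fin n) (Fin n) F) := by
      have := congrArg Sg e1m
      rw [map_mul, map_mul, hSgfix x hx, hSgfix _ hy] at this
      exact this
    rw [hM, Matrix.mul_assoc, e3, ← Matrix.mul_assoc, ← e2m, Matrix.mul_assoc]
  -- so `M` is scalar
  obtain ⟨c, hc⟩ : ∃ c : F, M = c • (1 : Matrix (Fin n) (Fin n) F) := by
    have hBB : (B : Matrix (Fin n) (Fin n) F) * ((B⁻¹ : GL (Fin n) F) : Matrix (Fin n) (Fin n) F) = 1 := by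
      rw [← Units.val_mul, mul_inv_cancel]; rfl
    have hBB' : ((B⁻¹ : GL (Fin n) F) : Matrix (Fin n) (Fin n) F) * (B : Matrix (Fin n) (Fin n) F) = 1 := by
      rw [← Units.val_mul, inv_mul_cancel]; rfl
    set M₀ : Matrix (Fin n) (Fin n) F := ((B⁻¹ : GL (Fin n) F) : Matrix (Fin n) (Fin n) F) * M *
      (B : Matrix (Fin n) (Fin n) F) with hM₀
    have h0 : ∀ s ∈ matrixSet P, M₀ * s = s * M₀ := by
      rintro s ⟨x, hx, rfl⟩
      have hx1 := hcomm x hx
      simp only [Units.val_mul] at hx1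
      -- `M (B x B⁻¹) = (B x B⁻¹) M`
      calc M₀ * (x : Matrix (Fin n) (Fin n) F)
          = ((B⁻¹ : GL (Fin n) F) : Matrix (Fin n) (Fin n) F) *
              (M * ((B : Matrix (Fin n) (Fin n) F) * (x : Matrix (Fin n) (Fin n) F) *
                ((B⁻¹ : GL (Fin n) F) : Matrix (Fin n) (Fin n) F))) * (B : Matrix (Fin n) (Fin n) F) := by
            rw [hM₀]
            simp only [Matrix.mul_assoc]
            rw [hBB', Matrix.mul_one]
        _ = ((B⁻¹ : GL (Fin n) F) : Matrix (Fin n) (Fin n) F) *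
              (((B : Matrix (Fin n) (Fin n) F) * (x : Matrix (Fin n) (Fin n) F) *
                ((B⁻¹ : GL (Fin n) F) : Matrix (Fin n) (Fin n) F)) * M) * (B : Matrix (Fin n) (Fin n) F) := by
            rw [hx1]
        _ = (x : Matrix (Fin n) (Fin n) F) * M₀ := by
            rw [hM₀]
            simp only [← Matrix.mul_assoc]
            rw [hBB', Matrix.one_mul]
    obtain ⟨c, hc⟩ := hA.2 M₀ h0
    refine ⟨c, ?_⟩
    have : M = (B : Matrix (Fin n) (Fin n) F) * M₀ * ((B⁻¹ : GL (Fin n) F) : Matrix (Fin n) (Fin n) F) := by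
      rw [hM₀]
      simp only [← Matrix.mul_assoc]
      rw [hBB, Matrix.one_mul, Matrix.mul_assoc, hBB, Matrix.mul_one]
    rw [this, hc, Matrix.mul_smul, Matrix.mul_one, Matrix.smul_mul, hBB]
  -- `σ(h') = c • h'`
  have hσh : Sg (h' : Matrix (Fin n) (Fin n) F) = c • (h' : Matrix (Fin n) (Fin n) F) := by
    have h1 : (h' : Matrix (Fin n) (Fin n) F) * M = Sg (h' : Matrix (Fin n) (Fin n) F) := by
      rw [hM, ← Matrix.mul_assoc, ← Units.val_mul, mul_inv_cancel]
      simp
    rw [← h1, hc, Matrix.mul_smul, Matrix.mul_one]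
  -- a non-zero entry
  by_cases hzero : (h' : Matrix (Fin n) (Fin n) F) = 0
  · -- degenerate: the matrix ring is trivial
    have h10 : (1 : Matrix (Fin n) (Fin n) F) = 0 := by
      have : (h' : Matrix (Fin n) (Fin n) F) * ((h'⁻¹ : GL (Fin n) F) : Matrix (Fin n) (Fin n) F) = 1 := by
        rw [← Units.val_mul, mul_inv_cancel]; rfl
      rw [← this, hzero, Matrix.zero_mul]
    have hsub : Subsingleton (Matrix (Fin n) (Fin n) F) := subsingleton_of_zero_eq_one h10.symm
    have : h' = 1 := Units.ext (Subsingleton.elim _ _)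
    rw [this]
    exact Subgroup.one_mem _
  · obtain ⟨i, j, hij⟩ : ∃ i j, (h' : Matrix (Fin n) (Fin n) F) i j ≠ 0 := by
      by_contra hcon
      apply hzero
      ext i j
      by_contra hne
      exact hcon ⟨i, j, hne⟩
    set a : F := (h' : Matrix (Fin n) (Fin n) F) i j with ha
    have hσa : σ a = c * a := by
      have := congrFun (congrFun hσh i) j
      simpa [Sg, RingHom.mapMatrix_apply, Matrix.map_apply, Matrix.smul_apply] using this
    have hc0 : c ≠ 0 := by
      intro h0
      rw [h0, zero_mul] at hσa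
      exact hij ((map_eq_zero σ).mp hσa)
    -- entries of `a⁻¹ • h'` are in `F₀`
    have hent : ∀ k l, a⁻¹ * (h' : Matrix (Fin n) (Fin n) F) k l ∈ F₀ := by
      intro k l
      apply hσmem
      have hkl : σ ((h' : Matrix (Fin n) (Fin n) F) k l) = c * (h' : Matrix (Fin n) (Fin n) F) k l := by
        have := congrFun (congrFun hσh k) l
        simpa [Sg, RingHom.mapMatrix_apply, Matrix.map_apply, Matrix.smul_apply] using this
      rw [map_mul, map_inv₀, hσa, hkl]
      field_simp
    -- the matrix over `F₀`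
    let G₀ : Matrix (Fin n) (Fin n) F₀ := fun k l => ⟨a⁻¹ * (h' : Matrix (Fin n) (Fin n) F) k l, hent k l⟩
    have hG₀map : G₀.map (F₀.subtype : F₀ →+* F) = a⁻¹ • (h' : Matrix (Fin n) (Fin n) F) := by
      ext k l
      rfl
    have hdet : G₀.det ≠ 0 := by
      intro hd
      have h1 : (F₀.subtype : F₀ →+* F) G₀.det = ((F₀.subtype : F₀ →+* F).mapMatrix G₀).det :=
        RingHom.map_det _ _
      rw [hd, map_zero, RingHom.mapMatrix_apply, hG₀map, Matrix.det_smul] at h1
      have h2 : (h' : Matrix (Fin n) (Fin n) F).det ≠ 0 := by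
        have := (Matrix.GeneralLinearGroup.det h').ne_zero
        simpa using this
      have h3 : a⁻¹ ^ Fintype.card (Fin n) ≠ 0 := pow_ne_zero _ (inv_ne_zero hij)
      exact (mul_ne_zero h3 h2) h1.symm
    let g₀ : GL (Fin n) F₀ := Matrix.GeneralLinearGroup.mkOfDetNeZero G₀ hdet
    let sa : GL (Fin n) F :=
      Units.map (Matrix.scalar (Fin n) : F →+* Matrix (Fin n) (Fin n) F).toMonoidHom (Units.mk0 a hij)
    have hsa : sa ∈ scalars (Fin n) F := ⟨Units.mk0 a hij, rfl⟩
    have hg₀ : Matrix.GeneralLinearGroup.map (F₀.subtype : F₀ →+* F) g₀ ∈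
        (Matrix.GeneralLinearGroup.map (F₀.subtype : F₀ →+* F)).range := ⟨g₀, rfl⟩
    have h1 : ((Matrix.GeneralLinearGroup.map (F₀.subtype : F₀ →+* F) g₀ : GL (Fin n) F) :
        Matrix (Fin n) (Fin n) F) = a⁻¹ • (h' : Matrix (Fin n) (Fin n) F) := by
      ext k' l'
      rw [Matrix.GeneralLinearGroup.map_apply]
      rfl
    have h2 : (sa : Matrix (Fin n) (Fin n) F) = Matrix.scalar (Fin n) a := rfl
    have hmat : (h' : Matrix (Fin n) (Fin n) F) =
        ((Matrix.GeneralLinearGroup.map (F₀.subtype : F₀ →+* F) g₀ : GL (Fin n) F) :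
          Matrix (Fin n) (Fin n) F) * (sa : Matrix (Fin n) (Fin n) F) := by
      rw [h1, h2]
      ext k l
      rw [Matrix.scalar_apply, Matrix.mul_diagonal, Matrix.smul_apply, smul_eq_mul]
      field_simp
    have heq : h' = Matrix.GeneralLinearGroup.map (F₀.subtype : F₀ →+* F) g₀ * sa := by
      apply Units.ext
      rw [Units.val_mul]
      exact hmat
    rw [heq]
    exact Subgroup.mul_mem_sup hg₀ hsa

end Cfsg.Agent.Lib.Helper27.ASC
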