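import Mathlib
import Cfsg.Agent.Lib.Helper13.OTS.Defs
import Cfsg.Agent.Lib.Helper16.OB25

/-!
# Project OTS, row OMEGAODD (`q_omega_of_odd`), verbatim from `Helper13/OTS/Skel.lean.txt`.  (helper4)

An isometry of odd order is the square of one of its powers, and squares of isometries lie in `Ω`
(`Cfsg.Agent.Lib.Helper16.OB.sq_mem_omega_all`, all characteristics).
-/

set_option autoImplicit false

namespace Cfsg.Agent.Lib.Helper13.OTS

/-- a quadratic form in coordinates with non-degenerate polar form on a nonempty index type is not zero -/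
theorem otsomegaodd_ne {F : Type*} [Field F] {ι : Type} [Fintype ι] [DecidableEq ι]
    (Qs : QuadraticForm F (ι → F)) (hnd : (QuadraticMap.polarBilin Qs).Nondegenerate)
    (hn : 1 ≤ Fintype.card ι) : ∃ v, Qs v ≠ 0 := by
  classical
  by_contra hcon
  push Not at hcon
  have hι : Nonempty ι := by
    rw [← Fintype.card_pos_iff]
    omega
  obtain ⟨i0⟩ := hι
  have h0 : (Pi.single i0 (1 : F) : ι → F) = 0 := by
    apply hnd.1
    intro v
    rw [QuadraticMap.polarBilin_apply_apply]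
    unfold QuadraticMap.polar
    rw [hcon, hcon, hcon]
    simp
  have h1 := congrFun h0 i0
  rw [Pi.single_eq_same, Pi.zero_apply] at h1
  exact one_ne_zero h1

theorem q_omega_of_odd {F : Type*} [Field F] [Fintype F] {ι : Type} [Fintype ι] [DecidableEq ι]
    (Qs : QuadraticForm F (ι → F)) (hnd : (QuadraticMap.polarBilin Qs).Nondegenerate)
    (hn : 5 ≤ Fintype.card ι) (x : GL ι F) (hx : x ∈ Cfsg.isometryGroup F (⇑Qs)) (r : ℕ)
    (hr : Odd r) (hxr : x ^ r = 1) : x ∈ Cfsg.Geo.omegaGL (⇑Qs) := by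
  classical
  have hne : ∃ v, Qs v ≠ 0 := otsomegaodd_ne Qs hnd (by omega)
  obtain ⟨k, hk⟩ := hr
  have hxx : x = x ^ (k + 1) * x ^ (k + 1) := by
    rw [← pow_add]
    have : k + 1 + (k + 1) = r + 1 := by omega
    rw [this, pow_succ, hxr, one_mul]
  have hmem : x ^ (k + 1) ∈ Cfsg.isometryGroup F (⇑Qs) := Subgroup.pow_mem _ hx _
  have hsq := Cfsg.Agent.Lib.Helper16.OB.sq_mem_omega_all Qs hnd hn hne ⟨x ^ (k + 1), hmem⟩
  refine ⟨⟨x ^ (k + 1), hmem⟩ * ⟨x ^ (k + 1), hmem⟩, hsq, ?_⟩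
  change x ^ (k + 1) * x ^ (k + 1) = x
  exact hxx.symm

end Cfsg.Agent.Lib.Helper13.OTS
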