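import Mathlib
import Cfsg.Agent.Lib.helper14.BGL.SPDefs
import Cfsg.Agent.Lib.helper14.BGL.SPDefs2
import Cfsg.Agent.Lib.helper14.BGLSPX0
import Cfsg.Agent.Lib.helper14.BGLSPX1
import Cfsg.Agent.Lib.Helper12.BGLSPO1
import Cfsg.Agent.Lib.helper8.ChevUp
import Cfsg.Agent.Lib.helper8.ChevTits5

/-!
# Project BGL, block SP (designer helper14), rows E3 (`NT_stab_group`) and E4 (`exc_eq_one`) (helper4), CORES.

`bglspe3_core`: E3 with the conclusion of E2 `NT_stab_x` as hypothesis `hE2`.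
`bglspe4_core`: E4 with the conclusion of E3 `NT_stab_group` as hypothesis `hE3`.
On X0 / X2 (`helper14.BGLSPX0`, `helper14.BGLSPX1`), O1 / O4 (`Helper12.BGLSPO1`), helper8 `h8xU_inv`, `h8simple_main`.
-/

set_option autoImplicit false

namespace Cfsg.Agent.Lib.helper14.BGLSP

open Cfsg.Lie Cfsg.Lie.ChevalleyDatum Cfsg.Agent.Lib.helper8 Matrix

universe u

variable {K : Type u} [Field K] (D : ChevalleyDatum)

/-- E3 core -/
theorem bglspe3_core {lam : List ℕ} (hB : H8Base.{u} D)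
    (hE2 : ∀ r < D.nroots, ∀ (t : K) (w : D.Idx → K), w ∈ NT D K lam → D.x K r t *ᵥ w ∈ NT D K lam)
    {g : GL D.Idx K} (hg : g ∈ D.group K) {w : D.Idx → K} (hw : w ∈ NT D K lam) :
    (g : Matrix D.Idx D.Idx K) *ᵥ w ∈ NT D K lam := by
  unfold ChevalleyDatum.group at hg
  induction hg using Subgroup.closure_induction'' generalizing w with
  | mem x hx =>
    obtain ⟨r, t, hx⟩ := hx
    have e : (x : Matrix D.Idx D.Idx K) = D.x K r.val t := by
      rw [hx]
      unfold ChevalleyDatum.x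
      rw [dif_pos r.2]
    rw [e]
    exact hE2 r.val r.2 t w hw
  | inv_mem x hx =>
    obtain ⟨r, t, hx⟩ := hx
    have e : x = h8xU D hB r.val t := by
      apply Units.ext
      rw [hx, h8xU_val]
      unfold ChevalleyDatum.x
      rw [dif_pos r.2]
    rw [e, h8xU_inv, h8xU_val]
    exact hE2 r.val r.2 (-t) w hw
  | one =>
    rw [Units.val_one, Matrix.one_mulVec]
    exact hw
  | mul a b _ _ ha hb =>
    rw [Units.val_mul, ← Matrix.mulVec_mulVec]
    exact ha (hb hw)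

/-- E4 core -/
theorem bglspe4_core (hD : D ∈ [chevG2, chevB2, chevD4, chevF4, chevE6, chevE7, chevE8]) {lam : List ℕ}
    (hT : SPTab D lam) (h3 : ∃ a : K, a ≠ 0 ∧ a ≠ 1)
    (hE3 : ∀ g : GL D.Idx K, g ∈ D.group K → ∀ w : D.Idx → K, w ∈ NT D K lam →
      (g : Matrix D.Idx D.Idx K) *ᵥ w ∈ NT D K lam)
    {c : GL D.Idx K} (hc : c ∈ D.group K)
    (hcN : ∀ v : D.Idx → K, ((c : Matrix D.Idx D.Idx K) - 1) *ᵥ v ∈ NT D K lam) : c = 1 := by
  classical
  have hB := h8base_all.{u} D hD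
  obtain ⟨dep, par, horb⟩ := hT.orb
  obtain ⟨hn0, hneg0, h0lam, hlam⟩ := spOrb_spec D horb
  obtain ⟨hbase, -⟩ := spBase_spec D hT.base
  -- the subgroup of the elements acting trivially modulo `NT`
  let Z : Subgroup ↥(D.group K) :=
    { carrier := {g | ∀ v : D.Idx → K, (((g : GL D.Idx K) : Matrix D.Idx D.Idx K) - 1) *ᵥ v ∈ NT D K lam}
      one_mem' := by
        intro v
        show (((1 : GL D.Idx K) : Matrix D.Idx D.Idx K) - 1) *ᵥ v ∈ NT D K lam
        rw [Units.val_one, sub_self, Matrix.zero_mulVec]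
        exact Submodule.zero_mem _
      mul_mem' := by
        intro a b ha hb v
        show ((((a : GL D.Idx K) * (b : GL D.Idx K) : GL D.Idx K) : Matrix D.Idx D.Idx K) - 1) *ᵥ v ∈ NT D K lam
        have e : (((a : GL D.Idx K) * (b : GL D.Idx K) : GL D.Idx K) : Matrix D.Idx D.Idx K) - 1 =
            ((a : GL D.Idx K) : Matrix D.Idx D.Idx K) * (((b : GL D.Idx K) : Matrix D.Idx D.Idx K) - 1) +
              (((a : GL D.Idx K) : Matrix D.Idx D.Idx K) - 1) := by
          rw [Units.val_mul, mul_sub, mul_one]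
          abel
        rw [e, Matrix.add_mulVec, ← Matrix.mulVec_mulVec]
        exact Submodule.add_mem _ (hE3 _ a.2 _ (hb v)) (ha v)
      inv_mem' := by
        intro a ha v
        show ((((a : GL D.Idx K)⁻¹ : GL D.Idx K) : Matrix D.Idx D.Idx K) - 1) *ᵥ v ∈ NT D K lam
        have e : (((a : GL D.Idx K)⁻¹ : GL D.Idx K) : Matrix D.Idx D.Idx K) - 1 =
            -((((a : GL D.Idx K)⁻¹ : GL D.Idx K) : Matrix D.Idx D.Idx K) *
              (((a : GL D.Idx K) : Matrix D.Idx D.Idx K) - 1)) := by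
          rw [mul_sub, mul_one, ← Units.val_mul, inv_mul_cancel, Units.val_one]
          abel
        rw [e, Matrix.neg_mulVec, ← Matrix.mulVec_mulVec]
        exact Submodule.neg_mem _ (hE3 _ (Subgroup.inv_mem _ a.2) _ (ha v)) }
  have hZn : Z.Normal := by
    constructor
    intro a ha g v
    show ((((g : GL D.Idx K) * (a : GL D.Idx K) * (g : GL D.Idx K)⁻¹ : GL D.Idx K) : Matrix D.Idx D.Idx K) - 1) *ᵥ v ∈
      NT D K lam
    have e : (((g : GL D.Idx K) * (a : GL D.Idx K) * (g : GL D.Idx K)⁻¹ : GL D.Idx K) : Matrix D.Idx D.Idx K) - 1 =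
        ((g : GL D.Idx K) : Matrix D.Idx D.Idx K) * ((((a : GL D.Idx K) : Matrix D.Idx D.Idx K) - 1) *
          (((g : GL D.Idx K)⁻¹ : GL D.Idx K) : Matrix D.Idx D.Idx K)) := by
      have hgg : ((g : GL D.Idx K) : Matrix D.Idx D.Idx K) * (((g : GL D.Idx K)⁻¹ : GL D.Idx K) : Matrix D.Idx D.Idx K) = 1 := by
        rw [← Units.val_mul, mul_inv_cancel, Units.val_one]
      rw [sub_mul, one_mul, mul_sub, hgg, Units.val_mul, Units.val_mul, mul_assoc]
    rw [e, ← Matrix.mulVec_mulVec, ← Matrix.mulVec_mulVec]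
    exact hE3 _ g.2 _ (ha _)
  obtain ⟨hsimple, -⟩ := h8simple_main (F := K) D hD (fun _ => h3)
  have hcZ : (⟨c, hc⟩ : ↥(D.group K)) ∈ Z := hcN
  rcases hZn.eq_bot_or_eq_top with hbot | htop
  · rw [hbot, Subgroup.mem_bot] at hcZ
    exact congrArg Subtype.val hcZ
  · exfalso
    -- `x_ρ(1) ∈ Z` is impossible
    have hρ : D.nroots - 1 < D.nroots := by omega
    obtain ⟨hb1, hb2, hb3, -⟩ := hbase 0 hn0
    have hnegρ : D.neg (D.nroots - 1) = 0 := by rw [← hneg0, hb3]
    have hρlam : D.nroots - 1 ∈ lam := by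
      rw [← hneg0]
      exact (hlam 0 h0lam).2
    have hx : (⟨h8xU D hB (D.nroots - 1) 1, h8xU_mem_group D hB _ _⟩ : ↥(D.group K)) ∈ Z := by
      rw [htop]
      exact Subgroup.mem_top _
    have h1 := hx (re D K 0)
    have h2 : (((h8xU D hB (D.nroots - 1) (1 : K) : GL D.Idx K) : Matrix D.Idx D.Idx K) - 1) *ᵥ re D K 0 =
        (1 : K) • hvec D K (D.nroots - 1) - (1 : K) ^ 2 • re D K (D.nroots - 1) := by
      have hX2 := x_mulVec_re_neg D (K := K) hρ (by rw [hnegρ]; exact hn0)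
        (by rw [hnegρ]; omega) (1 : K)
      rw [hnegρ] at hX2
      rw [Matrix.sub_mulVec, Matrix.one_mulVec, h8xU_val, hX2]
      abel
    have h3' := h1.1 (D.nroots - 1) hρlam
    change rc D ((((h8xU D hB (D.nroots - 1) (1 : K) : GL D.Idx K) : Matrix D.Idx D.Idx K) - 1) *ᵥ re D K 0)
      (D.nroots - 1) = 0 at h3'
    rw [h2, rc_sub, rc_smul, rc_smul, rc_hvec, rc_re D hρ, if_pos rfl] at h3'
    norm_num at h3'

end Cfsg.Agent.Lib.helper14.BGLSP

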