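import Mathlib
import Cfsg.Agent.Lib.helper14.BGL.SPDefs
import Cfsg.Agent.Lib.helper14.BGL.SPDefs2
import Cfsg.Agent.Lib.Helper26.BGLSPE2
import Cfsg.Agent.Lib.helper8.ChevBaseAll
import Cfsg.Agent.Lib.helper4.BGLSPE3core

/-!
# Project BGL, block SP (designer helper14), rows E3 (`NT_stab_group`) and E4 (`exc_eq_one`) (helper4), VERBATIM.

Wrappers of the cores `bglspe3_core` / `bglspe4_core` (`helper4/BGLSPE3core.lean`) on E2 `NT_stab_x` (`Helper26.BGLSPE2`).
-/

set_option autoImplicit false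

namespace Cfsg.Agent.Lib.helper14.BGLSP

open Cfsg.Lie Cfsg.Lie.ChevalleyDatum Cfsg.Agent.Lib.helper8 Cfsg.Agent.Lib.Helper10.BGL Matrix

universe u

variable {K : Type u} [Field K] (D : ChevalleyDatum)

/-- E3 [S-M]  `Subgroup.closure_induction` on `D.group K`. -/
theorem NT_stab_group {lam : List ℕ} (hT : SPTab D lam) {p : ℕ} [CharP K p] (hE : spExcChk D lam p = true)
    (hB : H8Base.{u} D) {g : GL D.Idx K} (hg : g ∈ D.group K) {w : D.Idx → K} (hw : w ∈ NT D K lam) :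
    (g : Matrix D.Idx D.Idx K) *ᵥ w ∈ NT D K lam :=
  bglspe3_core D hB (fun _ hr t _ hw => NT_stab_x D hT hE hr t hw) hg hw

/-- E4 [M]  the elements of `G(K)` acting trivially modulo `NT` form a normal subgroup not containing `x_ρ(1)`; `h8simple_main`. -/
theorem exc_eq_one (hD : D ∈ [chevG2, chevB2, chevD4, chevF4, chevE6, chevE7, chevE8]) {lam : List ℕ} (hT : SPTab D lam)
    {p : ℕ} [CharP K p] (hE : spExcChk D lam p = true) (h3 : ∃ a : K, a ≠ 0 ∧ a ≠ 1) {c : GL D.Idx K}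
    (hc : c ∈ D.group K) (hcN : ∀ v : D.Idx → K, ((c : Matrix D.Idx D.Idx K) - 1) *ᵥ v ∈ NT D K lam) : c = 1 :=
  bglspe4_core D hD hT h3
    (fun _ hg _ hw => NT_stab_group D hT hE (h8base_all.{u} D hD) hg hw) hc hcN

end Cfsg.Agent.Lib.helper14.BGLSP

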