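import Mathlib
import Cfsg.Agent.Lib.helper14.BGL.UKDefs
import Cfsg.Agent.Lib.helper8.ChevHProd
import Cfsg.Agent.Lib.helper8.ChevNegAll
import Cfsg.Agent.Lib.Helper25.BGLPC05

/-!
# Project BGL, block UK (designer helper14), row UKC2 (`uk_torus_rat`) (helper4), VERBATIM.

A torus element whose diagonal entries at the positive roots are rational is rational: the torus element is `diagonal (h8Phi D D.rank c)`
(`h8_H_eq_Phi`), the entry at a negative root `v` is the inverse of the entry at the positive root `-v` (`hB.ca.neg`).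
-/

set_option autoImplicit false

namespace Cfsg.Agent.Lib.helper14.BGLUK

open Cfsg.Lie Cfsg.Lie.ChevalleyDatum Cfsg.Agent.Lib.helper8 Cfsg.Agent.Lib.helper14
  Cfsg.Agent.Lib.Helper10.BGL

universe u

variable {K : Type u} [Field K]

/-- the opposite of a negative root is positive -/
theorem bglukc2_pos_of_neg (D : ChevalleyDatum) (hB : H8Base.{u} D) (hN : h8NegOK D = true) (v : ℕ)
    (hv : D.IsNegRoot v) : D.IsPosRoot (D.negIdx.getD v 0) := by
  have hlt : D.negIdx.getD v 0 < D.nroots := hB.ca.neg_lt v hv.1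
  rcases hB.posneg _ hlt with h1 | h1
  · exact h1
  · have h2 := (h8NegOK_spec hN hv).2.1
    have h3 := (h8NegOK_spec hN h1).1
    omega

/-- the diagonal entry at `-v` of a torus element is the inverse of the entry at `v` -/
theorem bglukc2_Phi_neg (D : ChevalleyDatum) (hB : H8Base.{u} D) (c : ℕ → K) (v : ℕ) (hv : v < D.nroots) :
    h8Phi D D.rank c (Sum.inr ⟨D.negIdx.getD v 0, hB.ca.neg_lt v hv⟩) =
      (h8Phi D D.rank c (Sum.inr ⟨v, hv⟩))⁻¹ := by
  simp only [h8Phi, Sum.elim_inr]
  rw [← Finset.prod_inv_distrib]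
  apply Finset.prod_congr rfl
  intro i hi
  rw [hB.ca.neg i (Finset.mem_range.1 hi) v hv, zpow_neg]

section C

variable [Finite K] [CharP K 2]

/-- UKC2 [S-M].  a torus element whose diagonal entries at the positive roots are rational is rational
(`h8_H_eq_Phi`, `hB.ca.neg`, `hB.posneg`). -/
theorem uk_torus_rat (p : ℕ) [Fact p.Prime] [CharP K p] (D : ChevalleyDatum) (hD : Seven D) (a : ℕ)
    (h : GL D.Idx K) (hh : h ∈ D.diagonalSubgroup K)
    (hpos : ∀ (r : ℕ) (hr : r < D.nroots), D.IsPosRoot r →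
      ((h : Matrix D.Idx D.Idx K) (Sum.inr ⟨r, hr⟩) (Sum.inr ⟨r, hr⟩)) ^ p ^ a =
        (h : Matrix D.Idx D.Idx K) (Sum.inr ⟨r, hr⟩) (Sum.inr ⟨r, hr⟩)) :
    h ∈ ratS (K := K) p D a := by
  classical
  have hB := h8base_all.{u} D hD
  have hN := h8NegOK_all D hD
  have hp : p.Prime := Fact.out
  rw [mem_ratS]
  obtain ⟨c, hc, hdiag⟩ := h8_H_eq_Phi D hB h hh
  intro i j
  by_cases hij : i = j
  · subst hij
    rcases i with k | v
    · rw [hdiag, Matrix.diagonal_apply_eq]
      simp [h8Phi]
    · rcases hB.posneg v.val v.2 with h1 | h1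
      · exact hpos v.val v.2 h1
      · have hw := bglukc2_pos_of_neg D hB hN v.val h1
        have h2 := hpos _ (hB.ca.neg_lt v.val v.2) hw
        rw [hdiag, Matrix.diagonal_apply_eq, bglukc2_Phi_neg D hB c v.val v.2] at h2
        rw [hdiag, Matrix.diagonal_apply_eq]
        rw [inv_pow] at h2
        exact inv_injective h2
  · rw [hdiag, Matrix.diagonal_apply_ne _ hij, zero_pow]
    exact pow_ne_zero _ hp.ne_zero

end C

end Cfsg.Agent.Lib.helper14.BGLUK

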