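import Mathlib
import Cfsg.Agent.Lib.helper14.BGL.UKDefs
import Cfsg.Agent.Lib.helper14.ChevNormVk
import Cfsg.Agent.Lib.helper14.ChevFiltAll
import Cfsg.Agent.Lib.helper8.ChevCommAll
import Cfsg.Agent.Lib.helper8.ChevOrdAll
import Cfsg.Agent.Lib.Helper25.BGLPC05
import Cfsg.Agent.Lib.helper4.BGLUKC2

/-!
# Project BGL, block UK (designer helper14), row UKC3 (`bk_torus`) (helper4), CORE.

`bglukc3_core`: the UKSkel statement of `bk_torus` with the statement of UKB2 `uk_rat_lead` (at `p = 2`) as hypothesis `hB2`.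
On `pc_H_act` (`Helper25.BGLPC05`), `cf_conj_U` (`helper14.ChevFilt`), UKC2 `uk_torus_rat` (`helper4.BGLUKC2`).
-/

set_option autoImplicit false

namespace Cfsg.Agent.Lib.helper14.BGLUK

open Cfsg.Lie Cfsg.Lie.ChevalleyDatum Cfsg.Agent.Lib.helper8 Cfsg.Agent.Lib.helper14
  Cfsg.Agent.Lib.Helper10.BGL

universe u

variable {K : Type u} [Field K]

/-- `V_m ≤ U` -/
theorem bglukc3_V_le_U (D : ChevalleyDatum) (m : ℕ) : ukV D K m ≤ D.posUnipotent K := by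
  unfold ukV ChevalleyDatum.posUnipotent
  apply Subgroup.closure_mono
  rintro g ⟨r, t, hr, -, hg⟩
  exact ⟨r, t, hr, hg⟩

section C

variable [Finite K] [CharP K 2]

/-- UKC3 core -/
theorem bglukc3_core (D : ChevalleyDatum) (hD : Seven D) (a : ℕ) (H : Subgroup (GL D.Idx K))
    (hL : Lq D K (2 ^ a) ≤ H)
    (hB2 : ∀ (m : ℕ), D.IsPosRoot m → ∀ (t : K) (v : GL D.Idx K), v ∈ ukV D K (m + 1) →
      h8xU D (h8base_all.{u} D hD) m t * v ∈ ratS (K := K) 2 D a → t ^ 2 ^ a = t)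
    (hU : ∀ g ∈ H, g ∈ D.posUnipotent K → g ∈ ratS (K := K) 2 D a)
    (u h : GL D.Idx K) (hu : u ∈ D.posUnipotent K) (hh : h ∈ D.diagonalSubgroup K)
    (hg : u * h ∈ H) : h ∈ ratS (K := K) 2 D a := by
  have hB := h8base_all.{u} D hD
  have hC := h8commAll.{u} D hD
  obtain ⟨hO, -⟩ := h8ord_all D hD
  have hM := cfMax_all D hD
  haveI : Fact (Nat.Prime 2) := ⟨Nat.prime_two⟩
  apply uk_torus_rat 2 D hD a h hh
  intro r hr hpos
  -- `x_r(1) ∈ Lq ≤ H`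
  have hx1 : h8xU D hB r (1 : K) ∈ H := by
    apply hL
    unfold Lq
    exact Subgroup.subset_closure ⟨r, 1, one_pow _, h8xU_val D hB r 1⟩
  have hconj : (u * h) * h8xU D hB r (1 : K) * (u * h)⁻¹ ∈ H :=
    Subgroup.mul_mem _ (Subgroup.mul_mem _ hg hx1) (Subgroup.inv_mem _ hg)
  have hact := (pc_H_act D hD h hh).2.1 r hr (1 : K)
  rw [mul_one] at hact
  have hact' : h * h8xU D hB r (1 : K) * h⁻¹ =
      h8xU D hB r ((h : Matrix D.Idx D.Idx K) (Sum.inr ⟨r, hr⟩) (Sum.inr ⟨r, hr⟩)) := hact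
  obtain ⟨v, hv, e⟩ := cf_conj_U D hB hC hO hM u hu r hpos
    ((h : Matrix D.Idx D.Idx K) (Sum.inr ⟨r, hr⟩) (Sum.inr ⟨r, hr⟩))
  have e2 : (u * h) * h8xU D hB r (1 : K) * (u * h)⁻¹ =
      h8xU D hB r ((h : Matrix D.Idx D.Idx K) (Sum.inr ⟨r, hr⟩) (Sum.inr ⟨r, hr⟩)) * v := by
    rw [← e, ← hact']
    group
  rw [e2] at hconj
  have hvV : v ∈ ukV D K (r + 1) := hv
  have hmemU : h8xU D hB r ((h : Matrix D.Idx D.Idx K) (Sum.inr ⟨r, hr⟩) (Sum.inr ⟨r, hr⟩)) * v ∈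
      D.posUnipotent K := by
    apply Subgroup.mul_mem _ _ (bglukc3_V_le_U D (r + 1) hvV)
    unfold ChevalleyDatum.posUnipotent
    exact Subgroup.subset_closure ⟨r, _, hpos, h8xU_val D hB r _⟩
  exact hB2 r hpos _ v hvV (hU _ hconj hmemU)

end C

end Cfsg.Agent.Lib.helper14.BGLUK

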