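import Mathlib
import Cfsg.Agent.Lib.Helper22.C3L.Defs
import Cfsg.Agent.Lib.helper8.C3S.Defs

set_option autoImplicit false
set_option linter.unusedVariables false
set_option linter.unusedSectionVars false

/-!
# Project C3S (S5664), piece LS23, cores : `ls_mul`, `ls_conjK` with the statements of KTV / TRANS as hypotheses
-/

namespace Cfsg.Agent.Lib.helper8.C3S

open Module Cfsg.Agent.Lib.Helper22.C3L

variable {F K V : Type*} [Field F] [Field K] [Algebra F K] [AddCommGroup V] [Module F V] [Module K V]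
  [IsScalarTower F K V]

/-- LS2 core : a `K`-transvection at `v` with parameter `c` in `SpB ≤ H` puts the multiplication by `c` into `LS`. -/
theorem c3sls23_mul_core (B : V →ₗ[K] V →ₗ[K] K) (H : Subgroup (V ≃ₗ[F] V)) (hC : SpB F B ≤ H) (v : V)
    (c : K) (hktv : ∃ g ∈ SpB F B, ∀ x : V, g x = x + (c * B x v) • v) :
    LinearMap.mulLeft F c ∈ LS B H v := by
  obtain ⟨g, hg, hgx⟩ := hktv
  refine ⟨g, hC hg, fun x => ?_⟩
  rw [hgx x, LinearMap.mulLeft_apply]

/-- LS3 core : conjugation by `d ∈ SpB` with `d v = k v` maps `1 + X_β` to `1 + X_{k β k}`. -/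
theorem c3sls23_conjK_core (B : V →ₗ[K] V →ₗ[K] K) (H : Subgroup (V ≃ₗ[F] V)) (hC : SpB F B ≤ H) {v : V}
    (k : K) (htr : ∃ d ∈ SpB F B, d v = k • v) {β : K →ₗ[F] K} (hβ : β ∈ LS B H v) :
    LinearMap.mulLeft F k ∘ₗ β ∘ₗ LinearMap.mulLeft F k ∈ LS B H v := by
  obtain ⟨d, hd, hdv⟩ := htr
  obtain ⟨hdK, hdB⟩ := mem_SpB.1 hd
  obtain ⟨g, hg, hgx⟩ := hβ
  refine ⟨d * g * d⁻¹, H.mul_mem (H.mul_mem (hC hd) hg) (H.inv_mem (hC hd)), fun x => ?_⟩
  obtain ⟨y, hy⟩ : ∃ y : V, y = d⁻¹ x := ⟨_, rfl⟩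
  have hdy : d y = x := by
    rw [hy]
    simp
  have hByv : B y v = k * B x v := by
    rw [← hdB y v, hdy, hdv, map_smul, smul_eq_mul]
  rw [LinearEquiv.mul_apply, LinearEquiv.mul_apply, ← hy, hgx y, map_add, hdy, hdK, hdv, smul_smul, hByv,
    LinearMap.comp_apply, LinearMap.comp_apply, LinearMap.mulLeft_apply, LinearMap.mulLeft_apply,
    mul_comm (β (k * B x v)) k]

end Cfsg.Agent.Lib.helper8.C3S
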