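import Mathlib
import Cfsg.Agent.Lib.Helper10.C3E.Defs
import Cfsg.Agent.Lib.Helper22.C3ERNGND
import Cfsg.Agent.Lib.helper14.PolA

/-!
# Project S5975, row COUNT: `c3e_count`
-/

set_option autoImplicit false
set_option linter.unusedVariables false
set_option linter.unusedSectionVars false

namespace Cfsg.Agent.Lib.Helper10.C3E

open Module Cfsg.Agent.Lib.helper8.C3S

variable {F K V : Type*} [Field F] [Field K] [Algebra F K] [AddCommGroup V] [Module F V] [Module K V]
  [IsScalarTower F K V]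

/-- generic form: an endomorphism of prime order `r ≠ 0` in `F`. -/
theorem c3ecount_end {F V : Type*} [Field F] [Fintype F] [AddCommGroup V] [Module F V] [FiniteDimensional F V]
    {r : ℕ} [Fact r.Prime] (hrF : (r : F) ≠ 0) (y : Module.End F V) (hy : y ^ r = 1) :
    r ∣ Fintype.card F ^ finrank F (LinearMap.range (y - 1)) - 1 := by
  have hU : ∀ u ∈ LinearMap.range (y - 1), y u ∈ LinearMap.range (y - 1) := by
    rintro u ⟨w, rfl⟩
    refine ⟨y w, ?_⟩
    simp only [LinearMap.sub_apply, Module.End.one_apply, map_sub]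
  have h := Cfsg.Agent.Lib.helper14.PolA.card_inv_modEq y r hy (LinearMap.range (y - 1)) hU
  have hbot : LinearMap.range (y - 1) ⊓ Cfsg.Agent.Lib.helper14.PolA.fixSp y = ⊥ :=
    c3erngnd_disjoint r hrF y hy
  rw [hbot, finrank_bot, pow_zero, Nat.card_eq_fintype_card] at h
  exact (Nat.modEq_iff_dvd' (Nat.one_le_pow _ _ Fintype.card_pos)).mp h.symm

/-- COUNT -/
theorem c3e_count [Fintype F] [FiniteDimensional F V] {r : ℕ} [Fact r.Prime] (hrF : (r : F) ≠ 0) (g : V ≃ₗ[F] V)
    (hgr : g ^ r = 1) : r ∣ Fintype.card F ^ rk g 1 - 1 := by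
  rw [rk, c3erngnd_sub_eq]
  exact c3ecount_end hrF _ (c3erngnd_end_pow g r hgr)

end Cfsg.Agent.Lib.Helper10.C3E
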