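import Mathlib
import Cfsg.Agent.Lib.Helper22.C3L.Defs
import Cfsg.Agent.Lib.Helper10.C3O.Defs

/-!
# Project C3O, common lemmas for the pieces DALL and STRICT (helper4)

Elementary facts on `tf F B = Tr ∘ B`, the trace of a finite field extension, hyperbolic partners, and the fact that the
`K`-singular vectors separate points.
-/

set_option autoImplicit false
set_option linter.unusedVariables false
set_option linter.unusedSectionVars false

namespace Cfsg.Agent.Lib.Helper10.C3O

open Module Cfsg.Agent.Lib.Helper22.C3L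

variable {F K V : Type*} [Field F] [Field K] [Algebra F K] [AddCommGroup V] [Module F V] [Module K V]
  [IsScalarTower F K V]

theorem c3odall_two_ne (h2 : (2 : F) ≠ 0) : (2 : K) ≠ 0 := by
  intro h
  apply h2
  apply (algebraMap F K).injective
  rw [map_ofNat, map_zero]
  exact h

theorem c3odall_tf_symm (B : V →ₗ[K] V →ₗ[K] K) (hBs : ∀ x y, B x y = B y x) (x y : V) :
    tf F B x y = tf F B y x := by
  rw [tf_def, tf_def, hBs]

theorem c3odall_tf_add_left (B : V →ₗ[K] V →ₗ[K] K) (x y z : V) :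
    tf F B (x + y) z = tf F B x z + tf F B y z := by
  rw [tf_def, tf_def, tf_def, map_add, LinearMap.add_apply, map_add]

theorem c3odall_tf_add_right (B : V →ₗ[K] V →ₗ[K] K) (x y z : V) :
    tf F B z (x + y) = tf F B z x + tf F B z y := by
  rw [tf_def, tf_def, tf_def, map_add, map_add]

theorem c3odall_tf_sub_left (B : V →ₗ[K] V →ₗ[K] K) (x y z : V) :
    tf F B (x - y) z = tf F B x z - tf F B y z := by
  rw [tf_def, tf_def, tf_def, map_sub, LinearMap.sub_apply, map_sub]

theorem c3odall_tf_sub_right (B : V →ₗ[K] V →ₗ[K] K) (x y z : V) :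
    tf F B z (x - y) = tf F B z x - tf F B z y := by
  rw [tf_def, tf_def, tf_def, map_sub, map_sub]

theorem c3odall_tf_smul_right (B : V →ₗ[K] V →ₗ[K] K) (c : F) (x z : V) :
    tf F B z (c • x) = c * tf F B z x := by
  rw [tf_def, tf_def, ← algebraMap_smul K c x, map_smul, smul_eq_mul, ← Algebra.smul_def, map_smul,
    smul_eq_mul]

theorem c3odall_tf_smul_left (B : V →ₗ[K] V →ₗ[K] K) (c : F) (x z : V) :
    tf F B (c • x) z = c * tf F B x z := by
  rw [tf_def, tf_def, ← algebraMap_smul K c x, map_smul, LinearMap.smul_apply, smul_eq_mul,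
    ← Algebra.smul_def, map_smul, smul_eq_mul]

theorem c3odall_tf_zero_right (B : V →ₗ[K] V →ₗ[K] K) (x : V) : tf F B x 0 = 0 := by
  rw [tf_def, map_zero, map_zero]

theorem c3odall_tf_zero_left (B : V →ₗ[K] V →ₗ[K] K) (x : V) : tf F B 0 x = 0 := by
  rw [tf_def, map_zero, LinearMap.zero_apply, map_zero]

theorem c3odall_tf_ksmul_left (B : V →ₗ[K] V →ₗ[K] K) (k : K) (x y : V) :
    tf F B (k • x) y = Algebra.trace F K (k * B x y) := by
  rw [tf_def, map_smul, LinearMap.smul_apply, smul_eq_mul]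

theorem c3odall_tf_ksmul_right (B : V →ₗ[K] V →ₗ[K] K) (k : K) (x y : V) :
    tf F B x (k • y) = Algebra.trace F K (k * B x y) := by
  rw [tf_def, map_smul, smul_eq_mul]

theorem c3odall_tf_sing (B : V →ₗ[K] V →ₗ[K] K) {x : V} (hx : B x x = 0) : tf F B x x = 0 := by
  rw [tf_def, hx, map_zero]

/-- the trace of a finite field extension is onto -/
theorem c3odall_tr_surj [Finite K] (c : F) : ∃ k : K, Algebra.trace F K k = c :=
  Algebra.trace_surjective F K c

/-- the trace form of a finite field extension separates points -/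
theorem c3odall_tr_sep [Finite K] {b : K} (h : ∀ k : K, Algebra.trace F K (k * b) = 0) : b = 0 := by
  have hnd : (Algebra.traceForm F K).Nondegenerate := traceForm_nondegenerate F K
  exact hnd.2 _ (fun s => by rw [Algebra.traceForm_apply]; exact h s)

theorem c3odall_B_sub_smul (B : V →ₗ[K] V →ₗ[K] K) (x u : V) (c : K) :
    B (x - c • u) (x - c • u) = B x x - c * B x u - c * B u x + c * c * B u u := by
  simp only [map_sub, map_smul, LinearMap.sub_apply, LinearMap.smul_apply, smul_eq_mul]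
  ring

/-- hyperbolic partner (the content of piece HYP, under another name so that DALL / STRICT do not wait for it) -/
theorem c3odall_hyp (h2 : (2 : F) ≠ 0) (B : V →ₗ[K] V →ₗ[K] K) (hBs : ∀ x y, B x y = B y x)
    (hBn : ∀ x, x ≠ 0 → ∃ y, B x y ≠ 0) {u : V} (hu : u ≠ 0) (hu0 : B u u = 0) :
    ∃ u' : V, B u' u' = 0 ∧ B u u' = 1 := by
  have h2K : (2 : K) ≠ 0 := c3odall_two_ne h2
  obtain ⟨y, hy⟩ := hBn u hu
  have h1 : B u ((B u y)⁻¹ • y) = 1 := by rw [map_smul, smul_eq_mul, inv_mul_cancel₀ hy]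
  generalize (B u y)⁻¹ • y = y' at h1
  have h1' : B y' u = 1 := by rw [hBs, h1]
  refine ⟨y' - (B y' y' / 2) • u, ?_, ?_⟩
  · rw [c3odall_B_sub_smul, h1, h1', hu0]
    have h3 : B y' y' / 2 * 2 = B y' y' := div_mul_cancel₀ _ h2K
    linear_combination (-1 : K) * h3
  · rw [map_sub, map_smul, smul_eq_mul, h1, hu0, mul_zero, sub_zero]

/-- projection onto the orthogonal of a hyperbolic pair -/
theorem c3odall_proj (B : V →ₗ[K] V →ₗ[K] K) (hBs : ∀ x y, B x y = B y x) {u u' : V} (hu0 : B u u = 0)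
    (hu'0 : B u' u' = 0) (huu' : B u u' = 1) (x : V) :
    B (x - B x u' • u - B x u • u') u = 0 ∧ B (x - B x u' • u - B x u • u') u' = 0 := by
  have hu'u : B u' u = 1 := by rw [hBs, huu']
  constructor
  · simp only [map_sub, map_smul, LinearMap.sub_apply, LinearMap.smul_apply, smul_eq_mul, hu0, hu'u]
    ring
  · simp only [map_sub, map_smul, LinearMap.sub_apply, LinearMap.smul_apply, smul_eq_mul, huu', hu'0]
    ring

/-- the singular vector `-(B w w / 2) u + w + u'` attached to `w ⊥ u, u'` -/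
theorem c3odall_sing (h2K : (2 : K) ≠ 0) (B : V →ₗ[K] V →ₗ[K] K) (hBs : ∀ x y, B x y = B y x)
    {u u' w : V} (hu0 : B u u = 0) (hu'0 : B u' u' = 0) (huu' : B u u' = 1) (hwu : B w u = 0)
    (hwu' : B w u' = 0) :
    B (-(B w w / 2) • u + w + u') (-(B w w / 2) • u + w + u') = 0 := by
  have hu'u : B u' u = 1 := by rw [hBs, huu']
  have huw : B u w = 0 := by rw [hBs, hwu]
  have hu'w : B u' w = 0 := by rw [hBs, hwu']
  simp only [map_add, map_smul, LinearMap.add_apply, LinearMap.smul_apply, smul_eq_mul, hu0, hu'0,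
    huu', hu'u, hwu, hwu', huw, hu'w]
  have h3 : B w w / 2 * 2 = B w w := div_mul_cancel₀ _ h2K
  linear_combination (-1 : K) * h3

/-- a vector orthogonal to every `K`-singular vector is zero (given one non-zero singular vector) -/
theorem c3odall_span (h2 : (2 : F) ≠ 0) (B : V →ₗ[K] V →ₗ[K] K) (hBs : ∀ x y, B x y = B y x)
    (hBn : ∀ x, x ≠ 0 → ∃ y, B x y ≠ 0) (hiso : ∃ u : V, u ≠ 0 ∧ B u u = 0) {z : V}
    (hall : ∀ a : V, B a a = 0 → B a z = 0) : z = 0 := by
  have h2K : (2 : K) ≠ 0 := c3odall_two_ne h2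
  obtain ⟨u, hu, hu0⟩ := hiso
  obtain ⟨u', hu'0, huu'⟩ := c3odall_hyp h2 B hBs hBn hu hu0
  have huz := hall u hu0
  have hu'z := hall u' hu'0
  have aux : ∀ w : V, B w u = 0 → B w u' = 0 → B w z = 0 := by
    intro w hwu hwu'
    have hs := hall _ (c3odall_sing h2K B hBs hu0 hu'0 huu' hwu hwu')
    rw [map_add, map_add, map_smul, LinearMap.add_apply, LinearMap.add_apply, LinearMap.smul_apply,
      smul_eq_mul, huz, hu'z, mul_zero, zero_add, add_zero] at hs
    exact hs
  have key : ∀ v : V, B v z = 0 := by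
    intro v
    obtain ⟨hwu, hwu'⟩ := c3odall_proj B hBs hu0 hu'0 huu' v
    have e : B v z = B (v - B v u' • u - B v u • u') z + B v u' * B u z + B v u * B u' z := by
      simp only [map_sub, map_smul, LinearMap.sub_apply, LinearMap.smul_apply, smul_eq_mul]
      ring
    rw [e, aux _ hwu hwu', huz, hu'z, mul_zero, mul_zero, add_zero, add_zero]
  by_contra hz
  obtain ⟨y, hy⟩ := hBn z hz
  exact hy (by rw [hBs]; exact key y)

/-- conjugation of an `F`-Siegel map by an isometry of `f` (the content of `fsg_conj`) -/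
theorem c3odall_fsg_conj (B : V →ₗ[K] V →ₗ[K] K) {k : V ≃ₗ[F] V} (hk : k ∈ Of F B) (z w x : V) :
    k (fsg F B z w (k.symm x)) = fsg F B (k z) (k w) x := by
  have e : ∀ a b : V, tf F B (k.symm a) b = tf F B a (k b) := by
    intro a b
    rw [← hk (k.symm a) b, LinearEquiv.apply_symm_apply]
  unfold fsg
  rw [map_sub, map_sub, map_add, map_smul, map_smul, map_smul, LinearEquiv.apply_symm_apply, e, e,
    hk w w]

end Cfsg.Agent.Lib.Helper10.C3O
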