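import Mathlib
import Cfsg.Agent.Lib.Helper22.C3L.Defs
import Cfsg.Agent.Lib.Helper10.C3O.Defs
import Cfsg.Agent.Lib.helper4.C3ODALLbase

/-!
# Project C3O, piece DALL (core): all `F`-Siegel maps of `f = tf F B`, from those at the `K`-singular vectors.
The core takes the existence of a non-zero `K`-singular vector (piece ISO) as a hypothesis.
-/

set_option autoImplicit false
set_option linter.unusedVariables false
set_option linter.unusedSectionVars false

namespace Cfsg.Agent.Lib.Helper10.C3O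

open Module Cfsg.Agent.Lib.Helper22.C3L

variable {F K V : Type*} [Field F] [Field K] [Algebra F K] [AddCommGroup V] [Module F V] [Module K V]
  [IsScalarTower F K V]

/-- a non-zero vector is not `f`-orthogonal to all `K`-singular vectors -/
theorem c3odall_exists_sing [Finite K] (h2 : (2 : F) ≠ 0) (B : V →ₗ[K] V →ₗ[K] K)
    (hBs : ∀ x y, B x y = B y x) (hBn : ∀ x, x ≠ 0 → ∃ y, B x y ≠ 0)
    (hiso : ∃ u : V, u ≠ 0 ∧ B u u = 0) {z : V} (hz : z ≠ 0) :
    ∃ a : V, B a a = 0 ∧ tf F B a z ≠ 0 := by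
  by_contra hcon
  push Not at hcon
  apply hz
  apply c3odall_span h2 B hBs hBn hiso
  intro a ha
  apply c3odall_tr_sep (F := F)
  intro k
  rw [← c3odall_tf_ksmul_left]
  apply hcon
  rw [map_smul, map_smul, LinearMap.smul_apply, ha, smul_zero, smul_zero]

theorem c3odall_core [Finite K] (h2 : (2 : F) ≠ 0) (B : V →ₗ[K] V →ₗ[K] K)
    (hBs : ∀ x y, B x y = B y x) (hBn : ∀ x, x ≠ 0 → ∃ y, B x y ≠ 0)
    (hiso : ∃ u : V, u ≠ 0 ∧ B u u = 0)
    (H : Subgroup (V ≃ₗ[F] V)) (hH : H ≤ Of F B)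
    (hs : ∀ v : V, v ≠ 0 → B v v = 0 → ∀ y : V, tf F B v y = 0 → HasF B H v y) :
    ∀ z : V, tf F B z z = 0 → ∀ y : V, tf F B z y = 0 → HasF B H z y := by
  intro z hzz w hzw
  by_cases hz0 : z = 0
  · refine ⟨1, H.one_mem, fun x => ?_⟩
    unfold fsg
    rw [hz0, c3odall_tf_zero_right, zero_smul, smul_zero, smul_zero, add_zero, sub_zero, sub_zero]
    rfl
  obtain ⟨a, ha0, hc⟩ := c3odall_exists_sing h2 B hBs hBn hiso hz0
  have hane : a ≠ 0 := by
    rintro rfl
    exact hc (c3odall_tf_zero_left B z)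
  obtain ⟨a', ha'0, haa'⟩ := c3odall_hyp h2 B hBs hBn hane ha0
  obtain ⟨k, hk⟩ := c3odall_tr_surj (F := F) (K := K) (tf F B a z)
  -- the `K`-singular vector `x = k • a'`
  have hxx : B (k • a') (k • a') = 0 := by
    rw [map_smul, map_smul, LinearMap.smul_apply, ha'0, smul_zero, smul_zero]
  have hax : tf F B a (k • a') = tf F B a z := by
    rw [c3odall_tf_ksmul_right, haa', mul_one, hk]
  have hx0 : k • a' ≠ 0 := by
    intro h
    rw [h, c3odall_tf_zero_right] at hax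
    exact hc hax.symm
  generalize k • a' = x at hxx hax hx0
  generalize hcdef : tf F B a z = c at hc hax
  have hxa : tf F B x a = c := by rw [c3odall_tf_symm B hBs, hax]
  have hza : tf F B z a = c := by rw [c3odall_tf_symm B hBs, hcdef]
  have hfxx : tf F B x x = 0 := c3odall_tf_sing B hxx
  have hzx : tf F B z x = tf F B x z := c3odall_tf_symm B hBs z x
  -- the Siegel map `ρ_{a,y₀}` moves `x` to `z`
  have hay₀ : tf F B a (c⁻¹ • (z - x)) = 0 := by
    rw [c3odall_tf_smul_right, c3odall_tf_sub_right, hcdef, hax, sub_self, mul_zero]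
  obtain ⟨ρ, hρH, hρ⟩ := hs a hane ha0 _ hay₀
  have hρO : ∀ p r : V, tf F B (ρ p) (ρ r) = tf F B p r := hH hρH
  have hρx : ρ x = z := by
    rw [hρ]
    unfold fsg
    have e1 : tf F B x (c⁻¹ • (z - x)) = c⁻¹ * tf F B x z := by
      rw [c3odall_tf_smul_right, c3odall_tf_sub_right, hfxx, sub_zero]
    have e2 : tf F B (c⁻¹ • (z - x)) (c⁻¹ • (z - x)) = c⁻¹ * (c⁻¹ * (-(2 * tf F B x z))) := by
      rw [c3odall_tf_smul_right, c3odall_tf_smul_left, c3odall_tf_sub_right, c3odall_tf_sub_left,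
        c3odall_tf_sub_left, hzz, hfxx, hzx]
      ring
    have e3 : c • c⁻¹ • (z - x) = z - x := by
      rw [smul_smul, mul_inv_cancel₀ hc, one_smul]
    have e4 : c⁻¹ * (c⁻¹ * (-(2 * tf F B x z))) / 2 * c = -(c⁻¹ * tf F B x z) := by
      field_simp
    rw [hxa, e1, e2, e3, e4, neg_smul]
    abel
  -- conjugate the Siegel map at `x`
  have hxw : tf F B x (ρ.symm w) = 0 := by
    rw [← hρO, hρx, LinearEquiv.apply_symm_apply, hzw]
  obtain ⟨g', hg'H, hg'⟩ := hs x hx0 hxx _ hxw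
  refine ⟨ρ * g' * ρ⁻¹, H.mul_mem (H.mul_mem hρH hg'H) (H.inv_mem hρH), fun t => ?_⟩
  have h1 := c3odall_fsg_conj B (hH hρH) x (ρ.symm w) t
  rw [hρx, LinearEquiv.apply_symm_apply] at h1
  rw [← h1, ← hg']
  rfl

end Cfsg.Agent.Lib.Helper10.C3O
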