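import Mathlib
import Cfsg.Agent.Lib.Helper22.C3L.Defs
import Cfsg.Agent.Lib.Helper10.C3O.Defs
import Cfsg.Agent.Lib.helper4.C3ODALLcore
import Cfsg.Agent.Lib.helper3.C3OISO

/-!
# Project C3O, piece DALL: `d_all` verbatim (the core is in `helper4/C3ODALLcore`).
-/

set_option autoImplicit false
set_option linter.unusedVariables false
set_option linter.unusedSectionVars false

namespace Cfsg.Agent.Lib.Helper10.C3O

open Module Cfsg.Agent.Lib.Helper22.C3L

variable {F K V : Type*} [Field F] [Field K] [Algebra F K] [AddCommGroup V] [Module F V] [Module K V]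
  [IsScalarTower F K V]

theorem d_all [Finite K] [FiniteDimensional K V] (h2 : (2 : F) ≠ 0) (B : V →ₗ[K] V →ₗ[K] K)
    (hBs : ∀ x y, B x y = B y x) (hBn : ∀ x, x ≠ 0 → ∃ y, B x y ≠ 0) (hd : 3 ≤ finrank K V)
    (H : Subgroup (V ≃ₗ[F] V)) (hH : H ≤ Of F B)
    (hs : ∀ v : V, v ≠ 0 → B v v = 0 → ∀ y : V, tf F B v y = 0 → HasF B H v y) :
    ∀ z : V, tf F B z z = 0 → ∀ y : V, tf F B z y = 0 → HasF B H z y := by
  have hiso : ∃ u : V, u ≠ 0 ∧ B u u = 0 := by
    obtain ⟨u, _, hu, hu0⟩ := iso_ex B hBs ⊤ (by rw [finrank_top]; exact hd)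
    exact ⟨u, hu, hu0⟩
  exact c3odall_core h2 B hBs hBn hiso H hH hs

end Cfsg.Agent.Lib.Helper10.C3O
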