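import Mathlib
import Cfsg.Agent.Lib.Helper22.C3L.Defs
import Cfsg.Agent.Lib.Helper10.C3O.Defs
import Cfsg.Agent.Lib.helper4.C3ODALLbase

/-!
# Project C3O, piece NF: an isometry of `f = tf F B` which is the identity on `v^⊥` (`K v` a singular `K`-line) is a
product of long root elements inside `K v`.

`c₀ x = x + ψ (B x v) • v` with `ψ : K →ₗ[F] K` skew for the trace form; such a `ψ` is a sum of the elementary skew maps
`s ↦ c • (Tr (k₁ s) • k₂ - Tr (k₂ s) • k₁)` (trace-dual bases), and the maps `x ↦ x + ψ (B x v) • v` multiply by adding the `ψ`.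
-/

set_option autoImplicit false
set_option linter.unusedVariables false
set_option linter.unusedSectionVars false

namespace Cfsg.Agent.Lib.Helper10.C3O

open Module Cfsg.Agent.Lib.Helper22.C3L

variable {F K V : Type*} [Field F] [Field K] [Algebra F K] [AddCommGroup V] [Module F V] [Module K V]
  [IsScalarTower F K V]

/-- trace-dual bases of a finite extension of finite fields -/
theorem c3onf_dual [Finite K] : ∃ (n : ℕ) (b d : Fin n → K),
    (∀ x : K, x = ∑ i, Algebra.trace F K (x * d i) • b i) ∧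
    (∀ x : K, x = ∑ i, Algebra.trace F K (x * b i) • d i) := by
  have hnd : (Algebra.traceForm F K).Nondegenerate := traceForm_nondegenerate F K
  have hsym : (Algebra.traceForm F K).IsSymm := Algebra.traceForm_isSymm F
  obtain ⟨b, d, hd, hb⟩ : ∃ (b d : Basis (Fin (finrank F K)) F K),
      (∀ x i, d.repr x i = Algebra.trace F K (x * b i)) ∧
      (∀ x i, b.repr x i = Algebra.trace F K (x * d i)) := by
    refine ⟨Module.finBasis F K, (Algebra.traceForm F K).dualBasis hnd (Module.finBasis F K), ?_, ?_⟩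
    · intro x i
      rw [LinearMap.BilinForm.dualBasis_repr_apply, Algebra.traceForm_apply]
    · intro x i
      have h := LinearMap.BilinForm.dualBasis_repr_apply hnd
        ((Algebra.traceForm F K).dualBasis hnd (Module.finBasis F K)) x i
      rw [LinearMap.BilinForm.dualBasis_dualBasis hnd hsym, Algebra.traceForm_apply] at h
      exact h
  refine ⟨finrank F K, fun i => b i, fun i => d i, fun x => ?_, fun x => ?_⟩
  · conv_lhs => rw [← b.sum_repr x]
    exact Finset.sum_congr rfl (fun i _ => by rw [hb])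
  · conv_lhs => rw [← d.sum_repr x]
    exact Finset.sum_congr rfl (fun i _ => by rw [hd])

/-- a trace-skew `F`-endomorphism of `K` is a sum of elementary skew maps -/
theorem c3onf_decomp [Finite K] (h2 : (2 : F) ≠ 0) (ψ : K →ₗ[F] K)
    (hψ : ∀ s t : K, Algebra.trace F K (ψ t * s) + Algebra.trace F K (ψ s * t) = 0) :
    ∃ (n : ℕ) (k₁ k₂ : Fin n → K), ∀ s : K,
      ψ s = ∑ i, (2 : F)⁻¹ •
        (Algebra.trace F K (k₁ i * s) • k₂ i - Algebra.trace F K (k₂ i * s) • k₁ i) := by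
  obtain ⟨n, b, d, E1, E2⟩ := c3onf_dual (F := F) (K := K)
  refine ⟨n, b, fun i => ψ (d i), fun s => ?_⟩
  have A1 : ∑ i, Algebra.trace F K (b i * s) • ψ (d i) = ψ s := by
    conv_rhs => rw [E2 s, map_sum]
    refine Finset.sum_congr rfl (fun i _ => ?_)
    rw [map_smul, mul_comm]
  have A2 : ∑ i, Algebra.trace F K (ψ (d i) * s) • b i = -ψ s := by
    conv_rhs => rw [E1 (ψ s), ← Finset.sum_neg_distrib]
    refine Finset.sum_congr rfl (fun i _ => ?_)
    rw [← neg_smul]
    congr 1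
    exact eq_neg_of_add_eq_zero_left (hψ s (d i))
  rw [← Finset.smul_sum, Finset.sum_sub_distrib, A1, A2, sub_neg_eq_add, ← two_smul F (ψ s), smul_smul,
    inv_mul_cancel₀ h2, one_smul]

theorem center_nf [Finite K] [FiniteDimensional K V] (h2 : (2 : F) ≠ 0) (B : V →ₗ[K] V →ₗ[K] K)
    (hBs : ∀ x y, B x y = B y x) (hBn : ∀ x, x ≠ 0 → ∃ y, B x y ≠ 0) (H : Subgroup (V ≃ₗ[F] V)) {v : V}
    (hv0 : B v v = 0)
    (hlr : ∀ z₁ ∈ Kl F K v, ∀ z₂ ∈ Kl F K v, ∀ c : F, ∃ g ∈ H, ∀ x : V,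
      g x = x + c • (tf F B z₁ x • z₂ - tf F B z₂ x • z₁))
    {c₀ : V ≃ₗ[F] V} (hc₀ : c₀ ∈ Of F B) (hfix : ∀ x : V, B x v = 0 → c₀ x = x) : c₀ ∈ H := by
  by_cases hv : v = 0
  · have e : c₀ = 1 := by
      apply LinearEquiv.ext
      intro x
      rw [hfix x (by rw [hv, map_zero])]
      rfl
    rw [e]
    exact H.one_mem
  obtain ⟨v', hv'0, hvv'⟩ := c3odall_hyp h2 B hBs hBn hv hv0
  have hv'v : B v' v = 1 := by rw [hBs, hvv']
  have hc₀' : ∀ x y : V, tf F B (c₀ x) (c₀ y) = tf F B x y := hc₀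
  -- Step 1: `c₀ x - x ∈ K v`
  have step1 : ∀ x, c₀ x = x + B (c₀ x - x) v' • v := by
    intro x
    have hz : ∀ y, B y v = 0 → B (c₀ x - x) y = 0 := by
      intro y hy
      apply c3odall_tr_sep (F := F)
      intro k
      rw [← c3odall_tf_ksmul_right]
      have hky : B (k • y) v = 0 := by rw [map_smul, LinearMap.smul_apply, hy, smul_zero]
      have h3 := hc₀' x (k • y)
      rw [hfix _ hky] at h3
      rw [c3odall_tf_sub_left, h3, sub_self]
    have hall : ∀ y, B (c₀ x - x - B (c₀ x - x) v' • v) y = 0 := by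
      intro y
      have h3 := hz (y - B v y • v') (by
        rw [map_sub, LinearMap.sub_apply, map_smul, LinearMap.smul_apply, hv'v, smul_eq_mul, mul_one,
          hBs y v, sub_self])
      rw [map_sub, map_smul, smul_eq_mul, sub_eq_zero] at h3
      rw [map_sub, LinearMap.sub_apply, map_smul, LinearMap.smul_apply, smul_eq_mul, h3, mul_comm,
        sub_self]
    have hzero : c₀ x - x - B (c₀ x - x) v' • v = 0 := by
      by_contra hne
      obtain ⟨y, hy⟩ := hBn _ hne
      exact hy (hall y)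
    have h4 := sub_eq_zero.1 hzero
    rw [← h4]
    abel
  -- the `F`-linear map `ψ : K → K`
  let ψ : K →ₗ[F] K := ((B.flip v').restrictScalars F) ∘ₗ ((c₀ : V →ₗ[F] V) - LinearMap.id) ∘ₗ
    ((LinearMap.toSpanSingleton K V v').restrictScalars F)
  have hψdef : ∀ s : K, ψ s = B (c₀ (s • v') - s • v') v' := fun s => rfl
  have hθ : ∀ x, B (c₀ x - x) v' = ψ (B x v) := by
    intro x
    have hy : B (x - B x v • v') v = 0 := by
      rw [map_sub, LinearMap.sub_apply, map_smul, LinearMap.smul_apply, hv'v, smul_eq_mul, mul_one,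
        sub_self]
    have h3 := hfix _ hy
    rw [map_sub] at h3
    rw [hψdef, ← sub_eq_sub_iff_sub_eq_sub.1 h3]
  have hc1 : ∀ s : K, c₀ (s • v') = s • v' + ψ s • v := by
    intro s
    rw [hψdef]
    exact step1 (s • v')
  have hψskew : ∀ s t : K, Algebra.trace F K (ψ t * s) + Algebra.trace F K (ψ s * t) = 0 := by
    intro s t
    have h3 := hc₀' (s • v') (t • v')
    have e : B (s • v' + ψ s • v) (t • v' + ψ t • v) = ψ t * s + ψ s * t := by
      simp only [map_add, map_smul, LinearMap.add_apply, LinearMap.smul_apply, smul_eq_mul, hv'0, hv0,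
        hvv', hv'v]
      ring
    have e0 : B (s • v') (t • v') = 0 := by
      rw [map_smul, map_smul, LinearMap.smul_apply, hv'0, smul_zero, smul_zero]
    rw [hc1 s, hc1 t, tf_def, tf_def, e, e0, map_add, map_zero] at h3
    exact h3
  -- the maps `x ↦ x + ψ' (B x v) • v` in `H`
  have P0 : ∃ g ∈ H, ∀ x : V, g x = x + (0 : K → K) (B x v) • v :=
    ⟨1, H.one_mem, fun x => by rw [Pi.zero_apply, zero_smul, add_zero]; rfl⟩
  have Padd : ∀ ψ₁ ψ₂ : K → K, (∃ g ∈ H, ∀ x : V, g x = x + ψ₁ (B x v) • v) →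
      (∃ g ∈ H, ∀ x : V, g x = x + ψ₂ (B x v) • v) →
      ∃ g ∈ H, ∀ x : V, g x = x + (ψ₁ + ψ₂) (B x v) • v := by
    rintro ψ₁ ψ₂ ⟨g₁, hg₁H, hg₁⟩ ⟨g₂, hg₂H, hg₂⟩
    refine ⟨g₂ * g₁, H.mul_mem hg₂H hg₁H, fun x => ?_⟩
    have e : B (g₁ x) v = B x v := by
      rw [hg₁, map_add, LinearMap.add_apply, map_smul, LinearMap.smul_apply, hv0, smul_zero, add_zero]
    rw [LinearEquiv.mul_apply, hg₂, e, hg₁, Pi.add_apply, add_smul, add_assoc]
  have Pelem : ∀ (k₁ k₂ : K) (c : F), ∃ g ∈ H, ∀ x : V, g x = x +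
      (fun s : K => c • (Algebra.trace F K (k₁ * s) • k₂ - Algebra.trace F K (k₂ * s) • k₁)) (B x v) • v := by
    intro k₁ k₂ c
    obtain ⟨g, hgH, hg⟩ := hlr (k₁ • v) (smul_mem_Kl F K k₁ v) (k₂ • v) (smul_mem_Kl F K k₂ v) c
    refine ⟨g, hgH, fun x => ?_⟩
    rw [hg, c3odall_tf_ksmul_left, c3odall_tf_ksmul_left, hBs v x]
    show _ = x + (c • (Algebra.trace F K (k₁ * B x v) • k₂ - Algebra.trace F K (k₂ * B x v) • k₁)) • v
    rw [smul_assoc, sub_smul, smul_assoc, smul_assoc]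
  obtain ⟨n, k₁, k₂, hdec⟩ := c3onf_decomp h2 ψ hψskew
  have hsum : (fun s : K => ψ s) = ∑ i : Fin n, (fun s : K => (2 : F)⁻¹ •
      (Algebra.trace F K (k₁ i * s) • k₂ i - Algebra.trace F K (k₂ i * s) • k₁ i)) := by
    funext s
    rw [Finset.sum_apply]
    exact hdec s
  have hP : ∃ g ∈ H, ∀ x : V, g x = x + (fun s : K => ψ s) (B x v) • v := by
    rw [hsum]
    exact Finset.sum_induction _ (fun ψ' : K → K => ∃ g ∈ H, ∀ x : V, g x = x + ψ' (B x v) • v)
      Padd P0 (fun i _ => Pelem (k₁ i) (k₂ i) (2 : F)⁻¹)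
  obtain ⟨g, hgH, hg⟩ := hP
  have e : c₀ = g := by
    apply LinearEquiv.ext
    intro x
    rw [hg, step1 x, hθ]
  rw [e]
  exact hgH

end Cfsg.Agent.Lib.Helper10.C3O
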