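import Mathlib
import Cfsg.Agent.Lib.Helper22.C3L.Defs
import Cfsg.Agent.Lib.Helper10.C3O.Defs
import Cfsg.Agent.Lib.helper4.C3ODALLbase

/-!
# Project C3O, piece STRICT (core): a long root element of `f = tf F B` is not `K`-semilinear.
The core takes the existence of a non-zero `K`-singular vector (piece ISO) as a hypothesis.
-/

set_option autoImplicit false
set_option linter.unusedVariables false
set_option linter.unusedSectionVars false

namespace Cfsg.Agent.Lib.Helper10.C3O

open Module Cfsg.Agent.Lib.Helper22.C3L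

variable {F K V : Type*} [Field F] [Field K] [Algebra F K] [AddCommGroup V] [Module F V] [Module K V]
  [IsScalarTower F K V]

/-- a non-zero vector orthogonal to a hyperbolic pair (`dim_K V ≥ 3`) -/
theorem c3ostrict_perp_ex [FiniteDimensional K V] (B : V →ₗ[K] V →ₗ[K] K) (hBs : ∀ x y, B x y = B y x)
    (hd : 3 ≤ finrank K V) {u u' : V} (hu0 : B u u = 0) (hu'0 : B u' u' = 0) (huu' : B u u' = 1) :
    ∃ w : V, w ≠ 0 ∧ B w u = 0 ∧ B w u' = 0 := by
  obtain ⟨x₀, hx₀⟩ : ∃ x : V, x ∉ Submodule.span K (Set.range ![u, u']) := by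
    by_contra hcon
    push Not at hcon
    have htop : (⊤ : Submodule K V) ≤ Submodule.span K (Set.range ![u, u']) := fun x _ => hcon x
    have h1 := Submodule.finrank_mono htop
    rw [finrank_top] at h1
    have h2' : finrank K (Submodule.span K (Set.range ![u, u'])) ≤ Fintype.card (Fin 2) :=
      finrank_range_le_card (R := K) ![u, u']
    rw [Fintype.card_fin] at h2'
    omega
  obtain ⟨h1, h2'⟩ := c3odall_proj B hBs hu0 hu'0 huu' x₀
  refine ⟨_, ?_, h1, h2'⟩
  intro h
  apply hx₀
  have e : x₀ = B x₀ u' • u + B x₀ u • u' := by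
    have h' := sub_eq_zero.1 h
    rw [sub_eq_iff_eq_add] at h'
    exact h'.trans (add_comm _ _)
  rw [e]
  exact Submodule.add_mem _ (Submodule.smul_mem _ _ (Submodule.subset_span ⟨0, rfl⟩))
    (Submodule.smul_mem _ _ (Submodule.subset_span ⟨1, rfl⟩))

/-- a non-zero element of trace zero (`[K:F] ≥ 2`) -/
theorem c3ostrict_tr0 [FiniteDimensional F K] (hr : 2 ≤ finrank F K) :
    ∃ κ : K, κ ≠ 0 ∧ Algebra.trace F K κ = 0 := by
  by_contra hcon
  push Not at hcon
  have hinj : Function.Injective (Algebra.trace F K) := by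
    rw [injective_iff_map_eq_zero]
    intro κ hκ
    by_contra h
    exact hcon κ h hκ
  have h1 := LinearMap.finrank_le_finrank_of_injective hinj
  rw [finrank_self] at h1
  omega

theorem c3ostrict_core [Finite K] [FiniteDimensional K V] (h2 : (2 : F) ≠ 0) (hr : 2 ≤ finrank F K)
    (B : V →ₗ[K] V →ₗ[K] K) (hBs : ∀ x y, B x y = B y x) (hBn : ∀ x, x ≠ 0 → ∃ y, B x y ≠ 0)
    (hd : 3 ≤ finrank K V) (hiso : ∃ u : V, u ≠ 0 ∧ B u u = 0) :
    ∃ u v : V, tf F B u u = 0 ∧ tf F B v v = 0 ∧ tf F B u v = 0 ∧ ∀ g : V ≃ₗ[F] V,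
      (∀ x : V, g x = x + (1 : F) • (tf F B u x • v - tf F B v x • u)) →
      ¬ ∃ σ : K → K, ∀ (a : K) (x : V), g (a • x) = σ a • g x := by
  obtain ⟨u, hu, hu0⟩ := hiso
  obtain ⟨u', hu'0, huu'⟩ := c3odall_hyp h2 B hBs hBn hu hu0
  have hu'ne : u' ≠ 0 := by
    rintro rfl
    rw [map_zero] at huu'
    exact zero_ne_one huu'
  obtain ⟨w, hw0, hwu, hwu'⟩ := c3ostrict_perp_ex B hBs hd hu0 hu'0 huu'
  obtain ⟨κ, hκ0, hκ⟩ := c3ostrict_tr0 (F := F) (K := K) hr
  have huw : B u w = 0 := by rw [hBs, hwu]
  have hu'w : B u' w = 0 := by rw [hBs, hwu']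
  refine ⟨u, κ • u', ?_, ?_, ?_, ?_⟩
  · rw [tf_def, hu0, map_zero]
  · exact c3odall_tf_sing B (by
      rw [map_smul, map_smul, LinearMap.smul_apply, hu'0, smul_zero, smul_zero])
  · rw [c3odall_tf_ksmul_right, huu', mul_one, hκ]
  · rintro g hg ⟨σ, hσ⟩
    have hgw : ∀ a : K, g (a • w) = a • w := by
      intro a
      rw [hg]
      simp only [tf_def, map_smul, LinearMap.smul_apply, smul_eq_mul, huw, hu'w, mul_zero, map_zero,
        zero_smul, sub_zero, smul_zero, add_zero]
    have hσid : ∀ a : K, σ a = a := by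
      intro a
      have h1 := hσ a w
      have h1w : g w = w := by
        have := hgw 1
        rwa [one_smul] at this
      rw [hgw a, h1w] at h1
      have h3 : (a - σ a) • w = 0 := by rw [sub_smul, ← h1, sub_self]
      rcases smul_eq_zero.1 h3 with h | h
      · exact (sub_eq_zero.1 h).symm
      · exact absurd h hw0
    have hgu' : ∀ a : K, g (a • u') = a • u' + Algebra.trace F K a • (κ • u') := by
      intro a
      rw [hg]
      simp only [tf_def, map_smul, LinearMap.smul_apply, smul_eq_mul, huu', hu'0, mul_zero, mul_one,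
        map_zero, zero_smul, sub_zero, one_smul]
    have h1 := hgu' 1
    rw [one_smul] at h1
    have key : ∀ a : K, algebraMap F K (Algebra.trace F K a)
        = a * algebraMap F K (Algebra.trace F K (1 : K)) := by
      intro a
      have h3 := hσ a u'
      rw [hσid, hgu' a, h1, smul_add] at h3
      have h4 := add_left_cancel h3
      rw [← algebraMap_smul K (Algebra.trace F K a), ← algebraMap_smul K (Algebra.trace F K (1 : K))]
        at h4
      simp only [smul_smul] at h4
      have h5 := smul_left_injective K hu'ne h4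
      have h6 : algebraMap F K (Algebra.trace F K a) * κ
          = (a * algebraMap F K (Algebra.trace F K (1 : K))) * κ := by
        linear_combination h5
      exact mul_right_cancel₀ hκ0 h6
    have hz : algebraMap F K (Algebra.trace F K (1 : K)) = 0 := by
      have h7 := key κ
      rw [hκ, map_zero] at h7
      rcases mul_eq_zero.1 h7.symm with h | h
      · exact absurd h hκ0
      · exact h
    obtain ⟨a₁, ha₁⟩ := c3odall_tr_surj (F := F) (K := K) 1
    have h8 := key a₁
    rw [ha₁, map_one, hz, mul_zero] at h8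
    exact one_ne_zero h8

end Cfsg.Agent.Lib.Helper10.C3O
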