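import Mathlib
import Cfsg.Agent.Lib.Helper22.C3L.Defs
import Cfsg.Agent.Lib.Helper10.C3O.Defs
import Cfsg.Agent.Lib.helper4.C3ODALLbase
import Cfsg.Agent.Lib.helper4.C3OSTRICTcore
import Cfsg.Agent.Lib.helper4.C3ONF
import Cfsg.Agent.Lib.helper2.C3OFSG
import Cfsg.Agent.Lib.Lead.C3OCOMM
import Cfsg.Agent.Lib.Lead.C3OLOK

/-!
# Project C3O, piece RL: if `LO B H v` is stable under `End_F(K)` then `H` contains all `F`-Siegel maps `ρ_{z,y}`,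
`z ∈ K v`, `y ∈ v^⊥` (`LineFull`).
-/

set_option autoImplicit false
set_option linter.unusedVariables false
set_option linter.unusedSectionVars false

namespace Cfsg.Agent.Lib.Helper10.C3O

open Module Cfsg.Agent.Lib.Helper22.C3L

variable {F K V : Type*} [Field F] [Field K] [Algebra F K] [AddCommGroup V] [Module F V] [Module K V]
  [IsScalarTower F K V]

/-- core of `rl_mem`: the statements of `lo_siegel` and `comm_center` (at `v`) as hypotheses -/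
theorem c3orl_core [Finite K] [FiniteDimensional K V] (h2 : (2 : F) ≠ 0) (B : V →ₗ[K] V →ₗ[K] K)
    (hBs : ∀ x y, B x y = B y x) (hBn : ∀ x, x ≠ 0 → ∃ y, B x y ≠ 0) (hd : 3 ≤ finrank K V)
    (H : Subgroup (V ≃ₗ[F] V)) (hH : H ≤ Of F B) {v : V} (hv : v ≠ 0) (hv0 : B v v = 0)
    (hsieg : ∀ y : V, B v y = 0 → ∃ θ ∈ LO B H v, ∀ x : V, θ x = - B x y)
    (hcomm : ∀ {g₁ g₂ : V ≃ₗ[F] V}, g₁ ∈ Of F B → g₂ ∈ Of F B → ∀ {z₁ z₂ y₁ y₂ : V},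
      z₁ ∈ Kl F K v → z₂ ∈ Kl F K v → B y₁ v = 0 → B y₂ v = 0 →
      (∀ x ∈ Kl F K v, g₁ x = x) → (∀ x : V, B x v = 0 → g₁ x = x - tf F B x y₁ • z₁) →
      (∀ x ∈ Kl F K v, g₂ x = x) → (∀ x : V, B x v = 0 → g₂ x = x - tf F B x y₂ • z₂) →
      ∀ x : V, (g₁ * g₂ * g₁⁻¹ * g₂⁻¹) x
        = x + tf F B y₁ y₂ • (tf F B z₁ x • z₂ - tf F B z₂ x • z₁))
    (hO : ∀ (γ : K →ₗ[F] K) (θ : V →ₗ[F] K), θ ∈ LO B H v → γ ∘ₗ θ ∈ LO B H v) : LineFull B H v := by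
  -- Step A: elements of `H ∩ R_ℓ` with the linear part of `ρ_{z,y}`
  have stepA : ∀ z ∈ Kl F K v, ∀ y : V, B y v = 0 → ∃ g ∈ H, (∀ x ∈ Kl F K v, g x = x) ∧
      ∀ x : V, B x v = 0 → g x = x - tf F B x y • z := by
    intro z hz y hy
    obtain ⟨k₀, rfl⟩ := (mem_Kl F K).1 hz
    obtain ⟨θ, hθ, hθx⟩ := hsieg y (by rw [hBs]; exact hy)
    obtain ⟨g, hgH, hgfix, hgx⟩ := hO ((Algebra.trace F K).smulRight k₀) θ hθ
    refine ⟨g, hgH, ?_, ?_⟩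
    · intro x hx
      obtain ⟨a, rfl⟩ := (mem_Kl F K).1 hx
      exact hgfix a
    · intro x hx
      rw [hgx x hx, LinearMap.comp_apply, LinearMap.smulRight_apply, hθx, map_neg, neg_smul, neg_smul,
        smul_assoc, ← sub_eq_add_neg, tf_def]
  -- Step B: the long root elements inside `K v`
  obtain ⟨v', hv'0, hvv'⟩ := c3odall_hyp h2 B hBs hBn hv hv0
  have hv'v : B v' v = 1 := by rw [hBs, hvv']
  obtain ⟨w, hw0, hwv, hwv'⟩ := c3ostrict_perp_ex B hBs hd hv0 hv'0 hvv'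
  obtain ⟨y, hy⟩ := hBn w hw0
  have hy₂v : B (y - B y v • v') v = 0 := by
    rw [map_sub, LinearMap.sub_apply, map_smul, LinearMap.smul_apply, hv'v, smul_eq_mul, mul_one,
      sub_self]
  have hwy₂ : B w (y - B y v • v') ≠ 0 := by
    rw [map_sub, map_smul, hwv', smul_zero, sub_zero]
    exact hy
  generalize y - B y v • v' = y₂ at hy₂v hwy₂
  have hlr : ∀ z₁ ∈ Kl F K v, ∀ z₂ ∈ Kl F K v, ∀ c : F, ∃ g ∈ H, ∀ x : V,
      g x = x + c • (tf F B z₁ x • z₂ - tf F B z₂ x • z₁) := by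
    intro z₁ hz₁ z₂ hz₂ c
    obtain ⟨k', hk'⟩ := c3odall_tr_surj (F := F) (K := K) c
    have hy₂' : B ((k' / B w y₂) • y₂) v = 0 := by
      rw [map_smul, LinearMap.smul_apply, hy₂v, smul_zero]
    have htf : tf F B w ((k' / B w y₂) • y₂) = c := by
      rw [c3odall_tf_ksmul_right, div_mul_cancel₀ _ hwy₂, hk']
    obtain ⟨g₁, hg₁H, hg₁fix, hg₁x⟩ := stepA z₁ hz₁ w hwv
    obtain ⟨g₂, hg₂H, hg₂fix, hg₂x⟩ := stepA z₂ hz₂ _ hy₂'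
    refine ⟨g₁ * g₂ * g₁⁻¹ * g₂⁻¹,
      H.mul_mem (H.mul_mem (H.mul_mem hg₁H hg₂H) (H.inv_mem hg₁H)) (H.inv_mem hg₂H), fun x => ?_⟩
    rw [hcomm (hH hg₁H) (hH hg₂H) hz₁ hz₂ hwv hy₂' hg₁fix hg₁x hg₂fix hg₂x x, htf]
  -- Step C
  intro z hz y hy
  obtain ⟨g, hgH, hgfix, hgx⟩ := stepA z hz y hy
  obtain ⟨k₀, hk₀⟩ := (mem_Kl F K).1 hz
  have hzz : tf F B z z = 0 := by
    rw [← hk₀]
    exact c3odall_tf_sing B (by
      rw [map_smul, map_smul, LinearMap.smul_apply, hv0, smul_zero, smul_zero])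
  have hxz : ∀ x, B x v = 0 → tf F B x z = 0 := by
    intro x hx
    rw [← hk₀, c3odall_tf_ksmul_right, hx, mul_zero, map_zero]
  have hzy : tf F B z y = 0 := by
    rw [c3odall_tf_symm B hBs]
    exact hxz y hy
  obtain ⟨ρ, hρO, hρ⟩ := fsg_ex h2 B hBs hzz hzy
  have hρg : ∀ x, B x v = 0 → ρ x = g x := by
    intro x hx
    rw [hρ, hgx x hx]
    unfold fsg
    rw [hxz x hx, zero_smul, add_zero, mul_zero, zero_smul, sub_zero]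
  have hc₀ : ρ⁻¹ * g ∈ H := by
    apply center_nf h2 B hBs hBn H hv0 hlr ((Of F B).mul_mem ((Of F B).inv_mem hρO) (hH hgH))
    intro x hx
    rw [LinearEquiv.mul_apply, ← hρg x hx]
    exact ρ.symm_apply_apply x
  refine ⟨ρ, ?_, hρ⟩
  have e : ρ = g * (ρ⁻¹ * g)⁻¹ := by group
  rw [e]
  exact H.mul_mem hgH (H.inv_mem hc₀)

theorem rl_mem [Finite K] [FiniteDimensional K V] (h2 : (2 : F) ≠ 0) (B : V →ₗ[K] V →ₗ[K] K)
    (hBs : ∀ x y, B x y = B y x) (hBn : ∀ x, x ≠ 0 → ∃ y, B x y ≠ 0) (hd : 3 ≤ finrank K V)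
    (H : Subgroup (V ≃ₗ[F] V)) (hH : H ≤ Of F B) (hC : OmB F B ≤ H) {v : V} (hv : v ≠ 0) (hv0 : B v v = 0)
    (hO : ∀ (γ : K →ₗ[F] K) (θ : V →ₗ[F] K), θ ∈ LO B H v → γ ∘ₗ θ ∈ LO B H v) : LineFull B H v :=
  c3orl_core h2 B hBs hBn hd H hH hv hv0
    (fun y hvy => lo_siegel h2 B hBs hBn H hC hv0 hvy)
    (fun hg₁ hg₂ _ _ _ _ hz₁ hz₂ hy₁ hy₂ h1 h1' h2' h2'' =>
      comm_center h2 B hBs hBn hv0 hg₁ hg₂ hz₁ hz₂ hy₁ hy₂ h1 h1' h2' h2'')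
    hO

end Cfsg.Agent.Lib.Helper10.C3O
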