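import Mathlib
import Cfsg.Agent.Lib.Helper22.C3L.Defs
import Cfsg.Agent.Lib.Helper10.C3O.Defs
import Cfsg.Agent.Lib.helper4.C3OSTRICTcore
import Cfsg.Agent.Lib.helper3.C3OISO

/-!
# Project C3O, piece STRICT: `o_strict` verbatim (the core is in `helper4/C3OSTRICTcore`).
-/

set_option autoImplicit false
set_option linter.unusedVariables false
set_option linter.unusedSectionVars false

namespace Cfsg.Agent.Lib.Helper10.C3O

open Module Cfsg.Agent.Lib.Helper22.C3L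

variable {F K V : Type*} [Field F] [Field K] [Algebra F K] [AddCommGroup V] [Module F V] [Module K V]
  [IsScalarTower F K V]

theorem o_strict [Finite K] [FiniteDimensional K V] (h2 : (2 : F) ≠ 0) (hr : 2 ≤ finrank F K)
    (B : V →ₗ[K] V →ₗ[K] K) (hBs : ∀ x y, B x y = B y x) (hBn : ∀ x, x ≠ 0 → ∃ y, B x y ≠ 0)
    (hd : 4 ≤ finrank K V) :
    ∃ u v : V, tf F B u u = 0 ∧ tf F B v v = 0 ∧ tf F B u v = 0 ∧ ∀ g : V ≃ₗ[F] V,
      (∀ x : V, g x = x + (1 : F) • (tf F B u x • v - tf F B v x • u)) →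
      ¬ ∃ σ : K → K, ∀ (a : K) (x : V), g (a • x) = σ a • g x := by
  have hiso : ∃ u : V, u ≠ 0 ∧ B u u = 0 := by
    obtain ⟨u, _, hu, hu0⟩ := iso_ex B hBs ⊤ (by rw [finrank_top]; omega)
    exact ⟨u, hu, hu0⟩
  exact c3ostrict_core h2 hr B hBs hBn (by omega) hiso

end Cfsg.Agent.Lib.Helper10.C3O
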