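import Mathlib
import Cfsg.Agent.Lib.Helper20.PolySeq

/-!
# Project MCP (S5238), pieces A1-A3: leading symbols of polynomial sequences and a refined
Hall-Petrescu formula
-/

set_option autoImplicit false

namespace Cfsg.Agent.Lib.helper4.MCP

open Cfsg.Agent.Lib.Helper20.PolySeq
open scoped commutatorElement

section poly
variable {K : Type*} [Group K] {F : ℕ → Subgroup K}

theorem h4_filt_normal (hF : Filt F) (h0 : F 0 = ⊤) (k : ℕ) : (F k).Normal := by
  constructor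
  intro n hn g
  have h := hF.comm 0 k
  rw [h0, zero_add] at h
  have h1 : ⁅g, n⁆ ∈ F k := h (Subgroup.commutator_mem_commutator (Subgroup.mem_top g) hn)
  have h2 : g * n * g⁻¹ = ⁅g, n⁆ * n := by
    rw [commutatorElement_def]; group
  rw [h2]
  exact (F k).mul_mem h1 hn

theorem h4_poly_iter {d : ℕ} {r : ℕ → K} (hr : Poly F d r) :
    ∀ j : ℕ, Poly F (d + j) (D^[j] r) := by
  intro j
  induction j generalizing d r with
  | zero => simpa using hr
  | succ j ih =>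
    rw [Function.iterate_succ_apply]
    have := ih (Poly.D hr)
    have e : d + 1 + j = d + (j + 1) := by omega
    rw [e] at this
    exact this

theorem h4_poly_mono (hF : Filt F) {d d' : ℕ} {r : ℕ → K} (h : d' ≤ d) (hr : Poly F d r) :
    Poly F d' r := fun m => IsPoly.mono_d hF h (hr m)

theorem h4_poly_shift {d : ℕ} {r : ℕ → K} (hr : Poly F d r) : Poly F d (Sh r) :=
  fun m => (hr m).shift

theorem h4_poly_comm (hF : Filt F) {d e : ℕ} {g h : ℕ → K} (hg : Poly F d g) (hh : Poly F e h) :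
    Poly F (d + e) (fun n => ⁅g n, h n⁆) := fun m => (closed hF m).1 d e g h (hg m) (hh m)

theorem h4_iter_D_one : ∀ j : ℕ, D^[j] (fun _ : ℕ => (1 : K)) = fun _ => 1 := by
  intro j
  induction j with
  | zero => rfl
  | succ j ih => rw [Function.iterate_succ_apply, D_one, ih]

/-- congruence modulo a normal subgroup: products -/
theorem h4_cg_mul (H : Subgroup K) [H.Normal] {a b c e : K} (h1 : a * b⁻¹ ∈ H)
    (h2 : c * e⁻¹ ∈ H) : (a * c) * (b * e)⁻¹ ∈ H := by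
  have h3 : a * (c * e⁻¹) * a⁻¹ ∈ H := Subgroup.Normal.conj_mem inferInstance _ h2 a
  have : (a * c) * (b * e)⁻¹ = (a * (c * e⁻¹) * a⁻¹) * (a * b⁻¹) := by group
  rw [this]
  exact H.mul_mem h3 h1

theorem h4_cg_trans (H : Subgroup K) {a b c : K} (h1 : a * b⁻¹ ∈ H) (h2 : b * c⁻¹ ∈ H) :
    a * c⁻¹ ∈ H := by
  have : a * c⁻¹ = (a * b⁻¹) * (b * c⁻¹) := by group
  rw [this]
  exact H.mul_mem h1 h2

theorem h4_cg_refl (H : Subgroup K) (a : K) : a * a⁻¹ ∈ H := by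
  rw [mul_inv_cancel]; exact H.one_mem

/-- MCP-A1 -/
theorem sym_mul (hF : Filt F) (h0 : F 0 = ⊤) :
    ∀ (j d : ℕ), 1 ≤ d → ∀ (r s : ℕ → K), Poly F d r → Poly F d s →
      (D^[j] (fun n => r n * s n)) 0 * ((D^[j] r) 0 * (D^[j] s) 0)⁻¹ ∈ F (d + j + 1) := by
  intro j
  induction j with
  | zero =>
    intro d _ r s _ _
    simp only [Function.iterate_zero, id_eq]
    rw [mul_inv_cancel]
    exact (F _).one_mem
  | succ j ih =>
    intro d hd r s hr hs
    have : (F (d + (j + 1) + 1)).Normal := h4_filt_normal hF h0 _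
    rw [Function.iterate_succ_apply, Function.iterate_succ_apply, Function.iterate_succ_apply, D_mul]
    -- the three factors
    have hκ2 : Poly F (d + 2) (fun n => ⁅Sh r n, D s n⁆) :=
      h4_poly_mono hF (by omega) (h4_poly_comm hF (h4_poly_shift hr) (Poly.D hs))
    have hκ : Poly F (d + 1) (fun n => ⁅Sh r n, D s n⁆) := h4_poly_mono hF (by omega) hκ2
    have hDs : Poly F (d + 1) (D s) := Poly.D hs
    have hDr : Poly F (d + 1) (D r) := Poly.D hr
    have hA : Poly F (d + 1) (fun n => ⁅Sh r n, D s n⁆ * D s n) := Poly.mul hF hκ hDs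
    have e1 : d + 1 + j + 1 = d + (j + 1) + 1 := by omega
    have i1 := ih (d + 1) (by omega) (fun n => ⁅Sh r n, D s n⁆ * D s n) (D r) hA hDr
    have i2 := ih (d + 1) (by omega) (fun n => ⁅Sh r n, D s n⁆) (D s) hκ hDs
    rw [e1] at i1 i2
    -- the commutator part is deeper
    have hκ0 : (D^[j] (fun n => ⁅Sh r n, D s n⁆)) 0 ∈ F (d + (j + 1) + 1) := by
      have := (h4_poly_iter hκ2 j).mem 0
      have e2 : d + 2 + j = d + (j + 1) + 1 := by omega
      rw [e2] at this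
      exact this
    set a := (D^[j] (D r)) 0 with ha
    set b := (D^[j] (D s)) 0 with hb
    set c := (D^[j] (fun n => ⁅Sh r n, D s n⁆)) 0 with hc
    set A0 := (D^[j] (fun n => ⁅Sh r n, D s n⁆ * D s n)) 0 with hA0
    have ha' : a ∈ F (d + (j + 1)) := by
      have := (h4_poly_iter hDr j).mem 0
      have e3 : d + 1 + j = d + (j + 1) := by omega
      rw [e3] at this
      exact this
    have hb' : b ∈ F (d + (j + 1)) := by
      have := (h4_poly_iter hDs j).mem 0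
      have e3 : d + 1 + j = d + (j + 1) := by omega
      rw [e3] at this
      exact this
    -- A0 ≡ c * b ≡ b
    have s1 : A0 * b⁻¹ ∈ F (d + (j + 1) + 1) := by
      have h1 : (c * b) * b⁻¹ ∈ F (d + (j + 1) + 1) := by
        rw [mul_inv_cancel_right]; exact hκ0
      exact h4_cg_trans _ i2 h1
    -- total ≡ A0 * a ≡ b * a ≡ a * b
    have s2 : (A0 * a) * (b * a)⁻¹ ∈ F (d + (j + 1) + 1) :=
      h4_cg_mul _ s1 (h4_cg_refl _ a)
    have s3 : (b * a) * (a * b)⁻¹ ∈ F (d + (j + 1) + 1) := by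
      have h1 : ⁅b, a⁆ ∈ F (d + (j + 1) + (d + (j + 1))) :=
        hF.comm _ _ (Subgroup.commutator_mem_commutator hb' ha')
      have h2 : (b * a) * (a * b)⁻¹ = ⁅b, a⁆ := by
        rw [commutatorElement_def]; group
      rw [h2]
      exact hF.le (by omega) h1
    exact h4_cg_trans _ (h4_cg_trans _ i1 s2) s3

/-- MCP-A1 (second half) -/
theorem sym_inv (hF : Filt F) (h0 : F 0 = ⊤) (j d : ℕ) (hd : 1 ≤ d) (r : ℕ → K)
    (hr : Poly F d r) :
    (D^[j] (fun n => (r n)⁻¹)) 0 * (D^[j] r) 0 ∈ F (d + j + 1) := by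
  have : (F (d + j + 1)).Normal := h4_filt_normal hF h0 _
  have h := sym_mul hF h0 j d hd r (fun n => (r n)⁻¹) hr (Poly.inv hF hr)
  have h1 : (fun n => r n * (r n)⁻¹) = fun _ => (1 : K) := by
    funext n; rw [mul_inv_cancel]
  rw [h1, h4_iter_D_one] at h
  simp only [one_mul] at h
  have h2 := (F (d + j + 1)).inv_mem h
  rw [inv_inv] at h2
  -- conjugate
  have h3 := Subgroup.Normal.conj_mem (inferInstance : (F (d + j + 1)).Normal) _ h2 ((D^[j] r) 0)⁻¹
  have : ((D^[j] r) 0)⁻¹ * ((D^[j] r) 0 * (D^[j] (fun n => (r n)⁻¹)) 0) * (((D^[j] r) 0)⁻¹)⁻¹ =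
      (D^[j] (fun n => (r n)⁻¹)) 0 * (D^[j] r) 0 := by group
  rw [this] at h3
  exact h3

/-- if `r` vanishes below `j` then `D^[j] r 0 = r j` -/
theorem h4_vanish_D : ∀ (j : ℕ) (r : ℕ → K), (∀ i < j, r i = 1) → (D^[j] r) 0 = r j := by
  intro j
  induction j with
  | zero => intro r _; rfl
  | succ j ih =>
    intro r hv
    rw [Function.iterate_succ_apply, ih (D r)]
    · simp only [D]
      rw [hv j (by omega), inv_one, mul_one]
    · intro i hi
      simp only [D]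
      rw [hv (i + 1) (by omega), hv i (by omega), inv_one, mul_one]

theorem h4_iter_D_ePow (t : K) : ∀ (j q : ℕ), j < q → D^[q] (ePow t j) = fun _ => 1 := by
  intro j
  induction j with
  | zero =>
    intro q hq
    obtain ⟨q', rfl⟩ : ∃ q', q = q' + 1 := ⟨q - 1, by omega⟩
    rw [Function.iterate_succ_apply, D_ePow_zero, h4_iter_D_one]
  | succ j ih =>
    intro q hq
    obtain ⟨q', rfl⟩ : ∃ q', q = q' + 1 := ⟨q - 1, by omega⟩
    rw [Function.iterate_succ_apply, D_ePow_succ]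
    exact ih q' (by omega)

/-- one peeling step, modulo `N` -/
theorem h4_peel_step (hF : Filt F) (h0 : F 0 = ⊤) (d : ℕ) (hd : 1 ≤ d) (p : ℕ)
    (N : Subgroup K) [N.Normal] (hN1 : F (d + p + 1) ≤ N) (j : ℕ) (hjp : j < p) (r : ℕ → K)
    (hr : Poly F d r) (t : K) (ht : t ∈ F (d + j)) :
    Poly F d (fun n => (ePow t j n)⁻¹ * r n) ∧
      (D^[p] (fun n => (ePow t j n)⁻¹ * r n)) 0 * ((D^[p] r) 0)⁻¹ ∈ N := by
  have hE : Poly F d (ePow t j) := poly_ePow hF d j ht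
  have hEi : Poly F d (fun n => (ePow t j n)⁻¹) := Poly.inv hF hE
  refine ⟨Poly.mul hF hEi hr, ?_⟩
  have h1 := sym_mul hF h0 p d hd (fun n => (ePow t j n)⁻¹) r hEi hr
  have h2 := sym_inv hF h0 p d hd (ePow t j) hE
  rw [h4_iter_D_ePow t j p hjp] at h2
  simp only [mul_one] at h2
  have h1' := hN1 h1
  have h2' := hN1 h2
  set u := (D^[p] (fun n => (ePow t j n)⁻¹)) 0 with hu
  set v := (D^[p] r) 0 with hv
  -- (u * v) * v⁻¹ = u ∈ N
  have h3 : (u * v) * v⁻¹ ∈ N := by rw [mul_inv_cancel_right]; exact h2'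
  exact h4_cg_trans N h1' h3

/-- MCP-A2, the inductive core: for `r` vanishing below `j ≥ 2`, `r p ≡ D^[p] r 0` modulo `N`. -/
theorem h4_taylor_core (hF : Filt F) (h0 : F 0 = ⊤) (d : ℕ) (hd : 1 ≤ d) (p : ℕ) (hp : p.Prime)
    (N : Subgroup K) [N.Normal] (hN1 : F (d + p + 1) ≤ N) (hN2 : ∀ z ∈ F (d + 2), z ^ p ∈ N) :
    ∀ (k j : ℕ), j + k = p → 2 ≤ j → ∀ r : ℕ → K, Poly F d r → (∀ i < j, r i = 1) →
      ((D^[p] r) 0)⁻¹ * r p ∈ N := by
  intro k
  induction k with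
  | zero =>
    intro j hjk _ r _ hv
    have hj : j = p := by omega
    subst hj
    rw [h4_vanish_D j r hv, inv_mul_cancel]
    exact N.one_mem
  | succ k ih =>
    intro j hjk hj2 r hr hv
    have hjp : j < p := by omega
    have ht : r j ∈ F (d + j) := vanish j d r hr hv j
    obtain ⟨hr', hsym⟩ := h4_peel_step hF h0 d hd p N hN1 j hjp r hr (r j) ht
    have hv' : ∀ i < j + 1, (fun n => (ePow (r j) j n)⁻¹ * r n) i = 1 := by
      intro i hi
      simp only [ePow]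
      rcases Nat.lt_succ_iff_lt_or_eq.1 hi with h | h
      · rw [Nat.choose_eq_zero_of_lt h, pow_zero, inv_one, one_mul, hv i h]
      · rw [h, Nat.choose_self, pow_one, inv_mul_cancel]
    have hrec := ih (j + 1) (by omega) (by omega) _ hr' hv'
    -- the peeled power lies in `N`
    obtain ⟨m, hm⟩ := hp.dvd_choose_self (by omega : j ≠ 0) hjp
    have hpow : (r j) ^ p.choose j ∈ N := by
      rw [hm, mul_comm, pow_mul]
      exact hN2 _ (hF.le (by omega) ((F (d + j)).pow_mem ht m))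
    set u := (D^[p] (fun n => (ePow (r j) j n)⁻¹ * r n)) 0 with hu
    set v := (D^[p] r) 0 with hv0
    -- hrec : u⁻¹ * ((r j ^ choose)⁻¹ * r p) ∈ N
    simp only [ePow] at hrec
    have e : v⁻¹ * r p =
        (v⁻¹ * u) * (u⁻¹ * (((r j) ^ p.choose j)⁻¹ * r p)) *
          ((r p)⁻¹ * (r j) ^ p.choose j * r p) := by group
    rw [e]
    have hvu : v⁻¹ * u ∈ N := by
      have h1 := Subgroup.Normal.conj_mem (inferInstance : N.Normal) _ hsym v⁻¹
      have : v⁻¹ * (u * v⁻¹) * v⁻¹⁻¹ = v⁻¹ * u := by group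
      rw [this] at h1
      exact h1
    have hconj : (r p)⁻¹ * (r j) ^ p.choose j * r p ∈ N := by
      have h1 := Subgroup.Normal.conj_mem (inferInstance : N.Normal) _ hpow (r p)⁻¹
      rw [inv_inv] at h1
      exact h1
    exact N.mul_mem (N.mul_mem hvu hrec) hconj

/-- MCP-A2 -/
theorem taylor_p (hF : Filt F) (h0 : F 0 = ⊤) (d : ℕ) (hd : 1 ≤ d) (r : ℕ → K)
    (hr : Poly F d r) (hr0 : r 0 = 1) (p : ℕ) (hp : p.Prime) (N : Subgroup K) [N.Normal]
    (hN1 : F (d + p + 1) ≤ N) (hN2 : ∀ z ∈ F (d + 2), z ^ p ∈ N) :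
    ((r 1) ^ p * (D^[p] r) 0)⁻¹ * r p ∈ N := by
  have hv : ∀ i < 1, r i = 1 := by
    intro i hi
    have : i = 0 := by omega
    rw [this, hr0]
  have ht : r 1 ∈ F (d + 1) := vanish 1 d r hr hv 1
  obtain ⟨hr', hsym⟩ := h4_peel_step hF h0 d hd p N hN1 1 hp.one_lt r hr (r 1) ht
  have hv' : ∀ i < 2, (fun n => (ePow (r 1) 1 n)⁻¹ * r n) i = 1 := by
    intro i hi
    simp only [ePow]
    interval_cases i
    · simp [hr0]
    · simp
  have hrec := h4_taylor_core hF h0 d hd p hp N hN1 hN2 (p - 2) 2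
    (by have := hp.two_le; omega) le_rfl _ hr' hv'
  set u := (D^[p] (fun n => (ePow (r 1) 1 n)⁻¹ * r n)) 0 with hu
  set v := (D^[p] r) 0 with hv0
  simp only [ePow, Nat.choose_one_right] at hrec
  have hvu : v⁻¹ * u ∈ N := by
    have h1 := Subgroup.Normal.conj_mem (inferInstance : N.Normal) _ hsym v⁻¹
    have : v⁻¹ * (u * v⁻¹) * v⁻¹⁻¹ = v⁻¹ * u := by group
    rw [this] at h1
    exact h1
  have e : ((r 1) ^ p * v)⁻¹ * r p = (v⁻¹ * u) * (u⁻¹ * (((r 1) ^ p)⁻¹ * r p)) := by group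
  rw [e]
  exact N.mul_mem hvu hrec

end poly

/-! ## A3: the refined Hall-Petrescu formula -/

section rhp
variable {G : Type*} [Group G]

/-- the filtration `(⊤, Y 1, Y 1, Y 2, Y 3, …)` -/
def h4F (Y : ℕ → Subgroup G) : ℕ → Subgroup G
  | 0 => ⊤
  | 1 => Y 1
  | (k + 2) => Y (k + 1)

/-- the sequence `N ↦ x⁻ᴺ z xᴺ` -/
def h4seq (x z : G) : ℕ → G := fun N => x⁻¹ ^ N * z * x ^ N

theorem h4_D_seq (x z : G) : D (h4seq x z) = h4seq x ⁅x⁻¹, z⁆ := by
  funext N
  simp only [D, h4seq, commutatorElement_def, pow_succ]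
  group

theorem h4_iter_D_seq (x : G) : ∀ (j : ℕ) (z : G),
    D^[j] (h4seq x z) = h4seq x ((fun w => ⁅x⁻¹, w⁆)^[j] z) := by
  intro j
  induction j with
  | zero => intro z; rfl
  | succ j ih =>
    intro z
    rw [Function.iterate_succ_apply, h4_D_seq, ih, Function.iterate_succ_apply]

theorem h4_anti_le (Y : ℕ → Subgroup G) (hanti : ∀ k, Y (k + 1) ≤ Y k) {a b : ℕ} (h : a ≤ b) :
    Y b ≤ Y a := by
  induction h with
  | refl => exact le_rfl
  | step _ ih => exact (hanti _).trans ih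

theorem h4F_filt (Y : ℕ → Subgroup G) (hnorm : ∀ k, (Y k).Normal)
    (hanti : ∀ k, Y (k + 1) ≤ Y k)
    (hYY : ∀ a b, 1 ≤ a → 1 ≤ b → ⁅Y a, Y b⁆ ≤ Y (a + b + 1)) : Filt (h4F Y) := by
  have hle := fun {a b : ℕ} (h : a ≤ b) => h4_anti_le Y hanti h
  constructor
  · intro i
    match i with
    | 0 => exact le_top
    | 1 => exact le_rfl
    | (k + 2) => exact hanti (k + 1)
  · intro i j
    match i, j with
    | 0, 0 => exact le_top
    | 0, 1 =>
      have := hnorm 1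
      exact Subgroup.commutator_le_right ⊤ (Y 1)
    | 0, (j + 2) =>
      have := hnorm (j + 1)
      show ⁅(⊤ : Subgroup G), Y (j + 1)⁆ ≤ h4F Y (0 + (j + 2))
      rw [Nat.zero_add]
      exact Subgroup.commutator_le_right ⊤ (Y (j + 1))
    | 1, 0 =>
      have := hnorm 1
      exact Subgroup.commutator_le_left (Y 1) ⊤
    | (i + 2), 0 =>
      have := hnorm (i + 1)
      exact Subgroup.commutator_le_left (Y (i + 1)) ⊤
    | 1, 1 =>
      show ⁅Y 1, Y 1⁆ ≤ Y 1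
      exact (hYY 1 1 le_rfl le_rfl).trans (hle (by omega))
    | 1, (j + 2) =>
      show ⁅Y 1, Y (j + 1)⁆ ≤ h4F Y (1 + (j + 2))
      have e : 1 + (j + 2) = (j + 1) + 2 := by omega
      rw [e]
      show ⁅Y 1, Y (j + 1)⁆ ≤ Y (j + 1 + 1)
      exact (hYY 1 (j + 1) le_rfl (by omega)).trans (hle (by omega))
    | (i + 2), 1 =>
      show ⁅Y (i + 1), Y 1⁆ ≤ h4F Y (i + 2 + 1)
      show ⁅Y (i + 1), Y 1⁆ ≤ Y (i + 1 + 1)
      exact (hYY (i + 1) 1 (by omega) le_rfl).trans (hle (by omega))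
    | (i + 2), (j + 2) =>
      show ⁅Y (i + 1), Y (j + 1)⁆ ≤ h4F Y (i + 2 + (j + 2))
      have e : i + 2 + (j + 2) = (i + j + 2) + 2 := by omega
      rw [e]
      show ⁅Y (i + 1), Y (j + 1)⁆ ≤ Y (i + j + 2 + 1)
      exact (hYY (i + 1) (j + 1) (by omega) (by omega)).trans (hle (by omega))

theorem h4_isPoly_seq (x : G) (Y : ℕ → Subgroup G) (hnorm : ∀ k, (Y k).Normal)
    (hτ : ∀ k, ∀ z ∈ Y k, ⁅x⁻¹, z⁆ ∈ Y (k + 1)) :
    ∀ (m a : ℕ) (z : G), z ∈ Y (a + 1) → IsPoly (h4F Y) m (a + 2) (h4seq x z) := by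
  have hval : ∀ (a : ℕ) (z : G), z ∈ Y (a + 1) → ∀ n, h4seq x z n ∈ h4F Y (a + 2) := by
    intro a z hz n
    show x⁻¹ ^ n * z * x ^ n ∈ Y (a + 1)
    have h1 := Subgroup.Normal.conj_mem (hnorm (a + 1)) z hz (x⁻¹ ^ n)
    have : x⁻¹ ^ n * z * (x⁻¹ ^ n)⁻¹ = x⁻¹ ^ n * z * x ^ n := by
      rw [inv_pow, inv_inv]
    rw [this] at h1
    exact h1
  intro m
  induction m with
  | zero => intro a z hz; exact hval a z hz
  | succ m ih =>
    intro a z hz
    refine ⟨hval a z hz, ?_⟩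
    rw [h4_D_seq]
    exact ih (a + 1) _ (hτ (a + 1) z hz)

end rhp

/-- MCP-A3: refined Hall-Petrescu.  `Y 1 ≥ Y 2 ≥ …` normal subgroups, `[Y k, x] ≤ Y (k+1)`,
`[Y a, Y b] ≤ Y (a+b+1)`; modulo `N ≥ Y (p+1), ℧(Y 2)`:
`x⁻ᵖ (x y)ᵖ ≡ yᵖ · [x⁻¹, [x⁻¹, …, y]]` (`p - 1` brackets). -/
theorem rhp {G : Type*} [Group G] (x : G) (Y : ℕ → Subgroup G) (hnorm : ∀ k, (Y k).Normal)
    (hanti : ∀ k, Y (k + 1) ≤ Y k)
    (hτ : ∀ k, ∀ z ∈ Y k, ⁅x⁻¹, z⁆ ∈ Y (k + 1))
    (hYY : ∀ a b, 1 ≤ a → 1 ≤ b → ⁅Y a, Y b⁆ ≤ Y (a + b + 1))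
    (p : ℕ) (hp : p.Prime) (N : Subgroup G) [N.Normal] (hN1 : Y (p + 1) ≤ N)
    (hN2 : ∀ z ∈ Y 2, z ^ p ∈ N) (y : G) (hy : y ∈ Y 1) :
    ∃ w ∈ N, x⁻¹ ^ p * (x * y) ^ p = y ^ p * ((fun z => ⁅x⁻¹, z⁆)^[p - 1] y) * w := by
  have hF : Filt (h4F Y) := h4F_filt Y hnorm hanti hYY
  have h0 : h4F Y 0 = ⊤ := rfl
  set g : ℕ → G := fun n => x⁻¹ ^ n * (x * y) ^ n with hg
  have hDg : D g = h4seq x y := by
    funext n
    simp only [D, hg, h4seq]
    rw [pow_succ' (x * y) n]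
    generalize (x * y) ^ n = c
    rw [pow_succ]
    group
  have hgval : ∀ n, g n ∈ h4F Y 1 := by
    intro n
    show g n ∈ Y 1
    induction n with
    | zero => simp only [hg, pow_zero, mul_one]; exact (Y 1).one_mem
    | succ n ihn =>
      have h1 : g (n + 1) = D g n * g n := by simp [D]
      rw [h1, hDg]
      refine (Y 1).mul_mem ?_ ihn
      have := (h4_isPoly_seq x Y hnorm hτ 0 0 y hy) n
      exact this
  have hgpoly : Poly (h4F Y) 1 g := by
    intro m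
    cases m with
    | zero => exact hgval
    | succ m =>
      refine ⟨hgval, ?_⟩
      rw [hDg]
      exact h4_isPoly_seq x Y hnorm hτ m 0 y hy
  have hg0 : g 0 = 1 := by simp [hg]
  have hg1 : g 1 = y := by simp [hg]
  have hDp : (D^[p] g) 0 = (fun z => ⁅x⁻¹, z⁆)^[p - 1] y := by
    obtain ⟨q, rfl⟩ : ∃ q, p = q + 1 := ⟨p - 1, by have := hp.pos; omega⟩
    rw [Function.iterate_succ_apply, hDg, h4_iter_D_seq]
    simp [h4seq]
  have key := taylor_p hF h0 1 le_rfl g hgpoly hg0 p hp N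
    (by
      show h4F Y (1 + p + 1) ≤ N
      have e : 1 + p + 1 = p + 2 := by omega
      rw [e]
      exact hN1)
    (by
      intro z hz
      exact hN2 z hz)
  rw [hg1, hDp] at key
  refine ⟨_, key, ?_⟩
  show x⁻¹ ^ p * (x * y) ^ p = _
  have hgp : g p = x⁻¹ ^ p * (x * y) ^ p := rfl
  rw [hgp]
  generalize x⁻¹ ^ p * (x * y) ^ p = c
  group

end Cfsg.Agent.Lib.helper4.MCP
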