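import Mathlib
import Cfsg.Agent.Lib.helper4.PrimeDegree

set_option autoImplicit false

namespace Cfsg.Agent.Lib.helper4

open Subgroup Cfsg.Agent.Lib.helper8
open scoped Pointwise

section

variable {G α : Type*} [Group G] [Finite G] [MulAction G α] (S : Set α)

/-- a normal subgroup of a group acting faithfully and "2-transitively" on `S` is transitive -/
theorem orbit_normal_eq (hinv : ∀ g : G, ∀ x ∈ S, g • x ∈ S)
    (hfaith : ∀ g : G, (∀ x ∈ S, g • x = x) → g = 1)
    (h2t : ∀ a ∈ S, ∀ b ∈ S, ∀ c ∈ S, a ≠ b → a ≠ c → ∃ g : G, g • a = a ∧ g • b = c)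
    (N : Subgroup G) [hN : N.Normal] (hbot : N ≠ ⊥) :
    ∃ a ∈ S, MulAction.orbit N a = S := by
  obtain ⟨x0, hx0⟩ := (Subgroup.ne_bot_iff_exists_ne_one).mp hbot
  obtain ⟨n, hn, hn1⟩ : ∃ n : G, n ∈ N ∧ n ≠ 1 := ⟨(x0 : G), x0.2, fun h => hx0 (Subtype.ext h)⟩
  have : ∃ a ∈ S, n • a ≠ a := by
    by_contra hcon
    push_neg at hcon
    exact hn1 (hfaith n hcon)
  obtain ⟨a, haS, hna⟩ := this
  refine ⟨a, haS, ?_⟩
  ext c
  constructor
  · rintro ⟨k, rfl⟩
    exact hinv (k : G) a haS
  · intro hc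
    by_cases hca : a = c
    · exact ⟨1, by change (1 : N) • a = c; rw [one_smul]; exact hca⟩
    · obtain ⟨g, hga, hgb⟩ := h2t a haS (n • a) (hinv n a haS) c hc (Ne.symm hna) hca
      refine ⟨⟨g * n * g⁻¹, hN.conj_mem n hn g⟩, ?_⟩
      change (g * n * g⁻¹) • a = c
      have hginv : g⁻¹ • a = a := by rw [inv_smul_eq_iff, hga]
      rw [mul_smul, mul_smul, hginv, hgb]

theorem dvd_card_of_orbit_eq (N : Subgroup G) (a : α) (p : ℕ)
    (h : (MulAction.orbit N a).ncard = p) : p ∣ Nat.card N := by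
  rw [← h, ← MulAction.index_stabilizer]
  exact Subgroup.index_dvd_card _

theorem centralizer_sylow_eq (p : ℕ) [hp : Fact p.Prime] (hS : S.ncard = p)
    (hinv : ∀ g : G, ∀ x ∈ S, g • x ∈ S)
    (hfaith : ∀ g : G, (∀ x ∈ S, g • x = x) → g = 1)
    (P : Sylow p G) (hcP : Nat.card P = p) :
    centralizer ((P : Subgroup G) : Set G) = P := by
  haveI : IsCyclic (P : Subgroup G) := isCyclic_of_prime_card hcP
  have hcomm : ∀ a ∈ (P : Subgroup G), ∀ b ∈ (P : Subgroup G), a * b = b * a := by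
    intro a ha b hb
    have := IsCyclic.commGroup.mul_comm (⟨a, ha⟩ : (P : Subgroup G)) ⟨b, hb⟩
    exact congrArg Subtype.val this
  have hPbot : (P : Subgroup G) ≠ ⊥ := by
    intro h
    rw [h, Subgroup.card_bot] at hcP
    exact hp.out.one_lt.ne hcP
  obtain ⟨x0, hx0⟩ := (Subgroup.ne_bot_iff_exists_ne_one).mp hPbot
  obtain ⟨σ, hσ, hσ1⟩ : ∃ σ : G, σ ∈ (P : Subgroup G) ∧ σ ≠ 1 :=
    ⟨(x0 : G), x0.2, fun h => hx0 (Subtype.ext h)⟩
  have : ∃ a ∈ S, σ • a ≠ a := by
    by_contra hcon
    push_neg at hcon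
    exact hσ1 (hfaith σ hcon)
  obtain ⟨a, haS, hσa⟩ := this
  have hSfin : S.Finite := Set.finite_of_ncard_pos (by rw [hS]; exact hp.out.pos)
  have horb_sub : MulAction.orbit (P : Subgroup G) a ⊆ S := by
    rintro c ⟨k, rfl⟩
    exact hinv (k : G) a haS
  have horb_fin : (MulAction.orbit (P : Subgroup G) a).Finite := hSfin.subset horb_sub
  have horb_dvd : (MulAction.orbit (P : Subgroup G) a).ncard ∣ p := by
    have h0 := Subgroup.index_dvd_card (MulAction.stabilizer (P : Subgroup G) a)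
    rw [hcP] at h0
    rwa [MulAction.index_stabilizer] at h0
  have horb_ne1 : (MulAction.orbit (P : Subgroup G) a).ncard ≠ 1 := by
    intro h1
    rw [Set.ncard_eq_one] at h1
    obtain ⟨z, hz⟩ := h1
    have h1 : a ∈ MulAction.orbit (P : Subgroup G) a := MulAction.mem_orbit_self a
    have h2 : σ • a ∈ MulAction.orbit (P : Subgroup G) a := ⟨⟨σ, hσ⟩, rfl⟩
    rw [hz, Set.mem_singleton_iff] at h1 h2
    exact hσa (h2.trans h1.symm)
  have horb_card : (MulAction.orbit (P : Subgroup G) a).ncard = p := by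
    rcases (Nat.dvd_prime hp.out).mp horb_dvd with h | h
    · exact absurd h horb_ne1
    · exact h
  have horb : MulAction.orbit (P : Subgroup G) a = S :=
    Set.eq_of_subset_of_ncard_le horb_sub (by rw [hS, horb_card]) hSfin
  apply le_antisymm
  · intro c hc
    rw [Subgroup.mem_centralizer_iff] at hc
    have hca : c • a ∈ MulAction.orbit (P : Subgroup G) a := by
      rw [horb]; exact hinv c a haS
    obtain ⟨τ, hτ⟩ := hca
    have hτ' : (τ : G) • a = c • a := hτ
    have : (τ : G)⁻¹ * c = 1 := by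
      apply hfaith
      intro x hx
      rw [← horb] at hx
      obtain ⟨ρ, rfl⟩ := hx
      change ((τ : G)⁻¹ * c) • ((ρ : G) • a) = (ρ : G) • a
      have e1 : c • ((ρ : G) • a) = (ρ : G) • ((τ : G) • a) := by
        rw [← mul_smul, ← hc (ρ : G) ρ.2, mul_smul, hτ']
      have e2 : (ρ : G) • ((τ : G) • a) = (τ : G) • ((ρ : G) • a) := by
        rw [← mul_smul, ← mul_smul, hcomm _ ρ.2 _ τ.2]
      rw [mul_smul, e1, e2, inv_smul_smul]
    rw [inv_mul_eq_one] at this
    rw [← this]
    exact τ.2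
  · intro c hc
    rw [Subgroup.mem_centralizer_iff]
    intro b hb
    exact hcomm b hb c hc

theorem simple_of_prime_degree (p r m : ℕ) [hp : Fact p.Prime] (hr : r.Prime)
    (hS : S.ncard = p)
    (hinv : ∀ g : G, ∀ x ∈ S, g • x ∈ S)
    (hfaith : ∀ g : G, (∀ x ∈ S, g • x = x) → g = 1)
    (h2t : ∀ a ∈ S, ∀ b ∈ S, ∀ c ∈ S, a ≠ b → a ≠ c → ∃ g : G, g • a = a ∧ g • b = c)
    (hcard : Nat.card G = p * m) (hpm : ¬ p ∣ m) (hmr : m ≠ r)
    (harith : ∀ e, e ∣ p - 1 → e ∣ m → (m / e) % p = 1 → e = r) : IsSimpleGroup G := by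
  have hcard' : Nat.card G = p ^ 1 * m := by rw [pow_one]; exact hcard
  let P : Sylow p G := default
  have hcP : Nat.card P = p := by
    have := h8_sylow_card p 1 m hcard' hpm P
    rwa [pow_one] at this
  have hC := centralizer_sylow_eq S p hS hinv hfaith P hcP
  have hN1 := h8_card_centralizer_mul_relIndex (P : Subgroup G)
  have he := h8_relIndex_centralizer_normalizer_dvd_prime p hp.out (P : Subgroup G) hcP
  set e := (centralizer ((P : Subgroup G) : Set G)).relIndex (normalizer ((P : Subgroup G) : Set G))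
    with hedef
  rw [hC, hcP] at hN1
  have hidx := Subgroup.card_mul_index (normalizer ((P : Subgroup G) : Set G))
  rw [← hN1, hcard] at hidx
  have hidx' : e * (normalizer ((P : Subgroup G) : Set G)).index = m := by
    have : p * (e * (normalizer ((P : Subgroup G) : Set G)).index) = p * m := by
      rw [← hidx]; ring
    exact Nat.eq_of_mul_eq_mul_left hp.out.pos this
  have hem : e ∣ m := Dvd.intro _ hidx'
  have hepos : 0 < e := by
    rcases Nat.eq_zero_or_pos e with h | h
    · rw [h, zero_mul] at hidx'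
      rw [← hidx', mul_zero] at hcard
      have := Nat.card_pos (α := G)
      omega
    · exact h
  have hdiv : m / e = (normalizer ((P : Subgroup G) : Set G)).index := by
    rw [← hidx', Nat.mul_div_cancel_left _ hepos]
  have hmod : (m / e) % p = 1 := by
    have h2 : Nat.card (Sylow p G) = (normalizer ((P : Subgroup G) : Set G)).index :=
      Sylow.card_eq_index_normalizer P
    rw [hdiv, ← h2]
    have := card_sylow_modEq_one p G
    have h' : Nat.card (Sylow p G) % p = 1 % p := this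
    rw [h', Nat.mod_eq_of_lt hp.out.one_lt]
  have her : e = r := harith e he hem hmod
  refine simple_of_sylow_prime p r m hr hcard hpm hmr ?_ P (by rw [← hN1, her])
  intro N hNn hbot
  haveI := hNn
  obtain ⟨a, _, horb⟩ := orbit_normal_eq S hinv hfaith h2t N hbot
  exact dvd_card_of_orbit_eq N a p (by rw [horb, hS])

end

end Cfsg.Agent.Lib.helper4
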