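import Mathlib
import Cfsg.Agent.Lib.helper4.SharpFourC
import Cfsg.Agent.Lib.helper4.PrimeDegreeB

set_option autoImplicit false

namespace Cfsg.Agent.Lib.helper4

open MulAction Subgroup Cfsg.Agent.Lib.helper8

section

variable {K β : Type*} [Group K] [MulAction K β]

theorem sharp_four_natCard [Finite β] [IsMultiplyPretransitive K β 4]
    (hs : ∀ v : Fin 4 ↪ β, stabilizer K v = ⊥) (h4 : 4 ≤ Nat.card β) :
    Nat.card β = 4 ∨ Nat.card β = 5 ∨ Nat.card β = 6 ∨ Nat.card β = 11 := by
  classical
  haveI := Fintype.ofFinite β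
  rw [Nat.card_eq_fintype_card] at *
  exact sharp_four_card hs h4

/-- sharpness passes to point stabilizers -/
theorem sharp_stabilizer (k : ℕ) (hs : ∀ v : Fin (k + 1) ↪ β, stabilizer K v = ⊥) (a : β)
    (w : Fin k ↪ SubMulAction.ofStabilizer K a) : stabilizer (stabilizer K a) w = ⊥ := by
  rw [eq_bot_iff]
  intro g hg
  rw [mem_stabilizer_iff] at hg
  have hmem : (g : K) ∈ stabilizer K (SubMulAction.ofStabilizer.snoc w) := by
    rw [mem_stabilizer_iff]
    ext i
    rw [Function.Embedding.smul_apply]
    rcases Fin.eq_castSucc_or_eq_last i with ⟨j, rfl⟩ | rfl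
    · rw [SubMulAction.ofStabilizer.snoc_castSucc]
      have := congrArg (fun f => ((f j : SubMulAction.ofStabilizer K a) : β)) hg
      exact this
    · rw [SubMulAction.ofStabilizer.snoc_last]
      exact g.2
  rw [hs, Subgroup.mem_bot] at hmem
  rw [Subgroup.mem_bot]
  exact Subtype.ext hmem

theorem isPretransitive_of_multiply [Finite β] (k : ℕ) (hk : 1 ≤ k)
    [IsMultiplyPretransitive K β k] (hc : k ≤ Nat.card β) : IsPretransitive K β := by
  haveI : IsMultiplyPretransitive K β 1 := isMultiplyPretransitive_of_le (n := k) hk hc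
  exact is_one_pretransitive_iff.mp inferInstance

/-- the degree of a sharply `(k+1)`-transitive action is one more than the degree of the sharply
`k`-transitive action of a point stabilizer -/
theorem sharp_step [Finite β] (k : ℕ) [IsMultiplyPretransitive K β (k + 1)]
    (hs : ∀ v : Fin (k + 1) ↪ β, stabilizer K v = ⊥) (hc : k + 1 ≤ Nat.card β)
    (P : ℕ → Prop)
    (hP : ∀ (a : β), IsMultiplyPretransitive (stabilizer K a) (SubMulAction.ofStabilizer K a) k →
      (∀ w : Fin k ↪ SubMulAction.ofStabilizer K a, stabilizer (stabilizer K a) w = ⊥) →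
      k ≤ Nat.card (SubMulAction.ofStabilizer K a) → P (Nat.card (SubMulAction.ofStabilizer K a))) :
    P (Nat.card β - 1) := by
  haveI : Nonempty β := (Nat.card_pos_iff.mp (by omega)).1
  obtain ⟨a⟩ := ‹Nonempty β›
  haveI : IsPretransitive K β := isPretransitive_of_multiply (k + 1) (by omega) hc
  have hpre : IsMultiplyPretransitive (stabilizer K a) (SubMulAction.ofStabilizer K a) k :=
    (SubMulAction.ofStabilizer.isMultiplyPretransitive (n := k)).mp inferInstance
  have hcard := SubMulAction.nat_card_ofStabilizer_add_one_eq K a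
  have := hP a hpre (sharp_stabilizer k hs a) (by omega)
  have e : Nat.card β - 1 = Nat.card (SubMulAction.ofStabilizer K a) := by omega
  rw [e]
  exact this

theorem sharp_five_natCard [Finite β] [IsMultiplyPretransitive K β 5]
    (hs : ∀ v : Fin 5 ↪ β, stabilizer K v = ⊥) (h5 : 5 ≤ Nat.card β) :
    Nat.card β = 5 ∨ Nat.card β = 6 ∨ Nat.card β = 7 ∨ Nat.card β = 12 := by
  have := sharp_step (K := K) (β := β) 4 hs h5
    (fun n => n = 4 ∨ n = 5 ∨ n = 6 ∨ n = 11)
    (fun a hpre hsh hc => by
      haveI := hpre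
      exact sharp_four_natCard hsh hc)
  omega

end

end Cfsg.Agent.Lib.helper4
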