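import Mathlib
import Cfsg.Agent.Lib.helper4.SharpK

set_option autoImplicit false

namespace Cfsg.Agent.Lib.helper4

open MulAction Subgroup Cfsg.Agent.Lib.helper8

/-- Sylow arithmetic for a group acting faithfully on a set of prime size `p` with `p ∥ |G|` -/
theorem sylow_arith_prime_degree {G α : Type*} [Group G] [Finite G] [MulAction G α] (S : Set α)
    (p m : ℕ) [hp : Fact p.Prime] (hS : S.ncard = p)
    (hinv : ∀ g : G, ∀ x ∈ S, g • x ∈ S)
    (hfaith : ∀ g : G, (∀ x ∈ S, g • x = x) → g = 1)
    (hcard : Nat.card G = p * m) (hpm : ¬ p ∣ m) :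
    ∃ e, e ∣ p - 1 ∧ e ∣ m ∧ (m / e) % p = 1 := by
  have hcard' : Nat.card G = p ^ 1 * m := by rw [pow_one]; exact hcard
  let P : Sylow p G := default
  have hcP : Nat.card P = p := by
    have := h8_sylow_card p 1 m hcard' hpm P
    rwa [pow_one] at this
  have hC := centralizer_sylow_eq S p hS hinv hfaith P hcP
  have hN1 := h8_card_centralizer_mul_relIndex (P : Subgroup G)
  have he := h8_relIndex_centralizer_normalizer_dvd_prime p hp.out (P : Subgroup G) hcP
  set e := (centralizer ((P : Subgroup G) : Set G)).relIndex (normalizer ((P : Subgroup G) : Set G))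
    with hedef
  rw [hC, hcP] at hN1
  have hidx := Subgroup.card_mul_index (normalizer ((P : Subgroup G) : Set G))
  rw [← hN1, hcard] at hidx
  have hidx' : e * (normalizer ((P : Subgroup G) : Set G)).index = m := by
    have : p * (e * (normalizer ((P : Subgroup G) : Set G)).index) = p * m := by
      rw [← hidx]; ring
    exact Nat.eq_of_mul_eq_mul_left hp.out.pos this
  have hem : e ∣ m := Dvd.intro _ hidx'
  have hepos : 0 < e := by
    rcases Nat.eq_zero_or_pos e with h | h
    · rw [h, zero_mul] at hidx'
      rw [← hidx', mul_zero] at hcard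
      have := Nat.card_pos (α := G)
      omega
    · exact h
  have hdiv : m / e = (normalizer ((P : Subgroup G) : Set G)).index := by
    rw [← hidx', Nat.mul_div_cancel_left _ hepos]
  have hmod : (m / e) % p = 1 := by
    have h2 : Nat.card (Sylow p G) = (normalizer ((P : Subgroup G) : Set G)).index :=
      Sylow.card_eq_index_normalizer P
    rw [hdiv, ← h2]
    have := card_sylow_modEq_one p G
    have h' : Nat.card (Sylow p G) % p = 1 % p := this
    rw [h', Nat.mod_eq_of_lt hp.out.one_lt]
  exact ⟨e, he, hem, hmod⟩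

section

variable {K β : Type*} [Group K] [MulAction K β]

theorem finite_of_sharp [Finite β] (k : ℕ) (hs : ∀ v : Fin k ↪ β, stabilizer K v = ⊥)
    (hc : k ≤ Nat.card β) : Finite K := by
  classical
  haveI := Fintype.ofFinite β
  obtain ⟨v⟩ : Nonempty (Fin k ↪ β) :=
    Function.Embedding.nonempty_of_card_le (by
      rw [Fintype.card_fin, ← Nat.card_eq_fintype_card]; exact hc)
  apply Finite.of_injective (fun g : K => g • v)
  intro g h hgh
  have hmem : h⁻¹ * g ∈ stabilizer K v := by
    rw [mem_stabilizer_iff, mul_smul, inv_smul_eq_iff]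
    exact hgh
  rw [hs, Subgroup.mem_bot, inv_mul_eq_one] at hmem
  exact hmem.symm

theorem card_of_sharp_k [Finite β] (k : ℕ) [IsMultiplyPretransitive K β k]
    (hs : ∀ v : Fin k ↪ β, stabilizer K v = ⊥) (hc : k ≤ Nat.card β) :
    Nat.card K = (Nat.card β).descFactorial k := by
  classical
  haveI := Fintype.ofFinite β
  haveI : Finite K := finite_of_sharp k hs hc
  obtain ⟨v⟩ : Nonempty (Fin k ↪ β) :=
    Function.Embedding.nonempty_of_card_le (by
      rw [Fintype.card_fin, ← Nat.card_eq_fintype_card]; exact hc)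
  have h1 : Nat.card (stabilizer K v) * Nat.card (Fin k ↪ β) = Nat.card K := by
    rw [← MulAction.index_stabilizer_of_transitive K v]
    exact Subgroup.card_mul_index _
  rw [hs, Subgroup.card_bot, one_mul, Nat.card_eq_fintype_card, Fintype.card_embedding_eq,
    Fintype.card_fin, ← Nat.card_eq_fintype_card] at h1
  exact h1.symm

theorem no_sharp_six_thirteen [Finite β] [IsMultiplyPretransitive K β 6]
    (hs : ∀ v : Fin 6 ↪ β, stabilizer K v = ⊥) (h13 : Nat.card β = 13) : False := by
  haveI : Finite K := finite_of_sharp 6 hs (by omega)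
  haveI : Fact (Nat.Prime 13) := ⟨by norm_num⟩
  have hcard := card_of_sharp_k (K := K) (β := β) 6 hs (by omega)
  rw [h13] at hcard
  have hcard' : Nat.card K = 13 * 95040 := by
    rw [hcard]
    decide
  obtain ⟨e, he1, he2, he3⟩ := sylow_arith_prime_degree (G := K) (α := β) Set.univ 13 95040
    (by rw [Set.ncard_univ, h13]) (fun _ _ _ => Set.mem_univ _)
    (fun g hg => by
      classical
      haveI := Fintype.ofFinite β
      obtain ⟨v⟩ : Nonempty (Fin 6 ↪ β) :=
        Function.Embedding.nonempty_of_card_le (by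
          rw [Fintype.card_fin, ← Nat.card_eq_fintype_card]; omega)
      have hmem : g ∈ stabilizer K v := by
        rw [mem_stabilizer_iff]
        ext i
        rw [Function.Embedding.smul_apply]
        exact hg _ (Set.mem_univ _)
      rw [hs, Subgroup.mem_bot] at hmem
      exact hmem)
    hcard' (by norm_num)
  have hle : e ≤ 12 := Nat.le_of_dvd (by norm_num) he1
  interval_cases e <;> omega

theorem sharp_six_natCard [Finite β] [IsMultiplyPretransitive K β 6]
    (hs : ∀ v : Fin 6 ↪ β, stabilizer K v = ⊥) (h6 : 6 ≤ Nat.card β) :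
    Nat.card β = 6 ∨ Nat.card β = 7 ∨ Nat.card β = 8 := by
  have := sharp_step (K := K) (β := β) 5 hs h6
    (fun n => n = 5 ∨ n = 6 ∨ n = 7 ∨ n = 12)
    (fun a hpre hsh hc => by
      haveI := hpre
      exact sharp_five_natCard hsh hc)
  have h13 : Nat.card β ≠ 13 := fun h => no_sharp_six_thirteen hs h
  omega

end

universe u v

theorem sharp_ge_six_natCard : ∀ (k : ℕ), 6 ≤ k → ∀ (K : Type u) (β : Type v) [Group K]
    [MulAction K β] [Finite β] [IsMultiplyPretransitive K β k],
    (∀ v : Fin k ↪ β, stabilizer K v = ⊥) → k ≤ Nat.card β →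
    Nat.card β = k ∨ Nat.card β = k + 1 ∨ Nat.card β = k + 2 := by
  intro k hk
  induction k, hk using Nat.le_induction with
  | base =>
    intro K β _ _ _ _ hs h6
    exact sharp_six_natCard hs h6
  | succ k hk ih =>
    intro K β _ _ _ _ hs hc
    have := sharp_step (K := K) (β := β) k hs hc
      (fun n => n = k ∨ n = k + 1 ∨ n = k + 2)
      (fun a hpre hsh hc' => by
        haveI := hpre
        exact ih _ _ hsh hc')
    omega

end Cfsg.Agent.Lib.helper4
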