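import Mathlib
import Cfsg.Agent.Lib.Helper10.LW7.Defs

set_option autoImplicit false

/-! LW7 piece B2a (helper4): orbit–stabiliser on `j`-subsets; if the pointwise stabiliser of `Δ` is
trivial, `|G| = |orbit of Δ| * |induced G Δ|`. -/

namespace Cfsg.Agent.Lib.helper4.LW7B2a

open MulAction Equiv
open Cfsg.Agent.Lib.Helper10.LW7
open Pointwise

variable {α : Type*} [Fintype α] [DecidableEq α]

theorem smul_fs_def (G : Subgroup (Perm α)) (g : G) (s : Finset α) :
    g • s = s.image (fun a => (g : Perm α) a) := rfl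

/-- an element mapping the finite set `Δ` into itself stabilises it -/
theorem smul_eq_of_maps (G : Subgroup (Perm α)) (g : G) (Δ : Finset α)
    (h : ∀ x ∈ Δ, (g : Perm α) x ∈ Δ) : g • Δ = Δ := by
  apply Finset.eq_of_subset_of_card_le
  · intro y hy
    rw [smul_fs_def, Finset.mem_image] at hy
    obtain ⟨x, hx, rfl⟩ := hy
    exact h x hx
  · rw [Finset.card_smul_finset]

theorem maps_of_smul_eq (G : Subgroup (Perm α)) (g : G) (Δ : Finset α)
    (h : g • Δ = Δ) : ∀ x ∈ Δ, (g : Perm α) x ∈ Δ := by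
  intro x hx
  rw [← h, smul_fs_def, Finset.mem_image]
  exact ⟨x, hx, rfl⟩

/-- restriction of the setwise stabiliser to `Δ` -/
noncomputable def resFun (G : Subgroup (Perm α)) (Δ : Finset α) :
    stabilizer G Δ → induced G Δ := fun g =>
  ⟨Perm.subtypePermOfFintype (g.1 : Perm α) (fun x hx => maps_of_smul_eq G g.1 Δ g.2 x hx),
    (g.1 : Perm α), g.1.2, fun _ => rfl⟩

theorem resFun_apply (G : Subgroup (Perm α)) (Δ : Finset α) (g : stabilizer G Δ) (x : ↥Δ) :
    (((resFun G Δ g : induced G Δ) : Perm ↥Δ) x : α) = (g.1 : Perm α) x := rfl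

theorem resFun_bij (G : Subgroup (Perm α)) (Δ : Finset α)
    (hfix : fixingSubgroup G (Δ : Set α) = ⊥) : Function.Bijective (resFun G Δ) := by
  constructor
  · intro g g' h
    have hx : ∀ x : ↥Δ, (g.1 : Perm α) x = (g'.1 : Perm α) x := by
      intro x
      rw [← resFun_apply G Δ g x, ← resFun_apply G Δ g' x, h]
    have hmem : g.1⁻¹ * g'.1 ∈ fixingSubgroup G (Δ : Set α) := by
      rw [mem_fixingSubgroup_iff]
      intro y hy
      have := hx ⟨y, hy⟩
      change ((g.1⁻¹ * g'.1 : G) : Perm α) y = y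
      rw [Subgroup.coe_mul, Perm.mul_apply, Subgroup.coe_inv, Perm.inv_eq_iff_eq]
      exact this.symm
    rw [hfix, Subgroup.mem_bot] at hmem
    have : g.1 = g'.1 := by
      have := congrArg (fun t => g.1 * t) hmem
      simpa using this.symm
    exact Subtype.ext this
  · rintro ⟨n, g, hg, hgn⟩
    have hst : (⟨g, hg⟩ : G) ∈ stabilizer G Δ := by
      rw [mem_stabilizer_iff]
      apply smul_eq_of_maps
      intro x hx
      change g x ∈ Δ
      rw [hgn ⟨x, hx⟩]
      exact (n ⟨x, hx⟩).2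
    refine ⟨⟨⟨g, hg⟩, hst⟩, ?_⟩
    apply Subtype.ext
    apply Equiv.ext
    intro x
    apply Subtype.ext
    rw [resFun_apply]
    exact hgn x

/-- the key identity -/
theorem card_eq_orbit_mul (G : Subgroup (Perm α)) (Δ : Finset α)
    (hfix : fixingSubgroup G (Δ : Set α) = ⊥) :
    Nat.card G = (orbit G Δ).ncard * Nat.card (induced G Δ) := by
  have h1 := Subgroup.card_mul_index (stabilizer G Δ)
  rw [MulAction.index_stabilizer] at h1
  have h2 : Nat.card (stabilizer G Δ) = Nat.card (induced G Δ) :=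
    Nat.card_congr (Equiv.ofBijective _ (resFun_bij G Δ hfix))
  rw [← h1, h2, mul_comm]

/-- orbits consist of sets of the same size -/
theorem orbit_subset (G : Subgroup (Perm α)) (Δ : Finset α) :
    orbit G Δ ⊆ ((Finset.powersetCard Δ.card (Finset.univ : Finset α) : Finset (Finset α)) :
      Set (Finset α)) := by
  rintro s ⟨g, rfl⟩
  change g • Δ ∈ _
  rw [Finset.mem_coe, Finset.mem_powersetCard]
  exact ⟨Finset.subset_univ _, Finset.card_smul_finset _ _⟩

theorem ncard_pc (j : ℕ) :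
    ((Finset.powersetCard j (Finset.univ : Finset α) : Finset (Finset α)) :
      Set (Finset α)).ncard = (Fintype.card α).choose j := by
  rw [Set.ncard_coe_finset, Finset.card_powersetCard, Finset.card_univ]

theorem card_induced_mul_ge (G : Subgroup (Perm α)) (j : ℕ) (Δ : Finset α) (hΔ : Δ.card = j)
    (hfix : fixingSubgroup G (Δ : Set α) = ⊥) :
    ∃ m : ℕ, 1 ≤ m ∧ m ≤ (Fintype.card α).choose j ∧ Nat.card G = m * Nat.card (induced G Δ) ∧
      ((∀ Δ' : Finset α, Δ'.card = j → ∃ g ∈ G, Δ'.image g = Δ) → m = (Fintype.card α).choose j) := by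
  refine ⟨(orbit G Δ).ncard, ?_, ?_, card_eq_orbit_mul G Δ hfix, ?_⟩
  · have : (orbit G Δ).Nonempty := ⟨Δ, mem_orbit_self Δ⟩
    have hfin : (orbit G Δ).Finite := Set.toFinite _
    exact (Set.ncard_pos hfin).2 this
  · rw [← ncard_pc (α := α) j, ← hΔ]
    exact Set.ncard_le_ncard (orbit_subset G Δ) (Set.toFinite _)
  · intro hall
    rw [← ncard_pc (α := α) j, ← hΔ]
    congr 1
    apply Set.Subset.antisymm (orbit_subset G Δ)
    intro s hs
    rw [Finset.mem_coe, Finset.mem_powersetCard] at hs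
    obtain ⟨g, hg, hgs⟩ := hall s (hs.2.trans hΔ)
    rw [← orbit_eq_iff]
    symm
    rw [orbit_eq_iff]
    exact ⟨⟨g, hg⟩, hgs⟩

theorem two_orbits (G : Subgroup (Perm α)) (j : ℕ) (Δ₁ Δ₂ : Finset α) (h1 : Δ₁.card = j) (h2 : Δ₂.card = j)
    (hf1 : fixingSubgroup G (Δ₁ : Set α) = ⊥) (hf2 : fixingSubgroup G (Δ₂ : Set α) = ⊥)
    (hne : ∀ g ∈ G, Δ₁.image g ≠ Δ₂) :
    ∃ m₁ m₂ : ℕ, m₁ + m₂ ≤ (Fintype.card α).choose j ∧ Nat.card G = m₁ * Nat.card (induced G Δ₁) ∧
      Nat.card G = m₂ * Nat.card (induced G Δ₂) := by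
  refine ⟨(orbit G Δ₁).ncard, (orbit G Δ₂).ncard, ?_, card_eq_orbit_mul G Δ₁ hf1,
    card_eq_orbit_mul G Δ₂ hf2⟩
  have hdis : Disjoint (orbit G Δ₁) (orbit G Δ₂) := by
    rcases orbit.eq_or_disjoint (G := G) Δ₁ Δ₂ with h | h
    · exfalso
      have : Δ₂ ∈ orbit G Δ₁ := by rw [h]; exact mem_orbit_self _
      obtain ⟨g, hg⟩ := this
      exact hne g.1 g.2 hg
    · exact h
  rw [← Set.ncard_union_eq hdis (Set.toFinite _) (Set.toFinite _), ← ncard_pc (α := α) j]
  apply Set.ncard_le_ncard _ (Set.toFinite _)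
  apply Set.union_subset
  · have := orbit_subset G Δ₁; rwa [h1] at this
  · have := orbit_subset G Δ₂; rwa [h2] at this

end Cfsg.Agent.Lib.helper4.LW7B2a
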