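import Mathlib
import Cfsg.Agent.S5944

set_option autoImplicit false

/-! LW7 piece B3 (helper4): a subgroup of `Perm β` of index `< card β` (`card β ≥ 5`) contains
the alternating group.  Transport of the landed S5944. -/

namespace Cfsg.Agent.Lib.helper4.LW7B3

open Equiv

theorem alt_le_of_index_lt {β : Type*} [Fintype β] [DecidableEq β] (hβ : 5 ≤ Fintype.card β)
    (L : Subgroup (Perm β)) (hL : L.index < Fintype.card β) : alternatingGroup β ≤ L := by
  classical
  set n := Fintype.card β with hn
  let e : β ≃ Fin n := Fintype.equivFin β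
  let φ : Perm β ≃* Perm (Fin n) := e.permCongrHom
  let H : Subgroup (Perm (Fin n)) := L.map φ.toMonoidHom
  have hidx : H.index = L.index := by
    exact Subgroup.index_map_equiv L φ
  have hAH : alternatingGroup (Fin n) ≤ H := by
    by_contra hcon
    have h1 : H ≠ ⊤ := by
      intro h; apply hcon; rw [h]; exact le_top
    have h2 : H ≠ alternatingGroup (Fin n) := by
      intro h; apply hcon; rw [h]
    have := Cfsg.Agent.S5944.result n (by omega) H h1 h2
    omega
  intro σ hσ
  have hs : φ σ ∈ alternatingGroup (Fin n) := by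
    rw [Equiv.Perm.mem_alternatingGroup] at hσ ⊢
    have : φ σ = e.permCongr σ := rfl
    rw [this, Equiv.Perm.sign_permCongr, hσ]
  obtain ⟨τ, hτ, hτe⟩ := hAH hs
  have : τ = σ := φ.injective hτe
  rw [← this]; exact hτ

end Cfsg.Agent.Lib.helper4.LW7B3
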