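import Mathlib
import Cfsg.Agent.Lib.Helper10.LW7.Defs
import Cfsg.Agent.Lib.helper4.LW7B2a
import Cfsg.Agent.Lib.helper4.LW7B3

set_option autoImplicit false

/-! LW7 piece B4 (helper4): the sharply `k`-transitive cases `(n, k) = (11, 4), (12, 5)` with all
pointwise stabilisers of `(k+1)`-sets trivial: some `(k+1)`-set induces at least `Alt`. -/

namespace Cfsg.Agent.Lib.helper4.LW7B4

open MulAction Equiv
open Cfsg.Agent.Lib.Helper10.LW7
open Cfsg.Agent.Lib.helper4.LW7B2a Cfsg.Agent.Lib.helper4.LW7B3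

variable {α : Type*} [Fintype α] [DecidableEq α]

/-- a subgroup of `Perm ↥Δ` (`|Δ| = k+1 ≥ 5`) not containing `Alt` has order `≤ k!` -/
theorem card_le_of_not_alt {k : ℕ} (hk4 : 4 ≤ k) (Δ : Finset α) (hΔ : Δ.card = k + 1)
    (L : Subgroup (Perm ↥Δ)) (hL : ¬ alternatingGroup ↥Δ ≤ L) : Nat.card L ≤ k.factorial := by
  have hc : Fintype.card ↥Δ = k + 1 := by rw [Fintype.card_coe, hΔ]
  have hidx : k + 1 ≤ L.index := by
    by_contra hlt
    apply hL
    apply alt_le_of_index_lt (by omega) L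
    omega
  have h1 := Subgroup.card_mul_index L
  have h2 : Nat.card (Perm ↥Δ) = (k + 1).factorial := by
    rw [Nat.card_eq_fintype_card, Fintype.card_perm, hc]
  rw [h2, Nat.factorial_succ] at h1
  have h3 : Nat.card L * (k + 1) ≤ (k + 1) * k.factorial := by
    rw [← h1]; exact Nat.mul_le_mul_left _ hidx
  rw [mul_comm] at h3
  exact Nat.le_of_mul_le_mul_left h3 (by omega)

theorem good_of_seven (G : Subgroup (Perm α)) {k : ℕ} (hk4 : 4 ≤ k) (hk5 : k ≤ 5)
    (hn : Fintype.card α = k + 7) (hG : IsMultiplyPretransitive G α k)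
    (hcard : Nat.card G = (Fintype.card α).descFactorial k)
    (hfix : ∀ s : Finset α, s.card = k + 1 → fixingSubgroup G (s : Set α) = ⊥) : Good G k := by
  by_contra hgood
  have hbound : ∀ Δ : Finset α, Δ.card = k + 1 → Nat.card (induced G Δ) ≤ k.factorial := by
    intro Δ hΔ
    apply card_le_of_not_alt hk4 Δ hΔ
    intro hle
    exact hgood ⟨Δ, hΔ, hle⟩
  obtain ⟨Δ₁, -, h1⟩ := Finset.exists_subset_card_eq (s := (Finset.univ : Finset α)) (n := k + 1)
    (by rw [Finset.card_univ, hn]; omega)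
  by_cases hcase : ∃ Δ₂ : Finset α, Δ₂.card = k + 1 ∧ ∀ g ∈ G, Δ₁.image g ≠ Δ₂
  · obtain ⟨Δ₂, h2, hne⟩ := hcase
    obtain ⟨m₁, m₂, hm, e1, e2⟩ := two_orbits G (k + 1) Δ₁ Δ₂ h1 h2 (hfix _ h1) (hfix _ h2) hne
    have b1 := hbound Δ₁ h1
    have b2 := hbound Δ₂ h2
    rw [hcard, hn] at e1 e2
    rw [hn] at hm
    have c1 : (k + 7).descFactorial k ≤ m₁ * k.factorial := by
      rw [e1]; exact Nat.mul_le_mul_left _ b1
    have c2 : (k + 7).descFactorial k ≤ m₂ * k.factorial := by
      rw [e2]; exact Nat.mul_le_mul_left _ b2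
    interval_cases k
    · have d3 : Nat.choose 11 5 = 462 := by decide
      norm_num at c1 c2 hm
      rw [d3] at hm
      omega
    · have d3 : Nat.choose 12 6 = 924 := by decide
      norm_num at c1 c2 hm
      rw [d3] at hm
      omega
  · push Not at hcase
    obtain ⟨m, -, -, e, hm⟩ := card_induced_mul_ge G (k + 1) Δ₁ h1 (hfix _ h1)
    have hmm : m = (Fintype.card α).choose (k + 1) := by
      apply hm
      intro Δ' hΔ'
      obtain ⟨g, hg, hgs⟩ := hcase Δ' hΔ'
      refine ⟨g⁻¹, G.inv_mem hg, ?_⟩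
      rw [← hgs, Finset.image_image]
      have : (⇑g⁻¹ ∘ ⇑g) = id := by
        funext x; simp
      rw [this, Finset.image_id]
    rw [hmm, hcard, hn] at e
    have hdvd : (k + 7).choose (k + 1) ∣ (k + 7).descFactorial k := ⟨_, e⟩
    interval_cases k
    · have d3 : Nat.choose 11 5 = 462 := by decide
      norm_num at hdvd
      rw [d3] at hdvd
      omega
    · have d3 : Nat.choose 12 6 = 924 := by decide
      norm_num at hdvd
      rw [d3] at hdvd
      omega

end Cfsg.Agent.Lib.helper4.LW7B4
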