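import Mathlib
import Cfsg.Prelude.Def_Characters
import Cfsg.Prelude.Def_Blocks
import Cfsg.Agent.Lib.Helper25.CharLinear
import Cfsg.Agent.Lib.Helper29.LeoOrbit
import Cfsg.Agent.Lib.helper7.BR.Defs
import Cfsg.Agent.Lib.Helper13.BT.Defs

/-!
# Project BT (S0997 / S0998), piece INV : an involution inverting `P`
-/

set_option autoImplicit false
set_option linter.unusedVariables false
set_option linter.unusedSectionVars false

namespace Cfsg.Agent.Lib.Helper13.BT

open Classical
open scoped ComplexConjugate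
open Cfsg.Agent.Lib.Helper25 Cfsg.Agent.Lib.Helper29
open Cfsg.Agent.Lib.helper7.BR

universe u

variable {G : Type u} [Group G] [Fintype G] {p : ℕ} [Fact p.Prime]

/-- a subgroup of a group of prime order is trivial or everything -/
theorem btinv_bot_or_eq {H K : Subgroup G} (hH : Nat.card ↥H = p) (hK : K ≤ H) : K = ⊥ ∨ K = H := by
  have hp : p.Prime := Fact.out
  have hdvd : Nat.card ↥K ∣ p := hH ▸ Subgroup.card_dvd_of_le hK
  rcases (Nat.dvd_prime hp).mp hdvd with h | h
  · left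
    exact Subgroup.card_eq_one.mp h
  · right
    apply Subgroup.eq_of_le_of_card_ge hK
    rw [h, hH]

/-- membership in `H ⊓ C_G(g)` -/
theorem btinv_mem_inf (H : Subgroup G) (g y : G) :
    y ∈ H ⊓ Subgroup.centralizer ({g} : Set G) ↔ y ∈ H ∧ g * y = y * g := by
  rw [Subgroup.mem_inf, Subgroup.mem_centralizer_iff]
  constructor
  · rintro ⟨h1, h2⟩
    exact ⟨h1, h2 g rfl⟩
  · rintro ⟨h1, h2⟩
    refine ⟨h1, ?_⟩
    intro h hh
    rw [Set.mem_singleton_iff] at hh
    subst hh
    exact h2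

/-- elements of `P` commute if `C_G(P) = P` -/
theorem btinv_comm (P : Sylow p G) (hcen : cen P = (P : Subgroup G)) {x y : G}
    (hx : x ∈ (P : Subgroup G)) (hy : y ∈ (P : Subgroup G)) : x * y = y * x := by
  have hxc : x ∈ cen P := hcen ▸ hx
  rw [Subgroup.mem_centralizer_iff] at hxc
  exact (hxc y hy).symm

/-- if `g` commutes with a nontrivial element of `P` then `g ∈ C_G(P)` -/
theorem btinv_mem_cen (P : Sylow p G) (hP : Nat.card ↥(P : Subgroup G) = p) {x : G}
    (hx : x ∈ (P : Subgroup G)) (hx1 : x ≠ 1) {g : G} (hg : g * x = x * g) : g ∈ cen P := by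
  have hK : (P : Subgroup G) ⊓ Subgroup.centralizer ({g} : Set G) ≤ (P : Subgroup G) := inf_le_left
  have hxK : x ∈ (P : Subgroup G) ⊓ Subgroup.centralizer ({g} : Set G) :=
    (btinv_mem_inf _ g x).mpr ⟨hx, hg⟩
  rcases btinv_bot_or_eq hP hK with h | h
  · rw [h, Subgroup.mem_bot] at hxK
    exact absurd hxK hx1
  · rw [Subgroup.mem_centralizer_iff]
    intro y hy
    have hyK : y ∈ (P : Subgroup G) ⊓ Subgroup.centralizer ({g} : Set G) := by
      rw [h]
      exact hy
    exact ((btinv_mem_inf _ g y).mp hyK).2.symm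

/-- INV : an involution inverting `P` (`|N_G(P)| = p f` is even: Cauchy gives `t ∈ N_G(P)` of order `2`;
`t ∉ C_G(P) = P`; `t x₀ t⁻¹ = x₀^k` with `k² ≡ 1`, `k ≢ 1 (mod p)`) -/
theorem exists_inverting (hodd : p ≠ 2) (P : Sylow p G) (hP : Nat.card ↥(P : Subgroup G) = p)
    (hcen : cen P = (P : Subgroup G)) (hev : Even ((cen P).relIndex (nrm P))) :
    ∃ t : G, t ≠ 1 ∧ t * t = 1 ∧ ∀ x ∈ (P : Subgroup G), t * x * t⁻¹ = x⁻¹ := by
  have hp : p.Prime := Fact.out
  have h2 : Fact (Nat.Prime 2) := ⟨Nat.prime_two⟩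
  have h2dvd : 2 ∣ Nat.card ↥(nrm P) :=
    dvd_trans (even_iff_two_dvd.mp hev) (Subgroup.relIndex_dvd_card _ _)
  obtain ⟨t0, ht0⟩ := exists_prime_orderOf_dvd_card' 2 h2dvd
  have htG : orderOf ((t0 : ↥(nrm P)) : G) = 2 := by
    rw [Subgroup.orderOf_coe]
    exact ht0
  set t : G := ((t0 : ↥(nrm P)) : G) with ht
  have htN : t ∈ nrm P := t0.2
  have ht1 : t ≠ 1 := by
    intro h1
    rw [h1, orderOf_one] at htG
    omega
  have ht2 : t * t = 1 := by
    have := pow_orderOf_eq_one t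
    rw [htG, pow_two] at this
    exact this
  have htinv : t⁻¹ = t := inv_eq_of_mul_eq_one_right ht2
  have htP : t ∉ (P : Subgroup G) := by
    intro h
    have h1 : orderOf t ∣ Nat.card ↥(P : Subgroup G) := by
      have := orderOf_dvd_natCard (⟨t, h⟩ : ↥(P : Subgroup G))
      rwa [← Subgroup.orderOf_coe] at this
    rw [htG, hP] at h1
    exact hodd ((Nat.prime_dvd_prime_iff_eq Nat.prime_two hp).mp h1).symm
  have hfix : (P : Subgroup G) ⊓ Subgroup.centralizer ({t} : Set G) = ⊥ := by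
    rcases btinv_bot_or_eq hP (inf_le_left : (P : Subgroup G) ⊓ Subgroup.centralizer ({t} : Set G) ≤ _)
      with h | h
    · exact h
    · exfalso
      apply htP
      rw [← hcen, Subgroup.mem_centralizer_iff]
      intro y hy
      have hyK : y ∈ (P : Subgroup G) ⊓ Subgroup.centralizer ({t} : Set G) := by
        rw [h]
        exact hy
      exact ((btinv_mem_inf _ t y).mp hyK).2.symm
  refine ⟨t, ht1, ht2, ?_⟩
  intro x hx
  have hconj : t * x * t⁻¹ ∈ (P : Subgroup G) := (Subgroup.mem_normalizer_iff.mp htN x).mp hx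
  have hy : x * (t * x * t⁻¹) ∈ (P : Subgroup G) ⊓ Subgroup.centralizer ({t} : Set G) := by
    refine (btinv_mem_inf _ t _).mpr ⟨Subgroup.mul_mem _ hx hconj, ?_⟩
    have hc := btinv_comm P hcen hx hconj
    calc t * (x * (t * x * t⁻¹)) = (t * x * t⁻¹) * (t * t) * x * t⁻¹ * (t⁻¹ * t) := by group
      _ = (t * x * t⁻¹) * x * t⁻¹ := by rw [ht2, inv_mul_cancel, mul_one, mul_one]
      _ = x * (t * x * t⁻¹) * t⁻¹ := by rw [← hc]
      _ = x * (t * x * t⁻¹) * t := by rw [htinv]
  rw [hfix, Subgroup.mem_bot] at hy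
  exact (eq_inv_of_mul_eq_one_right hy)

end Cfsg.Agent.Lib.Helper13.BT
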