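import Mathlib
import Cfsg.Prelude.Def_Characters
import Cfsg.Prelude.Def_Blocks
import Cfsg.Agent.Lib.Helper25.CharLinear
import Cfsg.Agent.Lib.Helper29.LeoOrbit
import Cfsg.Agent.Lib.helper7.BR.Defs
import Cfsg.Agent.Lib.Helper13.BT.Defs
import Cfsg.Agent.Lib.helper4.BTINV

/-!
# Project BT (S0997 / S0998), piece CNT : the class multiplication constants `a(t,t,x) = p`, `a(w,w,x) = 0`
-/

set_option autoImplicit false
set_option linter.unusedVariables false
set_option linter.unusedSectionVars false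

namespace Cfsg.Agent.Lib.Helper13.BT

open Classical
open scoped ComplexConjugate
open Cfsg.Agent.Lib.Helper25 Cfsg.Agent.Lib.Helper29
open Cfsg.Agent.Lib.helper7.BR

universe u

variable {G : Type u} [Group G] [Fintype G] {p : ℕ} [Fact p.Prime]

/-- a conjugate of an involution (or of `1`) squares to `1` -/
theorem btcnt_sq_of_conj {u s : G} (hu : u * u = 1) (h : IsConj u s) : s * s = 1 := by
  obtain ⟨c, rfl⟩ := isConj_iff.mp h
  calc c * u * c⁻¹ * (c * u * c⁻¹) = c * (u * u) * c⁻¹ := by group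
    _ = 1 := by rw [hu]; group

/-- if `s₁ s₂ = x` with `s₁² = s₂² = 1` then `s₁ t ∈ P` -/
theorem btcnt_form (P : Sylow p G) (hP : Nat.card ↥(P : Subgroup G) = p)
    (hcen : cen P = (P : Subgroup G)) (t : G) (ht2 : t * t = 1)
    (hinv : ∀ x ∈ (P : Subgroup G), t * x * t⁻¹ = x⁻¹) (x : G) (hx : x ∈ (P : Subgroup G)) (hx1 : x ≠ 1)
    {s₁ s₂ : G} (h1 : s₁ * s₁ = 1) (h2 : s₂ * s₂ = 1) (h3 : s₁ * s₂ = x) :
    s₁ * t ∈ (P : Subgroup G) := by
  have hs1inv : s₁⁻¹ = s₁ := inv_eq_of_mul_eq_one_right h1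
  have hs2inv : s₂⁻¹ = s₂ := inv_eq_of_mul_eq_one_right h2
  have hxinv : x⁻¹ = s₂ * s₁ := by
    rw [← h3, mul_inv_rev, hs1inv, hs2inv]
  have htx : t * x = x⁻¹ * t := by
    have := hinv x hx
    calc t * x = t * x * t⁻¹ * t := by group
      _ = x⁻¹ * t := by rw [this]
  have hcomm : (s₁ * t) * x = x * (s₁ * t) := by
    calc (s₁ * t) * x = s₁ * (t * x) := by group
      _ = s₁ * (x⁻¹ * t) := by rw [htx]
      _ = s₁ * (s₂ * s₁) * t := by rw [hxinv]; group
      _ = (s₁ * s₂) * (s₁ * t) := by group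
      _ = x * (s₁ * t) := by rw [h3]
  rw [← hcen]
  exact btinv_mem_cen P hP hx hx1 hcomm

/-- `y ^ p = 1` for `y ∈ P` -/
theorem btcnt_pow (P : Sylow p G) (hP : Nat.card ↥(P : Subgroup G) = p) {y : G}
    (hy : y ∈ (P : Subgroup G)) : y ^ p = 1 := by
  have h := pow_card_eq_one' (G := ↥(P : Subgroup G)) (x := ⟨y, hy⟩)
  rw [hP] at h
  have := congrArg (fun z : ↥(P : Subgroup G) => (z : G)) h
  simpa using this

/-- every `y t`, `y ∈ P`, is conjugate to `t` -/
theorem btcnt_conj (hodd : p ≠ 2) (P : Sylow p G) (hP : Nat.card ↥(P : Subgroup G) = p)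
    (t : G) (ht2 : t * t = 1)
    (hinv : ∀ x ∈ (P : Subgroup G), t * x * t⁻¹ = x⁻¹) {y : G} (hy : y ∈ (P : Subgroup G)) :
    IsConj t (y * t) := by
  have hp : p.Prime := Fact.out
  have hpodd : Odd p := hp.odd_of_ne_two hodd
  obtain ⟨k, hk⟩ := hpodd
  have htinv : t⁻¹ = t := inv_eq_of_mul_eq_one_right ht2
  set v : G := y ^ (k + 1) with hv
  have hvP : v ∈ (P : Subgroup G) := Subgroup.pow_mem _ hy _
  have hvv : v * v = y := by
    rw [hv, ← pow_add]
    have : k + 1 + (k + 1) = p + 1 := by omega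
    rw [this, pow_succ, btcnt_pow P hP hy, one_mul]
  have h1 : t * v⁻¹ * t⁻¹ = v := by
    rw [hinv v⁻¹ (Subgroup.inv_mem _ hvP), inv_inv]
  rw [isConj_iff]
  refine ⟨v, ?_⟩
  calc v * t * v⁻¹ = v * (t * v⁻¹ * t⁻¹) * t := by group
    _ = v * v * t := by rw [h1]
    _ = y * t := by rw [hvv]

/-- CNT : the class multiplication constants `a(t,t,x) = p` and `a(w,w,x) = 0` (`s₁ s₂ = x` with `s₁, s₂`
involutions: `s₁` inverts `x`, so `s₁ t⁻¹ ∈ C_G(x) = P`, `s₁ ∈ P t`; every `y t`, `y ∈ P`, is `v t v⁻¹` with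
`v² = y`) -/
theorem count_pairs (hodd : p ≠ 2) (P : Sylow p G) (hP : Nat.card ↥(P : Subgroup G) = p)
    (hcen : cen P = (P : Subgroup G)) (t : G) (ht1 : t ≠ 1) (ht2 : t * t = 1)
    (hinv : ∀ x ∈ (P : Subgroup G), t * x * t⁻¹ = x⁻¹) (x : G) (hx : x ∈ (P : Subgroup G)) (hx1 : x ≠ 1) :
    Nat.card {pr : G × G // IsConj t pr.1 ∧ IsConj t pr.2 ∧ pr.1 * pr.2 = x} = p ∧
      ∀ w : G, w * w = 1 → ¬ IsConj t w →
        Nat.card {pr : G × G // IsConj w pr.1 ∧ IsConj w pr.2 ∧ pr.1 * pr.2 = x} = 0 := by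
  have htinv : t⁻¹ = t := inv_eq_of_mul_eq_one_right ht2
  have hxi : x⁻¹ ∈ (P : Subgroup G) := Subgroup.inv_mem _ hx
  constructor
  · rw [← hP]
    symm
    have hprod : ∀ y : G, y ∈ (P : Subgroup G) → (y * t) * (y * x⁻¹ * t) = x := by
      intro y hy
      have hyx : y * x⁻¹ ∈ (P : Subgroup G) := Subgroup.mul_mem _ hy hxi
      have h1 := hinv _ hyx
      have hc := btinv_comm P hcen hy hx
      calc (y * t) * (y * x⁻¹ * t) = y * (t * (y * x⁻¹) * t) := by group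
        _ = y * (t * (y * x⁻¹) * t⁻¹) := by rw [htinv]
        _ = y * (y * x⁻¹)⁻¹ := by rw [h1]
        _ = y * x * y⁻¹ := by group
        _ = x * y * y⁻¹ := by rw [hc]
        _ = x := by group
    let f : ↥(P : Subgroup G) → {pr : G × G // IsConj t pr.1 ∧ IsConj t pr.2 ∧ pr.1 * pr.2 = x} :=
      fun y => ⟨((y : G) * t, (y : G) * x⁻¹ * t),
        btcnt_conj hodd P hP t ht2 hinv y.2,
        btcnt_conj hodd P hP t ht2 hinv (Subgroup.mul_mem _ y.2 hxi),
        hprod y y.2⟩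
    apply Nat.card_eq_of_bijective f
    constructor
    · intro y y' h
      have h1 := congrArg (fun z => z.1.1) h
      simp only [f] at h1
      exact Subtype.ext (mul_right_cancel h1)
    · rintro ⟨⟨s₁, s₂⟩, h1, h2, h3⟩
      simp only at h1 h2 h3
      have hs1 : s₁ * s₁ = 1 := btcnt_sq_of_conj ht2 h1
      have hs2 : s₂ * s₂ = 1 := btcnt_sq_of_conj ht2 h2
      have hs1inv : s₁⁻¹ = s₁ := inv_eq_of_mul_eq_one_right hs1
      have hy := btcnt_form P hP hcen t ht2 hinv x hx hx1 hs1 hs2 h3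
      refine ⟨⟨s₁ * t, hy⟩, ?_⟩
      apply Subtype.ext
      simp only [f]
      have e1 : s₁ * t * t = s₁ := by rw [mul_assoc, ht2, mul_one]
      have e2 : s₁ * t * x⁻¹ * t = s₂ := by
        have h4 := hinv _ hxi
        rw [inv_inv] at h4
        calc s₁ * t * x⁻¹ * t = s₁ * (t * x⁻¹ * t) := by group
          _ = s₁ * (t * x⁻¹ * t⁻¹) := by rw [htinv]
          _ = s₁ * x := by rw [h4]
          _ = s₁ * (s₁ * s₂) := by rw [h3]
          _ = (s₁ * s₁) * s₂ := by group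
          _ = s₂ := by rw [hs1, one_mul]
      rw [e1, e2]
  · intro w hw hnc
    have : IsEmpty {pr : G × G // IsConj w pr.1 ∧ IsConj w pr.2 ∧ pr.1 * pr.2 = x} := by
      constructor
      rintro ⟨⟨s₁, s₂⟩, h1, h2, h3⟩
      simp only at h1 h2 h3
      have hs1 : s₁ * s₁ = 1 := btcnt_sq_of_conj hw h1
      have hs2 : s₂ * s₂ = 1 := btcnt_sq_of_conj hw h2
      have hy := btcnt_form P hP hcen t ht2 hinv x hx hx1 hs1 hs2 h3
      have hc := btcnt_conj hodd P hP t ht2 hinv hy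
      have e1 : s₁ * t * t = s₁ := by rw [mul_assoc, ht2, mul_one]
      rw [e1] at hc
      exact hnc (hc.trans h1.symm)
    exact Nat.card_of_isEmpty

end Cfsg.Agent.Lib.Helper13.BT
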