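import Mathlib
import Cfsg.Agent.Lib.Helper13.O5760.Defs
import Cfsg.Agent.Lib.Helper22.BTKEYcore

/-!
# Project O5760 (S0980), piece COUNT: `count_ge`
At least `p` pairs of conjugates of `t` with product `x`: the pairs `(t w, t w x)`, `w ∈ P`
(copy of `hle` in `Helper22.btkey_core`).
-/

set_option autoImplicit false
set_option linter.unusedVariables false
set_option linter.unusedSectionVars false
open scoped ComplexConjugate
open Classical

namespace Cfsg.Agent.Lib.Helper13.O5760

open Cfsg.Agent.Lib.helper7 Cfsg.Agent.Lib.helper7.BR Cfsg.Agent.Lib.helper2 Cfsg.Agent.Lib.Helper25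
  Cfsg.Agent.Lib.Helper29 Cfsg.Agent.Lib.helper15.BH Cfsg.Agent.Lib.helper15.PSL

universe u

variable {G : Type u} [Group G] [Fintype G]

/-- COUNT [F1] : at least `p` pairs of conjugates of `t` with product `x` -/
theorem count_ge {p : ℕ} [Fact p.Prime] {f : ℕ} {P : Sylow p G} (hL : Loc p f P) (t : G)
    (ht2 : t ^ 2 = 1) (hinv : ∀ x ∈ (P : Subgroup G), t * x * t⁻¹ = x⁻¹) (x : G)
    (hx : x ∈ (P : Subgroup G)) :
    p ≤ Nat.card {pr : G × G // IsConj t pr.1 ∧ IsConj t pr.2 ∧ pr.1 * pr.2 = x} := by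
  have htinv : t⁻¹ = t := by
    have : t * t = 1 := by rw [← sq]; exact ht2
    exact inv_eq_of_mul_eq_one_left this
  have hinj : Function.Injective (fun w : ↥(P : Subgroup G) =>
      (⟨(t * (w : G), t * ((w : G) * x)), Cfsg.Agent.Lib.Helper22.btkey_conj_mul hL t ht2 hinv _ w.2,
        Cfsg.Agent.Lib.Helper22.btkey_conj_mul hL t ht2 hinv _ (mul_mem w.2 hx), by
          have h1 : t * (w : G) * t⁻¹ = (w : G)⁻¹ := hinv _ w.2
          rw [htinv] at h1
          calc t * (w : G) * (t * ((w : G) * x)) = (t * (w : G) * t) * ((w : G) * x) := by group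
            _ = x := by rw [h1]; group⟩ :
        {pr : G × G // IsConj t pr.1 ∧ IsConj t pr.2 ∧ pr.1 * pr.2 = x})) := by
    intro w w' hww
    have h1 := congrArg (fun q => q.1.1) hww
    simp only at h1
    exact Subtype.ext (mul_left_cancel h1)
  have := Nat.card_le_card_of_injective _ hinj
  rw [hL.cardP] at this
  exact this

end Cfsg.Agent.Lib.Helper13.O5760
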