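import Mathlib
import Cfsg.Agent.Lib.helper7.BD.D1Defs
import Cfsg.Agent.Lib.helper7.BD.D1Defs3
import Cfsg.Agent.Lib.helper7.BlockHom

/-!
# Project BD, stage B, wave 5, piece NORM : `rootHyp_normalize`
-/

set_option autoImplicit false
set_option linter.unusedVariables false
set_option linter.unusedSectionVars false

namespace Cfsg.Agent.Lib.helper7.BD

open Cfsg.Agent.Lib.helper7

universe u

section root

variable {G : Type u} [Group G] [Fintype G] {M : Ideal Cfsg.AlgInt} {p : ℕ} [Fact p.Prime]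

/-- NORM : in `RootHyp`, `b` is the block of `θ` and `T` is `stabT P θ` -/
theorem rootHyp_normalize {P : Sylow p G} {B : Set (Cfsg.IrrCharacter G)}
    {b : Set (Cfsg.IrrCharacter (Subgroup.centralizer ((P : Subgroup G) : Set G)))}
    {θ : Cfsg.IrrCharacter (Subgroup.centralizer ((P : Subgroup G) : Set G))} {T : Subgroup G}
    (h : RootHyp p M P B b θ T) :
    b = Cfsg.blockOf M (θ : ↥(Subgroup.centralizer ((P : Subgroup G) : Set G)) → ℂ) ∧
      T = stabT P θ ∧ θ ∈ canonSet P := by
  classical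
  have hMp : M.IsPrime := h.hM.2.1.isPrime
  haveI : Fintype ↥(Subgroup.centralizer ((P : Subgroup G) : Set G)) := Fintype.ofFinite _
  haveI : Fintype (Cfsg.IrrCharacter ↥(Subgroup.centralizer ((P : Subgroup G) : Set G))) :=
    Fintype.ofFinite _
  refine ⟨?_, ?_, ?_⟩
  · obtain ⟨χ, hχ⟩ := h.hind.1
    have hθ : θ ∈ Cfsg.blockOf M (χ : ↥(Subgroup.centralizer ((P : Subgroup G) : Set G)) → ℂ) := by
      rw [← hχ]
      exact h.hθ
    rw [hχ]
    exact h7_blockOf_eq_of_mem hMp χ θ hθ
  · apply Subgroup.ext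
    intro g
    rw [h.hT g, mem_stabT]
  · exact h.hθP

end root

end Cfsg.Agent.Lib.helper7.BD
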