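import Mathlib
import Cfsg.Agent.Lib.helper7.BD.Defs
import Cfsg.Agent.Lib.helper7.BD.D1Defs
import Cfsg.Agent.Lib.helper7.BD.D1Defs3
import Cfsg.Agent.Lib.Helper10.BDCHARS
import Cfsg.Agent.Lib.Helper24.CyclicInertial3
import Cfsg.Agent.Lib.Helper24.ExtFirstMain
import Cfsg.Agent.S0968
import Cfsg.Agent.Lib.helper4.BD5NORM

/-!
# Project BD, stage B, wave 5, piece ROOTEXP : `root_exists_of_defect`
-/

set_option autoImplicit false
set_option linter.unusedVariables false
set_option linter.unusedSectionVars false
set_option linter.style.haveILetI false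

namespace Cfsg.Agent.Lib.helper7.BD

open Cfsg.Agent.Lib.helper7

universe u

section root

variable {G : Type u} [Group G] [Fintype G] {M : Ideal Cfsg.AlgInt} {p : ℕ} [Fact p.Prime]

/-- ROOTEX' : the root data for a given Sylow subgroup -/
theorem root_exists_of_defect (hM : Cfsg.IsPModular p M) (P : Sylow p G) (hP : Nat.card P = p)
    (B : Set (Cfsg.IrrCharacter G)) (hB : Cfsg.IsPBlock M B)
    (hBP : Cfsg.IsDefectGroup p M B (P : Subgroup G)) :
    ∃ θ : Cfsg.IrrCharacter (Subgroup.centralizer ((P : Subgroup G) : Set G)),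
      RootHyp p M P B (Cfsg.blockOf M (θ : ↥(Subgroup.centralizer ((P : Subgroup G) : Set G)) → ℂ)) θ
        (stabT P θ) := by
  classical
  have hp : p.Prime := Fact.out
  haveI : Fintype (Cfsg.IrrCharacter G) := Fintype.ofFinite _
  have hPC : (P : Subgroup G) ≤ Subgroup.centralizer ((P : Subgroup G) : Set G) :=
    bdchars_le_centralizer (P : Subgroup G) hP
  have hPg : IsPGroup p (P : Subgroup G) := P.isPGroup'
  obtain ⟨b, hb, hbD, hind⟩ := Cfsg.Agent.Lib.Helper24.ef_exists hM (P : Subgroup G)
    (Subgroup.centralizer ((P : Subgroup G) : Set G)) hPg hPC le_rfl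
    (Subgroup.centralizer_le_normalizer _) B hB hBP
  have hP' : IsPGroup p
      ((P : Subgroup G).subgroupOf (Subgroup.centralizer ((P : Subgroup G) : Set G))) :=
    hPg.comap_subtype
  have hG' : (P : Subgroup G).subgroupOf (Subgroup.centralizer ((P : Subgroup G) : Set G)) ⊔
      Subgroup.centralizer
        (((P : Subgroup G).subgroupOf (Subgroup.centralizer ((P : Subgroup G) : Set G)) :
          Subgroup ↥(Subgroup.centralizer ((P : Subgroup G) : Set G))) :
            Set ↥(Subgroup.centralizer ((P : Subgroup G) : Set G))) = ⊤ := by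
    have : Subgroup.centralizer
        (((P : Subgroup G).subgroupOf (Subgroup.centralizer ((P : Subgroup G) : Set G)) :
          Subgroup ↥(Subgroup.centralizer ((P : Subgroup G) : Set G))) :
            Set ↥(Subgroup.centralizer ((P : Subgroup G) : Set G))) = ⊤ := by
      rw [eq_top_iff]
      intro c _
      rw [Subgroup.mem_centralizer_iff]
      intro y hy
      have hy' : (y : G) ∈ (P : Subgroup G) := hy
      have hc := c.2
      rw [Subgroup.mem_centralizer_iff] at hc
      apply Subtype.ext
      exact hc (y : G) hy'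
    rw [this, sup_top_eq]
  obtain ⟨⟨θ, ⟨hθb, hθP⟩, _⟩, _, _⟩ := Cfsg.Agent.S0968.result p M hM
    ((P : Subgroup G).subgroupOf (Subgroup.centralizer ((P : Subgroup G) : Set G))) hP' hG' b
    hb hbD
  have h0 : RootHyp p M P B b θ (stabT P θ) :=
    { hM := hM
      card_P := hP
      hB := hB
      hBP := hBP
      hind := hind
      hθ := hθb
      hθP := fun x hx => hθP x hx
      hT := fun g => mem_stabT P θ g }
  obtain ⟨hbeq, -, -⟩ := rootHyp_normalize h0
  refine ⟨θ, ?_⟩
  rw [← hbeq]
  exact h0

end root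

end Cfsg.Agent.Lib.helper7.BD
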