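import Mathlib
import Cfsg.Agent.Lib.helper7.BD.Defs
import Cfsg.Agent.Lib.helper7.BD.D1Defs
import Cfsg.Agent.Lib.helper7.BD.D1Defs3
import Cfsg.Agent.Lib.Helper10.BDCHARS
import Cfsg.Agent.Lib.Helper24.StabIndex2
import Cfsg.Agent.Lib.Helper24.ExtFirstMain3
import Cfsg.Agent.Lib.helper7.BlockDefGrp
import Cfsg.Agent.Lib.helper7.SecondMain3
import Cfsg.Agent.S0919
import Cfsg.Agent.S0912

/-!
# Project BD, stage B, wave 5, piece CANONB : `canon_exists_block`
-/

set_option autoImplicit false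
set_option linter.unusedVariables false
set_option linter.unusedSectionVars false
set_option linter.style.haveILetI false

namespace Cfsg.Agent.Lib.helper7.BD

open Cfsg.Agent.Lib.helper7

universe u

section root

variable {G : Type u} [Group G] [Fintype G] {M : Ideal Cfsg.AlgInt} {p : ℕ} [Fact p.Prime]

/-- CANONB : every canonical character belongs to a root of a unique block with defect group `P` -/
theorem canon_exists_block (hM : Cfsg.IsPModular p M) (P : Sylow p G) (hP : Nat.card P = p)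
    (θ : Cfsg.IrrCharacter (Subgroup.centralizer ((P : Subgroup G) : Set G))) (hθ : θ ∈ canonSet P) :
    ∃! B : Set (Cfsg.IrrCharacter G), B ∈ {B : Set (Cfsg.IrrCharacter G) |
        Cfsg.IsPBlock M B ∧ Cfsg.IsDefectGroup p M B (P : Subgroup G)} ∧
      Cfsg.IsInducedBlock M (Subgroup.centralizer ((P : Subgroup G) : Set G))
        (Cfsg.blockOf M (θ : ↥(Subgroup.centralizer ((P : Subgroup G) : Set G)) → ℂ)) B := by
  classical
  have hp : p.Prime := Fact.out
  have hPr : M.IsPrime := hM.2.1.isPrime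
  haveI : Fintype (Cfsg.IrrCharacter G) := Fintype.ofFinite _
  haveI : Fintype ↥(Subgroup.centralizer ((P : Subgroup G) : Set G)) := Fintype.ofFinite _
  haveI : Fintype (Cfsg.IrrCharacter ↥(Subgroup.centralizer ((P : Subgroup G) : Set G))) :=
    Fintype.ofFinite _
  have hPC : (P : Subgroup G) ≤ Subgroup.centralizer ((P : Subgroup G) : Set G) :=
    bdchars_le_centralizer (P : Subgroup G) hP
  have hPg : IsPGroup p (P : Subgroup G) := P.isPGroup'
  have hb : Cfsg.IsPBlock M
      (Cfsg.blockOf M (θ : ↥(Subgroup.centralizer ((P : Subgroup G) : Set G)) → ℂ)) := ⟨θ, rfl⟩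
  obtain ⟨B, hind⟩ := Cfsg.Agent.S0919.result p M hM (P : Subgroup G)
    (Subgroup.centralizer ((P : Subgroup G) : Set G)) hPg hPC le_rfl
    (Subgroup.centralizer_le_normalizer _) _ hb
  -- a defect group of `b`
  obtain ⟨D, hD⟩ := Cfsg.Agent.Lib.Helper24.si_exists_defect hM _ hb
  have hcore : Cfsg.pCore p ↥(Subgroup.centralizer ((P : Subgroup G) : Set G)) ≤ D :=
    Cfsg.Agent.S0912.result p M hM _ hb D hD
  have hPn : ((P : Subgroup G).subgroupOf
      (Subgroup.centralizer ((P : Subgroup G) : Set G))).Normal := by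
    constructor
    intro y hy c
    have hy' : (y : G) ∈ (P : Subgroup G) := hy
    have hc := c.2
    rw [Subgroup.mem_centralizer_iff] at hc
    have h1 : c * y * c⁻¹ = y := by
      apply Subtype.ext
      show (c : G) * (y : G) * (c : G)⁻¹ = (y : G)
      rw [← hc (y : G) hy', mul_assoc, mul_inv_cancel, mul_one]
    rw [h1]
    exact hy
  have hPD : (P : Subgroup G).subgroupOf (Subgroup.centralizer ((P : Subgroup G) : Set G)) ≤ D := by
    refine le_trans ?_ hcore
    unfold Cfsg.pCore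
    exact le_sSup ⟨hPn, hPg.comap_subtype⟩
  -- the block `B`
  obtain ⟨-, hBblk, hcong⟩ := id hind
  obtain ⟨χ₀, hBχ⟩ := id hBblk
  have hθb : θ ∈ Cfsg.blockOf M (θ : ↥(Subgroup.centralizer ((P : Subgroup G) : Set G)) → ℂ) :=
    h7_sameBlock_refl hPr _
  have hχB : χ₀ ∈ B := by
    rw [hBχ]
    exact h7_sameBlock_refl hPr _
  obtain ⟨E, hE, hDE⟩ := h7_induced_defect_le hM (Subgroup.centralizer ((P : Subgroup G) : Set G)) θ χ₀
    (fun g => hcong θ hθb χ₀ hχB g) D hD
  have hPE : (P : Subgroup G) ≤ E := by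
    intro x hx
    apply hDE
    exact ⟨⟨x, hPC hx⟩, hPD hx, rfl⟩
  have hEp : IsPGroup p E := Cfsg.Agent.Lib.Helper24.ef_isPGroup_of_defect hE
  have hEP : E = (P : Subgroup G) := P.is_maximal' hEp hPE
  have hBP : Cfsg.IsDefectGroup p M B (P : Subgroup G) := by
    rw [hBχ, ← hEP]
    exact hE
  refine ⟨B, ⟨⟨hBblk, hBP⟩, hind⟩, ?_⟩
  rintro B' ⟨-, hind'⟩
  exact h7_induced_unique hPr _ _ B' B hind' hind

end root

end Cfsg.Agent.Lib.helper7.BD
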