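import Mathlib
import Cfsg.Agent.Lib.Helper10.PGM.Defs
import Cfsg.Agent.Lib.helper15.UBlk
import Cfsg.Agent.Lib.Helper24.PGME1
import Cfsg.Agent.Lib.Helper24.PGME2
import Cfsg.Agent.Lib.Helper24.PGME5
import Cfsg.Agent.Lib.Helper24.PGME7
import Cfsg.Agent.Lib.Helper24.PGME8

/-! PGM rows E11 / E12 (helper4): cores on the statement of E3 (`odd_torus`). -/

set_option autoImplicit false

namespace Cfsg.Agent.Lib.Helper10.PGM

open Matrix Cfsg.Agent.Lib.helper15.UNat Cfsg.Agent.Lib.helper15.UBlk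

universe u

/-- generic: `blk Y Z` with `Y^t = 1 ↔ a ∣ t` and `Z^t = c • 1 ↔ c = 1 ∧ b ∣ t`, `a`, `b` coprime -/
theorem pgme11_gen {F : Type*} [Field F] [Fintype F] {q k r : ℕ} (hF : Fintype.card F = q ^ 2)
    (Y : Matrix (Fin k) (Fin k) F) (Z : Matrix (Fin r) (Fin r) F) (hY : SelfDual q Y) (hZ : SelfDual q Z)
    (a b : ℕ) (ha : 0 < a) (hb : 0 < b) (hab : Nat.Coprime a b) (hkr : 1 ≤ k + r)
    (hYord : ∀ t : ℕ, Y ^ t = 1 ↔ a ∣ t)
    (hZord : ∀ (t : ℕ) (c : F), Z ^ t = c • 1 ↔ (c = 1 ∧ b ∣ t)) :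
    ∃ g : PGU (k + r) F q, orderOf g = a * b := by
  refine exists_of_selfdual hF hkr (blk Y Z) (selfdual_blk hF Y Z hY hZ) (a * b) (Nat.mul_pos ha hb) ?_
  intro t
  constructor
  · rintro ⟨c, hc⟩
    rw [blk_scalar_iff] at hc
    obtain ⟨h1, h2⟩ := hc
    obtain ⟨hc1, hbt⟩ := (hZord t c).mp h2
    rw [hc1, one_smul] at h1
    exact Nat.Coprime.mul_dvd_of_dvd_of_dvd hab ((hYord t).mp h1) hbt
  · intro h
    refine ⟨1, ?_⟩
    rw [blk_scalar_iff]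
    refine ⟨?_, (hZord t 1).mpr ⟨rfl, dvd_trans (dvd_mul_left b a) h⟩⟩
    rw [one_smul]
    exact (hYord t).mpr (dvd_trans (dvd_mul_right a b) h)

/-- E11 core: on the statement of E3 -/
theorem pgme11_core {F : Type*} [Field F] [Fintype F] (q k : ℕ)
    (hF : Fintype.card F = q ^ 2)
    (hE3 : ∃ Y : Matrix (Fin k) (Fin k) F, SelfDual q Y ∧ ∀ t : ℕ, Y ^ t = 1 ↔ (q ^ k + 1) ∣ t) :
    ∃ g : PGU (k + 1) F q, orderOf g = q ^ k + 1 := by
  obtain ⟨Y, hY, hYord⟩ := hE3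
  have h := pgme11_gen hF Y (1 : Matrix (Fin 1) (Fin 1) F) hY (one_block q).1 (q ^ k + 1) 1
    (Nat.succ_pos _) Nat.one_pos (Nat.coprime_one_right _) (Nat.le_add_left 1 k) hYord
    (fun t c => by rw [(one_block (F := F) q).2 t c]; simp)
  rw [mul_one] at h
  exact h

/-- E12 core: on the statement of E3 -/
theorem pgme12_core {F : Type*} [Field F] [Fintype F] (k : ℕ) [CharP F 2]
    (hF : Fintype.card F = 2 ^ 2) (hk : Odd k)
    (hE3 : ∃ Y : Matrix (Fin k) (Fin k) F, SelfDual 2 Y ∧ ∀ t : ℕ, Y ^ t = 1 ↔ (2 ^ k + 1) ∣ t) :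
    ∃ g : PGU (k + 3) F 2, orderOf g = 4 * (2 ^ k + 1) := by
  obtain ⟨Y, hY, hYord⟩ := hE3
  have hodd : Odd (2 ^ k + 1) := by
    obtain ⟨m, rfl⟩ := hk
    exact ⟨2 ^ (2 * m), by rw [pow_succ]; ring⟩
  have hcop : Nat.Coprime (2 ^ k + 1) 4 := by
    have h2 : Nat.Coprime (2 ^ k + 1) 2 := Nat.coprime_two_right.mpr hodd
    have : Nat.Coprime (2 ^ k + 1) (2 ^ 2) := Nat.Coprime.pow_right 2 h2
    simpa using this
  have h := pgme11_gen hF Y (!![1, 1, 0; 0, 1, 1; 0, 0, 1] : Matrix (Fin 3) (Fin 3) F) hY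
    (j3_block (F := F) 2 (by norm_num)).1 (2 ^ k + 1) 4
    (Nat.succ_pos _) (by norm_num) hcop (by omega) hYord (j3_block (F := F) 2 (by norm_num)).2
  rw [mul_comm] at h
  exact h

end Cfsg.Agent.Lib.Helper10.PGM
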