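import Mathlib
import Cfsg.Agent.Lib.Helper10.PGM.Defs
import Cfsg.Agent.Lib.helper15.UBlk
import Cfsg.Agent.Lib.helper4.PGME11core
import Cfsg.Agent.Lib.Helper10.PGME3

/-! PGM row E11 (`lower_even_big`), helper4. -/

set_option autoImplicit false

namespace Cfsg.Agent.Lib.Helper10.PGM

open Matrix Cfsg.Agent.Lib.helper15.UNat Cfsg.Agent.Lib.helper15.UBlk

universe u

/-- E11 : `d = k+1`, `k` odd, order `q^k + 1` -/
theorem lower_even_big {F : Type*} [Field F] [Fintype F] (p f q k : ℕ) [Fact p.Prime]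
    [CharP F p] (hq : q = p ^ f) (hF : Fintype.card F = q ^ 2) (hk : Odd k) :
    ∃ g : PGU (k + 1) F q, orderOf g = q ^ k + 1 :=
  pgme11_core q k hF (odd_torus p f q k hq hF hk)

end Cfsg.Agent.Lib.Helper10.PGM
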