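import Mathlib
import Cfsg.Agent.Lib.Helper10.PGM.Defs
import Cfsg.Agent.Lib.helper15.UBlk
import Cfsg.Agent.Lib.helper4.PGME11core
import Cfsg.Agent.Lib.Helper10.PGME3

/-! PGM row E12 (`lower_even_two`), helper4. -/

set_option autoImplicit false

namespace Cfsg.Agent.Lib.Helper10.PGM

open Matrix Cfsg.Agent.Lib.helper15.UNat Cfsg.Agent.Lib.helper15.UBlk

universe u

/-- E12 : `q = 2`, `d = k+3`, `k` odd, order `4 (2^k + 1)` -/
theorem lower_even_two {F : Type*} [Field F] [Fintype F] (k : ℕ) [CharP F 2]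
    (hF : Fintype.card F = 2 ^ 2) (hk : Odd k) :
    ∃ g : PGU (k + 3) F 2, orderOf g = 4 * (2 ^ k + 1) :=
  pgme12_core k hF hk (odd_torus 2 1 2 k (by norm_num) hF hk)

end Cfsg.Agent.Lib.Helper10.PGM
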