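import Mathlib
import Cfsg.Agent.Lib.Helper18.BLK.Defs
import Cfsg.Agent.Lib.Helper20.BLKS0

/-!
# BLK pieces S1 (index_C), S1b (exists_pow_mul), S2 (z₀_mem_commutator), CN (card_facts)
-/

set_option autoImplicit false

open scoped commutatorElement

namespace Cfsg.Agent.Lib.Helper18.BLK

universe u

section
set_option linter.unusedSectionVars false

variable {G : Type*} [Group G] [Finite G] {p : ℕ} [Fact p.Prime] {E : Subgroup G} {z₀ : G}

/-- `rc e g` is central for `e ∈ E`. -/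
theorem blkS1_rc_center (B : Base p E z₀) (e : G) (he : e ∈ E) (g : G) :
    rc e g ∈ Subgroup.center G :=
  (Subgroup.zpowers_le.2 B.z₀c) (B.rc_mem_Z e he g)

/-- the commutator homomorphism `g ↦ rc e₁ g`. -/
def blkS1_phi (B : Base p E z₀) (e₁ : G) (he₁ : e₁ ∈ E) : G →* G :=
  MonoidHom.mk' (fun g => rc e₁ g) (by
    intro g h
    have hgc : rc e₁ g ∈ Subgroup.center G := blkS1_rc_center B e₁ he₁ g
    have hc := Subgroup.mem_center_iff.mp hgc
    show rc e₁ (g * h) = rc e₁ g * rc e₁ h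
    rw [rc_mul_right]
    have h1 : h⁻¹ * rc e₁ g * h = rc e₁ g := by
      rw [mul_assoc, ← hc h, inv_mul_cancel_left]
    rw [h1]
    exact hc (rc e₁ h))

theorem blkS1_phi_apply (B : Base p E z₀) (e₁ : G) (he₁ : e₁ ∈ E) (g : G) :
    blkS1_phi B e₁ he₁ g = rc e₁ g := rfl

theorem blkS1_ker (B : Base p E z₀) (e₁ : G) (he₁ : e₁ ∈ E)
    (he₁z : e₁ ∉ Subgroup.zpowers z₀) :
    (blkS1_phi B e₁ he₁).ker = Subgroup.centralizer (E : Set G) := by
  ext g
  rw [MonoidHom.mem_ker, blkS1_phi_apply, rc_eq_one_iff, Subgroup.mem_centralizer_iff]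
  constructor
  · intro h e he
    obtain ⟨i, j, rfl⟩ := B.E_eq e₁ he₁ he₁z e he
    have hz : Commute z₀ g := (Subgroup.mem_center_iff.mp B.z₀c g).symm
    have he1 : Commute e₁ g := h
    exact ((hz.pow_left i).mul_left (he1.pow_left j)).eq
  · intro h
    exact h e₁ he₁

theorem blkS1_exists_ne (B : Base p E z₀) (e₁ : G) (he₁ : e₁ ∈ E)
    (he₁z : e₁ ∉ Subgroup.zpowers z₀) : ∃ g : G, rc e₁ g ≠ 1 := by
  by_contra hcon
  push_neg at hcon
  apply he₁z
  apply B.cent e₁ he₁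
  rw [Subgroup.mem_center_iff]
  intro g
  exact ((rc_eq_one_iff e₁ g).1 (hcon g)).symm

theorem blkS1_card_zpowers (B : Base p E z₀) : Nat.card (Subgroup.zpowers z₀) = p := by
  rw [Nat.card_zpowers, B.z₀o]

/-- a nontrivial element of `Z` generates `Z`. -/
theorem blkS1_zpowers_eq (B : Base p E z₀) (r : G) (hr : r ∈ Subgroup.zpowers z₀) (hr1 : r ≠ 1) :
    Subgroup.zpowers r = Subgroup.zpowers z₀ := by
  have hp : p.Prime := Fact.out
  have hle : Subgroup.zpowers r ≤ Subgroup.zpowers z₀ := Subgroup.zpowers_le.2 hr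
  apply Subgroup.eq_of_le_of_card_ge hle
  have hdvd : Nat.card (Subgroup.zpowers r) ∣ p := by
    rw [← blkS1_card_zpowers B]
    exact Subgroup.card_dvd_of_le hle
  rcases (Nat.dvd_prime hp).1 hdvd with h | h
  · exfalso
    apply hr1
    have := Subgroup.eq_bot_of_card_eq _ h
    rw [Subgroup.zpowers_eq_bot] at this
    exact this
  · rw [h, blkS1_card_zpowers B]

end

/-- **S1**. `|G : C| = p`. -/
theorem Base.index_C {G : Type*} [Group G] [Finite G] {p : ℕ} [Fact p.Prime] {E : Subgroup G}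
    {z₀ : G} (B : Base p E z₀) : (Subgroup.centralizer (E : Set G)).index = p := by
  obtain ⟨e₁, he₁, he₁z⟩ := B.exists_e1
  rw [← blkS1_ker B e₁ he₁ he₁z, Subgroup.index_ker]
  obtain ⟨g, hg⟩ := blkS1_exists_ne B e₁ he₁ he₁z
  have hle : (blkS1_phi B e₁ he₁).range ≤ Subgroup.zpowers z₀ := by
    rintro _ ⟨h, rfl⟩
    exact B.rc_mem_Z e₁ he₁ h
  have hge : Subgroup.zpowers z₀ ≤ (blkS1_phi B e₁ he₁).range := by
    rw [← blkS1_zpowers_eq B (rc e₁ g) (B.rc_mem_Z e₁ he₁ g) hg, Subgroup.zpowers_le]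
    exact ⟨g, rfl⟩
  rw [le_antisymm hle hge, blkS1_card_zpowers B]

/-- **S1b**. `G = ⟨x⟩ C` for `x ∉ C`. -/
theorem Base.exists_pow_mul {G : Type*} [Group G] [Finite G] {p : ℕ} [Fact p.Prime]
    {E : Subgroup G} {z₀ : G} (B : Base p E z₀) (x : G)
    (hx : x ∉ Subgroup.centralizer (E : Set G)) (g : G) :
    ∃ i : ℕ, ∃ c ∈ Subgroup.centralizer (E : Set G), g = x ^ i * c := by
  obtain ⟨e₁, he₁, he₁z⟩ := B.exists_e1
  have hker := blkS1_ker B e₁ he₁ he₁z
  set φ := blkS1_phi B e₁ he₁ with hφ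
  have hx1 : φ x ≠ 1 := by
    intro h
    apply hx
    rw [← hker]
    exact h
  have hxZ : φ x ∈ Subgroup.zpowers z₀ := B.rc_mem_Z e₁ he₁ x
  have hgZ : φ g ∈ Subgroup.zpowers z₀ := B.rc_mem_Z e₁ he₁ g
  rw [← blkS1_zpowers_eq B (φ x) hxZ hx1] at hgZ
  rw [← mem_powers_iff_mem_zpowers] at hgZ
  obtain ⟨n, hn⟩ := hgZ
  refine ⟨n, (x ^ n)⁻¹ * g, ?_, by group⟩
  rw [← hker, MonoidHom.mem_ker, map_mul, map_inv, map_pow]
  have hn' : φ x ^ n = φ g := hn
  rw [hn', inv_mul_cancel]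

/-- **S2**. `z₀ ∈ G'`. -/
theorem Base.z₀_mem_commutator {G : Type*} [Group G] [Finite G] {p : ℕ} [Fact p.Prime]
    {E : Subgroup G} {z₀ : G} (B : Base p E z₀) : z₀ ∈ commutator G := by
  obtain ⟨e₁, he₁, he₁z⟩ := B.exists_e1
  obtain ⟨g, hg⟩ := blkS1_exists_ne B e₁ he₁ he₁z
  have hmem : rc e₁ g ∈ commutator G := by
    have h1 : rc e₁ g = ⁅e₁⁻¹, g⁻¹⁆ := by
      rw [commutatorElement_def, rc_def, inv_inv, inv_inv]
    rw [h1, commutator_def]
    exact Subgroup.commutator_mem_commutator (Subgroup.mem_top _) (Subgroup.mem_top _)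
  have hle : Subgroup.zpowers (rc e₁ g) ≤ commutator G := Subgroup.zpowers_le.2 hmem
  apply hle
  rw [blkS1_zpowers_eq B (rc e₁ g) (B.rc_mem_Z e₁ he₁ g) hg]
  exact Subgroup.mem_zpowers z₀

/-- **CN**. `p³ ≤ |G|`, and if `p⁴ ≤ |G|` then `C ≠ E`. -/
theorem Base.card_facts {G : Type u} [Group G] [Finite G] {p : ℕ} [Fact p.Prime]
    {E : Subgroup G} {z₀ : G} (B : Base p E z₀) (n : ℕ) (hn : Nat.card G = p ^ n) :
    3 ≤ n ∧ (4 ≤ n → ∃ c ∈ Subgroup.centralizer (E : Set G), c ∉ E) := by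
  have hp : p.Prime := Fact.out
  have hp1 : 1 < p := hp.one_lt
  have hidx := B.index_C
  have hmul : (Subgroup.centralizer (E : Set G)).index *
      Nat.card (Subgroup.centralizer (E : Set G)) = Nat.card G := Subgroup.index_mul_card _
  rw [hidx, hn] at hmul
  have hEC : E ≤ Subgroup.centralizer (E : Set G) := by
    intro e he
    rw [Subgroup.mem_centralizer_iff]
    intro h hh
    exact B.cE h hh e he
  have hcard : p ^ 2 ≤ Nat.card (Subgroup.centralizer (E : Set G)) := by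
    rw [← B.cardE]
    exact Subgroup.card_le_of_le hEC
  have h3 : 3 ≤ n := by
    have : p ^ 3 ≤ p ^ n := by
      rw [← hmul]
      calc p ^ 3 = p * p ^ 2 := by ring
        _ ≤ p * Nat.card (Subgroup.centralizer (E : Set G)) := Nat.mul_le_mul_left _ hcard
    exact (Nat.pow_le_pow_iff_right hp1).1 this
  refine ⟨h3, ?_⟩
  intro h4
  by_contra hcon
  push_neg at hcon
  have hCE : Subgroup.centralizer (E : Set G) ≤ E := fun c hc => hcon c hc
  have hle : Nat.card (Subgroup.centralizer (E : Set G)) ≤ p ^ 2 := by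
    rw [← B.cardE]
    exact Subgroup.card_le_of_le hCE
  have : p ^ 4 ≤ p ^ 3 := by
    calc p ^ 4 ≤ p ^ n := Nat.pow_le_pow_right hp.pos h4
      _ = p * Nat.card (Subgroup.centralizer (E : Set G)) := hmul.symm
      _ ≤ p * p ^ 2 := Nat.mul_le_mul_left _ hle
      _ = p ^ 3 := by ring
  have := (Nat.pow_le_pow_iff_right hp1).1 this
  omega

end Cfsg.Agent.Lib.Helper18.BLK
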