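import Mathlib
import Cfsg.Agent.Lib.Helper18.BLK.Defs
import Cfsg.Agent.Lib.Helper1.Nilp

/-!
# BLK piece SB : existence of `z₀` generating `E ∩ Z(G)`
-/

set_option autoImplicit false

namespace Cfsg.Agent.Lib.Helper18.BLK

/-- **SB**. existence of `z₀`. -/
theorem exists_base {G : Type*} [Group G] [Finite G] {p : ℕ} [Fact p.Prime] (hp2 : p ≠ 2)
    (hG : IsPGroup p G) (hrk : Cfsg.PRankLE p 2 G) (E : Subgroup G) (hEn : E.Normal)
    (hE : Cfsg.IsElementaryAbelian p E) (hEc : Nat.card E = p ^ 2)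
    (hnc : ¬ E ≤ Subgroup.center G) : ∃ z₀ : G, Base p E z₀ := by
  classical
  have hp : p.Prime := Fact.out
  haveI : Group.IsNilpotent G := hG.isNilpotent
  obtain ⟨hEcomm, hEexp⟩ := hE
  -- E ≠ ⊥
  have hEbot : E ≠ ⊥ := by
    intro h
    apply hnc
    rw [h]
    exact bot_le
  have hZne : E ⊓ Subgroup.center G ≠ ⊥ :=
    Cfsg.Agent.Lib.Helper1.normal_inf_center_ne_bot E hEbot
  set Z : Subgroup G := E ⊓ Subgroup.center G with hZ
  have hZE : Z ≤ E := inf_le_left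
  have hdvd : Nat.card Z ∣ p ^ 2 := by
    rw [← hEc]
    exact Subgroup.card_dvd_of_le hZE
  obtain ⟨k, hk2, hk⟩ := (Nat.dvd_prime_pow hp).1 hdvd
  have hk1 : k = 1 := by
    have h0 : k ≠ 0 := by
      intro h0
      rw [h0, pow_zero] at hk
      exact hZne (Subgroup.eq_bot_of_card_eq Z hk)
    have h2 : k ≠ 2 := by
      intro h2
      rw [h2] at hk
      have : Z = E := Subgroup.eq_of_le_of_card_ge hZE (by rw [hk, hEc])
      apply hnc
      rw [← this]
      exact inf_le_right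
    omega
  rw [hk1, pow_one] at hk
  -- pick a nontrivial element
  obtain ⟨z₀, hz₀Z, hz₀1⟩ : ∃ z ∈ Z, z ≠ 1 := by
    by_contra hcon
    push_neg at hcon
    apply hZne
    rw [Subgroup.eq_bot_iff_forall]
    exact hcon
  have hz₀E : z₀ ∈ E := hZE hz₀Z
  have hz₀c : z₀ ∈ Subgroup.center G := (inf_le_right : Z ≤ _) hz₀Z
  have hord : orderOf z₀ = p := by
    have h1 : orderOf z₀ ∣ p := orderOf_dvd_of_pow_eq_one (hEexp z₀ hz₀E)
    rcases (Nat.dvd_prime hp).1 h1 with h | h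
    · exact absurd (orderOf_eq_one_iff.1 h) hz₀1
    · exact h
  have hzp : Subgroup.zpowers z₀ = Z := by
    apply Subgroup.eq_of_le_of_card_ge
    · rw [Subgroup.zpowers_le]
      exact hz₀Z
    · rw [Nat.card_zpowers, hord, hk]
  refine ⟨z₀, ⟨hp2, hG, hrk, hEn, ?_, hEexp, hEc, hz₀E, hz₀c, hord, ?_⟩⟩
  · intro a ha b hb
    have := hEcomm.is_comm.comm (⟨a, ha⟩ : E) ⟨b, hb⟩
    exact congrArg Subtype.val this
  · intro e he hec
    rw [hzp]
    exact ⟨he, hec⟩

end Cfsg.Agent.Lib.Helper18.BLK
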