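import Mathlib
import Cfsg.Agent.Lib.Helper10.RES.Defs
import Cfsg.Agent.Lib.Helper22.RESAux
import Cfsg.Agent.Lib.Helper25.RESGA1
import Cfsg.Agent.Lib.Helper25.RESGA3
import Cfsg.Agent.Lib.Helper25.RESGA4
import Cfsg.Agent.Lib.Helper25.RESGA5
import Cfsg.Agent.Lib.Helper22.RESGZ4
import Cfsg.Agent.Lib.Helper22.RESGQ1a
import Cfsg.Agent.Lib.Helper19.RESGC

/-!
# Project RES, piece GM2 : `F2Set.Mk_z`
-/

set_option autoImplicit false
set_option linter.unusedVariables false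
set_option linter.unusedSectionVars false

namespace Cfsg.Agent.Lib.Helper10.RES

open Cfsg

variable {Ω : Type*} [Group Ω]

section G
variable {p n s : ℕ} [Fact p.Prime] {S : Subgroup Ω} {x y z : Ω}

/-- `(x c)^m ∈ x^m c^m T` for `c ∈ S` -/
theorem F2Set.resgm2_pow_mod_T (hF : F2Set p n s S x y z) (c : Ω) (hc : c ∈ S) (m : ℕ) :
    ∃ t ∈ TT p y z, (x * c) ^ m = x ^ m * c ^ m * t := by
  obtain ⟨hZT, hTA, hSS, hTS, hexp, hzc⟩ := hF.T_facts
  obtain ⟨hx, hy, hz, hA⟩ := hF.mems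
  have hTn := hF.resgq1a_T_normal
  induction m with
  | zero => exact ⟨1, (TT p y z).one_mem, by simp⟩
  | succ m ih =>
    obtain ⟨t, ht, h⟩ := ih
    have htS : t ∈ S := hA (hTA ht)
    have hgS : c ^ m * t ∈ S := S.mul_mem (S.pow_mem hc m) htS
    -- t' = g⁻¹ (x⁻¹ g x)
    have ht' : (c ^ m * t)⁻¹ * (x⁻¹ * (c ^ m * t) * x⁻¹⁻¹) ∈ TT p y z :=
      hSS (c ^ m * t) hgS x⁻¹ (S.inv_mem hx)
    have ht'' : c⁻¹ * (t * ((c ^ m * t)⁻¹ * (x⁻¹ * (c ^ m * t) * x⁻¹⁻¹))) * c⁻¹⁻¹ ∈ TT p y z :=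
      hTn c⁻¹ (S.inv_mem hc) _ ((TT p y z).mul_mem ht ht')
    refine ⟨_, ht'', ?_⟩
    rw [pow_succ, h, pow_succ, pow_succ]
    group

/-- `(x z^k)^p ∈ T` -/
theorem F2Set.resgm2_pow_p_mem (hF : F2Set p n s S x y z) (k : ℕ) :
    (x * z ^ k) ^ p ∈ TT p y z := by
  obtain ⟨hx, hy, hz, hA⟩ := hF.mems
  obtain ⟨t, ht, h⟩ := hF.resgm2_pow_mod_T (z ^ k) (S.pow_mem hz k) p
  rw [h, hF.xp, one_mul, ← pow_mul, mul_comm k p, pow_mul]
  refine (TT p y z).mul_mem ((TT p y z).pow_mem ?_ k) ht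
  exact Subgroup.subset_closure (by simp)

/-- `(x z^k)^i ∈ T` when `p ∣ i` -/
theorem F2Set.resgm2_pow_mem_of_dvd (hF : F2Set p n s S x y z) (k i : ℕ) (hi : p ∣ i) :
    (x * z ^ k) ^ i ∈ TT p y z := by
  obtain ⟨q, rfl⟩ := hi
  rw [pow_mul]
  exact (TT p y z).pow_mem (hF.resgm2_pow_p_mem k) q

/-- `M_k ≤ S` -/
theorem F2Set.resgm2_Mk_le (hF : F2Set p n s S x y z) (k : ℕ) : MM p x y z k ≤ S := by
  obtain ⟨hx, hy, hz, hA⟩ := hF.mems
  unfold MM
  rw [Subgroup.closure_le]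
  intro q hq
  rcases hq with hq | hq | hq
  · rw [hq]; exact hy
  · rw [hq]; exact S.pow_mem hz p
  · rw [Set.mem_singleton_iff] at hq; rw [hq]; exact S.mul_mem hx (S.pow_mem hz k)

/-- `T ≤ M_k` -/
theorem F2Set.resgm2_T_le (hF : F2Set p n s S x y z) (k : ℕ) : TT p y z ≤ MM p x y z k := by
  unfold TT MM
  apply Subgroup.closure_mono
  intro t ht
  rcases ht with ht | ht
  · rw [ht]; simp
  · rw [Set.mem_singleton_iff] at ht; rw [ht]; simp

/-- the elements of `M_k` are the `(x z^k)^i t` -/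
theorem F2Set.resgm2_form (hF : F2Set p n s S x y z) (k : ℕ) :
    ∀ q ∈ MM p x y z k, ∃ i : ℕ, ∃ t ∈ TT p y z, q = (x * z ^ k) ^ i * t := by
  have hp := (Fact.out : p.Prime)
  obtain ⟨hx, hy, hz, hA⟩ := hF.mems
  have hTn := hF.resgq1a_T_normal
  have hwS : x * z ^ k ∈ S := S.mul_mem hx (S.pow_mem hz k)
  haveI : Finite ↥S := Nat.finite_of_card_ne_zero (by rw [hF.card]; exact (pow_pos hp.pos n).ne')
  -- `w` has finite order
  have hfin : IsOfFinOrder (x * z ^ k) := by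
    have h1 : IsOfFinOrder (⟨x * z ^ k, hwS⟩ : ↥S) := isOfFinOrder_of_finite _
    have h2 := (S.subtype).isOfFinOrder h1
    exact h2
  have hN : 0 < orderOf (x * z ^ k) := hfin.orderOf_pos
  intro q hq
  unfold MM at hq
  induction hq using Subgroup.closure_induction with
  | mem c hc =>
    rcases hc with hc | hc | hc
    · exact ⟨0, c, by rw [hc]; exact Subgroup.subset_closure (by simp), by simp⟩
    · exact ⟨0, c, by rw [hc]; exact Subgroup.subset_closure (by simp), by simp⟩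
    · rw [Set.mem_singleton_iff] at hc
      exact ⟨1, 1, (TT p y z).one_mem, by rw [hc]; simp⟩
  | one => exact ⟨0, 1, (TT p y z).one_mem, by simp⟩
  | mul a b _ _ iha ihb =>
    obtain ⟨i, t, ht, rfl⟩ := iha
    obtain ⟨i', t', ht', rfl⟩ := ihb
    refine ⟨i + i', (((x * z ^ k) ^ i')⁻¹ * t * ((x * z ^ k) ^ i')⁻¹⁻¹) * t', ?_, ?_⟩
    · exact (TT p y z).mul_mem (hTn _ (S.inv_mem (S.pow_mem hwS i')) t ht) ht'
    · rw [pow_add]; group
  | inv a _ iha =>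
    obtain ⟨i, t, ht, rfl⟩ := iha
    refine ⟨i * (orderOf (x * z ^ k) - 1), (x * z ^ k) ^ i * t⁻¹ * ((x * z ^ k) ^ i)⁻¹, ?_, ?_⟩
    · exact hTn _ (S.pow_mem hwS i) _ ((TT p y z).inv_mem ht)
    · have hwi : ((x * z ^ k) ^ i)⁻¹ = (x * z ^ k) ^ (i * (orderOf (x * z ^ k) - 1)) := by
        apply inv_eq_of_mul_eq_one_right
        rw [← pow_add]
        have h1 : i + i * (orderOf (x * z ^ k) - 1) = orderOf (x * z ^ k) * i := by
          obtain ⟨N', hN'⟩ : ∃ N', orderOf (x * z ^ k) = N' + 1 := ⟨orderOf (x * z ^ k) - 1, by omega⟩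
          rw [hN']
          simp
          ring
        rw [h1, pow_mul, pow_orderOf_eq_one, one_pow]
      rw [← hwi]; group

/-- **GM2**. `z` normalizes `M_k` and is not in it; `T ≤ M_k ≤ S`. -/
theorem F2Set.Mk_z (hF : F2Set p n s S x y z) (k : ℕ) :
    z ∈ Subgroup.normalizer (MM p x y z k : Set Ω) ∧ z ∉ MM p x y z k ∧
      TT p y z ≤ MM p x y z k ∧ MM p x y z k ≤ S := by
  have hp := (Fact.out : p.Prime)
  have hn4 := hF.hn4
  obtain ⟨hZT, hTA, hSS, hTS, hexp, hzc⟩ := hF.T_facts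
  obtain ⟨hx, hy, hz, hA⟩ := hF.mems
  have hMS := hF.resgm2_Mk_le k
  have hTM := hF.resgm2_T_le k
  have hconj : ∀ g ∈ S, ∀ q ∈ MM p x y z k, g * q * g⁻¹ ∈ MM p x y z k := by
    intro g hg q hq
    have : g * q * g⁻¹ = q * (q⁻¹ * (g * q * g⁻¹)) := by group
    rw [this]
    exact (MM p x y z k).mul_mem hq (hTM (hSS q (hMS hq) g hg))
  refine ⟨?_, ?_, hTM, hMS⟩
  · rw [Subgroup.mem_normalizer_iff]
    intro h
    constructor
    · exact hconj z hz h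
    · intro hh
      have := hconj z⁻¹ (S.inv_mem hz) _ hh
      have e : z⁻¹ * (z * h * z⁻¹) * z⁻¹⁻¹ = h := by group
      rw [e] at this
      exact this
  · intro hzM
    obtain ⟨i, t, ht, hzt⟩ := hF.resgm2_form k z hzM
    -- `(x z^k)^i = x^i a'`
    have hzkA : z ^ k ∈ AA y z := (AA y z).pow_mem (Subgroup.subset_closure (by simp)) k
    obtain ⟨a', ha', hw⟩ := resgc_pow hF 1 (z ^ k) hzkA i
    rw [pow_one, one_mul] at hw
    have hzA : z ∈ AA y z := Subgroup.subset_closure (by simp)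
    have haA : a' * t * z⁻¹ ∈ AA y z :=
      (AA y z).mul_mem ((AA y z).mul_mem ha' (hTA ht)) ((AA y z).inv_mem hzA)
    obtain ⟨j, m, hjm⟩ := hF.repr.2 _ haA
    have h1 : x ^ i * (y ^ j * z ^ m) = 1 := by
      rw [← hjm]
      have : x ^ i * (a' * t * z⁻¹) = (x ^ i * a') * t * z⁻¹ := by group
      rw [this, ← hw, ← hzt, mul_inv_cancel]
    obtain ⟨hi, -, -⟩ := hF.normal_form i j m h1
    have h2 : (x * z ^ k) ^ i * t ∈ TT p y z :=
      (TT p y z).mul_mem (hF.resgm2_pow_mem_of_dvd k i hi) ht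
    have hzT : z ∈ TT p y z := by
      rw [← hzt] at h2
      exact h2
    obtain ⟨-, -, hTQ, -, hzQ, -⟩ := hF.Q_basic
    exact hzQ (hTQ hzT)

end G

end Cfsg.Agent.Lib.Helper10.RES
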