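import Mathlib
import Cfsg.Agent.Lib.Helper10.RES.Defs
import Cfsg.Agent.Lib.Helper16.RESGA6a
import Cfsg.Agent.Lib.Helper11.RESGZ5
import Cfsg.Agent.Lib.helper4.RESGM2

/-!
# Project RES, piece GM1 : `F2Set.Mk_char`
-/

set_option autoImplicit false
set_option linter.unusedVariables false
set_option linter.unusedSectionVars false

namespace Cfsg.Agent.Lib.Helper10.RES

open Cfsg

variable {Ω : Type*} [Group Ω]

section G
variable {p n s : ℕ} [Fact p.Prime] {S : Subgroup Ω} {x y z : Ω}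

/-- **GM1**. for `p ∤ k`, `T` is the set of elements of `M_k` of order dividing `p^(n-3)`. -/
theorem F2Set.Mk_char (hF : F2Set p n s S x y z) (hp5 : 5 ≤ p) (k : ℕ) (hk : ¬ p ∣ k) (e : Ω)
    (he : e ∈ MM p x y z k) : e ∈ TT p y z ↔ e ^ p ^ (n - 3) = 1 := by
  have hp := (Fact.out : p.Prime)
  have hn4 := hF.hn4
  obtain ⟨hZT, hTA, hSS, hTS, hexp, hzc⟩ := hF.T_facts
  obtain ⟨hx, hy, hz, hA⟩ := hF.mems
  constructor
  · intro heT
    exact hexp e heT
  · intro hpow
    obtain ⟨i, t, ht, rfl⟩ := hF.resgm2_form k e he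
    obtain ⟨t₁, ht₁, hw⟩ := hF.resgm2_pow_mod_T (z ^ k) (S.pow_mem hz k) i
    obtain ⟨j, m, hjm⟩ := hF.resgq1a_T_form (t₁ * t) ((TT p y z).mul_mem ht₁ ht)
    have hyz : Commute y z := hF.yz
    -- normal form of `e`
    have he' : (x * z ^ k) ^ i * t = x ^ i * (y ^ j * z ^ (k * i + p * m)) := by
      rw [hw]
      have h1 : x ^ i * (z ^ k) ^ i * t₁ * t = x ^ i * ((z ^ k) ^ i * (t₁ * t)) := by group
      rw [h1, hjm, pow_add, ← pow_mul, ← pow_mul]
      have h2 : z ^ (k * i) * (y ^ j * z ^ (p * m)) = y ^ j * (z ^ (k * i) * z ^ (p * m)) := by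
        rw [← mul_assoc, ← mul_assoc, ((hyz.pow_pow j (k * i)).eq)]
      rw [h2]
    have hpp : ((x * z ^ k) ^ i * t) ^ p = z ^ ((k * i + p * m) * p) := by
      rw [he']
      exact hF.pow_p hp5 i j (k * i + p * m)
    have e1 : p ^ (n - 3) = p * p ^ (n - 4) := by
      have : n - 3 = (n - 4) + 1 := by omega
      rw [this, pow_succ]
      ring
    have h3 : z ^ ((k * i + p * m) * p ^ (n - 3)) = 1 := by
      rw [e1, ← mul_assoc, pow_mul, ← hpp, ← pow_mul, ← e1]
      exact hpow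
    have h4 : p ^ (n - 2) ∣ (k * i + p * m) * p ^ (n - 3) := by
      rw [← hF.orders.1]
      exact orderOf_dvd_of_pow_eq_one h3
    have e2 : p ^ (n - 2) = p * p ^ (n - 3) := by
      have : n - 2 = (n - 3) + 1 := by omega
      rw [this, pow_succ]
      ring
    rw [e2] at h4
    have h5 : p ∣ k * i + p * m :=
      Nat.dvd_of_mul_dvd_mul_right (pow_pos hp.pos (n - 3)) h4
    have h6 : p ∣ k * i := (Nat.dvd_add_left (dvd_mul_right p m)).1 h5
    have h7 : p ∣ i := by
      rcases hp.dvd_mul.1 h6 with h | h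
      · exact absurd h hk
      · exact h
    exact (TT p y z).mul_mem (hF.resgm2_pow_mem_of_dvd k i h7) ht

end G

end Cfsg.Agent.Lib.Helper10.RES
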