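import Cfsg.Agent.Lib.Helper10.SZC.Defs
import Cfsg.Agent.Lib.helper3.SuzukiPartition
import Cfsg.Agent.Lib.helper3.SuzukiSimple
import Cfsg.Agent.Lib.helper3.SuzukiCard
import Cfsg.Agent.Lib.helper3.SuzukiOddSylow
import Cfsg.Agent.S0881
import Cfsg.Agent.Lib.helper2.CharNat
import Cfsg.Agent.Lib.Helper25.CharQuot

/-!
# SZC row B5 (`sz_ind_irr`): `Ind μ` is irreducible for a non-trivial linear character `μ` of the
Borel subgroup that is trivial on `Qs` (landed S0881 on helper3's Suzuki library).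
-/

set_option autoImplicit false
open scoped ComplexConjugate

namespace Cfsg.Agent.Lib.Helper10.SZC

open Cfsg Cfsg.Agent.Lib.helper3

section Bridge
variable {F : Type*} [Field F] [Fintype F] {m : ℕ}

/-- the two-point stabiliser of `∞` and `0` is the torus -/
theorem h4_szcB5_two_point (hF : Fintype.card F = 2 ^ (2 * m + 1)) (hm : 1 ≤ m) :
    MulAction.stabilizer (Sz F m) (oInf F m) ⊓ MulAction.stabilizer (Sz F m) (oPt m (0 : F) 0) =
      (gDhom hF : Fˣ →* Sz F m).range := by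
  ext g
  simp only [Subgroup.mem_inf, MulAction.mem_stabilizer_iff, MonoidHom.mem_range]
  constructor
  · rintro ⟨h1, h2⟩
    obtain ⟨a, b, k, rfl⟩ := stab_decomp hF hm h1
    rw [mul_smul, gD_oZero] at h2
    have hab : a = 0 ∧ b = 0 := by
      by_contra hab
      exact oPt_ne_oInf (m := m) (0 : F) 0 (gT_fixed hF hab h2)
    refine ⟨k, ?_⟩
    rw [hab.1, hab.2, gT_zero, one_mul]
    rfl
  · rintro ⟨k, rfl⟩
    exact ⟨gD_oInf hF k, gD_oZero hF k⟩

/-- B5 -/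
theorem sz_ind_irr [Fintype (Sz F m)] (hF : Fintype.card F = 2 ^ (2 * m + 1)) (hm : 1 ≤ m)
    (μ : ↥(MulAction.stabilizer (Sz F m) (oInf F m)) →* ℂˣ)
    (hμQ : ∀ u : ↥(MulAction.stabilizer (Sz F m) (oInf F m)), (u : Sz F m) ∈ Qs hF → μ u = 1)
    (hμ : μ ≠ 1) :
    Cfsg.IsIrrCharacter (Sz F m)
      (Cfsg.indFun (MulAction.stabilizer (Sz F m) (oInf F m)) (fun u => ((μ u : ℂˣ) : ℂ))) := by
  classical
  have hq8 : 8 ≤ 2 ^ (2 * m + 1) := by
    calc 8 = 2 ^ 3 := by norm_num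
      _ ≤ 2 ^ (2 * m + 1) := Nat.pow_le_pow_right (by norm_num) (by omega)
  have hΩfin : Finite (suzukiOvoid F m) :=
    Nat.finite_of_card_ne_zero (by rw [card_ovoid hF]; positivity)
  letI : Fintype (suzukiOvoid F m) := Fintype.ofFinite _
  haveI := Sz_isSimple hF hm
  have hcardΩ : Fintype.card (suzukiOvoid F m) = (2 ^ (2 * m + 1)) ^ 2 + 1 := by
    rw [← Nat.card_eq_fintype_card, card_ovoid hF]
  have h2pt := h4_szcB5_two_point hF hm
  have hchar : Cfsg.IsCharacter ↥(MulAction.stabilizer (Sz F m) (oInf F m))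
      (fun u => ((μ u : ℂˣ) : ℂ)) := by
    have h := Cfsg.Agent.Lib.helper2.isCharacter_of_irr (Cfsg.Agent.Lib.Helper25.linIrr μ)
    have e : ((Cfsg.Agent.Lib.Helper25.linIrr μ :
        Cfsg.IrrCharacter ↥(MulAction.stabilizer (Sz F m) (oInf F m))) :
        ↥(MulAction.stabilizer (Sz F m) (oInf F m)) → ℂ) = fun u => ((μ u : ℂˣ) : ℂ) :=
      funext (Cfsg.Agent.Lib.Helper25.linIrr_apply μ)
    rw [e] at h
    exact h
  refine (Cfsg.Agent.S0881.result (Sz_isZassenhaus hm hF) (a := oInf F m) (b := oPt m (0 : F) 0)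
    (oPt_ne_oInf (m := m) (0 : F) 0).symm ?_ ?_ (Qs hF) ?_ ?_ ?_ (fun u => ((μ u : ℂˣ) : ℂ))
    ⟨hchar, by simp⟩ ?_ ?_).1
  · rw [h2pt, card_gDhom_range]
    have h2 : 2 ^ (2 * m + 1) = 2 * 2 ^ (2 * m) := by rw [pow_succ]; ring
    have h3 : 1 ≤ 2 ^ (2 * m) := Nat.one_le_two_pow
    exact ⟨2 ^ (2 * m) - 1, by omega⟩
  · rw [h2pt, card_gDhom_range, hcardΩ]
    have h1 : (2 ^ (2 * m + 1)) ^ 2 = 2 ^ (2 * m + 1) * 2 ^ (2 * m + 1) := sq _
    have h2 : 8 * 2 ^ (2 * m + 1) ≤ 2 ^ (2 * m + 1) * 2 ^ (2 * m + 1) :=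
      Nat.mul_le_mul_right _ hq8
    omega
  · intro g hg
    obtain ⟨a, b, rfl⟩ := (mem_Qs hF).1 hg
    exact gT_oInf hF a b
  · rw [card_Qs, hcardΩ]
  · intro u hu hu1 c hc
    obtain ⟨a, b, rfl⟩ := (mem_Qs hF).1 hu
    have hab : ¬ (a = 0 ∧ b = 0) := by
      rintro ⟨rfl, rfl⟩
      exact hu1 (gT_zero hF)
    exact gT_fixed hF hab hc
  · intro u hu
    rw [hμQ u hu, Units.val_one]
  · intro h
    apply hμ
    ext u
    have := congrFun h u
    simpa using this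

end Bridge

end Cfsg.Agent.Lib.Helper10.SZC
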