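import Cfsg.Agent.Lib.Helper10.SZC.Defs

/-!
# SZC row S10 (`charDegrees_eq`), core: the six degrees.  The statements of L1 (at `Vall D`),
S2, S3, S4 (last clause), S8, S9, P2, P3 are hypotheses.
-/

set_option autoImplicit false
open scoped ComplexConjugate

namespace Cfsg.Agent.Lib.Helper10.SZC

section
variable {G : Type*} [Group G] [Fintype G]
variable {q r : ℕ}

theorem h4_szcS10_charDegree {χ : G → ℂ} {n : ℕ} (h : χ 1 = ((n : ℕ) : ℂ)) :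
    Cfsg.charDegree χ = n := by
  unfold Cfsg.charDegree
  rw [h, Complex.natCast_re, Nat.floor_natCast]

/-- **S10 core**. -/
theorem h4_szcS10_core [Fintype (Cfsg.IrrCharacter G)] (D : SzcData G q r)
    (hL1 : (∀ v ∈ Vall D, ∑ i, v i * v i = 3) →
      (∀ v ∈ Vall D, ∀ w ∈ Vall D, v ≠ w → ∑ i, v i * w i = 2) →
      4 ≤ (Vall D).card → Shape1 (Vall D) ∨ ((Vall D).card = 4 ∧ Shape2 (Vall D)))
    (hS2 : ∀ v : Cfsg.IrrCharacter G → ℤ, v ∈ Vall D → ∑ χ, v χ * v χ = 3)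
    (hS3 : ∀ v w : Cfsg.IrrCharacter G → ℤ, v ∈ Vall D → w ∈ Vall D → v ≠ w →
      ∑ χ, v χ * w χ = 2)
    (hS4 : (Vall D).card = q / 2)
    (hS8 : Shape1 (Vall D) →
      (∀ χ : Cfsg.IrrCharacter G, Cusp D.Q (χ : G → ℂ) →
        (χ : G → ℂ) 1 = (((q - 1) * (r / 2) : ℕ) : ℂ) ∨
        (χ : G → ℂ) 1 = (((q - 1) * aN q r true : ℕ) : ℂ) ∨
        (χ : G → ℂ) 1 = (((q - 1) * aN q r false : ℕ) : ℂ)) ∧
      (∃ χ : Cfsg.IrrCharacter G, (χ : G → ℂ) 1 = (((q - 1) * (r / 2) : ℕ) : ℂ)) ∧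
      (∃ χ : Cfsg.IrrCharacter G, (χ : G → ℂ) 1 = (((q - 1) * aN q r true : ℕ) : ℂ)) ∧
      (∃ χ : Cfsg.IrrCharacter G, (χ : G → ℂ) 1 = (((q - 1) * aN q r false : ℕ) : ℂ)))
    (hS9 : (Vall D).card = 4 → ¬ Shape2 (Vall D))
    (hP2 : ∀ χ : Cfsg.IrrCharacter G, ¬ Cusp D.Q (χ : G → ℂ) →
      (χ : G → ℂ) 1 = 1 ∨ (χ : G → ℂ) 1 = ((q ^ 2 : ℕ) : ℂ) ∨
        (χ : G → ℂ) 1 = ((q ^ 2 + 1 : ℕ) : ℂ))
    (hP3 : (∃ χ : Cfsg.IrrCharacter G, (χ : G → ℂ) 1 = ((q ^ 2 : ℕ) : ℂ)) ∧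
      (∃ χ : Cfsg.IrrCharacter G, (χ : G → ℂ) 1 = ((q ^ 2 + 1 : ℕ) : ℂ))) :
    Cfsg.charDegrees G = {1, q ^ 2, q ^ 2 + 1, (q - 1) * (r / 2), (q - 1) * aN q r true,
      (q - 1) * aN q r false} := by
  have hq := D.hq
  have h4 : 4 ≤ (Vall D).card := by
    rw [hS4]
    omega
  have hshape : Shape1 (Vall D) := by
    rcases hL1 (fun v hv => hS2 v hv) (fun v hv w hw hvw => hS3 v w hv hw hvw) h4 with h | ⟨h, h'⟩
    · exact h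
    · exact absurd h' (hS9 h)
  obtain ⟨hcusp, ⟨χ1, hχ1⟩, ⟨χ2, hχ2⟩, ⟨χ3, hχ3⟩⟩ := hS8 hshape
  obtain ⟨⟨χ4, hχ4⟩, ⟨χ5, hχ5⟩⟩ := hP3
  ext d
  simp only [Cfsg.charDegrees, Set.mem_setOf_eq, Set.mem_insert_iff, Set.mem_singleton_iff]
  constructor
  · rintro ⟨χ, rfl⟩
    by_cases hc : Cusp D.Q (χ : G → ℂ)
    · rcases hcusp χ hc with h | h | h
      · exact Or.inr (Or.inr (Or.inr (Or.inl (h4_szcS10_charDegree h))))
      · exact Or.inr (Or.inr (Or.inr (Or.inr (Or.inl (h4_szcS10_charDegree h)))))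
      · exact Or.inr (Or.inr (Or.inr (Or.inr (Or.inr (h4_szcS10_charDegree h)))))
    · rcases hP2 χ hc with h | h | h
      · left
        have h' : (χ : G → ℂ) 1 = ((1 : ℕ) : ℂ) := by rw [h]; simp
        exact h4_szcS10_charDegree h'
      · exact Or.inr (Or.inl (h4_szcS10_charDegree h))
      · exact Or.inr (Or.inr (Or.inl (h4_szcS10_charDegree h)))
  · rintro (rfl | rfl | rfl | rfl | rfl | rfl)
    · refine ⟨Cfsg.Agent.Lib.Helper25.trivIrr G, ?_⟩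
      apply h4_szcS10_charDegree
      simp
    · exact ⟨χ4, h4_szcS10_charDegree hχ4⟩
    · exact ⟨χ5, h4_szcS10_charDegree hχ5⟩
    · exact ⟨χ1, h4_szcS10_charDegree hχ1⟩
    · exact ⟨χ2, h4_szcS10_charDegree hχ2⟩
    · exact ⟨χ3, h4_szcS10_charDegree hχ3⟩

end

end Cfsg.Agent.Lib.Helper10.SZC
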