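import Mathlib
import Cfsg.Agent.Lib.helper3.T2E.Defs
import Cfsg.Agent.Lib.helper8.ChevTwE6H16
import Cfsg.Agent.Lib.helper8.ChevTwE6c
import Cfsg.Agent.Lib.helper8.ChevGroup

/-!
# Project T2E (S2108, designer helper3), row D5 (`T1_comm`) (helper4), VERBATIM.
The torus `T1 K q = H ∩ G¹` is commutative: the elements of the diagonal subgroup are diagonal matrices.
-/

set_option autoImplicit false

namespace Cfsg.Agent.Lib.helper3.T2E

open Cfsg.Lie Cfsg.Lie.ChevalleyDatum Matrix
open Cfsg.Agent.Lib.helper8 Cfsg.Agent.Lib.Helper10.TEM Cfsg.Agent.Lib.helper7.Ce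
  Cfsg.Agent.Lib.helper15.St2

universe u

variable {K : Type u} [Field K] {q : ℕ} {f : K ≃+* K}

-- ROW D5 [S]  the diagonal subgroup is commutative (generated by diagonal matrices; or `h8H_comm` if it exists).
theorem T1_comm (h h' : GG K) (hh : h ∈ T1 K q) (hh' : h' ∈ T1 K q) : h * h' = h' * h := by
  have h1 : h ∈ chevE6.diagonalSubgroup K := (Subgroup.mem_inf.1 hh).1
  have h1' : h' ∈ chevE6.diagonalSubgroup K := (Subgroup.mem_inf.1 hh').1
  obtain ⟨d, hd⟩ := h8_diag_of_mem_H chevE6 hB h h1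
  obtain ⟨d', hd'⟩ := h8_diag_of_mem_H chevE6 hB h' h1'
  apply Units.ext
  rw [Units.val_mul, Units.val_mul, hd, hd', Matrix.diagonal_mul_diagonal, Matrix.diagonal_mul_diagonal]
  congr 1
  funext i
  exact mul_comm _ _

end Cfsg.Agent.Lib.helper3.T2E
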