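import Mathlib
import Cfsg.Prelude.Def_Classical

/-!
# Project O9M, row GENEIG (`gen_eig`), verbatim from `Helper11/O9M/Skel.lean.txt`.  (helper4)

`ker ((A + 1)^b)` is the maximal generalised `(-1)`-eigenspace, whose dimension is the multiplicity `b` of the root `-1` of the characteristic polynomial.
-/

set_option autoImplicit false

namespace Cfsg.Agent.Lib.Helper11.O9M

open Polynomial Module

theorem gen_eig {F : Type*} [Field F] {V : Type*} [AddCommGroup V] [Module F V] [FiniteDimensional F V]
    (A : Module.End F V) (b : ℕ) (r : F[X]) (hχ : A.charpoly = (X + 1) ^ b * r) (hr : r.eval (-1) ≠ 0) :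
    finrank F (LinearMap.ker ((A + 1) ^ b)) = b := by
  have eP : aeval A ((X : F[X]) + 1) = A + 1 := by rw [map_add, aeval_X, map_one]
  have hX : ((X : F[X]) + 1) = X - C (-1) := by rw [map_neg, map_one, sub_neg_eq_add]
  have hne : ((X : F[X]) + 1) ^ b * r ≠ 0 := by
    rw [← hχ]
    exact (LinearMap.charpoly_monic A).ne_zero
  have hmult : A.charpoly.rootMultiplicity (-1) = b := by
    rw [hχ, rootMultiplicity_mul hne, hX, rootMultiplicity_X_sub_C_pow,
      rootMultiplicity_eq_zero (p := r) (x := (-1 : F)) (fun h => hr h), add_zero]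
  have hcop : ∀ k : ℕ, IsCoprime (((X : F[X]) + 1) ^ k) r := by
    intro k
    have h0 : IsCoprime ((X : F[X]) - C (-1)) r :=
      (irreducible_X_sub_C (-1 : F)).coprime_iff_not_dvd.mpr (fun h => hr (dvd_iff_isRoot.mp h))
    rw [← hX] at h0
    exact h0.pow_left
  have hker : LinearMap.ker ((A + 1) ^ b) = A.maxGenEigenspace (-1) := by
    apply le_antisymm
    · intro x hx
      rw [Module.End.mem_maxGenEigenspace]
      refine ⟨b, ?_⟩
      rw [neg_smul, one_smul, sub_neg_eq_add]
      exact LinearMap.mem_ker.mp hx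
    · intro x hx
      rw [Module.End.mem_maxGenEigenspace] at hx
      obtain ⟨k, hk⟩ := hx
      rw [neg_smul, one_smul, sub_neg_eq_add] at hk
      rw [LinearMap.mem_ker]
      have h1 : aeval A (((X : F[X]) + 1) ^ k) (((A + 1) ^ b) x) = 0 := by
        rw [map_pow, eP, ← Module.End.mul_apply, ← pow_add, add_comm k b, pow_add,
          Module.End.mul_apply, hk, map_zero]
      have h2 : aeval A r (((A + 1) ^ b) x) = 0 := by
        have h3 : aeval A r * (A + 1) ^ b = 0 := by
          rw [← eP, ← map_pow, ← map_mul, mul_comm r, ← hχ, LinearMap.aeval_self_charpoly]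
        have e2 := LinearMap.congr_fun h3 x
        rw [Module.End.mul_apply] at e2
        exact e2
      have hdis := Polynomial.disjoint_ker_aeval_of_isCoprime A (hcop k)
      exact Submodule.disjoint_def.mp hdis _ (LinearMap.mem_ker.mpr h1) (LinearMap.mem_ker.mpr h2)
  rw [hker, LinearMap.finrank_maxGenEigenspace_eq, hmult]

end Cfsg.Agent.Lib.Helper11.O9M
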