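import Mathlib
import Cfsg.Prelude.Def_Classical

/-!
# Project O9M, row SKEWA (`skewA_pow`), verbatim from `Helper11/O9M/Skel.lean.txt`.  (helper4)

`a (a - a⁻¹) = (a - 1)(a + 1)`, so `(a - 1)^k ((a + 1)^k w) = a^k ((a - a⁻¹)^k w) = 0`; `(X - 1)^k` and `(X + 1)^n` are coprime as `2 ≠ 0`.
-/

set_option autoImplicit false

namespace Cfsg.Agent.Lib.Helper11.O9M

open Polynomial Module

/-- the abstract version: `a' = a⁻¹` in the endomorphism ring -/
theorem o9mskewa_core {F : Type*} [Field F] (h2 : (2 : F) ≠ 0) {V : Type*} [AddCommGroup V] [Module F V]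
    (a a' : Module.End F V) (h1 : a * a' = 1) (h1' : a' * a = 1) (k n : ℕ) (w : V)
    (hw : ((a + 1) ^ n) w = 0) (hS : ((a - a') ^ k) w = 0) : ((a + 1) ^ k) w = 0 := by
  have eP : aeval a ((X : F[X]) + 1) = a + 1 := by rw [map_add, aeval_X, map_one]
  have eM : aeval a ((X : F[X]) - 1) = a - 1 := by rw [map_sub, aeval_X, map_one]
  have haS : a * (a - a') = aeval a (((X : F[X]) - 1) * (X + 1)) := by
    rw [map_mul, eP, eM, mul_sub, h1]
    noncomm_ring
  have hcS : Commute a (a - a') := by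
    show a * (a - a') = (a - a') * a
    rw [mul_sub, sub_mul, h1, h1']
  have hkey : aeval a (((X : F[X]) - 1) ^ k) (aeval a (((X : F[X]) + 1) ^ k) w) = 0 := by
    have e1 : aeval a (((X : F[X]) - 1) ^ k) * aeval a (((X : F[X]) + 1) ^ k) = a ^ k * (a - a') ^ k := by
      rw [← map_mul, ← mul_pow ((X : F[X]) - 1) (X + 1) k, map_pow, ← haS, hcS.mul_pow]
    have e2 := LinearMap.congr_fun e1 w
    rw [Module.End.mul_apply, Module.End.mul_apply, hS, map_zero] at e2
    exact e2
  have hq : aeval a (((X : F[X]) + 1) ^ n) (aeval a (((X : F[X]) + 1) ^ k) w) = 0 := by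
    have e1 : aeval a (((X : F[X]) + 1) ^ n) * aeval a (((X : F[X]) + 1) ^ k)
        = aeval a (((X : F[X]) + 1) ^ k) * aeval a (((X : F[X]) + 1) ^ n) := by
      rw [← map_mul, ← map_mul, mul_comm]
    have e2 := LinearMap.congr_fun e1 w
    rw [Module.End.mul_apply, Module.End.mul_apply] at e2
    rw [e2, map_pow (aeval a) _ n, eP, hw, map_zero]
  have hcop : IsCoprime (((X : F[X]) - 1) ^ k) (((X : F[X]) + 1) ^ n) := by
    have h0 : IsCoprime ((X : F[X]) - C 1) (X - C (-1)) := by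
      apply Polynomial.isCoprime_X_sub_C_of_isUnit_sub
      rw [sub_neg_eq_add, one_add_one_eq_two]
      exact IsUnit.mk0 _ h2
    rw [map_neg, map_one, sub_neg_eq_add] at h0
    exact h0.pow
  have hdis := Polynomial.disjoint_ker_aeval_of_isCoprime a hcop
  have hv := Submodule.disjoint_def.mp hdis _ (LinearMap.mem_ker.mpr hkey) (LinearMap.mem_ker.mpr hq)
  rw [map_pow, eP] at hv
  exact hv

theorem skewA_pow {F : Type*} [Field F] (h2 : (2 : F) ≠ 0) {V : Type*} [AddCommGroup V] [Module F V]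
    (A : V ≃ₗ[F] V) (k n : ℕ) (w : V) (hw : ((A.toLinearMap + 1) ^ n) w = 0)
    (hS : ((A.toLinearMap - A.symm.toLinearMap) ^ k) w = 0) : ((A.toLinearMap + 1) ^ k) w = 0 := by
  refine o9mskewa_core h2 A.toLinearMap A.symm.toLinearMap ?_ ?_ k n w hw hS
  · apply LinearMap.ext
    intro x
    show A (A.symm x) = x
    exact A.apply_symm_apply x
  · apply LinearMap.ext
    intro x
    show A.symm (A x) = x
    exact A.symm_apply_apply x

end Cfsg.Agent.Lib.Helper11.O9M
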