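import Mathlib
import Cfsg.Agent.Lib.Helper11.S5956U.Defs
import Cfsg.Agent.Lib.helper8.S5955X1

/-!
# Project S5956U, row EXTYPE (core): an isometry of the standard space of prescribed admissible type,
with the statements of rows BLKEVEN, BLKODD, PRODCTX taken as hypotheses.
-/

set_option autoImplicit false

namespace Cfsg.Agent.Lib.Helper11.S5956U

open Polynomial Module Cfsg.Agent.Lib.Helper13.S5955 Cfsg.Agent.Lib.helper14.JTa

theorem s5956uextype_tyf_cons (a : ℕ) (μ : Multiset ℕ) (j : ℕ) :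
    tyf (a ::ₘ μ) j = min a j + tyf μ j := by
  unfold tyf
  rw [Multiset.map_cons, Multiset.sum_cons]

theorem s5956uextype_tyf_single (a j : ℕ) : tyf {a} j = min a j := by
  unfold tyf
  rw [Multiset.map_singleton, Multiset.sum_singleton]

theorem s5956uextype_tyf_pair (a j : ℕ) : tyf {a, a} j = min a j + min a j := by
  rw [Multiset.insert_eq_cons, s5956uextype_tyf_cons, s5956uextype_tyf_single]

theorem s5956uextype_tyf_zero (j : ℕ) : tyf 0 j = 0 := by
  unfold tyf
  rw [Multiset.map_zero, Multiset.sum_zero]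

theorem s5956uextype_tyf_erase (a : ℕ) (μ : Multiset ℕ) (ha : a ∈ μ) (j : ℕ) :
    tyf μ j = min a j + tyf (μ.erase a) j := by
  conv_lhs => rw [← Multiset.cons_erase ha]
  exact s5956uextype_tyf_cons a _ j

theorem s5956uextype_core {F : Type*} [Field F] {p : ℕ}
    (hbe : ∀ k : ℕ, 1 ≤ k → 2 * k ≤ p → ∃ y : Module.End F (Fin k ⊕ Fin k → F),
      SCtx p (stdB k F) y ∧ ∀ j, dk (y - 1) j = tyf {2 * k} j)
    (hbo : ∀ s : ℕ, 1 ≤ s → s ≤ p → ∃ y : Module.End F (Fin s ⊕ Fin s → F),
      SCtx p (stdB s F) y ∧ ∀ j, dk (y - 1) j = tyf {s, s} j)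
    (hprod : ∀ (d₁ d₂ : ℕ) (y₁ : Module.End F (Fin d₁ ⊕ Fin d₁ → F))
      (y₂ : Module.End F (Fin d₂ ⊕ Fin d₂ → F)),
      SCtx p (stdB d₁ F) y₁ → SCtx p (stdB d₂ F) y₂ →
      ∃ y : Module.End F (Fin (d₁ + d₂) ⊕ Fin (d₁ + d₂) → F), SCtx p (stdB (d₁ + d₂) F) y ∧
        ∀ j, dk (y - 1) j = dk (y₁ - 1) j + dk (y₂ - 1) j) :
    ∀ (n : ℕ) (μ : Multiset ℕ), Multiset.card μ = n → SpTy p μ → ∀ d : ℕ, μ.sum = 2 * d →
      ∃ y : Module.End F (Fin d ⊕ Fin d → F), SCtx p (stdB d F) y ∧
        ∀ j, dk (y - 1) j = tyf μ j := by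
  classical
  intro n
  induction n using Nat.strong_induction_on with
  | _ n ih =>
    intro μ hn hμ d hd
    by_cases h0 : μ = 0
    · subst h0
      have hd0 : d = 0 := by
        rw [Multiset.sum_zero] at hd
        omega
      subst hd0
      refine ⟨1, ⟨(stdB_alt_nd 0).1, (stdB_alt_nd 0).2, fun u v => rfl, one_pow p⟩, fun j => ?_⟩
      rw [s5956uextype_tyf_zero]
      unfold dk
      have h1 : finrank F (Fin 0 ⊕ Fin 0 → F) = 0 := by
        rw [Module.finrank_fintype_fun_eq_card, Fintype.card_sum, Fintype.card_fin]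
      have h2 := Submodule.finrank_le
        (LinearMap.ker (((1 : Module.End F (Fin 0 ⊕ Fin 0 → F)) - 1) ^ j))
      omega
    · obtain ⟨a, ha⟩ := Multiset.exists_mem_of_ne_zero h0
      obtain ⟨ha0, hap⟩ := hμ.1 a ha
      have hcardpos : 0 < Multiset.card μ := Multiset.card_pos_iff_exists_mem.mpr ⟨a, ha⟩
      rcases Nat.even_or_odd a with hae | hao
      · -- an even part `a = 2 k`
        obtain ⟨k, hk⟩ := hae.two_dvd
        have hk1 : 1 ≤ k := by omega
        have hsum : a + (μ.erase a).sum = μ.sum := Multiset.sum_erase ha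
        have hcard : Multiset.card (μ.erase a) < n := by
          rw [← hn]
          exact Multiset.card_erase_lt_of_mem ha
        have hty : SpTy p (μ.erase a) := by
          refine ⟨fun b hb => hμ.1 b (Multiset.mem_of_mem_erase hb), fun b hb => ?_⟩
          have hba : b ≠ a := by
            rintro rfl
            exact (Nat.not_even_iff_odd.mpr hb) ⟨k, by omega⟩
          rw [Multiset.count_erase_of_ne hba]
          exact hμ.2 b hb
        obtain ⟨d', rfl⟩ : ∃ d', d = k + d' := ⟨d - k, by omega⟩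
        obtain ⟨y₂, h₂, hy₂⟩ := ih _ hcard (μ.erase a) rfl hty d' (by omega)
        obtain ⟨y₁, h₁, hy₁⟩ := hbe k hk1 (by omega)
        obtain ⟨y, hy, hyd⟩ := hprod k d' y₁ y₂ h₁ h₂
        refine ⟨y, hy, fun j => ?_⟩
        rw [hyd, hy₁, hy₂, s5956uextype_tyf_single, s5956uextype_tyf_erase a μ ha j, hk]
      · -- an odd part `a`, of even multiplicity
        have hcnt : Even (μ.count a) := hμ.2 a hao
        have hcnt1 : 1 ≤ μ.count a := Multiset.one_le_count_iff_mem.mpr ha
        obtain ⟨t, ht⟩ := hcnt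
        have ha' : a ∈ μ.erase a := by
          rw [← Multiset.one_le_count_iff_mem, Multiset.count_erase_self]
          omega
        have hsum : a + (μ.erase a).sum = μ.sum := Multiset.sum_erase ha
        have hsum' : a + ((μ.erase a).erase a).sum = (μ.erase a).sum := Multiset.sum_erase ha'
        have hcard : Multiset.card ((μ.erase a).erase a) < n := by
          rw [← hn]
          exact lt_trans (Multiset.card_erase_lt_of_mem ha') (Multiset.card_erase_lt_of_mem ha)
        have hty : SpTy p ((μ.erase a).erase a) := by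
          refine ⟨fun b hb => hμ.1 b (Multiset.mem_of_mem_erase (Multiset.mem_of_mem_erase hb)),
            fun b hb => ?_⟩
          by_cases hba : b = a
          · subst hba
            rw [Multiset.count_erase_self, Multiset.count_erase_self]
            exact ⟨t - 1, by omega⟩
          · rw [Multiset.count_erase_of_ne hba, Multiset.count_erase_of_ne hba]
            exact hμ.2 b hb
        obtain ⟨d', rfl⟩ : ∃ d', d = a + d' := ⟨d - a, by omega⟩
        obtain ⟨y₂, h₂, hy₂⟩ := ih _ hcard ((μ.erase a).erase a) rfl hty d' (by omega)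
        obtain ⟨y₁, h₁, hy₁⟩ := hbo a ha0 hap
        obtain ⟨y, hy, hyd⟩ := hprod a d' y₁ y₂ h₁ h₂
        refine ⟨y, hy, fun j => ?_⟩
        rw [hyd, hy₁, hy₂, s5956uextype_tyf_pair, s5956uextype_tyf_erase a μ ha j,
          s5956uextype_tyf_erase a (μ.erase a) ha' j]
        ring

end Cfsg.Agent.Lib.Helper11.S5956U
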