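import Mathlib
import Cfsg.Agent.Lib.Helper11.S5956U.Defs
import Cfsg.Agent.Lib.helper8.S5955X4

/-!
# Project S5956U, row PRODCTX: the orthogonal product of two standard contexts, transported to the
standard space.
-/

set_option autoImplicit false

namespace Cfsg.Agent.Lib.Helper11.S5956U

open Polynomial Module Cfsg.Agent.Lib.Helper13.S5955 Cfsg.Agent.Lib.helper14.JTa

variable {F : Type*} [Field F] {V : Type*} [AddCommGroup V] [Module F V]

/-- PRODCTX [M]: the orthogonal product of two standard contexts, transported to the standard space.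
(`V' = V₁ × V₂`, `B' = B₁ ⊕ B₂`, `x' = y₁.prodMap y₂`; `transport` helper8.S5955X4; `dk_conj`, `JTb.dk_prodMap`.) -/
theorem prod_ctx {r : ℕ} (d₁ d₂ : ℕ) (y₁ : Module.End F (Fin d₁ ⊕ Fin d₁ → F))
    (y₂ : Module.End F (Fin d₂ ⊕ Fin d₂ → F))
    (h₁ : SCtx r (stdB d₁ F) y₁) (h₂ : SCtx r (stdB d₂ F) y₂) :
    ∃ y : Module.End F (Fin (d₁ + d₂) ⊕ Fin (d₁ + d₂) → F), SCtx r (stdB (d₁ + d₂) F) y ∧
      ∀ j, dk (y - 1) j = dk (y₁ - 1) j + dk (y₂ - 1) j := by
  classical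
  let B' : LinearMap.BilinForm F ((Fin d₁ ⊕ Fin d₁ → F) × (Fin d₂ ⊕ Fin d₂ → F)) :=
    (stdB d₁ F).compl₁₂ (LinearMap.fst F _ _) (LinearMap.fst F _ _) +
      (stdB d₂ F).compl₁₂ (LinearMap.snd F _ _) (LinearMap.snd F _ _)
  have hB' : ∀ u v, B' u v = stdB d₁ F u.1 v.1 + stdB d₂ F u.2 v.2 := fun u v => rfl
  let x' : Module.End F ((Fin d₁ ⊕ Fin d₁ → F) × (Fin d₂ ⊕ Fin d₂ → F)) :=
    LinearMap.prodMap y₁ y₂
  have hx' : ∀ u, x' u = (y₁ u.1, y₂ u.2) := fun u => rfl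
  have hctx : SCtx r B' x' := by
    refine ⟨fun v => ?_, fun u hu => ?_, fun u v => ?_, ?_⟩
    · rw [hB', h₁.alt, h₂.alt, add_zero]
    · have e1 : u.1 = 0 := h₁.nd u.1 (fun v => by
        have h3 := hu (v, 0)
        rw [hB'] at h3
        simpa using h3)
      have e2 : u.2 = 0 := h₂.nd u.2 (fun v => by
        have h3 := hu (0, v)
        rw [hB'] at h3
        simpa using h3)
      exact Prod.ext e1 e2
    · rw [hB', hB', hx', hx', h₁.pres, h₂.pres]
    · show (LinearMap.prodMap y₁ y₂ : Module.End F _) ^ r = 1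
      rw [Cfsg.Agent.Lib.helper14.JTb.prodMap_pow', h₁.pow, h₂.pow]
      exact LinearMap.prodMap_one
  have hV : finrank F ((Fin d₁ ⊕ Fin d₁ → F) × (Fin d₂ ⊕ Fin d₂ → F)) = 2 * (d₁ + d₂) := by
    rw [Module.finrank_prod, Module.finrank_fintype_fun_eq_card,
      Module.finrank_fintype_fun_eq_card, Fintype.card_sum, Fintype.card_sum, Fintype.card_fin,
      Fintype.card_fin]
    ring
  obtain ⟨y, ψ, hy, -, hψ⟩ := transport B' x' hctx (d₁ + d₂) hV
  refine ⟨y, hy, fun j => ?_⟩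
  have hconj : ψ.conjAlgEquiv F (y - 1) = LinearMap.prodMap (y₁ - 1) (y₂ - 1) := by
    apply LinearMap.ext
    intro u
    have e1 : (ψ.conjAlgEquiv F (y - 1)) u = ψ ((y - 1) (ψ.symm u)) := by
      rw [LinearEquiv.conjAlgEquiv_apply]
      rfl
    rw [e1, LinearMap.sub_apply, map_sub, hψ, LinearEquiv.apply_symm_apply, Module.End.one_apply,
      LinearEquiv.apply_symm_apply, hx']
    apply Prod.ext
    · simp [LinearMap.prodMap_apply, LinearMap.sub_apply]
    · simp [LinearMap.prodMap_apply, LinearMap.sub_apply]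
  rw [← dk_conj ψ (y - 1) j, hconj, Cfsg.Agent.Lib.helper14.JTb.dk_prodMap]

end Cfsg.Agent.Lib.Helper11.S5956U
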