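import Mathlib
import Cfsg.Agent.Lib.Helper11.S5956U.Defs
import Cfsg.Agent.Lib.Helper1.S5955X23

/-!
# Project S5956U, row SUFF (core): the sufficiency direction in matrix form, with the statement of
row STRUCT (on the standard space) taken as a hypothesis.
-/

set_option autoImplicit false

namespace Cfsg.Agent.Lib.Helper11.S5956U

open Polynomial Module Cfsg.Agent.Lib.Helper13.S5955 Cfsg.Agent.Lib.helper14.JTa

theorem s5956usuff_core {F : Type*} [Field F] {p : ℕ} [Fact p.Prime] [CharP F p] (hp2 : 2 < p)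
    (d m : ℕ) (hd : 1 ≤ d)
    (hstruct : ∀ y : Module.End F (Fin d ⊕ Fin d → F), SCtx p (stdB d F) y →
      ∀ N : Submodule F (Fin d ⊕ Fin d → F), SInv y N → SND (stdB d F) N →
      ∃ μ : Multiset ℕ, SpTy p μ ∧ μ.sum = finrank F N ∧ (∀ j, rdk y N j = tyf μ j) ∧
        ∀ ν : Multiset ℕ, ν ≤ μ → (∀ a : ℕ, Odd a → Even (ν.count a)) →
          ∃ W : Submodule F (Fin d ⊕ Fin d → F), W ≤ N ∧ SInv y W ∧ SND (stdB d F) W ∧
            finrank F W = ν.sum)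
    (hpart : ∀ μ : Multiset ℕ, (∀ a ∈ μ, 0 < a ∧ a ≤ p) → (∀ a : ℕ, Odd a → Even (μ.count a)) →
      μ.sum = 2 * d → ∃ ν : Multiset ℕ, ν ≤ μ ∧ ν.sum = m ∧ ∀ a : ℕ, Odd a → Even (ν.count a))
    (x : ↥(Matrix.symplecticGroup (Fin d) F)) (z : F)
    (hx : ((x ^ p : ↥(Matrix.symplecticGroup (Fin d) F)) :
      Matrix (Fin d ⊕ Fin d) (Fin d ⊕ Fin d) F) = z • (1 : Matrix (Fin d ⊕ Fin d) (Fin d ⊕ Fin d) F)) :
    ∃ W : Submodule F (Fin d ⊕ Fin d → F), Module.finrank F ↥W = m ∧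
      (∀ u ∈ W, u ≠ 0 → ∃ v ∈ W, Cfsg.sympForm d F u v ≠ 0) ∧
      W.map (Matrix.toLin' (x : Matrix (Fin d ⊕ Fin d) (Fin d ⊕ Fin d) F)) ≤ W := by
  have hodd : Odd p := (Fact.out : p.Prime).odd_of_ne_two (by omega)
  obtain ⟨y, hy, hinv⟩ := std_ctx_odd d hd p hodd x z hx
  obtain ⟨μ, hμ, hsum, -, hsub⟩ := hstruct y hy ⊤ (fun w _ => Submodule.mem_top)
    (fun u _ hu => hy.nd u (fun v => hu v Submodule.mem_top))
  have hfr : finrank F (⊤ : Submodule F (Fin d ⊕ Fin d → F)) = 2 * d := by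
    rw [finrank_top, Module.finrank_fintype_fun_eq_card, Fintype.card_sum, Fintype.card_fin]
    ring
  obtain ⟨ν, hνle, hνsum, hνodd⟩ := hpart μ hμ.1 hμ.2 (by rw [hsum, hfr])
  obtain ⟨W, -, hWinv, hWnd, hWdim⟩ := hsub ν hνle hνodd
  refine ⟨W, by rw [hWdim, hνsum], ?_, hinv W hWinv⟩
  intro u hu hu0
  by_contra hcon
  push Not at hcon
  exact hu0 (hWnd u hu (fun v hv => by rw [stdB_apply]; exact hcon v hv))

end Cfsg.Agent.Lib.Helper11.S5956U
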