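import Mathlib
import Cfsg.Agent.Lib.Helper1.S8U.Defs

/-!
# Project S8U, row TWON (`twon_dvd`), verbatim from `Helper1/S8U/Skel.lean.txt`.  (helper4)
-/

set_option autoImplicit false

namespace Cfsg.Agent.Lib.Helper1.S8U

theorem twon_dvd (a m0 N m' T : ℕ) (hm0 : Odd m0) (hN : N = m' * 2 ^ T) (hdvd : 2 ^ a * m0 ∣ N)
    (hT : 2 ^ a + 1 ≤ 2 ^ T) : 2 * (2 ^ a * m0) ∣ N := by
  have haT : a < T := (Nat.pow_lt_pow_iff_right (by norm_num : 1 < 2)).mp (by omega)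
  obtain ⟨s, rfl⟩ := Nat.exists_eq_add_of_le (show a + 1 ≤ T by omega)
  have h1 : m0 ∣ m' * 2 ^ (a + 1 + s) := by
    rw [← hN]
    exact dvd_trans (Dvd.intro_left _ rfl) hdvd
  have hcop : Nat.Coprime m0 (2 ^ (a + 1 + s)) := Nat.Coprime.pow_right _ hm0.coprime_two_right
  obtain ⟨t, ht⟩ := Nat.Coprime.dvd_of_dvd_mul_right hcop h1
  refine ⟨t * 2 ^ s, ?_⟩
  rw [hN, ht]
  ring

end Cfsg.Agent.Lib.Helper1.S8U
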