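import Mathlib
import Cfsg.Prelude.Def_Characters
import Cfsg.Prelude.Def_Blocks
import Cfsg.Agent.Lib.Helper25.CharLinear
import Cfsg.Agent.Lib.Helper29.LeoOrbit
import Cfsg.Agent.Lib.helper7.BR.Defs
import Cfsg.Agent.Lib.Helper13.BT.Defs

/-!
# Project BT (S0997 / S0998), piece SYL2 : a `2`-central involution
-/

set_option autoImplicit false
set_option linter.unusedVariables false
set_option linter.unusedSectionVars false

namespace Cfsg.Agent.Lib.Helper13.BT

open Classical
open scoped ComplexConjugate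
open Cfsg.Agent.Lib.Helper25 Cfsg.Agent.Lib.Helper29
open Cfsg.Agent.Lib.helper7.BR

universe u

variable {G : Type u} [Group G] [Fintype G] {p : ℕ} [Fact p.Prime]

theorem btsyl2_factorization (b m : ℕ) (hm : Odd m) : (2 ^ b * m).factorization 2 = b := by
  have hm0 : m ≠ 0 := by
    rintro rfl
    simp at hm
  have h2m : ¬ 2 ∣ m := by
    intro h
    exact (Nat.not_even_iff_odd.mpr hm) (even_iff_two_dvd.mpr h)
  rw [Nat.factorization_mul (pow_ne_zero _ (by norm_num)) hm0, Nat.Prime.factorization_pow Nat.prime_two]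
  simp [Nat.factorization_eq_zero_of_not_dvd h2m]

/-- SYL2 : a `2`-central involution -/
theorem central_involution (b m : ℕ) (hb : 1 ≤ b) (hm : Odd m) (hcard : Nat.card G = 2 ^ b * m) :
    ∃ w : G, w ≠ 1 ∧ w * w = 1 ∧ 2 ^ b ∣ Nat.card ↥(Subgroup.centralizer ({w} : Set G)) := by
  have h2 : Fact (Nat.Prime 2) := ⟨Nat.prime_two⟩
  obtain ⟨S⟩ : Nonempty (Sylow 2 G) := inferInstance
  have hS : Nat.card ↥(S : Subgroup G) = 2 ^ b := by
    rw [Sylow.card_eq_multiplicity, hcard, btsyl2_factorization b m hm]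
  have hSp : IsPGroup 2 ↥(S : Subgroup G) := S.isPGroup'
  have hnt : Nontrivial ↥(S : Subgroup G) := by
    rw [← Finite.one_lt_card_iff_nontrivial, hS]
    exact Nat.one_lt_two_pow (by omega)
  have hZ : Nontrivial ↥(Subgroup.center ↥(S : Subgroup G)) := hSp.center_nontrivial
  have hZp : IsPGroup 2 ↥(Subgroup.center ↥(S : Subgroup G)) := hSp.to_subgroup _
  obtain ⟨k, hk⟩ := IsPGroup.iff_card.mp hZp
  have hk0 : k ≠ 0 := by
    rintro rfl
    rw [pow_zero] at hk
    have := Finite.one_lt_card_iff_nontrivial.mpr hZ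
    omega
  have h2dvd : 2 ∣ Nat.card ↥(Subgroup.center ↥(S : Subgroup G)) := by
    rw [hk]
    exact dvd_pow_self 2 hk0
  obtain ⟨z, hz⟩ := exists_prime_orderOf_dvd_card' 2 h2dvd
  have hzS : orderOf (z : ↥(S : Subgroup G)) = 2 := by
    rw [Subgroup.orderOf_coe]
    exact hz
  have hzG : orderOf (((z : ↥(S : Subgroup G)) : G)) = 2 := by
    rw [Subgroup.orderOf_coe]
    exact hzS
  refine ⟨((z : ↥(S : Subgroup G)) : G), ?_, ?_, ?_⟩
  · intro h1
    rw [h1, orderOf_one] at hzG
    omega
  · have := pow_orderOf_eq_one (((z : ↥(S : Subgroup G)) : G))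
    rw [hzG, pow_two] at this
    exact this
  · rw [← hS]
    apply Subgroup.card_dvd_of_le
    intro s hs
    rw [Subgroup.mem_centralizer_iff]
    intro h hh
    rw [Set.mem_singleton_iff] at hh
    subst hh
    have hzc := z.2
    rw [Subgroup.mem_center_iff] at hzc
    have := hzc ⟨s, hs⟩
    have h3 := congrArg (fun y : ↥(S : Subgroup G) => (y : G)) this
    simp only [Subgroup.coe_mul] at h3
    exact h3.symm

end Cfsg.Agent.Lib.Helper13.BT
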