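import Mathlib
import Cfsg.Prelude.Def_Characters
import Cfsg.Agent.Lib.helper7.PM2.Defs
import Cfsg.Agent.Lib.helper2.CharNat
import Cfsg.Agent.Lib.helper7.CharTools
import Cfsg.Agent.Lib.helper7.CharCentral
import Cfsg.Agent.Lib.Helper19.CD3DICH2

/-!
# Project PM2, piece QP (core): `G / Z(G)` is perfect.

The lower statements (QP1 `zero_off_ker`, QP2 `nrm_nonzero`, NRM2 `nrm_of_conj_mem`) are hypotheses here.
-/

set_option autoImplicit false

namespace Cfsg.Agent.Lib.helper7.PM2

universe u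

variable {G : Type u} [Group G] [Fintype G] {p : ℕ} {ζ : G → ℂ} {x : G} {ω : ℂ}

theorem pm2qp_core (S : Setting p ζ x ω)
    (hQP1 : ∀ (lam : G → ℂ), Cfsg.IsCharacter G lam → lam 1 = 1 →
      (∀ c ∈ Subgroup.center G, lam c = 1) → ∀ g : G, lam g ≠ 1 → ζ g = 0)
    (hQP2 : ∀ g : G, g * x * g⁻¹ = x⁻¹ → ζ g ≠ 0)
    (hNRM2 : ∀ h : G, h * x * h⁻¹ ∈ Subgroup.zpowers x → h * x * h⁻¹ = x ∨ h * x * h⁻¹ = x⁻¹) :
    commutator (G ⧸ Subgroup.center G) = ⊤ := by
  classical
  by_contra hne
  have hpp : p.Prime := S.hp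
  have hp5 := S.hp5
  have : Fact p.Prime := ⟨hpp⟩
  -- an element outside the commutator subgroup
  obtain ⟨gb, hgb⟩ : ∃ gb : G ⧸ Subgroup.center G, gb ∉ commutator (G ⧸ Subgroup.center G) := by
    by_contra h
    apply hne
    rw [eq_top_iff]
    intro g _
    by_contra hg
    exact h ⟨g, hg⟩
  have habD : ∀ a b : Abelianization (G ⧸ Subgroup.center G), a * b = b * a := fun a b => mul_comm a b
  have hd₀ : (Abelianization.of gb : Abelianization (G ⧸ Subgroup.center G)) ≠ 1 := by
    intro h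
    apply hgb
    exact (QuotientGroup.eq_one_iff gb).mp h
  obtain ⟨ψ, hψ1, hψd⟩ := Cfsg.Agent.Lib.Helper28.CD3.cd3dich2_exists_nontrivial habD
    (Abelianization.of gb) hd₀
  let f : G →* Abelianization (G ⧸ Subgroup.center G) :=
    Abelianization.of.comp (QuotientGroup.mk' (Subgroup.center G))
  have hlamchar : Cfsg.IsCharacter G (fun g => (ψ : Abelianization (G ⧸ Subgroup.center G) → ℂ) (f g)) :=
    Cfsg.Agent.Lib.helper2.isCharacter_comp_hom (Cfsg.Agent.Lib.helper7.h7_irr_isCharacter ψ.2) f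
  have hlam1 : (fun g => (ψ : Abelianization (G ⧸ Subgroup.center G) → ℂ) (f g)) 1 = 1 := by
    simp only [map_one]; exact hψ1
  have hlamZ : ∀ c ∈ Subgroup.center G,
      (fun g => (ψ : Abelianization (G ⧸ Subgroup.center G) → ℂ) (f g)) c = 1 := by
    intro c hc
    have hfc : f c = 1 := by
      have : (QuotientGroup.mk' (Subgroup.center G)) c = 1 := (QuotientGroup.eq_one_iff c).mpr hc
      simp only [f, MonoidHom.comp_apply, this, map_one]
    simp only [hfc]; exact hψ1
  have hmul := Cfsg.Agent.Lib.helper7.h7_linear_mul hlamchar hlam1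
  let lamHom : G →* ℂ :=
    { toFun := fun g => (ψ : Abelianization (G ⧸ Subgroup.center G) → ℂ) (f g)
      map_one' := hlam1
      map_mul' := hmul }
  have hlamHom : ∀ g, lamHom g = (ψ : Abelianization (G ⧸ Subgroup.center G) → ℂ) (f g) := fun g => rfl
  obtain ⟨g₀, hg₀⟩ := QuotientGroup.mk_surjective gb
  have hlamg₀ : lamHom g₀ ≠ 1 := by
    rw [hlamHom]
    have : f g₀ = Abelianization.of gb := by rw [← hg₀]; rfl
    rw [this]; exact hψd
  -- x lies in the kernel
  have hlamx : lamHom x = 1 := by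
    obtain ⟨τ, hτ⟩ := S.inv
    have h1 : lamHom (τ * x * τ⁻¹) = lamHom x := by
      rw [map_mul, map_mul, mul_comm (lamHom τ), mul_assoc, ← map_mul, mul_inv_cancel, map_one, mul_one]
    have h2 : lamHom x * lamHom x = 1 := by
      nth_rewrite 2 [← h1]
      rw [hτ, ← map_mul, mul_inv_cancel, map_one]
    have h3 : lamHom x ^ 2 = 1 := by rw [pow_two, h2]
    have h4 : lamHom x ^ p = 1 := by
      rw [← map_pow, ← S.ordx, pow_orderOf_eq_one, map_one]
    have h5 := pow_gcd_eq_one.mpr ⟨h4, h3⟩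
    have h6 : Nat.gcd p 2 = 1 := by
      have : Nat.Coprime p 2 := by
        rw [Nat.coprime_primes hpp Nat.prime_two]; omega
      exact this
    rwa [h6, pow_one] at h5
  -- the Sylow subgroup ⟨x⟩
  have hn0 : Nat.card G ≠ 0 := Nat.card_pos.ne'
  have hfac : (Nat.card G).factorization p = 1 := by
    have h1 : 1 ≤ (Nat.card G).factorization p := by
      rw [← hpp.pow_dvd_iff_le_factorization hn0, pow_one, ← S.ordx]
      exact orderOf_dvd_natCard x
    have h2 : ¬ 2 ≤ (Nat.card G).factorization p := by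
      rw [← hpp.pow_dvd_iff_le_factorization hn0]
      exact S.sylow
    omega
  have hcardP : Nat.card (Subgroup.zpowers x) = p ^ (Nat.card G).factorization p := by
    rw [hfac, pow_one, Nat.card_zpowers, S.ordx]
  have hPM : ((Sylow.ofCard (Subgroup.zpowers x) hcardP : Sylow p G) : Subgroup G) ≤ lamHom.ker := by
    rw [Sylow.coe_ofCard, Subgroup.zpowers_le]
    exact MonoidHom.mem_ker.mpr hlamx
  have hfrat := Sylow.normalizer_sup_eq_top' (Sylow.ofCard (Subgroup.zpowers x) hcardP) hPM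
  -- the normalizer lies in the kernel
  have hNM : Subgroup.normalizer ((Sylow.ofCard (Subgroup.zpowers x) hcardP : Sylow p G) : Set G)
      ≤ lamHom.ker := by
    intro h hh
    have hh' : h ∈ Subgroup.normalizer ((Subgroup.zpowers x : Subgroup G) : Set G) := hh
    rw [Subgroup.mem_normalizer_iff] at hh'
    have hconj : h * x * h⁻¹ ∈ Subgroup.zpowers x := (hh' x).mp (Subgroup.mem_zpowers x)
    rw [MonoidHom.mem_ker]
    rcases hNRM2 h hconj with hc | hc
    · have hcomm : h * x = x * h := by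
        calc h * x = h * x * h⁻¹ * h := by group
          _ = x * h := by rw [hc]
      obtain ⟨m, c, hcZ, rfl⟩ := S.cent h hcomm
      rw [map_mul, map_pow, hlamx, one_pow, one_mul]
      exact hlamZ c hcZ
    · by_contra hne1
      exact hQP2 h hc (hQP1 _ hlamchar hlam1 hlamZ h hne1)
  have htop : lamHom.ker = ⊤ := by
    rw [← hfrat]
    exact (sup_eq_right.mpr hNM).symm
  apply hlamg₀
  have : g₀ ∈ lamHom.ker := by rw [htop]; exact Subgroup.mem_top _
  exact MonoidHom.mem_ker.mp this

end Cfsg.Agent.Lib.helper7.PM2
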