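import Mathlib
import Cfsg.Prelude.Def_SolvableStructure

set_option autoImplicit false

namespace Cfsg.Agent.Lib.helper4

open Cfsg

universe u

inductive SSChain {G : Type u} [Group G] : Subgroup G → Prop
  | bot : SSChain ⊥
  | step (A : Subgroup G) (g : G) : SSChain A → A.Normal → (A ⊔ Subgroup.zpowers g).Normal →
      SSChain (A ⊔ Subgroup.zpowers g)

theorem SSChain.normal {G : Type u} [Group G] {A : Subgroup G} (h : SSChain A) : A.Normal := by
  cases h with
  | bot => exact Subgroup.normal_bot
  | step A g _ _ hn => exact hn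

theorem ssChain_of_fin {G : Type u} [Group G] (n : ℕ) (H : Fin (n + 1) → Subgroup G)
    (h0 : H 0 = ⊥) (hn : ∀ i, (H i).Normal)
    (hs : ∀ i : Fin n, ∃ g : G, H i.succ = H i.castSucc ⊔ Subgroup.zpowers g) :
    ∀ i : Fin (n + 1), SSChain (H i) := by
  intro i
  induction i using Fin.induction with
  | zero => rw [h0]; exact SSChain.bot
  | succ i ih =>
    obtain ⟨g, hg⟩ := hs i
    rw [hg]
    have := hn i.succ
    rw [hg] at this
    exact SSChain.step _ g ih (hn i.castSucc) this

theorem fin_of_ssChain {G : Type u} [Group G] {A : Subgroup G} (h : SSChain A) :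
    ∃ (n : ℕ) (H : Fin (n + 1) → Subgroup G),
      H 0 = ⊥ ∧ H (Fin.last n) = A ∧ (∀ i, (H i).Normal) ∧
        ∀ i : Fin n, ∃ g : G, H i.succ = H i.castSucc ⊔ Subgroup.zpowers g := by
  induction h with
  | bot =>
    refine ⟨0, fun _ => ⊥, rfl, rfl, fun _ => Subgroup.normal_bot, fun i => i.elim0⟩
  | step A g _ hA hAg ih =>
    obtain ⟨n, H, h0, hl, hn, hs⟩ := ih
    refine ⟨n + 1, Fin.snoc H (A ⊔ Subgroup.zpowers g), ?_, ?_, ?_, ?_⟩
    · have : (0 : Fin (n + 1 + 1)) = Fin.castSucc (0 : Fin (n + 1)) := rfl
      rw [this, Fin.snoc_castSucc]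
      exact h0
    · exact Fin.snoc_last _ _
    · intro i
      refine Fin.lastCases ?_ (fun j => ?_) i
      · rw [Fin.snoc_last]; exact hAg
      · rw [Fin.snoc_castSucc]; exact hn j
    · intro i
      refine Fin.lastCases ?_ (fun j => ?_) i
      · refine ⟨g, ?_⟩
        have h1 : (Fin.last n).succ = Fin.last (n + 1) := rfl
        rw [h1, Fin.snoc_last, Fin.snoc_castSucc, hl]
      · obtain ⟨g', hg'⟩ := hs j
        refine ⟨g', ?_⟩
        have h1 : (Fin.castSucc j).succ = Fin.castSucc j.succ := rfl
        rw [h1, Fin.snoc_castSucc, Fin.snoc_castSucc]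
        exact hg'

theorem isSupersolvable_iff {G : Type u} [Group G] :
    IsSupersolvable G ↔ SSChain (⊤ : Subgroup G) := by
  constructor
  · rintro ⟨n, H, h0, hl, hn, hs⟩
    rw [← hl]
    exact ssChain_of_fin n H h0 hn hs _
  · intro h
    exact fin_of_ssChain h

theorem SSChain.map {G : Type u} {G' : Type*} [Group G] [Group G'] (f : G →* G')
    (hf : Function.Surjective f) {A : Subgroup G} (h : SSChain A) : SSChain (A.map f) := by
  induction h with
  | bot => rw [Subgroup.map_bot]; exact SSChain.bot
  | step A g _ hA hAg ih =>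
    have e : (A ⊔ Subgroup.zpowers g).map f = A.map f ⊔ Subgroup.zpowers (f g) := by
      rw [Subgroup.map_sup, MonoidHom.map_zpowers]
    rw [e]
    refine SSChain.step _ _ ih (hA.map f hf) ?_
    rw [← e]
    exact hAg.map f hf

theorem isSupersolvable_of_surjective {G : Type u} {G' : Type*} [Group G] [Group G'] (f : G →* G')
    (hf : Function.Surjective f) (h : IsSupersolvable G) : IsSupersolvable G' := by
  rw [isSupersolvable_iff] at *
  have := h.map f hf
  rwa [Subgroup.map_top_of_surjective f hf] at this

theorem isSupersolvable_quotient {G : Type u} [Group G] (N : Subgroup G) [N.Normal]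
    (h : IsSupersolvable G) : IsSupersolvable (G ⧸ N) :=
  isSupersolvable_of_surjective (QuotientGroup.mk' N) (QuotientGroup.mk'_surjective N) h

theorem isSupersolvable_of_mulEquiv {G : Type u} {G' : Type*} [Group G] [Group G'] (e : G ≃* G')
    (h : IsSupersolvable G) : IsSupersolvable G' :=
  isSupersolvable_of_surjective e.toMonoidHom e.surjective h

theorem SSChain.comap {G : Type u} {G' : Type*} [Group G] [Group G'] (f : G →* G')
    (hf : Function.Surjective f) (hker : SSChain f.ker) {A : Subgroup G'} (h : SSChain A) :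
    SSChain (A.comap f) := by
  induction h with
  | bot =>
    have : (⊥ : Subgroup G').comap f = f.ker := rfl
    rw [this]; exact hker
  | step A g' _ hA hAg ih =>
    obtain ⟨g, rfl⟩ := hf g'
    have e : (A ⊔ Subgroup.zpowers (f g)).comap f = A.comap f ⊔ Subgroup.zpowers g := by
      rw [← Subgroup.comap_sup_eq f _ _ hf, ← MonoidHom.map_zpowers, Subgroup.comap_map_eq]
      apply le_antisymm
      · apply sup_le le_sup_left
        apply sup_le le_sup_right
        refine le_trans ?_ le_sup_left
        intro x hx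
        rw [Subgroup.mem_comap, MonoidHom.mem_ker.mp hx]
        exact A.one_mem
      · apply sup_le le_sup_left
        exact le_trans le_sup_left le_sup_right
    rw [e]
    refine SSChain.step _ _ ih (hA.comap f) ?_
    rw [← e]
    exact hAg.comap f

theorem ssChain_of_normal_cyclic {G : Type u} [Group G] (N : Subgroup G) [hN : N.Normal]
    [hc : IsCyclic N] : SSChain N := by
  obtain ⟨g, hg⟩ := isCyclic_iff_exists_zpowers_eq_top.mp hc
  have e : N = ⊥ ⊔ Subgroup.zpowers (g : G) := by
    rw [bot_sup_eq]
    apply le_antisymm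
    · intro x hx
      have : (⟨x, hx⟩ : N) ∈ Subgroup.zpowers g := by rw [hg]; trivial
      obtain ⟨k, hk⟩ := Subgroup.mem_zpowers_iff.mp this
      rw [Subgroup.mem_zpowers_iff]
      refine ⟨k, ?_⟩
      have := congrArg Subtype.val hk
      simpa using this
    · rw [Subgroup.zpowers_le]
      exact g.2
  have h := SSChain.step ⊥ (g : G) SSChain.bot Subgroup.normal_bot (by rw [← e]; exact hN)
  rw [← e] at h
  exact h

theorem isSupersolvable_of_cyclic_normal {G : Type u} [Group G] (N : Subgroup G) [N.Normal]
    [IsCyclic N] (h : IsSupersolvable (G ⧸ N)) : IsSupersolvable G := by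
  rw [isSupersolvable_iff] at *
  have hk : SSChain (QuotientGroup.mk' N).ker := by
    rw [QuotientGroup.ker_mk']
    exact ssChain_of_normal_cyclic N
  have := SSChain.comap (QuotientGroup.mk' N) (QuotientGroup.mk'_surjective N) hk h
  rwa [Subgroup.comap_top] at this

end Cfsg.Agent.Lib.helper4

namespace Cfsg.Agent.Lib.helper4

open Cfsg

universe u

theorem step_subgroupOf {G : Type u} [Group G] (K A : Subgroup G) [hA : A.Normal] (g : G) :
    ∃ k : K, (A ⊔ Subgroup.zpowers g).subgroupOf K = A.subgroupOf K ⊔ Subgroup.zpowers k := by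
  let π := QuotientGroup.mk' A
  let f : K →* G ⧸ A := π.comp K.subtype
  set B' := (A ⊔ Subgroup.zpowers g).subgroupOf K with hB'
  have hD : B'.map f ≤ Subgroup.zpowers (π g) := by
    rintro _ ⟨x, hx, rfl⟩
    have hx' : (x : G) ∈ A ⊔ Subgroup.zpowers g := hx
    have : π (x : G) ∈ (A ⊔ Subgroup.zpowers g).map π := ⟨_, hx', rfl⟩
    rw [Subgroup.map_sup, MonoidHom.map_zpowers] at this
    have hA0 : A.map π = ⊥ :=
      (Subgroup.map_eq_bot_iff _).mpr (le_of_eq (QuotientGroup.ker_mk' A).symm)
    rw [hA0, bot_sup_eq] at this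
    exact this
  haveI : IsCyclic (B'.map f) := Subgroup.isCyclic_of_le hD
  obtain ⟨d, hd⟩ := isCyclic_iff_exists_zpowers_eq_top.mp (inferInstance : IsCyclic (B'.map f))
  obtain ⟨k, hk, hkd⟩ := d.2
  refine ⟨k, ?_⟩
  apply le_antisymm
  · intro y hy
    have hfy : f y ∈ B'.map f := ⟨y, hy, rfl⟩
    have : (⟨f y, hfy⟩ : B'.map f) ∈ Subgroup.zpowers d := by rw [hd]; trivial
    obtain ⟨j, hj⟩ := Subgroup.mem_zpowers_iff.mp this
    have hj' : (f k) ^ j = f y := by
      have := congrArg Subtype.val hj
      simp only [Subgroup.coe_zpow] at this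
      rw [← hkd] at this
      exact this
    have hy' : y = (y * k ^ (-j)) * k ^ j := by group
    rw [hy']
    apply Subgroup.mul_mem
    · apply Subgroup.mem_sup_left
      show ((y * k ^ (-j) : K) : G) ∈ A
      have h1 : f (y * k ^ (-j)) = 1 := by
        rw [map_mul, map_zpow, zpow_neg, hj', mul_inv_cancel]
      have h2 : π ((y * k ^ (-j) : K) : G) = 1 := h1
      exact (QuotientGroup.eq_one_iff _).mp h2
    · apply Subgroup.mem_sup_right
      exact Subgroup.zpow_mem _ (Subgroup.mem_zpowers k) j
  · apply sup_le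
    · intro x hx
      exact Subgroup.mem_sup_left (show (x : G) ∈ A from hx)
    · rw [Subgroup.zpowers_le]
      exact hk

theorem SSChain.subgroupOf {G : Type u} [Group G] (K : Subgroup G) {A : Subgroup G}
    (h : SSChain A) : SSChain (A.subgroupOf K) := by
  induction h with
  | bot => rw [Subgroup.bot_subgroupOf]; exact SSChain.bot
  | step A g _ hA hAg ih =>
    haveI := hA
    obtain ⟨k, hk⟩ := step_subgroupOf K A g
    rw [hk]
    refine SSChain.step _ _ ih ?_ ?_
    · exact hA.subgroupOf K
    · rw [← hk]; exact hAg.subgroupOf K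

theorem isSupersolvable_subgroup {G : Type u} [Group G] (K : Subgroup G)
    (h : IsSupersolvable G) : IsSupersolvable K := by
  rw [isSupersolvable_iff] at *
  have := h.subgroupOf K
  rwa [Subgroup.top_subgroupOf] at this

theorem prod_bot_eq_map {G : Type u} {H : Type*} [Group G] [Group H] (A : Subgroup G) :
    A.prod (⊥ : Subgroup H) = A.map (MonoidHom.inl G H) := by
  ext ⟨a, b⟩
  simp only [Subgroup.mem_prod, Subgroup.mem_bot, Subgroup.mem_map, MonoidHom.inl_apply,
    Prod.mk.injEq]
  constructor
  · rintro ⟨ha, rfl⟩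
    exact ⟨a, ha, rfl, rfl⟩
  · rintro ⟨x, hx, rfl, rfl⟩
    exact ⟨hx, rfl⟩

theorem SSChain.map_inl {G : Type u} {H : Type*} [Group G] [Group H] {A : Subgroup G}
    (h : SSChain A) : SSChain (A.prod (⊥ : Subgroup H)) := by
  induction h with
  | bot => rw [Subgroup.bot_prod_bot]; exact SSChain.bot
  | step A g _ hA hAg ih =>
    have e : (A ⊔ Subgroup.zpowers g).prod (⊥ : Subgroup H) =
        A.prod ⊥ ⊔ Subgroup.zpowers ((g, 1) : G × H) := by
      rw [prod_bot_eq_map, prod_bot_eq_map, Subgroup.map_sup, MonoidHom.map_zpowers]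
      rfl
    rw [e]
    haveI := hA
    haveI := hAg
    refine SSChain.step _ _ ih (Subgroup.prod_normal A ⊥) ?_
    rw [← e]
    exact Subgroup.prod_normal _ ⊥

theorem isSupersolvable_prod {G : Type u} {H : Type*} [Group G] [Group H]
    (hG : IsSupersolvable G) (hH : IsSupersolvable H) : IsSupersolvable (G × H) := by
  rw [isSupersolvable_iff] at *
  have hk : SSChain (MonoidHom.snd G H).ker := by
    have : (MonoidHom.snd G H).ker = (⊤ : Subgroup G).prod ⊥ := by
      ext x
      simp [MonoidHom.mem_ker, Subgroup.mem_prod]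
    rw [this]
    exact hG.map_inl
  have := SSChain.comap (MonoidHom.snd G H) Prod.snd_surjective hk hH
  rwa [Subgroup.comap_top] at this

end Cfsg.Agent.Lib.helper4

namespace Cfsg.Agent.Lib.helper4

open Cfsg

universe u

theorem relIndex_mul_index_sup {K : Type*} [Group K] [Finite K] (N T : Subgroup K) [N.Normal] :
    T.relIndex N * (T ⊔ N).index = T.index := by
  have hA : (T ⊓ N).relIndex N * N.index = (T ⊓ N).index :=
    Subgroup.relIndex_mul_index inf_le_right
  have hB : (T ⊓ N).relIndex T * T.index = (T ⊓ N).index :=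
    Subgroup.relIndex_mul_index inf_le_left
  have hC : N.relIndex (T ⊔ N) * (T ⊔ N).index = N.index :=
    Subgroup.relIndex_mul_index le_sup_right
  rw [Subgroup.inf_relIndex_right] at hA
  rw [Subgroup.inf_relIndex_left, ← Subgroup.relIndex_sup_right T N] at hB
  have hne : N.relIndex (T ⊔ N) ≠ 0 := by
    intro h0
    have h1 : N.relIndex (T ⊔ N) ∣ Nat.card (T ⊔ N : Subgroup K) := Subgroup.relIndex_dvd_card _ _
    rw [h0] at h1
    have := Nat.eq_zero_of_zero_dvd h1
    have hpos : 0 < Nat.card (T ⊔ N : Subgroup K) := Nat.card_pos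
    omega
  have key : N.relIndex (T ⊔ N) * (T.relIndex N * (T ⊔ N).index) = N.relIndex (T ⊔ N) * T.index := by
    rw [hB, ← hA, ← hC]; ring
  exact Nat.eq_of_mul_eq_mul_left (Nat.pos_of_ne_zero hne) key

theorem exists_normal_prime_le {G : Type u} [Group G] [Finite G] {A : Subgroup G} (h : SSChain A)
    (hA : A ≠ ⊥) : ∃ N : Subgroup G, N ≤ A ∧ N.Normal ∧ (Nat.card N).Prime := by
  induction h with
  | bot => exact absurd rfl hA
  | step A g _ hAn hAg ih =>
    by_cases hA0 : A = ⊥
    · subst hA0
      rw [bot_sup_eq] at hA hAg ⊢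
      have hg1 : g ≠ 1 := by
        intro h
        apply hA
        rw [h, Subgroup.zpowers_one_eq_bot]
      have hn1 : orderOf g ≠ 1 := by
        intro h
        exact hg1 (orderOf_eq_one_iff.mp h)
      have hpos : 0 < orderOf g := orderOf_pos g
      set n := orderOf g with hn
      set p := n.minFac with hp
      have hpp : p.Prime := Nat.minFac_prime hn1
      have hpd : p ∣ n := Nat.minFac_dvd n
      have hnp : n / p ≠ 0 := by
        intro h
        have := Nat.div_mul_cancel hpd
        rw [h, zero_mul] at this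
        omega
      have hord : orderOf (g ^ (n / p)) = p := by
        rw [orderOf_pow_of_dvd hnp (Nat.div_dvd_of_dvd hpd), ← hn]
        exact Nat.div_div_self hpd (by omega)
      refine ⟨Subgroup.zpowers (g ^ (n / p)), ?_, ?_, ?_⟩
      · rw [Subgroup.zpowers_le]
        exact Subgroup.pow_mem _ (Subgroup.mem_zpowers g) _
      · constructor
        intro y hy x
        obtain ⟨j, rfl⟩ := Subgroup.mem_zpowers_iff.mp hy
        have hx : x * g * x⁻¹ ∈ Subgroup.zpowers g := hAg.conj_mem g (Subgroup.mem_zpowers g) x
        obtain ⟨k, hk⟩ := Subgroup.mem_zpowers_iff.mp hx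
        rw [Subgroup.mem_zpowers_iff]
        refine ⟨k * j, ?_⟩
        have h1 : x * (g ^ (n / p)) ^ j * x⁻¹ = ((x * g * x⁻¹) ^ (n / p)) ^ j := by
          rw [conj_pow, conj_zpow]
        rw [h1, ← hk]
        rw [← zpow_natCast, ← zpow_natCast, ← zpow_mul, ← zpow_mul, ← zpow_mul]
        congr 1
        ring
      · rw [Nat.card_zpowers, hord]
        exact hpp
    · obtain ⟨N, hN, hNn, hNp⟩ := ih hA0
      exact ⟨N, le_trans hN le_sup_left, hNn, hNp⟩

theorem exists_normal_prime {G : Type u} [Group G] [Finite G] [Nontrivial G]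
    (h : IsSupersolvable G) : ∃ N : Subgroup G, N.Normal ∧ (Nat.card N).Prime := by
  rw [isSupersolvable_iff] at h
  obtain ⟨N, _, hN, hp⟩ := exists_normal_prime_le h top_ne_bot
  exact ⟨N, hN, hp⟩

theorem card_quotient_lt {G : Type u} [Group G] [Finite G] (N : Subgroup G) [N.Normal]
    (hp : (Nat.card N).Prime) : Nat.card (G ⧸ N) < Nat.card G := by
  have h := Subgroup.card_eq_card_quotient_mul_card_subgroup N
  have h2 := hp.two_le
  have hpos : 0 < Nat.card (G ⧸ N) := Nat.card_pos
  rw [h]
  nlinarith

theorem isCoatom_map_of_le {G : Type u} [Group G] (N M : Subgroup G) [N.Normal] (hNM : N ≤ M)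
    (hM : IsCoatom M) : IsCoatom (M.map (QuotientGroup.mk' N)) := by
  have hcm : (M.map (QuotientGroup.mk' N)).comap (QuotientGroup.mk' N) = M := by
    rw [Subgroup.comap_map_eq, QuotientGroup.ker_mk']
    exact sup_eq_left.mpr hNM
  constructor
  · intro h
    apply hM.1
    rw [← hcm, h, Subgroup.comap_top]
  · intro K' hK'
    have hle : M ≤ K'.comap (QuotientGroup.mk' N) := by
      rw [← hcm]
      exact Subgroup.comap_mono hK'.le
    have hne : M ≠ K'.comap (QuotientGroup.mk' N) := by
      intro h
      have : K' = M.map (QuotientGroup.mk' N) := by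
        rw [h, Subgroup.map_comap_eq_self_of_surjective (QuotientGroup.mk'_surjective N)]
      exact hK'.ne this.symm
    have htop := hM.2 _ (lt_of_le_of_ne hle hne)
    rw [← Subgroup.map_comap_eq_self_of_surjective (QuotientGroup.mk'_surjective N) K', htop,
      Subgroup.map_top_of_surjective _ (QuotientGroup.mk'_surjective N)]

theorem index_map_of_le {G : Type u} [Group G] (N M : Subgroup G) [N.Normal] (hNM : N ≤ M) :
    (M.map (QuotientGroup.mk' N)).index = M.index := by
  rw [Subgroup.index_map, QuotientGroup.ker_mk', sup_eq_left.mpr hNM,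
    MonoidHom.range_eq_top.mpr (QuotientGroup.mk'_surjective N), Subgroup.index_top, mul_one]

theorem coatom_index_prime_aux (n : ℕ) : ∀ (G : Type u) [Group G] [Finite G], Nat.card G = n →
    IsSupersolvable G → ∀ M : Subgroup G, IsCoatom M → M.index.Prime := by
  induction n using Nat.strong_induction_on with
  | _ n ih =>
    intro G _ _ hn hG M hM
    haveI : Nontrivial G := by
      by_contra h
      rw [not_nontrivial_iff_subsingleton] at h
      exact hM.1 (Subsingleton.elim _ _)
    obtain ⟨N, hNn, hNp⟩ := exists_normal_prime hG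
    haveI := hNn
    by_cases hNM : N ≤ M
    · have hlt : Nat.card (G ⧸ N) < n := hn ▸ card_quotient_lt N hNp
      have := ih _ hlt (G ⧸ N) rfl (isSupersolvable_quotient N hG) _ (isCoatom_map_of_le N M hNM hM)
      rwa [index_map_of_le N M hNM] at this
    · have hsup : M ⊔ N = ⊤ := by
        apply hM.2
        apply lt_of_le_of_ne le_sup_left
        intro h
        apply hNM
        rw [h]
        exact le_sup_right
      have h1 := relIndex_mul_index_sup N M
      rw [hsup, Subgroup.index_top, mul_one] at h1
      rw [← h1]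
      have h2 : M.relIndex N ∣ Nat.card N := Subgroup.relIndex_dvd_card M N
      rcases (Nat.dvd_prime hNp).mp h2 with h3 | h3
      · exfalso
        apply hNM
        exact Subgroup.relIndex_eq_one.mp h3
      · rw [h3]; exact hNp

theorem coatom_index_prime {G : Type u} [Group G] [Finite G] (hG : IsSupersolvable G)
    (M : Subgroup G) (hM : IsCoatom M) : M.index.Prime :=
  coatom_index_prime_aux _ G rfl hG M hM

end Cfsg.Agent.Lib.helper4

namespace Cfsg.Agent.Lib.helper4

open Cfsg

universe u

theorem card_comap_mk' {G : Type u} [Group G] [Finite G] (N : Subgroup G) [N.Normal]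
    (H' : Subgroup (G ⧸ N)) :
    Nat.card (H'.comap (QuotientGroup.mk' N)) = Nat.card H' * Nat.card N := by
  have h1 : (H'.comap (QuotientGroup.mk' N)).index = H'.index :=
    Subgroup.index_comap_of_surjective H' (QuotientGroup.mk'_surjective N)
  have h2 := Subgroup.card_mul_index (H'.comap (QuotientGroup.mk' N))
  have h3 := Subgroup.card_mul_index H'
  have h4 := Subgroup.card_eq_card_quotient_mul_card_subgroup N
  rw [h1] at h2
  have hpos : 0 < H'.index := Nat.pos_of_ne_zero Subgroup.index_ne_zero_of_finite
  have : Nat.card (H'.comap (QuotientGroup.mk' N)) * H'.index =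
      (Nat.card H' * Nat.card N) * H'.index := by
    rw [h2, h4, ← h3]; ring
  exact Nat.eq_of_mul_eq_mul_right hpos this

theorem hasSubgroupOfEveryOrder_aux (n : ℕ) : ∀ (G : Type u) [Group G] [Finite G], Nat.card G = n →
    IsSupersolvable G → HasSubgroupOfEveryOrder G := by
  induction n using Nat.strong_induction_on with
  | _ n ih =>
    intro G _ _ hn hG d hd
    by_cases htriv : Subsingleton G
    · have h1 : Nat.card G = 1 := Nat.card_eq_one_iff_unique.mpr ⟨htriv, ⟨1⟩⟩
      rw [h1, Nat.dvd_one] at hd
      subst hd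
      exact ⟨⊥, Subgroup.card_bot⟩
    · haveI : Nontrivial G := not_subsingleton_iff_nontrivial.mp htriv
      obtain ⟨N, hNn, hNp⟩ := exists_normal_prime hG
      haveI := hNn
      have hlt : Nat.card (G ⧸ N) < n := hn ▸ card_quotient_lt N hNp
      have hcard := Subgroup.card_eq_card_quotient_mul_card_subgroup N
      set p := Nat.card N with hp
      have hQ := ih _ hlt (G ⧸ N) rfl (isSupersolvable_quotient N hG)
      by_cases hpd : p ∣ d
      · obtain ⟨d', rfl⟩ := hpd
        have hd' : d' ∣ Nat.card (G ⧸ N) := by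
          rw [hcard] at hd
          have hd2 : p * d' ∣ p * Nat.card (G ⧸ N) := by rwa [mul_comm p (Nat.card (G ⧸ N))]
          exact (Nat.mul_dvd_mul_iff_left hNp.pos).mp hd2
        obtain ⟨H', hH'⟩ := hQ d' hd'
        refine ⟨H'.comap (QuotientGroup.mk' N), ?_⟩
        rw [card_comap_mk', hH', mul_comm]
      · have hcop : Nat.Coprime d p := (Nat.Coprime.symm ((Nat.Prime.coprime_iff_not_dvd hNp).mpr hpd))
        have hd' : d ∣ Nat.card (G ⧸ N) := by
          rw [hcard] at hd
          exact hcop.dvd_of_dvd_mul_right hd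
        obtain ⟨H', hH'⟩ := hQ d hd'
        set K := H'.comap (QuotientGroup.mk' N) with hK
        have hKcard : Nat.card K = d * p := by rw [hK, card_comap_mk', hH']
        have hNK : N ≤ K := by
          intro x hx
          rw [hK, Subgroup.mem_comap]
          have : QuotientGroup.mk' N x = 1 := (QuotientGroup.eq_one_iff x).mpr hx
          rw [this]
          exact H'.one_mem
        haveI : (N.subgroupOf K).Normal := hNn.subgroupOf K
        have hNKcard : Nat.card (N.subgroupOf K) = p := by
          rw [Nat.card_congr (Subgroup.subgroupOfEquivOfLe hNK).toEquiv]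
        have hidx : (N.subgroupOf K).index = d := by
          have := Subgroup.card_mul_index (N.subgroupOf K)
          rw [hNKcard, hKcard] at this
          have hp0 : 0 < p := hNp.pos
          have : p * (N.subgroupOf K).index = p * d := by rw [this]; ring
          exact Nat.eq_of_mul_eq_mul_left hp0 this
        have hcop' : Nat.Coprime (Nat.card (N.subgroupOf K)) (N.subgroupOf K).index := by
          rw [hNKcard, hidx]
          exact hcop.symm
        obtain ⟨C, hC⟩ := Subgroup.exists_right_complement'_of_coprime hcop'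
        have hCcard : Nat.card C = d := by
          have := hC.card_mul_card
          rw [hNKcard, hKcard] at this
          have hp0 : 0 < p := hNp.pos
          have : p * Nat.card C = p * d := by rw [this]; ring
          exact Nat.eq_of_mul_eq_mul_left hp0 this
        refine ⟨C.map K.subtype, ?_⟩
        rw [Subgroup.card_map_of_injective K.subtype_injective, hCcard]

theorem hasSubgroupOfEveryOrder {G : Type u} [Group G] [Finite G] (hG : IsSupersolvable G) :
    HasSubgroupOfEveryOrder G :=
  hasSubgroupOfEveryOrder_aux _ G rfl hG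

end Cfsg.Agent.Lib.helper4
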