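import Mathlib
import Cfsg.Prelude.Def_SolvableStructure
import Cfsg.Agent.Lib.helper4.Supersolvable

set_option autoImplicit false

namespace Cfsg.Agent.Lib.helper4

open Cfsg

universe u

theorem normal_sylow_of_card_pq {M : Type*} [Group M] [Finite M] (p q : ℕ) (hp : p.Prime)
    (hq : q.Prime) (hqp : q < p) (hM : Nat.card M = p * q) :
    ∃ P : Subgroup M, P.Characteristic ∧ Nat.card P = p := by
  haveI : Fact p.Prime := ⟨hp⟩
  let P : Sylow p M := default
  have hcard : Nat.card P = p := by
    rw [Sylow.card_eq_multiplicity, hM, Nat.factorization_mul hp.ne_zero hq.ne_zero]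
    have h1 : p.factorization p = 1 := hp.factorization_self
    have h2 : q.factorization p = 0 := by
      apply Nat.factorization_eq_zero_of_not_dvd
      intro h
      have := Nat.le_of_dvd hq.pos h
      omega
    simp [h1, h2]
  have hidx : (P : Subgroup M).index = q := by
    have h := Subgroup.card_mul_index (P : Subgroup M)
    rw [hM] at h
    have h' : Nat.card (P : Subgroup M) = p := hcard
    rw [h'] at h
    exact Nat.eq_of_mul_eq_mul_left hp.pos h
  have h1 : Nat.card (Sylow p M) ≡ 1 [MOD p] := card_sylow_modEq_one p M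
  have h2 : Nat.card (Sylow p M) ∣ q := by
    rw [← hidx]
    exact Sylow.card_dvd_index P
  have h3 : Nat.card (Sylow p M) = 1 := by
    rcases (Nat.dvd_prime hq).mp h2 with h | h
    · exact h
    · exfalso
      rw [h] at h1
      have h1' : q % p = 1 % p := h1
      rw [Nat.mod_eq_of_lt hqp, Nat.mod_eq_of_lt hp.one_lt] at h1'
      have := hq.one_lt
      omega
  haveI : Subsingleton (Sylow p M) := (Nat.card_eq_one_iff_unique.mp h3).1
  exact ⟨P, Sylow.characteristic_of_subsingleton P, hcard⟩

theorem exists_normal_largest_prime_aux (n : ℕ) : ∀ (G : Type u) [Group G] [Finite G],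
    Nat.card G = n → IsSupersolvable G → ∀ p : ℕ, p.Prime → p ∣ Nat.card G →
    (∀ q : ℕ, q.Prime → q ∣ Nat.card G → q ≤ p) →
    ∃ N : Subgroup G, N.Normal ∧ Nat.card N = p := by
  induction n using Nat.strong_induction_on with
  | _ n ih =>
    intro G _ _ hn hG p hp hpd hmax
    haveI : Nontrivial G := by
      rw [← Finite.one_lt_card_iff_nontrivial]
      have := Nat.le_of_dvd Nat.card_pos hpd
      have := hp.two_le
      omega
    obtain ⟨N0, hN0, hq⟩ := exists_normal_prime hG
    haveI := hN0
    set q := Nat.card N0 with hqdef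
    have hqd : q ∣ Nat.card G := Subgroup.card_subgroup_dvd_card N0
    have hqle : q ≤ p := hmax q hq hqd
    by_cases hqp : q = p
    · exact ⟨N0, hN0, hqp⟩
    have hqlt : q < p := lt_of_le_of_ne hqle hqp
    have hcard := Subgroup.card_eq_card_quotient_mul_card_subgroup N0
    rw [← hqdef] at hcard
    have hpd' : p ∣ Nat.card (G ⧸ N0) := by
      rw [hcard] at hpd
      rcases (Nat.Prime.dvd_mul hp).mp hpd with h | h
      · exact h
      · exfalso
        have := Nat.le_of_dvd hq.pos h
        omega
    have hlt : Nat.card (G ⧸ N0) < n := by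
      rw [← hn]; exact card_quotient_lt N0 hq
    have hmax' : ∀ r : ℕ, r.Prime → r ∣ Nat.card (G ⧸ N0) → r ≤ p := by
      intro r hr hrd
      apply hmax r hr
      rw [hcard]
      exact Dvd.dvd.mul_right hrd q
    obtain ⟨Mb, hMb, hMbc⟩ := ih _ hlt (G ⧸ N0) rfl (isSupersolvable_quotient N0 hG) p hp hpd' hmax'
    haveI := hMb
    set M := Mb.comap (QuotientGroup.mk' N0) with hMdef
    haveI hMn : M.Normal := Subgroup.Normal.comap hMb _
    have hMc : Nat.card M = p * q := by
      rw [hMdef, card_comap_mk', hMbc]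
    obtain ⟨P, hPc, hPcard⟩ := normal_sylow_of_card_pq p q hp hq hqlt hMc
    haveI := hPc
    refine ⟨P.map M.subtype, ConjAct.normal_of_characteristic_of_normal, ?_⟩
    rw [Subgroup.card_map_of_injective M.subtype_injective, hPcard]

theorem exists_normal_largest_prime {G : Type u} [Group G] [Finite G] (hG : IsSupersolvable G)
    (p : ℕ) (hp : p.Prime) (hpd : p ∣ Nat.card G)
    (hmax : ∀ q : ℕ, q.Prime → q ∣ Nat.card G → q ≤ p) :
    ∃ N : Subgroup G, N.Normal ∧ Nat.card N = p :=
  exists_normal_largest_prime_aux _ G rfl hG p hp hpd hmax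

end Cfsg.Agent.Lib.helper4
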