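import Mathlib
import Cfsg.Prelude.Def_Characters
import Cfsg.Prelude.Def_Blocks
import Cfsg.Prelude.Def_Local
import Cfsg.Agent.Lib.Helper25.CharLinear
import Cfsg.Agent.Lib.Helper24.KleinOrder1
import Cfsg.Agent.Lib.Helper24.KleinOrder7
import Cfsg.Agent.S0158
import Cfsg.Agent.S0895

/-!
# Project BT3 (S4501), PART 1, piece P1-REAL : `ζ₃` is real-valued when the signs are `(1,-1,-1)`
-/

set_option autoImplicit false
set_option linter.unusedVariables false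
set_option linter.unusedSectionVars false

namespace Cfsg.Agent.Lib.Helper13.BT3

open Classical
open scoped ComplexConjugate
open Cfsg.Agent.Lib.Helper25 Cfsg.Agent.Lib.Helper24

universe u

variable {G : Type u} [Group G] [Fintype G]

/-- the Frobenius–Schur indicator of an irreducible character is `0`, `1` or `-1`, and a non-zero indicator forces
real values (S0158 for a representation affording the character) -/
theorem bt3p1real_indicator (φ : Cfsg.IrrCharacter G) :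
    ((Nat.card G : ℂ)⁻¹ * ∑ s : G, (φ : G → ℂ) (s * s) = 0 ∨
      (Nat.card G : ℂ)⁻¹ * ∑ s : G, (φ : G → ℂ) (s * s) = 1 ∨
      (Nat.card G : ℂ)⁻¹ * ∑ s : G, (φ : G → ℂ) (s * s) = -1) ∧
    ((Nat.card G : ℂ)⁻¹ * ∑ s : G, (φ : G → ℂ) (s * s) ≠ 0 → ∀ g : G, ((φ : G → ℂ) g).im = 0) := by
  obtain ⟨n, ρ, hirr, hch⟩ := φ.2
  have hirr' : ρ.IsIrreducible := hirr
  have t := @Cfsg.Agent.S0158.result G _ _ (Fin n → ℂ) _ _ _ ρ hirr'
  rw [hch] at t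
  refine ⟨t.1, ?_⟩
  intro hne g
  by_contra hg
  exact hne (t.2.mpr ⟨g, hg⟩)

/-- P1-REAL -/
theorem p1_real (M : Ideal Cfsg.AlgInt) (hM : Cfsg.IsPModular 2 M) {J : G} {P O : Subgroup G}
    (h : KFData J P O) (hOcore : O ≤ Cfsg.centralizerPPrimeCore 2 J) (ζ₂ ζ₃ ζ₄ : Cfsg.IrrCharacter G)
    (hB : Cfsg.principalBlock M G = {χ : Cfsg.IrrCharacter G |
      (χ : G → ℂ) = (fun _ => 1) ∨ χ = ζ₂ ∨ χ = ζ₃ ∨ χ = ζ₄})
    (hdist : (ζ₂ : G → ℂ) ≠ (fun _ => 1) ∧ (ζ₃ : G → ℂ) ≠ (fun _ => 1) ∧ (ζ₄ : G → ℂ) ≠ (fun _ => 1) ∧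
      ζ₂ ≠ ζ₃ ∧ ζ₂ ≠ ζ₄ ∧ ζ₃ ≠ ζ₄)
    (hval : (ζ₂ : G → ℂ) J = ((1 : ℤ) : ℂ) ∧ (ζ₃ : G → ℂ) J = ((-1 : ℤ) : ℂ) ∧
      (ζ₄ : G → ℂ) J = ((-1 : ℤ) : ℂ)) :
    ∀ g : G, ((ζ₃ : G → ℂ) g).im = 0 := by
  have hJJ := h.JJ
  have hJ1 : J ≠ 1 := by
    intro hJ
    have := h.hJ
    rw [hJ, orderOf_one] at this
    omega
  have hv2 : (ζ₂ : G → ℂ) J = 1 := by rw [hval.1]; norm_num
  have hv3 : (ζ₃ : G → ℂ) J = -1 := by rw [hval.2.1]; norm_num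
  have hv4 : (ζ₄ : G → ℂ) J = -1 := by rw [hval.2.2]; norm_num
  have hne : (1 : ℂ) ≠ -1 := by norm_num
  -- `ζ₂` is real-valued
  have hmem2 : ζ₂ ∈ Cfsg.principalBlock M G := by
    rw [hB]; exact Or.inr (Or.inl rfl)
  have hc2 : (irrConj ζ₂ : G → ℂ) = (fun _ => 1) ∨ irrConj ζ₂ = ζ₂ ∨ irrConj ζ₂ = ζ₃ ∨
      irrConj ζ₂ = ζ₄ := by
    have := kf_conj_mem_principal M ζ₂ hmem2
    rw [hB] at this
    exact this
  have hcv2 : (irrConj ζ₂ : G → ℂ) J = 1 := by rw [irrConj_apply, hv2, map_one]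
  have h2real : irrConj ζ₂ = ζ₂ := by
    rcases hc2 with h0 | h0 | h0 | h0
    · exfalso
      apply hdist.1
      funext g
      have := congrFun h0 g
      rw [irrConj_apply] at this
      have h2 := congrArg conj this
      rw [Complex.conj_conj, map_one] at h2
      exact h2
    · exact h0
    · exfalso; rw [h0, hv3] at hcv2; exact hne hcv2.symm
    · exfalso; rw [h0, hv4] at hcv2; exact hne hcv2.symm
  have hre2 : ∀ g : G, ((ζ₂ : G → ℂ) g).im = 0 := by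
    intro g
    have := congrFun (congrArg Subtype.val h2real) g
    rw [irrConj_apply] at this
    exact Complex.conj_eq_iff_im.mp this
  have hodd2 := kf_degree_odd ζ₂ J hJJ hJ1 1 hval.1 (Or.inl rfl)
  have hn2 : (Nat.card G : ℂ)⁻¹ * ∑ s : G, (ζ₂ : G → ℂ) (s * s) = 1 :=
    Cfsg.Agent.S0895.result (ζ₂ : G → ℂ) ζ₂.2 hre2 _ (charDegree_irr ζ₂).1.symm hodd2
  -- the sum of the indicators
  have hsum : ∑ g : G, (1 + ((1 : ℤ) : ℂ) * (ζ₂ : G → ℂ) (g * g) +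
      ((-1 : ℤ) : ℂ) * (ζ₃ : G → ℂ) (g * g) + ((-1 : ℤ) : ℂ) * (ζ₄ : G → ℂ) (g * g)) = 0 := by
    apply Finset.sum_eq_zero
    intro g _
    exact kf_nu_sum M hM h hOcore ζ₂ ζ₃ ζ₄ 1 (-1) (-1) hB hdist
      ⟨Or.inl rfl, Or.inr rfl, Or.inr rfl⟩ hval g
  rw [Finset.sum_add_distrib, Finset.sum_add_distrib, Finset.sum_add_distrib,
    ← Finset.mul_sum, ← Finset.mul_sum, ← Finset.mul_sum] at hsum
  simp only [Finset.sum_const, Finset.card_univ, nsmul_eq_mul, mul_one,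
    ← Nat.card_eq_fintype_card] at hsum
  have hG : (Nat.card G : ℂ) ≠ 0 := by exact_mod_cast Nat.card_pos.ne'
  obtain ⟨t3, r3⟩ := bt3p1real_indicator ζ₃
  obtain ⟨t4, -⟩ := bt3p1real_indicator ζ₄
  set ν₂ := (Nat.card G : ℂ)⁻¹ * ∑ s : G, (ζ₂ : G → ℂ) (s * s) with hν₂
  set ν₃ := (Nat.card G : ℂ)⁻¹ * ∑ s : G, (ζ₃ : G → ℂ) (s * s) with hν₃
  set ν₄ := (Nat.card G : ℂ)⁻¹ * ∑ s : G, (ζ₄ : G → ℂ) (s * s) with hν₄
  have hrel : 1 + ν₂ - ν₃ - ν₄ = 0 := by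
    have e : (Nat.card G : ℂ)⁻¹ * ((Nat.card G : ℂ) + ((1 : ℤ) : ℂ) * ∑ s : G, (ζ₂ : G → ℂ) (s * s) +
        ((-1 : ℤ) : ℂ) * ∑ s : G, (ζ₃ : G → ℂ) (s * s) +
        ((-1 : ℤ) : ℂ) * ∑ s : G, (ζ₄ : G → ℂ) (s * s)) = 0 := by
      rw [hsum, mul_zero]
    rw [hν₂, hν₃, hν₄]
    rw [← e]
    push_cast
    field_simp
    ring
  apply r3
  rw [hn2] at hrel
  intro h30
  rw [h30] at hrel
  rcases t4 with h4 | h4 | h4 <;> rw [h4] at hrel <;> norm_num at hrel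

end Cfsg.Agent.Lib.Helper13.BT3
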