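import Mathlib
import Cfsg.Agent.Lib.helper6.BT3P1PURE
import Cfsg.Agent.Lib.Helper1.BT3P1FORM
import Cfsg.Agent.Lib.Helper1.BT3P1DEG
import Cfsg.Agent.Lib.Helper13.BT3P1MINUS
import Cfsg.Agent.Lib.Helper13.BT3P1PLUS
import Cfsg.Agent.Lib.Helper24.BT3P1CORE
import Cfsg.Agent.Lib.Helper24.BT3P1ORDER
import Cfsg.Agent.Lib.helper4.BT3P1REAL
import Cfsg.Agent.Lib.helper6.BT3P1THREE
import Cfsg.Agent.Lib.Helper18.BT3BURN2
import Cfsg.Agent.Lib.Helper24.KleinOrder6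
import Cfsg.Agent.Lib.Helper24.KleinOrder4
import Cfsg.Agent.Lib.helper2.PModular2
import Cfsg.Agent.S0948
import Cfsg.Agent.S0942
import Cfsg.Agent.S0494
import Cfsg.Agent.S0144

/-!
# Project BT3 (S4501), PART 1 : assembly of `part_one` from the pieces `p1_*`
-/

set_option autoImplicit false
set_option linter.unusedVariables false
set_option linter.unusedSectionVars false
set_option linter.style.haveILetI false

namespace Cfsg.Agent.Lib.Helper13.BT3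

open Classical
open scoped ComplexConjugate
open Cfsg.Agent.Lib.Helper25 Cfsg.Agent.Lib.Helper24

universe u

variable {G : Type u} [Group G] [Fintype G]

theorem bt3p1asm_odd_prime_ge_five {r : ℕ} (hr : r.Prime) (h2 : r ≠ 2) (h3 : r ≠ 3) : 5 ≤ r := by
  have := hr.two_le
  by_contra hcon
  have : r = 4 := by omega
  rw [this] at hr
  exact (by decide : ¬ Nat.Prime 4) hr

/-- PART 1 in normalised form: `|G| = 4·3^A·r^B`, `r ≥ 5` prime -/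
theorem part_one_norm [IsSimpleGroup G] (hnc : ¬ ∀ x y : G, x * y = y * x) (r A B : ℕ) (hr : r.Prime)
    (hr5 : 5 ≤ r) (hcard : Nat.card G = 4 * (3 ^ A * r ^ B)) :
    Nonempty (G ≃* alternatingGroup (Fin 5)) := by
  haveI : Fact (Nat.Prime 2) := ⟨Nat.prime_two⟩
  set g₀ := 3 ^ A * r ^ B with hg₀def
  have hrodd : Odd r := hr.odd_of_ne_two (by omega)
  have hg₀ : Odd g₀ := (Odd.pow (by decide : Odd 3)).mul (Odd.pow hrodd)
  -- no normal subgroup of order `g₀`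
  have hg1 : g₀ ≠ 1 := by
    intro h1
    apply not_two_primes hnc 2 3 2 0 Nat.prime_two Nat.prime_three
    rw [hcard, h1]
    norm_num
  have hg0 : 0 < g₀ := hg₀.pos
  have hnc' : ¬ ∃ N : Subgroup G, N.Normal ∧ Nat.card N = g₀ := by
    rintro ⟨N, hN, hNc⟩
    rcases hN.eq_bot_or_eq_top with h | h
    · rw [h, Subgroup.card_bot] at hNc
      exact hg1 hNc.symm
    · rw [h, Subgroup.card_top, hcard] at hNc
      omega
  obtain ⟨M, hM⟩ := Cfsg.Agent.Lib.helper2.exists_isPModular 2 Nat.prime_two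
  obtain ⟨P⟩ : Nonempty (Sylow 2 G) := inferInstance
  obtain ⟨hPcard, hK, hone⟩ := kf_setup g₀ hg₀ hcard hnc' P
  have hPsq : ∀ x ∈ (P : Subgroup G), x * x = 1 := fun x hx => ks_sq _ hK hx
  obtain ⟨J, -, hJP, -, hJ1, -, -⟩ := ks_exists (P : Subgroup G) hK
  have hJ2 : orderOf J = 2 := ks_order_two _ hK hJP hJ1
  obtain ⟨O, hO, hOcore⟩ := kf_exists_O J hJ2 P hJP hPcard hPsq
  -- the principal block
  obtain ⟨ζ₂, ζ₃, ζ₄, ε, hε, h2ne, h3ne, h23, h24, h34, hB, hvals, hm2, hm3, hm4, hrel⟩ :=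
    Cfsg.Agent.S0948.result M hM P hK hone
  obtain ⟨hv2, hv3, hv4⟩ := hvals J hJ2
  have h4ne : (ζ₄ : G → ℂ) ≠ (fun _ => 1) := by
    intro h
    rw [h] at hv4
    norm_num at hv4
  have hdist : (ζ₂ : G → ℂ) ≠ (fun _ => 1) ∧ (ζ₃ : G → ℂ) ≠ (fun _ => 1) ∧
      (ζ₄ : G → ℂ) ≠ (fun _ => 1) ∧ ζ₂ ≠ ζ₃ ∧ ζ₂ ≠ ζ₄ ∧ ζ₃ ≠ ζ₄ := ⟨h2ne, h3ne, h4ne, h23, h24, h34⟩
  have hval : (ζ₂ : G → ℂ) J = ((1 : ℤ) : ℂ) ∧ (ζ₃ : G → ℂ) J = (ε : ℂ) ∧
      (ζ₄ : G → ℂ) J = ((-1 : ℤ) : ℂ) := by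
    refine ⟨by rw [hv2]; norm_num, hv3, by rw [hv4]; norm_num⟩
  -- degrees
  set x₂ := Cfsg.charDegree (ζ₂ : G → ℂ) with hx₂
  set x₃ := Cfsg.charDegree (ζ₃ : G → ℂ) with hx₃
  set x₄ := Cfsg.charDegree (ζ₄ : G → ℂ) with hx₄
  obtain ⟨hx2, hd2⟩ := p1_degree hnc ζ₂ h2ne
  obtain ⟨hx3, hd3⟩ := p1_degree hnc ζ₃ h3ne
  obtain ⟨hx4, hd4⟩ := p1_degree hnc ζ₄ h4ne
  rw [hcard] at hd2 hd3 hd4
  set cJ := Nat.card ↥(Subgroup.centralizer ({J} : Set G)) with hcJ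
  set cP := Nat.card ↥(Subgroup.centralizer ((P : Subgroup G) : Set G)) with hcP
  have hcJd : cJ ∣ 4 * g₀ := by
    rw [← hcard]; exact Subgroup.card_subgroup_dvd_card _
  have hcP0 : 0 < cP := Nat.card_pos
  have hform := p1_formula hnc M hM g₀ hg₀ hcard P J hJP hJ2 ζ₂ ζ₃ ζ₄ ε hε hB hdist hval hx2 hx3 hx4
  -- the relation between the degrees
  have hrel1 : (1 : ℤ) + x₂ + ε * x₃ - x₄ = 0 := by
    have h1 := hrel 1 (by rw [orderOf_one]; exact odd_one)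
    rw [← (charDegree_irr ζ₂).1, ← (charDegree_irr ζ₃).1, ← (charDegree_irr ζ₄).1] at h1
    exact_mod_cast h1
  -- pure powers
  obtain ⟨y₂, y₃, y₄, e2, e3, e4, p2, p3, p4⟩ := p1_pure r A B hr hr5 x₂ x₃ x₄ cJ cP ε hε hx2 hx3 hx4
    hd2 hd3 hd4 hm2 hm3 hm4 hcJd hcP0 hform
  -- `ε = -1` and the degrees
  have hmain : ε = -1 ∧ x₂ = 5 ∧ x₃ = 3 ∧ x₄ = 3 := by
    rcases hε with h1 | h1
    · exfalso
      subst h1
      refine p1_plus r hr hr5 x₂ x₃ x₄ y₂ y₃ y₄ hx2 hx3 hx4 ?_ ?_ ?_ ?_ p2 p3 p4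
      · exact_mod_cast e2
      · exact_mod_cast e3
      · have : (x₄ : ℤ) = 2 * y₄ + 1 := by linarith
        exact_mod_cast this
      · have : (y₄ : ℤ) + 1 = y₂ + y₃ := by linarith
        exact_mod_cast this
    · subst h1
      refine ⟨rfl, ?_⟩
      refine p1_minus r hr hr5 x₂ x₃ x₄ y₂ y₃ y₄ hx2 hx3 hx4 ?_ ?_ ?_ ?_ p2 p3 p4
      · exact_mod_cast e2
      · have : (x₃ : ℤ) = 2 * y₃ + 1 := by linarith
        exact_mod_cast this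
      · have : (x₄ : ℤ) = 2 * y₄ + 1 := by linarith
        exact_mod_cast this
      · have : (y₂ : ℤ) = y₃ + y₄ + 1 := by linarith
        exact_mod_cast this
  obtain ⟨hεm, hx25, hx33, hx43⟩ := hmain
  subst hεm
  -- `ζ₃` is real, `O = 1`
  have hval' : (ζ₂ : G → ℂ) J = ((1 : ℤ) : ℂ) ∧ (ζ₃ : G → ℂ) J = ((-1 : ℤ) : ℂ) ∧
      (ζ₄ : G → ℂ) J = ((-1 : ℤ) : ℂ) := hval
  have hreal := p1_real M hM hO hOcore ζ₂ ζ₃ ζ₄ hB hdist hval'
  have hmemB : ζ₃ ∈ Cfsg.principalBlock M G := by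
    rw [hB]; exact Or.inr (Or.inr (Or.inl rfl))
  have hJ3 : (ζ₃ : G → ℂ) J = -1 := by rw [hv3]; norm_num
  have hOval : ∀ ρ ∈ O, (ζ₃ : G → ℂ) (J * ρ) = (ζ₃ : G → ℂ) J := fun ρ hρ =>
    Cfsg.Agent.S0942.result 2 M hM J ⟨1, by rw [hJ2, pow_one]⟩ ρ (hOcore hρ) ζ₃ hmemB
  have hO1 := p1_core hnc hO ζ₃ hx33 hreal hJ3 hOval
  -- the order
  have hform' : ((4 * g₀ : ℕ) : ℤ) * ((((5 : ℕ) : ℤ) + 1) * (((3 : ℕ) : ℤ) + (-1)) * (((3 : ℕ) : ℤ) - 1)) *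
      (cP : ℤ) ^ 2 = 8 * (((5 : ℕ) : ℤ) * ((3 : ℕ) : ℤ) * ((3 : ℕ) : ℤ)) * (cJ : ℤ) ^ 3 := by
    have h := hform
    rw [← hx₂, ← hx₃, ← hx₄, hx25, hx33, hx43] at h
    exact h
  have h60 := p1_order g₀ hcard hO hO1 cP rfl hform'
  exact Cfsg.Agent.S0494.result h60

/-- PART 1 of S4501 -/
theorem part_one [IsSimpleGroup G] (hnc : ¬ ∀ x y : G, x * y = y * x) (p q a b : ℕ) (hp : p.Prime)
    (hq : q.Prime) (hpq : p ≠ q) (ha : a ≤ 2) (hcard : Nat.card G = 4 * p ^ a * q ^ b) :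
    Nonempty (G ≃* alternatingGroup (Fin 5)) := by
  by_cases hp2 : p = 2
  · exfalso
    subst hp2
    exact not_two_primes hnc 2 q (a + 2) b hp hq (by rw [hcard, pow_add]; ring)
  by_cases hq2 : q = 2
  · exfalso
    subst hq2
    exact not_two_primes hnc p 2 a (b + 2) hp hq (by rw [hcard, pow_add]; ring)
  have hg₀ : Odd (p ^ a * q ^ b) :=
    (Odd.pow (hp.odd_of_ne_two hp2)).mul (Odd.pow (hq.odd_of_ne_two hq2))
  have hG : Nat.card G = 4 * (p ^ a * q ^ b) := by rw [hcard]; ring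
  have h3 := p1_three_dvd hnc (p ^ a * q ^ b) hg₀ hG
  rcases (Nat.Prime.dvd_mul Nat.prime_three).mp h3 with h | h
  · have hp3 : p = 3 := ((Nat.prime_dvd_prime_iff_eq Nat.prime_three hp).mp
      (Nat.prime_three.dvd_of_dvd_pow h)).symm
    subst hp3
    exact part_one_norm hnc q a b hq (bt3p1asm_odd_prime_ge_five hq hq2 (Ne.symm hpq)) hG
  · have hq3 : q = 3 := ((Nat.prime_dvd_prime_iff_eq Nat.prime_three hq).mp
      (Nat.prime_three.dvd_of_dvd_pow h)).symm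
    subst hq3
    exact part_one_norm hnc p b a hp (bt3p1asm_odd_prime_ge_five hp hp2 hpq) (by rw [hG]; ring)

end Cfsg.Agent.Lib.Helper13.BT3
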