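import Mathlib
import Cfsg.Prelude.Def_Classical
import Cfsg.Prelude.Def_KGroupFacts
import Cfsg.Agent.Lib.helper3.SPB.Defs
import Cfsg.Agent.Lib.Helper16.STBH5
import Cfsg.Agent.Lib.Helper20.STBH1

/-!
# Project SPB (designer helper3), rows T0c (`map_hsB`) and T1 (`CovB.zel_eq`), VERBATIM (helper4).

T1 on the lead's STB rows H6 `hs_neg_one_eq` (`Helper16.STBH5`) and H1 `hs_swap` (`Helper20.STBH1`).
-/

set_option autoImplicit false

namespace Cfsg.Agent.Lib.helper3.SPB

open Cfsg.Agent.Lib.helper15.St2 Cfsg.Agent.Lib.helper3.STC Cfsg.Agent.Lib.Lead.STD Cfsg.Agent.Lib.Lead.STB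
  Cfsg.Agent.Lib.Lead.SPN Cfsg.Agent.Lib.Helper16 Cfsg.Agent.Lib.Helper12.OMB

universe u v w

/-- T0c [S]  a homomorphism matching the short root elements matches the short torus elements (`unfold SysB.hs SysB.ws`, `map_mul`; model: `spng2_map_h`). -/
theorem map_hsB {K : Type*} [Field K] {ι : Type*} {G : Type*} [Group G] {H : Type*} [Group H]
    (S : SysB K ι G) (T : SysB K ι H) (f : G →* H) (hf : ∀ a t, f (S.xs a t) = T.xs a t) (a : ι ⊕ ι) (t : K) :
    f (S.hs a t) = T.hs a t := by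
  unfold SysB.hs SysB.ws
  simp only [map_mul, hf]

namespace CovB

variable {l : ℕ} {F : Type u} [Field F] [Fintype F] {G : Type v} [Group G] (C : CovB l F G)

/-- T1 [S-M]  the spin element does not depend on the index: STB H6 `hs_neg_one_eq` (for `a ≠ ±(inl i0)`), STB H1 `hs_swap` at `u = -1` (`(-1)⁻¹ = -1`) for `a = inr i0`. -/
theorem zel_eq (a : Fin l ⊕ Fin l) : C.S.hs a (-1) = C.zel := by
  unfold CovB.zel
  by_cases h1 : a = Sum.inl C.i0
  · rw [h1]
  · by_cases h2 : a = ng (Sum.inl C.i0)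
    · rw [h2, SysB.hs_swap C.S (Sum.inl C.i0) (-1) (neg_ne_zero.mpr one_ne_zero), inv_neg_one]
    · exact SysB.hs_neg_one_eq C.S h1 h2

end CovB

end Cfsg.Agent.Lib.helper3.SPB
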