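import Mathlib
import Cfsg.Prelude.Def_Classical
import Cfsg.Prelude.Def_KGroupFacts
import Cfsg.Agent.Lib.Lead.SPN.Defs
import Cfsg.Agent.Lib.Lead.SPN.Defs2
import Cfsg.Agent.Lib.Helper18.SPNT12
import Cfsg.Agent.Lib.helper23.SPNT2
import Cfsg.Agent.Lib.helper23.SPNK1core
import Cfsg.Agent.Lib.Helper1.SPNT5
import Cfsg.Agent.Lib.Helper1.SPNK4
import Cfsg.Agent.Lib.Helper29.SPNK2
import Cfsg.Agent.Lib.Helper29.SPNK3core
import Cfsg.Agent.Lib.helper4.SPNK7core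

/-!
# Project SPN (S2096 + S2097, designer lead), rows K7 (`Cov.ker_sig_equiv_odd`) and K8 (`Cov.ker_sig_equiv_even`), VERBATIM (helper4).

Wrappers of `Cov.spnk7_core` / `Cov.spnk8_core` (`helper4.SPNK7core`) on: helper23's T2 `zel_central`, T3 `zel_sq` and cores `spnt4_core` (T4), `spnk0_core` (K0), `spnk1_core` (K1) at helper18's T12 `omat_h`;
helper29's K2 `exists_neg_odd` and `spnk3_core` (K3) at helper1's T5 `ker_pi`; helper1's K4 `ker_sig_of_neg`, K5 `ker_sig_char_two`.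
-/

set_option autoImplicit false

namespace Cfsg.Agent.Lib.Lead.SPN

open Cfsg.Agent.Lib.helper15.St2 Cfsg.Agent.Lib.helper3.STC Cfsg.Agent.Lib.Lead.STD Cfsg.Agent.Lib.Helper16
  Cfsg.Agent.Lib.Helper1.OMP

universe u v w

namespace Cov

variable {l : ℕ} {F : Type u} [Field F] [Fintype F] {G : Type v} [Group G] (C : Cov l F G)

/-- K7 [M]  **`l` odd: `ker sig ≅ Z/gcd(4, q^l - 1)`.**  `hz` is what G2 provides.  Cases: `2 = 0` in `F` (K5, K6: trivial group, `ZMod 1`); `q` odd and `q^l % 4 ≠ 1`: no `-1` in `Ω`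
(`Cfsg.Agent.S0790.result hF hodd l _`, cf. `Helper16.SPNC3`), K3: `ker sig = {1, zel}` cyclic of order 2; `q^l % 4 = 1`: `q % 4 = 1` (K6) so `-1 = i²` (`FiniteField.isSquare_neg_one_iff`), K2 gives `g₀` with `g₀² = zel ≠ 1`,
K4: `ker sig = zpowers g₀` of order 4.  Finish with helper7's `cyclic_equiv` (`helper7.CeH`: `IsCyclic G → Nat.card G = m → Nonempty (Multiplicative (ZMod m) ≃* G)`). -/
theorem ker_sig_equiv_odd {q : ℕ} (hF : Fintype.card F = q) (ho : Odd l) (hz : (2 : F) ≠ 0 → C.zel ≠ 1) :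
    Nonempty (C.sig.ker ≃* Multiplicative (ZMod (Nat.gcd 4 (q ^ l - 1)))) := by
  have hT4 : C.π C.zel = 1 := C.spnt4_core (fun hab hab' u hu => C.omat_h hab hab' u hu)
  exact C.spnk7_core hF ho hz (C.spnk0_core hT4) C.zel_sq (fun i hi => C.exists_neg_odd ho i hi)
    (fun hno g hg => C.spnk3_core (fun g hg => C.ker_pi g hg) hno g hg)
    (fun g₀ h₀ => C.ker_sig_of_neg g₀ h₀) (fun h2 g hg => C.ker_sig_char_two h2 g hg)

/-- K8 [M]  **`l` even: `ker sig ≅ (Z/gcd(2, q^l - 1))²`.**  `2 = 0`: trivial group (K5, K6; `ZMod 1 × ZMod 1` is a singleton).  `q` odd: `q^l % 4 = 1` (K6), so `-1 ∈ Ω`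
(`S0790` / `spnc3_exists_z`), which is `π g₀` for the `g₀` of K1 (`omat_injective`), `g₀² = 1`, `g₀ ∉ {1, zel}` (its image is `≠ 1`: `-1 ≠ 1` as a matrix), K4: `ker sig = {1, zel, g₀, g₀ zel}` has exponent 2 and 4 elements:
`IsKleinFour`, `IsKleinFour.mulEquiv` (`Mathlib.GroupTheory.SpecificGroups.KleinFour`: `Multiplicative (ZMod 2 × ZMod 2)` is a Klein four group by the instances there); `generalize` the `gcd` only after rewriting it to `2`. -/
theorem ker_sig_equiv_even {q : ℕ} (hF : Fintype.card F = q) (he : Even l) (hz : (2 : F) ≠ 0 → C.zel ≠ 1) :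
    Nonempty (C.sig.ker ≃* Multiplicative (ZMod (Nat.gcd 2 (q ^ l - 1)) × ZMod (Nat.gcd 2 (q ^ l - 1)))) := by
  have hT4 : C.π C.zel = 1 := C.spnt4_core (fun hab hab' u hu => C.omat_h hab hab' u hu)
  exact C.spnk8_core hF he hz (C.spnk0_core hT4) C.zel_central C.zel_sq hT4
    (C.spnk1_core (fun hab hab' u hu => C.omat_h hab hab' u hu) he)
    (fun g₀ h₀ => C.ker_sig_of_neg g₀ h₀) (fun h2 g hg => C.ker_sig_char_two h2 g hg)

end Cov

end Cfsg.Agent.Lib.Lead.SPN
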