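import Mathlib
import Cfsg.Prelude.Def_Classical
import Cfsg.Prelude.Def_KGroupFacts
import Cfsg.Agent.Lib.Lead.SPN.Defs
import Cfsg.Agent.Lib.Lead.SPN.Defs2
import Cfsg.Agent.Lib.helper7.CeG

/-!
# Project SPN (S2096 + S2097, designer lead), row M1 (`Cov.mult_trivial`) in the re-landed form of the skeleton (helper4): the definition `CedSplitAt` (verbatim) and the CORE of M1.

`CedSplitAt l F G`: verbatim copy of the skeleton's definition (block M); M3 / M4 can cite it from this module.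
`spnm1b_core`: M1 (`hz`, `hced : CedSplitAt l F G`) with the conclusion of T8 `Cov.finite` as hypothesis.
On helper7's `Ce.trivial_mult_of_ker`, `Ce.ker_eq_bot_of_section` (`helper7.CeG`).
-/

set_option autoImplicit false

namespace Cfsg.Agent.Lib.Lead.SPN

open Cfsg.Agent.Lib.helper15.St2 Cfsg.Agent.Lib.helper3.STC Cfsg.Agent.Lib.Lead.STD Cfsg.Agent.Lib.Helper16
  Cfsg.Agent.Lib.Helper1.OMP

universe u v w

/-- the statement of helper7's `ced_split` (project CED, `helper7/CED/Skel.lean.txt` row M9) at the group `G`: every central extension of a group with a generating `SysD`, a representation and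
spin element `≠ 1` (unless `2 = 0`) splits.  (`ced_split hl hexc S R hgen hab hab' hspin ⟨hsurj, hcen⟩` proves it for `4 ≤ l`, `¬ (l = 4 ∧ card F = 2)`.) -/
def CedSplitAt (l : ℕ) (F : Type u) [Field F] [Fintype F] (G : Type v) [Group G] : Prop :=
  ∀ (S : SysD F (Fin l) G) (_ : S.Rep (Fin l)), S.XQ (fun _ _ => True) = ⊤ → ∀ (a b : Fin l ⊕ Fin l), a ≠ b → a ≠ ng b →
    (S.h a b (-1) * S.h a (ng b) (-1) = 1 → (2 : F) = 0) →
    ∀ (Γ : Type v) [Group Γ] (σ : Γ →* G), Function.Surjective σ → σ.ker ≤ Subgroup.center Γ →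
      ∃ s : G →* Γ, ∀ g, σ (s g) = g

/-- M1 core (re-landed form of the skeleton) -/
theorem Cov.spnm1b_core {l : ℕ} {F : Type u} [Field F] [Fintype F] {G : Type v} [Group G] (C : Cov l F G) (hz : (2 : F) ≠ 0 → C.zel ≠ 1)
    (hced : CedSplitAt l F G) (hT8 : Finite G) : Cfsg.HasCyclicSchurMultiplier G 1 := by
  haveI := hT8
  apply Cfsg.Agent.Lib.helper7.Ce.trivial_mult_of_ker
  intro Γ _ _ σ hσ
  have h01 : (Sum.inl C.i0 : Fin l ⊕ Fin l) ≠ Sum.inl C.i1 := by
    intro h
    have := congrArg Fin.val (Sum.inl.inj h)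
    simp [Cov.i0, Cov.i1] at this
  have h01' : (Sum.inl C.i0 : Fin l ⊕ Fin l) ≠ ng (Sum.inl C.i1) := by
    intro h
    cases h
  have hspin : C.S.h (Sum.inl C.i0) (Sum.inl C.i1) (-1) * C.S.h (Sum.inl C.i0) (ng (Sum.inl C.i1)) (-1) = 1 → (2 : F) = 0 := by
    intro h
    by_contra h2
    exact hz h2 h
  obtain ⟨s, hs⟩ := hced C.S C.rep C.gen (Sum.inl C.i0) (Sum.inl C.i1) h01 h01' hspin Γ σ hσ.1 hσ.2.1
  exact Cfsg.Agent.Lib.helper7.Ce.ker_eq_bot_of_section hσ s hs

end Cfsg.Agent.Lib.Lead.SPN
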