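import Mathlib
import Cfsg.Prelude.Def_Classical
import Cfsg.Prelude.Def_KGroupFacts
import Cfsg.Agent.Lib.Lead.SPN.Defs
import Cfsg.Agent.Lib.Lead.SPN.Defs2
import Cfsg.Agent.Lib.helper7.CeG
import Cfsg.Agent.Lib.helper23.SchurCoverD

/-!
# Project SPN (S2096 + S2097, designer lead), rows M1 (`Cov.mult_trivial`) and M2 (`Cov.schur`) (helper4), CORES.

`spnm1_core`: M1 with the conclusions of T8 `Cov.finite` and T5 `Cov.ker_pi` as hypotheses, the hypothesis `hced` spelled out (= `CedSplitAt l F G` of the skeleton, unfolded).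
`spnm2_core`: M2 with the conclusions of T8 `Cov.finite` and T10 `Cov.stem` as hypotheses.
On helper7's `Ce.trivial_mult_of_ker`, `Ce.ker_eq_bot_of_section` (`helper7.CeG`) and helper23's `scv_cover_of_trivial` (`helper23.SchurCoverD`).
-/

set_option autoImplicit false

namespace Cfsg.Agent.Lib.Lead.SPN

open Cfsg.Agent.Lib.helper15.St2 Cfsg.Agent.Lib.helper3.STC Cfsg.Agent.Lib.Lead.STD Cfsg.Agent.Lib.Helper16
  Cfsg.Agent.Lib.Helper1.OMP

universe u v w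

/-- `ogl` is injective -/
theorem spnm1_ogl_injective {F : Type u} [Field F] {n : ℕ} :
    Function.Injective (ogl : Cfsg.Omega F (Cfsg.quadFormPlus n F) →* Matrix.GeneralLinearGroup (Fin n ⊕ Fin n) F) := by
  intro g h e
  apply Subtype.ext
  apply Subtype.ext
  exact e

/-- M1 core -/
theorem Cov.spnm1_core {l : ℕ} {F : Type u} [Field F] [Fintype F] {G : Type v} [Group G] (C : Cov l F G)
    (hced : ∀ (S : SysD F (Fin l) G), S.XQ (fun _ _ => True) = ⊤ → ∀ (R : S.Rep (Fin l)) (a b : Fin l ⊕ Fin l), a ≠ b → a ≠ ng b →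
      (∀ g, R.φ g = 1 → g = 1 ∨ g = S.h a b (-1) * S.h a (ng b) (-1)) →
      ∀ (Γ : Type v) [Group Γ] (σ : Γ →* G), Function.Surjective σ → σ.ker ≤ Subgroup.center Γ →
        ∃ s : G →* Γ, ∀ g, σ (s g) = g)
    (hT8 : Finite G) (hT5 : ∀ g : G, C.π g = 1 → g = 1 ∨ g = C.zel) :
    Cfsg.HasCyclicSchurMultiplier G 1 := by
  haveI := hT8
  apply Cfsg.Agent.Lib.helper7.Ce.trivial_mult_of_ker
  intro Γ _ _ σ hσ
  have h01 : (Sum.inl C.i0 : Fin l ⊕ Fin l) ≠ Sum.inl C.i1 := by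
    intro h
    have := congrArg Fin.val (Sum.inl.inj h)
    simp [Cov.i0, Cov.i1] at this
  have h01' : (Sum.inl C.i0 : Fin l ⊕ Fin l) ≠ ng (Sum.inl C.i1) := by
    intro h
    cases h
  have hker : ∀ g : G, C.rep.φ g = 1 → g = 1 ∨ g = C.S.h (Sum.inl C.i0) (Sum.inl C.i1) (-1) *
      C.S.h (Sum.inl C.i0) (ng (Sum.inl C.i1)) (-1) := by
    intro g hg
    apply hT5 g
    apply spnm1_ogl_injective
    rw [map_one]
    exact hg
  obtain ⟨s, hs⟩ := hced C.S C.gen C.rep (Sum.inl C.i0) (Sum.inl C.i1) h01 h01' hker Γ σ hσ.1 hσ.2.1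
  exact Cfsg.Agent.Lib.helper7.Ce.ker_eq_bot_of_section hσ s hs

/-- M2 core -/
theorem Cov.spnm2_core {l : ℕ} {F : Type u} [Field F] [Fintype F] {G : Type u} [Group G] (C : Cov l F G)
    (hT8 : Finite G) (hT10 : Cfsg.IsStemExtension C.sig)
    (hG : Cfsg.HasCyclicSchurMultiplier G 1) {A : Type w} [CommGroup A] (e : Nonempty (C.sig.ker ≃* A)) :
    Cfsg.HasSchurMultiplier (Cfsg.POmega F (Cfsg.quadFormPlus l F)) A := by
  obtain ⟨e⟩ := e
  haveI := hT8
  haveI hfinQ : Finite (Cfsg.POmega F (Cfsg.quadFormPlus l F)) := Finite.of_surjective C.sig hT10.1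
  refine ⟨⟨G, inferInstance, hT8, C.sig, hT10, ⟨e⟩⟩, ?_⟩
  intro Δ _ _ τ hτ
  obtain ⟨π, hπ⟩ := Cfsg.Agent.Lib.helper23.scv_cover_of_trivial C.sig hT10 hG Δ τ hτ
  exact ⟨π.comp e.symm.toMonoidHom, hπ.comp e.symm.surjective⟩

end Cfsg.Agent.Lib.Lead.SPN

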