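import Mathlib
import Cfsg.Prelude.Def_Classical
import Cfsg.Prelude.Def_KGroupFacts
import Cfsg.Agent.Lib.Lead.SPN.Defs
import Cfsg.Agent.Lib.Lead.SPN.Defs2
import Cfsg.Agent.Lib.Helper1.SPNT8
import Cfsg.Agent.Lib.Helper1.SPNT10
import Cfsg.Agent.Lib.helper4.SPNM1b
import Cfsg.Agent.Lib.helper4.SPNM1core

/-!
# Project SPN (S2096 + S2097, designer lead), rows M1 (`Cov.mult_trivial`) and M2 (`Cov.schur`), VERBATIM (helper4).

Wrappers of `Cov.spnm1b_core` (`helper4.SPNM1b`, which also holds the definition `CedSplitAt`) and `Cov.spnm2_core` (`helper4.SPNM1core`) on helper1's T8 `Cov.finite` and T10 `Cov.stem`.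
-/

set_option autoImplicit false

namespace Cfsg.Agent.Lib.Lead.SPN

open Cfsg.Agent.Lib.helper15.St2 Cfsg.Agent.Lib.helper3.STC Cfsg.Agent.Lib.Lead.STD Cfsg.Agent.Lib.Helper16
  Cfsg.Agent.Lib.Helper1.OMP

universe u v w

section M

/-- M1 [S-M]  the spin group has trivial multiplier: helper7's `Ce.trivial_mult_of_ker` + `Ce.ker_eq_bot_of_section` (`helper7.CeG`), T8, `hced` at `C.S`, `C.rep`, `C.gen`, `(inl i0, inl i1)` (the spin element there is `C.zel` by `rfl`; `hz`). -/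
theorem Cov.mult_trivial {l : ℕ} {F : Type u} [Field F] [Fintype F] {G : Type v} [Group G] (C : Cov l F G) (hz : (2 : F) ≠ 0 → C.zel ≠ 1)
    (hced : CedSplitAt l F G) : Cfsg.HasCyclicSchurMultiplier G 1 := by
  exact Cov.spnm1b_core C hz hced (Cov.finite C)

/-- M2 [S-M]  `sig` is a Schur cover: helper23's `scv_cover_of_trivial C.sig C.stem hG Δ τ hτ` (`helper23.SchurCoverD`; pattern: `Helper18/CECM9.lean`, `psp_mult`), T8, T10. -/
theorem Cov.schur {l : ℕ} {F : Type u} [Field F] [Fintype F] {G : Type u} [Group G] (C : Cov l F G)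
    (hG : Cfsg.HasCyclicSchurMultiplier G 1) {A : Type w} [CommGroup A] (e : Nonempty (C.sig.ker ≃* A)) :
    Cfsg.HasSchurMultiplier (Cfsg.POmega F (Cfsg.quadFormPlus l F)) A := by
  exact Cov.spnm2_core C (Cov.finite C) (Cov.stem C) hG e

end M

end Cfsg.Agent.Lib.Lead.SPN
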