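import Cfsg.Agent.Lib.helper4.TD4VJ1core
import Cfsg.Agent.Lib.Helper26.TD4VJ0

/-!
# TD4V row J1 (`rank_one`), verbatim: the core fed with J0 (`phi_root`).
-/

set_option autoImplicit false

namespace Cfsg.Agent.Lib.helper23.TD4V

open Cfsg.Lie Cfsg.Lie.ChevalleyDatum Matrix
open Cfsg.Agent.Lib.helper8 Cfsg.Agent.Lib.helper8.TD4
open Cfsg.Agent.Lib.helper23.P4V

universe u v

section J

variable {K : Type u} [Field K]

/-- **J1** [S-M] -/
theorem rank_one (r : ℕ) (hr : r < 24) (s t : K) (hd : 1 + s * t ≠ 0) :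
    X r s * X (23 - r) t =
      X (23 - r) (t / (1 + s * t)) * hh r (1 + s * t) * X r (s / (1 + s * t)) :=
  td4vj1_core r (phi_root r hr) s t hd

end J

end Cfsg.Agent.Lib.helper23.TD4V
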