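import Cfsg.Agent.Lib.helper23.TD4V.Defs
import Cfsg.Agent.Lib.helper23.TD4VComm0
import Cfsg.Agent.Lib.helper23.TD4VComm1
import Cfsg.Agent.Lib.helper23.TD4VComm2
import Cfsg.Agent.Lib.helper23.TD4VComm3
import Cfsg.Agent.Lib.helper23.TD4VJH

/-!
# TD4V row JG (`ident_G`), verbatim.

Move `X 15 s3`, `X 16 s2`, `X 19 s1` to the right across `X 0 c` and the negative root elements
created on the way: the only term of degree `0` is `X 14 (-(c s3 s2) s1)`, created last, and it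
lands between the negative part and `XAB s1 s2 s3` (so Q2 is not needed).
Extra: `td4vjg_key` (the explicit identity).
-/

set_option autoImplicit false

namespace Cfsg.Agent.Lib.helper23.TD4V

open Cfsg.Lie Cfsg.Lie.ChevalleyDatum Matrix
open Cfsg.Agent.Lib.helper8 Cfsg.Agent.Lib.helper8.TD4
open Cfsg.Agent.Lib.helper23.P4V

universe u v

section J

variable {K : Type u} [Field K]

/-- the explicit form of `ident_G` -/
theorem td4vjg_key (s1 s2 s3 c : K) :
    X 19 s1 * (X 16 s2 * (X 15 s3 * (X 0 c * 1))) =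
      X 0 c * (X 6 (c * s1) * (X 3 (c * s2) * (X 11 (c * s2 * s1) * (X 2 (c * s3) *
        (X 10 (c * s3 * s1) * (X 5 (-(c * s3 * s2)) * (X 14 (-(c * s3 * s2) * s1) *
          (X 19 s1 * (X 16 s2 * (X 15 s3 * 1)))))))))) := by
  have c0_15 : ∀ (t u : K) (z : GG K),
      X 15 u * (X 0 t * z) = X 0 t * (X 15 u * (X 2 (t * u) * z)) := by
    intro t u z
    rw [← mul_assoc, td4vc_c_0_15, mul_assoc, mul_assoc]
  have c2_15 : ∀ (t u : K) (z : GG K), X 15 u * (X 2 t * z) = X 2 t * (X 15 u * z) := by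
    intro t u z
    rw [← mul_assoc, td4vc_c_2_15, mul_assoc]
  have c0_16 : ∀ (t u : K) (z : GG K),
      X 16 u * (X 0 t * z) = X 0 t * (X 16 u * (X 3 (t * u) * z)) := by
    intro t u z
    rw [← mul_assoc, td4vc_c_0_16, mul_assoc, mul_assoc]
  have c3_16 : ∀ (t u : K) (z : GG K), X 16 u * (X 3 t * z) = X 3 t * (X 16 u * z) := by
    intro t u z
    rw [← mul_assoc, td4vc_c_3_16, mul_assoc]
  have c2_16 : ∀ (t u : K) (z : GG K),
      X 16 u * (X 2 t * z) = X 2 t * (X 16 u * (X 5 (-(t * u)) * z)) := by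
    intro t u z
    rw [← mul_assoc, td4vc_c_2_16, mul_assoc, mul_assoc]
  have c5_16 : ∀ (t u : K) (z : GG K), X 16 u * (X 5 t * z) = X 5 t * (X 16 u * z) := by
    intro t u z
    rw [← mul_assoc, td4vc_c_5_16, mul_assoc]
  have c0_19 : ∀ (t u : K) (z : GG K),
      X 19 u * (X 0 t * z) = X 0 t * (X 19 u * (X 6 (t * u) * z)) := by
    intro t u z
    rw [← mul_assoc, td4vc_c_0_19, mul_assoc, mul_assoc]
  have c6_19 : ∀ (t u : K) (z : GG K), X 19 u * (X 6 t * z) = X 6 t * (X 19 u * z) := by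
    intro t u z
    rw [← mul_assoc, td4vc_c_6_19, mul_assoc]
  have c3_19 : ∀ (t u : K) (z : GG K),
      X 19 u * (X 3 t * z) = X 3 t * (X 19 u * (X 11 (t * u) * z)) := by
    intro t u z
    rw [← mul_assoc, td4vc_c_3_19, mul_assoc, mul_assoc]
  have c11_19 : ∀ (t u : K) (z : GG K), X 19 u * (X 11 t * z) = X 11 t * (X 19 u * z) := by
    intro t u z
    rw [← mul_assoc, td4vc_c_11_19, mul_assoc]
  have c2_19 : ∀ (t u : K) (z : GG K),
      X 19 u * (X 2 t * z) = X 2 t * (X 19 u * (X 10 (t * u) * z)) := by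
    intro t u z
    rw [← mul_assoc, td4vc_c_2_19, mul_assoc, mul_assoc]
  have c10_19 : ∀ (t u : K) (z : GG K), X 19 u * (X 10 t * z) = X 10 t * (X 19 u * z) := by
    intro t u z
    rw [← mul_assoc, td4vc_c_10_19, mul_assoc]
  have c5_19 : ∀ (t u : K) (z : GG K),
      X 19 u * (X 5 t * z) = X 5 t * (X 19 u * (X 14 (t * u) * z)) := by
    intro t u z
    rw [← mul_assoc, td4vc_c_5_19, mul_assoc, mul_assoc]
  have c14_19 : ∀ (t u : K) (z : GG K), X 19 u * (X 14 t * z) = X 14 t * (X 19 u * z) := by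
    intro t u z
    rw [← mul_assoc, td4vc_c_14_19, mul_assoc]
  rw [c0_15, c2_15, c0_16, c3_16, c2_16, c5_16, c0_19, c6_19, c3_19, c11_19, c2_19, c10_19,
    c5_19, c14_19]

/-- **JG** [H] -/
theorem ident_G (s1 s2 s3 c : K) :
    ∃ v ∈ QmK K, ∃ u ∈ QK K, XAB s1 s2 s3 * X 0 c = v * X 14 (-(s1 * s2 * s3 * c)) * u := by
  have m : ∀ (r : ℕ) (_ : r ∈ [0, 1, 2, 3, 4, 5, 6, 7, 8, 10, 11]) (t : K), X r t ∈ QmK K :=
    fun r hr t => td4vjh_X_mem_QmK r hr t
  have p : ∀ (r : ℕ) (_ : r ∈ [12, 13, 15, 16, 17, 18, 19, 20, 21, 22, 23]) (t : K), X r t ∈ QK K :=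
    fun r hr t => td4vjh_X_mem_QK r hr t
  refine ⟨X 0 c * (X 6 (c * s1) * (X 3 (c * s2) * (X 11 (c * s2 * s1) * (X 2 (c * s3) *
    (X 10 (c * s3 * s1) * X 5 (-(c * s3 * s2))))))), ?_, XAB s1 s2 s3, ?_, ?_⟩
  · exact Subgroup.mul_mem _ (m 0 (by simp) _) (Subgroup.mul_mem _ (m 6 (by simp) _)
      (Subgroup.mul_mem _ (m 3 (by simp) _) (Subgroup.mul_mem _ (m 11 (by simp) _)
        (Subgroup.mul_mem _ (m 2 (by simp) _) (Subgroup.mul_mem _ (m 10 (by simp) _)
          (m 5 (by simp) _))))))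
  · unfold XAB
    exact Subgroup.mul_mem _ (Subgroup.mul_mem _ (p 19 (by simp) _) (p 16 (by simp) _))
      (p 15 (by simp) _)
  · have e2 : (-(s1 * s2 * s3 * c) : K) = -(c * s3 * s2) * s1 := by ring
    have key := td4vjg_key s1 s2 s3 c
    rw [e2]
    unfold XAB
    simp only [mul_one] at key
    simp only [mul_assoc] at key ⊢
    exact key

end J

end Cfsg.Agent.Lib.helper23.TD4V
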