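import Mathlib
import Cfsg.Agent.Lib.Helper11.UNS.Defs

/-!
# UNS rows E0 (`mem_conj_iff`) and G0 (`sigmaS_eq`).
-/

set_option autoImplicit false

namespace Cfsg.Agent.Lib.Helper11.UNS

open Matrix Cfsg.Agent.Lib.helper14.SpBN Cfsg.Agent.Lib.helper3 Cfsg.Agent.Lib.helper14

universe u

variable {F : Type u} [Field F] {m : ℕ}

/-- G0 [S]  `sigmaS` unfolds with `dif_pos k.2`. -/
theorem sigmaS_eq (k : Fin m) : sigmaS m F k.val = sRef k := by
  unfold sigmaS
  rw [dif_pos k.2]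

/-- E0 [S]  `Subgroup.mem_map`, `MulAut.conj_apply`. -/
theorem mem_conj_iff (n g : ↥(Matrix.symplecticGroup (Fin m) F)) :
    g ∈ (Bsp m F).map (MulAut.conj n).toMonoidHom ↔ n⁻¹ * g * n ∈ Bsp m F := by
  constructor
  · rintro ⟨b, hb, rfl⟩
    have e : n⁻¹ * ((MulAut.conj n).toMonoidHom b) * n = b := by
      show n⁻¹ * (n * b * n⁻¹) * n = b
      group
    rw [e]
    exact hb
  · intro h
    refine ⟨n⁻¹ * g * n, h, ?_⟩
    show n * (n⁻¹ * g * n) * n⁻¹ = g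
    group

end Cfsg.Agent.Lib.Helper11.UNS
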