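import Mathlib
import Cfsg.Agent.Lib.Helper11.UNS.Defs

/-!
# UNS rows E2 (`strict_conj`), E3 (`par_blockTri`), E4 (`uns_hE`): cores.

`unse2_core` needs the statement of K5 (`bfJ_sym`); `unse3_core` those of K5, K7
(`rk_lt_of_bfJ_lt`), W1 (`BP_tauS`); `unse4_core` those of E1 (`mem_UJ_iff`), E2, E3.
-/

set_option autoImplicit false

namespace Cfsg.Agent.Lib.Helper11.UNS

open Matrix Cfsg.Agent.Lib.helper14.SpBN Cfsg.Agent.Lib.helper3 Cfsg.Agent.Lib.helper14

universe u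

variable {F : Type u} [Field F] {m : ℕ}

/-- **E2 core**. -/
theorem unse2_core (J : Finset ℕ)
    (hK5 : ∀ x y : Fin m ⊕ Fin m, bfJ J y < bfJ J x → bfJ J x.swap < bfJ J y.swap)
    (h g : ↥(Matrix.symplecticGroup (Fin m) F))
    (hh : h.1.BlockTriangular (bfJ J)) (hg : StrictJ J (g.1 - 1)) :
    StrictJ J ((h * g * h⁻¹).1 - 1) := by
  intro x y hxy
  have hinv : (h⁻¹).1.BlockTriangular (bfJ J) := blockTri_inv hK5 h hh
  have e : (h * g * h⁻¹).1 - 1 = h.1 * (g.1 - 1) * (h⁻¹).1 := by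
    have h1 : h.1 * (h⁻¹).1 = 1 := by rw [← coe_mul', mul_inv_cancel, coe_one']
    rw [coe_mul', coe_mul', Matrix.mul_sub, Matrix.sub_mul, Matrix.mul_one, h1]
  rw [e, Matrix.mul_apply]
  apply Finset.sum_eq_zero
  intro w _
  by_cases hw : bfJ J y < bfJ J w
  · rw [hinv hw, mul_zero]
  · have h0 : (h.1 * (g.1 - 1)) x w = 0 := by
      rw [Matrix.mul_apply]
      apply Finset.sum_eq_zero
      intro z _
      by_cases hz : bfJ J z < bfJ J x
      · rw [hh hz, zero_mul]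
      · rw [hg z w (by omega), mul_zero]
    rw [h0, zero_mul]

/-- the subgroup of the matrices that are block triangular for `bfJ J` -/
def unse3_T (F : Type u) [Field F] {m : ℕ} (J : Finset ℕ)
    (hK5 : ∀ x y : Fin m ⊕ Fin m, bfJ J y < bfJ J x → bfJ J x.swap < bfJ J y.swap) :
    Subgroup ↥(Matrix.symplecticGroup (Fin m) F) where
  carrier := {g | g.1.BlockTriangular (bfJ J)}
  mul_mem' := fun {a b} ha hb => by
    show (a * b).1.BlockTriangular (bfJ J)
    rw [coe_mul']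
    exact Matrix.BlockTriangular.mul ha hb
  one_mem' := by
    show (1 : ↥(Matrix.symplecticGroup (Fin m) F)).1.BlockTriangular (bfJ J)
    rw [coe_one']
    exact Matrix.blockTriangular_one
  inv_mem' := fun {g} hg => blockTri_inv hK5 g hg

theorem unse3_mem_T (J : Finset ℕ)
    (hK5 : ∀ x y : Fin m ⊕ Fin m, bfJ J y < bfJ J x → bfJ J x.swap < bfJ J y.swap)
    (g : ↥(Matrix.symplecticGroup (Fin m) F)) :
    g ∈ unse3_T F J hK5 ↔ g.1.BlockTriangular (bfJ J) := Iff.rfl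

/-- **E3 core**. -/
theorem unse3_core (hm : 0 < m) (J : Finset ℕ) (hJ : J ⊆ Finset.range m)
    (hK5 : ∀ x y : Fin m ⊕ Fin m, bfJ J y < bfJ J x → bfJ J x.swap < bfJ J y.swap)
    (hK7 : ∀ x y : Fin m ⊕ Fin m, bfJ J x < bfJ J y → rk x < rk y)
    (hW1 : ∀ k : Fin m, k.val ∈ J → BP J (tauS k))
    (g : ↥(Matrix.symplecticGroup (Fin m) F))
    (hg : g ∈ (spBN (F := F) hm).parabolic (sigmaS m F '' (J : Set ℕ))) :
    g.1.BlockTriangular (bfJ J) := by
  have hB : Bsp m F ≤ unse3_T F J hK5 := by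
    intro b hb
    rw [unse3_mem_T]
    intro x y hxy
    exact hb (hK7 y x hxy)
  have hX : Subgroup.closure (sigmaS m F '' (J : Set ℕ)) ≤ unse3_T F J hK5 := by
    rw [Subgroup.closure_le]
    rintro _ ⟨i, hi, rfl⟩
    have hiJ : i ∈ J := Finset.mem_coe.1 hi
    have him : i < m := Finset.mem_range.1 (hJ hiJ)
    show sigmaS m F i ∈ unse3_T F J hK5
    rw [unse3_mem_T]
    unfold sigmaS
    rw [dif_pos him]
    intro x y hxy
    by_contra hne
    have hx := isMono_sRef (F := F) ⟨i, him⟩ x y hne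
    rw [hx, hW1 ⟨i, him⟩ hiJ y] at hxy
    exact lt_irrefl _ hxy
  have hle : (spBN (F := F) hm).parabolic (sigmaS m F '' (J : Set ℕ)) ≤ unse3_T F J hK5 := by
    unfold Cfsg.BNPair.parabolic
    exact sup_le hB hX
  exact (unse3_mem_T J hK5 g).1 (hle hg)

/-- **E4 core**. -/
theorem unse4_core (hm : 0 < m) (J : Finset ℕ)
    (hE1 : ∀ g : ↥(Matrix.symplecticGroup (Fin m) F),
      g ∈ (Bsp m F ⊓ (Bsp m F).map (MulAut.conj (nJ F m J)).toMonoidHom) ⊓ Uup m F ↔
        StrictJ J (g.1 - 1))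
    (hE2 : ∀ h g : ↥(Matrix.symplecticGroup (Fin m) F), h.1.BlockTriangular (bfJ J) →
      StrictJ J (g.1 - 1) → StrictJ J ((h * g * h⁻¹).1 - 1))
    (hE3 : ∀ g : ↥(Matrix.symplecticGroup (Fin m) F),
      g ∈ (spBN (F := F) hm).parabolic (sigmaS m F '' (J : Set ℕ)) →
      g.1.BlockTriangular (bfJ J)) :
    (spBN (F := F) hm).parabolic (sigmaS m F '' (J : Set ℕ)) ≤ Subgroup.normalizer
      ((((Bsp m F ⊓ (Bsp m F).map (MulAut.conj (nJ F m J)).toMonoidHom) ⊓ Uup m F :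
        Subgroup ↥(Matrix.symplecticGroup (Fin m) F)) :
          Set ↥(Matrix.symplecticGroup (Fin m) F))) := by
  intro x hx
  rw [Subgroup.mem_normalizer_iff]
  intro g
  constructor
  · intro hg
    exact (hE1 _).2 (hE2 x g (hE3 x hx) ((hE1 g).1 hg))
  · intro hg
    have hx' := hE3 x⁻¹ (Subgroup.inv_mem _ hx)
    have h1 := hE2 x⁻¹ (x * g * x⁻¹) hx' ((hE1 _).1 hg)
    have e : x⁻¹ * (x * g * x⁻¹) * x⁻¹⁻¹ = g := by group
    rw [e] at h1
    exact (hE1 g).2 h1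

end Cfsg.Agent.Lib.Helper11.UNS
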