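import Mathlib
import Cfsg.Agent.Lib.Helper11.UNS.Defs
import Cfsg.Agent.Lib.Helper11.UNSK
import Cfsg.Agent.Lib.helper4.UNSE234core

/-!
# UNS row E2 (`strict_conj`), verbatim: `unse2_core` on K5 (`bfJ_sym`).
-/

set_option autoImplicit false

namespace Cfsg.Agent.Lib.Helper11.UNS

open Matrix Cfsg.Agent.Lib.helper14.SpBN Cfsg.Agent.Lib.helper3 Cfsg.Agent.Lib.helper14

universe u

variable {F : Type u} [Field F] {m : ℕ}

/-- E2 [M]  dep K5. -/
theorem strict_conj (J : Finset ℕ) (h g : ↥(Matrix.symplecticGroup (Fin m) F))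
    (hh : h.1.BlockTriangular (bfJ J)) (hg : StrictJ J (g.1 - 1)) :
    StrictJ J ((h * g * h⁻¹).1 - 1) :=
  unse2_core J (bfJ_sym J) h g hh hg

end Cfsg.Agent.Lib.Helper11.UNS
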