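import Mathlib
import Cfsg.Agent.Lib.Helper11.UNS.Defs
import Cfsg.Agent.Lib.Helper11.UNSK
import Cfsg.Agent.Lib.helper4.UNSE234core

/-!
# UNS row E3 (`par_blockTri`), verbatim: `unse3_core` on K5 (`bfJ_sym`), K7 (`rk_lt_of_bfJ_lt`) and
an own-name copy `unse3_BP_tauS` of W1 (`BP_tauS`, from K4 `bfJ_swap` and K6 `bfJ_pc`).
-/

set_option autoImplicit false

namespace Cfsg.Agent.Lib.Helper11.UNS

open Matrix Cfsg.Agent.Lib.helper14.SpBN Cfsg.Agent.Lib.helper3 Cfsg.Agent.Lib.helper14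

universe u

variable {F : Type u} [Field F] {m : ℕ}

/-- own-name copy of W1 (`BP_tauS`). -/
theorem unse3_BP_tauS (J : Finset ℕ) (k : Fin m) (hk : k.val ∈ J) : BP J (tauS k) := by
  have h1 : bfJ J (pc k) = bfJ J (pa k) := by rw [bfJ_pc, if_pos hk, add_zero]
  have h2 := bfJ_swap J (pa k)
  have h3 := bfJ_swap J (pc k)
  intro x
  show bfJ J (tauF (pa k) (pc k) x) = bfJ J x
  unfold tauF
  split_ifs with e1 e2 e3 e4
  · rw [e1, h1]
  · rw [e2, h1]
  · rw [e3]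
    omega
  · rw [e4]
    omega
  · rfl

/-- E3 [M]  deps K5 K7 W1 G0. -/
theorem par_blockTri (hm : 0 < m) (J : Finset ℕ) (hJ : J ⊆ Finset.range m)
    (g : ↥(Matrix.symplecticGroup (Fin m) F))
    (hg : g ∈ (spBN (F := F) hm).parabolic (sigmaS m F '' (J : Set ℕ))) :
    g.1.BlockTriangular (bfJ J) :=
  unse3_core hm J hJ (bfJ_sym J) (fun _ _ h => rk_lt_of_bfJ_lt J h)
    (fun k hk => unse3_BP_tauS J k hk) g hg

end Cfsg.Agent.Lib.Helper11.UNS
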