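import Mathlib
import Cfsg.Agent.Lib.Helper11.UNS.Defs
import Cfsg.Agent.Lib.Helper13.UNSE1
import Cfsg.Agent.Lib.helper4.UNSE2
import Cfsg.Agent.Lib.helper4.UNSE3
import Cfsg.Agent.Lib.helper4.UNSE234core

/-!
# UNS row E4 (`uns_hE`), verbatim: `unse4_core` on E1 (`mem_UJ_iff`), E2 (`strict_conj`),
E3 (`par_blockTri`).
-/

set_option autoImplicit false

namespace Cfsg.Agent.Lib.Helper11.UNS

open Matrix Cfsg.Agent.Lib.helper14.SpBN Cfsg.Agent.Lib.helper3 Cfsg.Agent.Lib.helper14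

universe u

variable {F : Type u} [Field F] {m : ℕ}

/-- E4 [S-M]  deps E1 E2 E3. -/
theorem uns_hE [Fintype F] (hm : 0 < m) (J : Finset ℕ) (hJ : J ⊆ Finset.range m) :
    (spBN (F := F) hm).parabolic (sigmaS m F '' (J : Set ℕ)) ≤ Subgroup.normalizer
      ((((Bsp m F ⊓ (Bsp m F).map (MulAut.conj (nJ F m J)).toMonoidHom) ⊓ Uup m F :
        Subgroup ↥(Matrix.symplecticGroup (Fin m) F)) :
          Set ↥(Matrix.symplecticGroup (Fin m) F))) :=
  unse4_core hm J (fun g => mem_UJ_iff J g) (fun h g hh hg => strict_conj J h g hh hg)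
    (fun g hg => par_blockTri hm J hJ g hg)

end Cfsg.Agent.Lib.Helper11.UNS
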