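import Cfsg.Agent.Lib.helper15.UD.Defs

/-!
# Project UD, piece PERPA: a non-isotropic vector of a non-degenerate subspace `W` (`dim W ≥ 2`) has a non-isotropic
vector of `W` perpendicular to it.
-/

set_option autoImplicit false
set_option linter.unusedVariables false
set_option linter.unusedSectionVars false

namespace Cfsg.Agent.Lib.helper15.UD

open Matrix Cfsg.Agent.Lib.Helper28 Cfsg.Agent.Lib.Helper29.ExtrL

variable {n q : ℕ} {F : Type*} [Field F] [Fintype F] {σ : F ≃+* F}

section blockB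
variable {f : (Fin n → F) → (Fin n → F) → F}

theorem perp_noniso (hf : Cfsg.Geo.IsUnitaryForm σ f) (W : Submodule F (Fin n → F))
    (hW : Cfsg.Geo.IsNondegenerateOn f W) (hk : 2 ≤ Module.finrank F W) (c : Fin n → F)
    (hcW : c ∈ W) (hcc : f c c ≠ 0) : ∃ d ∈ W, f d c = 0 ∧ f d d ≠ 0 := by
  have hc0 : c ≠ 0 := by
    rintro rfl
    exact hcc (UForm.f_zero_left hf 0)
  -- a vector of `W` outside the line of `c`
  obtain ⟨x₀, hx₀W, hx₀⟩ : ∃ x ∈ W, x ∉ Submodule.span F {c} := by
    by_contra hcon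
    push Not at hcon
    have hle : W ≤ Submodule.span F {c} := fun x hx => hcon x hx
    have h1 := Submodule.finrank_mono hle
    rw [finrank_span_singleton hc0] at h1
    omega
  -- the projection onto the perpendicular of `c`
  have hproj : ∀ x ∈ W, x - (f x c / f c c) • c ∈ W ∧ f (x - (f x c / f c c) • c) c = 0 := by
    intro x hx
    refine ⟨W.sub_mem hx (W.smul_mem _ hcW), ?_⟩
    rw [UForm.f_sub_left hf, hf.smul_left, div_mul_cancel₀ _ hcc, sub_self]
  by_contra hcon
  push Not at hcon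
  let W₁ : Submodule F (Fin n → F) :=
    { carrier := {x | x ∈ W ∧ f x c = 0}
      add_mem' := fun {a b} ha hb =>
        ⟨W.add_mem ha.1 hb.1, by rw [hf.add_left, ha.2, hb.2, add_zero]⟩
      zero_mem' := ⟨W.zero_mem, UForm.f_zero_left hf c⟩
      smul_mem' := fun r {a} ha => ⟨W.smul_mem r ha.1, by rw [hf.smul_left, ha.2, mul_zero]⟩ }
  have hti := UForm.ti_of_iso hf W₁ (fun y hy => hcon y hy.1 hy.2)
  have hd₀ := hproj x₀ hx₀W
  have hd₀0 : x₀ - (f x₀ c / f c c) • c ≠ 0 := by
    intro h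
    apply hx₀
    rw [sub_eq_zero.1 h]
    exact Submodule.smul_mem _ _ (Submodule.mem_span_singleton_self c)
  obtain ⟨⟨x, hxW, hx⟩, _⟩ := hW _ hd₀.1 hd₀0
  have h1 : f (x - (f x c / f c c) • c) (x₀ - (f x₀ c / f c c) • c) = 0 :=
    hti _ (hproj x hxW) _ hd₀
  rw [UForm.f_sub_left hf, hf.smul_left, UForm.f_swap_zero hf hd₀.2, mul_zero, sub_zero] at h1
  exact hx h1

end blockB

end Cfsg.Agent.Lib.helper15.UD
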