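import Cfsg.Agent.Lib.helper15.UD.Defs

/-!
# Project UD, piece PERPB: a non-zero isotropic vector `c` of a non-degenerate subspace `W` (`dim W ≥ 3`) has a
non-isotropic vector of `W` perpendicular to it.  (`perpb_hyp` is the content of piece HYP, proved here under another
name so that this piece does not wait for it.)
-/

set_option autoImplicit false
set_option linter.unusedVariables false
set_option linter.unusedSectionVars false

namespace Cfsg.Agent.Lib.helper15.UD

open Matrix Cfsg.Agent.Lib.Helper28 Cfsg.Agent.Lib.Helper29.ExtrL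

variable {n q : ℕ} {F : Type*} [Field F] [Fintype F] {σ : F ≃+* F}

section blockB
variable {f : (Fin n → F) → (Fin n → F) → F}

/-- hyperbolic partner of an isotropic vector inside `W`. -/
theorem perpb_hyp (hf : Cfsg.Geo.IsUnitaryForm σ f) (W : Submodule F (Fin n → F))
    (hW : Cfsg.Geo.IsNondegenerateOn f W) (c : Fin n → F) (hcW : c ∈ W) (hc0 : c ≠ 0)
    (hcc : f c c = 0) : ∃ d ∈ W, f d d = 0 ∧ f c d = 1 := by
  obtain ⟨_, ⟨x, hxW, hx⟩⟩ := hW c hcW hc0
  have hσa : σ (σ ((f c x)⁻¹)) = (f c x)⁻¹ := hf.involutive _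
  have hx'W : σ ((f c x)⁻¹) • x ∈ W := W.smul_mem _ hxW
  have h1 : f c (σ ((f c x)⁻¹) • x) = 1 := by
    rw [UForm.f_smul_right hf, hσa, inv_mul_cancel₀ hx]
  have h1' : f (σ ((f c x)⁻¹) • x) c = 1 := by rw [hf.herm, h1, map_one]
  generalize σ ((f c x)⁻¹) • x = x' at hx'W h1 h1'
  obtain ⟨μ, hμ⟩ := UForm.trace_surj hf (- f x' x') (by rw [map_neg, UForm.f_self_fixed hf])
  refine ⟨x' + μ • c, W.add_mem hx'W (W.smul_mem _ hcW), ?_, ?_⟩
  · rw [hf.add_left, UForm.f_add_right hf, UForm.f_add_right hf, hf.smul_left, hf.smul_left,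
      UForm.f_smul_right hf, UForm.f_smul_right hf, hcc, h1, h1']
    linear_combination hμ
  · rw [UForm.f_add_right hf, UForm.f_smul_right hf, hcc, h1, mul_zero, add_zero]

theorem perp_noniso' (hf : Cfsg.Geo.IsUnitaryForm σ f) (W : Submodule F (Fin n → F))
    (hW : Cfsg.Geo.IsNondegenerateOn f W) (hk : 3 ≤ Module.finrank F W) (c : Fin n → F)
    (hcW : c ∈ W) (hc0 : c ≠ 0) (hcc : f c c = 0) : ∃ d ∈ W, f d c = 0 ∧ f d d ≠ 0 := by
  obtain ⟨c', hc'W, hc'c', hcc'⟩ := perpb_hyp hf W hW c hcW hc0 hcc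
  have hc'c : f c' c = 1 := by rw [hf.herm, hcc', map_one]
  -- a vector of `W` outside the plane of `c, c'`
  obtain ⟨x₀, hx₀W, hx₀⟩ : ∃ x ∈ W, x ∉ Submodule.span F (Set.range ![c, c']) := by
    by_contra hcon
    push Not at hcon
    have hle : W ≤ Submodule.span F (Set.range ![c, c']) := fun x hx => hcon x hx
    have h1 := Submodule.finrank_mono hle
    have h2 : Module.finrank F (Submodule.span F (Set.range ![c, c'])) ≤ Fintype.card (Fin 2) :=
      finrank_range_le_card (R := F) ![c, c']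
    rw [Fintype.card_fin] at h2
    omega
  have hproj : ∀ x ∈ W, x - f x c' • c - f x c • c' ∈ W ∧ f (x - f x c' • c - f x c • c') c = 0
      ∧ f (x - f x c' • c - f x c • c') c' = 0 := by
    intro x hx
    refine ⟨W.sub_mem (W.sub_mem hx (W.smul_mem _ hcW)) (W.smul_mem _ hc'W), ?_, ?_⟩
    · rw [UForm.f_sub_left hf, UForm.f_sub_left hf, hf.smul_left, hf.smul_left, hcc, hc'c]
      ring
    · rw [UForm.f_sub_left hf, UForm.f_sub_left hf, hf.smul_left, hf.smul_left, hcc', hc'c']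
      ring
  by_contra hcon
  push Not at hcon
  let W₂ : Submodule F (Fin n → F) :=
    { carrier := {x | x ∈ W ∧ f x c = 0 ∧ f x c' = 0}
      add_mem' := fun {a b} ha hb =>
        ⟨W.add_mem ha.1 hb.1, by rw [hf.add_left, ha.2.1, hb.2.1, add_zero],
          by rw [hf.add_left, ha.2.2, hb.2.2, add_zero]⟩
      zero_mem' := ⟨W.zero_mem, UForm.f_zero_left hf c, UForm.f_zero_left hf c'⟩
      smul_mem' := fun r {a} ha => ⟨W.smul_mem r ha.1, by rw [hf.smul_left, ha.2.1, mul_zero],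
        by rw [hf.smul_left, ha.2.2, mul_zero]⟩ }
  have hti := UForm.ti_of_iso hf W₂ (fun y hy => hcon y hy.1 hy.2.1)
  have hd₀ := hproj x₀ hx₀W
  have hd₀0 : x₀ - f x₀ c' • c - f x₀ c • c' ≠ 0 := by
    intro h
    apply hx₀
    have e : x₀ = f x₀ c' • c + f x₀ c • c' := by
      have h' := sub_eq_zero.1 h
      rw [sub_eq_iff_eq_add] at h'
      exact h'.trans (add_comm _ _)
    rw [e]
    exact Submodule.add_mem _ (Submodule.smul_mem _ _ (Submodule.subset_span ⟨0, rfl⟩))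
      (Submodule.smul_mem _ _ (Submodule.subset_span ⟨1, rfl⟩))
  obtain ⟨⟨x, hxW, hx⟩, _⟩ := hW _ hd₀.1 hd₀0
  have h1 : f (x - f x c' • c - f x c • c') (x₀ - f x₀ c' • c - f x₀ c • c') = 0 :=
    hti _ (hproj x hxW) _ hd₀
  rw [UForm.f_sub_left hf, UForm.f_sub_left hf, hf.smul_left, hf.smul_left,
    UForm.f_swap_zero hf hd₀.2.1, UForm.f_swap_zero hf hd₀.2.2, mul_zero, mul_zero, sub_zero,
    sub_zero] at h1
  exact hx h1

end blockB

end Cfsg.Agent.Lib.helper15.UD
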