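import Mathlib
import Cfsg.Agent.Lib.helper17.CEM.Defs
import Cfsg.Agent.Lib.Helper24.STCI1
import Cfsg.Agent.Lib.Helper21.STMW9
import Cfsg.Agent.Lib.Helper21.STMW13

/-!
# Project CEM (designer helper17; family S2099), rows S7 (`XSs_eq XSs_map XSs_add XSs_cj`) and S8 (`XSs_ls XSs_rels`) (helper4), CORES.

Each core has the STATEMENTS of the rows it needs as hypotheses (at the given `S σ h L h2`):
* `cems7_eq_core` (= `XSs_eq`): S5 `Ds_scale`, S6 `Ds_indep`;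
* `cems7_map_core` (= `XSs_map`): S2 `Ds_map`;
* `cems7_add_core` (= `XSs_add`): S4 `Ds_add_right`;
* `cems7_cj_core` (= `XSs_cj`): `XSs_eq`, S2 `Ds_cj` (G1 `ab_perm_ne` is proved here as `cems7_ab_perm_ne`);
* `cems8_ls_core` (= `XSs_ls`): `XSs_eq`, `XSs_map`;
* `cems8_rels_core` (= `XSs_rels`): `XSs_map`, `XSs_cj` (W13 `isMon_ws` of STM is cited: `Helper21.STMW13`).
-/

set_option autoImplicit false

namespace Cfsg.Agent.Lib.helper17.CEM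

open Cfsg.Agent.Lib.helper15.St2 Cfsg.Agent.Lib.helper7.Ce Cfsg.Agent.Lib.helper3.STC Cfsg.Agent.Lib.Lead.STD
  Cfsg.Agent.Lib.helper7.CEC Cfsg.Agent.Lib.helper7.CED Cfsg.Agent.Lib.helper17.STM

/-- own-name copy of G1 `ab_perm_ne` -/
theorem cems7_ab_perm_ne {ι : Type*} {π : Equiv.Perm (ι ⊕ ι)} (hπ : ∀ k, π (ng k) = ng (π k)) {a b : ι ⊕ ι} (hab : ab a ≠ ab b) :
    ab (π a) ≠ ab (π b) := by
  intro e
  apply hab
  rcases ab_eq_iff.1 e with h1 | h1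
  · rw [π.injective h1]
  · rw [← hπ] at h1
    rw [π.injective h1, ab_ng]

section S

variable {F : Type*} [Field F] {A B : F} [Fact (∀ r : F, r ^ 2 ≠ -B + A * r)] {ι : Type*} {Γ G : Type*} [Group Γ] [Group G]
  {S : SysM F A B ι G} {σ : Γ →* G}

/-- the chosen second index of `XSs` -/
theorem cems7_choose (h2 : I2 ι) (a : ι ⊕ ι) : ab a ≠ ab (Classical.choose (h2 a)) :=
  Ne.symm (Classical.choose_spec (h2 a))

/-- S7 core, `XSs_eq`: `hS5` = statement of S5 `Ds_scale`, `hS6` = statement of S6 `Ds_indep`. -/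
theorem cems7_eq_core (h : IsCE σ) (L : LongLift S σ) (h2 : I2 ι)
    (hS5 : ∀ {a b : ι ⊕ ι}, ab a ≠ ab b → ∀ (t : F) (u : Kq F A B), Ds S h L a b t u = Ds S h L a b 1 (t • u))
    (hS6 : ∀ {a b b' : ι ⊕ ι}, ab a ≠ ab b → ab a ≠ ab b' → ∀ u : Kq F A B, Ds S h L a b 1 u = Ds S h L a b' 1 u)
    {a b : ι ⊕ ι} (hab : ab a ≠ ab b) (t : F) (u : Kq F A B) :
    Ds S h L a b t u = XSs S h L h2 a (t • u) := by
  rw [hS5 hab t u]
  unfold XSs
  exact hS6 hab (cems7_choose h2 a) (t • u)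

/-- S7 core, `XSs_map`: `hS2a` = statement of S2 `Ds_map`. -/
theorem cems7_map_core (h : IsCE σ) (L : LongLift S σ) (h2 : I2 ι)
    (hS2a : ∀ {a b : ι ⊕ ι}, ab a ≠ ab b → ∀ (t : F) (u : Kq F A B), σ (Ds S h L a b t u) = S.xs a (t • u))
    (a : ι ⊕ ι) (u : Kq F A B) : σ (XSs S h L h2 a u) = S.xs a u := by
  unfold XSs
  rw [hS2a (cems7_choose h2 a) 1 u, one_smul]

/-- S7 core, `XSs_add`: `hS4` = statement of S4 `Ds_add_right`. -/
theorem cems7_add_core (h : IsCE σ) (L : LongLift S σ) (h2 : I2 ι)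
    (hS4 : ∀ {a b : ι ⊕ ι}, ab a ≠ ab b → ∀ (t : F) (u u' : Kq F A B), Ds S h L a b t (u + u') = Ds S h L a b t u * Ds S h L a b t u')
    (a : ι ⊕ ι) (u u' : Kq F A B) :
    XSs S h L h2 a (u + u') = XSs S h L h2 a u * XSs S h L h2 a u' := by
  unfold XSs
  exact hS4 (cems7_choose h2 a) 1 u u'

/-- S7 core, `XSs_cj`: `hEq` = statement of `XSs_eq`, `hS2b` = statement of S2 `Ds_cj`. -/
theorem cems7_cj_core (h : IsCE σ) (L : LongLift S σ) (h2 : I2 ι)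
    (hEq : ∀ {a b : ι ⊕ ι}, ab a ≠ ab b → ∀ (t : F) (u : Kq F A B), Ds S h L a b t u = XSs S h L h2 a (t • u))
    (hS2b : ∀ {g : G} {π : Equiv.Perm (ι ⊕ ι)} {d : ι ⊕ ι → F} {c0 : Kq F A B} {ε : Bool}, S.IsMon g π d c0 ε → ∀ {e : Γ}, σ e = g →
      ∀ {a b : ι ⊕ ι}, ab a ≠ ab b → ∀ (t : F) (u : Kq F A B),
        cj e (Ds S h L a b t u) = Ds S h L (π a) (π b) (d a * (d b)⁻¹ * t) (d b • (c0 * tw ε u)))
    {g : G} {π : Equiv.Perm (ι ⊕ ι)} {d : ι ⊕ ι → F} {c0 : Kq F A B} {ε : Bool} (hg : S.IsMon g π d c0 ε) {e : Γ} (he : σ e = g)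
    (a : ι ⊕ ι) (u : Kq F A B) :
    cj e (XSs S h L h2 a u) = XSs S h L h2 (π a) (d a • (c0 * tw ε u)) := by
  have hb := cems7_choose h2 a
  have hd : d (Classical.choose (h2 a)) ≠ 0 := by
    intro h0
    have := hg.2.2.1 (Classical.choose (h2 a))
    rw [h0, zero_mul] at this
    exact zero_ne_one this
  have e1 : XSs S h L h2 a u = Ds S h L a (Classical.choose (h2 a)) 1 u := rfl
  rw [e1, hS2b hg he hb 1 u, hEq (cems7_ab_perm_ne hg.2.1 hb), smul_smul]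
  congr 2
  field_simp

/-- S8 core, `XSs_ls`: `hEq` = statement of `XSs_eq`, `hMap` = statement of `XSs_map`. -/
theorem cems8_ls_core (h : IsCE σ) (L : LongLift S σ) (h2 : I2 ι)
    (hEq : ∀ {a b : ι ⊕ ι}, ab a ≠ ab b → ∀ (t : F) (u : Kq F A B), Ds S h L a b t u = XSs S h L h2 a (t • u))
    (hMap : ∀ (a : ι ⊕ ι) (u : Kq F A B), σ (XSs S h L h2 a u) = S.xs a u)
    {a b : ι ⊕ ι} (hab : ab a ≠ ab b) (t : F) (u : Kq F A B) :
    L.P.x a b t * XSs S h L h2 b u * (L.P.x a b t)⁻¹ * (XSs S h L h2 b u)⁻¹ = XSs S h L h2 a (t • u) * L.P.x a (ng b) (t * nm u) := by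
  have e1 : cm (L.P.x a b t) (XSs S h L h2 b u) = Zs S h a b t u :=
    h.cm_congr (by rw [L.map, map_lf]) (by rw [hMap, map_lf])
  have e2 : L.P.x a b t * XSs S h L h2 b u * (L.P.x a b t)⁻¹ * (XSs S h L h2 b u)⁻¹ = cm (L.P.x a b t) (XSs S h L h2 b u) := rfl
  rw [e2, e1, ← hEq hab t u]
  unfold Ds
  rw [inv_mul_cancel_right]

/-- S8 core, `XSs_rels`: `hMap` = statement of `XSs_map`, `hCj` = statement of `XSs_cj`. -/
theorem cems8_rels_core [DecidableEq ι] (h : IsCE σ) (L : LongLift S σ) (h2 : I2 ι)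
    (hMap : ∀ (a : ι ⊕ ι) (u : Kq F A B), σ (XSs S h L h2 a u) = S.xs a u)
    (hCj : ∀ {g : G} {π : Equiv.Perm (ι ⊕ ι)} {d : ι ⊕ ι → F} {c0 : Kq F A B} {ε : Bool}, S.IsMon g π d c0 ε → ∀ {e : Γ}, σ e = g →
      ∀ (a : ι ⊕ ι) (u : Kq F A B), cj e (XSs S h L h2 a u) = XSs S h L h2 (π a) (d a • (c0 * tw ε u)))
    (a : ι ⊕ ι) (t u : Kq F A B) (ht : t ≠ 0) :
    cj (XSs S h L h2 a t * XSs S h L h2 (ng a) (star t)⁻¹ * XSs S h L h2 a t) (XSs S h L h2 a u) = XSs S h L h2 (ng a) (star (t⁻¹ ^ 2 * u)) := by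
  have he : σ (XSs S h L h2 a t * XSs S h L h2 (ng a) (star t)⁻¹ * XSs S h L h2 a t) = S.ws a t := by
    rw [map_mul, map_mul, hMap, hMap]
    rfl
  have hn : nm t ≠ 0 := nm_ne_zero ht
  have hs : star t ≠ 0 := kq_star_ne_zero ht
  rw [hCj (S.isMon_ws a t ht) he a u, SysM.swb_self, stmw9_dwb_a, tw_true]
  congr 1
  rw [kq_smul_def, map_neg, map_inv₀, kq_algebraMap_nm, star_mul', star_pow, kq_star_inv]
  field_simp

end S

end Cfsg.Agent.Lib.helper17.CEM
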