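import Mathlib
import Cfsg.Agent.Lib.helper17.CEM.Defs
import Cfsg.Agent.Lib.helper4.CEMS7core
import Cfsg.Agent.Lib.Helper21.CEME1
import Cfsg.Agent.Lib.Helper24.CEMS4
import Cfsg.Agent.Lib.Helper29.CEMS5

/-!
# Project CEM (designer helper17; family S2099), rows S7 (`XSs_eq XSs_map XSs_add XSs_cj`) and S8 (`XSs_ls XSs_rels`) (helper4), VERBATIM.
Wrappers of the cores of `helper4.CEMS7core` on S2 `Ds_map Ds_cj` (`Helper21.CEME1`), S4 `Ds_add_right` (`Helper24.CEMS4`), S5 S6 `Ds_scale Ds_indep` (`Helper29.CEMS5`).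
-/

set_option autoImplicit false

namespace Cfsg.Agent.Lib.helper17.CEM

open Cfsg.Agent.Lib.helper15.St2 Cfsg.Agent.Lib.helper7.Ce Cfsg.Agent.Lib.helper3.STC Cfsg.Agent.Lib.Lead.STD
  Cfsg.Agent.Lib.helper7.CEC Cfsg.Agent.Lib.helper7.CED Cfsg.Agent.Lib.helper17.STM

section S

variable {F : Type*} [Field F] [Finite F] {A B : F} [Fact (∀ r : F, r ^ 2 ≠ -B + A * r)] {ι : Type*} {Γ G : Type*} [Group Γ] [Group G]
  {S : SysM F A B ι G} {σ : Γ →* G}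

/-- S7 [S-M]  the canonical lifts: `XSs a u = Ds a b₀ 1 u`, `b₀ = Classical.choose (h2 a)`. -/
theorem XSs_eq [DecidableEq ι] (h : IsCE σ) (L : LongLift S σ) (hLS : HLS S σ) (h3 : I3 ι) (h2 : I2 ι) {a b : ι ⊕ ι} (hab : ab a ≠ ab b) (t : F) (u : Kq F A B) :
    Ds S h L a b t u = XSs S h L h2 a (t • u) :=
  cems7_eq_core h L h2 (fun hab t u => Ds_scale h L hLS h3 hab t u) (fun hab hab' u => Ds_indep h L hLS h3 hab hab' u) hab t u

omit [Finite F] in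
theorem XSs_map (h : IsCE σ) (L : LongLift S σ) (h2 : I2 ι) (a : ι ⊕ ι) (u : Kq F A B) : σ (XSs S h L h2 a u) = S.xs a u :=
  cems7_map_core h L h2 (fun hab t u => Ds_map h L hab t u) a u

omit [Finite F] in
theorem XSs_add (h : IsCE σ) (L : LongLift S σ) (hC : HC S.toSysD σ) (hLS : HLS S σ) (hSO : HSO S σ) (h3 : I3 ι) (h2 : I2 ι) (a : ι ⊕ ι) (u u' : Kq F A B) :
    XSs S h L h2 a (u + u') = XSs S h L h2 a u * XSs S h L h2 a u' :=
  cems7_add_core h L h2 (fun hab t u u' => Ds_add_right h L hC hLS hSO h3 hab t u u') a u u'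

theorem XSs_cj [DecidableEq ι] (h : IsCE σ) (L : LongLift S σ) (hLS : HLS S σ) (h3 : I3 ι) (h2 : I2 ι) {g : G} {π : Equiv.Perm (ι ⊕ ι)} {d : ι ⊕ ι → F}
    {c0 : Kq F A B} {ε : Bool} (hg : S.IsMon g π d c0 ε) {e : Γ} (he : σ e = g) (a : ι ⊕ ι) (u : Kq F A B) :
    cj e (XSs S h L h2 a u) = XSs S h L h2 (π a) (d a • (c0 * tw ε u)) :=
  cems7_cj_core h L h2 (fun hab t u => XSs_eq h L hLS h3 h2 hab t u)
    (fun hg _ he _ _ hab t u => Ds_cj h L h3 hg he hab t u) hg he a u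

/-- S8 [M]  the relations upstairs. -/
theorem XSs_ls [DecidableEq ι] (h : IsCE σ) (L : LongLift S σ) (hLS : HLS S σ) (h3 : I3 ι) (h2 : I2 ι) {a b : ι ⊕ ι} (hab : ab a ≠ ab b) (t : F) (u : Kq F A B) :
    L.P.x a b t * XSs S h L h2 b u * (L.P.x a b t)⁻¹ * (XSs S h L h2 b u)⁻¹ = XSs S h L h2 a (t • u) * L.P.x a (ng b) (t * nm u) :=
  cems8_ls_core h L h2 (fun hab t u => XSs_eq h L hLS h3 h2 hab t u) (fun a u => XSs_map h L h2 a u) hab t u

theorem XSs_rels [DecidableEq ι] (h : IsCE σ) (L : LongLift S σ) (hLS : HLS S σ) (h3 : I3 ι) (h2 : I2 ι) (a : ι ⊕ ι) (t u : Kq F A B) (ht : t ≠ 0) :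
    cj (XSs S h L h2 a t * XSs S h L h2 (ng a) (star t)⁻¹ * XSs S h L h2 a t) (XSs S h L h2 a u) = XSs S h L h2 (ng a) (star (t⁻¹ ^ 2 * u)) :=
  cems8_rels_core h L h2 (fun a u => XSs_map h L h2 a u)
    (fun hg _ he a u => XSs_cj h L hLS h3 h2 hg he a u) a t u ht

end S

end Cfsg.Agent.Lib.helper17.CEM
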