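import Mathlib

set_option autoImplicit false

namespace Cfsg.Agent.Lib.helper4

/-- table of the conjugate of `x ↦ x + 1` by `x ↦ -1/x` -/
def g23A : List ℕ := [0, 23, 21, 10, 14, 16, 8, 18, 12, 19, 4, 15, 1, 20, 6, 17, 2, 9, 3, 13, 5, 7, 11, 22]

/-- table of the conjugate of `x ↦ 2 x` by `x ↦ -1/x` -/
def g23U : List ℕ := [0, 12, 1, 13, 2, 14, 3, 15, 4, 16, 5, 17, 6, 18, 7, 19, 8, 20, 9, 21, 10, 22, 11, 23]

/-- table of the conjugate of the cube twist by `x ↦ -1/x` -/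
def g23C : List ℕ := [0, 18, 6, 3, 2, 21, 1, 5, 16, 12, 7, 19, 8, 9, 17, 15, 13, 11, 4, 22, 10, 20, 14, 23]

/-- straight-line program: entry `(a, b)` appends the composite of tables `a` and `b` -/
def g23Prog : List (ℕ × ℕ) := [(1, 1),
  (1, 3),
  (3, 3),
  (5, 5),
  (4, 6),
  (0, 0),
  (2, 0),
  (1, 2),
  (2, 2),
  (0, 8),
  (1, 9),
  (0, 3),
  (0, 10),
  (1, 10),
  (0, 12),
  (0, 13),
  (1, 14),
  (2, 14),
  (0, 4),
  (2, 15),
  (0, 16),
  (0, 17),
  (0, 1),
  (2, 1),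
  (25, 0),
  (9, 0),
  (9, 1),
  (26, 0),
  (11, 0),
  (11, 1),
  (12, 2),
  (27, 0),
  (27, 1),
  (30, 0),
  (33, 0),
  (2, 3),
  (0, 38),
  (0, 39),
  (4, 40),
  (2, 10),
  (0, 42),
  (36, 43),
  (0, 2),
  (0, 45),
  (1, 46),
  (1, 47),
  (8, 48),
  (1, 28),
  (0, 50),
  (33, 51),
  (2, 45),
  (2, 53),
  (25, 54),
  (41, 41),
  (44, 41),
  (49, 41),
  (55, 41),
  (41, 44),
  (49, 44),
  (41, 49),
  (44, 49),
  (49, 49),
  (52, 52),
  (55, 52),
  (49, 57),
  (52, 57),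
  (41, 58),
  (44, 58),
  (55, 59),
  (52, 62),
  (41, 52),
  (41, 55),
  (44, 52),
  (44, 55),
  (52, 41),
  (52, 44),
  (52, 49),
  (56, 44),
  (62, 44),
  (62, 49),
  (57, 52),
  (55, 55),
  (55, 84),
  (52, 85),
  (73, 86),
  (55, 56),
  (44, 88),
  (49, 89),
  (41, 90),
  (41, 66),
  (55, 92),
  (49, 93),
  (57, 94),
  (41, 76),
  (55, 96),
  (55, 97),
  (44, 98),
  (49, 99),
  (41, 100),
  (55, 101),
  (49, 102),
  (52, 89),
  (55, 104),
  (52, 105),
  (49, 106),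
  (76, 107),
  (87, 87),
  (91, 87),
  (95, 87),
  (103, 87),
  (108, 87),
  (91, 91),
  (95, 91),
  (103, 91),
  (91, 95),
  (95, 95),
  (103, 103),
  (87, 110),
  (91, 111),
  (95, 114),
  (95, 116),
  (87, 95),
  (87, 103),
  (87, 108),
  (91, 103),
  (103, 95),
  (108, 103),
  (109, 91),
  (109, 108),
  (124, 87),
  (125, 95),
  (110, 87),
  (112, 91),
  (95, 119),
  (95, 136),
  (91, 137),
  (91, 138),
  (91, 139),
  (87, 140),
  (130, 141),
  (108, 108),
  (103, 143),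
  (95, 144),
  (103, 145),
  (95, 146),
  (131, 147),
  (108, 126),
  (103, 149),
  (109, 150),
  (103, 114),
  (103, 152),
  (87, 153),
  (87, 154),
  (128, 155),
  (95, 108),
  (95, 157),
  (95, 158),
  (108, 159),
  (103, 160),
  (108, 161),
  (103, 162),
  (133, 163),
  (142, 142),
  (148, 142),
  (151, 142),
  (156, 142),
  (164, 142),
  (142, 148),
  (148, 148),
  (156, 148),
  (164, 148),
  (142, 151),
  (148, 151),
  (142, 156),
  (156, 165),
  (148, 166),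
  (156, 167),
  (142, 164),
  (151, 148),
  (165, 142),
  (165, 151),
  (165, 156),
  (165, 164),
  (176, 156),
  (180, 148),
  (142, 179),
  (156, 188),
  (164, 167),
  (156, 190),
  (151, 191),
  (156, 192),
  (142, 190),
  (156, 194),
  (181, 195),
  (164, 151),
  (142, 197),
  (156, 198),
  (142, 199),
  (175, 200),
  (156, 156),
  (156, 168),
  (151, 192),
  (182, 204),
  (151, 173),
  (156, 206),
  (151, 207),
  (148, 173),
  (185, 209),
  (189, 189),
  (210, 189),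
  (189, 196),
  (201, 196),
  (210, 196),
  (189, 205),
  (201, 205),
  (189, 210),
  (196, 210),
  (210, 210),
  (205, 212),
  (196, 189),
  (196, 201),
  (205, 189),
  (205, 201),
  (205, 210),
  (210, 201),
  (210, 205),
  (216, 201),
  (205, 196),
  (210, 230),
  (196, 231),
  (196, 213),
  (189, 228),
  (189, 220),
  (201, 213),
  (189, 230),
  (201, 217),
  (201, 229),
  (229, 216),
  (201, 214),
  (196, 241),
  (210, 215),
  (201, 243),
  (196, 244),
  (210, 245),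
  (201, 227),
  (201, 226),
  (210, 237)]

/-- positions of the transversal elements, one list per level -/
def g23Pos : List (List ℕ) := [[0, 0, 0, 0, 0, 0, 0, 0, 0, 0, 0, 0, 0, 0, 0, 0, 0, 0, 0, 0, 0, 0, 0, 0],
  [0, 249, 233, 246, 239, 230, 248, 229, 247, 236, 235, 232, 242, 245, 234, 225, 238, 227, 240, 231, 228, 226, 237, 241],
  [0, 185, 187, 205, 208, 183, 192, 193, 180, 179, 186, 177, 0, 181, 242, 200, 190, 178, 189, 182, 191, 184, 188, 197],
  [0, 137, 132, 130, 127, 158, 136, 146, 138, 139, 141, 131, 0, 128, 0, 133, 242, 129, 140, 126, 162, 134, 154, 135],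
  [0, 75, 73, 76, 72, 81, 70, 84, 101, 78, 80, 71, 0, 79, 0, 82, 0, 242, 93, 77, 74, 107, 83, 98],
  [0, 242, 60, 29, 32, 31, 37, 44, 28, 34, 35, 36, 0, 39, 0, 53, 0, 0, 0, 30, 33, 38, 0, 0],
  [0, 0, 0, 0, 0, 0, 0, 0, 0, 0, 0, 0, 0, 0, 0, 0, 0, 0, 242, 0, 0, 0, 9, 48]]

end Cfsg.Agent.Lib.helper4
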