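import Mathlib

set_option autoImplicit false

namespace Cfsg.Agent.Lib.helper4

/-- permutation table of `x ↦ x + 1` -/
def g374A : List ℕ := [1, 2, 3, 4, 5, 6, 7, 8, 9, 10, 11, 12, 13, 14, 15, 16, 17, 18, 19, 20, 21, 22, 0, 23]

/-- permutation table of `x ↦ -1/x` -/
def g374B : List ℕ := [23, 22, 11, 15, 17, 9, 19, 13, 20, 5, 16, 2, 21, 7, 18, 3, 10, 4, 14, 6, 8, 12, 1, 0]

/-- permutation table of the cube twist -/
def g374C : List ℕ := [0, 18, 6, 3, 2, 21, 1, 5, 16, 12, 7, 19, 8, 9, 17, 15, 13, 11, 4, 22, 10, 20, 14, 23]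

/-- straight-line program: entry `(a, b)` appends the composite of tables `a` and `b` -/
def g374Prog : List (ℕ × ℕ) := [(0, 0),
  (3, 3),
  (3, 4),
  (4, 4),
  (6, 6),
  (5, 7),
  (2, 2),
  (9, 9),
  (8, 8),
  (1, 0),
  (2, 0),
  (8, 10),
  (0, 3),
  (11, 8),
  (1, 3),
  (2, 3),
  (11, 10),
  (2, 12),
  (0, 13),
  (14, 8),
  (2, 13),
  (14, 10),
  (1, 15),
  (16, 1),
  (0, 17),
  (0, 18),
  (2, 20),
  (0, 21),
  (22, 8),
  (0, 23),
  (24, 8),
  (0, 25),
  (26, 8),
  (0, 27),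
  (1, 27),
  (2, 27),
  (2, 30),
  (31, 10),
  (1, 32),
  (1, 39),
  (40, 1),
  (35, 42),
  (43, 34),
  (2, 23),
  (24, 10),
  (11, 46),
  (47, 3),
  (0, 32),
  (33, 8),
  (19, 50),
  (51, 18),
  (44, 44),
  (45, 45),
  (48, 44),
  (45, 49),
  (52, 44),
  (44, 52),
  (48, 52),
  (52, 52),
  (53, 53),
  (44, 54),
  (48, 54),
  (52, 54),
  (55, 53),
  (48, 56),
  (57, 49),
  (44, 59),
  (52, 60),
  (52, 61),
  (62, 53),
  (52, 63),
  (44, 65),
  (52, 65),
  (66, 53),
  (48, 67),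
  (68, 49),
  (44, 69),
  (52, 70),
  (44, 71),
  (44, 77),
  (78, 45),
  (78, 82),
  (83, 77),
  (44, 75),
  (76, 45),
  (72, 86),
  (87, 71),
  (84, 84),
  (85, 85),
  (88, 88),
  (89, 89),
  (84, 90),
  (91, 85),
  (88, 90),
  (88, 92),
  (93, 89),
  (84, 94),
  (95, 85),
  (88, 94),
  (84, 96),
  (84, 97),
  (98, 85),
  (84, 99),
  (100, 85),
  (88, 99),
  (84, 101),
  (88, 101),
  (84, 102),
  (88, 107),
  (84, 108),
  (84, 109),
  (88, 109),
  (84, 112),
  (84, 105),
  (106, 85),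
  (89, 116),
  (117, 88),
  (88, 97),
  (98, 89),
  (104, 120),
  (121, 103),
  (118, 118),
  (119, 119),
  (122, 118),
  (119, 123),
  (122, 124),
  (125, 123),
  (122, 126),
  (127, 123),
  (122, 128),
  (129, 123),
  (118, 130),
  (122, 130),
  (131, 123),
  (118, 132),
  (133, 119),
  (122, 134),
  (118, 135),
  (136, 119),
  (122, 135),
  (136, 123),
  (122, 137),
  (138, 123),
  (122, 139),
  (118, 140),
  (122, 140),
  (141, 123),
  (118, 144),
  (122, 144),
  (145, 123),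
  (122, 150),
  (118, 148),
  (149, 119),
  (143, 154),
  (155, 142),
  (118, 151),
  (152, 119),
  (145, 158),
  (159, 144),
  (156, 156),
  (157, 157),
  (160, 156),
  (156, 160),
  (161, 157),
  (156, 162),
  (160, 162),
  (163, 161),
  (156, 165),
  (166, 157),
  (156, 167),
  (156, 168),
  (169, 157),
  (160, 168),
  (156, 170),
  (171, 157),
  (160, 170),
  (171, 161),
  (156, 173),
  (160, 173),
  (160, 175),
  (160, 176),
  (160, 178),
  (179, 161),
  (160, 183),
  (156, 183),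
  (185, 187),
  (160, 181),
  (174, 189),
  (156, 176),
  (177, 157),
  (179, 191),
  (192, 178),
  (188, 188),
  (193, 188),
  (188, 193),
  (190, 193),
  (193, 193),
  (194, 194),
  (190, 195),
  (193, 195),
  (193, 196),
  (188, 197),
  (188, 198),
  (188, 199),
  (188, 203),
  (188, 205),
  (190, 197),
  (200, 209),
  (210, 210),
  (1, 1)]

/-- position (from the head of the reversed table list) of the transversal element for level `i`
and target `q` -/
def g374Pos : List (List ℕ) := [[0, 212, 209, 197, 189, 180, 194, 184, 174, 171, 173, 195, 185, 176, 192, 187, 178, 183, 199, 191, 182, 175, 200, 211],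
  [212, 153, 143, 137, 148, 152, 168, 151, 139, 149, 135, 132, 0, 141, 138, 145, 147, 158, 156, 142, 160, 154, 133, 131],
  [212, 110, 118, 103, 102, 111, 122, 120, 98, 128, 109, 99, 212, 124, 0, 104, 116, 105, 107, 100, 97, 101, 115, 113],
  [212, 78, 80, 90, 77, 68, 84, 64, 62, 75, 66, 61, 212, 70, 212, 73, 0, 59, 86, 82, 65, 72, 94, 88],
  [212, 45, 26, 40, 32, 44, 47, 30, 28, 36, 29, 50, 212, 56, 212, 34, 212, 0, 39, 37, 42, 48, 52, 31],
  [212, 0, 17, 15, 19, 9, 14, 13, 6, 24, 10, 5, 212, 16, 212, 7, 212, 212, 212, 4, 8, 11, 212, 212],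
  [212, 212, 212, 212, 212, 212, 212, 212, 212, 212, 212, 212, 212, 212, 212, 212, 212, 212, 0, 212, 212, 212, 1, 2]]

end Cfsg.Agent.Lib.helper4
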