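import Mathlib
import Cfsg.Prelude.Def_Sporadic_a
import Cfsg.Agent.Lib.helper3.GolayCard
import Cfsg.Agent.Lib.helper3.GolayM24
import Cfsg.Agent.Lib.helper4.M24GenData

set_option autoImplicit false

namespace Cfsg.Agent.Lib.helper4

open Cfsg Cfsg.Agent.Lib.helper3

/-- table of the composite `L1 ∘ L2` -/
def compTbl (L1 L2 : List ℕ) : List ℕ := (List.range 24).map fun i => L1.getD (L2.getD i 0) 0

/-- evaluate the entries of a list before passing it on (identity function, used to force
evaluation order in the kernel) -/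
def forceList {α : Type} : List ℕ → (List ℕ → α) → α
  | [], k => k []
  | x :: xs, k =>
    match x with
    | 0 => forceList xs (fun ys => k (0 :: ys))
    | t + 1 => forceList xs (fun ys => k ((t + 1) :: ys))

theorem forceList_eq {α : Type} (L : List ℕ) (k : List ℕ → α) : forceList L k = k L := by
  induction L generalizing k with
  | nil => rfl
  | cons x xs ih =>
    cases x with
    | zero => simp only [forceList, ih]
    | succ t => simp only [forceList, ih]

def evalSLP : List (ℕ × ℕ) → ℕ → List (List ℕ) → List (List ℕ)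
  | [], _, acc => acc
  | (a, b) :: rest, n, acc =>
    match acc[n - 1 - a]?, acc[n - 1 - b]? with
    | some L1, some L2 => forceList (compTbl L1 L2) (fun T => evalSLP rest (n + 1) (T :: acc))
    | _, _ => evalSLP rest n acc

def g374Tabs : List (List ℕ) := evalSLP g374Prog 3 [g374C, g374B, g374A]

/-- the table `L` is a valid permutation table realized by an element of `H` -/
def RealIn (H : Subgroup (Equiv.Perm GolayPt)) (L : List ℕ) : Prop :=
  L.length = 24 ∧ (∀ x ∈ L, x < 24) ∧ ∃ g ∈ H, ∀ p, g p = tblFun L p

theorem getD_lt_of_valid {L : List ℕ} (hlt : ∀ x ∈ L, x < 24) (i : ℕ) : L.getD i 0 < 24 := by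
  by_cases h : i < L.length
  · rw [List.getD_eq_getElem _ _ h]
    exact hlt _ (List.getElem_mem h)
  · rw [List.getD_eq_default _ _ (by omega)]
    norm_num

theorem compTbl_getD (L1 L2 : List ℕ) {i : ℕ} (hi : i < 24) :
    (compTbl L1 L2).getD i 0 = L1.getD (L2.getD i 0) 0 := by
  unfold compTbl
  rw [List.getD_eq_getElem _ _ (by simpa using hi)]
  simp

theorem realIn_comp (H : Subgroup (Equiv.Perm GolayPt)) {L1 L2 : List ℕ} (h1 : RealIn H L1)
    (h2 : RealIn H L2) : RealIn H (compTbl L1 L2) := by
  obtain ⟨hl1, hv1, g1, hg1, hf1⟩ := h1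
  obtain ⟨hl2, hv2, g2, hg2, hf2⟩ := h2
  refine ⟨by simp [compTbl], ?_, g1 * g2, H.mul_mem hg1 hg2, ?_⟩
  · intro x hx
    unfold compTbl at hx
    rw [List.mem_map] at hx
    obtain ⟨i, -, rfl⟩ := hx
    exact getD_lt_of_valid hv1 _
  · intro p
    rw [Equiv.Perm.mul_apply, hf2, hf1]
    unfold tblFun
    rw [compTbl_getD L1 L2 (gidx_lt p), gidx_gpt (getD_lt_of_valid hv2 _)]

theorem realIn_evalSLP (H : Subgroup (Equiv.Perm GolayPt)) :
    ∀ (prog : List (ℕ × ℕ)) (n : ℕ) (acc : List (List ℕ)), (∀ L ∈ acc, RealIn H L) →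
      ∀ L ∈ evalSLP prog n acc, RealIn H L := by
  intro prog
  induction prog with
  | nil => intro n acc h L hL; exact h L hL
  | cons ab rest ih =>
    obtain ⟨a, b⟩ := ab
    intro n acc h L hL
    unfold evalSLP at hL
    split at hL
    · rename_i L1 L2 e1 e2
      rw [forceList_eq] at hL
      refine ih (n + 1) _ ?_ L hL
      intro L' hL'
      rcases List.mem_cons.mp hL' with rfl | hmem
      · exact realIn_comp H (h _ (List.mem_of_getElem? e1)) (h _ (List.mem_of_getElem? e2))
      · exact h L' hmem
    · exact ih n acc h L hL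

def cert374 : Bool :=
  (List.range 7).all fun i => (List.range 24).all fun q =>
    !(m24Orb.getD i 0).testBit q ||
      ((((g374Tabs.getD ((g374Pos.getD i []).getD q 0) []).length == 24) &&
        ((g374Tabs.getD ((g374Pos.getD i []).getD q 0) []).getD (m24Base.getD i 0) 0 == q)) &&
        (List.range i).all fun j =>
          (g374Tabs.getD ((g374Pos.getD i []).getD q 0) []).getD (m24Base.getD j 0) 0
            == m24Base.getD j 0)

set_option maxRecDepth 1000000 in
theorem cert374_true : cert374 = true := by decide +kernel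

end Cfsg.Agent.Lib.helper4
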