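import Mathlib
import Cfsg.Agent.Lib.helper4.M24Gen

set_option autoImplicit false

namespace Cfsg.Agent.Lib.helper4

open Cfsg Cfsg.Agent.Lib.helper3

/-- the subgroup generated by the three permutations -/
noncomputable def H374 : Subgroup (Equiv.Perm GolayPt) :=
  Subgroup.closure {Equiv.optionCongr (Equiv.addRight (1 : ZMod 23)), Cfsg.projInv, Cfsg.cubeTwist}

theorem H374_le : H374 ≤ M24 := by
  unfold H374
  rw [Subgroup.closure_le]
  intro g hg
  rcases hg with rfl | rfl | rfl
  · exact shift_mem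
  · exact projInv_mem
  · exact cubeTwist_mem

theorem tblA_spec : ∀ p : GolayPt,
    Equiv.optionCongr (Equiv.addRight (1 : ZMod 23)) p = tblFun g374A p := by decide

theorem tblB_spec : ∀ p : GolayPt, Cfsg.projInv p = tblFun g374B p := by decide

theorem tblC_spec' : ∀ p : GolayPt, Cfsg.cubeTwistFun p = tblFun g374C p := by decide

theorem tblC_spec : ∀ p : GolayPt, Cfsg.cubeTwist p = tblFun g374C p := by
  intro p
  rw [← tblC_spec']
  rfl

theorem realIn_gens : ∀ L ∈ [g374C, g374B, g374A], RealIn H374 L := by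
  intro L hL
  simp only [List.mem_cons, List.not_mem_nil, or_false] at hL
  rcases hL with rfl | rfl | rfl
  · exact ⟨by decide, by decide, _, Subgroup.subset_closure (by simp), tblC_spec⟩
  · exact ⟨by decide, by decide, _, Subgroup.subset_closure (by simp), tblB_spec⟩
  · exact ⟨by decide, by decide, _, Subgroup.subset_closure (by simp), tblA_spec⟩

theorem level374 : ∀ i < 7, ∀ q < 24, (m24Orb.getD i 0).testBit q = true →
    ∃ u ∈ H374, (∀ j < i, u (bpt j) = bpt j) ∧ u (bpt i) = gpt q := by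
  intro i hi q hq h
  have hc := cert374_true
  unfold cert374 at hc
  rw [List.all_eq_true] at hc
  have h1 := hc i (List.mem_range.2 hi)
  rw [List.all_eq_true] at h1
  have h2 := h1 q (List.mem_range.2 hq)
  rw [h] at h2
  simp only [Bool.not_true, Bool.false_or, Bool.and_eq_true, beq_iff_eq, List.all_eq_true,
    List.mem_range] at h2
  obtain ⟨⟨hlen, hq'⟩, hfix⟩ := h2
  set k := (g374Pos.getD i []).getD q 0 with hk
  set L := g374Tabs.getD k [] with hL
  have hmem : L ∈ g374Tabs := by
    by_cases hk' : k < g374Tabs.length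
    · rw [hL, List.getD_eq_getElem _ _ hk']
      exact List.getElem_mem hk'
    · exfalso
      rw [hL, List.getD_eq_default _ _ (by omega)] at hlen
      simp at hlen
  obtain ⟨-, -, g, hg, hgf⟩ := realIn_evalSLP H374 g374Prog 3 _ realIn_gens L hmem
  refine ⟨g, hg, ?_, ?_⟩
  · intro j hj
    show g (gpt (bIdx j)) = gpt (bIdx j)
    rw [hgf, tblFun_gpt (bIdx_lt j)]
    exact congrArg gpt (hfix j hj)
  · show g (gpt (bIdx i)) = gpt q
    rw [hgf, tblFun_gpt (bIdx_lt i)]
    exact congrArg gpt hq'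

theorem Kfix_le_H374 : ∀ k : ℕ, k ≤ 7 → ∀ g ∈ Kfix (7 - k), g ∈ H374 := by
  intro k
  induction k with
  | zero =>
    intro _ g hg
    rw [Nat.sub_zero, Kfix_seven, Subgroup.mem_bot] at hg
    rw [hg]
    exact H374.one_mem
  | succ k ih =>
    intro hk g hg
    set i := 7 - (k + 1) with hi
    have hi7 : i < 7 := by omega
    have hsucc : 7 - k = i + 1 := by omega
    have hgK := mem_Kfix.mp hg
    have horb : (g (bpt i)) ∈ MulAction.orbit (Kfix i) (bpt i) :=
      ⟨⟨g, hg⟩, rfl⟩
    rw [orbit_Kfix hi7, Finset.mem_coe, mem_gset] at horb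
    obtain ⟨u, hu, hufix, humap⟩ := level374 i hi7 _ (gidx_lt _) horb
    rw [gpt_gidx] at humap
    have huK : u ∈ Kfix i := mem_Kfix.mpr ⟨H374_le hu, hufix⟩
    have hnext : u⁻¹ * g ∈ Kfix (i + 1) := by
      rw [mem_Kfix_succ]
      refine ⟨(Kfix i).mul_mem ((Kfix i).inv_mem huK) hg, ?_⟩
      rw [Equiv.Perm.mul_apply, Equiv.Perm.inv_eq_iff_eq, humap]
    rw [← hsucc] at hnext
    have := ih (by omega) _ hnext
    have hgu : g = u * (u⁻¹ * g) := by group
    rw [hgu]
    exact H374.mul_mem hu this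

theorem closure_eq_M24 :
    Subgroup.closure {Equiv.optionCongr (Equiv.addRight (1 : ZMod 23)), Cfsg.projInv,
      Cfsg.cubeTwist} = Cfsg.M24 := by
  apply le_antisymm H374_le
  intro g hg
  rw [← Kfix_zero] at hg
  exact Kfix_le_H374 7 le_rfl g hg

end Cfsg.Agent.Lib.helper4
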