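import Mathlib
import Cfsg.Prelude.Def_Sporadic_a
import Cfsg.Prelude.Def_SporadicCombinatorics
import Cfsg.Agent.Lib.helper4.SextetKer

set_option autoImplicit false

namespace Cfsg.Agent.Lib.helper4

open Cfsg
open scoped Pointwise
open Cfsg.Agent.Lib.Helper12.Golay

/-! ### The stabiliser of three points of a dodecad: data -/

/-- A dodecad through the five base points, as a bitmask. -/
def dd9 : ℕ := 480827

set_option maxRecDepth 1000000 in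
/-- Tables realising the possible images of the five base points under an element fixing the
dodecad and its points `0`, `12`, `14`. -/
def H72 : List (List ℕ) := [[0,22,11,15,16,17,9,10,13,4,2,23,12,21,14,8,1,3,6,20,7,5,18,19],[0,7,20,10,16,15,21,17,18,23,9,3,12,2,14,8,1,4,22,19,6,13,5,11],[0,6,3,13,9,20,16,7,8,18,21,15,12,2,14,23,1,5,4,10,17,19,22,11],[0,10,17,22,6,4,19,5,23,8,3,13,12,18,14,11,1,9,21,7,20,15,16,2],[0,5,22,23,9,13,21,7,18,4,2,19,12,16,14,20,1,10,8,6,3,11,17,15],[0,20,13,15,3,17,6,10,11,23,19,4,12,18,14,8,1,16,9,22,5,7,21,2],[0,3,19,11,2,22,9,5,20,18,21,13,12,16,14,4,1,17,10,23,7,6,8,15],[0,5,4,17,16,15,9,8,20,11,2,7,12,21,14,10,1,18,19,13,23,22,3,6],[0,7,16,4,11,17,9,21,13,15,23,2,12,10,14,20,3,1,18,8,22,5,6,19],[0,10,9,2,19,22,18,8,16,11,6,7,12,1,14,13,3,4,20,5,15,23,21,17],[0,23,9,4,1,20,19,17,8,10,6,13,12,18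,14,21,3,5,15,2,22,11,7,16],[0,7,16,13,19,22,1,2,4,15,18,21,12,6,14,8,3,9,23,20,17,5,10,11],[0,22,2,17,1,4,18,20,7,13,19,5,12,6,14,21,3,10,23,16,15,8,11,9],[0,2,13,20,11,17,10,4,1,22,9,6,12,23,14,21,3,16,5,18,19,8,7,15],[0,11,23,13,19,8,18,22,7,10,6,16,12,1,14,2,3,17,21,15,5,9,20,4],[0,21,17,8,9,2,23,22,15,20,11,16,12,10,14,13,3,18,6,5,7,4,1,19],[0,7,8,3,19,21,15,17,13,9,23,10,12,2,14,20,4,1,5,16,6,18,22,11],[0,9,8,16,15,6,2,13,11,18,23,22,12,19,14,10,4,3,21,1,5,7,20,17],[0,17,21,16,15,10,23,6,9,20,19,8,12,2,14,13,4,5,22,18,7,3,1,11],[0,5,11,15,20,2,3,23,13,1,17,10,12,21,14,19,4,9,7,16,6,22,18,8],[0,7,8,2,20,23,17,15,22,9,21,1,12,3,14,19,4,10,6,11,5,18,13,16],[0,20,21,18,23,7,2,9,11,3,19,1,12,15,14,8,4,16,10,5,22,17,13,6],[0,10,16,11,2,5,23,22,8,13,15,18,12,19,14,1,4,17,3,9,7,6,20,21],[0,5,1,13,15,16,19,6,20,22,2,3,12,23,14,10,4,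18,9,17,21,11,7,8],[0,19,13,10,15,2,7,20,6,9,3,23,12,16,14,18,5,1,22,21,8,17,4,11],[0,10,18,17,4,13,1,19,23,2,11,6,12,22,14,9,5,3,15,8,21,20,16,7],[0,2,20,8,7,6,3,21,19,10,15,17,12,16,14,23,5,4,22,13,9,18,11,1],[0,20,18,1,16,11,7,4,6,10,15,8,12,3,14,22,5,9,13,23,21,2,19,17],[0,13,17,7,22,3,1,15,6,9,4,8,12,11,14,16,5,10,20,23,21,19,2,18],[0,21,6,20,11,18,4,10,9,23,1,13,12,22,14,2,5,16,3,17,19,8,15,7],[0,6,23,10,15,20,16,18,11,21,7,22,12,3,14,2,5,17,13,4,1,8,9,19],[0,16,7,6,1,21,4,8,17,15,22,9,12,11,14,23,5,18,10,13,19,3,2,20],[0,19,5,15,8,20,4,22,3,13,18,11,12,7,14,6,9,1,2,23,10,17,16,21],[0,16,1,22,8,20,18,6,5,21,7,19,12,4,14,15,9,3,23,17,13,2,11,10],[0,19,5,3,21,10,1,11,15,13,2,22,12,16,14,23,9,4,18,6,20,17,7,8],[0,22,15,23,21,10,16,3,4,20,1,7,12,2,14,11,9,5,17,18,8,6,19,13],[0,21,2,15,8,6,18,20,19,16,7,5,12,4,14,22,9,10,11,13,1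7,1,23,3],[0,20,22,10,4,3,18,23,19,15,8,17,12,7,14,11,9,16,2,5,13,6,21,1],[0,2,1,3,4,23,8,10,6,16,7,15,12,18,14,11,9,17,13,22,20,21,19,5],[0,11,10,6,1,22,2,20,13,23,21,5,12,16,14,15,9,18,7,17,19,3,4,8],[0,7,21,3,6,11,16,9,20,22,13,2,12,4,14,23,10,1,15,5,18,19,17,8],[0,6,13,5,15,20,8,2,19,4,1,22,12,17,14,18,10,3,23,21,7,16,9,11],[0,3,23,7,8,22,15,19,20,11,17,2,12,1,14,21,10,4,16,5,18,9,13,6],[0,23,11,19,13,7,4,22,8,3,6,1,12,16,14,21,10,5,2,15,17,9,20,18],[0,2,5,8,4,15,13,17,21,20,16,19,12,6,14,1,10,9,3,22,7,18,23,11],[0,19,22,5,15,2,17,18,11,21,8,23,12,1,14,20,10,16,13,9,3,7,4,6],[0,18,2,19,13,21,6,7,23,20,16,11,12,4,14,22,10,17,1,3,9,5,15,8],[0,7,19,23,17,11,1,3,4,21,8,6,12,15,14,9,10,18,20,13,16,22,2,5],[0,5,3,23,13,17,6,18,11,15,4,19,12,10,14,22,16,1,21,8,20,7,9,2],[0,9,2,19,6,20,13,8,23,21,10,22,12,4,14,11,16,3,5,17,18,1,15,7]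,[0,19,20,22,1,18,21,17,15,8,2,3,12,9,14,23,16,4,10,7,5,11,6,13],[0,20,11,13,9,6,1,4,18,8,2,22,12,21,14,10,16,5,7,23,17,19,15,3],[0,7,15,17,13,23,6,22,8,3,4,20,12,10,14,18,16,9,2,11,19,5,1,21],[0,17,18,7,21,3,2,5,8,23,1,20,12,9,14,15,16,10,6,11,19,22,4,13],[0,1,2,3,4,5,6,7,8,9,10,11,12,13,14,15,16,17,18,19,20,21,22,23],[0,7,5,19,6,11,10,20,9,15,4,2,12,13,14,8,16,18,22,21,1,3,17,23],[0,6,2,4,22,20,16,21,19,7,18,9,12,23,14,3,17,1,10,13,5,11,15,8],[0,5,19,10,23,8,18,1,7,13,16,6,12,22,14,15,17,3,20,2,11,9,21,4],[0,7,2,13,16,5,23,19,8,11,18,15,12,22,14,9,17,4,20,1,10,6,3,21],[0,16,18,8,21,1,20,10,7,22,3,2,12,4,14,15,17,5,19,11,6,23,9,13],[0,6,2,23,3,18,21,16,15,7,20,1,12,4,14,22,17,9,5,8,10,11,19,13],[0,23,16,2,20,7,4,6,9,22,3,13,12,21,14,11,17,10,15,19,5,18,1,8],[0,1,8,13,4,5,20,19,2,15,21,11,12,3,14,9,17,16,23,7,6,10,22,18],[0,9,13,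2,20,6,21,11,8,19,4,15,12,3,14,7,17,18,16,1,10,5,22,23],[0,20,10,16,9,22,8,17,13,5,7,15,12,4,14,23,18,1,19,11,21,2,6,3],[0,13,11,5,7,20,9,10,22,21,8,23,12,4,14,2,18,3,19,17,16,15,1,6],[0,5,10,3,17,19,16,6,11,2,22,13,12,23,14,1,18,4,7,15,21,20,9,8],[0,19,3,8,23,4,16,7,13,1,17,15,12,22,14,9,18,5,20,11,21,6,2,10],[0,21,13,20,22,10,17,5,1,11,16,19,12,23,14,2,18,9,4,3,6,15,7,8],[0,9,8,13,16,21,17,15,3,7,23,1,12,22,14,11,18,10,5,19,6,4,2,20],[0,6,19,5,7,2,8,20,13,1,4,11,12,9,14,10,18,16,23,21,15,3,17,22],[0,2,20,15,8,13,4,21,6,5,7,3,12,9,14,11,18,17,23,19,1,10,22,16]]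

set_option maxRecDepth 1000000 in
/-- The function tables of the elements fixing the dodecad and its points `0`, `12`, `14`. -/
def M72 : List (List ℕ) := [[0,17,8,16,5,9,22,2,20,10,4,13,12,11,14,21,1,3,18,23,7,15,19,6],[0,9,2,17,3,10,19,15,7,16,18,23,12,6,14,8,1,4,5,13,20,21,11,22],[0,16,21,10,18,17,6,8,7,9,3,23,12,19,14,15,1,5,4,13,20,2,22,11],[0,5,22,3,10,18,15,6,13,4,17,20,12,8,14,19,1,9,16,7,23,11,2,21],[0,3,19,4,16,5,21,22,23,18,9,7,12,2,14,11,1,10,17,20,13,6,15,8],[0,4,11,18,17,3,8,19,13,5,10,20,12,15,14,6,1,16,9,7,23,22,21,2],[0,18,6,5,9,4,2,11,23,3,16,7,12,21,14,22,1,17,10,20,13,19,8,15],[0,10,15,9,4,16,11,21,20,17,5,13,12,22,14,2,1,18,3,23,7,8,6,19],[0,16,7,17,10,4,23,20,2,5,9,13,12,11,14,21,3,1,18,22,8,15,6,19],[0,10,23,1,5,18,15,19,13,9,16,2,12,7,14,6,3,4,17,8,22,11,20,21],[0,1,6,9,17,10,21,23,22,18,4,8,12,20,14,11,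3,5,16,2,13,19,15,7],[0,4,20,16,1,5,6,15,8,17,18,22,12,19,14,7,3,9,10,13,2,21,11,23],[0,17,21,5,18,16,19,7,8,4,1,22,12,6,14,15,3,10,9,13,2,20,23,11],[0,18,19,10,4,9,20,11,22,1,17,8,12,21,14,23,3,16,5,2,13,6,7,15],[0,9,11,18,16,1,7,6,13,10,5,2,12,15,14,19,3,17,4,8,22,23,21,20],[0,5,15,4,9,17,11,21,2,16,10,13,12,23,14,20,3,18,1,22,8,7,19,6],[0,17,20,9,16,18,13,7,15,3,10,23,12,6,14,8,4,1,5,19,2,21,22,11],[0,1,22,10,9,16,8,13,19,5,18,2,12,7,14,6,4,3,17,15,23,11,21,20],[0,3,21,18,10,9,6,8,15,17,16,23,12,13,14,7,4,5,1,19,2,20,11,22],[0,10,6,5,17,1,20,22,23,16,3,15,12,21,14,11,4,9,18,2,19,13,8,7],[0,18,7,17,1,3,22,21,2,9,5,19,12,11,14,20,4,10,16,23,15,8,6,13],[0,9,8,3,5,17,11,20,2,18,1,19,12,22,14,21,4,16,10,23,15,7,13,6],[0,5,11,16,18,10,7,6,19,1,9,2,12,8,14,13,4,17,3,15,23,22,20,21],[0,16,13,1,3,5,21,11,23,10,17,15,12,20,14,22,4,18,9,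2,19,6,7,8],[0,10,20,16,9,3,13,7,8,18,17,23,12,19,14,15,5,1,4,6,21,2,11,22],[0,9,13,1,18,4,2,22,23,17,10,8,12,20,14,11,5,3,16,21,6,19,7,15],[0,18,2,3,17,16,19,15,8,10,9,23,12,13,14,7,5,4,1,6,21,20,22,11],[0,16,15,18,4,10,22,20,21,3,1,6,12,11,14,2,5,9,17,23,8,7,13,19],[0,4,22,9,3,17,7,19,6,1,16,21,12,15,14,13,5,10,18,8,23,11,20,2],[0,17,19,4,10,1,20,11,23,9,18,8,12,2,14,22,5,16,3,21,6,13,15,7],[0,3,7,10,1,18,11,2,21,16,4,6,12,22,14,20,5,17,9,23,8,15,19,13],[0,1,11,17,16,9,15,13,6,4,3,21,12,7,14,19,5,18,10,8,23,22,2,20],[0,3,23,5,4,17,7,13,6,10,18,20,12,8,14,19,9,1,16,15,22,11,21,2],[0,16,2,4,17,18,13,8,15,1,5,22,12,19,14,7,9,3,10,6,20,21,23,11],[0,5,19,10,16,3,2,23,22,17,1,15,12,21,14,11,9,4,18,20,6,13,7,8],[0,18,8,16,3,1,23,21,20,4,10,6,12,11,14,2,9,5,17,22,15,7,19,13],[0,1,21,18,5,4,19,7,15,16,17,22,12,13,14,8,9,10,3,6,20,2,11,2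3],[0,10,11,17,18,5,8,19,6,3,4,20,12,7,14,13,9,16,1,15,22,23,2,21],[0,4,7,1,10,16,11,2,20,18,3,6,12,23,14,21,9,17,5,22,15,8,13,19],[0,17,13,3,1,10,21,11,22,5,16,15,12,2,14,23,9,18,4,20,6,19,8,7],[0,4,13,3,18,9,20,23,22,16,5,7,12,2,14,11,10,1,17,21,19,6,8,15],[0,5,2,17,4,1,13,8,7,18,16,22,12,6,14,15,10,3,9,19,21,20,11,23],[0,17,15,18,9,5,23,2,21,1,3,19,12,11,14,20,10,4,16,22,7,8,13,6],[0,9,23,4,1,16,8,6,19,3,17,21,12,15,14,13,10,5,18,7,22,11,2,20],[0,18,20,1,16,17,6,15,7,5,4,22,12,13,14,8,10,9,3,19,21,2,23,11],[0,1,8,5,3,18,11,20,21,17,9,19,12,23,14,2,10,16,4,22,7,15,6,13],[0,16,6,9,5,3,2,11,22,4,18,7,12,20,14,23,10,17,1,21,19,13,15,8],[0,3,11,16,17,4,15,13,19,9,1,21,12,8,14,6,10,18,5,7,22,23,20,2],[0,18,23,4,5,10,7,13,19,17,3,20,12,15,14,6,16,1,9,8,11,22,2,21],[0,10,13,18,1,17,2,22,11,4,9,8,12,21,14,23,16,3,5,20,19,6,15,7],[0,3,1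5,9,18,1,23,2,20,5,17,19,12,22,14,21,16,4,10,11,8,7,6,13],[0,4,6,17,9,18,21,23,11,10,1,8,12,2,14,22,16,5,3,20,19,13,7,15],[0,17,22,10,3,4,15,6,19,18,5,20,12,7,14,13,16,9,1,8,11,23,21,2],[0,5,7,1,17,9,22,21,20,3,18,19,12,23,14,2,16,10,4,11,8,15,13,6],[0,1,2,3,4,5,6,7,8,9,10,11,12,13,14,15,16,17,18,19,20,21,22,23],[0,9,21,5,10,3,13,15,8,1,4,11,12,6,14,7,16,18,17,19,20,2,23,22],[0,5,13,18,3,16,20,23,11,9,4,7,12,21,14,22,17,1,10,2,6,19,15,8],[0,18,22,9,10,5,8,13,6,16,1,2,12,15,14,19,17,3,4,7,11,23,20,21],[0,16,23,5,1,9,15,19,6,18,10,2,12,8,14,13,17,4,3,7,11,22,21,20],[0,10,8,3,16,4,23,21,2,1,18,6,12,22,14,20,17,5,9,11,7,15,13,19],[0,1,15,4,18,3,22,20,2,10,16,6,12,23,14,21,17,9,5,11,7,8,19,13],[0,9,19,16,4,18,21,22,11,5,3,7,12,20,14,23,17,10,1,2,6,13,8,15],[0,3,20,1,9,10,19,8,7,4,5,11,12,13,14,15,17,16,18,6,2,21,23,22],[0,4,21,10,5,1,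13,15,7,3,9,11,12,19,14,8,17,18,16,6,2,20,22,23],[0,9,7,10,17,5,23,20,21,4,16,13,12,22,14,2,18,1,3,11,15,8,19,6],[0,4,8,5,16,10,22,2,21,9,17,13,12,23,14,20,18,3,1,11,15,7,6,19],[0,1,19,16,10,17,2,23,11,3,5,15,12,20,14,22,18,4,9,21,13,6,8,7],[0,17,23,1,4,3,8,6,13,16,9,21,12,7,14,19,18,5,10,15,11,22,20,2],[0,3,6,17,5,16,20,22,11,1,10,15,12,2,14,23,18,9,4,21,13,19,7,8],[0,16,22,3,9,1,7,19,13,17,4,21,12,8,14,6,18,10,5,15,11,23,2,20],[0,5,20,9,1,4,19,8,15,10,3,11,12,6,14,7,18,16,17,13,21,2,22,23],[0,10,2,4,3,9,6,7,15,5,1,11,12,19,14,8,18,17,16,13,21,20,23,22]]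

/-- Iterated composition of a table with itself. -/
def powT (L : List ℕ) : ℕ → List ℕ
  | 0 => List.range 24
  | n + 1 => forceList (powT L n) fun X => compTbl L X

theorem powT_succ (L : List ℕ) (n : ℕ) : powT L (n + 1) = compTbl L (powT L n) :=
  forceList_eq _ _

/-- Test for the identity table. -/
def isIdT (L : List ℕ) : Bool := L == List.range 24

/-- Test that a table fixes the dodecad and the three points. -/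
def fixD9 (C : List ℕ) : Bool :=
  Nat.beq (actK C dd9) dd9 && Nat.beq (C.getD 0 0) 0 && Nat.beq (C.getD 12 0) 12 &&
    Nat.beq (C.getD 14 0) 14

set_option maxRecDepth 1000000 in
theorem M72_complete : (H72.all fun H => K5L.all fun K =>
    forceList (compTbl H K) fun C => !fixD9 C || M72.contains C) = true := by
  decide +kernel

set_option maxRecDepth 1000000 in
theorem M72_checks : M72.length = 72 ∧ nodupL M72 = true ∧ (∀ H ∈ H72, okK H = true) ∧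
    (∀ L ∈ M72, okK L = true ∧ fixD9 L = true) := by
  decide +kernel

set_option maxRecDepth 1000000 in
theorem M72_pows : (M72.all fun L => !isIdT (powT L 9) || isIdT (powT L 3)) = true ∧
    (M72.all fun L => !isIdT (powT L 8) || isIdT (powT L 4)) = true ∧
    (M72.all fun A => M72.all fun B => !isIdT (powT A 3) || !isIdT (powT B 3) ||
      forceList (compTbl A B) fun C => isIdT (powT C 3)) = true ∧
    (M72.all fun A => M72.all fun B => !isIdT (powT A 2) || !isIdT (powT B 2) ||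
      isIdT A || isIdT B || A == B ||
      forceList (compTbl A B) fun C => !isIdT (powT C 8)) = true := by
  decide +kernel

set_option maxRecDepth 100000 in
theorem dd9_checks : dd9 < 2 ^ 24 ∧ popcF dd9 = 12 ∧
    (∀ i < 24, dd9.testBit i = true → i ∈ [0, 1, 3, 4, 5, 9, 10, 12, 14, 16, 17, 18]) ∧
    dd9.testBit 0 = true ∧ dd9.testBit 12 = true ∧ dd9.testBit 14 = true ∧
    dd9.testBit 16 = true ∧ dd9.testBit 17 = true := by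
  decide +kernel

set_option maxRecDepth 100000 in
theorem H72_complete : ([1, 3, 4, 5, 9, 10, 16, 17, 18].all fun a3 =>
    [1, 3, 4, 5, 9, 10, 16, 17, 18].all fun a4 => Nat.beq a3 a4 ||
      H72.any fun H => Nat.beq (H.getD 0 0) 0 && Nat.beq (H.getD 12 0) 12 &&
        Nat.beq (H.getD 14 0) 14 && Nat.beq (H.getD 16 0) a3 && Nat.beq (H.getD 17 0) a4) = true := by
  decide +kernel

end Cfsg.Agent.Lib.helper4
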