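import Mathlib

set_option autoImplicit false

namespace Cfsg.Agent.Lib.helper4

open MulAction
open scoped Pointwise

/-! ### Determining the orbits of a finite group from orbit lists and divisibility -/

/-- If finite sets `A i`, each contained in the orbit of `x i`, are pairwise disjoint and cover an
invariant family, and no union of two or more of them has a size dividing the order of the group,
then the `A i` are exactly the orbits. -/
theorem orbits_eq_of_lists {G X : Type*} [Group G] [Finite G] [MulAction G X] [DecidableEq X]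
    {k : ℕ} (x : Fin k → X) (A : Fin k → Finset X) (n : Fin k → ℕ)
    (hA : ∀ i, ∀ y ∈ A i, y ∈ orbit G (x i))
    (hdisj : ∀ i j, i ≠ j → Disjoint (A i) (A j))
    (hn : ∀ i, (A i).card = n i)
    (F : Set X) (hcover : ∀ y ∈ F, ∃ i, y ∈ A i) (hF : ∀ i, x i ∈ F)
    (hinv : ∀ g : G, ∀ y ∈ F, g • y ∈ F)
    (harith : ∀ (I : Finset (Fin k)) (i : Fin k), i ∈ I → (∑ j ∈ I, n j) ∣ Nat.card G → I = {i})
    (i : Fin k) : orbit G (x i) = ↑(A i) := by
  classical
  set I : Finset (Fin k) := Finset.univ.filter (fun j => x j ∈ orbit G (x i)) with hI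
  have hiI : i ∈ I := by
    rw [hI, Finset.mem_filter]
    exact ⟨Finset.mem_univ _, mem_orbit_self _⟩
  have horb : orbit G (x i) = ↑(I.biUnion A) := by
    ext y
    rw [Finset.mem_coe, Finset.mem_biUnion]
    constructor
    · intro hy
      obtain ⟨g, rfl⟩ := hy
      obtain ⟨j, hj⟩ := hcover _ (hinv g _ (hF i))
      refine ⟨j, ?_, hj⟩
      rw [hI, Finset.mem_filter]
      refine ⟨Finset.mem_univ _, ?_⟩
      have h1 := hA j _ hj
      have h2 : orbit G (g • x i) = orbit G (x j) := orbit_eq_iff.mpr h1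
      have h3 : orbit G (g • x i) = orbit G (x i) := orbit_eq_iff.mpr (mem_orbit _ _)
      rw [← h3, h2]
      exact mem_orbit_self _
    · rintro ⟨j, hj, hy⟩
      rw [hI, Finset.mem_filter] at hj
      have h1 := hA j y hy
      have h2 : orbit G (x j) = orbit G (x i) := orbit_eq_iff.mpr hj.2
      rw [← h2]
      exact h1
  have hcard : (I.biUnion A).card = ∑ j ∈ I, n j := by
    rw [Finset.card_biUnion]
    · exact Finset.sum_congr rfl (fun j _ => hn j)
    · intro a _ b _ hab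
      exact hdisj a b hab
  have hdvd : (∑ j ∈ I, n j) ∣ Nat.card G := by
    rw [← hcard, ← Set.ncard_coe_finset, ← horb, ← Nat.card_coe_set_eq]
    have h := Nat.card_congr (orbitProdStabilizerEquivGroup G (x i))
    rw [Nat.card_prod] at h
    exact Dvd.intro _ h
  have hIi := harith I i hiI hdvd
  rw [horb, hIi, Finset.singleton_biUnion]

/-- The orbits under the stabiliser of a translated object are the translates of the orbits. -/
theorem orbit_stabilizer_smul {G A X : Type*} [Group G] [MulAction G A] [MulAction G X] (k : G)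
    (a : A) (x : X) :
    orbit ↥(stabilizer G (k • a)) (k • x) = (fun y => k • y) '' orbit ↥(stabilizer G a) x := by
  ext y
  constructor
  · rintro ⟨⟨g, hg⟩, rfl⟩
    rw [mem_stabilizer_iff] at hg
    refine ⟨(k⁻¹ * g * k) • x, ⟨⟨k⁻¹ * g * k, ?_⟩, rfl⟩, ?_⟩
    · rw [mem_stabilizer_iff, mul_smul, mul_smul, hg, inv_smul_smul]
    · show k • (k⁻¹ * g * k) • x = g • k • x
      rw [← mul_smul, ← mul_smul]
      congr 1
      group
  · rintro ⟨_, ⟨⟨g, hg⟩, rfl⟩, rfl⟩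
    rw [mem_stabilizer_iff] at hg
    refine ⟨⟨k * g * k⁻¹, ?_⟩, ?_⟩
    · rw [mem_stabilizer_iff, mul_smul, mul_smul, inv_smul_smul, hg]
    · show (k * g * k⁻¹) • k • x = k • g • x
      rw [← mul_smul, ← mul_smul]
      congr 1
      group

theorem ncard_orbit_stabilizer_smul {G A X : Type*} [Group G] [MulAction G A] [MulAction G X]
    (k : G) (a : A) (x : X) :
    (orbit ↥(stabilizer G (k • a)) (k • x)).ncard = (orbit ↥(stabilizer G a) x).ncard := by
  rw [orbit_stabilizer_smul, Set.ncard_image_of_injective _ (MulAction.injective k)]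

end Cfsg.Agent.Lib.helper4

namespace Cfsg.Agent.Lib.helper4

open MulAction
open scoped Pointwise

/-- Sizes of the orbits and the decomposition of the family, from orbit lists. -/
theorem orbit_lists_main {G X : Type*} [Group G] [Finite G] [MulAction G X] [DecidableEq X]
    {k : ℕ} (x : Fin k → X) (A : Fin k → Finset X) (n : Fin k → ℕ)
    (hA : ∀ i, ∀ y ∈ A i, y ∈ orbit G (x i))
    (hdisj : ∀ i j, i ≠ j → Disjoint (A i) (A j))
    (hn : ∀ i, (A i).card = n i)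
    (F : Set X) (hcover : ∀ y ∈ F, ∃ i, y ∈ A i) (hF : ∀ i, x i ∈ F)
    (hinv : ∀ g : G, ∀ y ∈ F, g • y ∈ F)
    (harith : ∀ (I : Finset (Fin k)) (i : Fin k), i ∈ I → (∑ j ∈ I, n j) ∣ Nat.card G → I = {i}) :
    (∀ i, (orbit G (x i)).ncard = n i) ∧ ∀ y, y ∈ F ↔ ∃ i, y ∈ orbit G (x i) := by
  have key := orbits_eq_of_lists x A n hA hdisj hn F hcover hF hinv harith
  refine ⟨fun i => ?_, fun y => ?_⟩
  · rw [key i, Set.ncard_coe_finset, hn i]
  · constructor
    · intro hy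
      obtain ⟨i, hi⟩ := hcover y hy
      exact ⟨i, hA i y hi⟩
    · rintro ⟨i, g, rfl⟩
      exact hinv g _ (hF i)

/-- Transport of a three-orbit decomposition from a base object to any object of its orbit. -/
theorem three_orbits_transport {M A X : Type*} [Group M] [MulAction M A] [MulAction M X]
    (a₀ : A) (F : Set X) (hinv : ∀ g : M, ∀ y ∈ F, g • y ∈ F) (x₁ x₂ x₃ : X) (h₁ : x₁ ∈ F)
    (h₂ : x₂ ∈ F) (h₃ : x₃ ∈ F) (n₁ n₂ n₃ : ℕ)
    (hc₁ : (orbit ↥(stabilizer M a₀) x₁).ncard = n₁)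
    (hc₂ : (orbit ↥(stabilizer M a₀) x₂).ncard = n₂)
    (hc₃ : (orbit ↥(stabilizer M a₀) x₃).ncard = n₃)
    (hF : ∀ y, y ∈ F ↔ y ∈ orbit ↥(stabilizer M a₀) x₁ ∨ y ∈ orbit ↥(stabilizer M a₀) x₂ ∨
      y ∈ orbit ↥(stabilizer M a₀) x₃) (a : A) (ha : ∃ k : M, k • a₀ = a) :
    ∃ X₁ ∈ F, ∃ X₂ ∈ F, ∃ X₃ ∈ F, (orbit ↥(stabilizer M a) X₁).ncard = n₁ ∧
      (orbit ↥(stabilizer M a) X₂).ncard = n₂ ∧ (orbit ↥(stabilizer M a) X₃).ncard = n₃ ∧
      F = orbit ↥(stabilizer M a) X₁ ∪ orbit ↥(stabilizer M a) X₂ ∪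
        orbit ↥(stabilizer M a) X₃ := by
  obtain ⟨k, rfl⟩ := ha
  refine ⟨k • x₁, hinv k _ h₁, k • x₂, hinv k _ h₂, k • x₃, hinv k _ h₃, ?_, ?_, ?_, ?_⟩
  · rw [ncard_orbit_stabilizer_smul, hc₁]
  · rw [ncard_orbit_stabilizer_smul, hc₂]
  · rw [ncard_orbit_stabilizer_smul, hc₃]
  · ext y
    rw [orbit_stabilizer_smul, orbit_stabilizer_smul, orbit_stabilizer_smul, Set.mem_union,
      Set.mem_union]
    have hy : y ∈ F ↔ k⁻¹ • y ∈ F := by
      constructor
      · exact fun h => hinv k⁻¹ y h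
      · intro h
        have := hinv k _ h
        rwa [smul_inv_smul] at this
    have himg : ∀ s : Set X, y ∈ (fun z => k • z) '' s ↔ k⁻¹ • y ∈ s := by
      intro s
      constructor
      · rintro ⟨z, hz, rfl⟩
        rwa [inv_smul_smul]
      · intro h
        exact ⟨k⁻¹ • y, h, smul_inv_smul k y⟩
    rw [hy, hF, himg, himg, himg, or_assoc]

/-- Transport of a four-orbit decomposition from a base object to any object of its orbit. -/
theorem four_orbits_transport {M A X : Type*} [Group M] [MulAction M A] [MulAction M X]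
    (a₀ : A) (F : Set X) (hinv : ∀ g : M, ∀ y ∈ F, g • y ∈ F) (x₁ x₂ x₃ x₄ : X) (h₁ : x₁ ∈ F)
    (h₂ : x₂ ∈ F) (h₃ : x₃ ∈ F) (h₄ : x₄ ∈ F) (n₁ n₂ n₃ n₄ : ℕ)
    (hc₁ : (orbit ↥(stabilizer M a₀) x₁).ncard = n₁)
    (hc₂ : (orbit ↥(stabilizer M a₀) x₂).ncard = n₂)
    (hc₃ : (orbit ↥(stabilizer M a₀) x₃).ncard = n₃)
    (hc₄ : (orbit ↥(stabilizer M a₀) x₄).ncard = n₄)
    (hF : ∀ y, y ∈ F ↔ y ∈ orbit ↥(stabilizer M a₀) x₁ ∨ y ∈ orbit ↥(stabilizer M a₀) x₂ ∨
      y ∈ orbit ↥(stabilizer M a₀) x₃ ∨ y ∈ orbit ↥(stabilizer M a₀) x₄) (a : A)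
    (ha : ∃ k : M, k • a₀ = a) :
    ∃ X₁ ∈ F, ∃ X₂ ∈ F, ∃ X₃ ∈ F, ∃ X₄ ∈ F, (orbit ↥(stabilizer M a) X₁).ncard = n₁ ∧
      (orbit ↥(stabilizer M a) X₂).ncard = n₂ ∧ (orbit ↥(stabilizer M a) X₃).ncard = n₃ ∧
      (orbit ↥(stabilizer M a) X₄).ncard = n₄ ∧
      F = orbit ↥(stabilizer M a) X₁ ∪ orbit ↥(stabilizer M a) X₂ ∪
        orbit ↥(stabilizer M a) X₃ ∪ orbit ↥(stabilizer M a) X₄ := by
  obtain ⟨k, rfl⟩ := ha
  refine ⟨k • x₁, hinv k _ h₁, k • x₂, hinv k _ h₂, k • x₃, hinv k _ h₃, k • x₄, hinv k _ h₄,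
    ?_, ?_, ?_, ?_, ?_⟩
  · rw [ncard_orbit_stabilizer_smul, hc₁]
  · rw [ncard_orbit_stabilizer_smul, hc₂]
  · rw [ncard_orbit_stabilizer_smul, hc₃]
  · rw [ncard_orbit_stabilizer_smul, hc₄]
  · ext y
    rw [orbit_stabilizer_smul, orbit_stabilizer_smul, orbit_stabilizer_smul,
      orbit_stabilizer_smul, Set.mem_union, Set.mem_union, Set.mem_union]
    have hy : y ∈ F ↔ k⁻¹ • y ∈ F := by
      constructor
      · exact fun h => hinv k⁻¹ y h
      · intro h
        have := hinv k _ h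
        rwa [smul_inv_smul] at this
    have himg : ∀ s : Set X, y ∈ (fun z => k • z) '' s ↔ k⁻¹ • y ∈ s := by
      intro s
      constructor
      · rintro ⟨z, hz, rfl⟩
        rwa [inv_smul_smul]
      · intro h
        exact ⟨k⁻¹ • y, h, smul_inv_smul k y⟩
    rw [hy, hF, himg, himg, himg, himg, or_assoc, or_assoc]

end Cfsg.Agent.Lib.helper4

namespace Cfsg.Agent.Lib.helper4

theorem exists_fin3 {p : Fin 3 → Prop} : (∃ i, p i) ↔ p 0 ∨ p 1 ∨ p 2 := by
  constructor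
  · rintro ⟨i, hi⟩
    fin_cases i
    · exact Or.inl hi
    · exact Or.inr (Or.inl hi)
    · exact Or.inr (Or.inr hi)
  · rintro (h | h | h)
    · exact ⟨0, h⟩
    · exact ⟨1, h⟩
    · exact ⟨2, h⟩

theorem exists_fin4 {p : Fin 4 → Prop} : (∃ i, p i) ↔ p 0 ∨ p 1 ∨ p 2 ∨ p 3 := by
  constructor
  · rintro ⟨i, hi⟩
    fin_cases i
    · exact Or.inl hi
    · exact Or.inr (Or.inl hi)
    · exact Or.inr (Or.inr (Or.inl hi))
    · exact Or.inr (Or.inr (Or.inr hi))
  · rintro (h | h | h | h)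
    · exact ⟨0, h⟩
    · exact ⟨1, h⟩
    · exact ⟨2, h⟩
    · exact ⟨3, h⟩

end Cfsg.Agent.Lib.helper4
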