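import Mathlib
import Cfsg.Prelude.Def_Sporadic_a
import Cfsg.Prelude.Def_SporadicCombinatorics
import Cfsg.Agent.Lib.helper3.GolaySextet
import Cfsg.Agent.Lib.Helper12.Golay.Homog

set_option autoImplicit false

namespace Cfsg.Agent.Lib.helper4

open Cfsg
open scoped Pointwise
open Cfsg.Agent.Lib.Helper12.Golay

/-! ### Syndromes: the cosets of the length-24 code as 12-bit numbers -/

/-- The syndrome of a bitmask: the bits `12..23` of the unique member of its coset modulo the
code whose bits `0..11` vanish. -/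
def syn (m : ℕ) : ℕ := Nat.shiftRight (Nat.xor m (encF (Nat.land m 4095))) 12

theorem syn_eq (m : ℕ) : syn m = (m ^^^ enc (m % 4096)) >>> 12 := by
  unfold syn
  have h1 : Nat.land m 4095 = m % 4096 := Nat.and_two_pow_sub_one_eq_mod m 12
  rw [h1, encF_eq (Nat.mod_lt _ (by norm_num))]
  rfl

theorem xor_enc_mod (m : ℕ) : (m ^^^ enc (m % 4096)) % 4096 = 0 := by
  have h := Nat.xor_mod_two_pow (a := m) (b := enc (m % 4096)) (n := 12)
  have e : (2 : ℕ) ^ 12 = 4096 := by norm_num
  rw [e] at h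
  rw [h, enc_mod (Nat.mod_lt _ (by norm_num)), Nat.xor_self]

theorem syn_shift (m : ℕ) : (syn m) <<< 12 = m ^^^ enc (m % 4096) := by
  rw [syn_eq, Nat.shiftLeft_eq, Nat.shiftRight_eq_div_pow]
  exact Nat.div_mul_cancel (Nat.dvd_of_mod_eq_zero (xor_enc_mod m))

theorem syn_lt {m : ℕ} (hm : m < 2 ^ 24) : syn m < 4096 := by
  rw [syn_eq, Nat.shiftRight_eq_div_pow]
  have h1 : m ^^^ enc (m % 4096) < 2 ^ 24 := Nat.xor_lt_two_pow hm (enc_lt _)
  have : (2 : ℕ) ^ 24 = 2 ^ 12 * 4096 := by norm_num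
  rw [Nat.div_lt_iff_lt_mul (by norm_num)]
  omega

theorem shift_lt {s : ℕ} (hs : s < 4096) : s <<< 12 < 2 ^ 24 := by
  rw [Nat.shiftLeft_eq]
  have : (2 : ℕ) ^ 24 = 4096 * 2 ^ 12 := by norm_num
  rw [this]
  exact Nat.mul_lt_mul_of_pos_right hs (by norm_num)

theorem syn_shiftLeft {s : ℕ} (_hs : s < 4096) : syn (s <<< 12) = s := by
  rw [syn_eq]
  have h1 : (s <<< 12) % 4096 = 0 := by
    rw [Nat.shiftLeft_eq]
    have : (2 : ℕ) ^ 12 = 4096 := by norm_num
    rw [this, Nat.mul_mod_left]
  have h2 : enc 0 = 0 := by decide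
  rw [h1, h2, Nat.xor_zero, Nat.shiftLeft_shiftRight]

theorem wd_enc_mem {u : ℕ} (hu : u < 4096) : wd (enc u) ∈ golayCode := by
  rw [wd_mem_golayCode_iff (enc_lt u)]
  exact isCode_enc hu

/-- A bitmask and its canonical coset representative differ by a word of the code. -/
theorem wd_syn_sub_mem (m : ℕ) : wd ((syn m) <<< 12) - wd m ∈ golayCode := by
  rw [syn_shift, wd_xor, add_sub_cancel_left]
  exact wd_enc_mem (Nat.mod_lt _ (by norm_num))

theorem wd_sub (m n : ℕ) : wd m - wd n = wd (m ^^^ n) := by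
  rw [wd_xor, Cfsg.Agent.Lib.helper3.sub_eq_add24]

/-- Distinct canonical representatives lie in distinct cosets. -/
theorem eq_of_shift_sub_mem {s s' : ℕ} (hs : s < 4096) (hs' : s' < 4096)
    (h : wd (s <<< 12) - wd (s' <<< 12) ∈ golayCode) : s = s' := by
  rw [wd_sub] at h
  have hlt : (s <<< 12) ^^^ (s' <<< 12) < 2 ^ 24 := Nat.xor_lt_two_pow (shift_lt hs) (shift_lt hs')
  rw [wd_mem_golayCode_iff hlt] at h
  have hx : (s <<< 12) ^^^ (s' <<< 12) = (s ^^^ s') <<< 12 := by
    rw [Nat.shiftLeft_xor_distrib]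
  rw [hx] at h
  obtain ⟨u, hu, hue⟩ := isCode_iff.mp h
  have h0 : ((s ^^^ s') <<< 12) % 4096 = 0 := by
    rw [Nat.shiftLeft_eq]
    have : (2 : ℕ) ^ 12 = 4096 := by norm_num
    rw [this, Nat.mul_mod_left]
  have hu0 : u = 0 := by
    have := enc_mod hu
    rw [hue, h0] at this
    exact this.symm
  have h2 : enc 0 = 0 := by decide
  rw [hu0, h2] at hue
  have h3 : s ^^^ s' = 0 := by
    rw [Nat.shiftLeft_eq] at hue
    have := hue.symm
    rcases Nat.mul_eq_zero.mp this with h | h
    · exact h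
    · exact absurd h (by norm_num)
  exact Nat.xor_eq_zero_iff.mp h3

/-- The syndrome of a word. -/
def synW (v : GolayPt → ZMod 2) : ℕ := syn (maskW v)

theorem synW_lt (v : GolayPt → ZMod 2) : synW v < 4096 := syn_lt (maskW_lt v)

theorem wd_synW_sub_mem (v : GolayPt → ZMod 2) : wd ((synW v) <<< 12) - v ∈ golayCode := by
  have := wd_syn_sub_mem (maskW v)
  rwa [wd_maskW] at this

/-- Two words have the same syndrome exactly when they differ by a word of the code. -/
theorem synW_eq_iff (v w : GolayPt → ZMod 2) : synW v = synW w ↔ v - w ∈ golayCode := by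
  constructor
  · intro h
    have h1 := wd_synW_sub_mem v
    have h2 := wd_synW_sub_mem w
    rw [h] at h1
    have : v - w = (wd ((synW w) <<< 12) - w) - (wd ((synW w) <<< 12) - v) := by abel
    rw [this]
    exact golayCode.sub_mem h2 h1
  · intro h
    apply eq_of_shift_sub_mem (synW_lt v) (synW_lt w)
    have h1 := wd_synW_sub_mem v
    have h2 := wd_synW_sub_mem w
    have : wd ((synW v) <<< 12) - wd ((synW w) <<< 12) =
        (wd ((synW v) <<< 12) - v) - (wd ((synW w) <<< 12) - w) + (v - w) := by abel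
    rw [this]
    exact golayCode.add_mem (golayCode.sub_mem h1 h2) h

theorem synW_wd {m : ℕ} (hm : m < 2 ^ 24) : synW (wd m) = syn m := by
  rw [synW, maskW_wd hm]

end Cfsg.Agent.Lib.helper4

namespace Cfsg.Agent.Lib.helper4

open Cfsg
open scoped Pointwise
open Cfsg.Agent.Lib.Helper12.Golay
open Cfsg.Agent.Lib.helper3 (sextetOf N4 mem_N4 ind support₂_ind hammingNorm_ind sextetOf_mem
  sextet_unique mem_sextetOf_self)

/-! ### Sextets and syndromes -/

theorem wd_mask (t : Finset GolayPt) : wd (mask t) = ind t := by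
  funext p
  unfold wd ind
  rw [testBit_mask_idx]
  by_cases h : p ∈ t <;> simp [h]

theorem N4_congr {v v' : GolayPt → ZMod 2} (h : v - v' ∈ golayCode) : N4 v = N4 v' := by
  ext w
  rw [mem_N4, mem_N4]
  constructor
  · rintro ⟨h1, h2⟩
    refine ⟨h1, ?_⟩
    have : v' - w = (v - w) - (v - v') := by abel
    rw [this]
    exact golayCode.sub_mem h2 h
  · rintro ⟨h1, h2⟩
    refine ⟨h1, ?_⟩
    have : v - w = (v' - w) + (v - v') := by abel
    rw [this]
    exact golayCode.add_mem h2 h

theorem sextetOf_congr {v v' : GolayPt → ZMod 2} (h : v - v' ∈ golayCode) :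
    sextetOf v = sextetOf v' := by
  unfold sextetOf
  rw [N4_congr h]

/-- The sextet (for syndromes of cosets of minimum weight four) with a given syndrome. -/
noncomputable def sextetOfSyn (s : ℕ) : Finset (Finset GolayPt) := sextetOf (wd (s <<< 12))

/-- The syndrome `s` is that of a 4-element set. -/
def IsSext (s : ℕ) : Prop := ∃ t : Finset GolayPt, t.card = 4 ∧ syn (mask t) = s

theorem IsSext.lt {s : ℕ} (h : IsSext s) : s < 4096 := by
  obtain ⟨t, _, rfl⟩ := h
  exact syn_lt (mask_lt t)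

theorem sextetOf_ind_eq (t : Finset GolayPt) : sextetOf (ind t) = sextetOfSyn (syn (mask t)) := by
  unfold sextetOfSyn
  apply sextetOf_congr
  have := wd_syn_sub_mem (mask t)
  rw [wd_mask] at this
  have e : ind t - wd ((syn (mask t)) <<< 12) = -(wd ((syn (mask t)) <<< 12) - ind t) := by abel
  rw [e]
  exact golayCode.neg_mem this

theorem sextetOfSyn_mem {s : ℕ} (h : IsSext s) : sextetOfSyn s ∈ sextets := by
  obtain ⟨t, ht, rfl⟩ := h
  rw [← sextetOf_ind_eq]
  exact sextetOf_mem (by rw [hammingNorm_ind, ht])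

theorem mem_sextetOfSyn {t : Finset GolayPt} (ht : t.card = 4) :
    t ∈ sextetOfSyn (syn (mask t)) := by
  rw [← sextetOf_ind_eq]
  have := mem_sextetOf_self (v := ind t) (by rw [hammingNorm_ind, ht])
  rwa [support₂_ind] at this

/-- Every sextet is the sextet of a syndrome. -/
theorem exists_syn_of_sextet {S : Finset (Finset GolayPt)} (hS : S ∈ sextets) :
    ∃ s, IsSext s ∧ S = sextetOfSyn s := by
  have hne : S.Nonempty := by
    rw [← Finset.card_pos, hS.1]; norm_num
  obtain ⟨t, ht⟩ := hne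
  refine ⟨syn (mask t), ⟨t, hS.2.1 t ht, rfl⟩, ?_⟩
  rw [← sextetOf_ind_eq]
  exact sextet_unique hS ht

/-- The syndrome of any tetrad of the sextet of `s` is `s`. -/
theorem syn_of_mem_sextetOfSyn {s : ℕ} (hs : s < 4096) {t : Finset GolayPt}
    (ht : t ∈ sextetOfSyn s) : syn (mask t) = s := by
  classical
  unfold sextetOfSyn sextetOf at ht
  rw [Finset.mem_image] at ht
  obtain ⟨w, hw, rfl⟩ := ht
  rw [mem_N4] at hw
  have h1 := (synW_eq_iff (wd (s <<< 12)) w).mpr hw.2
  rw [synW_wd (shift_lt hs), syn_shiftLeft hs] at h1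
  rw [h1]
  rfl

theorem sextetOfSyn_injOn {s s' : ℕ} (hs : IsSext s) (hs' : IsSext s')
    (h : sextetOfSyn s = sextetOfSyn s') : s = s' := by
  obtain ⟨t, ht, rfl⟩ := hs
  have h1 := mem_sextetOfSyn ht
  rw [h] at h1
  exact syn_of_mem_sextetOfSyn hs'.lt h1

/-! ### The action of the group of the code on sextets -/

theorem smul_sextets {g : Equiv.Perm GolayPt} (hg : g ∈ M24) {S : Finset (Finset GolayPt)}
    (hS : S ∈ sextets) : g • S ∈ sextets := by
  obtain ⟨h6, h4, hu⟩ := hS
  refine ⟨by rw [Finset.card_smul_finset, h6], ?_, ?_⟩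
  · intro t ht
    obtain ⟨t', ht', rfl⟩ := Finset.mem_smul_finset.mp ht
    rw [Finset.card_smul_finset]
    exact h4 t' ht'
  · intro t ht u hu' hne
    obtain ⟨t', ht', rfl⟩ := Finset.mem_smul_finset.mp ht
    obtain ⟨u', hu'', rfl⟩ := Finset.mem_smul_finset.mp hu'
    rw [← Finset.smul_finset_union]
    apply smul_mem_octads hg
    exact hu t' ht' u' hu'' (fun h => hne (by rw [h]))

theorem smul_sextetOf_ind {g : Equiv.Perm GolayPt} (hg : g ∈ M24) {t : Finset GolayPt}
    (ht : t.card = 4) : g • sextetOf (ind t) = sextetOf (ind (g • t)) := by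
  have hS : sextetOf (ind t) ∈ sextets := sextetOf_mem (by rw [hammingNorm_ind, ht])
  have hmem : t ∈ sextetOf (ind t) := by
    have := mem_sextetOf_self (v := ind t) (by rw [hammingNorm_ind, ht])
    rwa [support₂_ind] at this
  exact sextet_unique (smul_sextets hg hS) (Finset.smul_mem_smul_finset hmem)

/-- The action of a table on syndromes. -/
def actS (T : List ℕ) (s : ℕ) : ℕ := syn (actK T (Nat.shiftLeft s 12))

theorem actT_xor (T : List ℕ) (a b : ℕ) : actT T (a ^^^ b) = actT T a ^^^ actT T b := by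
  apply Nat.eq_of_testBit_eq
  intro j
  rw [Nat.testBit_xor, testBit_actT, testBit_actT, testBit_actT]
  split
  · rw [Nat.testBit_xor]
  · rfl

theorem isCode_actT {T : List ℕ} (hv : ValidT T) (hT : permT T ∈ M24) {c : ℕ} (hc : c < 2 ^ 24)
    (h : isCode c = true) : isCode (actT T c) = true := by
  have h1 : fs c ∈ supports (golayCode : Set (GolayPt → ZMod 2)) := by
    rw [mem_supports_golayCode_iff, mask_fs hc]; exact h
  have h2 := smul_mem_supports_of_mem_M24 hT h1
  rw [permT_smul_fs hv hc, mem_supports_golayCode_iff, mask_fs (actT_lt hv.1 c)] at h2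
  exact h2

/-- The sextet of the image of a syndrome under a table. -/
theorem smul_sextetOfSyn {T : List ℕ} (hv : ValidT T) (hT : permT T ∈ M24) {s : ℕ}
    (hs : IsSext s) : IsSext (actS T s) ∧ permT T • sextetOfSyn s = sextetOfSyn (actS T s) := by
  obtain ⟨t, ht, rfl⟩ := hs
  have hgt : (permT T • t).card = 4 := by rw [Finset.card_smul_finset, ht]
  have hmask : mask (permT T • t) = actT T (mask t) :=
    mask_smul (isInvTable_permT hv) hv.2.1 t
  -- the syndromes agree
  have hsyn : syn (actT T (mask t)) = actS T (syn (mask t)) := by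
    unfold actS
    rw [actK_eq]
    have e : Nat.shiftLeft (syn (mask t)) 12 = (syn (mask t)) <<< 12 := rfl
    rw [e, ← synW_wd (actT_lt hv.1 _), ← synW_wd (actT_lt hv.1 _), synW_eq_iff, wd_sub,
      ← actT_xor, syn_shift]
    have hx : mask t ^^^ (mask t ^^^ enc (mask t % 4096)) = enc (mask t % 4096) := by
      rw [← Nat.xor_assoc, Nat.xor_self, Nat.zero_xor]
    rw [hx, wd_mem_golayCode_iff (actT_lt hv.1 _)]
    exact isCode_actT hv hT (enc_lt _) (isCode_enc (Nat.mod_lt _ (by norm_num)))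
  refine ⟨⟨permT T • t, hgt, by rw [hmask, hsyn]⟩, ?_⟩
  rw [← sextetOf_ind_eq, smul_sextetOf_ind hT ht, sextetOf_ind_eq, hmask, hsyn]

end Cfsg.Agent.Lib.helper4
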