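import Mathlib
import Cfsg.Prelude.Def_Sporadic_a
import Cfsg.Prelude.Def_SporadicCombinatorics
import Cfsg.Agent.Lib.helper4.SextetSyn

set_option autoImplicit false

namespace Cfsg.Agent.Lib.helper4

open Cfsg
open scoped Pointwise
open Cfsg.Agent.Lib.Helper12.Golay

/-! ### Orbit lists of syndromes -/

/-- The action of the `k`-th table of a list on syndromes. -/
def actSG (gens : List (List ℕ)) (k : ℕ) (s : ℕ) : Option ℕ :=
  match gens[k]? with
  | some T => some (actS T s)
  | none => none

/-- The list of syndromes reached from `s₀` by the instruction list `is`. -/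
def orbS (gens : List (List ℕ)) (is : List ℕ) (s₀ : ℕ) : List ℕ :=
  runOrb (actSG gens) is [s₀] [s₀]

theorem orbS_spec (H : Subgroup (Equiv.Perm GolayPt)) (hH : H ≤ M24) (gens : List (List ℕ))
    (hg : ∀ T ∈ gens, ValidT T ∧ permT T ∈ H) (is : List ℕ) (s₀ : ℕ) (hs₀ : IsSext s₀) :
    ∀ s ∈ orbS gens is s₀, IsSext s ∧ ∃ g ∈ H, g • sextetOfSyn s₀ = sextetOfSyn s := by
  have h0 : IsSext s₀ ∧ ∃ g ∈ H, g • sextetOfSyn s₀ = sextetOfSyn s₀ :=
    ⟨hs₀, 1, H.one_mem, one_smul _ _⟩
  apply runOrb_inv (actSG gens) (fun s => IsSext s ∧ ∃ g ∈ H, g • sextetOfSyn s₀ = sextetOfSyn s)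
  · intro k a b hk ha
    rw [actSG] at hk
    cases hT : gens[k]? with
    | none => rw [hT] at hk; cases hk
    | some T =>
      rw [hT] at hk
      have hb : actS T a = b := by simpa using hk
      have hTmem : T ∈ gens := List.mem_of_getElem? hT
      obtain ⟨hv, hTH⟩ := hg T hTmem
      obtain ⟨ha1, g, hgH, hga⟩ := ha
      obtain ⟨h1, h2⟩ := smul_sextetOfSyn hv (hH hTH) ha1
      rw [hb] at h1 h2
      exact ⟨h1, permT T * g, H.mul_mem hTH hgH, by rw [mul_smul, hga, h2]⟩
  · intro a ha
    rw [List.mem_singleton] at ha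
    rw [ha]; exact h0
  · intro a ha
    rw [List.mem_singleton] at ha
    rw [ha]; exact h0

/-- Test that the keys of the members of a list are pairwise distinct and not in the bitset. -/
def nodupBy {α : Type} (key : α → ℕ) : List α → ℕ → Bool
  | [], _ => true
  | t :: L, B =>
    match tb B (key t) with
    | true => false
    | false => nodupBy key L (Nat.lor B (Nat.shiftLeft 1 (key t)))

theorem nodupBy_spec {α : Type} (key : α → ℕ) {L : List α} {B : ℕ}
    (h : nodupBy key L B = true) :
    (∀ t ∈ L, B.testBit (key t) = false) ∧ (L.map key).Nodup := by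
  induction L generalizing B with
  | nil => exact ⟨fun t ht => absurd ht List.not_mem_nil, List.nodup_nil⟩
  | cons t L ih =>
    rw [nodupBy] at h
    split at h
    · exact Bool.noConfusion h
    · rename_i hb
      rw [tb_eq] at hb
      obtain ⟨h1, h2⟩ := ih h
      have h1' : ∀ t' ∈ L, B.testBit (key t') = false ∧ key t' ≠ key t := by
        intro t' ht'
        have := h1 t' ht'
        have e : (B ||| 1 <<< key t).testBit (key t') = false := this
        rw [Nat.testBit_or, Bool.or_eq_false_iff, Nat.one_shiftLeft, Nat.testBit_two_pow] at e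
        refine ⟨e.1, ?_⟩
        intro hk
        have := e.2
        rw [hk] at this
        simp at this
      refine ⟨?_, ?_⟩
      · intro t' ht'
        rcases List.mem_cons.mp ht' with rfl | ht''
        · exact hb
        · exact (h1' t' ht'').1
      · rw [List.map_cons, List.nodup_cons]
        refine ⟨?_, h2⟩
        intro hm
        obtain ⟨t', ht', hk⟩ := List.mem_map.mp hm
        exact (h1' t' ht').2 hk

theorem nodup_of_nodupBy {α : Type} (key : α → ℕ) {L : List α} (h : nodupBy key L 0 = true) :
    L.Nodup := List.Nodup.of_map _ (nodupBy_spec key h).2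

/-- The sextets of a duplicate-free list of syndromes are as many as the list is long. -/
theorem card_sextets_of_list {L : List ℕ} (hs : ∀ s ∈ L, IsSext s) (hnd : L.Nodup) :
    ((L.map sextetOfSyn).toFinset).card = L.length := by
  have hD : (L.map sextetOfSyn).Nodup := by
    apply List.Nodup.map_on _ hnd
    intro x hx y hy hxy
    exact sextetOfSyn_injOn (hs x hx) (hs y hy) hxy
  rw [List.toFinset_card_of_nodup hD, List.length_map]

/-- A duplicate-free list of 1771 syndromes of sextets contains the syndromes of all sextets. -/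
theorem sextets_complete {L : List ℕ} (hs : ∀ s ∈ L, IsSext s) (hnd : L.Nodup)
    (hlen : L.length = 1771) (S : Finset (Finset GolayPt)) (hS : S ∈ sextets) :
    ∃ s ∈ L, sextetOfSyn s = S := by
  have hcard := card_sextets_of_list hs hnd
  rw [hlen] at hcard
  have hsub : (↑((L.map sextetOfSyn).toFinset) : Set (Finset (Finset GolayPt))) ⊆ sextets := by
    intro Y hY
    rw [Finset.mem_coe, List.mem_toFinset, List.mem_map] at hY
    obtain ⟨s, hsL, rfl⟩ := hY
    exact sextetOfSyn_mem (hs s hsL)
  have heq := Set.eq_of_subset_of_ncard_le hsub (by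
    rw [Set.ncard_coe_finset, hcard, Cfsg.Agent.Lib.helper3.sextets_ncard]) (Set.toFinite _)
  rw [← heq, Finset.mem_coe, List.mem_toFinset, List.mem_map] at hS
  exact hS

end Cfsg.Agent.Lib.helper4
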