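import Mathlib
import Cfsg.Prelude.Def_Sporadic_a
import Cfsg.Agent.Lib.helper4.OrbitLists
import Cfsg.Agent.Lib.helper4.SextetOrb

set_option autoImplicit false

namespace Cfsg.Agent.Lib.helper4

open Cfsg MulAction
open scoped Pointwise
open Cfsg.Agent.Lib.Helper12.Golay

/-! ### Orbits of a subgroup of the group of the code on a family of coded objects -/

/-- The action of the `k`-th table of a list on codes. -/
def actGen {C : Type} (act : List ℕ → C → C) (gens : List (List ℕ)) (k : ℕ) (c : C) : Option C :=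
  match gens[k]? with
  | some T => some (act T c)
  | none => none

/-- The list of codes reached from `c₀` by the instruction list `is`. -/
def orbGen {C : Type} (act : List ℕ → C → C) (gens : List (List ℕ)) (is : List ℕ) (c₀ : C) :
    List C :=
  runOrb (actGen act gens) is [c₀] [c₀]

section

variable {C : Type} {X : Type*} [MulAction (Equiv.Perm GolayPt) X]
  (D : C → X) (V : C → Prop) (act : List ℕ → C → C)
  (hact : ∀ T, ValidT T → permT T ∈ M24 → ∀ c, V c → V (act T c) ∧ permT T • D c = D (act T c))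
  (K : Subgroup ↥M24) (gens : List (List ℕ))
  (hg : ∀ T ∈ gens, ValidT T ∧ ∃ h : permT T ∈ M24, (⟨permT T, h⟩ : M24) ∈ K)

include hact hg in
theorem orbGen_spec (is : List ℕ) (c₀ : C) (hc₀ : V c₀) :
    ∀ c ∈ orbGen act gens is c₀, V c ∧ ∃ g : ↥K, g • D c₀ = D c := by
  have h0 : V c₀ ∧ ∃ g : ↥K, g • D c₀ = D c₀ := ⟨hc₀, 1, one_smul _ _⟩
  apply runOrb_inv (actGen act gens) (fun c => V c ∧ ∃ g : ↥K, g • D c₀ = D c)
  · intro k a b hk ha
    rw [actGen] at hk
    cases hT : gens[k]? with
    | none => rw [hT] at hk; cases hk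
    | some T =>
      rw [hT] at hk
      have hb : act T a = b := by simpa using hk
      have hTmem : T ∈ gens := List.mem_of_getElem? hT
      obtain ⟨hv, hM, hK⟩ := hg T hTmem
      obtain ⟨ha1, g, hga⟩ := ha
      obtain ⟨h1, h2⟩ := hact T hv hM a ha1
      rw [hb] at h1 h2
      refine ⟨h1, ⟨⟨permT T, hM⟩, hK⟩ * g, ?_⟩
      rw [mul_smul, hga]
      exact h2
  · intro a ha
    rw [List.mem_singleton] at ha
    rw [ha]; exact h0
  · intro a ha
    rw [List.mem_singleton] at ha
    rw [ha]; exact h0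

variable [DecidableEq X] (F : Set X) (N : ℕ) (hN : F.ncard = N) (hFfin : F.Finite)
  (hVF : ∀ c, V c → D c ∈ F)
  (hinj : ∀ c c', V c → V c' → D c = D c' → c = c')
  (hFinv : ∀ g : ↥M24, ∀ y ∈ F, g • y ∈ F)
  (key : C → ℕ) {k : ℕ} (c₀ : Fin k → C) (ins : Fin k → List ℕ) (n : Fin k → ℕ)
  (hc₀ : ∀ i, V (c₀ i))
  (hnd : nodupBy key (List.flatten (List.ofFn fun i => orbGen act gens (ins i) (c₀ i))) 0 = true)
  (hlen : ∀ i, (orbGen act gens (ins i) (c₀ i)).length = n i)
  (hsum : ∑ i, n i = N)
  (harith : ∀ (I : Finset (Fin k)) (i : Fin k), i ∈ I → (∑ j ∈ I, n j) ∣ Nat.card K → I = {i})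

include hact hg hN hFfin hVF hinj hFinv hc₀ hnd hlen hsum harith in
/-- The orbits of `K` on the family `F`, from orbit lists of codes. -/
theorem coded_orbits :
    (∀ i, (orbit K (D (c₀ i))).ncard = n i) ∧ ∀ y, y ∈ F ↔ ∃ i, y ∈ orbit K (D (c₀ i)) := by
  classical
  set L : Fin k → List C := fun i => orbGen act gens (ins i) (c₀ i) with hL
  have hspec : ∀ i, ∀ c ∈ L i, V c ∧ ∃ g : ↥K, g • D (c₀ i) = D c := fun i =>
    orbGen_spec D V act hact K gens hg (ins i) (c₀ i) (hc₀ i)
  have hndall : (List.flatten (List.ofFn L)).Nodup := nodup_of_nodupBy key hnd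
  rw [List.nodup_flatten] at hndall
  obtain ⟨hnd1, hnd2⟩ := hndall
  have hndi : ∀ i, (L i).Nodup := fun i => hnd1 _ (by rw [List.mem_ofFn]; exact ⟨i, rfl⟩)
  have hdisjL : ∀ i j, i ≠ j → List.Disjoint (L i) (L j) := by
    rw [List.pairwise_ofFn] at hnd2
    intro i j hij
    rcases lt_or_gt_of_ne hij with h | h
    · exact hnd2 h
    · exact (hnd2 h).symm
  set A : Fin k → Finset X := fun i => ((L i).map D).toFinset with hAdef
  have hAmem : ∀ i y, y ∈ A i ↔ ∃ c ∈ L i, D c = y := by
    intro i y
    rw [hAdef]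
    simp only [List.mem_toFinset, List.mem_map]
  have hcardA : ∀ i, (A i).card = n i := by
    intro i
    have hD : ((L i).map D).Nodup := by
      apply List.Nodup.map_on _ (hndi i)
      intro x hx y hy hxy
      exact hinj x y (hspec i x hx).1 (hspec i y hy).1 hxy
    rw [hAdef]
    simp only
    rw [List.toFinset_card_of_nodup hD, List.length_map, hlen i]
  have hdisjA : ∀ i j, i ≠ j → Disjoint (A i) (A j) := by
    intro i j hij
    rw [Finset.disjoint_left]
    intro y hy hy'
    obtain ⟨c, hc, rfl⟩ := (hAmem i _).mp hy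
    obtain ⟨c', hc', hcc⟩ := (hAmem j _).mp hy'
    have := hinj c' c (hspec j c' hc').1 (hspec i c hc).1 hcc
    rw [this] at hc'
    exact hdisjL i j hij hc hc'
  have hAF : ∀ i, ∀ y ∈ A i, y ∈ F := by
    intro i y hy
    obtain ⟨c, hc, rfl⟩ := (hAmem i _).mp hy
    exact hVF c (hspec i c hc).1
  have hcover : ∀ y ∈ F, ∃ i, y ∈ A i := by
    have hsub : (↑(Finset.univ.biUnion A) : Set X) ⊆ F := by
      intro y hy
      rw [Finset.mem_coe, Finset.mem_biUnion] at hy
      obtain ⟨i, _, hi⟩ := hy
      exact hAF i y hi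
    have hcard : (Finset.univ.biUnion A).card = N := by
      rw [Finset.card_biUnion (fun i _ j _ hij => hdisjA i j hij), ← hsum]
      exact Finset.sum_congr rfl (fun i _ => hcardA i)
    have heq := Set.eq_of_subset_of_ncard_le hsub (by rw [Set.ncard_coe_finset, hcard, hN]) hFfin
    intro y hy
    rw [← heq, Finset.mem_coe, Finset.mem_biUnion] at hy
    obtain ⟨i, _, hi⟩ := hy
    exact ⟨i, hi⟩
  have hmemL : ∀ i, c₀ i ∈ L i := by
    intro i
    have : ∀ (is : List ℕ) (st acc : List C), c₀ i ∈ acc → c₀ i ∈ runOrb (actGen act gens) is st acc := by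
      intro is
      induction is with
      | nil => intro st acc h; simpa [runOrb] using h
      | cons a is ih =>
        intro st acc h
        cases st with
        | nil => simpa [runOrb] using h
        | cons s st =>
          cases a with
          | zero => rw [runOrb]; exact ih st acc h
          | succ a =>
            rw [runOrb]
            cases actGen act gens a s with
            | none => exact h
            | some m => exact ih _ _ (List.mem_cons_of_mem _ h)
    exact this _ _ _ (List.mem_singleton_self _)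
  refine orbit_lists_main (G := ↥K) (fun i => D (c₀ i)) A n ?_ hdisjA hcardA F hcover ?_ ?_ harith
  · intro i y hy
    obtain ⟨c, hc, rfl⟩ := (hAmem i _).mp hy
    obtain ⟨_, g, hg'⟩ := hspec i c hc
    exact ⟨g, hg'⟩
  · intro i
    exact hVF _ (hc₀ i)
  · intro g y hy
    exact hFinv g.1 y hy

end

end Cfsg.Agent.Lib.helper4
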