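import Mathlib
import Cfsg.Prelude.Def_Sporadic_a
import Cfsg.Prelude.Def_SporadicCombinatorics
import Cfsg.Agent.Lib.helper4.CodedOrbits
import Cfsg.Agent.Lib.Helper12.Golay.TrioClasses

set_option autoImplicit false

namespace Cfsg.Agent.Lib.helper4

open Cfsg MulAction
open scoped Pointwise
open Cfsg.Agent.Lib.Helper12.Golay

/-! ### Orbits on sextets, trios and octads from orbit lists -/

section

variable (K : Subgroup ↥M24) (gens : List (List ℕ))
  (hg : ∀ T ∈ gens, ValidT T ∧ ∃ h : permT T ∈ M24, (⟨permT T, h⟩ : M24) ∈ K)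
  {k : ℕ} (ins : Fin k → List ℕ) (n : Fin k → ℕ)
  (harith : ∀ (I : Finset (Fin k)) (i : Fin k), i ∈ I → (∑ j ∈ I, n j) ∣ Nat.card K → I = {i})

include hg harith in
theorem sextet_orbits (s₀ : Fin k → ℕ) (hs₀ : ∀ i, IsSext (s₀ i))
    (hnd : nodupBy id (List.flatten (List.ofFn fun i => orbGen actS gens (ins i) (s₀ i))) 0 = true)
    (hlen : ∀ i, (orbGen actS gens (ins i) (s₀ i)).length = n i)
    (hsum : ∑ i, n i = 1771) :
    (∀ i, (orbit K (sextetOfSyn (s₀ i))).ncard = n i) ∧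
      ∀ y, y ∈ sextets ↔ ∃ i, y ∈ orbit K (sextetOfSyn (s₀ i)) := by
  classical
  exact coded_orbits sextetOfSyn IsSext actS
    (fun T hv hT c hc => smul_sextetOfSyn hv hT hc) K gens hg sextets 1771
    Cfsg.Agent.Lib.helper3.sextets_ncard (Set.toFinite _) (fun c hc => sextetOfSyn_mem hc)
    (fun c c' hc hc' h => sextetOfSyn_injOn hc hc' h) (fun g y hy => smul_sextets g.2 hy)
    id s₀ ins n hs₀ hnd hlen hsum harith

include hg harith in
theorem trio_orbits (t₀ : Fin k → Code3) (ht₀ : ∀ i, isTrioK (t₀ i) = true)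
    (hnd : nodupBy key3 (List.flatten (List.ofFn fun i => orbGen actT3 gens (ins i) (t₀ i))) 0 = true)
    (hlen : ∀ i, (orbGen actT3 gens (ins i) (t₀ i)).length = n i)
    (hsum : ∑ i, n i = 3795) :
    (∀ i, (orbit K (D3 (t₀ i))).ncard = n i) ∧
      ∀ y, y ∈ trios ↔ ∃ i, y ∈ orbit K (D3 (t₀ i)) := by
  classical
  exact coded_orbits D3 (fun t => Sorted3 t ∧ D3 t ∈ trios) actT3
    (fun T hv hT c hc => by
      obtain ⟨e1, e2⟩ := D3_actT3 hv hc.1
      refine ⟨⟨e2, ?_⟩, e1.symm⟩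
      rw [e1]
      exact Cfsg.Agent.S1557.smul_trios ⟨permT T, hT⟩ _ hc.2) K gens hg trios 3795
    Cfsg.Agent.S1557.result.2 (Set.toFinite _) (fun c hc => hc.2)
    (fun c c' hc hc' h => D3_injOn hc.1 hc'.1 h)
    (fun g y hy => Cfsg.Agent.S1557.smul_trios g y hy)
    key3 t₀ ins n (fun i => isTrioK_spec (ht₀ i)) hnd hlen hsum harith

/-- Boolean test that a bitmask describes an octad. -/
def isOctK (m : ℕ) : Bool :=
  Nat.ble (Nat.succ m) 16777216 && isCodeF m && Nat.beq (popcF m) 8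

theorem isOctK_spec {m : ℕ} (h : isOctK m = true) : m < 2 ^ 24 ∧ fs m ∈ octads := by
  unfold isOctK at h
  rw [Bool.and_eq_true, Bool.and_eq_true, natBeq_iff] at h
  obtain ⟨⟨h1, h2⟩, h3⟩ := h
  have hlt : m < 2 ^ 24 := by
    have := Nat.le_of_ble_eq_true h1
    exact this
  refine ⟨hlt, ?_⟩
  rw [fs_mem_octads_iff hlt]
  rw [isCodeF_eq] at h2
  rw [popcF_eq hlt] at h3
  exact ⟨h2, h3⟩

include hg harith in
theorem octad_orbits (m₀ : Fin k → ℕ) (hm₀ : ∀ i, isOctK (m₀ i) = true)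
    (hnd : nodupBy (fun m => Nat.land m 4095)
      (List.flatten (List.ofFn fun i => orbGen actK gens (ins i) (m₀ i))) 0 = true)
    (hlen : ∀ i, (orbGen actK gens (ins i) (m₀ i)).length = n i)
    (hsum : ∑ i, n i = 759) :
    (∀ i, (orbit K (fs (m₀ i))).ncard = n i) ∧
      ∀ y, y ∈ octads ↔ ∃ i, y ∈ orbit K (fs (m₀ i)) := by
  classical
  exact coded_orbits fs (fun m => m < 2 ^ 24 ∧ fs m ∈ octads) actK
    (fun T hv hT c hc => by
      have e1 : permT T • fs c = fs (actK T c) := by rw [actK_eq]; exact permT_smul_fs hv hc.1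
      refine ⟨⟨by rw [actK_eq]; exact actT_lt hv.1 c, ?_⟩, e1⟩
      rw [← e1]
      exact smul_mem_octads hT hc.2) K gens hg octads 759
    Cfsg.Agent.Lib.helper3.octads_ncard (Set.toFinite _) (fun c hc => hc.2)
    (fun c c' hc hc' h => fs_inj hc.1 hc'.1 h)
    (fun g y hy => smul_mem_octads g.2 hy)
    (fun m => Nat.land m 4095) m₀ ins n (fun i => isOctK_spec (hm₀ i)) hnd hlen hsum harith

end

theorem isSext_of_checks {t s : ℕ} (h : Nat.beq (popcF t) 4 = true ∧
    Nat.ble (Nat.succ t) 16777216 = true ∧ Nat.beq (syn t) s = true) : IsSext s := by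
  obtain ⟨h1, h2, h3⟩ := h
  have hlt : t < 2 ^ 24 := by
    have := Nat.le_of_ble_eq_true h2
    exact this
  refine ⟨fs t, ?_, ?_⟩
  · rw [card_fs, ← popcF_eq hlt]
    exact natBeq_iff.mp h1
  · rw [mask_fs hlt]
    exact natBeq_iff.mp h3

end Cfsg.Agent.Lib.helper4
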