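import Mathlib
import Cfsg.Prelude.Def_Sporadic_a
import Cfsg.Prelude.Def_SporadicCombinatorics
import Cfsg.Agent.Lib.helper4.SextetStabOrbits
import Cfsg.Agent.Lib.helper3.GolayCard
import Cfsg.Agent.Lib.Helper12.Maximal

set_option autoImplicit false

namespace Cfsg.Agent.Lib.helper4

open Cfsg MulAction
open scoped Pointwise
open Cfsg.Agent.Lib.Helper12.Golay

/-- The standard sextet. -/
noncomputable def S₀ : Finset (Finset GolayPt) := sextetOfSyn s₀

theorem isSext_s₀ : IsSext s₀ := isSext_of_checks (s52Sext_checks.1 0)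

theorem S₀_mem : S₀ ∈ sextets := sextetOfSyn_mem isSext_s₀

theorem stabSGens_mem : ∀ T ∈ stabSGens, ValidT T ∧
    ∃ h : permT T ∈ M24, (⟨permT T, h⟩ : M24) ∈ stabilizer M24 S₀ := by
  have h : ∀ T ∈ stabSGens, okK T = true ∧ Nat.beq (actS T s₀) s₀ = true := by decide +kernel
  intro T hT
  obtain ⟨h1, h2⟩ := h T hT
  have hv := okK_valid h1
  have hM := permT_mem_M24' h1
  refine ⟨hv, hM, ?_⟩
  rw [mem_stabilizer_iff]
  show permT T • S₀ = S₀
  rw [S₀, (smul_sextetOfSyn hv hM isSext_s₀).2, natBeq_iff.mp h2]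

/-- The group of the code is transitive on sextets. -/
theorem sextets_transitive (S : Finset (Finset GolayPt)) (hS : S ∈ sextets) :
    ∃ k : M24, k • S₀ = S := by
  obtain ⟨h1, h2, h3⟩ := allSext_checks
  have hs : ∀ i, IsSext (allSextRep i) := fun i => isSext_of_checks (h1 i)
  have hg : ∀ T ∈ m24Gens, ValidT T ∧
      ∃ h : permT T ∈ M24, (⟨permT T, h⟩ : M24) ∈ (⊤ : Subgroup ↥M24) := by
    intro T hT
    obtain ⟨hv, hM⟩ := m24Gens_ok T hT
    exact ⟨hv, hM, Subgroup.mem_top _⟩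
  obtain ⟨_, hF⟩ := sextet_orbits (⊤ : Subgroup ↥M24) m24Gens hg allSextIns allSextN
    (by
      intro I i hi _
      rw [Finset.eq_singleton_iff_unique_mem]
      exact ⟨hi, fun j _ => Subsingleton.elim j i⟩) allSextRep hs h2 h3 (by decide)
  obtain ⟨i, ⟨g, hg⟩, hgS⟩ := (hF S).mp hS
  obtain ⟨j, ⟨g', hg'⟩, hgS'⟩ := (hF S₀).mp S₀_mem
  have hi : i = j := Subsingleton.elim i j
  subst hi
  refine ⟨g * g'⁻¹, ?_⟩
  have e1 : g • sextetOfSyn (allSextRep i) = S := hgS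
  have e2 : g' • sextetOfSyn (allSextRep i) = S₀ := hgS'
  rw [mul_smul, ← e2, inv_smul_smul, e1]

theorem orbit_S₀ : orbit M24 S₀ = sextets := by
  ext X
  constructor
  · rintro ⟨g, rfl⟩
    exact smul_sextets g.2 S₀_mem
  · intro hX
    obtain ⟨g, rfl⟩ := sextets_transitive X hX
    exact ⟨g, rfl⟩

theorem card_stab_S₀ : Nat.card ↥(stabilizer M24 S₀) = 138240 := by
  have h2 := Subgroup.card_mul_index (stabilizer M24 S₀)
  rw [← Cfsg.Agent.Lib.Helper12.ncard_orbit_top, orbit_S₀, Cfsg.Agent.Lib.helper3.sextets_ncard,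
    Cfsg.Agent.Lib.helper3.card_M24] at h2
  have h3 : 138240 * 1771 = 244823040 := by norm_num
  exact Nat.eq_of_mul_eq_mul_right (by norm_num : 0 < 1771) (h2.trans h3.symm)

theorem s11_arith_oct : ∀ (I : Finset (Fin 3)) (i : Fin 3), i ∈ I →
    (∑ j ∈ I, s11OctN j) ∣ 138240 → I = {i} := by decide

theorem s11_arith_trio : ∀ (I : Finset (Fin 4)) (i : Fin 4), i ∈ I →
    (∑ j ∈ I, s11TrioN j) ∣ 138240 → I = {i} := by decide

theorem sextet_orbits_octads_trios (S : Finset (Finset GolayPt)) (hS : S ∈ sextets) :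
    (∃ X₁ ∈ octads, ∃ X₂ ∈ octads, ∃ X₃ ∈ octads,
      (orbit ↥(stabilizer M24 S) X₁).ncard = 15 ∧ (orbit ↥(stabilizer M24 S) X₂).ncard = 360 ∧
      (orbit ↥(stabilizer M24 S) X₃).ncard = 384 ∧
      octads = orbit ↥(stabilizer M24 S) X₁ ∪ orbit ↥(stabilizer M24 S) X₂ ∪
        orbit ↥(stabilizer M24 S) X₃) ∧
    (∃ Y₁ ∈ trios, ∃ Y₂ ∈ trios, ∃ Y₃ ∈ trios, ∃ Y₄ ∈ trios,
      (orbit ↥(stabilizer M24 S) Y₁).ncard = 15 ∧ (orbit ↥(stabilizer M24 S) Y₂).ncard = 180 ∧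
      (orbit ↥(stabilizer M24 S) Y₃).ncard = 720 ∧ (orbit ↥(stabilizer M24 S) Y₄).ncard = 2880 ∧
      trios = orbit ↥(stabilizer M24 S) Y₁ ∪ orbit ↥(stabilizer M24 S) Y₂ ∪
        orbit ↥(stabilizer M24 S) Y₃ ∪ orbit ↥(stabilizer M24 S) Y₄) := by
  have hK := card_stab_S₀
  have hkS := sextets_transitive S hS
  constructor
  · obtain ⟨h1, h2, h3⟩ := s11Oct_checks
    obtain ⟨hc, hF⟩ := octad_orbits (stabilizer M24 S₀) stabSGens stabSGens_mem s11OctIns
      s11OctN (by rw [hK]; exact s11_arith_oct) s11OctRep h1 h2 h3 (by decide)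
    have hmem : ∀ i, fs (s11OctRep i) ∈ octads := fun i => (isOctK_spec (h1 i)).2
    exact three_orbits_transport (M := M24) S₀ octads
      (fun g y hy => smul_mem_octads g.2 hy) _ _ _ (hmem 0) (hmem 1) (hmem 2)
      15 360 384 (hc 0) (hc 1) (hc 2) (fun y => by rw [hF y, exists_fin3]) S hkS
  · obtain ⟨h1, h2, h3⟩ := s11Trio_checks
    obtain ⟨hc, hF⟩ := trio_orbits (stabilizer M24 S₀) stabSGens stabSGens_mem s11TrioIns
      s11TrioN (by rw [hK]; exact s11_arith_trio) s11TrioRep h1 h2 h3 (by decide)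
    have hmem : ∀ i, D3 (s11TrioRep i) ∈ trios := fun i => (isTrioK_spec (h1 i)).2
    exact four_orbits_transport (M := M24) S₀ trios
      (fun g y hy => Cfsg.Agent.S1557.smul_trios g y hy) _ _ _ _ (hmem 0) (hmem 1) (hmem 2)
      (hmem 3) 15 180 720 2880 (hc 0) (hc 1) (hc 2) (hc 3)
      (fun y => by rw [hF y, exists_fin4]) S hkS

end Cfsg.Agent.Lib.helper4
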