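import Mathlib
import Cfsg.Prelude.Def_Sporadic_a
import Cfsg.Agent.Lib.Helper12.Golay.OctadStab
import Cfsg.Agent.Lib.Helper12.Golay.DStab

set_option autoImplicit false

namespace Cfsg.Agent.Lib.helper4

open Cfsg
open scoped Pointwise
open Cfsg.Agent.Lib.Helper12.Golay

/-! ### Pairs of octads: the octad stabiliser is transitive on the octads meeting the octad in a
given number of points; counts 1, 280, 448, 30 for intersection sizes 8, 4, 2, 0. -/

/-- Class values, representatives and instructions for the orbits of the stabiliser of the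
standard octad on octads. -/
def pairReps : List (ℕ × ℕ × List ℕ) := [(8, 5279, []),
  (4, 10558, [1,1,1,1,1,1,1,1,1,1,1,1,1,2,1,1,1,1,1,1,1,1,1,1,1,1,1,2,1,1,1,1,1,1,2,1,1,1,1,1,1,1,1,1,1,1,1,1,0,2,1,1,1,1,1,1,0,0,2,1,1,1,1,1,1,1,1,1,1,1,1,1,2,1,1,1,1,1,1,1,1,1,1,1,1,1,2,1,1,1,1,1,1,1,1,1,1,1,1,1,2,1,1,1,1,1,1,2,1,1,1,1,1,1,1,1,1,1,1,1,1,2,1,1,1,1,1,1,2,1,1,1,1,1,1,2,1,1,1,1,1,1,1,1,1,1,1,1,1,2,1,1,1,1,1,1,1,1,1,1,1,1,1,2,1,1,1,1,1,1,1,1,1,1,1,1,1,0,0,0,0,0,2,1,1,1,1,1,1,1,1,1,1,1,1,1,0,2,1,1,1,1,1,1,1,1,1,1,1,1,1,0,0,0,2,1,1,1,1,1,1,1,1,1,1,1,1,1,0,0,0,0,0,0,0,0,0,0,0,0,0,0,0,2,1,1,1,1,1,1,1,1,1,1,1,1,1,2,1,1,1,1,1,1,1,1,1,1,1,1,1,2,1,1,1,1,1,1,0,0,0,0,0,0,0,0,2,1,1,1,1,1,1,1,1,1,1,1,1,1,0,0,0,0,0,0,0,0,0,0,0,0,0,0,0,0,0,0,0,0,2,1,1,1,1,1,1,0,0,0,2,1,1,1,1,1,1]),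
  (2, 31554, [1,1,1,1,1,1,1,1,1,1,1,1,1,2,1,1,1,1,1,1,1,1,1,1,1,1,1,2,1,1,1,1,1,1,1,1,1,1,1,1,1,2,1,1,1,1,1,1,1,1,1,1,1,1,1,2,1,1,1,1,1,1,1,1,1,1,1,1,1,2,1,1,1,1,1,1,1,1,1,1,1,1,1,2,1,1,1,1,1,1,1,1,1,1,1,1,1,2,1,1,1,1,1,1,1,1,1,1,1,1,1,2,1,1,1,1,1,1,1,1,1,1,1,1,1,2,1,1,1,1,1,1,1,1,1,1,1,1,1,0,2,1,1,1,1,1,1,1,1,1,1,1,1,1,2,1,1,1,1,1,1,1,1,1,1,1,1,1,2,1,1,1,1,1,1,1,1,1,1,1,1,1,2,1,1,1,1,1,1,1,1,1,1,1,1,1,0,2,1,1,1,1,1,1,1,1,1,1,1,1,1,2,1,1,1,1,1,1,1,1,1,1,1,1,1,2,1,1,1,1,1,1,1,1,1,1,1,1,1,2,1,1,1,1,1,1,1,1,1,1,1,1,1,2,1,1,1,1,1,1,1,1,1,1,1,1,1,0,0,0,2,1,1,1,1,1,1,1,1,1,1,1,1,1,2,1,1,1,1,1,1,1,1,1,1,1,1,1,2,1,1,1,1,1,1,1,1,1,1,1,1,1,2,1,1,1,1,1,1,1,1,1,1,1,1,1,0,2,1,1,1,1,1,1,1,1,1,1,1,1,1,0,0,2,1,1,1,1,1,1,1,1,1,1,1,1,1,2,1,1,1,1,1,1,1,1,1,1,1,1,1,0,0,2,1,1,1,1,1,1,1,1,1,1,1,1,1,2,1,1,1,1,1,1,1,1,1,1,1,1,1,0,2,1,1,1,1,1,1,1,1,1,1,1,1,1,0,0,0,0,0,0,0,0,0,2,1,1,1,1,1,1,1,1,1,1,1,1,1,0,0,0,0,0,0,0,0,0,0,0,0,0,0,0,0,2,1,1,1,1,1,1,1,1,1,1,1,1,1,0,0,0,0,0,0,0,0,0,0,0,0,0,0,0,0,0,0,0,0,0,0,0,0,0,0,0,2,1,1,1,1,1,1,1,1,1,1,1,1,1]),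
  (0, 1009728, [1,1,1,1,1,1,1,1,1,1,1,1,1,0,2,1,1,1,1,1,1,0,2,1,2,1,1,1,1,1,1])]

theorem pairReps_ok : allL pairReps (repOK stabOGens 8 (fun _ => true)
    (fun m => popcF (Nat.land o₀ m))) = true := by decide +kernel

theorem pairCases_ok : casesOK 8 (fun _ => true) (fun m => popcF (Nat.land o₀ m))
    (pairReps.map fun r => r.1) = true := by decide +kernel

theorem octad_inter_base (S : Finset GolayPt) (hS : S ∈ octads) :
    (fs o₀ ∩ S).card = 8 ∨ (fs o₀ ∩ S).card = 4 ∨ (fs o₀ ∩ S).card = 2 ∨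
      (fs o₀ ∩ S).card = 0 := by
  have hS' := (mem_wordsOfWeight_iff S 8).mp hS
  obtain ⟨u, hu, hue⟩ := isCode_iff.mp hS'.1
  have h1 := allK_spec pairCases_ok u hu
  rw [encF_eq hu, hue, popcF_eq (mask_lt S), hS'.2] at h1
  have h2 : memL (popcF (Nat.land o₀ (mask S))) (pairReps.map fun r => r.1) = true := by
    simpa [Nat.beq_refl] using h1
  rw [memL_iff, ← card_fs_inter (by decide)] at h2
  have h3 : (pairReps.map fun r => r.1) = [8, 4, 2, 0] := by decide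
  rw [h3] at h2
  simpa using h2

/-- The values of the intersection size of two octads. -/
theorem octad_inter_cases (o o' : Finset GolayPt) (ho : o ∈ octads) (ho' : o' ∈ octads) :
    (o ∩ o').card = 8 ∨ (o ∩ o').card = 4 ∨ (o ∩ o').card = 2 ∨ (o ∩ o').card = 0 := by
  obtain ⟨k, hk, rfl⟩ := octads_transitive o ho
  have h1 := octad_inter_base (k⁻¹ • o') (smul_mem_octads (M24.inv_mem hk) ho')
  have h2 : (k • fs o₀ ∩ o').card = (fs o₀ ∩ k⁻¹ • o').card := by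
    rw [← card_smul_inter k (fs o₀) (k⁻¹ • o'), smul_inv_smul]
  rw [h2]; exact h1

/-- The octad stabiliser is transitive on the octads meeting the octad in a given number of
points. -/
theorem octad_pair_homog (o o' o'' : Finset GolayPt) (ho : o ∈ octads) (ho' : o' ∈ octads)
    (ho'' : o'' ∈ octads) (h : (o ∩ o').card = (o ∩ o'').card) :
    ∃ g : M24, g • o = o ∧ g • o' = o'' := by
  have key := homogeneous_of_base (G := M24) (A := Finset GolayPt) (B := Finset GolayPt) (fs o₀)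
    octads (fun g b hb => smul_mem_octads g.2 hb) (fun a b => (a ∩ b).card)
    (fun g a b => card_smul_inter (g : Equiv.Perm GolayPt) a b)
    (by
      intro b hb b' hb' hbb'
      have hinv : popcF (Nat.land o₀ (mask b)) = popcF (Nat.land o₀ (mask b')) := by
        rw [← card_fs_inter (by decide), ← card_fs_inter (by decide)]; exact hbb'
      obtain ⟨g, hg, hgb⟩ := classes_homog stabO stabO_le stabOGens stabOGens_ok 8
        (fun _ => true) (fun m => popcF (Nat.land o₀ m)) pairReps pairReps_ok pairCases_ok b b'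
        hb hb' rfl rfl hinv
      exact ⟨⟨g, stabO_le hg⟩, hg.2, hgb⟩)
    o (by
      obtain ⟨k, hk, hko⟩ := octads_transitive o ho
      exact ⟨⟨k, hk⟩, hko⟩) o' o'' ho' ho'' h
  exact key

theorem octad_pair_count_base (c n : ℕ)
    (h : countK 4096 (fun u => Nat.beq (popcF (encF u)) 8 &&
      Nat.beq (popcF (Nat.land o₀ (encF u))) c) = n) :
    {x : Finset GolayPt | x ∈ octads ∧ (fs o₀ ∩ x).card = c}.ncard = n := by
  rw [← h]
  apply ncard_wordsOfWeightK 8 (fun s => (fs o₀ ∩ s).card = c)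
    (fun m => Nat.beq (popcF (Nat.land o₀ m)) c)
  intro m hm
  rw [card_fs_inter (by decide), mask_fs hm, natBeq_iff]

theorem octad_pair_count_general (o : Finset GolayPt) (ho : o ∈ octads) (c : ℕ) :
    {x : Finset GolayPt | x ∈ octads ∧ (o ∩ x).card = c}.ncard =
      {x : Finset GolayPt | x ∈ octads ∧ (fs o₀ ∩ x).card = c}.ncard := by
  obtain ⟨k, hk, hko⟩ := octads_transitive o ho
  have := ncard_invariant (G := M24) (A := Finset GolayPt) (B := Finset GolayPt) octads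
    (fun g b hb => smul_mem_octads g.2 hb) (fun a b => (a ∩ b).card)
    (fun g a b => card_smul_inter (g : Equiv.Perm GolayPt) a b)
    (fun t => t = c) ⟨k, hk⟩ (fs o₀)
  have hk' : (⟨k, hk⟩ : M24) • fs o₀ = o := hko
  rw [hk'] at this
  exact this

/-- An octad is disjoint from exactly 30 octads. -/
theorem octad_pair_count_zero (o : Finset GolayPt) (ho : o ∈ octads) :
    {x : Finset GolayPt | x ∈ octads ∧ (o ∩ x).card = 0}.ncard = 30 := by
  rw [octad_pair_count_general o ho]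
  exact octad_pair_count_base 0 30 (by decide +kernel)

/-- An octad meets exactly 448 octads in two points. -/
theorem octad_pair_count_two (o : Finset GolayPt) (ho : o ∈ octads) :
    {x : Finset GolayPt | x ∈ octads ∧ (o ∩ x).card = 2}.ncard = 448 := by
  rw [octad_pair_count_general o ho]
  exact octad_pair_count_base 2 448 (by decide +kernel)

/-- An octad meets exactly 280 octads in four points. -/
theorem octad_pair_count_four (o : Finset GolayPt) (ho : o ∈ octads) :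
    {x : Finset GolayPt | x ∈ octads ∧ (o ∩ x).card = 4}.ncard = 280 := by
  rw [octad_pair_count_general o ho]
  exact octad_pair_count_base 4 280 (by decide +kernel)

/-- The order of the stabiliser of an octad, for the action of the subgroup type. -/
theorem card_stab_octad (o : Finset GolayPt) (ho : o ∈ octads) :
    Nat.card ↥(MulAction.stabilizer M24 o) = 322560 := by
  have h2 := Subgroup.card_mul_index (MulAction.stabilizer M24 o)
  rw [← Cfsg.Agent.Lib.Helper12.ncard_orbit_top, orbit_eq_octads o ho,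
    Cfsg.Agent.Lib.helper3.octads_ncard, Cfsg.Agent.Lib.helper3.card_M24] at h2
  omega

/-- The orbit of an octad under the stabiliser of another. -/
theorem orbit_stab_octad (o o' : Finset GolayPt) (ho : o ∈ octads) (ho' : o' ∈ octads) :
    MulAction.orbit ↥(MulAction.stabilizer M24 o) o' =
      {x : Finset GolayPt | x ∈ octads ∧ (o ∩ x).card = (o ∩ o').card} := by
  ext x
  constructor
  · rintro ⟨g, rfl⟩
    have hgo : (g : M24) • o = o := g.2
    refine ⟨smul_mem_octads (g : M24).2 ho', ?_⟩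
    have h1 := card_smul_inter ((g : M24) : Equiv.Perm GolayPt) o o'
    have h2 : ((g : M24) : Equiv.Perm GolayPt) • o = o := hgo
    rw [h2] at h1
    exact h1
  · rintro ⟨hx, hc⟩
    obtain ⟨g, hg1, hg2⟩ := octad_pair_homog o o' x ho ho' hx hc.symm
    exact ⟨⟨g, hg1⟩, hg2⟩

/-- The order of the joint stabiliser of two octads times the number of octads meeting the first
as the second does is 322560. -/
theorem card_joint_stab_mul (o o' : Finset GolayPt) (ho : o ∈ octads) (ho' : o' ∈ octads) :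
    Nat.card ↥(MulAction.stabilizer M24 o ⊓ MulAction.stabilizer M24 o') *
      {x : Finset GolayPt | x ∈ octads ∧ (o ∩ x).card = (o ∩ o').card}.ncard = 322560 := by
  have h := card_inf_stabilizer_mul (MulAction.stabilizer M24 o) o'
  rw [orbit_stab_octad o o' ho ho', card_stab_octad o ho] at h
  exact h

end Cfsg.Agent.Lib.helper4
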