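import Mathlib
import Cfsg.Prelude.Def_Sporadic_a
import Cfsg.Agent.Lib.helper4.OctadPairs

set_option autoImplicit false

namespace Cfsg.Agent.Lib.helper4

open Cfsg
open scoped Pointwise
open Cfsg.Agent.Lib.Helper12.Golay

/-! ### Pairs of octads are images of the standard pairs; the octad graph -/

/-- A pair of octads is the image of the standard octad and the representative of its class. -/
theorem octad_pair_rep (o o' : Finset GolayPt) (ho : o ∈ octads) (ho' : o' ∈ octads) :
    ∃ g ∈ M24, g • fs o₀ = o ∧ g • fs (repOf pairReps (o ∩ o').card) = o' := by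
  obtain ⟨k, hk, rfl⟩ := octads_transitive o ho
  have ho'' : k⁻¹ • o' ∈ octads := smul_mem_octads (M24.inv_mem hk) ho'
  obtain ⟨g, hg, hg2⟩ := classes_rep stabO stabO_le stabOGens stabOGens_ok 8 (fun _ => true)
    (fun m => popcF (Nat.land o₀ m)) pairReps pairReps_ok pairCases_ok (k⁻¹ • o') ho'' rfl
  have h2 : (k • fs o₀ ∩ o').card = (fs o₀ ∩ k⁻¹ • o').card := by
    rw [← card_smul_inter k (fs o₀) (k⁻¹ • o'), smul_inv_smul]
  rw [h2, card_fs_inter (by decide)]
  refine ⟨k * g, M24.mul_mem hk (stabO_le hg), ?_, ?_⟩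
  · rw [mul_smul]
    have : g • fs o₀ = fs o₀ := hg.2
    rw [this]
  · rw [mul_smul, hg2, smul_inv_smul]

theorem disjoint_smul_finset_iff {α β : Type*} [Group α] [MulAction α β] [DecidableEq β] (a : α)
    (s t : Finset β) : Disjoint (a • s) (a • t) ↔ Disjoint s t := by
  rw [Finset.disjoint_iff_inter_eq_empty, Finset.disjoint_iff_inter_eq_empty,
    ← Finset.smul_finset_inter, Finset.smul_finset_eq_empty]

theorem repOf_four : repOf pairReps 4 = 10558 := by decide
theorem repOf_two : repOf pairReps 2 = 31554 := by decide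

theorem disjoint_fs {a b : ℕ} (h : Nat.land a b = 0) : Disjoint (fs a) (fs b) := by
  rw [Finset.disjoint_iff_inter_eq_empty, ← fs_and]
  have : a &&& b = 0 := h
  rw [this, fs_zero]

theorem fs_mem_octads_of {m : ℕ} (hm : m < 2 ^ 24) (hc : isCodeF m = true) (hp : popcF m = 8) :
    fs m ∈ octads := by
  rw [fs_mem_octads_iff hm]
  rw [isCodeF_eq] at hc
  rw [popcF_eq hm] at hp
  exact ⟨hc, hp⟩

/-- Two octads meeting in four points are both disjoint from some octad. -/
theorem exists_disjoint_of_four (o o' : Finset GolayPt) (ho : o ∈ octads) (ho' : o' ∈ octads)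
    (h : (o ∩ o').card = 4) : ∃ x ∈ octads, Disjoint o x ∧ Disjoint x o' := by
  obtain ⟨g, hg, hgo, hgo'⟩ := octad_pair_rep o o' ho ho'
  rw [h, repOf_four] at hgo'
  subst hgo hgo'
  refine ⟨g • fs 15515712, smul_mem_octads hg (fs_mem_octads_of (by decide) (by decide +kernel)
    (by decide +kernel)), ?_, ?_⟩
  · rw [disjoint_smul_finset_iff]
    exact disjoint_fs (by decide)
  · rw [disjoint_smul_finset_iff]
    exact disjoint_fs (by decide)

/-- Two octads meeting in two points are joined by a chain of two further octads. -/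
theorem exists_chain_of_two (o o' : Finset GolayPt) (ho : o ∈ octads) (ho' : o' ∈ octads)
    (h : (o ∩ o').card = 2) :
    ∃ x ∈ octads, ∃ y ∈ octads, Disjoint o x ∧ Disjoint x y ∧ Disjoint y o' := by
  obtain ⟨g, hg, hgo, hgo'⟩ := octad_pair_rep o o' ho ho'
  rw [h, repOf_two] at hgo'
  subst hgo hgo'
  refine ⟨g • fs 13721920, smul_mem_octads hg (fs_mem_octads_of (by decide) (by decide +kernel)
    (by decide +kernel)), g • fs 2916505, smul_mem_octads hg (fs_mem_octads_of (by decide)
    (by decide +kernel) (by decide +kernel)), ?_, ?_, ?_⟩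
  · rw [disjoint_smul_finset_iff]
    exact disjoint_fs (by decide)
  · rw [disjoint_smul_finset_iff]
    exact disjoint_fs (by decide)
  · rw [disjoint_smul_finset_iff]
    exact disjoint_fs (by decide)

theorem no_common_disjoint_check : allK 4096 (fun u => !(Nat.beq (popcF (encF u)) 8 &&
    (Nat.beq (Nat.land o₀ (encF u)) 0 && Nat.beq (Nat.land 31554 (encF u)) 0))) = true := by
  decide +kernel

theorem land_eq_zero_of_disjoint {a : ℕ} (ha : a < 2 ^ 24) (S : Finset GolayPt)
    (h : Disjoint (fs a) S) : Nat.land a (mask S) = 0 := by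
  have h1 : fs a ∩ S = ∅ := Finset.disjoint_iff_inter_eq_empty.mp h
  have h2 : mask (fs a ∩ S) = mask (∅ : Finset GolayPt) := by rw [h1]
  rw [mask_inter, mask_fs ha] at h2
  have h3 : mask (∅ : Finset GolayPt) = 0 := by
    have := mask_fs (m := 0) (by decide)
    rwa [fs_zero] at this
  rw [h3] at h2
  exact h2

/-- No octad is disjoint from two octads meeting in two points. -/
theorem no_common_disjoint_of_two (o o' x : Finset GolayPt) (ho : o ∈ octads) (ho' : o' ∈ octads)
    (hx : x ∈ octads) (h : (o ∩ o').card = 2) (h1 : Disjoint o x) (h2 : Disjoint x o') : False := by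
  obtain ⟨g, hg, hgo, hgo'⟩ := octad_pair_rep o o' ho ho'
  rw [h, repOf_two] at hgo'
  subst hgo hgo'
  have hx' : g⁻¹ • x ∈ octads := smul_mem_octads (M24.inv_mem hg) hx
  have d1 : Disjoint (fs o₀) (g⁻¹ • x) := by
    rw [← disjoint_smul_finset_iff g, smul_inv_smul]; exact h1
  have d2 : Disjoint (fs 31554) (g⁻¹ • x) := by
    rw [← disjoint_smul_finset_iff g, smul_inv_smul]; exact h2.symm
  have hS' := (mem_wordsOfWeight_iff (g⁻¹ • x) 8).mp hx'
  obtain ⟨u, hu, hue⟩ := isCode_iff.mp hS'.1
  have h3 := allK_spec no_common_disjoint_check u hu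
  rw [encF_eq hu, hue, popcF_eq (mask_lt _), hS'.2, land_eq_zero_of_disjoint (by decide) _ d1,
    land_eq_zero_of_disjoint (by decide) _ d2] at h3
  simp [Nat.beq_refl] at h3

end Cfsg.Agent.Lib.helper4
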