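import Mathlib
import Cfsg.Prelude.Def_Sporadic_a
import Cfsg.Prelude.Def_SporadicCombinatorics
import Cfsg.Agent.Lib.helper4.CodedOrbitsB
import Cfsg.Agent.Lib.Helper12.Golay.DStab

set_option autoImplicit false

namespace Cfsg.Agent.Lib.helper4

open Cfsg MulAction
open scoped Pointwise
open Cfsg.Agent.Lib.Helper12.Golay

/-! ### The stabiliser of a 3-set: orbit data on sextets -/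

/-- Inverse tables of elements of the stabiliser of the standard 3-set. -/
def stab3Gens : List (List ℕ) := [[1,0,2,8,12,20,5,18,15,22,23,21,11,7,6,16,3,14,17,19,13,9,10,4],[2,1,0,4,9,6,13,19,17,22,18,23,5,12,8,15,21,20,3,11,7,10,16,14]]

def t16SextRep : Fin 3 → ℕ
  | ⟨0, _⟩ => 417
  | ⟨1, _⟩ => 30
  | ⟨2, _⟩ => 15

def t16SextTet : Fin 3 → ℕ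
  | ⟨0, _⟩ => 2632
  | ⟨1, _⟩ => 3336
  | ⟨2, _⟩ => 1668

def t16SextIns : Fin 3 → List ℕ
  | ⟨0, _⟩ => [1,1,1,1,1,1,1,0,0,2,1,1,1,2,1,1,1,1,1,1,1,0,0,0,0,0,0,0,0,0,0,0,0,0,0,2]
  | ⟨1, _⟩ => [1,1,1,2,1,1,1,1,1,1,1,2,1,1,1,1,1,1,1,2,1,1,1,1,1,1,1,2,1,1,1,1,1,1,1,2,1,1,1,1,1,1,1,2,1,1,1,1,1,1,1,2,1,1,1,2,1,1,1,1,1,1,1,2,1,1,1,1,1,1,1,2,1,1,1,1,1,1,1,2,1,1,1,1,1,1,1,2,1,1,1,1,1,1,1,2,1,1,1,1,1,1,1,0,2,1,1,1,1,1,1,1,2,1,1,1,1,1,1,1,2,1,1,1,1,1,1,1,2,1,1,1,2,1,1,1,1,1,1,1,2,1,1,1,1,1,1,1,2,1,1,1,1,1,1,1,2,1,1,1,2,1,1,1,1,1,1,1,0,2,1,1,1,1,1,1,1,2,1,2,1,1,1,1,1,1,1,2,1,1,1,1,1,1,1,2,1,1,1,1,1,1,1,2,1,1,1,1,1,1,1,2,1,1,1,1,1,1,1,2,1,1,1,1,1,1,1,0,0,0,0,0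,2,1,1,1,1,1,1,1,0,2,1,1,1,1,1,1,1,0,0,0,2,1,1,1,1,1,1,1,2,1,1,1,1,1,1,1,0,2,1,1,1,1,1,1,1,2,1,1,1,1,1,1,1,0,2,1,1,1,1,1,1,1,2,1,1,1,1,1,1,1,0,2,1,1,1,1,1,1,1,0,0,2,1,1,1,1,1,1,1,2,1,1,1,1,1,1,1,0,0,2,1,1,1,1,1,1,1,2,1,1,1,0,0,0,0,0,0,0,2,1,1,1,1,1,1,1,0,2,1,1,1,1,1,1,1,0,2,1,1,1,1,1,1,1,2,1,1,1,1,1,1,1,0,2,1,1,1,1,1,1,1,0,0,2,1,1,1,1,1,1,1,0,2,1,1,1,1,1,1,1,0,0,0,0,2,1,1,1,1,1,1,1,0,2,1,1,1,1,1,1,1,2,1,1,1,1,1,1,1,2,1,1,1,1,1,1,1,0,0,2,1,1,1,1,1,1,1,2,1,1,1,2,1,1,1,1,1,1,1,0,2,1,1,1,1,1,1,1,2,1,1,1,1,1,1,1,0,0,0,2,1,0,2,1,1,1,1,1,1,1,2,1,1,1,1,1,1,1,0,0,2,1,1,1,1,1,1,1,2,1,1,1,1,1,1,1,0,0,0,2,1,1,1,1,1,1,1,2,1,1,1,1,1,1,1,0,0,0,0,0,2,1,1,1,1,1,1,1,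2,1,1,1,0,0,0,0,0,0,2,1,1,1,1,1,1,1,0,0,0,0,0,0,0,0,0,2,1,1,1,1,1,1,1,0,2,1,1,1,1,1,1,1,0,0,0,0,0,2,1,1,1,1,1,1,1,0,0,0,0,0,0,0,0,0,0,0,0,0,0,0,0,2,1,2,1,1,1,1,1,1,1,0,0,2,1,1,1,1,1,1,1,0,0,2,1,1,1,0,2,1,1,1,1,1,1,1,0,0,0,0,0,0,0,0,0,0,0,0,0,2,1,1,1,1,1,1,1,0,0,0,0,0,0,0,0,0,0,0,0,0,0,0,0,0,0,0,0,0,0,0,0,0,0,0,0,0,0,0,0,0,0,0,0,0,0,0,0,2,1,1,1,1,1,1,1,0,0,0,0,0,0,0,0,0,0,0,0,0,0,0,0,0,0,0,0,2,1,1,1,0,0,0,0,0,2,1,1,1,0,0,0,0,0,0,0,0,0,0,0,0,0,0,0,0,0,0,0,2,1,1,1,1,1,1,1,0,0,0,0,0,0,0,0,0,0,2,1,1,1,1,1,1,1,0,0,0,0,0,0,0,0,0,0,0,0,0,0,0,0,0,0,0,0,2,1,1,1,1,1,1,1,0,2,1,1,1,0,0,0,0,0,0,0,0,0,0,0,0,0,0,0,0,0,0,0,0,0,0,0,0,0,0,0,0,0,0,0,0,0,0,0,0,0,0,0,0,0,0,0,0,0,0,0,0,0,0,0,0,0,0,0,0,0,0,0,0,0,0,0,0,0,0,0,0,0,0,0,0,0,0,0,0,0,0,0,0,0,0,0,0,0,0,0,0,0,0,0,0,0,0,0,0,0,0,0,0,0,0,0,0,0,0,0,0,0,0,0,0,2,1,1,1]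
  | ⟨2, _⟩ => [1,1,1,1,1,1,1,2,1,1,1,1,1,1,1,2,1,1,1,1,1,1,1,2,1,1,1,1,1,1,1,2,1,1,1,1,1,1,1,2,1,1,1,1,1,1,1,2,1,1,1,1,1,1,1,2,1,1,1,1,1,1,1,2,1,1,1,1,1,1,1,2,1,1,1,1,1,1,1,2,1,1,1,1,1,1,1,2,1,1,1,1,1,1,1,2,1,1,1,1,1,1,1,2,1,1,1,1,1,1,1,0,2,1,1,1,1,1,1,1,2,1,1,1,1,1,1,1,0,2,1,1,1,1,1,1,1,2,1,1,1,1,1,1,1,2,1,1,1,1,1,1,1,2,1,1,1,1,1,1,1,2,1,1,1,1,1,1,1,2,1,1,1,1,1,1,1,2,1,1,1,1,1,1,1,2,1,1,1,1,1,1,1,2,1,1,1,1,1,1,1,0,2,1,1,1,1,1,1,1,0,0,2,1,1,1,1,1,1,1,2,1,1,1,1,1,1,1,2,1,1,1,1,1,1,1,2,1,1,1,1,1,1,1,2,1,1,1,1,1,1,1,2,1,1,1,1,1,1,1,2,1,1,1,1,1,1,1,2,1,1,1,1,1,1,1,2,1,1,1,1,1,1,1,2,1,1,1,1,1,1,1,0,2,1,1,1,1,1,1,1,2,1,1,1,1,1,1,1,2,1,1,1,1,1,1,1,2,1,1,1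,1,1,1,1,0,2,1,1,1,1,1,1,1,0,0,0,2,1,1,1,1,1,1,1,2,1,1,1,1,1,1,1,2,1,1,1,1,1,1,1,2,1,1,1,1,1,1,1,2,1,1,1,1,1,1,1,0,2,1,1,1,1,1,1,1,0,2,1,1,1,1,1,1,1,0,2,1,1,1,1,1,1,1,0,2,1,1,1,1,1,1,1,2,1,1,1,1,1,1,1,2,1,1,1,1,1,1,1,0,2,1,1,1,1,1,1,1,2,1,1,1,1,1,1,1,0,2,1,1,1,1,1,1,1,2,1,1,1,1,1,1,1,0,2,1,1,1,1,1,1,1,2,1,1,1,1,1,1,1,0,0,0,2,1,1,1,1,1,1,1,0,0,0,2,1,1,1,1,1,1,1,2,1,1,1,1,1,1,1,2,1,1,1,1,1,1,1,2,1,1,1,1,1,1,1,2,1,1,1,1,1,1,1,0,2,1,1,1,1,1,1,1,2,1,1,1,1,1,1,1,2,1,1,1,1,1,1,1,0,2,1,1,1,1,1,1,1,0,0,0,0,2,1,1,1,1,1,1,1,2,1,1,1,1,1,1,1,0,2,1,1,1,1,1,1,1,2,1,1,1,1,1,1,1,0,0,2,1,1,1,1,1,1,1,0,0,2,1,1,1,2,1,1,1,1,1,1,1,0,2,1,1,1,1,1,1,1,0,2,1,1,1,1,1,1,1,2,1,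1,1,1,1,1,1,0,0,2,1,1,1,1,1,1,1,0,2,1,1,1,1,1,1,1,2,1,1,1,1,1,1,1,2,1,1,1,1,1,1,1,2,1,1,1,1,1,1,1,2,1,1,1,1,1,1,1,2,1,1,1,1,1,1,1,2,1,1,1,1,1,1,1,2,1,1,1,1,1,1,1,0,0,0,0,2,1,1,1,1,1,1,1,2,1,1,1,1,1,1,1,0,2,1,1,1,1,1,1,1,2,1,1,1,1,1,1,1,0,0,0,2,1,1,1,1,1,1,1,2,1,1,1,1,1,1,1,0,2,1,1,1,1,1,1,1,0,0,2,1,1,1,1,1,1,1,0,0,0,2,1,1,1,1,1,1,1,0,0,0,2,1,1,1,1,1,1,1,0,2,1,1,1,1,1,1,1,2,1,1,1,1,1,1,1,2,1,1,1,1,1,1,1,0,0,2,1,1,1,1,1,1,1,0,0,2,1,1,1,1,1,1,1,0,0,0,2,1,1,1,1,1,1,1,0,0,0,0,2,1,1,1,1,1,1,1,2,1,1,1,1,1,1,1,0,2,1,1,1,1,1,1,1,2,1,1,1,1,1,1,1,2,1,1,1,1,1,1,1,0,0,2,1,1,1,1,1,1,1,0,0,0,0,0,0,2,1,1,1,1,1,1,1,0,0,0,0,0,2,1,1,1,1,1,1,1,0,0,2,1,1,1,1,1,1,1,0,0,0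,0,0,0,2,1,1,1,1,1,1,1,2,1,1,1,1,1,1,1,0,2,1,1,1,1,1,1,1,0,0,0,0,0,2,1,1,1,1,1,1,1,2,1,1,1,1,1,1,1,2,1,1,1,1,1,1,1,0,0,0,0,2,1,1,1,1,1,1,1,0,0,0,0,0,2,1,1,1,1,1,1,1,0,2,1,1,1,1,1,1,1,2,1,1,1,1,1,1,1,0,2,1,1,1,1,1,1,1,0,0,0,0,0,2,1,1,1,1,1,1,1,2,1,1,1,1,1,1,1,2,1,1,1,1,1,1,1,0,2,1,1,1,1,1,1,1,0,0,0,0,0,0,0,0,0,0,0,0,0,0,0,0,2,1,1,1,1,1,1,1,0,2,1,1,1,1,1,1,1,0,2,1,1,1,1,1,1,1,0,0,2,1,1,1,0,0,0,0,0,0,0,0,0,0,0,0,0,2,1,1,1,0,0,0,0,0,0,2,1,1,1,1,1,1,1,0,0,0,0,0,0,0,0,0,0,0,0,0,0,2,1,1,1,1,1,1,1,0,0,0,0,0,0,0,0,0,0,0,0,0,0,0,2,1,1,1,1,1,1,1,0,0,0,0,0,0,0,0,0,0,0,0,0,0,0,0,0,0,0,0,0,0,0,0,0,0,0,0,0,0,0,0,0,0,0,0,0,0,2,1,1,1,1,1,1,1,0,0,0,0,2,1,1,1,0,0,0,0,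0,0,0,0,0,0,0,0,0,0,0,0,0,0,0,0,0,0,0,0,0,0,0,0,0,0,0,2,1,1,1,1,1,1,1,0,0,0,0,2,1,1,1,0,0,0,0,0,0,0,0,0,0,2,1,1,1,1,1,1,1,0,0,0,0,0,0,0,0,0,0,0,0,0,0,2,1,1,1,0,0,2,1,1,1,1,1,1,1,0,0,0,0,0,0,0,0,0,0,0,0,0,0,0,0,0,0,0,0,0,0,0,0,0,0,0,0,0,0,0,0,0,0,0,0,0,0,0,0,0,0,0,0,0,0,0,0,0,0,0,0,0,0,0,0,0,0,0,0,0,0,0,2,1,1,1,0,0,0,0,0,0,0,0,0,0,0,0,0,0,0,0,0,0,0,0,0,0,0,0,0,0,0,0,0,0,0,0,0,0,0,0,0,0,0,0,0,0,2,1,1,1]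

def t16SextN : Fin 3 → ℕ
  | ⟨0, _⟩ => 21
  | ⟨1, _⟩ => 630
  | ⟨2, _⟩ => 1120

set_option maxRecDepth 1000000 in
theorem t16Sext_checks : (∀ i, Nat.beq (popcF (t16SextTet i)) 4 = true ∧
      Nat.ble (Nat.succ (t16SextTet i)) 16777216 = true ∧
      Nat.beq (syn (t16SextTet i)) (t16SextRep i) = true) ∧
    nodupBy id (List.flatten (List.ofFn fun i =>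
      orbGen actS stab3Gens (t16SextIns i) (t16SextRep i))) 0 = true ∧
    ∀ i, (orbGen actS stab3Gens (t16SextIns i) (t16SextRep i)).length = t16SextN i := by
  decide +kernel

def t16Tets : Fin 3 → List ℕ
  | ⟨0, _⟩ => [2632,311424,1708032,2098464,4194311,8462352]
  | ⟨1, _⟩ => [3336,122880,1179653,2097760,4722690,8650896]
  | ⟨2, _⟩ => [1668,61440,1048880,2361345,4784130,8519752]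

end Cfsg.Agent.Lib.helper4
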