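import Mathlib
import Cfsg.Prelude.Def_Sporadic_a
import Cfsg.Prelude.Def_SporadicCombinatorics
import Cfsg.Agent.Lib.helper4.TripleOrbits
import Cfsg.Agent.Lib.helper4.OctadGraph
import Cfsg.Agent.Lib.Helper12.Golay.Trans

set_option autoImplicit false

namespace Cfsg.Agent.Lib.helper4

open Cfsg MulAction
open scoped Pointwise
open Cfsg.Agent.Lib.Helper12.Golay

/-- The standard 3-set. -/
def Y₀ : Finset GolayPt := fs 7

theorem Y₀_eq : Y₀ = {pt 0, pt 1, pt 2} := by decide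

/-- The number of tetrads of a family meeting a set. -/
def meetCount (Y : Finset GolayPt) (S : Finset (Finset GolayPt)) : ℕ :=
  (S.filter fun t => (t ∩ Y).Nonempty).card

theorem meetCount_smul (g : Equiv.Perm GolayPt) (Y : Finset GolayPt)
    (S : Finset (Finset GolayPt)) : meetCount (g • Y) (g • S) = meetCount Y S := by
  unfold meetCount
  have h1 : g • S = S.image (fun t => g • t) := rfl
  rw [h1, Finset.filter_image, Finset.card_image_of_injective _ (MulAction.injective g)]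
  congr 1
  apply Finset.filter_congr
  intro t _
  show (g • t ∩ g • Y).Nonempty ↔ (t ∩ Y).Nonempty
  rw [← Finset.smul_finset_inter, Finset.smul_finset_nonempty]

theorem nonempty_inter_fs_iff {a b : ℕ} (ha : a < 2 ^ 24) (hb : b < 2 ^ 24) :
    (fs a ∩ fs b).Nonempty ↔ Nat.land a b ≠ 0 := by
  constructor
  · intro h h0
    have := disjoint_fs h0
    rw [Finset.disjoint_iff_inter_eq_empty] at this
    rw [this] at h
    exact Finset.not_nonempty_empty h
  · intro h
    by_contra hne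
    rw [Finset.not_nonempty_iff_eq_empty, ← Finset.disjoint_iff_inter_eq_empty] at hne
    have := land_eq_zero_of_disjoint ha _ hne
    rw [mask_fs hb] at this
    exact h this

/-- The sextet of a syndrome, from an explicit list of its six tetrads. -/
theorem sextetOfSyn_eq_list {s : ℕ} (hs : IsSext s) (L : List ℕ) (hlen : L.length = 6)
    (hnd : L.Nodup) (h : ∀ m ∈ L, m < 2 ^ 24 ∧ popcF m = 4 ∧ syn m = s) :
    sextetOfSyn s = (L.map fs).toFinset := by
  symm
  apply Finset.eq_of_subset_of_card_le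
  · intro t ht
    rw [List.mem_toFinset, List.mem_map] at ht
    obtain ⟨m, hm, rfl⟩ := ht
    obtain ⟨h1, h2, h3⟩ := h m hm
    have hc : (fs m).card = 4 := by rw [card_fs, ← popcF_eq h1, h2]
    have := mem_sextetOfSyn hc
    rwa [mask_fs h1, h3] at this
  · rw [(sextetOfSyn_mem hs).1, List.toFinset_card_of_nodup, List.length_map, hlen]
    refine (List.nodup_map_iff_inj_on hnd).mpr ?_
    intro a ha b hb hab
    exact fs_inj (h a ha).1 (h b hb).1 hab

theorem meetCount_list (L : List ℕ) (hnd : L.Nodup) (hlt : ∀ m ∈ L, m < 2 ^ 24) {y : ℕ}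
    (hy : y < 2 ^ 24) :
    meetCount (fs y) (L.map fs).toFinset = (L.filter fun m => !Nat.beq (Nat.land m y) 0).length := by
  classical
  unfold meetCount
  have h1 : (L.map fs).toFinset.filter (fun t => (t ∩ fs y).Nonempty) =
      ((L.filter fun m => !Nat.beq (Nat.land m y) 0).map fs).toFinset := by
    ext t
    simp only [Finset.mem_filter, List.mem_toFinset, List.mem_map, List.mem_filter]
    constructor
    · rintro ⟨⟨m, hm, rfl⟩, hne⟩
      refine ⟨m, ⟨hm, ?_⟩, rfl⟩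
      have := (nonempty_inter_fs_iff (hlt m hm) hy).mp hne
      simp only [Bool.not_eq_true', ← Bool.not_eq_true, natBeq_iff]
      exact this
    · rintro ⟨m, ⟨hm, hne⟩, rfl⟩
      refine ⟨⟨m, hm, rfl⟩, (nonempty_inter_fs_iff (hlt m hm) hy).mpr ?_⟩
      simp only [Bool.not_eq_true', ← Bool.not_eq_true, natBeq_iff] at hne
      exact hne
  rw [h1, List.toFinset_card_of_nodup, List.length_map]
  refine (List.nodup_map_iff_inj_on (hnd.filter _)).mpr ?_
  intro a ha b hb hab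
  exact fs_inj (hlt a (List.mem_filter.mp ha).1) (hlt b (List.mem_filter.mp hb).1) hab

set_option maxRecDepth 100000 in
theorem t16Tets_checks : ∀ i : Fin 3, (t16Tets i).length = 6 ∧ (t16Tets i).Nodup ∧
    (∀ m ∈ t16Tets i, m < 2 ^ 24 ∧ popcF m = 4 ∧ syn m = t16SextRep i) ∧
    ((t16Tets i).filter fun m => !Nat.beq (Nat.land m 7) 0).length = i.val + 1 := by
  decide +kernel

theorem stab3Gens_mem : ∀ T ∈ stab3Gens, ValidT T ∧
    ∃ h : permT T ∈ M24, (⟨permT T, h⟩ : M24) ∈ stabilizer M24 Y₀ := by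
  have h : ∀ T ∈ stab3Gens, okK T = true ∧ Nat.beq (actK T 7) 7 = true := by
    decide +kernel
  intro T hT
  obtain ⟨h1, h2⟩ := h T hT
  have hv := okK_valid h1
  have hM := permT_mem_M24' h1
  refine ⟨hv, hM, ?_⟩
  rw [mem_stabilizer_iff]
  show permT T • Y₀ = Y₀
  rw [Y₀, permT_smul_fs hv (by decide), ← actK_eq, natBeq_iff.mp h2]

theorem three_homog (Y : Finset GolayPt) (hY : Y.card = 3) : ∃ k : M24, k • Y₀ = Y := by
  obtain ⟨a, b, c, hab, hac, hbc, rfl⟩ := Finset.card_eq_three.mp hY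
  obtain ⟨g, h1, h2, h3⟩ := three_trans (pt 0) (pt 1) (pt 2) a b c (by decide) (by decide)
    (by decide) hab hac hbc
  exact ⟨g, by rw [Y₀_eq]; exact triple_smul g _ _ _ _ _ _ h1 h2 h3⟩

theorem card_stab_Y₀ : Nat.card ↥(stabilizer M24 Y₀) = 120960 := by
  have h0 := Cfsg.Agent.Lib.Helper12.ncard_orbit_top (G := M24) Y₀
  have h := (stabilizer M24 Y₀).index_mul_card
  rw [← h0] at h
  have horb : orbit M24 Y₀ = ↑(Finset.powersetCard 3 (Finset.univ : Finset GolayPt)) := by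
    ext Y
    rw [Finset.mem_coe, Finset.mem_powersetCard]
    constructor
    · rintro ⟨g, rfl⟩
      refine ⟨Finset.subset_univ _, ?_⟩
      show ((g : Equiv.Perm GolayPt) • Y₀).card = 3
      rw [Finset.card_smul_finset]
      decide
    · rintro ⟨_, hY⟩
      obtain ⟨k, hk⟩ := three_homog Y hY
      exact ⟨k, hk⟩
  rw [horb, Set.ncard_coe_finset, Finset.card_powersetCard,
    Cfsg.Agent.Lib.helper3.card_M24] at h
  have hu : (Finset.univ : Finset GolayPt).card = 24 := by decide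
  rw [hu] at h
  have h3 : Nat.choose 24 3 * 120960 = 244823040 := by decide
  exact Nat.eq_of_mul_eq_mul_left (by decide : 0 < Nat.choose 24 3) (h.trans h3.symm)

theorem t16_arith : ∀ (I : Finset (Fin 3)) (i : Fin 3), i ∈ I →
    (∑ j ∈ I, t16SextN j) ∣ 120960 → I = {i} := by decide

/-- The orbits of the stabiliser of the standard 3-set on sextets, with the number of tetrads
meeting the 3-set. -/
theorem triple_orbits_std :
    (∀ i : Fin 3, (orbit ↥(stabilizer M24 Y₀) (sextetOfSyn (t16SextRep i))).ncard = t16SextN i) ∧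
    (∀ y, y ∈ sextets ↔ ∃ i : Fin 3, y ∈ orbit ↥(stabilizer M24 Y₀) (sextetOfSyn (t16SextRep i))) ∧
    ∀ (i : Fin 3) (y), y ∈ orbit ↥(stabilizer M24 Y₀) (sextetOfSyn (t16SextRep i)) →
      meetCount Y₀ y = i.val + 1 := by
  obtain ⟨h1, h2, h3⟩ := t16Sext_checks
  have hs : ∀ i, IsSext (t16SextRep i) := fun i => isSext_of_checks (h1 i)
  obtain ⟨hc, hF⟩ := sextet_orbits (stabilizer M24 Y₀) stab3Gens stab3Gens_mem t16SextIns
    t16SextN (by rw [card_stab_Y₀]; exact t16_arith) t16SextRep hs h2 h3 (by decide)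
  refine ⟨hc, hF, ?_⟩
  rintro i y ⟨⟨g, hg⟩, rfl⟩
  rw [mem_stabilizer_iff] at hg
  have hg' : (g : Equiv.Perm GolayPt) • Y₀ = Y₀ := hg
  show meetCount Y₀ ((g : Equiv.Perm GolayPt) • sextetOfSyn (t16SextRep i)) = _
  conv_lhs => rw [← hg']
  rw [meetCount_smul]
  obtain ⟨c1, c2, c3, c4⟩ := t16Tets_checks i
  rw [sextetOfSyn_eq_list (hs i) (t16Tets i) c1 c2 c3, Y₀,
    meetCount_list _ c2 (fun m hm => (c3 m hm).1) (by decide), c4]

theorem triple_std_set (i : Fin 3) :
    {S : Finset (Finset GolayPt) | S ∈ sextets ∧ meetCount Y₀ S = i.val + 1} =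
      orbit ↥(stabilizer M24 Y₀) (sextetOfSyn (t16SextRep i)) := by
  obtain ⟨_, hF, hm⟩ := triple_orbits_std
  ext S
  constructor
  · rintro ⟨hS, hc⟩
    obtain ⟨j, hj⟩ := (hF S).mp hS
    have := hm j S hj
    rw [hc] at this
    have hij : i = j := Fin.ext (by omega)
    rw [hij]
    exact hj
  · intro hS
    exact ⟨(hF S).mpr ⟨i, hS⟩, hm i S hS⟩

theorem triple_count (Y : Finset GolayPt) (k : M24) (hk : k • Y₀ = Y) (i : Fin 3) :
    {S : Finset (Finset GolayPt) | S ∈ sextets ∧ meetCount Y S = i.val + 1}.ncard =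
      t16SextN i := by
  have hk' : (k : Equiv.Perm GolayPt) • Y₀ = Y := hk
  have h1 : {S : Finset (Finset GolayPt) | S ∈ sextets ∧ meetCount Y S = i.val + 1} =
      (fun S => (k : Equiv.Perm GolayPt) • S) ''
        {S : Finset (Finset GolayPt) | S ∈ sextets ∧ meetCount Y₀ S = i.val + 1} := by
    ext S
    constructor
    · rintro ⟨hS, hc⟩
      refine ⟨(k : Equiv.Perm GolayPt)⁻¹ • S, ⟨smul_sextets (M24.inv_mem k.2) hS, ?_⟩,
        smul_inv_smul _ _⟩
      rw [← hc, ← hk', ← meetCount_smul (k : Equiv.Perm GolayPt) Y₀, smul_inv_smul]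
    · rintro ⟨S', ⟨hS, hc⟩, rfl⟩
      refine ⟨smul_sextets k.2 hS, ?_⟩
      show meetCount Y ((k : Equiv.Perm GolayPt) • S') = _
      rw [← hk', meetCount_smul, hc]
  rw [h1, Set.ncard_image_of_injective _ (MulAction.injective _), triple_std_set i]
  exact triple_orbits_std.1 i

theorem triple_main (Y : Finset GolayPt) (hY : Y.card = 3) :
    {S : Finset (Finset GolayPt) | S ∈ sextets ∧ meetCount Y S = 1}.ncard = 21 ∧
    {S : Finset (Finset GolayPt) | S ∈ sextets ∧ meetCount Y S = 2}.ncard = 630 ∧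
    {S : Finset (Finset GolayPt) | S ∈ sextets ∧ meetCount Y S = 3}.ncard = 1120 ∧
    ∀ S S' : Finset (Finset GolayPt), S ∈ sextets → S' ∈ sextets →
      meetCount Y S = meetCount Y S' → ∃ g ∈ M24, g • Y = Y ∧ g • S = S' := by
  obtain ⟨k, hk⟩ := three_homog Y hY
  have hk' : (k : Equiv.Perm GolayPt) • Y₀ = Y := hk
  refine ⟨triple_count Y k hk 0, triple_count Y k hk 1, triple_count Y k hk 2, ?_⟩
  intro S S' hS hS' hc
  obtain ⟨_, hF, hm⟩ := triple_orbits_std
  have hS1 := smul_sextets (M24.inv_mem k.2) hS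
  have hS1' := smul_sextets (M24.inv_mem k.2) hS'
  obtain ⟨i, hi⟩ := (hF _).mp hS1
  obtain ⟨j, hj⟩ := (hF _).mp hS1'
  have e1 : meetCount Y₀ ((k : Equiv.Perm GolayPt)⁻¹ • S) = meetCount Y S := by
    rw [← hk', ← meetCount_smul (k : Equiv.Perm GolayPt) Y₀, smul_inv_smul]
  have e2 : meetCount Y₀ ((k : Equiv.Perm GolayPt)⁻¹ • S') = meetCount Y S' := by
    rw [← hk', ← meetCount_smul (k : Equiv.Perm GolayPt) Y₀, smul_inv_smul]
  have hij : i = j := by
    have a1 := hm i _ hi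
    have a2 := hm j _ hj
    rw [e1] at a1
    rw [e2] at a2
    exact Fin.ext (by omega)
  subst hij
  obtain ⟨⟨g1, hg1⟩, e3⟩ := hi
  obtain ⟨⟨g2, hg2⟩, e4⟩ := hj
  rw [mem_stabilizer_iff] at hg1 hg2
  have hg1' : (g1 : Equiv.Perm GolayPt) • Y₀ = Y₀ := hg1
  have hg2' : (g2 : Equiv.Perm GolayPt) • Y₀ = Y₀ := hg2
  have e3' : (g1 : Equiv.Perm GolayPt) • sextetOfSyn (t16SextRep i) =
      (k : Equiv.Perm GolayPt)⁻¹ • S := e3
  have e4' : (g2 : Equiv.Perm GolayPt) • sextetOfSyn (t16SextRep i) =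
      (k : Equiv.Perm GolayPt)⁻¹ • S' := e4
  refine ⟨(k : Equiv.Perm GolayPt) * g2 * (g1 : Equiv.Perm GolayPt)⁻¹ * (k : Equiv.Perm GolayPt)⁻¹,
    M24.mul_mem (M24.mul_mem (M24.mul_mem k.2 g2.2) (M24.inv_mem g1.2)) (M24.inv_mem k.2), ?_, ?_⟩
  · rw [mul_smul, mul_smul, mul_smul, ← hk', inv_smul_smul]
    have : (g1 : Equiv.Perm GolayPt)⁻¹ • Y₀ = Y₀ := by
      rw [inv_smul_eq_iff, hg1']
    rw [this, hg2']
  · rw [mul_smul, mul_smul, mul_smul, ← e3', inv_smul_smul, e4', smul_inv_smul]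

end Cfsg.Agent.Lib.helper4
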