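import Mathlib
import Cfsg.Prelude.Def_Sporadic_a
import Cfsg.Prelude.Def_SporadicCombinatorics
import Cfsg.Agent.Lib.helper4.SextetKer
import Cfsg.Agent.Lib.helper4.TripleOrbitsB
import Cfsg.Agent.Lib.helper4.SextetStabOrbitsB

set_option autoImplicit false

namespace Cfsg.Agent.Lib.helper4

open Cfsg MulAction
open scoped Pointwise
open Cfsg.Agent.Lib.Helper12.Golay

/-! ### The subgroup fixing every tetrad of a sextet -/

theorem validT_tblOf (g : Equiv.Perm GolayPt) : ValidT (tblOf g) := by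
  refine ⟨tblOf_length g, tblOf_lt g, ?_⟩
  unfold tblOf
  refine (List.nodup_map_iff_inj_on List.nodup_range).mpr ?_
  intro a ha b hb hab
  rw [List.mem_range] at ha hb
  exact pt_injOn ha hb (g.injective (idx_injective hab))

theorem eq_fperm_tblOf (g : Equiv.Perm GolayPt) : g = fperm (tblOf g) :=
  eq_fperm_of_tblOf (validT_tblOf g) rfl

theorem permT_tblOf (g : Equiv.Perm GolayPt) : permT (tblOf g) = g⁻¹ := by
  have := eq_fperm_tblOf g
  unfold fperm at this
  rw [this, inv_inv]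
  rw [← this]

/-- An element fixes the set of a bitmask iff its table fixes the bitmask. -/
theorem fixes_iff_actK (g : Equiv.Perm GolayPt) {m : ℕ} (hm : m < 2 ^ 24) :
    g • fs m = fs m ↔ actK (tblOf g) m = m := by
  have hv := validT_tblOf g
  have h1 : g • fs m = fs m ↔ g⁻¹ • fs m = fs m := by
    rw [inv_smul_eq_iff]
    exact eq_comm
  rw [h1, ← permT_tblOf, permT_smul_fs hv hm, actK_eq]
  constructor
  · intro h
    exact fs_inj (actT_lt hv.1 m) hm h
  · intro h
    rw [h]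

/-- Cardinality of a type injected into a duplicate-free list of tables. -/
theorem card_of_tables {α : Type*} (f : α → List ℕ) (hf : Function.Injective f)
    (Ls : List (List ℕ)) (hnd : Ls.Nodup) (h1 : ∀ a, f a ∈ Ls) (h2 : ∀ L ∈ Ls, ∃ a, f a = L) :
    Nat.card α = Ls.length := by
  have e : α ≃ {L // L ∈ Ls} := Equiv.ofBijective (fun a => ⟨f a, h1 a⟩) ⟨by
    intro a b hab
    exact hf (congrArg Subtype.val hab), by
    rintro ⟨L, hL⟩
    obtain ⟨a, ha⟩ := h2 L hL
    exact ⟨a, Subtype.ext ha⟩⟩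
  rw [Nat.card_congr e, Nat.subtype_card Ls.toFinset (fun x => List.mem_toFinset),
    List.toFinset_card_of_nodup hnd]

/-- The standard sextet for the base points. -/
noncomputable def S₁ : Finset (Finset GolayPt) := sextetOfSyn s₁

theorem isSext_s₁ : IsSext s₁ := by
  obtain ⟨_, _, h3, _, _, h6, _⟩ := tets1_checks
  obtain ⟨hlt, hp, hs⟩ := h3 _ h6
  refine ⟨fs 86017, ?_, ?_⟩
  · rw [card_fs, ← popcF_eq hlt, hp]
  · rw [mask_fs hlt, hs]

theorem S₁_mem : S₁ ∈ sextets := sextetOfSyn_mem isSext_s₁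

theorem S₁_eq : S₁ = (tets1.map fs).toFinset := by
  obtain ⟨h1, h2, h3, _⟩ := tets1_checks
  exact sextetOfSyn_eq_list isSext_s₁ tets1 h1 h2 h3

theorem mem_S₁ {t : Finset GolayPt} : t ∈ S₁ ↔ ∃ m ∈ tets1, fs m = t := by
  rw [S₁_eq, List.mem_toFinset, List.mem_map]

/-- The elements of the group of the code fixing every tetrad of a family. -/
def Bset (S : Finset (Finset GolayPt)) : Set (Equiv.Perm GolayPt) :=
  {g | g ∈ M24 ∧ ∀ t ∈ S, g • t = t}

theorem fixTets_iff (g : Equiv.Perm GolayPt) :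
    fixTets (tblOf g) = true ↔ ∀ t ∈ S₁, g • t = t := by
  obtain ⟨_, _, h3, _⟩ := tets1_checks
  unfold fixTets
  rw [List.all_eq_true]
  constructor
  · intro h t ht
    obtain ⟨m, hm, rfl⟩ := mem_S₁.mp ht
    exact (fixes_iff_actK g (h3 m hm).1).mpr (natBeq_iff.mp (h m hm))
  · intro h m hm
    exact natBeq_iff.mpr ((fixes_iff_actK g (h3 m hm).1).mp (h _ (mem_S₁.mpr ⟨m, hm, rfl⟩)))

theorem tblOf_mem_B192 {g : Equiv.Perm GolayPt} (hg : g ∈ Bset S₁) : tblOf g ∈ B192 := by
  obtain ⟨hgM, hfix⟩ := hg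
  obtain ⟨_, _, h3, hT1, hT2, m1, m2⟩ := tets1_checks
  have hfix1 : g • fs 86017 = fs 86017 := hfix _ (mem_S₁.mpr ⟨_, m1, rfl⟩)
  have hfix2 : g • fs 12976128 = fs 12976128 := hfix _ (mem_S₁.mpr ⟨_, m2, rfl⟩)
  set T := tblOf g with hT
  have hTget : ∀ i < 24, T.getD i 0 = idx (g (pt i)) := fun i hi => tblOf_getD g hi
  have hin1 : ∀ i < 24, (86017).testBit i = true → T.getD i 0 ∈ [0, 12, 14, 16] := by
    intro i hi hb
    apply hT1 _ (getD_lt_of_valid (tblOf_lt g) i)
    rw [hTget i hi, ← mem_fs, ← hfix1]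
    exact Finset.smul_mem_smul_finset (mem_fs.mpr (by rw [idx_pt hi]; exact hb))
  have hin2 : ∀ i < 24, (12976128).testBit i = true → T.getD i 0 ∈ [17, 18, 22, 23] := by
    intro i hi hb
    apply hT2 _ (getD_lt_of_valid (tblOf_lt g) i)
    rw [hTget i hi, ← mem_fs, ← hfix2]
    exact Finset.smul_mem_smul_finset (mem_fs.mpr (by rw [idx_pt hi]; exact hb))
  have hinj : ∀ i < 24, ∀ j < 24, T.getD i 0 = T.getD j 0 → i = j := by
    intro i hi j hj h
    rw [hTget i hi, hTget j hj] at h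
    exact pt_injOn hi hj (g.injective (idx_injective h))
  have hc := fam96_complete
  simp only [List.all_eq_true] at hc
  have h5 := hc _ (hin1 0 (by norm_num) (by decide)) _ (hin1 12 (by norm_num) (by decide)) _
    (hin1 14 (by norm_num) (by decide)) _ (hin1 16 (by norm_num) (by decide)) _
    (hin2 17 (by norm_num) (by decide))
  simp only [Bool.or_eq_true, natBeq_iff, List.any_eq_true, Bool.and_eq_true] at h5
  have hne : ∀ i < 24, ∀ j < 24, i ≠ j → T.getD i 0 ≠ T.getD j 0 :=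
    fun i hi j hj hij h => hij (hinj i hi j hj h)
  rcases h5 with (((((h | h) | h) | h) | h) | h) | h5
  · exact absurd h (hne 0 (by norm_num) 12 (by norm_num) (by norm_num))
  · exact absurd h (hne 0 (by norm_num) 14 (by norm_num) (by norm_num))
  · exact absurd h (hne 0 (by norm_num) 16 (by norm_num) (by norm_num))
  · exact absurd h (hne 12 (by norm_num) 14 (by norm_num) (by norm_num))
  · exact absurd h (hne 12 (by norm_num) 16 (by norm_num) (by norm_num))
  · exact absurd h (hne 14 (by norm_num) 16 (by norm_num) (by norm_num))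
  obtain ⟨H, hH, ⟨⟨⟨c0, c1⟩, c2⟩, c3⟩, c4⟩ := h5
  have hokH := B192_checks.2.2.1 H hH
  obtain ⟨K, hK, e⟩ := enum5 hgM hokH (by
    intro j hj
    have : g (pt (b5 j)) = pt (T.getD (b5 j) 0) := by
      rw [hTget _ (b5_lt j), pt_idx]
    rw [this]
    interval_cases j
    · show pt (T.getD 0 0) = pt (H.getD 0 0)
      rw [c0]
    · show pt (T.getD 12 0) = pt (H.getD 12 0)
      rw [c1]
    · show pt (T.getD 14 0) = pt (H.getD 14 0)
      rw [c2]
    · show pt (T.getD 16 0) = pt (H.getD 16 0)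
      rw [c3]
    · show pt (T.getD 17 0) = pt (H.getD 17 0)
      rw [c4])
  have hcomp := B192_complete
  rw [List.all_eq_true] at hcomp
  have h6 := hcomp H hH
  rw [List.all_eq_true] at h6
  have h7 := h6 K hK
  rw [forceList_eq, ← e, (fixTets_iff g).mpr hfix] at h7
  simpa using h7

theorem fperm_mem_Bset {L : List ℕ} (hL : L ∈ B192) : fperm L ∈ Bset S₁ := by
  obtain ⟨hok, hfix⟩ := B192_checks.2.2.2.1 L hL
  refine ⟨fperm_mem hok, ?_⟩
  rw [← fixTets_iff, tblOf_fperm (okK_valid hok)]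
  exact hfix

theorem card_Bset_S₁ : Nat.card ↥(Bset S₁) = 192 := by
  rw [card_of_tables (fun g : ↥(Bset S₁) => tblOf g.1)
    (fun a b h => Subtype.ext (tblOf_injective h)) B192 (nodupL_spec B192_checks.2.1)
    (fun a => tblOf_mem_B192 a.2)
    (fun L hL => ⟨⟨fperm L, fperm_mem_Bset hL⟩,
      tblOf_fperm (okK_valid (B192_checks.2.2.2.1 L hL).1)⟩)]
  exact B192_checks.1

end Cfsg.Agent.Lib.helper4
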