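import Mathlib
import Cfsg.Prelude.Def_Sporadic_a
import Cfsg.Prelude.Def_SporadicCombinatorics
import Cfsg.Agent.Lib.helper4.M9Data
import Cfsg.Agent.Lib.helper4.SextetKerB
import Cfsg.Agent.Lib.Helper1.TwoGroupUnique

set_option autoImplicit false

namespace Cfsg.Agent.Lib.helper4

open Cfsg
open scoped Pointwise
open Cfsg.Agent.Lib.Helper12.Golay

/-! ### A group whose elements are listed by the 72 tables: structure -/

section Abstract

variable {G : Type*} [Group G] (f : G → List ℕ)

theorem powT_of_hom (hmul : ∀ a b, f (a * b) = compTbl (f a) (f b)) (hone : f 1 = List.range 24)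
    (a : G) (n : ℕ) : f (a ^ n) = powT (f a) n := by
  induction n with
  | zero => rw [pow_zero, hone]; rfl
  | succ n ih => rw [pow_succ', hmul, ih, powT_succ]

theorem pow_eq_one_iff_isIdT (hf : Function.Injective f)
    (hmul : ∀ a b, f (a * b) = compTbl (f a) (f b)) (hone : f 1 = List.range 24)
    (a : G) (n : ℕ) : a ^ n = 1 ↔ isIdT (powT (f a) n) = true := by
  unfold isIdT
  rw [beq_iff_eq, ← powT_of_hom f hmul hone, ← hone]
  exact hf.eq_iff.symm

theorem eq_one_iff_isIdT (hf : Function.Injective f) (hone : f 1 = List.range 24)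
    (a : G) : a = 1 ↔ isIdT (f a) = true := by
  unfold isIdT
  rw [beq_iff_eq, ← hone]
  exact hf.eq_iff.symm

theorem card_of_M72 (hf : Function.Injective f) (h1 : ∀ a, f a ∈ M72)
    (h2 : ∀ L ∈ M72, ∃ a, f a = L) : Nat.card G = 72 := by
  rw [card_of_tables f hf M72 (nodupL_spec M72_checks.2.1) h1 h2]
  exact M72_checks.1

theorem factorization_72_three : (72 : ℕ).factorization 3 = 2 := by
  have h : (72 : ℕ) = 3 ^ 2 * 8 := by norm_num
  rw [h, Nat.factorization_mul (by norm_num) (by norm_num), Finsupp.add_apply,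
    Nat.Prime.factorization_pow (by norm_num), Finsupp.single_eq_same,
    Nat.factorization_eq_zero_of_not_dvd (by norm_num)]

theorem factorization_72_two : (72 : ℕ).factorization 2 = 3 := by
  have h : (72 : ℕ) = 2 ^ 3 * 9 := by norm_num
  rw [h, Nat.factorization_mul (by norm_num) (by norm_num), Finsupp.add_apply,
    Nat.Prime.factorization_pow (by norm_num), Finsupp.single_eq_same,
    Nat.factorization_eq_zero_of_not_dvd (by norm_num)]

/-- The Sylow 3-subgroups. -/
theorem sylow3_of_M72 (hf : Function.Injective f)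
    (hmul : ∀ a b, f (a * b) = compTbl (f a) (f b)) (hone : f 1 = List.range 24)
    (h1 : ∀ a, f a ∈ M72) (h2 : ∀ L ∈ M72, ∃ a, f a = L) (Q : Sylow 3 G) :
    (Q : Subgroup G).Normal ∧ Nat.card ↥Q = 9 ∧ ∀ x ∈ (Q : Subgroup G), x ^ 3 = 1 := by
  have hcard := card_of_M72 f hf h1 h2
  haveI : Finite G := Nat.finite_of_card_ne_zero (by rw [hcard]; norm_num)
  haveI : Fact (Nat.Prime 3) := ⟨by norm_num⟩
  have hQ9 : Nat.card ↥Q = 9 := by
    have h := Q.card_eq_multiplicity
    rw [hcard, factorization_72_three] at h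
    exact h
  obtain ⟨hp1, -, hp3, -⟩ := M72_pows
  rw [List.all_eq_true] at hp1 hp3
  have hiff := pow_eq_one_iff_isIdT f hf hmul hone
  have hx3 : ∀ x ∈ (Q : Subgroup G), x ^ 3 = 1 := by
    intro x hx
    have h9 : x ^ 9 = 1 := by
      have := pow_card_eq_one' (G := ↥Q) (x := ⟨x, hx⟩)
      rw [hQ9] at this
      exact congrArg Subtype.val this
    have hc := hp1 (f x) (h1 x)
    rw [(hiff x 9).mp h9] at hc
    simp only [Bool.not_true, Bool.false_or] at hc
    exact (hiff x 3).mpr hc
  -- the set of elements of order dividing 3 is a subgroup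
  have hmul3 : ∀ a b : G, a ^ 3 = 1 → b ^ 3 = 1 → (a * b) ^ 3 = 1 := by
    intro a b ha hb
    have hc := hp3 (f a) (h1 a)
    rw [List.all_eq_true] at hc
    have hc2 := hc (f b) (h1 b)
    rw [(hiff a 3).mp ha, (hiff b 3).mp hb, forceList_eq, ← hmul] at hc2
    simp only [Bool.not_true, Bool.false_or] at hc2
    exact (hiff _ 3).mpr hc2
  let T : Subgroup G :=
    { carrier := {x | x ^ 3 = 1}
      mul_mem' := fun {a b} ha hb => hmul3 a b ha hb
      one_mem' := one_pow 3
      inv_mem' := fun {a} ha => by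
        show (a⁻¹) ^ 3 = 1
        rw [inv_pow, ha, inv_one] }
  have hT : IsPGroup 3 ↥T := by
    intro x
    refine ⟨1, ?_⟩
    apply Subtype.ext
    rw [pow_one]
    exact x.2
  have hQT : (Q : Subgroup G) = T := (Q.is_maximal' hT (fun x hx => hx3 x hx)).symm
  refine ⟨?_, hQ9, hx3⟩
  rw [hQT]
  constructor
  intro n hn g
  show (g * n * g⁻¹) ^ 3 = 1
  rw [conj_pow, show n ^ 3 = 1 from hn, mul_one, mul_inv_cancel]

/-- The Sylow 2-subgroups. -/
theorem sylow2_of_M72 (hf : Function.Injective f)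
    (hmul : ∀ a b, f (a * b) = compTbl (f a) (f b)) (hone : f 1 = List.range 24)
    (h1 : ∀ a, f a ∈ M72) (h2 : ∀ L ∈ M72, ∃ a, f a = L) (P : Sylow 2 G) :
    Nonempty (↥P ≃* QuaternionGroup 2) := by
  have hcard := card_of_M72 f hf h1 h2
  haveI : Finite G := Nat.finite_of_card_ne_zero (by rw [hcard]; norm_num)
  haveI : Fact (Nat.Prime 2) := ⟨by norm_num⟩
  have hP8 : Nat.card ↥P = 8 := by
    have h := P.card_eq_multiplicity
    rw [hcard, factorization_72_two] at h
    exact h
  obtain ⟨-, hp2, -, hp4⟩ := M72_pows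
  rw [List.all_eq_true] at hp2 hp4
  have hiff := pow_eq_one_iff_isIdT f hf hmul hone
  have hiff1 := eq_one_iff_isIdT f hf hone
  have hx8 : ∀ x ∈ (P : Subgroup G), x ^ 8 = 1 := by
    intro x hx
    have := pow_card_eq_one' (G := ↥P) (x := ⟨x, hx⟩)
    rw [hP8] at this
    exact congrArg Subtype.val this
  -- involutions of `P` coincide
  have hinv : ∀ u ∈ (P : Subgroup G), ∀ v ∈ (P : Subgroup G), u ^ 2 = 1 → v ^ 2 = 1 → u ≠ 1 →
      v ≠ 1 → u = v := by
    intro u hu v hv hu2 hv2 hu1 hv1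
    by_contra hne
    have hc := hp4 (f u) (h1 u)
    rw [List.all_eq_true] at hc
    have hc2 := hc (f v) (h1 v)
    have e1 : isIdT (f u) = false := by
      rw [← Bool.not_eq_true, ← hiff1]
      exact hu1
    have e2 : isIdT (f v) = false := by
      rw [← Bool.not_eq_true, ← hiff1]
      exact hv1
    have e3 : (f u == f v) = false := by
      rw [← Bool.not_eq_true, beq_iff_eq]
      exact fun h => hne (hf h)
    have e4 : isIdT (powT (f (u * v)) 8) = true :=
      (hiff _ 8).mp (hx8 _ (Subgroup.mul_mem _ hu hv))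
    rw [(hiff u 2).mp hu2, (hiff v 2).mp hv2, e1, e2, e3, forceList_eq, ← hmul, e4] at hc2
    simp at hc2
  have hP2 : IsPGroup 2 ↥P := P.isPGroup'
  have hgen : ∀ H : Subgroup ↥P, Nat.card ↥H = 2 → ∃ u : ↥P, u ≠ 1 ∧ u ^ 2 = 1 ∧
      H = Subgroup.zpowers u := by
    intro H hH
    have hne : H ≠ ⊥ := by
      intro h
      rw [h, Subgroup.card_bot] at hH
      omega
    obtain ⟨⟨u, huH⟩, hu1⟩ := (Subgroup.ne_bot_iff_exists_ne_one).mp hne
    have hu1' : u ≠ 1 := fun h => hu1 (Subtype.ext h)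
    have hord : orderOf u = 2 := by
      have hd : orderOf u ∣ 2 := by
        have := Subgroup.orderOf_dvd_natCard H huH
        rwa [hH] at this
      rcases (Nat.dvd_prime Nat.prime_two).mp hd with h | h
      · exact absurd (orderOf_eq_one_iff.mp h) hu1'
      · exact h
    refine ⟨u, hu1', ?_, ?_⟩
    · have h := pow_orderOf_eq_one u
      rwa [hord] at h
    · symm
      apply Subgroup.eq_of_le_of_card_ge
      · rwa [Subgroup.zpowers_le]
      · rw [hH, Nat.card_zpowers, hord]
  have huniq : ∀ H K : Subgroup ↥P, Nat.card ↥H = 2 → Nat.card ↥K = 2 → H = K := by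
    intro H K hH hK
    obtain ⟨u, hu1, hu2, rfl⟩ := hgen H hH
    obtain ⟨v, hv1, hv2, rfl⟩ := hgen K hK
    have e : (u : G) = v := hinv u u.2 v v.2
      (by rw [← Subgroup.coe_pow, hu2, Subgroup.coe_one])
      (by rw [← Subgroup.coe_pow, hv2, Subgroup.coe_one])
      (fun h => hu1 (Subtype.ext h)) (fun h => hv1 (Subtype.ext h))
    rw [Subtype.ext e]
  rcases Cfsg.Agent.Lib.Helper1.cyclic_or_quaternion_of_unique hP2 huniq with hcyc | ⟨n, ⟨e⟩⟩
  · exfalso
    obtain ⟨g, hg⟩ := hcyc.exists_generator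
    have ho : orderOf g = 8 := by rw [orderOf_eq_card_of_forall_mem_zpowers hg, hP8]
    have h8 : (g : G) ^ 8 = 1 := hx8 g g.2
    have hc := hp2 (f g) (h1 g)
    rw [(hiff g 8).mp h8] at hc
    simp only [Bool.not_true, Bool.false_or] at hc
    have h4 : (g : G) ^ 4 = 1 := (hiff g 4).mpr hc
    have h4' : g ^ 4 = 1 := by
      apply Subtype.ext
      rw [Subgroup.coe_pow, h4, Subgroup.coe_one]
    have hdvd := orderOf_dvd_of_pow_eq_one h4'
    rw [ho] at hdvd
    omega
  · have hc : Nat.card ↥P = Nat.card (QuaternionGroup (2 ^ n)) := Nat.card_congr e.toEquiv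
    rw [hP8, Nat.card_eq_fintype_card, QuaternionGroup.card] at hc
    have hn : 2 ^ n = 2 := by omega
    rw [hn] at e
    exact ⟨e⟩

end Abstract

end Cfsg.Agent.Lib.helper4
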