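import Mathlib
import Cfsg.Agent.Lib.helper4.M24Gen

set_option autoImplicit false

namespace Cfsg.Agent.Lib.helper4

open Cfsg Cfsg.Agent.Lib.helper3

/-- the tables of the certificate, with their properties -/
theorem exists_level_tbl {i q : ℕ} (hi : i < 7) (hq : q < 24)
    (h : (m24Orb.getD i 0).testBit q = true) :
    tblCheck (findTbl i q) = true ∧ (findTbl i q).getD (bIdx i) 0 = q ∧
      ∀ j < i, (findTbl i q).getD (bIdx j) 0 = bIdx j := by
  have hc := certOK_true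
  unfold certOK at hc
  rw [List.all_eq_true] at hc
  have h1 := hc i (List.mem_range.2 hi)
  rw [List.all_eq_true] at h1
  have h2 := h1 q (List.mem_range.2 hq)
  rw [h] at h2
  simp only [Bool.not_true, Bool.false_or] at h2
  unfold tblGood at h2
  simp only [Bool.and_eq_true, beq_iff_eq, List.all_eq_true, List.mem_range] at h2
  exact ⟨h2.1.1, h2.1.2, h2.2⟩

theorem tblFun_comp (L1 L2 : List ℕ) (hv2 : ∀ x ∈ L2, x < 24) (p : GolayPt) :
    tblFun L1 (tblFun L2 p) = tblFun (compTbl L1 L2) p := by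
  unfold tblFun
  rw [compTbl_getD L1 L2 (gidx_lt p), gidx_gpt (getD_lt_of_valid hv2 _)]

/-- mask of the fixed points of a table -/
def fixMask (T : List ℕ) : ℕ := bitsFrom (fun i => T.getD i 0 == i) 0 24

def rigid48 : Bool :=
  (List.range 24).all fun q5 => (List.range 24).all fun q6 =>
    !(m24Orb.getD 5 0).testBit q5 || !(m24Orb.getD 6 0).testBit q6 ||
      (compTbl (findTbl 5 q5) (findTbl 6 q6) == List.range 24) ||
      decide (popc (fixMask (compTbl (findTbl 5 q5) (findTbl 6 q6))) ≤ 8)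

set_option maxRecDepth 1000000 in
theorem rigid48_true : rigid48 = true := by decide +kernel

theorem tblFun_range (p : GolayPt) : tblFun (List.range 24) p = p := by
  unfold tblFun
  rw [List.getD_eq_getElem _ _ (by simpa using gidx_lt p)]
  simp only [List.getElem_range]
  exact gpt_gidx p

/-- an element of the pointwise stabilizer of the first five base points is a product of two
table permutations -/
theorem Kfix5_tbl {g : Equiv.Perm GolayPt} (hg : g ∈ Kfix 5) :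
    ∃ q5 q6 : ℕ, q5 < 24 ∧ q6 < 24 ∧ (m24Orb.getD 5 0).testBit q5 = true ∧
      (m24Orb.getD 6 0).testBit q6 = true ∧
      ∀ p, g p = tblFun (compTbl (findTbl 5 q5) (findTbl 6 q6)) p := by
  have horb5 : (g (bpt 5)) ∈ MulAction.orbit (Kfix 5) (bpt 5) := ⟨⟨g, hg⟩, rfl⟩
  rw [orbit_Kfix (by norm_num), Finset.mem_coe, mem_gset] at horb5
  obtain ⟨hchk5, hq5, hfix5⟩ := exists_level_tbl (i := 5) (by norm_num) (gidx_lt _) horb5
  obtain ⟨u5, hu5, hu5f⟩ := exists_perm_of_tblCheck hchk5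
  have hu5K : u5 ∈ Kfix 5 := by
    rw [mem_Kfix]
    refine ⟨hu5, fun j hj => ?_⟩
    rw [hu5f]
    show tblFun _ (gpt (bIdx j)) = gpt (bIdx j)
    rw [tblFun_gpt (bIdx_lt j)]
    exact congrArg gpt (hfix5 j hj)
  have hu5map : u5 (bpt 5) = g (bpt 5) := by
    rw [hu5f]
    show tblFun _ (gpt (bIdx 5)) = _
    rw [tblFun_gpt (bIdx_lt 5), hq5, gpt_gidx]
  have hg' : u5⁻¹ * g ∈ Kfix 6 := by
    rw [mem_Kfix_succ]
    refine ⟨(Kfix 5).mul_mem ((Kfix 5).inv_mem hu5K) hg, ?_⟩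
    rw [Equiv.Perm.mul_apply, Equiv.Perm.inv_eq_iff_eq, hu5map]
  have horb6 : ((u5⁻¹ * g) (bpt 6)) ∈ MulAction.orbit (Kfix 6) (bpt 6) := ⟨⟨_, hg'⟩, rfl⟩
  rw [orbit_Kfix (by norm_num), Finset.mem_coe, mem_gset] at horb6
  obtain ⟨hchk6, hq6, hfix6⟩ := exists_level_tbl (i := 6) (by norm_num) (gidx_lt _) horb6
  obtain ⟨u6, hu6, hu6f⟩ := exists_perm_of_tblCheck hchk6
  have hu6K : u6 ∈ Kfix 6 := by
    rw [mem_Kfix]
    refine ⟨hu6, fun j hj => ?_⟩
    rw [hu6f]
    show tblFun _ (gpt (bIdx j)) = gpt (bIdx j)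
    rw [tblFun_gpt (bIdx_lt j)]
    exact congrArg gpt (hfix6 j hj)
  have hu6map : u6 (bpt 6) = (u5⁻¹ * g) (bpt 6) := by
    rw [hu6f]
    show tblFun _ (gpt (bIdx 6)) = _
    rw [tblFun_gpt (bIdx_lt 6), hq6, gpt_gidx]
  have hg'' : u6⁻¹ * (u5⁻¹ * g) ∈ Kfix 7 := by
    rw [mem_Kfix_succ]
    refine ⟨(Kfix 6).mul_mem ((Kfix 6).inv_mem hu6K) hg', ?_⟩
    rw [Equiv.Perm.mul_apply, Equiv.Perm.inv_eq_iff_eq, hu6map]
  rw [Kfix_seven, Subgroup.mem_bot] at hg''
  have hgeq : g = u5 * u6 := by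
    have : u6⁻¹ * (u5⁻¹ * g) = 1 := hg''
    calc g = u5 * (u6 * (u6⁻¹ * (u5⁻¹ * g))) := by group
      _ = u5 * u6 := by rw [this, mul_one]
  refine ⟨_, _, gidx_lt _, gidx_lt _, horb5, horb6, fun p => ?_⟩
  have hv6 := (tblCheck_spec hchk6).2.1
  rw [← tblFun_comp _ _ hv6, ← hu6f, ← hu5f]
  conv_lhs => rw [hgeq]
  rfl

theorem Kfix5_rigid {g : Equiv.Perm GolayPt} (hg : g ∈ Kfix 5) (s : Finset GolayPt)
    (hs : 9 ≤ s.card) (hfix : ∀ p ∈ s, g p = p) : g = 1 := by
  obtain ⟨q5, q6, h5, h6, ho5, ho6, hgT⟩ := Kfix5_tbl hg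
  have hc := rigid48_true
  unfold rigid48 at hc
  rw [List.all_eq_true] at hc
  have h1 := hc q5 (List.mem_range.2 h5)
  rw [List.all_eq_true] at h1
  have h2 := h1 q6 (List.mem_range.2 h6)
  rw [ho5, ho6] at h2
  simp only [Bool.not_true, Bool.false_or, Bool.or_eq_true, beq_iff_eq, decide_eq_true_eq] at h2
  set T := compTbl (findTbl 5 q5) (findTbl 6 q6) with hT
  rcases h2 with h2 | h2
  · ext p
    rw [hgT, h2, tblFun_range]
    rfl
  · exfalso
    have hv5 := (tblCheck_spec (exists_level_tbl (i := 5) (by norm_num) h5 ho5).1).2.1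
    have hsub : s ⊆ gset (fixMask T) := by
      intro p hp
      rw [mem_gset]
      unfold fixMask
      rw [testBit_bitsFrom, zero_add, Bool.and_eq_true, beq_iff_eq]
      refine ⟨by simpa using gidx_lt p, ?_⟩
      have h3 := hfix p hp
      rw [hgT] at h3
      unfold tblFun at h3
      have h4 := congrArg gidx h3
      rw [gidx_gpt] at h4
      · exact h4
      · rw [hT, compTbl_getD _ _ (gidx_lt p)]
        exact getD_lt_of_valid hv5 _
    have := Finset.card_le_card hsub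
    rw [card_gset] at this
    omega

/-- a nontrivial element of `M24` fixes at most eight points -/
theorem M24_rigid {g : Equiv.Perm GolayPt} (hg : g ∈ M24) (s : Finset GolayPt)
    (hs : 9 ≤ s.card) (hfix : ∀ p ∈ s, g p = p) : g = 1 := by
  obtain ⟨x, hx⟩ := exists_emb_subset s (by omega)
  obtain ⟨h, hh, hhx⟩ := reach_emb x
  have hconj : h * g * h⁻¹ ∈ Kfix 5 := by
    rw [mem_Kfix]
    refine ⟨M24.mul_mem (M24.mul_mem hh hg) (M24.inv_mem hh), fun j hj => ?_⟩
    have e : h⁻¹ (bpt j) = x ⟨j, hj⟩ := by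
      rw [Equiv.Perm.inv_eq_iff_eq]
      exact (hhx ⟨j, hj⟩).symm
    rw [Equiv.Perm.mul_apply, Equiv.Perm.mul_apply, e, hfix _ (hx _)]
    exact hhx ⟨j, hj⟩
  have h1 := Kfix5_rigid hconj (s.map h.toEmbedding) (by rw [Finset.card_map]; exact hs) (by
    intro p hp
    rw [Finset.mem_map] at hp
    obtain ⟨p0, hp0, rfl⟩ := hp
    simp only [Equiv.coe_toEmbedding, Equiv.Perm.mul_apply]
    rw [show h⁻¹ (h p0) = p0 from by simp, hfix p0 hp0])
  have : g = h⁻¹ * (h * g * h⁻¹) * h := by group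
  rw [this, h1]
  group

end Cfsg.Agent.Lib.helper4
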