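import Mathlib
import Cfsg.Prelude.Def_Sporadic_a
import Cfsg.Agent.Lib.helper4.M24Rigid
import Cfsg.Agent.Lib.Helper12.Golay.Fast

set_option autoImplicit false

namespace Cfsg.Agent.Lib.helper4

open Cfsg
open Cfsg.Agent.Lib.Helper12.Golay

/-! ### Function tables of permutations of the 24 points -/

/-- The function table of a permutation: entry `i` is the index of the image of point `i`. -/
def tblOf (g : Equiv.Perm GolayPt) : List ℕ := (List.range 24).map fun i => idx (g (pt i))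

theorem tblOf_length (g : Equiv.Perm GolayPt) : (tblOf g).length = 24 := by
  simp [tblOf]

theorem tblOf_getD (g : Equiv.Perm GolayPt) {i : ℕ} (hi : i < 24) :
    (tblOf g).getD i 0 = idx (g (pt i)) := by
  unfold tblOf
  rw [List.getD_eq_getElem _ _ (by simpa using hi)]
  simp

theorem tblOf_lt (g : Equiv.Perm GolayPt) : ∀ x ∈ tblOf g, x < 24 := by
  intro x hx
  unfold tblOf at hx
  rw [List.mem_map] at hx
  obtain ⟨i, _, rfl⟩ := hx
  exact idx_lt _

theorem tblFun_tblOf (g : Equiv.Perm GolayPt) (p : GolayPt) : tblFun (tblOf g) p = g p := by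
  unfold tblFun
  rw [tblOf_getD g (idx_lt p), pt_idx, pt_idx]

theorem list_ext_getD {L1 L2 : List ℕ} (h1 : L1.length = 24) (h2 : L2.length = 24)
    (h : ∀ i < 24, L1.getD i 0 = L2.getD i 0) : L1 = L2 := by
  apply List.ext_getElem (by rw [h1, h2])
  intro i hi1 hi2
  have := h i (by omega)
  rwa [List.getD_eq_getElem _ _ hi1, List.getD_eq_getElem _ _ hi2] at this

theorem compTbl_length (L1 L2 : List ℕ) : (compTbl L1 L2).length = 24 := by
  simp [compTbl]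

theorem tblOf_mul (g h : Equiv.Perm GolayPt) : tblOf (g * h) = compTbl (tblOf g) (tblOf h) := by
  apply list_ext_getD (tblOf_length _) (compTbl_length _ _)
  intro i hi
  rw [tblOf_getD _ hi, compTbl_getD _ _ hi, tblOf_getD h hi, tblOf_getD g (idx_lt _), pt_idx]
  rfl

theorem tblOf_one : tblOf 1 = List.range 24 := by
  apply list_ext_getD (tblOf_length _) (by simp)
  intro i hi
  rw [tblOf_getD _ hi, List.getD_eq_getElem _ _ (by simpa using hi)]
  simp [idx_pt hi]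

theorem tblOf_injective : Function.Injective tblOf := by
  intro g h e
  ext p
  rw [← tblFun_tblOf g, ← tblFun_tblOf h, e]

/-- The permutation with a given function table. -/
noncomputable def fperm (L : List ℕ) : Equiv.Perm GolayPt := (permT L)⁻¹

theorem fperm_apply {L : List ℕ} (hv : ValidT L) (p : GolayPt) : fperm L p = tblFun L p :=
  permT_symm_apply hv p

theorem tblOf_fperm {L : List ℕ} (hv : ValidT L) : tblOf (fperm L) = L := by
  apply list_ext_getD (tblOf_length _) hv.1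
  intro i hi
  rw [tblOf_getD _ hi, fperm_apply hv]
  unfold tblFun
  rw [idx_pt hi, idx_pt]
  have hi' : i < L.length := by rw [hv.1]; exact hi
  rw [List.getD_eq_getElem _ _ hi']
  exact hv.2.1 _ (List.getElem_mem hi')

theorem fperm_mem {L : List ℕ} (h : okK L = true) : fperm L ∈ M24 :=
  M24.inv_mem (permT_mem_M24' h)

theorem eq_fperm_of_tblOf {g : Equiv.Perm GolayPt} {L : List ℕ} (hv : ValidT L)
    (h : tblOf g = L) : g = fperm L := by
  apply tblOf_injective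
  rw [h, tblOf_fperm hv]

/-! ### The pointwise stabiliser of the five base points -/

/-- The 48 function tables of the pointwise stabiliser of the base points `0, 12, 14, 16, 17`. -/
def K5L : List (List ℕ) := [[0,1,2,3,4,5,6,7,8,9,10,11,12,13,14,15,16,17,18,19,20,21,22,23],[0,1,21,13,19,6,20,4,15,2,8,3,12,11,14,10,16,17,23,7,5,9,18,22],[0,1,9,11,7,20,5,19,10,21,15,13,12,3,14,8,16,17,22,4,6,2,23,18],[0,2,9,4,20,10,19,13,7,1,11,5,12,8,14,6,16,17,23,15,3,21,18,22],[0,2,21,8,15,19,3,20,6,9,7,4,12,5,14,11,16,17,22,13,10,1,23,18],[0,2,1,5,13,3,10,15,11,21,6,8,12,4,14,7,16,17,18,20,19,9,22,23],[0,11,19,3,21,15,9,5,6,8,2,13,12,1,14,7,16,17,23,10,4,20,18,22],[0,11,20,1,10,9,4,21,7,19,6,3,12,13,14,2,16,17,22,5,15,8,23,18],[0,11,8,13,5,4,15,10,2,20,7,1,12,3,14,6,16,17,18,21,9,19,22,23],[0,21,9,15,10,7,13,5,20,2,4,19,12,6,14,3,16,17,18,11,8,1,22,23],[0,21,1,6,11,13,8,10,3,9,20,15,12,19,14,4,16,17,23,5,7,2,18,22],[0,21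,2,19,5,8,7,11,4,1,3,6,12,15,14,20,16,17,22,10,13,9,23,18],[0,9,1,20,3,11,15,8,13,2,5,10,12,7,14,19,16,17,22,6,4,21,23,18],[0,9,21,7,6,15,4,3,19,1,13,20,12,10,14,5,16,17,18,8,11,2,22,23],[0,9,2,10,8,4,11,6,5,21,19,7,12,20,14,13,16,17,23,3,15,1,18,22],[0,19,8,21,4,2,10,1,5,11,13,15,12,6,14,9,16,17,22,7,3,20,23,18],[0,19,20,6,7,10,3,4,9,8,5,21,12,15,14,13,16,17,18,1,2,11,22,23],[0,19,11,15,1,3,2,7,13,20,9,6,12,21,14,5,16,17,23,4,10,8,18,22],[0,5,15,4,21,6,1,10,19,7,9,8,12,2,14,13,16,17,22,11,20,3,23,18],[0,5,3,2,11,1,20,21,13,15,19,4,12,8,14,9,16,17,18,10,6,7,22,23],[0,5,7,8,10,20,6,11,9,3,13,2,12,4,14,19,16,17,23,21,1,15,18,22],[0,13,10,3,20,7,8,15,9,6,19,1,12,11,14,5,16,17,22,2,21,4,23,18],[0,13,4,11,2,8,21,20,5,10,9,3,12,1,14,19,16,17,18,15,7,6,22,23],[0,13,6,1,15,21,7,2,19,4,5,11,12,3,14,9,16,17,23,20,8,10,18,22],[0,20,8,7,2,5,1,15,4,19,21,10,12,9,14,3,16,17,23,13,6,11,18,22],[0,20,11,9,13,1,6,2,3,8,4,7,12,1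0,14,21,16,17,22,15,5,19,23,18],[0,20,19,10,15,6,5,13,21,11,3,9,12,7,14,4,16,17,18,2,1,8,22,23],[0,8,11,4,3,13,7,6,1,19,15,2,12,5,14,10,16,17,18,9,21,20,22,23],[0,8,20,5,9,7,21,3,10,11,1,4,12,2,14,15,16,17,23,6,13,19,18,22],[0,8,19,2,6,21,13,9,15,20,10,5,12,4,14,1,16,17,22,3,7,11,23,18],[0,15,7,21,20,9,11,2,10,5,8,6,12,19,14,1,16,17,18,13,4,3,22,23],[0,15,3,19,13,11,4,20,1,7,10,21,12,6,14,8,16,17,23,2,9,5,18,22],[0,15,5,6,2,4,9,13,8,3,1,19,12,21,14,10,16,17,22,20,11,7,23,18],[0,10,6,20,21,19,2,11,15,13,1,7,12,9,14,8,16,17,18,5,3,4,22,23],[0,10,4,9,5,2,3,21,8,6,15,20,12,7,14,1,16,17,23,11,19,13,18,22],[0,10,13,7,11,3,19,5,1,4,8,9,12,20,14,15,16,17,22,21,2,6,23,18],[0,7,3,10,1,13,21,4,11,5,2,20,12,9,14,6,16,17,22,19,8,15,23,18],[0,7,15,9,19,21,8,1,6,3,11,10,12,20,14,2,16,17,18,4,13,5,22,23],[0,7,5,20,4,8,13,19,2,15,6,9,12,10,14,11,16,17,23,1,21,3,18,22],[0,6,4,15,8,5,20,3,2,13,11,21,12,19,14,7,16,17,22,9,1,10,23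,18],[0,6,10,19,9,20,1,8,7,4,2,15,12,21,14,11,16,17,18,3,5,13,22,23],[0,6,13,21,3,1,5,9,11,10,7,19,12,15,14,2,16,17,23,8,20,4,18,22],[0,3,7,13,9,10,2,6,20,15,21,11,12,1,14,4,16,17,22,8,19,5,23,18],[0,3,5,1,8,2,19,9,4,7,20,13,12,11,14,21,16,17,18,6,10,15,22,23],[0,3,15,11,6,19,10,8,21,5,4,1,12,13,14,20,16,17,23,9,2,7,18,22],[0,4,6,5,19,15,11,7,21,10,20,2,12,8,14,3,16,17,22,1,9,13,23,18],[0,4,13,8,1,11,9,19,3,6,21,5,12,2,14,20,16,17,18,7,15,10,22,23],[0,4,10,2,7,9,15,1,20,13,3,8,12,5,14,21,16,17,23,19,11,6,18,22]]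

theorem gidx_eq_idx_all : ∀ p : GolayPt, Cfsg.Agent.Lib.helper3.gidx p = idx p := by decide

theorem gpt_eq_pt_fin : ∀ i : Fin 24, Cfsg.Agent.Lib.helper3.gpt i = pt i := by decide

theorem gpt_eq_pt {i : ℕ} (hi : i < 24) : Cfsg.Agent.Lib.helper3.gpt i = pt i :=
  gpt_eq_pt_fin ⟨i, hi⟩

set_option maxRecDepth 100000 in
theorem K5L_complete : (List.range 24).all (fun q5 => (List.range 24).all fun q6 =>
    !(Cfsg.Agent.Lib.helper3.m24Orb.getD 5 0).testBit q5 ||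
    !(Cfsg.Agent.Lib.helper3.m24Orb.getD 6 0).testBit q6 ||
    K5L.contains (compTbl (Cfsg.Agent.Lib.helper3.findTbl 5 q5)
      (Cfsg.Agent.Lib.helper3.findTbl 6 q6))) = true := by
  decide +kernel

theorem tblOf_mem_K5L {g : Equiv.Perm GolayPt} (hg : g ∈ Cfsg.Agent.Lib.helper3.Kfix 5) :
    tblOf g ∈ K5L := by
  obtain ⟨q5, q6, h5, h6, ho5, ho6, hgT⟩ := Kfix5_tbl hg
  have hc := K5L_complete
  rw [List.all_eq_true] at hc
  have h1 := hc q5 (List.mem_range.2 h5)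
  rw [List.all_eq_true] at h1
  have h2 := h1 q6 (List.mem_range.2 h6)
  rw [ho5, ho6] at h2
  simp only [Bool.not_true, Bool.false_or, List.contains_iff_mem] at h2
  set K := compTbl (Cfsg.Agent.Lib.helper3.findTbl 5 q5) (Cfsg.Agent.Lib.helper3.findTbl 6 q6)
    with hK
  have hKlt : ∀ i < 24, K.getD i 0 < 24 := by
    intro i hi
    have hv5 := (Cfsg.Agent.Lib.helper3.tblCheck_spec
      (exists_level_tbl (i := 5) (by norm_num) h5 ho5).1).2.1
    rw [hK, compTbl_getD _ _ hi]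
    exact getD_lt_of_valid hv5 _
  have : tblOf g = K := by
    apply list_ext_getD (tblOf_length _) (compTbl_length _ _)
    intro i hi
    rw [tblOf_getD _ hi, hgT]
    unfold Cfsg.Agent.Lib.helper3.tblFun
    rw [gidx_eq_idx_all, idx_pt hi, gpt_eq_pt (hKlt i hi), idx_pt (hKlt i hi)]
  rw [this]
  exact h2

/-- Index of the `j`-th base point. -/
def b5 (j : ℕ) : ℕ := [0, 12, 14, 16, 17].getD j 0

theorem bpt_eq {j : ℕ} (hj : j < 5) : Cfsg.Agent.Lib.helper3.bpt j = pt (b5 j) := by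
  interval_cases j <;> decide

theorem b5_lt (j : ℕ) : b5 j < 24 := by
  unfold b5
  by_cases h : j < 5
  · interval_cases j <;> decide
  · rw [List.getD_eq_default _ _ (by simpa using h)]
    norm_num

/-- An element of the group of the code that agrees with a table element on the five base points
is that table element times one of the 48. -/
theorem enum5 {g : Equiv.Perm GolayPt} (hg : g ∈ M24) {H : List ℕ} (hH : okK H = true)
    (hag : ∀ j < 5, g (pt (b5 j)) = pt (H.getD (b5 j) 0)) :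
    ∃ K ∈ K5L, tblOf g = compTbl H K := by
  have hv := okK_valid hH
  have hu : (fperm H)⁻¹ * g ∈ Cfsg.Agent.Lib.helper3.Kfix 5 := by
    rw [Cfsg.Agent.Lib.helper3.mem_Kfix]
    refine ⟨M24.mul_mem (M24.inv_mem (fperm_mem hH)) hg, fun j hj => ?_⟩
    rw [bpt_eq hj, Equiv.Perm.mul_apply, Equiv.Perm.inv_eq_iff_eq, hag j hj, fperm_apply hv]
    unfold tblFun
    rw [idx_pt (b5_lt j)]
  refine ⟨_, tblOf_mem_K5L hu, ?_⟩
  rw [← tblOf_fperm hv, ← tblOf_mul, tblOf_fperm hv]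
  congr 1
  group

/-- Check over all candidates `H * K`. -/
def candCheck (Hs : List (List ℕ)) (pred post : List ℕ → Bool) : Bool :=
  Hs.all fun H => K5L.all fun K => !pred (compTbl H K) || post (compTbl H K)

theorem candCheck_spec {Hs : List (List ℕ)} {pred post : List ℕ → Bool}
    (hc : candCheck Hs pred post = true) {g : Equiv.Perm GolayPt} (hg : g ∈ M24) {H : List ℕ}
    (hHs : H ∈ Hs) (hH : okK H = true)
    (hag : ∀ j < 5, g (pt (b5 j)) = pt (H.getD (b5 j) 0)) (hp : pred (tblOf g) = true) :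
    post (tblOf g) = true := by
  obtain ⟨K, hK, e⟩ := enum5 hg hH hag
  unfold candCheck at hc
  rw [List.all_eq_true] at hc
  have h1 := hc H hHs
  rw [List.all_eq_true] at h1
  have h2 := h1 K hK
  rw [← e, hp] at h2
  simpa using h2

end Cfsg.Agent.Lib.helper4
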