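import Mathlib
import Cfsg.Prelude.Def_Sporadic_a
import Cfsg.Prelude.Def_SporadicCombinatorics
import Cfsg.Agent.Lib.helper4.ElemEnum

set_option autoImplicit false

namespace Cfsg.Agent.Lib.helper4

open Cfsg
open scoped Pointwise
open Cfsg.Agent.Lib.Helper12.Golay

/-! ### Tables intertwining two given tables are determined by few values -/

/-- The pairs `(A^i x, B^i v)` for `i < n`. -/
def walkT (A B : List ℕ) : ℕ → ℕ → ℕ → List (ℕ × ℕ)
  | 0, _, _ => []
  | n + 1, x, v => (x, v) :: walkT A B n (A.getD x 0) (B.getD v 0)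

theorem walkT_spec {A B T : List ℕ}
    (h : ∀ x < 24, T.getD (A.getD x 0) 0 = B.getD (T.getD x 0) 0)
    (hA : ∀ x < 24, A.getD x 0 < 24) :
    ∀ (n x v : ℕ), x < 24 → T.getD x 0 = v → ∀ p ∈ walkT A B n x v, T.getD p.1 0 = p.2
  | 0, _, _, _, _, p, hp => by simp [walkT] at hp
  | n + 1, x, v, hx, hv, p, hp => by
    rw [walkT, List.mem_cons] at hp
    rcases hp with rfl | hp
    · exact hv
    · exact walkT_spec h hA n _ _ (hA x hx) (by rw [h x hx, hv]) p hp

theorem walkT_fst (A B : List ℕ) : ∀ (n x v : ℕ),
    (walkT A B n x v).map Prod.fst = (walkT A A n x x).map Prod.fst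
  | 0, _, _ => rfl
  | n + 1, x, v => by
    rw [walkT, walkT, List.map_cons, List.map_cons, walkT_fst A B n]

/-- Value attached to a position in a list of pairs (24 if absent). -/
def assocGet (y : ℕ) : List (ℕ × ℕ) → ℕ
  | [] => 24
  | p :: ps => if Nat.beq y p.1 then p.2 else assocGet y ps

/-- The table of a list of pairs. -/
def buildT (assoc : List (ℕ × ℕ)) : List ℕ := (List.range 24).map fun y => assocGet y assoc

theorem buildT_length (assoc : List (ℕ × ℕ)) : (buildT assoc).length = 24 := by
  simp [buildT]

theorem buildT_getD (assoc : List (ℕ × ℕ)) {i : ℕ} (hi : i < 24) :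
    (buildT assoc).getD i 0 = assocGet i assoc := by
  unfold buildT
  rw [List.getD_eq_getElem _ _ (by simpa using hi), List.getElem_map, List.getElem_range]

theorem assocGet_spec {T : List ℕ} : ∀ (assoc : List (ℕ × ℕ)) (y : ℕ),
    (∀ p ∈ assoc, T.getD p.1 0 = p.2) → memL y (assoc.map Prod.fst) = true →
    assocGet y assoc = T.getD y 0
  | [], y, _, hm => by simp [memL] at hm
  | p :: ps, y, hsp, hm => by
    rw [assocGet]
    by_cases hy : Nat.beq y p.1 = true
    · rw [if_pos hy, natBeq_iff.mp hy]
      exact (hsp p List.mem_cons_self).symm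
    · rw [if_neg hy]
      apply assocGet_spec ps y (fun q hq => hsp q (List.mem_cons_of_mem _ hq))
      rw [List.map_cons, memL, Bool.or_eq_true] at hm
      rcases hm with hm | hm
      · exact absurd hm hy
      · exact hm

/-- A table agreeing with a list of pairs covering all positions is the table of the list. -/
theorem eq_buildT {T : List ℕ} (hlen : T.length = 24) (assoc : List (ℕ × ℕ))
    (hsp : ∀ p ∈ assoc, T.getD p.1 0 = p.2)
    (hcov : ∀ y < 24, memL y (assoc.map Prod.fst) = true) : T = buildT assoc := by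
  apply list_ext_getD hlen (buildT_length assoc)
  intro i hi
  rw [buildT_getD assoc hi, assocGet_spec assoc i hsp (hcov i hi)]

/-- Fast validity test for tables. -/
def validB (C : List ℕ) : Bool :=
  Nat.beq C.length 24 && C.all (fun x => Nat.blt x 24) &&
    (List.range 24).all fun y => memL y C

/-- Intertwining relation for tables, from the relation for permutations. -/
theorem intertwine_of_mul {n a b : Equiv.Perm GolayPt} (h : n * a = b * n) :
    ∀ x < 24, (tblOf n).getD ((tblOf a).getD x 0) 0 = (tblOf b).getD ((tblOf n).getD x 0) 0 := by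
  intro x hx
  have e := congrArg tblOf h
  rw [tblOf_mul, tblOf_mul] at e
  have e2 : (compTbl (tblOf n) (tblOf a)).getD x 0 = (compTbl (tblOf b) (tblOf n)).getD x 0 := by
    rw [e]
  rwa [compTbl_getD _ _ hx, compTbl_getD _ _ hx] at e2

end Cfsg.Agent.Lib.helper4
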