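import Mathlib
import Cfsg.Prelude.Def_Sporadic_a
import Cfsg.Prelude.Def_SporadicCombinatorics
import Cfsg.Agent.Lib.helper4.Intertwine
import Cfsg.Agent.Lib.helper4.M9Data

set_option autoImplicit false

namespace Cfsg.Agent.Lib.helper4

open Cfsg
open scoped Pointwise
open Cfsg.Agent.Lib.Helper12.Golay

/-! ### Automorphisms of the group of the length-24 code: data -/

/-- Table of `t ↦ t + 1`. -/
def tA24 : List ℕ := [1,2,3,4,5,6,7,8,9,10,11,12,13,14,15,16,17,18,19,20,21,22,0,23]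
/-- Table of `t ↦ 2 t`. -/
def tU24 : List ℕ := [0,2,4,6,8,10,12,14,16,18,20,22,1,3,5,7,9,11,13,15,17,19,21,23]
/-- Table of `t ↦ -1 / t`. -/
def tW24 : List ℕ := [23,22,11,15,17,9,19,13,20,5,16,2,21,7,18,3,10,4,14,6,8,12,1,0]
/-- Table of the cube twist. -/
def tC24 : List ℕ := [0,18,6,3,2,21,1,5,16,12,7,19,8,9,17,15,13,11,4,22,10,20,14,23]
/-- The powers of `tA24`. -/
def Apows23 : List (List ℕ) := [[0,1,2,3,4,5,6,7,8,9,10,11,12,13,14,15,16,17,18,19,20,21,22,23],[1,2,3,4,5,6,7,8,9,10,11,12,13,14,15,16,17,18,19,20,21,22,0,23],[2,3,4,5,6,7,8,9,10,11,12,13,14,15,16,17,18,19,20,21,22,0,1,23],[3,4,5,6,7,8,9,10,11,12,13,14,15,16,17,18,19,20,21,22,0,1,2,23],[4,5,6,7,8,9,10,11,12,13,14,15,16,17,18,19,20,21,22,0,1,2,3,23],[5,6,7,8,9,10,11,12,13,14,15,16,17,18,19,20,21,22,0,1,2,3,4,23],[6,7,8,9,10,11,12,13,14,15,16,17,18,19,20,21,22,0,1,2,3,4,5,23],[7,8,9,10,11,12,13,14,15,16,17,18,19,20,21,22,0,1,2,3,4,5,6,23],[8,9,10,11,12,13,14,15,16,17,18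,19,20,21,22,0,1,2,3,4,5,6,7,23],[9,10,11,12,13,14,15,16,17,18,19,20,21,22,0,1,2,3,4,5,6,7,8,23],[10,11,12,13,14,15,16,17,18,19,20,21,22,0,1,2,3,4,5,6,7,8,9,23],[11,12,13,14,15,16,17,18,19,20,21,22,0,1,2,3,4,5,6,7,8,9,10,23],[12,13,14,15,16,17,18,19,20,21,22,0,1,2,3,4,5,6,7,8,9,10,11,23],[13,14,15,16,17,18,19,20,21,22,0,1,2,3,4,5,6,7,8,9,10,11,12,23],[14,15,16,17,18,19,20,21,22,0,1,2,3,4,5,6,7,8,9,10,11,12,13,23],[15,16,17,18,19,20,21,22,0,1,2,3,4,5,6,7,8,9,10,11,12,13,14,23],[16,17,18,19,20,21,22,0,1,2,3,4,5,6,7,8,9,10,11,12,13,14,15,23],[17,18,19,20,21,22,0,1,2,3,4,5,6,7,8,9,10,11,12,13,14,15,16,23],[18,19,20,21,22,0,1,2,3,4,5,6,7,8,9,10,11,12,13,14,15,16,17,23],[19,20,21,22,0,1,2,3,4,5,6,7,8,9,10,11,12,13,14,15,16,17,18,23],[20,21,22,0,1,2,3,4,5,6,7,8,9,10,11,12,13,14,15,16,17,18,19,23],[21,22,0,1,2,3,4,5,6,7,8,9,10,11,12,13,14,15,16,17,18,19,20,23],[22,0,1,2,3,4,5,6,7,8,9,10,11,12,13,14,15,16,17,18,19,20,21,23]]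
/-- The powers of `tU24`. -/
def Upows11 : List (List ℕ) := [[0,1,2,3,4,5,6,7,8,9,10,11,12,13,14,15,16,17,18,19,20,21,22,23],[0,2,4,6,8,10,12,14,16,18,20,22,1,3,5,7,9,11,13,15,17,19,21,23],[0,4,8,12,16,20,1,5,9,13,17,21,2,6,10,14,18,22,3,7,11,15,19,23],[0,8,16,1,9,17,2,10,18,3,11,19,4,12,20,5,13,21,6,14,22,7,15,23],[0,16,9,2,18,11,4,20,13,6,22,15,8,1,17,10,3,19,12,5,21,14,7,23],[0,9,18,4,13,22,8,17,3,12,21,7,16,2,11,20,6,15,1,10,19,5,14,23],[0,18,13,8,3,21,16,11,6,1,19,14,9,4,22,17,12,7,2,20,15,10,5,23],[0,13,3,16,6,19,9,22,12,2,15,5,18,8,21,11,1,14,4,17,7,20,10,23],[0,3,6,9,12,15,18,21,1,4,7,10,13,16,19,22,2,5,8,11,14,17,20,23],[0,6,12,18,1,7,13,19,2,8,14,20,3,9,15,21,4,10,16,22,5,11,17,23],[0,12,1,13,2,14,3,15,4,16,5,17,6,18,7,19,8,20,9,21,10,22,11,23]]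

/-- The candidate table normalising with multiplier `s` and mapping `0` to `v0`. -/
def normCand (s v0 : ℕ) : List ℕ :=
  buildT (walkT tA24 (Apows23.getD s []) 1 23 23 ++ walkT tA24 (Apows23.getD s []) 23 0 v0)

/-- The candidate table commuting with `tU24` with the given values at `∞`, `0`, `1`, `5`. -/
def centCand (f1 f0 p q : ℕ) : List ℕ :=
  buildT (walkT tU24 tU24 1 23 f1 ++ walkT tU24 tU24 1 0 f0 ++ walkT tU24 tU24 11 1 p ++
    walkT tU24 tU24 11 5 q)

/-- The relators tested on candidate images of the generators. -/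
def relOK24 (A W C : List ℕ) : Bool :=
  isIdT (powT (compTbl A W) 3) && isIdT (powT (compTbl A C) 6) &&
    isIdT (powT (compTbl A (compTbl W C)) 23) && isIdT (powT (compTbl A (compTbl C W)) 23)

set_option maxRecDepth 1000000 in
theorem out24_basic : okK tA24 = true ∧ okK tU24 = true ∧ okK tW24 = true ∧ okK tC24 = true ∧
    Apows23 = (List.range 23).map (powT tA24) ∧ Upows11 = (List.range 11).map (powT tU24) ∧
    powT tA24 23 = List.range 24 ∧ powT tU24 11 = List.range 24 ∧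
    tA24 ≠ List.range 24 ∧ tU24 ≠ List.range 24 ∧ Apows23.contains tU24 = false ∧
    compTbl tU24 tA24 = compTbl (powT tA24 2) tU24 ∧
    compTbl tW24 tU24 = compTbl (powT tU24 10) tW24 ∧
    compTbl tC24 tU24 = compTbl (powT tU24 3) tC24 ∧
    relOK24 tA24 tW24 tC24 = true := by
  decide +kernel

set_option maxRecDepth 1000000 in
theorem out24_fixed : (∀ s ∈ List.range 23, s ≠ 0 → ∀ x ∈ List.range 24,
      (Apows23.getD s []).getD x 0 = x → x = 23) ∧
    (∀ x ∈ List.range 24, tU24.getD x 0 = x → x ∈ [23, 0]) ∧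
    (∀ y ∈ List.range 24, memL y ((walkT tA24 tA24 1 23 23 ++ walkT tA24 tA24 23 0 0).map
      Prod.fst) = true) ∧
    (∀ y ∈ List.range 24, memL y ((walkT tU24 tU24 1 23 23 ++ walkT tU24 tU24 1 0 0 ++
      walkT tU24 tU24 11 1 1 ++ walkT tU24 tU24 11 5 5).map Prod.fst) = true) := by
  decide +kernel

set_option maxRecDepth 1000000 in
theorem norm24_check : ((List.range 23).all fun s => (List.range 24).all fun v0 =>
    forceList (normCand s v0) fun C => !okK C || Apows23.contains C ||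
      (List.range 23).any fun m => Upows11.contains
        (compTbl (compTbl (Apows23.getD m []) C) (Apows23.getD ((23 - m) % 23) []))) = true := by
  decide +kernel

set_option maxRecDepth 1000000 in
theorem cent24_check : ([23, 0].all fun f1 => [23, 0].all fun f0 => (List.range 24).all fun p =>
    (List.range 24).all fun q =>
      forceList (centCand f1 f0 p q) fun C => !okK C || Upows11.contains C) = true := by
  decide +kernel

set_option maxRecDepth 1000000 in
theorem rigid24_check : ((List.range 11).all fun j => (List.range 23).all fun k =>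
    Nat.beq k 0 || !(compTbl (Upows11.getD j []) (Apows23.getD k []) ==
      compTbl (powT (Apows23.getD k []) 2) (Upows11.getD j [])) || Nat.beq j 1) = true := by
  decide +kernel

set_option maxRecDepth 1000000 in
theorem cand24_check : ((List.range 23).all fun k => (List.range 11).all fun i =>
    (List.range 11).all fun l =>
      forceList (compTbl tW24 (Upows11.getD i [])) fun W' =>
      forceList (compTbl tC24 (Upows11.getD l [])) fun C' =>
        Nat.beq k 0 || !relOK24 (Apows23.getD k []) W' C' ||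
          (List.range 11).any fun m =>
            (compTbl (Upows11.getD m []) tA24 == compTbl (Apows23.getD k []) (Upows11.getD m [])) &&
            (compTbl (Upows11.getD m []) tW24 == compTbl W' (Upows11.getD m [])) &&
            (compTbl (Upows11.getD m []) tC24 == compTbl C' (Upows11.getD m []))) = true := by
  decide +kernel

end Cfsg.Agent.Lib.helper4
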