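import Mathlib

set_option autoImplicit false

namespace Cfsg.Agent.Lib.helper4

open scoped Pointwise

/-! ### Normalising an automorphism on a Sylow subgroup of prime order and its normaliser -/

theorem exists_pow_of_mem_zpowers {G : Type*} [Group G] [Finite G] {x y : G}
    (h : y ∈ Subgroup.zpowers x) : ∃ k : ℕ, x ^ k = y := by
  have h2 := mem_powers_iff_mem_zpowers.mpr h
  exact (Submonoid.mem_powers_iff y x).mp h2

theorem conj_pow_self {G : Type*} [Group G] (a : G) (m k : ℕ) :
    a ^ m * a ^ k * (a ^ m)⁻¹ = a ^ k := by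
  rw [← pow_add, add_comm, pow_add, mul_inv_cancel_right]

/-- Up to an inner automorphism, an automorphism maps a generator `a` of a Sylow subgroup of
prime order to a power of itself and fixes a given element `u` of its normaliser. -/
theorem aut_normalize {G : Type*} [Group G] [Finite G] (p : ℕ) [hp : Fact p.Prime] (a u : G)
    (r : ℕ) (ha : orderOf a = p) (hfac : (Nat.card G).factorization p = 1)
    (hN : ∀ n : G, n * a * n⁻¹ ∈ Subgroup.zpowers a → n ∉ Subgroup.zpowers a →
      ∃ m : ℕ, a ^ m * n * (a ^ m)⁻¹ ∈ Subgroup.zpowers u)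
    (hu : u ∉ Subgroup.zpowers a) (hrel : u * a * u⁻¹ = a ^ r)
    (hrig : ∀ j k : ℕ, a ^ k ≠ 1 → u ^ j ≠ 1 → u ^ j * a ^ k * (u ^ j)⁻¹ = (a ^ k) ^ r →
      u ^ j = u)
    (α : MulAut G) :
    ∃ (g : G) (k : ℕ), (MulAut.conj g * α) a = a ^ k ∧ (MulAut.conj g * α) u = u := by
  have ha1 : a ≠ 1 := by
    intro h
    rw [h, orderOf_one] at ha
    exact hp.out.ne_one ha.symm
  have hcard : ∀ x : G, orderOf x = p →
      Nat.card ↥(Subgroup.zpowers x) = p ^ (Nat.card G).factorization p := by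
    intro x hx
    rw [Nat.card_zpowers, hx, hfac, pow_one]
  let P : Sylow p G := Sylow.ofCard (Subgroup.zpowers a) (hcard a ha)
  have hαa : orderOf (α a) = p := by rw [MulEquiv.orderOf_eq α a, ha]
  let P' : Sylow p G := Sylow.ofCard (Subgroup.zpowers (α a)) (hcard _ hαa)
  obtain ⟨g₁, hg₁⟩ := MulAction.exists_smul_eq G P' P
  have h1 := Sylow.coe_subgroup_smul (g := g₁) (P := P')
  rw [hg₁] at h1
  have hPc : (P : Subgroup G) = Subgroup.zpowers a := rfl
  have hP'c : (P' : Subgroup G) = Subgroup.zpowers (α a) := rfl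
  rw [hPc, hP'c] at h1
  -- first normalisation
  have hα₁a : (MulAut.conj g₁ * α) a ∈ Subgroup.zpowers a := by
    rw [h1, MulAut.mul_apply]
    have := Subgroup.smul_mem_pointwise_smul (α a) (MulAut.conj g₁)
      (Subgroup.zpowers (α a)) (Subgroup.mem_zpowers _)
    rwa [MulAut.smul_def] at this
  set α₁ : MulAut G := MulAut.conj g₁ * α with hα₁
  obtain ⟨k, hk⟩ := exists_pow_of_mem_zpowers hα₁a
  have hk1 : a ^ k ≠ 1 := by
    rw [hk]
    intro h
    apply ha1
    have : α₁ a = α₁ 1 := by rw [h, map_one]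
    exact α₁.injective this
  have hzk : Subgroup.zpowers (a ^ k) = Subgroup.zpowers a := by
    apply Subgroup.eq_of_le_of_card_ge
    · rw [Subgroup.zpowers_le]
      exact Subgroup.pow_mem _ (Subgroup.mem_zpowers a) k
    · rw [Nat.card_zpowers, Nat.card_zpowers, ha]
      have : orderOf (a ^ k) = p := by
        apply orderOf_eq_prime _ hk1
        rw [← pow_mul, mul_comm, pow_mul, ← ha, pow_orderOf_eq_one, one_pow]
      rw [this]
  obtain ⟨s, hs⟩ : ∃ s : ℕ, (a ^ k) ^ s = a := by
    apply exists_pow_of_mem_zpowers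
    rw [hzk]
    exact Subgroup.mem_zpowers a
  have hα₁s : α₁ (a ^ s) = a := by rw [map_pow, ← hk, hs]
  -- the image of `u` normalises
  have hn1 : α₁ u * a * (α₁ u)⁻¹ ∈ Subgroup.zpowers a := by
    have e : α₁ u * a * (α₁ u)⁻¹ = α₁ (u * a ^ s * u⁻¹) := by
      rw [map_mul, map_mul, map_inv, hα₁s]
    have e2 : u * a ^ s * u⁻¹ = (a ^ r) ^ s := by rw [← hrel, conj_pow]
    rw [e, e2, map_pow, map_pow, ← hk]
    exact Subgroup.pow_mem _ (Subgroup.pow_mem _ (Subgroup.pow_mem _ (Subgroup.mem_zpowers a) k) r) s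
  have hn2 : α₁ u ∉ Subgroup.zpowers a := by
    intro h
    rw [← hzk] at h
    obtain ⟨t, ht⟩ := exists_pow_of_mem_zpowers h
    apply hu
    have : α₁ (a ^ t) = α₁ u := by rw [map_pow, ← hk, ht]
    rw [← α₁.injective this]
    exact Subgroup.pow_mem _ (Subgroup.mem_zpowers a) t
  obtain ⟨m, hm⟩ := hN _ hn1 hn2
  obtain ⟨j, hj⟩ := exists_pow_of_mem_zpowers hm
  refine ⟨a ^ m * g₁, k, ?_, ?_⟩
  · rw [map_mul, mul_assoc, ← hα₁, MulAut.mul_apply, MulAut.conj_apply, ← hk, conj_pow_self]
  · rw [map_mul, mul_assoc, ← hα₁, MulAut.mul_apply, MulAut.conj_apply, ← hj]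
    have hu1 : u ≠ 1 := by
      intro h
      apply hu
      rw [h]
      exact Subgroup.one_mem _
    have hj1 : u ^ j ≠ 1 := by
      rw [hj]
      intro h
      apply hu1
      have h2 : α₁ u = 1 := by
        have h3 : α₁ u = (a ^ m)⁻¹ * (a ^ m * α₁ u * (a ^ m)⁻¹) * a ^ m := by group
        rw [h3, h, mul_one, inv_mul_cancel]
      have : α₁ u = α₁ 1 := by rw [h2, map_one]
      exact α₁.injective this
    apply hrig j k hk1 hj1
    -- apply the conjugated automorphism to the relation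
    set β : MulAut G := MulAut.conj (a ^ m) * α₁ with hβ
    have hβa : β a = a ^ k := by
      rw [hβ, MulAut.mul_apply, MulAut.conj_apply, ← hk, conj_pow_self]
    have hβu : β u = u ^ j := by
      rw [hβ, MulAut.mul_apply, MulAut.conj_apply, ← hj]
    have := congrArg β hrel
    rwa [map_mul, map_mul, map_inv, map_pow, hβa, hβu] at this

end Cfsg.Agent.Lib.helper4
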