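import Mathlib
import Cfsg.Prelude.Def_Sporadic_a
import Cfsg.Prelude.Def_SporadicCombinatorics
import Cfsg.Agent.Lib.helper4.OutM24Data
import Cfsg.Agent.Lib.helper4.RigidAut
import Cfsg.Agent.Lib.helper4.M9
import Cfsg.Agent.Lib.helper4.M24GenB

set_option autoImplicit false

namespace Cfsg.Agent.Lib.helper4

open Cfsg
open scoped Pointwise
open Cfsg.Agent.Lib.Helper12.Golay

/-! ### Every automorphism of the group of the length-24 code is inner -/

theorem allL_of_forall {α : Type*} {l : List α} {p : α → Bool} (h : ∀ a ∈ l, p a = true) :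
    allL l p = true := by
  induction l with
  | nil => rfl
  | cons b l ih =>
    rw [allL, Bool.and_eq_true]
    exact ⟨h b List.mem_cons_self, ih fun a ha => h a (List.mem_cons_of_mem _ ha)⟩

theorem rows_isCode : ∀ r ∈ rows, isCode r = true := by decide +kernel

/-- The table of an element of the group passes the membership test. -/
theorem okK_tblOf {g : Equiv.Perm GolayPt} (hg : g ∈ M24) : okK (tblOf g) = true := by
  have hv := validT_tblOf g
  unfold okK
  rw [Bool.and_eq_true]
  refine ⟨decide_eq_true hv, allL_of_forall ?_⟩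
  intro r hr
  rw [isCodeF_eq, actK_eq]
  have hr24 := rows_lt r hr
  have h1 : permT (tblOf g) • fs r = fs (actT (tblOf g) r) := permT_smul_fs hv hr24
  rw [permT_tblOf] at h1
  have h2 : fs r ∈ supports (golayCode : Set (GolayPt → ZMod 2)) := by
    rw [mem_supports_golayCode_iff, mask_fs hr24]
    exact rows_isCode r hr
  have h3 := smul_mem_supports_of_mem_M24 (M24.inv_mem hg) h2
  rw [h1, mem_supports_golayCode_iff, mask_fs (actT_lt hv.1 r)] at h3
  exact h3

/-- The table of an element of the group. -/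
def tau (x : ↥M24) : List ℕ := tblOf (x : Equiv.Perm GolayPt)

theorem tau_mul (x y : ↥M24) : tau (x * y) = compTbl (tau x) (tau y) := tblOf_mul _ _

theorem tau_one : tau 1 = List.range 24 := tblOf_one

theorem tau_injective : Function.Injective tau := fun _ _ h => Subtype.ext (tblOf_injective h)

theorem tau_pow (x : ↥M24) (n : ℕ) : tau (x ^ n) = powT (tau x) n :=
  powT_of_hom tau tau_mul tau_one x n

/-- The element `t ↦ t + 1`. -/
noncomputable def gA : ↥M24 := ⟨fperm tA24, fperm_mem out24_basic.1⟩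
/-- The element `t ↦ 2 t`. -/
noncomputable def gU : ↥M24 := ⟨fperm tU24, fperm_mem out24_basic.2.1⟩
/-- The element `t ↦ -1 / t`. -/
noncomputable def gW : ↥M24 := ⟨fperm tW24, fperm_mem out24_basic.2.2.1⟩
/-- The cube twist. -/
noncomputable def gC : ↥M24 := ⟨fperm tC24, fperm_mem out24_basic.2.2.2.1⟩

theorem tau_gA : tau gA = tA24 := tblOf_fperm (okK_valid out24_basic.1)
theorem tau_gU : tau gU = tU24 := tblOf_fperm (okK_valid out24_basic.2.1)
theorem tau_gW : tau gW = tW24 := tblOf_fperm (okK_valid out24_basic.2.2.1)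
theorem tau_gC : tau gC = tC24 := tblOf_fperm (okK_valid out24_basic.2.2.2.1)

theorem gA_pow : gA ^ 23 = 1 := by
  apply tau_injective
  rw [tau_pow, tau_gA, out24_basic.2.2.2.2.2.2.1, tau_one]

theorem gA_ne_one : gA ≠ 1 := by
  intro h
  apply out24_basic.2.2.2.2.2.2.2.2.1
  rw [← tau_gA, h, tau_one]

theorem orderOf_gA : orderOf gA = 23 := by
  haveI : Fact (Nat.Prime 23) := ⟨by norm_num⟩
  exact orderOf_eq_prime gA_pow gA_ne_one

theorem gU_pow : gU ^ 11 = 1 := by
  apply tau_injective
  rw [tau_pow, tau_gU, out24_basic.2.2.2.2.2.2.2.1, tau_one]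

theorem gU_ne_one : gU ≠ 1 := by
  intro h
  apply out24_basic.2.2.2.2.2.2.2.2.2.1
  rw [← tau_gU, h, tau_one]

theorem orderOf_gU : orderOf gU = 11 := by
  haveI : Fact (Nat.Prime 11) := ⟨by norm_num⟩
  exact orderOf_eq_prime gU_pow gU_ne_one

theorem tau_gA_pow (i : ℕ) : tau (gA ^ i) = Apows23.getD (i % 23) [] := by
  have h : gA ^ i = gA ^ (i % 23) := by
    rw [← orderOf_gA]
    exact (pow_mod_orderOf gA i).symm
  have hlt : i % 23 < 23 := Nat.mod_lt _ (by norm_num)
  rw [h, tau_pow, tau_gA, out24_basic.2.2.2.2.1,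
    List.getD_eq_getElem _ _ (by simpa using hlt), List.getElem_map, List.getElem_range]

theorem tau_gU_pow (i : ℕ) : tau (gU ^ i) = Upows11.getD (i % 11) [] := by
  have h : gU ^ i = gU ^ (i % 11) := by
    rw [← orderOf_gU]
    exact (pow_mod_orderOf gU i).symm
  have hlt : i % 11 < 11 := Nat.mod_lt _ (by norm_num)
  rw [h, tau_pow, tau_gU, out24_basic.2.2.2.2.2.1,
    List.getD_eq_getElem _ _ (by simpa using hlt), List.getElem_map, List.getElem_range]

theorem mem_Apows23 {T : List ℕ} (h : T ∈ Apows23) : ∃ i : ℕ, T = tau (gA ^ i) := by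
  rw [out24_basic.2.2.2.2.1, List.mem_map] at h
  obtain ⟨i, -, rfl⟩ := h
  exact ⟨i, by rw [tau_pow, tau_gA]⟩

theorem mem_Upows11 {T : List ℕ} (h : T ∈ Upows11) : ∃ i : ℕ, T = tau (gU ^ i) := by
  rw [out24_basic.2.2.2.2.2.1, List.mem_map] at h
  obtain ⟨i, -, rfl⟩ := h
  exact ⟨i, by rw [tau_pow, tau_gU]⟩

theorem tau_getD_lt (x : ↥M24) (i : ℕ) : (tau x).getD i 0 < 24 :=
  getD_lt_of_valid (tblOf_lt _) i

theorem intertwine_tau {n a b : ↥M24} (h : n * a = b * n) :
    ∀ x < 24, (tau n).getD ((tau a).getD x 0) 0 = (tau b).getD ((tau n).getD x 0) 0 := by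
  apply intertwine_of_mul
  have := congrArg Subtype.val h
  rwa [Subgroup.coe_mul, Subgroup.coe_mul] at this

theorem tA24_lt : ∀ x < 24, tA24.getD x 0 < 24 := by decide
theorem tU24_lt : ∀ x < 24, tU24.getD x 0 < 24 := by decide

/-- The normaliser of the subgroup generated by `gA`. -/
theorem norm24 (n : ↥M24) (h1 : n * gA * n⁻¹ ∈ Subgroup.zpowers gA)
    (h2 : n ∉ Subgroup.zpowers gA) :
    ∃ m : ℕ, gA ^ m * n * (gA ^ m)⁻¹ ∈ Subgroup.zpowers gU := by
  haveI : Finite ↥M24 := Nat.finite_of_card_ne_zero (by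
    rw [Cfsg.Agent.Lib.helper3.card_M24]; norm_num)
  obtain ⟨s0, hs0⟩ := exists_pow_of_mem_zpowers h1
  set s := s0 % 23 with hs
  have hslt : s < 23 := Nat.mod_lt _ (by norm_num)
  have hmul : n * gA = gA ^ s0 * n := by rw [hs0]; group
  have hint := intertwine_tau hmul
  rw [tau_gA, tau_gA_pow s0, ← hs] at hint
  set T := tau n with hT
  have hs0' : s ≠ 0 := by
    intro h
    have h3 : gA ^ s0 = 1 := by
      apply tau_injective
      rw [tau_gA_pow s0, ← hs, h, tau_one]
      exact congrArg (fun L => L.getD 0 []) out24_basic.2.2.2.2.1 |>.trans (by rfl)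
    rw [h3] at hs0
    apply gA_ne_one
    have : gA = n⁻¹ * (n * gA * n⁻¹) * n := by group
    rw [this, ← hs0]
    group
  have hT23 : T.getD 23 0 = 23 := by
    have h := hint 23 (by norm_num)
    have e : tA24.getD 23 0 = 23 := by decide
    rw [e] at h
    exact out24_fixed.1 s (List.mem_range.mpr hslt) hs0' _
      (List.mem_range.mpr (tau_getD_lt n 23)) h.symm
  set v0 := T.getD 0 0 with hv0
  have hv0lt : v0 < 24 := tau_getD_lt n 0
  have hsp : ∀ p ∈ walkT tA24 (Apows23.getD s []) 1 23 23 ++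
      walkT tA24 (Apows23.getD s []) 23 0 v0, T.getD p.1 0 = p.2 := by
    intro p hp
    rcases List.mem_append.mp hp with hp | hp
    · exact walkT_spec hint tA24_lt 1 23 23 (by norm_num) hT23 p hp
    · exact walkT_spec hint tA24_lt 23 0 v0 (by norm_num) rfl p hp
  have hcov : ∀ y < 24, memL y ((walkT tA24 (Apows23.getD s []) 1 23 23 ++
      walkT tA24 (Apows23.getD s []) 23 0 v0).map Prod.fst) = true := by
    intro y hy
    rw [List.map_append, walkT_fst, walkT_fst tA24 _ 23 0 v0, ← List.map_append]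
    exact out24_fixed.2.2.1 y (List.mem_range.mpr hy)
  have hTeq : T = normCand s v0 := eq_buildT (tblOf_length _) _ hsp hcov
  have hc := norm24_check
  simp only [List.all_eq_true, List.mem_range] at hc
  have h5 := hc s hslt v0 hv0lt
  have hok : okK T = true := okK_tblOf n.2
  rw [forceList_eq, ← hTeq, hok] at h5
  simp only [Bool.not_true, Bool.false_or, Bool.or_eq_true, List.contains_iff_mem,
    List.any_eq_true, List.mem_range] at h5
  rcases h5 with h5 | ⟨m, hm, h5⟩
  · exfalso
    obtain ⟨i, hi⟩ := mem_Apows23 h5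
    apply h2
    rw [tau_injective hi]
    exact Subgroup.pow_mem _ (Subgroup.mem_zpowers gA) i
  · refine ⟨m, ?_⟩
    obtain ⟨j, hj⟩ := mem_Upows11 h5
    have hinv : (gA ^ m)⁻¹ = gA ^ (23 - m) := by
      rw [inv_eq_iff_mul_eq_one, ← pow_add, Nat.add_sub_cancel' hm.le, gA_pow]
    have e : gA ^ m * n * (gA ^ m)⁻¹ = gU ^ j := by
      apply tau_injective
      rw [hinv, tau_mul, tau_mul, tau_gA_pow m, tau_gA_pow (23 - m), Nat.mod_eq_of_lt hm, ← hT, hj]
    rw [e]
    exact Subgroup.pow_mem _ (Subgroup.mem_zpowers gU) j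

/-- The centraliser of `gU`. -/
theorem cent24 (x : ↥M24) (h : x * gU = gU * x) : x ∈ Subgroup.zpowers gU := by
  have hint := intertwine_tau h
  rw [tau_gU] at hint
  set T := tau x with hT
  have hfix : ∀ y < 24, tU24.getD y 0 = y → T.getD y 0 ∈ [23, 0] := by
    intro y hy hyf
    have h1 := hint y hy
    rw [hyf] at h1
    exact out24_fixed.2.1 _ (List.mem_range.mpr (tau_getD_lt x y)) h1.symm
  have hf1 := hfix 23 (by norm_num) (by decide)
  have hf0 := hfix 0 (by norm_num) (by decide)
  set f1 := T.getD 23 0 with hf1'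
  set f0 := T.getD 0 0 with hf0'
  set p := T.getD 1 0 with hp'
  set q := T.getD 5 0 with hq'
  have hsp : ∀ r ∈ walkT tU24 tU24 1 23 f1 ++ walkT tU24 tU24 1 0 f0 ++ walkT tU24 tU24 11 1 p ++
      walkT tU24 tU24 11 5 q, T.getD r.1 0 = r.2 := by
    intro r hr
    rcases List.mem_append.mp hr with hr | hr
    · rcases List.mem_append.mp hr with hr | hr
      · rcases List.mem_append.mp hr with hr | hr
        · exact walkT_spec hint tU24_lt 1 23 f1 (by norm_num) rfl r hr
        · exact walkT_spec hint tU24_lt 1 0 f0 (by norm_num) rfl r hr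
      · exact walkT_spec hint tU24_lt 11 1 p (by norm_num) rfl r hr
    · exact walkT_spec hint tU24_lt 11 5 q (by norm_num) rfl r hr
  have hcov : ∀ y < 24, memL y ((walkT tU24 tU24 1 23 f1 ++ walkT tU24 tU24 1 0 f0 ++
      walkT tU24 tU24 11 1 p ++ walkT tU24 tU24 11 5 q).map Prod.fst) = true := by
    intro y hy
    rw [List.map_append, List.map_append, List.map_append, walkT_fst tU24 tU24 1 23 f1,
      walkT_fst tU24 tU24 1 0 f0, walkT_fst tU24 tU24 11 1 p, walkT_fst tU24 tU24 11 5 q,
      ← List.map_append, ← List.map_append, ← List.map_append]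
    exact out24_fixed.2.2.2 y (List.mem_range.mpr hy)
  have hTeq : T = centCand f1 f0 p q := eq_buildT (tblOf_length _) _ hsp hcov
  have hc := cent24_check
  simp only [List.all_eq_true, List.mem_range] at hc
  have h5 := hc f1 hf1 f0 hf0 p (tau_getD_lt x 1) q (tau_getD_lt x 5)
  have hok : okK T = true := okK_tblOf x.2
  rw [forceList_eq, ← hTeq, hok] at h5
  simp only [Bool.not_true, Bool.false_or, List.contains_iff_mem] at h5
  obtain ⟨j, hj⟩ := mem_Upows11 h5
  rw [tau_injective hj]
  exact Subgroup.pow_mem _ (Subgroup.mem_zpowers gU) j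

end Cfsg.Agent.Lib.helper4
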