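import Mathlib
import Cfsg.Prelude.Def_Sporadic_a
import Cfsg.Prelude.Def_SporadicCombinatorics
import Cfsg.Prelude.Def_KGroupFacts
import Cfsg.Agent.Lib.helper4.OutM24

set_option autoImplicit false

namespace Cfsg.Agent.Lib.helper4

open Cfsg
open scoped Pointwise
open Cfsg.Agent.Lib.Helper12.Golay

theorem finite_M24_sub : Finite ↥M24 := Nat.finite_of_card_ne_zero (by
  rw [Cfsg.Agent.Lib.helper3.card_M24]; norm_num)

theorem factorization_M24_23 : (Nat.card ↥M24).factorization 23 = 1 := by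
  rw [Cfsg.Agent.Lib.helper3.card_M24]
  have h : 244823040 = 23 * 10644480 := by norm_num
  rw [h, Nat.factorization_mul (by norm_num) (by norm_num), Finsupp.add_apply,
    Nat.Prime.factorization_self (by norm_num), Nat.factorization_eq_zero_of_not_dvd (by norm_num)]

theorem gU_not_mem : gU ∉ Subgroup.zpowers gA := by
  haveI := finite_M24_sub
  intro h
  obtain ⟨k, hk⟩ := exists_pow_of_mem_zpowers h
  have h1 := out24_basic.2.2.2.2.2.2.2.2.2.2.1
  have h2 : tU24 ∈ Apows23 := by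
    rw [← tau_gU, ← hk, tau_gA_pow k, out24_basic.2.2.2.2.1]
    have hlt : k % 23 < 23 := Nat.mod_lt _ (by norm_num)
    rw [List.getD_eq_getElem _ _ (by simpa using hlt)]
    exact List.getElem_mem _
  rw [← List.contains_iff_mem, h1] at h2
  exact Bool.false_ne_true h2

theorem gU_gA : gU * gA * gU⁻¹ = gA ^ 2 := by
  rw [mul_inv_eq_iff_eq_mul]
  apply tau_injective
  rw [tau_mul, tau_mul, tau_pow, tau_gA, tau_gU]
  exact out24_basic.2.2.2.2.2.2.2.2.2.2.2.1

theorem gW_gU : gW * gU = gU ^ 10 * gW := by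
  apply tau_injective
  rw [tau_mul, tau_mul, tau_pow, tau_gW, tau_gU]
  exact out24_basic.2.2.2.2.2.2.2.2.2.2.2.2.1

theorem gC_gU : gC * gU = gU ^ 3 * gC := by
  apply tau_injective
  rw [tau_mul, tau_mul, tau_pow, tau_gC, tau_gU]
  exact out24_basic.2.2.2.2.2.2.2.2.2.2.2.2.2.1

theorem rigid24 (j k : ℕ) (hk : gA ^ k ≠ 1) (_hj : gU ^ j ≠ 1)
    (h : gU ^ j * gA ^ k * (gU ^ j)⁻¹ = (gA ^ k) ^ 2) : gU ^ j = gU := by
  rw [mul_inv_eq_iff_eq_mul] at h
  have hk0 : k % 23 ≠ 0 := by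
    intro h0
    apply hk
    apply tau_injective
    rw [tau_gA_pow k, h0, tau_one, out24_basic.2.2.2.2.1]
    rfl
  have ht := congrArg tau h
  rw [tau_mul, tau_mul, tau_gU_pow j, tau_pow (gA ^ k) 2, tau_gA_pow k] at ht
  have hc := rigid24_check
  simp only [List.all_eq_true, List.mem_range] at hc
  have h5 := hc (j % 11) (Nat.mod_lt _ (by norm_num)) (k % 23) (Nat.mod_lt _ (by norm_num))
  rw [Bool.or_eq_true, Bool.or_eq_true, natBeq_iff, natBeq_iff, Bool.not_eq_true',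
    ← Bool.not_eq_true, beq_iff_eq] at h5
  rcases h5 with (h5 | h5) | h5
  · exact absurd h5 hk0
  · exact absurd ht h5
  · have : gU ^ j = gU ^ (j % 11) := by
      rw [← orderOf_gU]
      exact (pow_mod_orderOf gU j).symm
    rw [this, h5, pow_one]

/-- Up to an inner automorphism, an automorphism maps `gA` to a power and fixes `gU`. -/
theorem aut24_normalize (α : MulAut ↥M24) :
    ∃ (g : ↥M24) (k : ℕ), (MulAut.conj g * α) gA = gA ^ k ∧ (MulAut.conj g * α) gU = gU := by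
  haveI := finite_M24_sub
  haveI : Fact (Nat.Prime 23) := ⟨by norm_num⟩
  exact aut_normalize 23 gA gU 2 orderOf_gA factorization_M24_23 norm24 gU_not_mem gU_gA rigid24 α

/-- The relators hold for the images of the generators under any endomorphism. -/
theorem relOK24_hom (β : ↥M24 →* ↥M24) : relOK24 (tau (β gA)) (tau (β gW)) (tau (β gC)) = true := by
  have h0 := out24_basic.2.2.2.2.2.2.2.2.2.2.2.2.2.2
  unfold relOK24 at h0 ⊢
  simp only [Bool.and_eq_true] at h0 ⊢
  obtain ⟨⟨⟨r1, r2⟩, r3⟩, r4⟩ := h0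
  have key : ∀ (x : ↥M24) (n : ℕ), isIdT (powT (tau x) n) = true → isIdT (powT (tau (β x)) n) = true := by
    intro x n hx
    unfold isIdT at hx ⊢
    rw [beq_iff_eq] at hx ⊢
    have h1 : x ^ n = 1 := tau_injective (by rw [tau_pow, hx, tau_one])
    rw [← tau_pow, ← map_pow, h1, map_one, tau_one]
  refine ⟨⟨⟨?_, ?_⟩, ?_⟩, ?_⟩
  · have := key (gA * gW) 3 (by rw [tau_mul, tau_gA, tau_gW]; exact r1)
    rwa [map_mul, tau_mul] at this
  · have := key (gA * gC) 6 (by rw [tau_mul, tau_gA, tau_gC]; exact r2)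
    rwa [map_mul, tau_mul] at this
  · have := key (gA * (gW * gC)) 23 (by rw [tau_mul, tau_mul, tau_gA, tau_gW, tau_gC]; exact r3)
    rwa [map_mul, map_mul, tau_mul, tau_mul] at this
  · have := key (gA * (gC * gW)) 23 (by rw [tau_mul, tau_mul, tau_gA, tau_gW, tau_gC]; exact r4)
    rwa [map_mul, map_mul, tau_mul, tau_mul] at this

/-- An element conjugating `gU` like `y` does differs from `y` by a power of `gU`. -/
theorem image_of_rel (β : MulAut ↥M24) (hβU : β gU = gU) (y : ↥M24) (e : ℕ)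
    (hy : y * gU = gU ^ e * y) : ∃ i : ℕ, β y = y * gU ^ i := by
  haveI := finite_M24_sub
  have h1 : β y * gU = gU ^ e * β y := by
    have := congrArg β hy
    rwa [map_mul, map_mul, map_pow, hβU] at this
  have h2 : (y⁻¹ * β y) * gU = gU * (y⁻¹ * β y) := by
    have e1 : y⁻¹ * gU ^ e = gU * y⁻¹ := by
      rw [inv_mul_eq_iff_eq_mul, ← mul_assoc, hy, mul_inv_cancel_right]
    rw [mul_assoc, h1, ← mul_assoc, e1, mul_assoc]
  obtain ⟨i, hi⟩ := exists_pow_of_mem_zpowers (cent24 _ h2)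
  exact ⟨i, by rw [hi, mul_inv_cancel_left]⟩

theorem shift_eq : (Equiv.optionCongr (Equiv.addRight (1 : ZMod 23)) : Equiv.Perm GolayPt) =
    fperm tA24 :=
  eq_fperm_of_tblOf (okK_valid out24_basic.1) (by decide)

theorem projInv_eq : Cfsg.projInv = fperm tW24 :=
  eq_fperm_of_tblOf (okK_valid out24_basic.2.2.1) (by decide)

theorem cubeTwist_eq : Cfsg.cubeTwist = fperm tC24 := by
  apply eq_fperm_of_tblOf (okK_valid out24_basic.2.2.2.1)
  unfold tblOf
  have h : ∀ p : GolayPt, Cfsg.cubeTwist p = Cfsg.cubeTwistFun p := fun p => by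
    unfold Cfsg.cubeTwist
    rw [Equiv.ofBijective_apply]
  simp only [h]
  decide

/-- Two automorphisms agreeing on the three generators are equal. -/
theorem aut_ext24 (β γ : MulAut ↥M24) (hA : β gA = γ gA) (hW : β gW = γ gW) (hC : β gC = γ gC) :
    β = γ := by
  have key : ∀ y : Equiv.Perm GolayPt, y ∈ Subgroup.closure
      {Equiv.optionCongr (Equiv.addRight (1 : ZMod 23)), Cfsg.projInv, Cfsg.cubeTwist} →
      ∃ hy : y ∈ M24, β ⟨y, hy⟩ = γ ⟨y, hy⟩ := by
    intro y hy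
    induction hy using Subgroup.closure_induction with
    | mem x hx =>
      rcases hx with rfl | rfl | rfl
      · refine ⟨Cfsg.Agent.Lib.helper3.shift_mem, ?_⟩
        have : (⟨_, Cfsg.Agent.Lib.helper3.shift_mem⟩ : ↥M24) = gA := Subtype.ext shift_eq
        rw [this, hA]
      · refine ⟨Cfsg.Agent.Lib.helper3.projInv_mem, ?_⟩
        have : (⟨_, Cfsg.Agent.Lib.helper3.projInv_mem⟩ : ↥M24) = gW := Subtype.ext projInv_eq
        rw [this, hW]
      · refine ⟨Cfsg.Agent.Lib.helper3.cubeTwist_mem, ?_⟩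
        have : (⟨_, Cfsg.Agent.Lib.helper3.cubeTwist_mem⟩ : ↥M24) = gC := Subtype.ext cubeTwist_eq
        rw [this, hC]
    | one =>
      refine ⟨M24.one_mem, ?_⟩
      have : (⟨1, M24.one_mem⟩ : ↥M24) = 1 := rfl
      rw [this, map_one, map_one]
    | mul x y _ _ ihx ihy =>
      obtain ⟨hx, ex⟩ := ihx
      obtain ⟨hy, ey⟩ := ihy
      refine ⟨M24.mul_mem hx hy, ?_⟩
      have : (⟨x * y, M24.mul_mem hx hy⟩ : ↥M24) = ⟨x, hx⟩ * ⟨y, hy⟩ := rfl
      rw [this, map_mul, map_mul, ex, ey]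
    | inv x _ ihx =>
      obtain ⟨hx, ex⟩ := ihx
      refine ⟨M24.inv_mem hx, ?_⟩
      have : (⟨x⁻¹, M24.inv_mem hx⟩ : ↥M24) = (⟨x, hx⟩ : ↥M24)⁻¹ := rfl
      rw [this, map_inv, map_inv, ex]
  apply MulEquiv.ext
  intro x
  obtain ⟨hx, e⟩ := key x.1 (by rw [closure_eq_M24]; exact x.2)
  exact e

end Cfsg.Agent.Lib.helper4
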