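import Mathlib
import Cfsg.Prelude.Def_Sporadic_a
import Cfsg.Prelude.Def_Spor_Mathieu
import Cfsg.Agent.Lib.helper4.M23GenData
import Cfsg.Agent.Lib.helper4.OutM24B

set_option autoImplicit false

namespace Cfsg.Agent.Lib.helper4

open Cfsg Cfsg.Agent.Lib.helper3

/-! ### The point stabiliser is generated by `t ↦ t + 1`, `t ↦ 2 t` and the cube twist -/

/-- The tables computed by the straight-line program. -/
def g23Tabs : List (List ℕ) := evalSLP g23Prog 3 [g23C, g23U, g23A]

/-- The transversal certificate for the levels `1, …, 6`. -/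
def cert23 : Bool :=
  (List.range 7).all fun i => (List.range 24).all fun q =>
    Nat.beq i 0 || !(m24Orb.getD i 0).testBit q ||
      ((((g23Tabs.getD ((g23Pos.getD i []).getD q 0) []).length == 24) &&
        ((g23Tabs.getD ((g23Pos.getD i []).getD q 0) []).getD (m24Base.getD i 0) 0 == q)) &&
        (List.range i).all fun j =>
          (g23Tabs.getD ((g23Pos.getD i []).getD q 0) []).getD (m24Base.getD j 0) 0
            == m24Base.getD j 0)

set_option maxRecDepth 1000000 in
theorem cert23_true : cert23 = true := by decide +kernel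

/-- The subgroup generated by the three permutations fixing `∞`. -/
noncomputable def H23 : Subgroup (Equiv.Perm GolayPt) :=
  Subgroup.closure {fperm tA24, fperm tU24, fperm tC24}

/-- The subgroup generated by their conjugates under `t ↦ -1 / t`, which fix `0`. -/
noncomputable def H23' : Subgroup (Equiv.Perm GolayPt) :=
  Subgroup.closure {fperm g23A, fperm g23U, fperm g23C}

theorem g23_valid : Cfsg.Agent.Lib.Helper12.Golay.ValidT g23A ∧
    Cfsg.Agent.Lib.Helper12.Golay.ValidT g23U ∧ Cfsg.Agent.Lib.Helper12.Golay.ValidT g23C := by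
  decide

theorem g23_conj : compTbl (compTbl tW24 tA24) tW24 = g23A ∧
    compTbl (compTbl tW24 tU24) tW24 = g23U ∧ compTbl (compTbl tW24 tC24) tW24 = g23C ∧
    compTbl tW24 tW24 = List.range 24 := by
  decide

theorem validT_W24 : Cfsg.Agent.Lib.Helper12.Golay.ValidT tW24 :=
  Cfsg.Agent.Lib.Helper12.Golay.okK_valid out24_basic.2.2.1

theorem fpermW_sq : fperm tW24 * fperm tW24 = 1 := by
  apply tblOf_injective
  rw [tblOf_mul, tblOf_fperm validT_W24, g23_conj.2.2.2, tblOf_one]

theorem fpermW_inv : (fperm tW24)⁻¹ = fperm tW24 := inv_eq_of_mul_eq_one_left fpermW_sq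

theorem conjW_A : fperm tW24 * fperm tA24 * fperm tW24 = fperm g23A := by
  apply eq_fperm_of_tblOf g23_valid.1
  rw [tblOf_mul, tblOf_mul, tblOf_fperm validT_W24,
    tblOf_fperm (Cfsg.Agent.Lib.Helper12.Golay.okK_valid out24_basic.1), g23_conj.1]

theorem conjW_U : fperm tW24 * fperm tU24 * fperm tW24 = fperm g23U := by
  apply eq_fperm_of_tblOf g23_valid.2.1
  rw [tblOf_mul, tblOf_mul, tblOf_fperm validT_W24,
    tblOf_fperm (Cfsg.Agent.Lib.Helper12.Golay.okK_valid out24_basic.2.1), g23_conj.2.1]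

theorem conjW_C : fperm tW24 * fperm tC24 * fperm tW24 = fperm g23C := by
  apply eq_fperm_of_tblOf g23_valid.2.2
  rw [tblOf_mul, tblOf_mul, tblOf_fperm validT_W24,
    tblOf_fperm (Cfsg.Agent.Lib.Helper12.Golay.okK_valid out24_basic.2.2.2.1), g23_conj.2.2.1]

theorem fpermW_mem : fperm tW24 ∈ M24 := fperm_mem out24_basic.2.2.1

theorem H23'_le : H23' ≤ M24 := by
  unfold H23'
  rw [Subgroup.closure_le]
  intro g hg
  rcases hg with rfl | rfl | rfl
  · rw [← conjW_A]
    exact M24.mul_mem (M24.mul_mem fpermW_mem (fperm_mem out24_basic.1)) fpermW_mem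
  · rw [← conjW_U]
    exact M24.mul_mem (M24.mul_mem fpermW_mem (fperm_mem out24_basic.2.1)) fpermW_mem
  · rw [← conjW_C]
    exact M24.mul_mem (M24.mul_mem fpermW_mem (fperm_mem out24_basic.2.2.2.1)) fpermW_mem

theorem tblFun_bridge {L : List ℕ} (hlt : ∀ x ∈ L, x < 24) (p : GolayPt) :
    Cfsg.Agent.Lib.Helper12.Golay.tblFun L p = tblFun L p := by
  unfold Cfsg.Agent.Lib.Helper12.Golay.tblFun tblFun
  rw [gidx_eq_idx_all, gpt_eq_pt (getD_lt_of_valid hlt _)]

theorem realIn_fperm (H : Subgroup (Equiv.Perm GolayPt)) {L : List ℕ}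
    (hv : Cfsg.Agent.Lib.Helper12.Golay.ValidT L) (h : fperm L ∈ H) : RealIn H L :=
  ⟨hv.1, hv.2.1, fperm L, h, fun p => by rw [fperm_apply hv p, tblFun_bridge hv.2.1]⟩

theorem realIn_gens23 : ∀ L ∈ [g23C, g23U, g23A], RealIn H23' L := by
  intro L hL
  simp only [List.mem_cons, List.not_mem_nil, or_false] at hL
  rcases hL with rfl | rfl | rfl
  · exact realIn_fperm _ g23_valid.2.2 (Subgroup.subset_closure (by simp))
  · exact realIn_fperm _ g23_valid.2.1 (Subgroup.subset_closure (by simp))
  · exact realIn_fperm _ g23_valid.1 (Subgroup.subset_closure (by simp))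

theorem level23 : ∀ i < 7, i ≠ 0 → ∀ q < 24, (m24Orb.getD i 0).testBit q = true →
    ∃ u ∈ H23', (∀ j < i, u (bpt j) = bpt j) ∧ u (bpt i) = gpt q := by
  intro i hi hi0 q hq h
  have hc := cert23_true
  unfold cert23 at hc
  rw [List.all_eq_true] at hc
  have h1 := hc i (List.mem_range.2 hi)
  rw [List.all_eq_true] at h1
  have h2 := h1 q (List.mem_range.2 hq)
  rw [h] at h2
  have hb : Nat.beq i 0 = false := by
    rw [← Bool.not_eq_true, Cfsg.Agent.Lib.Helper12.Golay.natBeq_iff]
    exact hi0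
  rw [hb] at h2
  simp only [Bool.not_true, Bool.false_or, Bool.and_eq_true, beq_iff_eq, List.all_eq_true,
    List.mem_range] at h2
  obtain ⟨⟨hlen, hq'⟩, hfix⟩ := h2
  set k := (g23Pos.getD i []).getD q 0 with hk
  set L := g23Tabs.getD k [] with hL
  have hmem : L ∈ g23Tabs := by
    by_cases hk' : k < g23Tabs.length
    · rw [hL, List.getD_eq_getElem _ _ hk']
      exact List.getElem_mem hk'
    · exfalso
      rw [hL, List.getD_eq_default _ _ (by omega)] at hlen
      simp at hlen
  obtain ⟨-, -, g, hg, hgf⟩ := realIn_evalSLP H23' g23Prog 3 _ realIn_gens23 L hmem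
  refine ⟨g, hg, ?_, ?_⟩
  · intro j hj
    show g (gpt (bIdx j)) = gpt (bIdx j)
    rw [hgf, tblFun_gpt (bIdx_lt j)]
    exact congrArg gpt (hfix j hj)
  · show g (gpt (bIdx i)) = gpt q
    rw [hgf, tblFun_gpt (bIdx_lt i)]
    exact congrArg gpt hq'

theorem Kfix_le_H23' : ∀ k : ℕ, k ≤ 6 → ∀ g ∈ Kfix (7 - k), g ∈ H23' := by
  intro k
  induction k with
  | zero =>
    intro _ g hg
    rw [Nat.sub_zero, Kfix_seven, Subgroup.mem_bot] at hg
    rw [hg]
    exact H23'.one_mem
  | succ k ih =>
    intro hk g hg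
    set i := 7 - (k + 1) with hi
    have hi7 : i < 7 := by omega
    have hi0 : i ≠ 0 := by omega
    have hsucc : 7 - k = i + 1 := by omega
    have hgK := mem_Kfix.mp hg
    have horb : (g (bpt i)) ∈ MulAction.orbit (Kfix i) (bpt i) :=
      ⟨⟨g, hg⟩, rfl⟩
    rw [orbit_Kfix hi7, Finset.mem_coe, mem_gset] at horb
    obtain ⟨u, hu, hufix, humap⟩ := level23 i hi7 hi0 _ (gidx_lt _) horb
    rw [gpt_gidx] at humap
    have huK : u ∈ Kfix i := mem_Kfix.mpr ⟨H23'_le hu, hufix⟩
    have hnext : u⁻¹ * g ∈ Kfix (i + 1) := by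
      rw [mem_Kfix_succ]
      refine ⟨(Kfix i).mul_mem ((Kfix i).inv_mem huK) hg, ?_⟩
      rw [Equiv.Perm.mul_apply, Equiv.Perm.inv_eq_iff_eq, humap]
    rw [← hsucc] at hnext
    have := ih (by omega) _ hnext
    have hgu : g = u * (u⁻¹ * g) := by group
    rw [hgu]
    exact H23'.mul_mem hu this

theorem conjW_H23' : ∀ y ∈ H23', fperm tW24 * y * fperm tW24 ∈ H23 := by
  intro y hy
  unfold H23' at hy
  induction hy using Subgroup.closure_induction with
  | mem x hx =>
    have key : ∀ s : Equiv.Perm GolayPt, s ∈ H23 →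
        fperm tW24 * (fperm tW24 * s * fperm tW24) * fperm tW24 ∈ H23 := by
      intro s hs
      have e : fperm tW24 * (fperm tW24 * s * fperm tW24) * fperm tW24 =
          (fperm tW24 * fperm tW24) * s * (fperm tW24 * fperm tW24) := by group
      rw [e, fpermW_sq, one_mul, mul_one]
      exact hs
    rcases hx with rfl | rfl | rfl
    · rw [← conjW_A]
      exact key _ (Subgroup.subset_closure (by simp))
    · rw [← conjW_U]
      exact key _ (Subgroup.subset_closure (by simp))
    · rw [← conjW_C]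
      exact key _ (Subgroup.subset_closure (by simp))
  | one =>
    rw [mul_one, fpermW_sq]
    exact H23.one_mem
  | mul x y _ _ ihx ihy =>
    have e : fperm tW24 * (x * y) * fperm tW24 =
        (fperm tW24 * x * fperm tW24) * (fperm tW24 * y * fperm tW24) := by
      have : (fperm tW24 * x * fperm tW24) * (fperm tW24 * y * fperm tW24) =
          fperm tW24 * x * (fperm tW24 * fperm tW24) * y * fperm tW24 := by group
      rw [this, fpermW_sq, mul_one]
      group
    rw [e]
    exact H23.mul_mem ihx ihy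
  | inv x _ ihx =>
    have e : fperm tW24 * x⁻¹ * fperm tW24 = (fperm tW24 * x * fperm tW24)⁻¹ := by
      rw [mul_inv_rev, mul_inv_rev, fpermW_inv, mul_assoc]
    rw [e]
    exact H23.inv_mem ihx

theorem fpermW_zero : fperm tW24 (some 0) = none := by
  rw [fperm_apply validT_W24]
  decide

/-- **The stabiliser of `∞` is generated by the three permutations.** -/
theorem M23_le_H23 : Cfsg.Spor.M23 ≤ H23 := by
  intro x hx
  unfold Cfsg.Spor.M23 at hx
  obtain ⟨hx24, hxfix⟩ := Subgroup.mem_inf.mp hx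
  rw [MulAction.mem_stabilizer_iff, Equiv.Perm.smul_def] at hxfix
  have hK : fperm tW24 * x * fperm tW24 ∈ Kfix 1 := by
    rw [mem_Kfix]
    refine ⟨M24.mul_mem (M24.mul_mem fpermW_mem hx24) fpermW_mem, ?_⟩
    intro j hj
    have hj0 : j = 0 := by omega
    subst hj0
    have hb : bpt 0 = some 0 := by decide
    rw [hb, Equiv.Perm.mul_apply, Equiv.Perm.mul_apply, fpermW_zero, hxfix,
      ← fpermW_zero, ← Equiv.Perm.mul_apply, fpermW_sq, Equiv.Perm.one_apply]
  have h1 := Kfix_le_H23' 6 le_rfl _ hK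
  have h2 := conjW_H23' _ h1
  have e : fperm tW24 * (fperm tW24 * x * fperm tW24) * fperm tW24 =
      (fperm tW24 * fperm tW24) * x * (fperm tW24 * fperm tW24) := by group
  rw [e, fpermW_sq, one_mul, mul_one] at h2
  exact h2

end Cfsg.Agent.Lib.helper4
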