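import Mathlib
import Cfsg.Prelude.Def_Sporadic_a
import Cfsg.Agent.Lib.helper4.ElemClassData

set_option autoImplicit false

namespace Cfsg.Agent.Lib.helper4

open Cfsg
open Cfsg.Agent.Lib.Helper12.Golay

/-! ### Table-level predicates -/

/-- Number of fixed points of a table. -/
def fixCount (L : List ℕ) : ℕ := ((List.range 24).filter fun i => Nat.beq (L.getD i 0) i).length

theorem card_fixed_eq (g : Equiv.Perm GolayPt) :
    (Finset.univ.filter fun p => g p = p).card = fixCount (tblOf g) := by
  classical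
  unfold fixCount
  have h1 : (Finset.univ.filter fun p => g p = p) =
      (((List.range 24).filter fun i => Nat.beq ((tblOf g).getD i 0) i).map pt).toFinset := by
    ext p
    simp only [Finset.mem_filter, Finset.mem_univ, true_and, List.mem_toFinset, List.mem_map,
      List.mem_filter, List.mem_range, natBeq_iff]
    constructor
    · intro hp
      refine ⟨idx p, ⟨idx_lt p, ?_⟩, pt_idx p⟩
      rw [tblOf_getD g (idx_lt p), pt_idx, hp]
    · rintro ⟨i, ⟨hi, hfi⟩, rfl⟩
      rw [tblOf_getD g hi] at hfi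
      have := congrArg pt hfi
      rwa [pt_idx] at this
  rw [h1, List.toFinset_card_of_nodup, List.length_map]
  refine (List.nodup_map_iff_inj_on (List.nodup_range.filter _)).mpr ?_
  intro a ha b hb hab
  rw [List.mem_filter, List.mem_range] at ha hb
  exact pt_injOn ha.1 hb.1 hab

theorem fixCount_pos_iff (g : Equiv.Perm GolayPt) : 0 < fixCount (tblOf g) ↔ ∃ p, g p = p := by
  rw [← card_fixed_eq, Finset.card_pos]
  constructor
  · rintro ⟨p, hp⟩
    exact ⟨p, (Finset.mem_filter.mp hp).2⟩
  · rintro ⟨p, hp⟩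
    exact ⟨p, Finset.mem_filter.mpr ⟨Finset.mem_univ _, hp⟩⟩

/-- Table test for order dividing 3. -/
def cube1 (L : List ℕ) : Bool := compTbl L (compTbl L L) == List.range 24
/-- Table test for order dividing 2. -/
def sq1 (L : List ℕ) : Bool := compTbl L L == List.range 24

theorem cube1_of_pow {g : Equiv.Perm GolayPt} (h : g ^ 3 = 1) : cube1 (tblOf g) = true := by
  unfold cube1
  have e : g * (g * g) = 1 := by rw [← h, pow_succ, pow_two, mul_assoc]
  rw [← tblOf_mul, ← tblOf_mul, ← tblOf_one, beq_iff_eq, e]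

theorem sq1_of_pow {g : Equiv.Perm GolayPt} (h : g ^ 2 = 1) : sq1 (tblOf g) = true := by
  unfold sq1
  have e : g * g = 1 := (pow_two g).symm.trans h
  rw [← tblOf_mul, ← tblOf_one, beq_iff_eq, e]

/-- Table test for conjugacy to `R` by one of the listed tables. -/
def conjPost (R : List ℕ) (conjs : List (List ℕ)) (C : List ℕ) : Bool :=
  conjs.any fun W => compTbl W C == compTbl R W

theorem conjPost_spec {R : List ℕ} {conjs : List (List ℕ)} (hR : ValidT R)
    (hok : ∀ W ∈ conjs, okK W = true) {g : Equiv.Perm GolayPt}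
    (h : conjPost R conjs (tblOf g) = true) : ∃ w ∈ M24, w * g * w⁻¹ = fperm R := by
  unfold conjPost at h
  rw [List.any_eq_true] at h
  obtain ⟨W, hW, e⟩ := h
  rw [beq_iff_eq] at e
  have hv := okK_valid (hok W hW)
  refine ⟨fperm W, fperm_mem (hok W hW), ?_⟩
  have : fperm W * g = fperm R * fperm W := by
    apply tblOf_injective
    rw [tblOf_mul, tblOf_mul, tblOf_fperm hv, tblOf_fperm hR, e]
  rw [this]
  group

/-- Conjugating an element of the group of the code so that five given points become the base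
points. -/
theorem conj_base {g : Equiv.Perm GolayPt} (hg : g ∈ M24) (x : Fin 5 ↪ GolayPt) :
    ∃ k ∈ M24, (∀ j : Fin 5, k (x j) = pt (b5 j)) ∧ k * g * k⁻¹ ∈ M24 ∧
      ∀ j : Fin 5, (k * g * k⁻¹) (pt (b5 j)) = k (g (x j)) := by
  obtain ⟨k, hk, hkx⟩ := Cfsg.Agent.Lib.helper3.reach_emb x
  have hkx' : ∀ j : Fin 5, k (x j) = pt (b5 j) := fun j => by rw [hkx j, bpt_eq j.2]
  refine ⟨k, hk, hkx', M24.mul_mem (M24.mul_mem hk hg) (M24.inv_mem hk), fun j => ?_⟩
  rw [Equiv.Perm.mul_apply, Equiv.Perm.mul_apply, ← hkx' j]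
  simp

set_option maxRecDepth 100000 in
theorem class_oks : (∀ W ∈ fam3A, okK W = true) ∧ (∀ W ∈ fam3B, okK W = true) ∧
    (∀ W ∈ fam2A, okK W = true) ∧ (∀ W ∈ fam2B, okK W = true) ∧
    (∀ W ∈ conj3A, okK W = true) ∧ (∀ W ∈ conj3B, okK W = true) ∧
    (∀ W ∈ conj2A, okK W = true) ∧ (∀ W ∈ conj2B, okK W = true) ∧
    okK rep3A = true ∧ okK rep3B = true ∧ okK rep2A = true ∧ okK rep2B = true := by
  decide +kernel

set_option maxRecDepth 100000 in
theorem check3A : candCheck fam3A cube1
    (fun C => (C == List.range 24) || (Nat.beq (fixCount C) 6 && conjPost rep3A conj3A C)) = true := by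
  decide +kernel

set_option maxRecDepth 100000 in
theorem check3B : candCheck fam3B (fun C => cube1 C && Nat.beq (fixCount C) 0)
    (conjPost rep3B conj3B) = true := by
  decide +kernel

set_option maxRecDepth 100000 in
theorem check2A : candCheck fam2A sq1
    (fun C => (C == List.range 24) || (Nat.beq (fixCount C) 8 && conjPost rep2A conj2A C)) = true := by
  decide +kernel

set_option maxRecDepth 100000 in
theorem check2B : candCheck fam2B (fun C => sq1 C && Nat.beq (fixCount C) 0)
    (conjPost rep2B conj2B) = true := by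
  decide +kernel

end Cfsg.Agent.Lib.helper4
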