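import Mathlib
import Cfsg.Prelude.Def_Sporadic_a
import Cfsg.Agent.Lib.helper4.ElemClass
import Cfsg.Agent.Lib.Helper12.Golay.Trans

set_option autoImplicit false

namespace Cfsg.Agent.Lib.helper4

open Cfsg
open Cfsg.Agent.Lib.Helper12.Golay

/-! ### Conjugacy classes of elements of order 2 and 3 -/

theorem card_fixed_conj (g k : Equiv.Perm GolayPt) :
    (Finset.univ.filter fun p => (k * g * k⁻¹) p = p).card =
      (Finset.univ.filter fun p => g p = p).card := by
  have : (Finset.univ.filter fun p => (k * g * k⁻¹) p = p) =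
      (Finset.univ.filter fun p => g p = p).map k.toEmbedding := by
    ext p
    rw [Finset.mem_filter, Finset.mem_map]
    constructor
    · rintro ⟨_, hp⟩
      refine ⟨k⁻¹ p, ?_, by simp⟩
      rw [Finset.mem_filter]
      refine ⟨Finset.mem_univ _, ?_⟩
      apply k.injective
      rw [Equiv.Perm.mul_apply, Equiv.Perm.mul_apply] at hp
      rw [hp]
      simp
    · rintro ⟨q, hq, rfl⟩
      rw [Finset.mem_filter] at hq
      refine ⟨Finset.mem_univ _, ?_⟩
      rw [Equiv.Perm.mul_apply, Equiv.Perm.mul_apply]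
      simp [hq.2]
  rw [this, Finset.card_map]

theorem fixCount_conj (g k : Equiv.Perm GolayPt) :
    fixCount (tblOf (k * g * k⁻¹)) = fixCount (tblOf g) := by
  rw [← card_fixed_eq, ← card_fixed_eq, card_fixed_conj]

theorem conj_pow_eq_one {g : Equiv.Perm GolayPt} {n : ℕ} (h : g ^ n = 1) (k : Equiv.Perm GolayPt) :
    (k * g * k⁻¹) ^ n = 1 := by
  rw [conj_pow, h, mul_one, mul_inv_cancel]

/-- Five distinct points as an embedding. -/
def emb5 (a b c d e : GolayPt) (h : [a, b, c, d, e].Nodup) : Fin 5 ↪ GolayPt :=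
  ⟨fun j => [a, b, c, d, e].get j, List.nodup_iff_injective_get.mp h⟩

/-- Common part of the classification arguments. -/
theorem class_tail {Hs : List (List ℕ)} {pred post : List ℕ → Bool}
    (hc : candCheck Hs pred post = true) (hoks : ∀ H ∈ Hs, okK H = true)
    {g : Equiv.Perm GolayPt} (hg : g ∈ M24) (x : Fin 5 ↪ GolayPt)
    (hfam : ∀ k : Equiv.Perm GolayPt, (∀ j : Fin 5, k (x j) = pt (b5 j)) →
      ∃ H ∈ Hs, ∀ j : Fin 5, k (g (x j)) = pt (H.getD (b5 j) 0))
    (hpred : ∀ k : Equiv.Perm GolayPt, pred (tblOf (k * g * k⁻¹)) = true) :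
    ∃ k ∈ M24, post (tblOf (k * g * k⁻¹)) = true := by
  obtain ⟨k, hk, hkx, hg', hact⟩ := conj_base hg x
  obtain ⟨H, hH, hHx⟩ := hfam k hkx
  refine ⟨k, hk, candCheck_spec hc hg' hH (hoks H hH) ?_ (hpred k)⟩
  intro j hj
  rw [hact ⟨j, hj⟩, hHx ⟨j, hj⟩]

theorem conj_conj {g k w R : Equiv.Perm GolayPt} (h : w * (k * g * k⁻¹) * w⁻¹ = R) :
    (w * k) * g * (w * k)⁻¹ = R := by
  rw [← h]
  group

theorem fam3B_complete : ∀ q < 24, q ∉ [0, 12, 14, 16, 17] → ∃ H ∈ fam3B,
    H.getD 0 0 = 12 ∧ H.getD 12 0 = 14 ∧ H.getD 14 0 = 0 ∧ H.getD 16 0 = 17 ∧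
      H.getD 17 0 = q := by
  decide

theorem pt_b5_ne {k : Equiv.Perm GolayPt} {x : Fin 5 ↪ GolayPt}
    (hkx : ∀ j : Fin 5, k (x j) = pt (b5 j)) {y : GolayPt} (hy : ∀ j, y ≠ x j) :
    idx (k y) ∉ [0, 12, 14, 16, 17] := by
  intro hmem
  have : ∃ j : Fin 5, idx (k y) = b5 j := by
    simp only [List.mem_cons, List.not_mem_nil, or_false] at hmem
    rcases hmem with h | h | h | h | h
    · exact ⟨0, h⟩
    · exact ⟨1, h⟩
    · exact ⟨2, h⟩
    · exact ⟨3, h⟩
    · exact ⟨4, h⟩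
  obtain ⟨j, hj⟩ := this
  have h1 : k y = k (x j) := by
    rw [hkx j, ← hj, pt_idx]
  exact hy j (k.injective h1)

/-- Fixed-point-free elements of order 3 form one conjugacy class. -/
theorem class3B {g : Equiv.Perm GolayPt} (hg : g ∈ M24) (h3 : g ^ 3 = 1) (hf : ∀ p, g p ≠ p) :
    ∃ w ∈ M24, w * g * w⁻¹ = fperm rep3B := by
  have hg3 : ∀ p, g (g (g p)) = p := fun p => by
    have := congrArg (fun f : Equiv.Perm GolayPt => f p) h3
    simpa [pow_succ, Equiv.Perm.mul_apply] using this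
  set a := pt 0 with ha
  set a1 := g a with ha1
  set a2 := g a1 with ha2
  have e0 : g a2 = a := hg3 a
  have n01 : a ≠ a1 := fun h => hf a h.symm
  have n12 : a1 ≠ a2 := fun h => hf a1 h.symm
  have n02 : a ≠ a2 := fun h => hf a2 (by rw [e0]; exact h)
  obtain ⟨d, hd⟩ := exists_new_point {a, a1, a2} (lt_of_le_of_lt Finset.card_le_three (by norm_num))
  simp only [Finset.mem_insert, Finset.mem_singleton, not_or] at hd
  obtain ⟨nd0, nd1, nd2⟩ := hd
  set d1 := g d with hd1
  set d2 := g d1 with hd2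
  have e1 : g d2 = d := hg3 d
  have m0 : d1 ≠ a := fun h => nd2 (g.injective (by rw [e0, ← h]))
  have m1 : d1 ≠ a1 := fun h => nd0 (g.injective h)
  have m2 : d1 ≠ a2 := fun h => nd1 (g.injective h)
  have nd : d ≠ d1 := fun h => hf d h.symm
  have l0 : d2 ≠ a := fun h => m2 (g.injective (by rw [e0, ← h]))
  have l1 : d2 ≠ a1 := fun h => m0 (g.injective h)
  have l2 : d2 ≠ a2 := fun h => m1 (g.injective h)
  have l3 : d2 ≠ d := fun h => hf d2 (by rw [e1]; exact h.symm)
  have l4 : d2 ≠ d1 := fun h => hf d1 h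
  have hnd : [a, a1, a2, d, d1].Nodup := by
    simp only [List.nodup_cons, List.mem_cons, List.not_mem_nil, or_false, not_or,
      List.nodup_nil, and_true]
    exact ⟨⟨n01, n02, Ne.symm nd0, Ne.symm m0⟩, ⟨n12, Ne.symm nd1, Ne.symm m1⟩,
      ⟨Ne.symm nd2, Ne.symm m2⟩, nd, not_false⟩
  obtain ⟨k, hk, hpost⟩ := class_tail check3B class_oks.2.1 hg (emb5 a a1 a2 d d1 hnd)
    (fun k hkx => by
      have hq := pt_b5_ne hkx (y := d2) (by
        intro j
        fin_cases j
        · exact l0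
        · exact l1
        · exact l2
        · exact l3
        · exact l4)
      obtain ⟨H, hH, c0, c1, c2, c3, c4⟩ := fam3B_complete _ (idx_lt (k d2)) hq
      refine ⟨H, hH, fun j => ?_⟩
      have k0 : k a = pt 0 := hkx 0
      have k1 : k a1 = pt 12 := hkx 1
      have k2 : k a2 = pt 14 := hkx 2
      have k3 : k d = pt 16 := hkx 3
      have k4 : k d1 = pt 17 := hkx 4
      fin_cases j
      · show k (g a) = pt (H.getD 0 0)
        rw [c0, ← k1]
      · show k (g a1) = pt (H.getD 12 0)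
        rw [c1, ← k2]
      · show k (g a2) = pt (H.getD 14 0)
        rw [c2, e0, k0]
      · show k (g d) = pt (H.getD 16 0)
        rw [c3, ← k4]
      · show k (g d1) = pt (H.getD 17 0)
        rw [c4, pt_idx])
    (fun k => by
      rw [Bool.and_eq_true, natBeq_iff]
      refine ⟨cube1_of_pow (conj_pow_eq_one h3 k), ?_⟩
      rw [fixCount_conj]
      by_contra hne
      obtain ⟨p, hp⟩ := (fixCount_pos_iff g).mp (Nat.pos_of_ne_zero hne)
      exact hf p hp)
  obtain ⟨w, hw, e⟩ := conjPost_spec (okK_valid class_oks.2.2.2.2.2.2.2.2.2.1) class_oks.2.2.2.2.2.1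
    hpost
  exact ⟨w * k, M24.mul_mem hw hk, conj_conj e⟩

theorem idx_ne_b5 {k : Equiv.Perm GolayPt} {x : Fin 5 ↪ GolayPt}
    (hkx : ∀ j : Fin 5, k (x j) = pt (b5 j)) {y : GolayPt} (j : Fin 5) (hy : y ≠ x j) :
    idx (k y) ≠ b5 j := by
  intro hj
  have h1 : k y = k (x j) := by
    rw [hkx j, ← hj, pt_idx]
  exact hy (k.injective h1)

theorem fam2B_complete : ∀ q < 24, q ∉ [0, 12, 14, 16, 17] → ∃ H ∈ fam2B,
    H.getD 0 0 = 12 ∧ H.getD 12 0 = 0 ∧ H.getD 14 0 = 16 ∧ H.getD 16 0 = 14 ∧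
      H.getD 17 0 = q := by
  decide

theorem fam3A_complete : ∀ q < 24, q ∉ [0, 12, 14, 16] → ∃ H ∈ fam3A,
    H.getD 0 0 = 0 ∧ H.getD 12 0 = 14 ∧ H.getD 14 0 = 16 ∧ H.getD 16 0 = 12 ∧
      H.getD 17 0 = q := by
  decide

theorem fam2A_complete : ∃ H ∈ fam2A,
    H.getD 0 0 = 0 ∧ H.getD 12 0 = 14 ∧ H.getD 14 0 = 12 ∧ H.getD 16 0 = 17 ∧
      H.getD 17 0 = 16 := by
  decide

/-- Fixed-point-free involutions form one conjugacy class. -/
theorem class2B {g : Equiv.Perm GolayPt} (hg : g ∈ M24) (h2 : g ^ 2 = 1) (hf : ∀ p, g p ≠ p) :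
    ∃ w ∈ M24, w * g * w⁻¹ = fperm rep2B := by
  have hg2 : ∀ p, g (g p) = p := fun p => by
    have := congrArg (fun f : Equiv.Perm GolayPt => f p) h2
    simpa [pow_succ, Equiv.Perm.mul_apply] using this
  set a := pt 0 with ha
  set a1 := g a with ha1
  have e0 : g a1 = a := hg2 a
  have n01 : a ≠ a1 := fun h => hf a h.symm
  obtain ⟨c, hc⟩ := exists_new_point {a, a1} (lt_of_le_of_lt Finset.card_le_two (by norm_num))
  simp only [Finset.mem_insert, Finset.mem_singleton, not_or] at hc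
  obtain ⟨nc0, nc1⟩ := hc
  set c1 := g c with hc1
  have e1 : g c1 = c := hg2 c
  have m0 : c1 ≠ a := fun h => nc1 (g.injective (by rw [e0, ← h]))
  have m1 : c1 ≠ a1 := fun h => nc0 (g.injective h)
  have ncc : c ≠ c1 := fun h => hf c h.symm
  obtain ⟨e, he⟩ := exists_new_point {a, a1, c, c1}
    (lt_of_le_of_lt Finset.card_le_four (by norm_num))
  simp only [Finset.mem_insert, Finset.mem_singleton, not_or] at he
  obtain ⟨ne0, ne1, ne2, ne3⟩ := he
  set z := g e with hz
  have l0 : z ≠ a := fun h => ne1 (g.injective (by rw [e0, ← h]))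
  have l1 : z ≠ a1 := fun h => ne0 (g.injective h)
  have l2 : z ≠ c := fun h => ne3 (g.injective (by rw [e1, ← h]))
  have l3 : z ≠ c1 := fun h => ne2 (g.injective h)
  have l4 : z ≠ e := fun h => hf e h
  have hnd : [a, a1, c, c1, e].Nodup := by
    simp only [List.nodup_cons, List.mem_cons, List.not_mem_nil, or_false, not_or,
      List.nodup_nil, and_true]
    exact ⟨⟨n01, Ne.symm nc0, Ne.symm m0, Ne.symm ne0⟩, ⟨Ne.symm nc1, Ne.symm m1, Ne.symm ne1⟩,
      ⟨ncc, Ne.symm ne2⟩, Ne.symm ne3, not_false⟩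
  obtain ⟨k, hk, hpost⟩ := class_tail check2B class_oks.2.2.2.1 hg (emb5 a a1 c c1 e hnd)
    (fun k hkx => by
      have hq : idx (k z) ∉ [0, 12, 14, 16, 17] := by
        simp only [List.mem_cons, List.not_mem_nil, or_false, not_or]
        exact ⟨idx_ne_b5 hkx 0 l0, idx_ne_b5 hkx 1 l1, idx_ne_b5 hkx 2 l2, idx_ne_b5 hkx 3 l3,
          idx_ne_b5 hkx 4 l4⟩
      obtain ⟨H, hH, c0, c1', c2, c3, c4⟩ := fam2B_complete _ (idx_lt (k z)) hq
      refine ⟨H, hH, fun j => ?_⟩
      have k0 : k a = pt 0 := hkx 0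
      have k1 : k a1 = pt 12 := hkx 1
      have k2 : k c = pt 14 := hkx 2
      have k3 : k c1 = pt 16 := hkx 3
      have k4 : k e = pt 17 := hkx 4
      fin_cases j
      · show k (g a) = pt (H.getD 0 0)
        rw [c0, ← k1]
      · show k (g a1) = pt (H.getD 12 0)
        rw [c1', e0, k0]
      · show k (g c) = pt (H.getD 14 0)
        rw [c2, ← k3]
      · show k (g c1) = pt (H.getD 16 0)
        rw [c3, e1, k2]
      · show k (g e) = pt (H.getD 17 0)
        rw [c4, pt_idx])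
    (fun k => by
      rw [Bool.and_eq_true, natBeq_iff]
      refine ⟨sq1_of_pow (conj_pow_eq_one h2 k), ?_⟩
      rw [fixCount_conj]
      by_contra hne
      obtain ⟨p, hp⟩ := (fixCount_pos_iff g).mp (Nat.pos_of_ne_zero hne)
      exact hf p hp)
  obtain ⟨w, hw, e⟩ := conjPost_spec (okK_valid class_oks.2.2.2.2.2.2.2.2.2.2.2)
    class_oks.2.2.2.2.2.2.2.1 hpost
  exact ⟨w * k, M24.mul_mem hw hk, conj_conj e⟩

theorem conj_ne_one {g : Equiv.Perm GolayPt} (h1 : g ≠ 1) (k : Equiv.Perm GolayPt) :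
    tblOf (k * g * k⁻¹) ≠ List.range 24 := by
  intro h
  rw [← tblOf_one] at h
  have := tblOf_injective h
  apply h1
  calc g = k⁻¹ * (k * g * k⁻¹) * k := by group
    _ = 1 := by rw [this]; group

/-- Elements of order 3 with a fixed point have six fixed points and form one conjugacy class. -/
theorem class3A {g : Equiv.Perm GolayPt} (hg : g ∈ M24) (h3 : g ^ 3 = 1) (h1 : g ≠ 1)
    (hf : ∃ p, g p = p) :
    (Finset.univ.filter fun p => g p = p).card = 6 ∧ ∃ w ∈ M24, w * g * w⁻¹ = fperm rep3A := by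
  have hg3 : ∀ p, g (g (g p)) = p := fun p => by
    have := congrArg (fun f : Equiv.Perm GolayPt => f p) h3
    simpa [pow_succ, Equiv.Perm.mul_apply] using this
  obtain ⟨f, hff⟩ := hf
  obtain ⟨d, hd⟩ : ∃ d, g d ≠ d := by
    by_contra hall
    push Not at hall
    exact h1 (Equiv.ext hall)
  set d1 := g d with hd1
  set d2 := g d1 with hd2
  have e1 : g d2 = d := hg3 d
  have n01 : d ≠ d1 := fun h => hd h.symm
  have n12 : d1 ≠ d2 := fun h => n01 (g.injective h)
  have n02 : d ≠ d2 := fun h => n01 (e1.symm.trans ((congrArg g h.symm).trans hd1.symm))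
  have nf0 : f ≠ d := fun h => hd (by rw [hd1, ← h]; exact hff)
  have nf1 : f ≠ d1 := fun h => n12 (by rw [hd2, ← h, hff])
  have nf2 : f ≠ d2 := fun h => nf0 (by rw [← e1, ← h, hff])
  obtain ⟨e, he⟩ := exists_new_point {f, d, d1, d2}
    (lt_of_le_of_lt Finset.card_le_four (by norm_num))
  simp only [Finset.mem_insert, Finset.mem_singleton, not_or] at he
  obtain ⟨ne0, ne1, ne2, ne3⟩ := he
  set z := g e with hz
  have l0 : z ≠ f := fun h => ne0 (g.injective (by rw [hff, ← h]))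
  have l1 : z ≠ d := fun h => ne3 (g.injective (by rw [e1, ← h]))
  have l2 : z ≠ d1 := fun h => ne1 (g.injective h)
  have l3 : z ≠ d2 := fun h => ne2 (g.injective h)
  have hnd : [f, d, d1, d2, e].Nodup := by
    simp only [List.nodup_cons, List.mem_cons, List.not_mem_nil, or_false, not_or,
      List.nodup_nil, and_true]
    exact ⟨⟨nf0, nf1, nf2, Ne.symm ne0⟩, ⟨n01, n02, Ne.symm ne1⟩,
      ⟨n12, Ne.symm ne2⟩, Ne.symm ne3, not_false⟩
  obtain ⟨k, hk, hpost⟩ := class_tail check3A class_oks.1 hg (emb5 f d d1 d2 e hnd)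
    (fun k hkx => by
      have hq : idx (k z) ∉ [0, 12, 14, 16] := by
        simp only [List.mem_cons, List.not_mem_nil, or_false, not_or]
        exact ⟨idx_ne_b5 hkx 0 l0, idx_ne_b5 hkx 1 l1, idx_ne_b5 hkx 2 l2, idx_ne_b5 hkx 3 l3⟩
      obtain ⟨H, hH, c0, c1', c2, c3, c4⟩ := fam3A_complete _ (idx_lt (k z)) hq
      refine ⟨H, hH, fun j => ?_⟩
      have k0 : k f = pt 0 := hkx 0
      have k1 : k d = pt 12 := hkx 1
      have k2 : k d1 = pt 14 := hkx 2
      have k3 : k d2 = pt 16 := hkx 3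
      fin_cases j
      · show k (g f) = pt (H.getD 0 0)
        rw [c0, hff, k0]
      · show k (g d) = pt (H.getD 12 0)
        rw [c1', ← k2]
      · show k (g d1) = pt (H.getD 14 0)
        rw [c2, ← k3]
      · show k (g d2) = pt (H.getD 16 0)
        rw [c3, e1, k1]
      · show k (g e) = pt (H.getD 17 0)
        rw [c4, pt_idx])
    (fun k => cube1_of_pow (conj_pow_eq_one h3 k))
  rw [Bool.or_eq_true, beq_iff_eq, Bool.and_eq_true, natBeq_iff] at hpost
  rcases hpost with hpost | ⟨hfix, hpost⟩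
  · exact absurd hpost (conj_ne_one h1 k)
  · rw [fixCount_conj, ← card_fixed_eq] at hfix
    refine ⟨hfix, ?_⟩
    obtain ⟨w, hw, e⟩ := conjPost_spec (okK_valid class_oks.2.2.2.2.2.2.2.2.1)
      class_oks.2.2.2.2.1 hpost
    exact ⟨w * k, M24.mul_mem hw hk, conj_conj e⟩

/-- Involutions with a fixed point have eight fixed points and form one conjugacy class. -/
theorem class2A {g : Equiv.Perm GolayPt} (hg : g ∈ M24) (h2 : g ^ 2 = 1) (h1 : g ≠ 1)
    (hf : ∃ p, g p = p) :
    (Finset.univ.filter fun p => g p = p).card = 8 ∧ ∃ w ∈ M24, w * g * w⁻¹ = fperm rep2A := by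
  have hg2 : ∀ p, g (g p) = p := fun p => by
    have := congrArg (fun f : Equiv.Perm GolayPt => f p) h2
    simpa [pow_succ, Equiv.Perm.mul_apply] using this
  obtain ⟨f, hff⟩ := hf
  obtain ⟨c, hc⟩ : ∃ c, g c ≠ c := by
    by_contra hall
    push Not at hall
    exact h1 (Equiv.ext hall)
  set c1 := g c with hc1
  have e1 : g c1 = c := hg2 c
  have n01 : c ≠ c1 := fun h => hc h.symm
  have nf0 : f ≠ c := fun h => hc (by rw [hc1, ← h]; exact hff)
  have nf1 : f ≠ c1 := fun h => nf0 (by rw [← e1, ← h, hff])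
  obtain ⟨e, he, hec⟩ : ∃ e, g e ≠ e ∧ e ∉ ({c, c1} : Finset GolayPt) := by
    by_contra hall
    push Not at hall
    apply h1
    refine M24_rigid hg (Finset.univ \ {c, c1}) ?_ ?_
    · have : (Finset.univ \ ({c, c1} : Finset GolayPt)).card = 24 - 2 := by
        rw [Finset.card_sdiff_of_subset (Finset.subset_univ _), Finset.card_pair n01]
        rfl
      omega
    · intro p hp
      rw [Finset.mem_sdiff] at hp
      by_contra hne
      exact hp.2 (hall p hne)
  simp only [Finset.mem_insert, Finset.mem_singleton, not_or] at hec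
  obtain ⟨ne1, ne2⟩ := hec
  have ne0 : e ≠ f := fun h => he (by rw [h, hff])
  set z := g e with hz
  have ez : g z = e := hg2 e
  have l0 : z ≠ f := fun h => ne0 (g.injective (by rw [hff, ← h]))
  have l1 : z ≠ c := fun h => ne2 (g.injective (by rw [e1, ← h]))
  have l2 : z ≠ c1 := fun h => ne1 (g.injective h)
  have l3 : z ≠ e := fun h => he h
  have hnd : [f, c, c1, e, z].Nodup := by
    simp only [List.nodup_cons, List.mem_cons, List.not_mem_nil, or_false, not_or,
      List.nodup_nil, and_true]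
    exact ⟨⟨nf0, nf1, Ne.symm ne0, Ne.symm l0⟩, ⟨n01, Ne.symm ne1, Ne.symm l1⟩,
      ⟨Ne.symm ne2, Ne.symm l2⟩, Ne.symm l3, not_false⟩
  obtain ⟨k, hk, hpost⟩ := class_tail check2A class_oks.2.2.1 hg (emb5 f c c1 e z hnd)
    (fun k hkx => by
      obtain ⟨H, hH, c0, c1', c2, c3, c4⟩ := fam2A_complete
      refine ⟨H, hH, fun j => ?_⟩
      have k0 : k f = pt 0 := hkx 0
      have k1 : k c = pt 12 := hkx 1
      have k2 : k c1 = pt 14 := hkx 2
      have k3 : k e = pt 16 := hkx 3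
      have k4 : k z = pt 17 := hkx 4
      fin_cases j
      · show k (g f) = pt (H.getD 0 0)
        rw [c0, hff, k0]
      · show k (g c) = pt (H.getD 12 0)
        rw [c1', ← k2]
      · show k (g c1) = pt (H.getD 14 0)
        rw [c2, e1, k1]
      · show k (g e) = pt (H.getD 16 0)
        rw [c3, ← k4]
      · show k (g z) = pt (H.getD 17 0)
        rw [c4, ez, k3])
    (fun k => sq1_of_pow (conj_pow_eq_one h2 k))
  rw [Bool.or_eq_true, beq_iff_eq, Bool.and_eq_true, natBeq_iff] at hpost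
  rcases hpost with hpost | ⟨hfix, hpost⟩
  · exact absurd hpost (conj_ne_one h1 k)
  · rw [fixCount_conj, ← card_fixed_eq] at hfix
    refine ⟨hfix, ?_⟩
    obtain ⟨w, hw, e⟩ := conjPost_spec (okK_valid class_oks.2.2.2.2.2.2.2.2.2.2.1)
      class_oks.2.2.2.2.2.2.1 hpost
    exact ⟨w * k, M24.mul_mem hw hk, conj_conj e⟩

end Cfsg.Agent.Lib.helper4
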