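import Cfsg.Agent.Lib.helper4.SLPFIN3core
import Cfsg.Agent.Lib.Helper28.SLPX2
import Cfsg.Agent.Lib.Helper28.SLPM34h28
import Cfsg.Agent.Lib.Helper20.SLPC1
import Cfsg.Agent.Lib.Helper20.SLPN2
import Cfsg.Agent.Lib.Helper27.SLPN4
import Cfsg.Agent.Lib.Helper27.SLPK3
import Cfsg.Agent.Lib.helper7.SLPP1
import Cfsg.Agent.Lib.helper2.SLPM1
import Cfsg.Agent.Lib.helper15.SLPM5

/-!
# SLP row FIN3 (`sl_two`), verbatim: the core fed with the landed rows
X2, C1, N2, N4, K3, P1, M1, M3/M4 (spares of Helper28), M5.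
-/

set_option autoImplicit false

namespace Cfsg.Agent.Lib.helper17.SLP

open Polynomial

universe u v

/-- FIN3 -/
theorem sl_two {F : Type u} [Field F] [Fintype F] (h2 : (2 : F) = 0) :
    ∃ rels : Finset (FreeGroup (Fin 3)), rels.card ≤ 5 ∧
      Nonempty (PresentedGroup (↑rels : Set (FreeGroup (Fin 3))) ≃* Matrix.SpecialLinearGroup (Fin 2) F) := by
  haveI : CharP F 2 := CharTwo.of_one_ne_zero_of_two_eq_zero one_ne_zero h2
  exact slpfin3_core (fun ζ hζ => ascheme_two ζ hζ)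
    (fun G _ ζ hζ u h w N hN0 hgen x hadd hconj hx1 hN hwh hw2 hK1 hK2 =>
      card_le_of_struct ζ hζ u h w N hN0 hgen x hadd hconj hx1 hN hwh hw2 hK1 hK2)
    (fun G _ h w m hw2 hbr => n_dihedral h w m hw2 hbr)
    (fun G _ u w hu hK1 => w_sq_of_u_sq u w hu hK1)
    (fun G _ ζ x h w hadd hconj hwh hN hK1 => k2_char_two ζ x h w hadd hconj hwh hN hK1)
    (fun L a b c hgen hrel hcard => pres_of_card L a b c hgen hrel hcard)
    (fun s t => hM_mul s t) slpm3_h28_relK1_M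
    (fun ζ hζ => slpm4_h28_closure_M ζ hζ) (fun s m => braid_M s m)

end Cfsg.Agent.Lib.helper17.SLP
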