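import Mathlib
import Cfsg.Prelude.Def_Classical
import Cfsg.Prelude.Def_KGroupFacts
import Cfsg.Agent.Lib.Lead.SPM2.Defs

/-!
# Project SPM2 (designer lead; S2099), row K6 (helper4), VERBATIM: `gcd_facts` (arithmetic of `gcd 4 (q^l + 1)`).
-/

set_option autoImplicit false

namespace Cfsg.Agent.Lib.Lead.SPM2

open Cfsg.Agent.Lib.helper15.St2 Cfsg.Agent.Lib.helper3.STC Cfsg.Agent.Lib.Lead.STD Cfsg.Agent.Lib.helper17.STM
  Cfsg.Agent.Lib.Lead.SPN Cfsg.Agent.Lib.Helper16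
open Cfsg.Agent.Lib.Helper12.OMN (omatM oglM omatM_mul omatM_one omatM_injective oglM_coe oglM_injective)

universe u v w

theorem spm2k6_three (l : ℕ) : 3 ^ l % 4 = if l % 2 = 0 then 1 else 3 := by
  induction l with
  | zero => rfl
  | succ k ih =>
    rw [pow_succ, Nat.mul_mod, ih]
    split_ifs with h1 h2 h2 <;> omega

section K

/-- K6 [S-M]  arithmetic. -/
theorem gcd_facts (q l : ℕ) (hl : 0 < l) :
    (Even q → Nat.gcd 4 (q ^ l + 1) = 1) ∧
    (Odd q → q ^ l % 4 = 3 → Nat.gcd 4 (q ^ l + 1) = 4) ∧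
    (Odd q → q ^ l % 4 ≠ 3 → Nat.gcd 4 (q ^ l + 1) = 2) ∧
    (q ^ l % 4 = 3 → Odd l ∧ q % 4 = 3) := by
  have hmod4 : q ^ l % 4 = (q % 4) ^ l % 4 := Nat.pow_mod q l 4
  have hmod2 : q ^ l % 2 = (q % 2) ^ l % 2 := Nat.pow_mod q l 2
  have hodd2 : Odd q → q ^ l % 2 = 1 := by
    intro ho
    rw [hmod2, Nat.odd_iff.1 ho, one_pow]
    rfl
  have heven2 : Even q → q ^ l % 2 = 0 := by
    intro he
    rw [hmod2, Nat.even_iff.1 he, zero_pow (by omega)]
    rfl
  refine ⟨?_, ?_, ?_, ?_⟩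
  · intro he
    have h2 := heven2 he
    have h4 : (q ^ l + 1) % 4 = 1 ∨ (q ^ l + 1) % 4 = 3 := by omega
    rw [Nat.gcd_rec]
    rcases h4 with h | h <;> rw [h] <;> rfl
  · intro _ h3
    have h4 : (q ^ l + 1) % 4 = 0 := by omega
    rw [Nat.gcd_rec, h4]
    rfl
  · intro ho h3
    have h2 := hodd2 ho
    have h4 : (q ^ l + 1) % 4 = 2 := by omega
    rw [Nat.gcd_rec, h4]
    rfl
  · intro h3
    have hq2 : q % 2 = 1 := by
      rcases Nat.even_or_odd q with he | ho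
      · have := heven2 he
        omega
      · exact Nat.odd_iff.1 ho
    have hq4 : q % 4 = 1 ∨ q % 4 = 3 := by omega
    rcases hq4 with h | h
    · rw [hmod4, h, one_pow] at h3
      omega
    · rw [hmod4, h, spm2k6_three] at h3
      refine ⟨?_, h⟩
      rw [Nat.odd_iff]
      split_ifs at h3 with h5
      · omega
      · omega

end K

end Cfsg.Agent.Lib.Lead.SPM2
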