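import Mathlib
import Cfsg.Prelude.Def_Classical
import Cfsg.Prelude.Def_KGroupFacts
import Cfsg.Agent.Lib.Lead.SPN.Defs
import Cfsg.Agent.Lib.Lead.SPN.Defs2
import Cfsg.Agent.Lib.Helper25.SPNK6
import Cfsg.Agent.Lib.helper7.CeH
import Cfsg.Agent.S0790

/-!
# Project SPN (S2096 + S2097, designer lead), rows K7 (`Cov.ker_sig_equiv_odd`) and K8 (`Cov.ker_sig_equiv_even`) (helper4), CORES.

`spnk7_core`: K7 with the statements of K0 T3 K2 K3 K4 K5 as hypotheses (K6 `Cov.gcd_facts` of helper25 and `S0790` are cited).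
`spnk8_core`: K8 with the statements of K0 T2 T3 T4 K1 K4 K5 as hypotheses.
-/

set_option autoImplicit false

namespace Cfsg.Agent.Lib.Lead.SPN

open Cfsg.Agent.Lib.helper15.St2 Cfsg.Agent.Lib.helper3.STC Cfsg.Agent.Lib.Lead.STD Cfsg.Agent.Lib.Helper16
  Cfsg.Agent.Lib.Helper1.OMP

universe u v w

/-- a subgroup all of whose elements are powers of one of its elements `x` is cyclic of order `orderOf x` -/
theorem spnk7_cyclic {G : Type*} [Group G] (K : Subgroup G) (x : G) (hx : x ∈ K) (m : ℕ) (hm : orderOf x = m)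
    (hall : ∀ y ∈ K, y ∈ Subgroup.zpowers x) : Nonempty (K ≃* Multiplicative (ZMod m)) := by
  have hK : K = Subgroup.zpowers x := by
    apply le_antisymm
    · exact hall
    · rw [Subgroup.zpowers_le]
      exact hx
  subst hK
  have hc : IsCyclic (Subgroup.zpowers x) := inferInstance
  have hcard : Nat.card (Subgroup.zpowers x) = m := by
    rw [Nat.card_zpowers, hm]
  obtain ⟨e⟩ := Cfsg.Agent.Lib.helper7.Ce.cyclic_equiv hc m hcard
  exact ⟨e.symm⟩

/-- the parity of `card F` from `2 = 0` -/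
theorem spnk7_even_card {F : Type u} [Field F] [Fintype F] (h2 : (2 : F) = 0) : Even (Fintype.card F) := by
  haveI hc : CharP F 2 := CharTwo.of_one_ne_zero_of_two_eq_zero one_ne_zero h2
  have h := (FiniteField.even_card_iff_char_two (F := F)).mp (ringChar.eq F 2)
  exact Nat.even_iff.mpr h

/-- the parity of `card F` from `2 ≠ 0` -/
theorem spnk7_odd_card {F : Type u} [Field F] [Fintype F] (h2 : (2 : F) ≠ 0) : Odd (Fintype.card F) := by
  have hr : ringChar F ≠ 2 := by
    intro h
    apply h2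
    have := ringChar.Nat.cast_ringChar (R := F)
    rw [h] at this
    exact_mod_cast this
  exact Nat.odd_iff.mpr (FiniteField.odd_card_of_char_ne_two hr)

/-- `-1 ≠ 1` as matrices in odd characteristic -/
theorem spnk7_neg_one_ne {F : Type u} [Field F] {l : ℕ} (hl : 0 < l) (h2 : (2 : F) ≠ 0) :
    (-1 : Matrix (Fin l ⊕ Fin l) (Fin l ⊕ Fin l) F) ≠ 1 := by
  intro hm
  have h00 := congrFun (congrFun hm (Sum.inl ⟨0, hl⟩)) (Sum.inl ⟨0, hl⟩)
  simp only [Matrix.neg_apply, Matrix.one_apply_eq] at h00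
  apply h2
  have : (2 : F) = 1 - (-1) := by ring
  rw [this, h00, sub_self]

namespace Cov

variable {l : ℕ} {F : Type u} [Field F] [Fintype F] {G : Type v} [Group G] (C : Cov l F G)

/-- K7 core -/
theorem spnk7_core {q : ℕ} (hF : Fintype.card F = q) (ho : Odd l) (hz : (2 : F) ≠ 0 → C.zel ≠ 1)
    (hK0 : C.zel ∈ C.sig.ker) (hT3 : C.zel * C.zel = 1)
    (hK2 : ∀ i : F, i * i = -1 → ∃ g : G, omat (C.π g) = -1 ∧ g * g = C.zel)
    (hK3 : (¬ ∃ z : ↥(Cfsg.Omega F (Cfsg.quadFormPlus l F)), omat z = -1) → ∀ g ∈ C.sig.ker, g = 1 ∨ g = C.zel)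
    (hK4 : ∀ g₀ : G, omat (C.π g₀) = -1 → g₀ ∈ C.sig.ker ∧ ∀ g ∈ C.sig.ker, g = 1 ∨ g = C.zel ∨ g = g₀ ∨ g = g₀ * C.zel)
    (hK5 : (2 : F) = 0 → ∀ g ∈ C.sig.ker, g = 1) :
    Nonempty (C.sig.ker ≃* Multiplicative (ZMod (Nat.gcd 4 (q ^ l - 1)))) := by
  have hq : 0 < q := by
    rw [← hF]
    exact Fintype.card_pos
  have hl : 0 < l := by
    have := C.hl
    omega
  obtain ⟨k1, k2, k3, k4, k5, k6⟩ := gcd_facts q l hq hl
  by_cases h2 : (2 : F) = 0
  · have he : Even q := hF ▸ spnk7_even_card h2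
    rw [(k1 he).1]
    apply spnk7_cyclic C.sig.ker 1 (one_mem _) 1 orderOf_one
    intro y hy
    rw [hK5 h2 y hy]
    exact one_mem _
  · have hodd : Odd q := hF ▸ spnk7_odd_card h2
    have hz1 : C.zel ≠ 1 := hz h2
    by_cases h4 : q ^ l % 4 = 1
    · rw [k3 hodd h4]
      have hq4 : q % 4 = 1 := k6 hodd ho h4
      have hsq : IsSquare (-1 : F) := by
        rw [FiniteField.isSquare_neg_one_iff, hF]
        omega
      obtain ⟨i, hi⟩ := hsq
      obtain ⟨g₀, hg₀, hgg⟩ := hK2 i hi.symm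
      obtain ⟨hmem, hall⟩ := hK4 g₀ hg₀
      have ho4 : orderOf g₀ = 2 ^ (1 + 1) := by
        apply orderOf_eq_prime_pow
        · rw [pow_one, pow_two, hgg]
          exact hz1
        · have : g₀ ^ 2 ^ (1 + 1) = (g₀ * g₀) * (g₀ * g₀) := by
            simp only [pow_succ, pow_zero, one_mul, mul_assoc]
            norm_num [pow_succ, mul_assoc]
          rw [this, hgg, hT3]
      apply spnk7_cyclic C.sig.ker g₀ hmem 4 ho4
      intro y hy
      rcases hall y hy with h | h | h | h
      · rw [h]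
        exact one_mem _
      · rw [h, ← hgg]
        exact mul_mem (Subgroup.mem_zpowers g₀) (Subgroup.mem_zpowers g₀)
      · rw [h]
        exact Subgroup.mem_zpowers g₀
      · rw [h, ← hgg]
        exact mul_mem (Subgroup.mem_zpowers g₀) (mul_mem (Subgroup.mem_zpowers g₀) (Subgroup.mem_zpowers g₀))
    · rw [k4 hodd h4]
      have hno : ¬ ∃ z : ↥(Cfsg.Omega F (Cfsg.quadFormPlus l F)), omat z = -1 := by
        rintro ⟨z, hzm⟩
        apply h4
        exact (Cfsg.Agent.S0790.result hF hodd l hl).mp ⟨z.1, z.2, hzm⟩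
      have ho2 : orderOf C.zel = 2 := by
        apply orderOf_eq_prime
        · rw [pow_two, hT3]
        · exact hz1
      apply spnk7_cyclic C.sig.ker C.zel hK0 2 ho2
      intro y hy
      rcases hK3 hno y hy with h | h
      · rw [h]
        exact one_mem _
      · rw [h]
        exact Subgroup.mem_zpowers _

/-- K8 core -/
theorem spnk8_core {q : ℕ} (hF : Fintype.card F = q) (he : Even l) (hz : (2 : F) ≠ 0 → C.zel ≠ 1)
    (hK0 : C.zel ∈ C.sig.ker) (hT2 : ∀ g : G, g * C.zel = C.zel * g) (hT3 : C.zel * C.zel = 1) (hT4 : C.π C.zel = 1)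
    (hK1 : ∃ g : G, omat (C.π g) = -1 ∧ g * g = 1)
    (hK4 : ∀ g₀ : G, omat (C.π g₀) = -1 → g₀ ∈ C.sig.ker ∧ ∀ g ∈ C.sig.ker, g = 1 ∨ g = C.zel ∨ g = g₀ ∨ g = g₀ * C.zel)
    (hK5 : (2 : F) = 0 → ∀ g ∈ C.sig.ker, g = 1) :
    Nonempty (C.sig.ker ≃* Multiplicative (ZMod (Nat.gcd 2 (q ^ l - 1)) × ZMod (Nat.gcd 2 (q ^ l - 1)))) := by
  have hq : 0 < q := by
    rw [← hF]
    exact Fintype.card_pos
  have hl : 0 < l := by
    have := C.hl
    omega
  obtain ⟨k1, k2, k3, k4, k5, k6⟩ := gcd_facts q l hq hl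
  by_cases h2 : (2 : F) = 0
  · have heq : Even q := hF ▸ spnk7_even_card h2
    rw [(k1 heq).2]
    refine ⟨{ toFun := fun _ => 1, invFun := fun _ => 1, left_inv := ?_, right_inv := ?_, map_mul' := ?_ }⟩
    · intro x
      exact Subtype.ext (hK5 h2 x.1 x.2).symm
    · intro y
      apply Multiplicative.toAdd.injective
      exact Subsingleton.elim _ _
    · intro _ _
      exact (one_mul 1).symm
  · have hodd : Odd q := hF ▸ spnk7_odd_card h2
    have hz1 : C.zel ≠ 1 := hz h2
    rw [k2 hodd]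
    obtain ⟨g₀, hg₀, hgg⟩ := hK1
    obtain ⟨hmem, hall⟩ := hK4 g₀ hg₀
    have hπ1 : C.π g₀ ≠ 1 := by
      intro h
      rw [h] at hg₀
      exact spnk7_neg_one_ne hl h2 hg₀.symm
    have hg1 : g₀ ≠ 1 := by
      intro h
      apply hπ1
      rw [h, map_one]
    have hgz : g₀ ≠ C.zel := by
      intro h
      apply hπ1
      rw [h, hT4]
    have hset : (C.sig.ker : Set G) = insert 1 (insert C.zel {g₀, g₀ * C.zel}) := by
      ext y
      simp only [SetLike.mem_coe, Set.mem_insert_iff, Set.mem_singleton_iff]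
      constructor
      · intro hy
        exact hall y hy
      · rintro (h | h | h | h)
        · rw [h]
          exact one_mem _
        · rw [h]
          exact hK0
        · rw [h]
          exact hmem
        · rw [h]
          exact mul_mem hmem hK0
    have hcard : Nat.card C.sig.ker = 4 := by
      rw [← SetLike.coe_sort_coe, _root_.Nat.card_coe_set_eq, hset]
      rw [Set.ncard_insert_of_notMem, Set.ncard_insert_of_notMem, Set.ncard_pair]
      · intro h
        apply hz1
        have := congrArg (fun t => g₀⁻¹ * t) h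
        simpa using this.symm
      · simp only [Set.mem_insert_iff, Set.mem_singleton_iff, not_or]
        refine ⟨fun h => hgz h.symm, ?_⟩
        intro h
        apply hg1
        have := congrArg (fun t => t * C.zel⁻¹) h
        simpa using this.symm
      · simp only [Set.mem_insert_iff, Set.mem_singleton_iff, not_or]
        refine ⟨fun h => hz1 h.symm, fun h => hg1 h.symm, ?_⟩
        intro h
        apply hgz
        have h' : g₀ * C.zel * C.zel = C.zel := by
          rw [← h, one_mul]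
        rw [mul_assoc, hT3, mul_one] at h'
        exact h'
    have hsq : ∀ y : C.sig.ker, y * y = 1 := by
      intro y
      apply Subtype.ext
      rw [Subgroup.coe_mul, Subgroup.coe_one]
      rcases hall y.1 y.2 with h | h | h | h
      · rw [h, one_mul]
      · rw [h, hT3]
      · rw [h, hgg]
      · rw [h, mul_assoc, ← mul_assoc C.zel, ← hT2 g₀, mul_assoc, hT3, mul_one, hgg]
    haveI : Nontrivial C.sig.ker := ⟨⟨⟨C.zel, hK0⟩, 1, fun h => hz1 (congrArg Subtype.val h)⟩⟩
    haveI hkl : IsKleinFour C.sig.ker := by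
      refine ⟨hcard, ?_⟩
      rw [Monoid.exponent_eq_prime_iff Nat.prime_two]
      intro g hg
      apply orderOf_eq_prime
      · rw [pow_two, hsq]
      · exact hg
    exact IsKleinFour.nonempty_mulEquiv

end Cov

end Cfsg.Agent.Lib.Lead.SPN
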