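import Mathlib
import Cfsg.Prelude.Def_Classical
import Cfsg.Prelude.Def_KGroupFacts
import Cfsg.Agent.Lib.Lead.SPM2.Defs
import Cfsg.Agent.Lib.helper4.SPM2K6
import Cfsg.Agent.Lib.helper4.SPNK7core
import Cfsg.Agent.Lib.helper7.CeG
import Cfsg.Agent.Lib.helper7.CeH
import Cfsg.Agent.S0791

/-!
# Project SPM2 (designer lead; S2099), rows K0 (`CovM.zel_mem_ker_sig`), K7 (`CovM.ker_sig_equiv`), M1 (`CovM.mult_trivial`) (helper4), CORES.

* `CovM.spm2k0_core`: K0 with the statement of T4 `pi_zel` as hypothesis.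
* `CovM.spm2k7_core`: K7 with the statements of K0 T3 K2 K3 K4 K5 K6b as hypotheses (K6 `gcd_facts` = `helper4.SPM2K6` and `S0791` are cited).
* `CovM.spm2m1_core`: M1 with the conclusion of T8 `CovM.finite` as hypothesis.
-/

set_option autoImplicit false

namespace Cfsg.Agent.Lib.Lead.SPM2

open Cfsg.Agent.Lib.helper15.St2 Cfsg.Agent.Lib.helper3.STC Cfsg.Agent.Lib.Lead.STD Cfsg.Agent.Lib.helper17.STM
  Cfsg.Agent.Lib.Lead.SPN Cfsg.Agent.Lib.Helper16
open Cfsg.Agent.Lib.Helper12.OMN (omatM oglM omatM_mul omatM_one omatM_injective oglM_coe oglM_injective)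

universe u v w

namespace CovM

variable {m : ℕ} {F : Type u} [Field F] [Fintype F] {A B : F} [Fact (∀ r : F, r ^ 2 ≠ -B + A * r)] {G : Type v} [Group G] (C : CovM m F A B G)

/-- K0 core: `hT4` = the statement of T4 `pi_zel`. -/
theorem spm2k0_core (hT4 : C.π C.zel = 1) : C.zel ∈ C.sig.ker := by
  rw [MonoidHom.mem_ker]
  unfold sig
  rw [MonoidHom.comp_apply, hT4, map_one]

/-- K7 core -/
theorem spm2k7_core {q : ℕ} (hF : Fintype.card F = q) (hab : ∀ z₁ z₂ : F, z₁ ^ 2 + A * z₁ * z₂ + B * z₂ ^ 2 = 0 → z₁ = 0 ∧ z₂ = 0)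
    (hz : (2 : F) ≠ 0 → C.zel ≠ 1)
    (hK0 : C.zel ∈ C.sig.ker) (hT3 : C.zel * C.zel = 1)
    (hK6b : Fintype.card F % 4 = 3 → ∃ i : Kq F A B, i * i = -1 ∧ star i = -i)
    (hK2 : Even m → ∀ i : Kq F A B, i * i = -1 → star i = -i → ∃ g : G, omatM (C.π g) = -1 ∧ g * g = C.zel)
    (hK3 : (¬ ∃ z : ↥(Cfsg.Omega F (Cfsg.quadFormMinus m F A B)), omatM z = -1) → ∀ g ∈ C.sig.ker, g = 1 ∨ g = C.zel)
    (hK4 : ∀ g₀ : G, omatM (C.π g₀) = -1 → g₀ ∈ C.sig.ker ∧ ∀ g ∈ C.sig.ker, g = 1 ∨ g = C.zel ∨ g = g₀ ∨ g = g₀ * C.zel)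
    (hK5 : (2 : F) = 0 → ∀ g ∈ C.sig.ker, g = 1) :
    Nonempty (C.sig.ker ≃* Multiplicative (ZMod (Nat.gcd 4 (q ^ (m + 1) + 1)))) := by
  obtain ⟨k1, k2, k3, k4⟩ := gcd_facts q (m + 1) (Nat.succ_pos m)
  by_cases h2 : (2 : F) = 0
  · have he : Even q := hF ▸ spnk7_even_card h2
    rw [k1 he]
    apply spnk7_cyclic C.sig.ker 1 (one_mem _) 1 orderOf_one
    intro y hy
    rw [hK5 h2 y hy]
    exact one_mem _
  · have hodd : Odd q := hF ▸ spnk7_odd_card h2
    have hz1 : C.zel ≠ 1 := hz h2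
    by_cases h4 : q ^ (m + 1) % 4 = 3
    · rw [k2 hodd h4]
      obtain ⟨hml, hq4⟩ := k4 h4
      have hme : Even m := by
        rcases Nat.even_or_odd m with h | h
        · exact h
        · exfalso
          have : Even (m + 1) := Odd.add_one h
          exact (Nat.not_even_iff_odd.mpr hml) this
      obtain ⟨i, hi, hsi⟩ := hK6b (by rw [hF]; exact hq4)
      obtain ⟨g₀, hg₀, hgg⟩ := hK2 hme i hi hsi
      obtain ⟨hmem, hall⟩ := hK4 g₀ hg₀
      have ho4 : orderOf g₀ = 2 ^ (1 + 1) := by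
        apply orderOf_eq_prime_pow
        · rw [pow_one, pow_two, hgg]
          exact hz1
        · have : g₀ ^ 2 ^ (1 + 1) = (g₀ * g₀) * (g₀ * g₀) := by
            simp only [pow_succ, pow_zero, one_mul, mul_assoc]
            norm_num [pow_succ, mul_assoc]
          rw [this, hgg, hT3]
      apply spnk7_cyclic C.sig.ker g₀ hmem 4 ho4
      intro y hy
      rcases hall y hy with h | h | h | h
      · rw [h]
        exact one_mem _
      · rw [h, ← hgg]
        exact mul_mem (Subgroup.mem_zpowers g₀) (Subgroup.mem_zpowers g₀)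
      · rw [h]
        exact Subgroup.mem_zpowers g₀
      · rw [h, ← hgg]
        exact mul_mem (Subgroup.mem_zpowers g₀) (mul_mem (Subgroup.mem_zpowers g₀) (Subgroup.mem_zpowers g₀))
    · rw [k3 hodd h4]
      have hno : ¬ ∃ z : ↥(Cfsg.Omega F (Cfsg.quadFormMinus m F A B)), omatM z = -1 := by
        rintro ⟨z, hzm⟩
        apply h4
        exact (Cfsg.Agent.S0791.result hF hodd (m + 1) (Nat.succ_pos m) A B hab).mp ⟨z.1, z.2, hzm⟩
      have ho2 : orderOf C.zel = 2 := by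
        apply orderOf_eq_prime
        · rw [pow_two, hT3]
        · exact hz1
      apply spnk7_cyclic C.sig.ker C.zel hK0 2 ho2
      intro y hy
      rcases hK3 hno y hy with h | h
      · rw [h]
        exact one_mem _
      · rw [h]
        exact Subgroup.mem_zpowers _

/-- M1 core: `hT8` = the conclusion of T8 `CovM.finite`. -/
theorem spm2m1_core (hz : (2 : F) ≠ 0 → C.zel ≠ 1) (hcem : CemSplitAt m F A B G) (hT8 : Finite G) :
    Cfsg.HasCyclicSchurMultiplier G 1 := by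
  haveI := hT8
  apply Cfsg.Agent.Lib.helper7.Ce.trivial_mult_of_ker
  intro Γ _ _ σ hσ
  have hspin : C.S.hs (Sum.inl C.i0) (-1) = 1 → (2 : F) = 0 := by
    intro h
    by_contra h2
    exact hz h2 h
  obtain ⟨s, hs⟩ := hcem C.S C.rep C.gen (Sum.inl C.i0) hspin Γ σ hσ.1 hσ.2.1
  exact Cfsg.Agent.Lib.helper7.Ce.ker_eq_bot_of_section hσ s hs

end CovM

end Cfsg.Agent.Lib.Lead.SPM2
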