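import Mathlib
import Cfsg.Prelude.Def_Classical
import Cfsg.Prelude.Def_KGroupFacts
import Cfsg.Agent.Lib.Lead.SPM2.Defs
import Cfsg.Agent.Lib.helper4.SPM2K7core
import Cfsg.Agent.Lib.Helper20.SPM2T0
import Cfsg.Agent.Lib.Helper11.SPM2T5
import Cfsg.Agent.Lib.Helper12.SPM2K3
import Cfsg.Agent.Lib.Helper28.SPM2K6b
import Cfsg.Agent.Lib.Helper28.SPM2T12
import Cfsg.Agent.Lib.Helper28.SPM2T13
import Cfsg.Agent.Lib.Helper1.SPM2K1core
import Cfsg.Agent.Lib.Helper20.STMH1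
import Cfsg.Agent.Lib.helper2.STMH5

/-!
# Project SPM2 (designer lead; S2099), rows K0 (`CovM.zel_mem_ker_sig`), K7 (`CovM.ker_sig_equiv`), M1 (`CovM.mult_trivial`) (helper4), VERBATIM.

Wrappers of the cores of `helper4.SPM2K7core` on T3/T4 (`Helper20.SPM2T0`), T8 K4 K5 (`Helper11.SPM2T5`), K3 (`Helper12.SPM2K3`), K6b (`Helper28.SPM2K6b`);
K2 is taken in the form of helper1's cores `spm2k1_core`, `spm2k2_core` (`Helper1.SPM2K1core`) on T12, T13 (`Helper28`) and STM H1 `hs_mul`, H5 `h_hs_comm`.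
-/

set_option autoImplicit false

namespace Cfsg.Agent.Lib.Lead.SPM2

open Cfsg.Agent.Lib.helper15.St2 Cfsg.Agent.Lib.helper3.STC Cfsg.Agent.Lib.Lead.STD Cfsg.Agent.Lib.helper17.STM
  Cfsg.Agent.Lib.Lead.SPN Cfsg.Agent.Lib.Helper16
open Cfsg.Agent.Lib.Helper12.OMN (omatM oglM omatM_mul omatM_one omatM_injective oglM_coe oglM_injective)

universe u v w

section K

namespace CovM

variable {m : ℕ} {F : Type u} [Field F] [Fintype F] {A B : F} [Fact (∀ r : F, r ^ 2 ≠ -B + A * r)] {G : Type v} [Group G] (C : CovM m F A B G)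

/-- the statement of K2 `exists_neg`, from helper1's cores -/
theorem spm2k7_exists_neg (he : Even m) (i : Kq F A B) (hi : i * i = -1) (hsi : star i = -i) : ∃ g : G, omatM (C.π g) = -1 ∧ g * g = C.zel :=
  C.spm2k2_core
    (C.spm2k1_core (fun hab hab' u hu => C.omat_h hab hab' u hu) (fun hab hab' c u v hu hv => C.S.h_hs_comm hab hab' c u v hu hv) he)
    i hi (C.omat_hs_unit (Sum.inl C.i0) i hi hsi) (fun a u v hu hv => C.S.hs_mul a u v hu hv)

/-- K0 [S]  `zel ∈ ker sig` (T4). -/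
theorem zel_mem_ker_sig : C.zel ∈ C.sig.ker :=
  C.spm2k0_core C.pi_zel

/-- K7 [M]  **`ker sig ≅ Z/gcd(4, q^(m+1) + 1)`**. -/
theorem ker_sig_equiv {q : ℕ} (hF : Fintype.card F = q) (hab : ∀ z₁ z₂ : F, z₁ ^ 2 + A * z₁ * z₂ + B * z₂ ^ 2 = 0 → z₁ = 0 ∧ z₂ = 0)
    (hstm : ∀ (H : Type v) [Group H], StmInjAt m F A B H) (hcen : OmnCenter m F A B) (hz : (2 : F) ≠ 0 → C.zel ≠ 1) :
    Nonempty (C.sig.ker ≃* Multiplicative (ZMod (Nat.gcd 4 (q ^ (m + 1) + 1)))) :=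
  C.spm2k7_core hF hab hz C.zel_mem_ker_sig C.zel_sq (fun h => exists_unit_i A B h)
    (fun he i hi hsi => C.spm2k7_exists_neg he i hi hsi)
    (fun hno g hg => C.ker_sig_of_no_neg hstm hcen hno g hg)
    (fun g₀ h₀ => C.ker_sig_of_neg hstm hcen g₀ h₀)
    (fun h2 g hg => C.ker_sig_char_two hstm hcen h2 g hg)

end CovM

end K

section M

/-- M1 [S-M]  the spin group has trivial multiplier. -/
theorem CovM.mult_trivial {m : ℕ} {F : Type u} [Field F] [Fintype F] {A B : F} [Fact (∀ r : F, r ^ 2 ≠ -B + A * r)] {G : Type v} [Group G] (C : CovM m F A B G)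
    (hz : (2 : F) ≠ 0 → C.zel ≠ 1) (hstm : ∀ (H : Type v) [Group H], StmInjAt m F A B H) (hcem : CemSplitAt m F A B G) : Cfsg.HasCyclicSchurMultiplier G 1 :=
  C.spm2m1_core hz hcem (CovM.finite C hstm)

end M

end Cfsg.Agent.Lib.Lead.SPM2
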