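import Mathlib
import Cfsg.Agent.Lib.helper15.St2
import Cfsg.Agent.Lib.helper7.StA
import Cfsg.Agent.Lib.helper7.StC
import Cfsg.Agent.Lib.helper7.StE
import Cfsg.Agent.Lib.helper3.STC.Defs
import Cfsg.Agent.Lib.helper3.STC.Defs2
import Cfsg.Agent.Lib.helper3.STC.Defs3
import Cfsg.Agent.Lib.Helper21.STCM.Vec
import Cfsg.Agent.Lib.Helper24.STCI1
import Cfsg.Agent.Lib.Helper24.STCB1
import Cfsg.Agent.Lib.Helper22.STCN7
import Cfsg.Agent.Lib.Helper18.STCR7
import Cfsg.Agent.Lib.helper4.STCJ1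

/-!
# Project STC (S2292, designer helper3), row J2 (`SysC.Rep.Y_fix_eq_one`) (helper4), VERBATIM.

On the landed N7 (`Helper22.STCN7`), R7 (`Helper18.STCR7`, also its `stcr7_*` copies of the R1 / R3 facts), J1 (`helper4.STCJ1`) and own-name
copies `stcj2_rowStab` (= the R4 statement `XQ_rowStab`), `stcj2_Yg_apply` (= the R6 statement `Yg_apply`).
-/

set_option autoImplicit false

namespace Cfsg.Agent.Lib.helper3.STC

open Cfsg.Agent.Lib.helper15.St2 Cfsg.Agent.Lib.helper7.St Matrix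

universe v w

section R0
variable {l : Type*} {K : Type*} [Field K]

/-- the coordinate `c` of the column `p` is the coordinate `p` of the row `c` -/
theorem stcj2_coord [Fintype l] [DecidableEq l] (M : Matrix (l ⊕ l) (l ⊕ l) K) (p c : l ⊕ l) :
    (M *ᵥ ev p) c = (ev c ᵥ* M) p := by
  unfold ev
  rw [Matrix.mulVec_single_one, Matrix.single_one_vecMul]
  rfl

/-- the coordinate computation of J2 -/
theorem stcj2_coords [Fintype l] [DecidableEq l] {p r : l ⊕ l} (hrp : r ≠ p) (hrnp : r ≠ ng p)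
    (v₀ : l ⊕ l → K) (hp : v₀ p = 1) (hr : v₀ r = 0) (hnr : v₀ (ng r) = 0) (u u' : K)
    (h : Tm r p u *ᵥ (Tm (ng r) p u' *ᵥ v₀) = Pi.single p 1) : u = 0 ∧ u' = 0 := by
  have f1 : p ≠ ng r := fun h => hrnp (by rw [h, ng_ng])
  have f2 : p ≠ ng (ng r) := by rw [ng_ng]; exact hrp.symm
  have f3 : ng r ≠ r := ng_ne r
  have f4 : ng p ≠ r := fun h => hrnp h.symm
  have f5 : ng p ≠ ng r := fun h => hrp (ng_inj.1 h).symm
  have f6 : ng r ≠ p := fun h => f1 h.symm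
  rw [Mat.Tm_mulVec (ng r) p, if_neg f2, Mat.Tm_mulVec r p, if_neg f1] at h
  have h1 := congrFun h r
  have h2 := congrFun h (ng r)
  simp only [Pi.add_apply, Pi.sub_apply, Pi.single_apply, ng_ng, hp, hr, hnr, if_neg f3, if_neg f3.symm,
    if_neg f4, if_neg f4.symm, if_neg f5, if_neg f5.symm, if_neg f6, if_neg f6.symm, if_neg hrp,
    if_neg hrp.symm, if_pos rfl, if_true, mul_one, mul_zero, add_zero, sub_zero, zero_add, if_false,
    ite_self] at h1 h2
  exact ⟨h1, h2⟩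

end R0

namespace SysC

namespace Rep

variable {K : Type*} [Field K] {ι : Type*} {G : Type*} [Group G] {S : SysC K ι G}
  {l : Type*} [Fintype l] [DecidableEq l] (R : S.Rep l)

/-- own-name copy of the R4 statement `XQ_rowStab` -/
theorem stcj2_rowStab {Q : ι ⊕ ι → ι ⊕ ι → Prop} {c : l ⊕ l}
    (h : ∀ a b, a ≠ b → Q a b → Em R.e a ≠ c ∧ Em R.e (ng b) ≠ c) :
    ∀ z ∈ S.XQ Q, ev c ᵥ* R.M z = ev c := by
  intro z hz
  unfold XQ at hz
  induction hz using Subgroup.closure_induction with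
  | mem g hg =>
    obtain ⟨a, b, t, hab, hQ, rfl⟩ := hg
    obtain ⟨h1, h2⟩ := h a b hab hQ
    rw [stcr7_M_x R hab, Mat.vecMul_Tm]
    have e1 : (ev c : l ⊕ l → K) (Em R.e a) = 0 := by
      unfold ev
      rw [Pi.single_apply, if_neg h1]
    have e2 : (ev c : l ⊕ l → K) (ng (Em R.e b)) = 0 := by
      rw [← stcr7_Em_ng]
      unfold ev
      rw [Pi.single_apply, if_neg h2]
    split_ifs <;> simp [e1, e2]
  | one => rw [stcr7_M_one, Matrix.vecMul_one]
  | mul y y' _ _ ihy ihy' => rw [stcr7_M_mul, ← Matrix.vecMul_vecMul, ihy, ihy']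
  | inv y _ ihy =>
    have h1 : R.M y * R.M y⁻¹ = 1 := by
      have := stcr7_M_inv_mul R y⁻¹
      rwa [inv_inv] at this
    have := congrArg (fun v => v ᵥ* R.M y⁻¹) ihy
    simp only [Matrix.vecMul_vecMul, h1, Matrix.vecMul_one] at this
    exact this.symm

variable (o : ι ⊕ ι)

/-- own-name copy of the R6 statement `Yg_apply` -/
theorem stcj2_Yg_apply {y : G} (hy : y ∈ S.Yg o) : (R.M y *ᵥ ev (Em R.e o)) (Em R.e o) = 1 := by
  have hrow : ev (Em R.e o) ᵥ* R.M y = ev (Em R.e o) :=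
    stcj2_rowStab R (Q := fun _ b => b = o) (by
      intro a b hab hb
      subst hb
      exact ⟨fun h => hab (stcr7_Em_injective R.e h), fun h => ng_ne _ (stcr7_Em_injective R.e h)⟩) y hy
  rw [stcj2_coord, hrow]
  unfold ev
  rw [Pi.single_eq_same]

/-- J2 [M-L]  an element of `Yg o` fixing `e_o` is trivial (rank at least two). -/
theorem Y_fix_eq_one {o' : ι ⊕ ι} (ho' : o' ≠ o) (ho'' : o' ≠ ng o)
    (IHo' : ∀ x ∈ S.Lg o', R.φ x = 1 → x = 1) {y : G} (hy : y ∈ S.Yg o)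
    (h : R.M y *ᵥ ev (Em R.e o) = ev (Em R.e o)) : y = 1 := by
  obtain ⟨u, u', y'', hy'', rfl⟩ := S.Yg_decomp2 o ho' ho'' y hy
  have hinj := stcr7_Em_injective R.e
  have hrp : Em R.e o' ≠ Em R.e o := fun h => ho' (hinj h)
  have hrnp : Em R.e o' ≠ ng (Em R.e o) := by
    rw [← stcr7_Em_ng]
    exact fun h => ho'' (hinj h)
  have hno : ng o' ≠ o := fun h => ho'' (ng_eq_iff.1 h)
  have hp : (R.M y'' *ᵥ ev (Em R.e o)) (Em R.e o) = 1 := stcj2_Yg_apply R o (S.Yjj_le_Yg o o' hy'')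
  have hr : (R.M y'' *ᵥ ev (Em R.e o)) (Em R.e o') = 0 := by
    rw [stcj2_coord, stcj2_rowStab R (Q := fun a b => b = o ∧ (a ≠ o' ∧ a ≠ ng o')) (c := Em R.e o') ?_ y'' hy'']
    · unfold ev
      rw [Pi.single_apply, if_neg hrp.symm]
    · rintro a b - ⟨rfl, ha1, -⟩
      exact ⟨fun h => ha1 (hinj h), fun h => ho'' (hinj h).symm⟩
  have hnr : (R.M y'' *ᵥ ev (Em R.e o)) (ng (Em R.e o')) = 0 := by
    rw [← stcr7_Em_ng, stcj2_coord,
      stcj2_rowStab R (Q := fun a b => b = o ∧ (a ≠ o' ∧ a ≠ ng o')) (c := Em R.e (ng o')) ?_ y'' hy'']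
    · unfold ev
      rw [Pi.single_apply, if_neg (fun h => hno (hinj h).symm)]
    · rintro a b - ⟨rfl, -, ha2⟩
      exact ⟨fun h => ha2 (hinj h), fun h => ho' (ng_inj.1 (hinj h)).symm⟩
  have h' := h
  rw [stcr7_M_mul, stcr7_M_mul, stcr7_M_x R ho', stcr7_M_x R hno, ← Matrix.mulVec_mulVec,
    ← Matrix.mulVec_mulVec, stcr7_Em_ng] at h'
  obtain ⟨hu, hu'⟩ := stcj2_coords hrp hrnp _ hp hr hnr u u' h'
  subst hu hu'
  rw [S.x_zero, S.x_zero, one_mul, one_mul] at h ⊢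
  exact IHo' y'' (S.Yjj_le_Lg o ho' ho'' hy'') (Yg_fix_phi_eq_one R o (S.Yjj_le_Yg o o' hy'') h)

end Rep

end SysC

end Cfsg.Agent.Lib.helper3.STC
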