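import Mathlib
import Cfsg.Agent.Lib.Helper19.U3P.Defs
import Cfsg.Agent.Lib.Helper25.SU3P.Basic
import Cfsg.Agent.Lib.Helper25.SU3P.Conj
import Cfsg.Agent.Lib.Lead.Unitary

/-!
# U3P X2 (`exists_gens`): the generators `a b c` and the embedding `ρ` of `SL₂(K)` in `SU₃(q)`.
-/

set_option autoImplicit false

namespace Cfsg.Agent.Lib.Helper19.U3P

open Cfsg.Agent.Lib.helper17.SLP Cfsg.Agent.Lib.helper14.SU3J Cfsg.Agent.Lib.Helper25.SU3P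
open Polynomial Matrix

universe u v

section Xaux

variable {F : Type u} [Field F] {K : Type u} [Field K]

theorem u3px2_presJ_wJ (σ : F →+* F) (γ : F) (hγ : γ ≠ 0) (hγσ : σ γ = -γ) : PresJ σ (wJ γ) := by
  intro x y
  have hγγ : γ * γ⁻¹ = 1 := mul_inv_cancel₀ hγ
  simp [hJ, mv3, wJ, hγσ]
  linear_combination (x 2 * σ (y 0) + x 0 * σ (y 2)) * hγγ

theorem u3px2_det_wJ (γ : F) (hγ : γ ≠ 0) : (wJ γ).det = 1 := by
  simp [wJ, Matrix.det_fin_three, hγ]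

theorem u3px2_presJ_rhoM (σ : F →+* F) (ι : K →+* F) (hι : ∀ y : K, σ (ι y) = ι y) (γ : F)
    (hγ : γ ≠ 0) (hγσ : σ γ = -γ) (g : SL2 K) : PresJ σ (rhoM ι γ g) := by
  intro x y
  have hdet : ι (g.1 0 0) * ι (g.1 1 1) - ι (g.1 0 1) * ι (g.1 1 0) = 1 := by
    have h := g.2
    rw [Matrix.det_fin_two] at h
    rw [← map_mul, ← map_mul, ← map_sub, h, map_one]
  have hγγ : γ * γ⁻¹ = 1 := mul_inv_cancel₀ hγ
  simp [hJ, mv3, rhoM, hγσ, hι]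
  linear_combination (x 0 * σ (y 2) + x 2 * σ (y 0)) * hdet -
    (x 0 * σ (y 2) + x 2 * σ (y 0)) * ι (g.1 0 1) * ι (g.1 1 0) * hγγ

theorem u3px2_det_rhoM (ι : K →+* F) (γ : F) (hγ : γ ≠ 0) (g : SL2 K) : (rhoM ι γ g).det = 1 := by
  have hdet : ι (g.1 0 0) * ι (g.1 1 1) - ι (g.1 0 1) * ι (g.1 1 0) = 1 := by
    have h := g.2
    rw [Matrix.det_fin_two] at h
    rw [← map_mul, ← map_mul, ← map_sub, h, map_one]
  have hγγ : γ * γ⁻¹ = 1 := mul_inv_cancel₀ hγ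
  simp [rhoM, Matrix.det_fin_three]
  linear_combination hdet - ι (g.1 0 1) * ι (g.1 1 0) * hγγ

theorem u3px2_rhoM_mul (ι : K →+* F) (γ : F) (hγ : γ ≠ 0) (g g' : SL2 K) :
    rhoM ι γ (g * g') = rhoM ι γ g * rhoM ι γ g' := by
  have hγγ : γ * γ⁻¹ = 1 := mul_inv_cancel₀ hγ
  ext i j
  fin_cases i <;> fin_cases j <;>
    simp [rhoM, Matrix.mul_apply, Fin.sum_univ_three, Fin.sum_univ_two,
      Matrix.SpecialLinearGroup.coe_mul] <;>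
    first
      | ring1
      | (linear_combination (ι (g.1 0 1) * ι (g'.1 1 0)) * hγγ)
      | (linear_combination -(ι (g.1 0 1) * ι (g'.1 1 0)) * hγγ)
      | (linear_combination (ι (g.1 1 0) * ι (g'.1 0 1)) * hγγ)
      | (linear_combination -(ι (g.1 1 0) * ι (g'.1 0 1)) * hγγ)

theorem u3px2_rhoM_one (ι : K →+* F) (γ : F) : rhoM ι γ (1 : SL2 K) = 1 := by
  ext i j
  fin_cases i <;> fin_cases j <;> simp [rhoM]

end Xaux

section X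

variable {F : Type u} [Field F] [Fintype F] {K : Type u} [Field K] [Fintype K] {q : ℕ}

/-- X2 [M]  the generators and the embedding of `SL₂(K)`. -/
theorem exists_gens (D : Par F K q) (hF : Fintype.card F = q ^ 2) (hγ : D.γ0 ≠ 0)
    (hγσ : D.σ D.γ0 = -D.γ0) :
    ∃ (a b c : ↥(Cfsg.SU 3 F q)) (ρ : SL2 K →* ↥(Cfsg.SU 3 F q)), Gens D a b c ρ := by
  have hσσ : ∀ x, D.σ (D.σ x) = x := fun x => Cfsg.Agent.Lib.Lead.frob_frob hF D.σ D.hσ x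
  have hι : ∀ y : K, D.σ (D.ι y) = D.ι y := fun y => (D.hι (D.ι y)).2 ⟨y, rfl⟩
  obtain ⟨a, ha⟩ := D.c.exists_lift (uu D.σ 1 D.β0)
    (ConjAux.presJ_uu D.σ hσσ 1 D.β0 (by simpa using D.hβ0)) (ConjAux.det_uu D.σ 1 D.β0)
  obtain ⟨b, hb⟩ := D.c.exists_lift (dd D.σ (D.ζ : F))
    (ConjAux.presJ_dd D.σ hσσ _ D.ζ.ne_zero) (ConjAux.det_dd D.σ _ D.ζ.ne_zero)
  obtain ⟨c, hc⟩ := D.c.exists_lift (wJ D.γ0) (u3px2_presJ_wJ D.σ D.γ0 hγ hγσ)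
    (u3px2_det_wJ D.γ0 hγ)
  have hex : ∀ g : SL2 K, ∃ X : ↥(Cfsg.SU 3 F q), D.c.cj X = rhoM D.ι D.γ0 g := fun g =>
    D.c.exists_lift _ (u3px2_presJ_rhoM D.σ D.ι hι D.γ0 hγ hγσ g) (u3px2_det_rhoM D.ι D.γ0 hγ g)
  have hspec : ∀ g : SL2 K, D.c.cj (Classical.choose (hex g)) = rhoM D.ι D.γ0 g := fun g =>
    Classical.choose_spec (hex g)
  refine ⟨a, b, c, MonoidHom.mk' (fun g => Classical.choose (hex g)) ?_, ⟨ha, hb, hc, ?_⟩⟩
  · intro g g'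
    apply D.c.cj_inj
    rw [D.c.cj_mul, hspec, hspec, hspec, u3px2_rhoM_mul D.ι D.γ0 hγ]
  · intro g
    exact hspec g

end X

end Cfsg.Agent.Lib.Helper19.U3P
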