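import Mathlib
import Cfsg.Agent.Lib.helper3.CEUO.Defs2
import Cfsg.Agent.Lib.Helper27.STU.Defs3
import Cfsg.Agent.Lib.Helper27.STU.Frob
import Cfsg.Agent.Lib.Helper27.STUH8

/-!
# Project CEUO (sub-designer helper3; odd case of helper7's CEU, S2089), row F3b (helper4), VERBATIM: `exists_ne_frob_two`
(a field with four elements has an element other than `0`, `1`).
-/

set_option autoImplicit false

namespace Cfsg.Agent.Lib.helper3.CEUO

open Cfsg.Agent.Lib.helper15.St2 Cfsg.Agent.Lib.helper7.Ce Cfsg.Agent.Lib.helper3.STC Cfsg.Agent.Lib.Helper27.STU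
  Cfsg.Agent.Lib.helper7.CEU

open Cfsg.Agent.Lib.helper7.CEC (I2 I3 I4 U2 U3)

section F

variable {F : Type*} [Field F] [StarRing F] {od : Prop} {ι : Type*} {G : Type*} [Group G]

/-- F3 [S]  a field with four elements has an element other than `0`, `1`; `r * r = r` iff `r = 0 ∨ r = 1`. -/
theorem exists_ne_frob_two {F : Type*} [Field F] [Fintype F] (hF : Fintype.card F = 2 ^ 2) : ∃ r : F, r ≠ 0 ∧ r * r ≠ r := by
  classical
  have h : ({0, 1} : Finset F).card < (Finset.univ : Finset F).card := by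
    rw [Finset.card_univ, hF]
    calc ({0, 1} : Finset F).card ≤ 2 := Finset.card_le_two
    _ < 2 ^ 2 := by norm_num
  obtain ⟨r, _, hr⟩ := Finset.exists_mem_notMem_of_card_lt_card h
  simp only [Finset.mem_insert, Finset.mem_singleton, not_or] at hr
  refine ⟨r, hr.1, ?_⟩
  intro h2
  have h0 : r * (r - 1) = 0 := by rw [mul_sub, h2, mul_one, sub_self]
  rcases mul_eq_zero.mp h0 with h3 | h3
  · exact hr.1 h3
  · exact hr.2 (sub_eq_zero.mp h3)

end F

end Cfsg.Agent.Lib.helper3.CEUO
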