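import Mathlib
import Cfsg.Agent.Lib.helper7.CEU.Defs
import Cfsg.Agent.Lib.Helper27.STU.Defs3
import Cfsg.Agent.Lib.Helper22.CECG1
import Cfsg.Agent.Lib.Helper24.STCI1
import Cfsg.Prelude.Def_Classical
import Cfsg.Prelude.Def_KGroupFacts

/-!
# Project CEU (designer helper7), part 1, rows G2 (`CL_ws CL_hs CL_wl CL_hl`) and G3 (`CL_tor_s`), VERBATIM (helper4).

Ports of the CED rows G2 / G3 (`Helper5.CEDG2`) to `SysU`.
-/

set_option autoImplicit false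

namespace Cfsg.Agent.Lib.helper7.CEU

open Cfsg.Agent.Lib.helper15.St2 Cfsg.Agent.Lib.helper7.Ce Cfsg.Agent.Lib.helper3.STC Cfsg.Agent.Lib.Helper27.STU

open Cfsg.Agent.Lib.helper7.CEC (I2 I3 I4 U2 U3)

section G

variable {F : Type*} [Field F] [StarRing F] {od : Prop} {ι : Type*} {Γ G : Type*} [Group Γ] [Group G] {S : SysU F od ι G} {σ : Γ →* G}

/-- G2 [S]  `S.ws c d u`, `S.hs c d u` are products of root elements `xs c d _`, `xs d c _` (`unfold SysU.ws SysU.hs`, `IsCE.CL_mul_left`).  Model `Helper5.CECG2` / `Helper5.CEDG2`. -/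
theorem CL_ws (h : IsCE σ) {c d : ι ⊕ ι} {y : G} (hcd : ∀ t, CL σ (S.xs c d t) y) (hdc : ∀ t, CL σ (S.xs d c t) y) (u : F) :
    CL σ (S.ws c d u) y := by
  unfold SysU.ws
  exact h.CL_mul_left (h.CL_mul_left (hcd u) (hdc _)) (hcd u)

theorem CL_hs (h : IsCE σ) {c d : ι ⊕ ι} {y : G} (hcd : ∀ t, CL σ (S.xs c d t) y) (hdc : ∀ t, CL σ (S.xs d c t) y) (u : F) :
    CL σ (S.hs c d u) y := by
  unfold SysU.hs
  exact h.CL_mul_left (CL_ws h hcd hdc u) (CL_ws h hcd hdc (-1))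

/-- G2 [S]  `S.wl c ξ = xl c ξ * xl (ng c) (mu ξ) * xl c (nu ξ)`, `S.hl c ξ η = wl c ξ * (wl c η)⁻¹` (`CEC.CL_inv`). -/
theorem CL_wl (h : IsCE σ) {c : ι ⊕ ι} {y : G} (hc : ∀ ξ, CL σ (S.xl c ξ) y) (hnc : ∀ ξ, CL σ (S.xl (ng c) ξ) y) (ξ : Lam F od) :
    CL σ (S.wl c ξ) y := by
  unfold SysU.wl
  exact h.CL_mul_left (h.CL_mul_left (hc ξ) (hnc _)) (hc _)

theorem CL_hl (h : IsCE σ) {c : ι ⊕ ι} {y : G} (hc : ∀ ξ, CL σ (S.xl c ξ) y) (hnc : ∀ ξ, CL σ (S.xl (ng c) ξ) y) (ξ η : Lam F od) :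
    CL σ (S.hl c ξ η) y := by
  unfold SysU.hl
  exact h.CL_mul_left (CL_wl h hc hnc ξ) (Cfsg.Agent.Lib.helper7.CEC.CL_inv h (CL_wl h hc hnc η))

/-- G3 [S-M]  the torus trick for a short root subgroup: `IsCE.torus` with `x := S.xs c e` (`S.adds`), the scalar `d c * (d e)⁻¹`; `hg.2.1` gives the action of `g` (`Equiv.Perm.one_apply`).  Model `Helper5.CECG2` (`CL_tor`). -/
theorem CL_tor_s (h : IsCE σ) {c e : ι ⊕ ι} (hce : ab c ≠ ab e) {g : G} {d : ι ⊕ ι → F} {d0 : F} (hg : S.IsMon g 1 d d0)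
    (hsc : d c * (d e)⁻¹ ≠ 1) {w : G} (hfix : cj g w = w) (hcomm : ∀ u, S.xs c e u * w = w * S.xs c e u) (u : F) :
    CL σ (S.xs c e u) w := by
  have hce1 : c ≠ e := by
    intro he
    apply hce
    rw [he]
  have hce2 : c ≠ ng e := by
    intro he
    apply hce
    rw [he, ab_ng]
  exact h.torus (fun u => S.xs c e u) (fun s t' => (S.adds c e hce1 hce2 s t').symm) w g
    (d c * (d e)⁻¹) hsc hcomm
    (fun u' => by
      have := hg.2.1 c e hce1 hce2 u'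
      simpa using this)
    hfix u

end G

end Cfsg.Agent.Lib.helper7.CEU
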