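import Mathlib
import Cfsg.Agent.Lib.helper3.CEUO.Defs2
import Cfsg.Agent.Lib.Helper27.STU.Defs3
import Cfsg.Agent.Lib.Helper27.STU.Frob
import Cfsg.Agent.Lib.Helper27.STUH8
import Cfsg.Agent.Lib.Helper24.STUM3
import Cfsg.Agent.Lib.Helper16.STUH4
import Cfsg.Agent.Lib.Helper18.CEUM1

/-!
# Project CEUO (sub-designer helper3; odd case of helper7's CEU, S2089), row M1 (helper4), CORE: `ceuom1_core` = `exists_lift_odd_abs`
with the STATEMENTS of B1 `HCs_odd`, B3 `HCl_odd`, X5 `shortLift_odd`, `HK_odd`, D6 `longLift_odd`, D7 `hls_odd`, `hhh_odd`, S2 `hssl_of_hls` (at the given `S`, `σ`, `h`) as hypotheses.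
On helper7's M1 `sysU_of_lifts` (`Helper18.CEUM1`), `SysU.hW_all` (`Helper24.STUM3`), `SysU.hH_all` (`Helper16.STUH4`).
-/

set_option autoImplicit false

namespace Cfsg.Agent.Lib.helper3.CEUO

open Cfsg.Agent.Lib.helper15.St2 Cfsg.Agent.Lib.helper7.Ce Cfsg.Agent.Lib.helper3.STC Cfsg.Agent.Lib.Helper27.STU
  Cfsg.Agent.Lib.helper7.CEU

open Cfsg.Agent.Lib.helper7.CEC (I2 I3 I4 U2 U3)

section M

universe u v w w₀

variable {F : Type u} [Field F] [StarRing F] {od : Prop} {ι : Type v} {Γ : Type w} {G : Type w₀} [Group Γ] [Group G] {σ : Γ →* G}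

/-- M1 core -/
theorem ceuom1_core [Finite F] [DecidableEq ι] (hF : Hyp F) (hod : od) (h : IsCE σ) (h2 : I2 ι) (S : SysU F od ι G)
    (hr1 : ∀ Z : LongLift S h, ∀ a, ∃ ρ : ↥(SUm F od) →* Γ, ∀ ξ, ρ (XpU ξ) = Z.Z a ξ ∧ ρ (XmU ξ) = Z.Z (ng a) ξ)
    (hB1 : HCs S σ)
    (hB3 : S.HH → HCl S σ)
    (hX5a : HCs S σ → HCl S σ → ∃ L : ShortLift S h, ∀ a b t, L.X a b t = Xo S h hF hod a b t)
    (hX5b : HCs S σ → HCl S σ → ∀ L : ShortLift S h, (∀ a b t, L.X a b t = Xo S h hF hod a b t) → HK L)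
    (hD6 : HCl S σ → ∀ L : ShortLift S h, HK L → ∃ Z : LongLift S h, ∀ c η, Z.Z c η = Zo L h2 c η)
    (hD7a : HCl S σ → ∀ L : ShortLift S h, HK L → ∀ Z : LongLift S h, (∀ c η, Z.Z c η = Zo L h2 c η) →
      ∀ a b : ι ⊕ ι, ab a ≠ ab b → ∀ (ξ : Lam F od) (u : F),
        cm (Z.Z a ξ) (L.X (ng a) b u) = L.X a b (ξ.c * u) * Z.Z (ng b) (Lam.act (star u) (Lam.bar ξ)))
    (hS2 : HCl S σ → ∀ (L : ShortLift S h) (Z : LongLift S h),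
      (∀ a b : ι ⊕ ι, ab a ≠ ab b → ∀ (ξ : Lam F od) (u : F),
        cm (Z.Z a ξ) (L.X (ng a) b u) = L.X a b (ξ.c * u) * Z.Z (ng b) (Lam.act (star u) (Lam.bar ξ))) →
      ∀ a b : ι ⊕ ι, ab a ≠ ab b → ∀ t u : F, cm (L.X a b t) (L.X b (ng a) u) = Z.Z a (Lam.tr (t * u)))
    (hD7b : ∀ L : ShortLift S h, HK L → ∀ Z : LongLift S h,
      ∀ a b : ι ⊕ ι, ab a ≠ ab b → ∀ ξ η : Lam F od, cm (Z.Z a ξ) (Z.Z b η) = L.X a (ng b) (-(ξ.v * star η.v))) :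
    ∃ P : SysU F od ι Γ, (∀ a b : ι ⊕ ι, ab a ≠ ab b → ∀ t, σ (P.xs a b t) = S.xs a b t) ∧ ∀ a ξ, σ (P.xl a ξ) = S.xl a ξ := by
  have hW : S.HW := S.hW_all
  have hH : S.HH := S.hH_all hW
  have hCs : HCs S σ := hB1
  have hCl : HCl S σ := hB3 hH
  obtain ⟨L, hL⟩ := hX5a hCs hCl
  have hK : HK L := hX5b hCs hCl L hL
  obtain ⟨Z, hZ⟩ := hD6 hCl L hK
  have hls := hD7a hCl L hK Z hZ
  have hssl := hS2 hCl L Z hls
  have hhh := hD7b L hK Z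
  exact sysU_of_lifts hCs hCl hW L Z hssl hls hhh (hr1 Z)

end M

end Cfsg.Agent.Lib.helper3.CEUO
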