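import Mathlib
import Cfsg.Agent.Lib.helper3.CEUO.Defs2
import Cfsg.Agent.Lib.Helper27.STU.Defs3
import Cfsg.Agent.Lib.Helper27.STU.Frob
import Cfsg.Agent.Lib.Helper27.STUH8
import Cfsg.Agent.Lib.helper4.CEUOM1core
import Cfsg.Agent.Lib.Helper13.CEUOB1
import Cfsg.Agent.Lib.Helper25.CEUOB3
import Cfsg.Agent.Lib.Helper19.CEUOX2
import Cfsg.Agent.Lib.Helper19.CEUOX5
import Cfsg.Agent.Lib.Helper27.CEUOD5
import Cfsg.Agent.Lib.Helper1.CEUOS2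

/-!
# Project CEUO (sub-designer helper3; odd case of helper7's CEU, S2089), row M1 (helper4), VERBATIM: `exists_lift_odd_abs`.
Wrapper of `ceuom1_core` (`helper4.CEUOM1core`) on B1 `HCs_odd` (`Helper13.CEUOB1`), B3 `HCl_odd` (`Helper25.CEUOB3`), X5 `shortLift_odd` (`Helper19.CEUOX5`), `HK_odd` (`Helper19.CEUOX2`),
D6 D7 `longLift_odd hls_odd hhh_odd` (`Helper27.CEUOD5`), S2 `hssl_of_hls` (`Helper1.CEUOS2`).
-/

set_option autoImplicit false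

namespace Cfsg.Agent.Lib.helper3.CEUO

open Cfsg.Agent.Lib.helper15.St2 Cfsg.Agent.Lib.helper7.Ce Cfsg.Agent.Lib.helper3.STC Cfsg.Agent.Lib.Helper27.STU
  Cfsg.Agent.Lib.helper7.CEU

open Cfsg.Agent.Lib.helper7.CEC (I2 I3 I4 U2 U3)

section M

universe u v w w₀

variable {F : Type u} [Field F] [StarRing F] {od : Prop} {ι : Type v} {Γ : Type w} {G : Type w₀} [Group Γ] [Group G] {σ : Γ →* G}

/-- M1 [M]  assembly with helper7's `sysU_of_lifts`. -/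
theorem exists_lift_odd_abs [Finite F] [DecidableEq ι] (hF : Hyp F) (hod : od) (h : IsCE σ) (h2 : I2 ι) (S : SysU F od ι G) (htb : TorB S)
    (ht1 : Tor1 S) {s : F} (hs0 : s ≠ 0) (hs2 : s ^ 2 ≠ 1)
    (hr1 : ∀ Z : LongLift S h, ∀ a, ∃ ρ : ↥(SUm F od) →* Γ, ∀ ξ, ρ (XpU ξ) = Z.Z a ξ ∧ ρ (XmU ξ) = Z.Z (ng a) ξ) :
    ∃ P : SysU F od ι Γ, (∀ a b : ι ⊕ ι, ab a ≠ ab b → ∀ t, σ (P.xs a b t) = S.xs a b t) ∧ ∀ a ξ, σ (P.xl a ξ) = S.xl a ξ :=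
  ceuom1_core hF hod h h2 S hr1 (HCs_odd h hF hod) (fun hH => HCl_odd h htb hH hs0 hs2)
    (fun hCs hCl => shortLift_odd h hF hod hCs hCl htb) (fun hCs hCl L hL => HK_odd h hF hod hCs hCl htb L hL)
    (fun hCl L hK => longLift_odd hF hod hCl L hK ht1 h2) (fun hCl L hK Z hZ => hls_odd hF hod hCl L hK ht1 h2 Z hZ)
    (fun hCl L Z hls => hssl_of_hls hF hCl L Z hls) (fun L hK Z => hhh_odd L hK Z)

end M

end Cfsg.Agent.Lib.helper3.CEUO
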