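import Mathlib
import Cfsg.Agent.Lib.Helper13.O459.Defs
import Cfsg.Agent.Lib.Helper25.CharLinear

/-!
# Project O459 (S1022), piece FINAL: `final_count`
Sylow counting in `H = C_G(y)`, `y` an involution centralised by `N = N_G(P)`, `|N| = 456`, `|H| ≥ 649`.
-/

set_option autoImplicit false
set_option linter.unusedVariables false
set_option linter.unusedSectionVars false

namespace Cfsg.Agent.Lib.Helper13.O459

open Classical
open Cfsg.Agent.Lib.helper7.BR Cfsg.Agent.Lib.Helper25

universe u

variable {G : Type u} [Group G] [Fintype G]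

/-- a divisor of `1008` that is `≡ 1 mod 19` is `1` or `1008`. -/
theorem o459final_arith (n : ℕ) (h : n ∣ 1008) (h19 : n % 19 = 1) : n = 1 ∨ n = 1008 := by
  obtain ⟨k, hk⟩ := h
  have hk19 : k % 19 = 1 := by
    have h1 : (1008 : ℕ) % 19 = 1 := by norm_num
    rw [hk, Nat.mul_mod, h19, one_mul, Nat.mod_mod] at h1
    exact h1
  obtain ⟨j, hj⟩ : ∃ j, n = 19 * j + 1 := ⟨n / 19, by omega⟩
  obtain ⟨l, hl⟩ : ∃ l, k = 19 * l + 1 := ⟨k / 19, by omega⟩
  subst hj hl
  have hj53 : j ≤ 53 := by
    by_contra hcon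
    push Not at hcon
    have : (19 * 54 + 1) * 1 ≤ (19 * j + 1) * (19 * l + 1) :=
      Nat.mul_le_mul (by omega) (by omega)
    omega
  interval_cases j <;> omega

/-- Sylow counting in an overgroup `H` of `N_G(P)`: `|H : N| ≡ 1 mod 19` and `|N| |H : N| = |H|`. -/
theorem o459final_index (P : Sylow 19 G) (H : Subgroup G) (hNH : nrm P ≤ H) :
    (nrm P).relIndex H % 19 = 1 ∧ Nat.card ↥(nrm P) * (nrm P).relIndex H = Nat.card ↥H := by
  have hPH : (P : Subgroup G) ≤ H := Subgroup.le_normalizer.trans hNH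
  have h1 := card_sylow_modEq_one 19 ↥H
  have h2 : Nat.card (Sylow 19 ↥H) = ((nrm P).subgroupOf H).index := by
    rw [Sylow.card_eq_index_normalizer (P.subtype hPH)]
    have h3 : Subgroup.normalizer (((P : Subgroup G).subgroupOf H : Subgroup ↥H) : Set ↥H) =
        (nrm P).subgroupOf H := (Subgroup.subgroupOf_normalizer_eq hPH).symm
    rw [← h3]
    rfl
  constructor
  · have h4 : (nrm P).relIndex H = Nat.card (Sylow 19 ↥H) := h2.symm
    rw [h4]
    have h5 : Nat.card (Sylow 19 ↥H) % 19 = 1 % 19 := h1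
    omega
  · have h6 := Subgroup.card_mul_index ((nrm P).subgroupOf H)
    rw [Nat.card_congr (Subgroup.subgroupOfEquivOfLe hNH).toEquiv] at h6
    exact h6

/-- FINAL [M-L]: Sylow counting in `H = C_G(y)`, `y` an involution centralised by `N = N_G(P)`, `|N| = 456`, `|H| ≥ 649`. -/
theorem final_count [IsSimpleGroup G] (hG : Nat.card G = 459648) (P : Sylow 19 G)
    (hP : Nat.card ↥(P : Subgroup G) = 19) (hN : Nat.card ↥(nrm P) = 456) (y : G)
    (hy : orderOf y = 2) (hyN : ∀ g ∈ nrm P, g * y = y * g)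
    (hbig : 649 ≤ Nat.card ↥(Subgroup.centralizer ({y} : Set G))) : False := by
  have hNH : nrm P ≤ Subgroup.centralizer ({y} : Set G) := by
    intro g hg
    rw [Subgroup.mem_centralizer_iff]
    intro h hh
    rw [Set.mem_singleton_iff] at hh
    subst hh
    exact (hyN g hg).symm
  obtain ⟨hmod, hcard⟩ := o459final_index P _ hNH
  generalize (nrm P).relIndex (Subgroup.centralizer ({y} : Set G)) = n at hmod hcard
  rw [hN] at hcard
  have hdvd : Nat.card ↥(Subgroup.centralizer ({y} : Set G)) ∣ Nat.card G :=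
    Subgroup.card_subgroup_dvd_card _
  rw [← hcard, hG] at hdvd
  have hn1008 : n ∣ 1008 := by
    have e : 456 * 1008 = 459648 := by norm_num
    have h1 : 456 * n ∣ 456 * 1008 := by rw [e]; exact hdvd
    exact Nat.dvd_of_mul_dvd_mul_left (by norm_num) h1
  rcases o459final_arith n hn1008 hmod with h1 | h1
  · rw [h1] at hcard
    omega
  · have htop : Subgroup.centralizer ({y} : Set G) = ⊤ := by
      apply Subgroup.eq_top_of_card_eq
      rw [← hcard, h1, hG]
    have hcomm : ∀ g : G, Commute g y := by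
      intro g
      have hg : g ∈ Subgroup.centralizer ({y} : Set G) := by rw [htop]; exact Subgroup.mem_top g
      exact (Subgroup.mem_centralizer_iff.mp hg y rfl).symm
    have hnorm : (Subgroup.zpowers y).Normal := by
      constructor
      intro x hx g
      obtain ⟨k, rfl⟩ := Subgroup.mem_zpowers_iff.mp hx
      rw [((hcomm g).zpow_right k).eq, mul_inv_cancel_right]
      exact hx
    rcases hnorm.eq_bot_or_eq_top with h2 | h2
    · rw [Subgroup.zpowers_eq_bot] at h2
      rw [h2, orderOf_one] at hy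
      omega
    · have h3 : Nat.card ↥(Subgroup.zpowers y) = orderOf y := Nat.card_zpowers y
      rw [h2, Subgroup.card_top, hG, hy] at h3
      omega

end Cfsg.Agent.Lib.Helper13.O459
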