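import Mathlib
import Cfsg.Agent.Lib.helper17.SLP.Defs
import Cfsg.Agent.Lib.helper15.SL2Card

/-!
# SLP row FIN3 (`sl_two`), core: `SL₂(F)`, `F` of characteristic 2, has a presentation with three
generators and at most five relations.  The statements of X2, C1, N2, N4, K3, P1 (at `SL₂(F)`),
M1 (`hM_mul`), M3 (`relK1_M`), M4, M5 are hypotheses; `slpfin3_ev_wordsT` is an own copy of the
`wordsT` part of P2.
-/

set_option autoImplicit false

namespace Cfsg.Agent.Lib.helper17.SLP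

open Polynomial

universe u v

theorem slpfin3_ev_wordsT {G : Type*} [Group G] (u h w : G) (n : ℕ) :
    (∀ r ∈ wordsT n, ev u h w r = 1) ↔ (relK1 u w = 1 ∧ braid n (h * w) w = 1) := by
  have e1 : ev u h w (relK1 gU gW) = relK1 u w := by rw [map_relK1, ev_gU, ev_gW]
  have e2 : ev u h w (braid n (gH * gW) gW) = braid n (h * w) w := by
    rw [map_braid, map_mul, ev_gH, ev_gW]
  constructor
  · intro H
    have h1 := H (relK1 gU gW) (by simp [wordsT])
    have h2 := H (braid n (gH * gW) gW) (by simp [wordsT])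
    rw [e1] at h1
    rw [e2] at h2
    exact ⟨h1, h2⟩
  · rintro ⟨a1, a2⟩ r hr
    simp only [wordsT, List.mem_cons, List.not_mem_nil, or_false] at hr
    rcases hr with rfl | rfl
    · rw [e1]; exact a1
    · rw [e2]; exact a2

theorem slpfin3_arith (q : ℕ) (hq : 1 ≤ q) : q * (q - 1) * (q + 1) = q * (q ^ 2 - 1) := by
  obtain ⟨k, rfl⟩ : ∃ k, q = k + 1 := ⟨q - 1, by omega⟩
  have h1 : (k + 1) ^ 2 - 1 = k * (k + 2) := by
    have : (k + 1) ^ 2 = k * (k + 2) + 1 := by ring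
    omega
  rw [h1, Nat.add_sub_cancel]
  ring

/-- **FIN3 core**. -/
theorem slpfin3_core {F : Type u} [Field F] [Fintype F] [CharP F 2]
    (hX2 : ∀ ζ : Fˣ, (∀ y : Fˣ, y ∈ Subgroup.zpowers ζ) →
      ∃ (A : List (FreeGroup (Fin 3))), A.length ≤ 3 ∧
        (∀ r ∈ A, ev (xM (1 : F)) (hM ζ) wM r = 1) ∧
        ∀ (G : Type) [Group G] (u h w : G), (∀ r ∈ A, ev u h w r = 1) →
          ∃ x : F → G, (∀ s t, x (s + t) = x s * x t) ∧
            (∀ t, h * x t * h⁻¹ = x ((ζ : F) ^ 2 * t)) ∧ x 1 = u)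
    (hC1 : ∀ (G : Type) [Group G] (ζ : Fˣ), (∀ y : Fˣ, y ∈ Subgroup.zpowers ζ) →
      ∀ (u h w : G) (N : ℕ), 0 < N → Subgroup.closure {u, h, w} = ⊤ →
      ∀ (x : F → G), (∀ s t, x (s + t) = x s * x t) →
      (∀ t, h * x t * h⁻¹ = x ((ζ : F) ^ 2 * t)) → x 1 = u →
      h ^ N = 1 → w * h * w⁻¹ = h⁻¹ → w ^ 2 ∈ Subgroup.zpowers h →
      relK1 u w = 1 → relK2 (x (ζ : F)) h w = 1 →
      Finite G ∧ Nat.card G ≤ Fintype.card F * N * (Fintype.card F + 1))
    (hN2 : ∀ (G : Type) [Group G] (h w : G) (m : ℕ), w ^ 2 = 1 →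
      braid (2 * m + 1) (h * w) w = 1 → w * h * w⁻¹ = h⁻¹ ∧ h ^ (2 * m + 1) = 1)
    (hN4 : ∀ (G : Type) [Group G] (u w : G), u ^ 2 = 1 → relK1 u w = 1 → w ^ 2 = 1)
    (hK3 : ∀ (G : Type) [Group G] (ζ : Fˣ) (x : F → G) (h w : G),
      (∀ s t, x (s + t) = x s * x t) → (∀ t, h * x t * h⁻¹ = x ((ζ : F) ^ 2 * t)) →
      w * h * w⁻¹ = h⁻¹ → h ^ (Fintype.card F - 1) = 1 → relK1 (x 1) w = 1 →
      relK2 (x (ζ : F)) h w = 1)
    (hP1 : ∀ (L : List (FreeGroup (Fin 3))) (a b c : Matrix.SpecialLinearGroup (Fin 2) F),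
      Subgroup.closure {a, b, c} = ⊤ → (∀ r ∈ L, ev a b c r = 1) →
      (∀ (G : Type) [Group G] (u h w : G), Subgroup.closure {u, h, w} = ⊤ →
        (∀ r ∈ L, ev u h w r = 1) →
        Finite G ∧ Nat.card G ≤ Nat.card (Matrix.SpecialLinearGroup (Fin 2) F)) →
      Nonempty (PresentedGroup (↑L.toFinset : Set (FreeGroup (Fin 3))) ≃*
        Matrix.SpecialLinearGroup (Fin 2) F))
    (hM1 : ∀ s t : Fˣ, (hM s * hM t : Matrix.SpecialLinearGroup (Fin 2) F) = hM (s * t))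
    (hM3 : relK1 (xM (1 : F)) wM = 1)
    (hM4 : ∀ ζ : Fˣ, (∀ y : Fˣ, y ∈ Subgroup.zpowers ζ) →
      Subgroup.closure {xM (1 : F), hM ζ, wM} = ⊤)
    (hM5 : ∀ (s : Fˣ) (m : ℕ), braid (2 * m + 1) (hM s * wM) wM = hM (s ^ (2 * m + 1))) :
    ∃ rels : Finset (FreeGroup (Fin 3)), rels.card ≤ 5 ∧
      Nonempty (PresentedGroup (↑rels : Set (FreeGroup (Fin 3))) ≃*
        Matrix.SpecialLinearGroup (Fin 2) F) := by
  classical
  obtain ⟨ζ, hζ⟩ := IsCyclic.exists_generator (α := Fˣ)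
  obtain ⟨A, hA3, hArel, hAx⟩ := hX2 ζ hζ
  have hq2 : 2 ≤ Fintype.card F := Fintype.one_lt_card
  have heven : Fintype.card F % 2 = 0 :=
    FiniteField.even_card_of_char_two (ringChar.eq F 2)
  obtain ⟨m, hm⟩ : ∃ m, Fintype.card F - 1 = 2 * m + 1 :=
    ⟨(Fintype.card F - 2) / 2, by omega⟩
  have hζq : ζ ^ (Fintype.card F - 1) = 1 := by
    have hc : Nat.card Fˣ = Fintype.card F - 1 := by
      rw [Nat.card_units, Nat.card_eq_fintype_card]
    rw [← hc]
    exact pow_card_eq_one'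
  have hM1one : (hM (1 : Fˣ) : Matrix.SpecialLinearGroup (Fin 2) F) = 1 := by
    have h1 := hM1 (1 : Fˣ) 1
    rw [mul_one] at h1
    exact mul_left_cancel (a := hM (1 : Fˣ)) (by rw [h1, mul_one])
  obtain ⟨L, hL⟩ : ∃ L, L = A ++ wordsT (Fintype.card F - 1) := ⟨_, rfl⟩
  refine ⟨L.toFinset, ?_, ?_⟩
  · calc L.toFinset.card ≤ L.length := List.toFinset_card_le L
      _ = A.length + 2 := by rw [hL, List.length_append]; rfl
      _ ≤ 5 := by omega
  · apply hP1 L (xM 1) (hM ζ) wM (hM4 ζ hζ)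
    · intro r hr
      rw [hL, List.mem_append] at hr
      rcases hr with hr | hr
      · exact hArel r hr
      · have hbr : braid (Fintype.card F - 1) (hM ζ * wM) wM = 1 := by
          rw [hm, hM5 ζ m, ← hm, hζq, hM1one]
        exact (slpfin3_ev_wordsT (xM (1 : F)) (hM ζ) wM (Fintype.card F - 1)).2 ⟨hM3, hbr⟩ r hr
    · intro G _ u h w hgen hrel
      have hrelA : ∀ r ∈ A, ev u h w r = 1 := fun r hr =>
        hrel r (by rw [hL]; exact List.mem_append_left _ hr)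
      obtain ⟨hK1, hbr⟩ := (slpfin3_ev_wordsT u h w (Fintype.card F - 1)).1
        (fun r hr => hrel r (by rw [hL]; exact List.mem_append_right _ hr))
      obtain ⟨x, hadd, hconj, hx1⟩ := hAx G u h w hrelA
      have hx0 : x 0 = 1 := by
        have h0 := hadd 0 0
        rw [add_zero] at h0
        exact (mul_left_cancel (a := x 0) (by rw [← h0, mul_one])).symm
      have hu2 : u ^ 2 = 1 := by
        rw [← hx1, pow_two, ← hadd, CharTwo.add_self_eq_zero, hx0]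
      have hw2 : w ^ 2 = 1 := hN4 G u w hu2 hK1
      rw [hm] at hbr
      obtain ⟨hwh, hhN⟩ := hN2 G h w m hw2 hbr
      rw [← hm] at hhN
      have hK1' : relK1 (x 1) w = 1 := by rw [hx1]; exact hK1
      have hK2 : relK2 (x (ζ : F)) h w = 1 := hK3 G ζ x h w hadd hconj hwh hhN hK1'
      have hcard := hC1 G ζ hζ u h w (Fintype.card F - 1) (by omega) hgen x hadd hconj hx1 hhN hwh
        (by rw [hw2]; exact Subgroup.one_mem _) hK1 hK2
      refine ⟨hcard.1, hcard.2.trans (le_of_eq ?_)⟩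
      rw [Cfsg.Agent.Lib.helper15.card_SL2]
      exact slpfin3_arith _ (by omega)

end Cfsg.Agent.Lib.helper17.SLP
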