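import Mathlib
import Cfsg.Agent.Lib.Helper19.U3P.Defs
import Cfsg.Agent.Lib.Helper19.U3PX1
import Cfsg.Agent.Lib.Helper19.U3PX7
import Cfsg.Agent.Lib.helper7.U3PF7
import Cfsg.Agent.Lib.helper7.U3PF8

/-!
# U3P X8 (`relB_S`): the relations of the `B`-part hold in the model `SU₃(q)`.
-/

set_option autoImplicit false
set_option linter.unusedSectionVars false

namespace Cfsg.Agent.Lib.Helper19.U3P

open Cfsg.Agent.Lib.helper17.SLP Cfsg.Agent.Lib.helper14.SU3J Cfsg.Agent.Lib.Helper25.SU3P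
open Polynomial Matrix

universe u v

section X

variable {F : Type u} [Field F] [Fintype F] {K : Type u} [Field K] [Fintype K] {q : ℕ}

variable {D : Par F K q} {a b c : ↥(Cfsg.SU 3 F q)} {ρ : SL2 K →* ↥(Cfsg.SU 3 F q)}

/-- the norm condition of a unitriangular element -/
theorem u3px8_norm (hσσ : ∀ x, D.σ (D.σ x) = x) (X : ↥(Cfsg.SU 3 F q)) (α β : F)
    (hX : D.c.cj X = uu D.σ α β) : β + D.σ β + α * D.σ α = 0 := by
  have hP := D.c.cj_presJ X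
  rw [hX] at hP
  have h1 := hP ![0, 0, 1] ![0, 0, 1]
  simp [hJ, mv3, uu, hσσ] at h1
  linear_combination h1

theorem u3px8_isU_inv (hσσ : ∀ x, D.σ (D.σ x) = x) {X : ↥(Cfsg.SU 3 F q)} {α : F}
    (hX : u3px1_IsU D X α) : u3px1_IsU D X⁻¹ (-α) := by
  obtain ⟨β, hβ⟩ := hX
  exact ⟨_, u3px1_cj_inv X α β hβ (u3px8_norm hσσ X α β hβ)⟩

/-- two elements of `U` with the same `α`-coordinate differ by an element of `Z`. -/
theorem u3px8_eq_mul_Z (hG : Gens D a b c ρ) (hσσ : ∀ x, D.σ (D.σ x) = x) (hγ : D.γ0 ≠ 0)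
    (hγσ : D.σ D.γ0 = -D.γ0) {X Y : ↥(Cfsg.SU 3 F q)} {α : F}
    (hX : u3px1_IsU D X α) (hY : u3px1_IsU D Y α) : ∃ t : K, X = Y * ρ (xM t) := by
  have h := u3px1_isU_mul (u3px8_isU_inv hσσ hY) hX
  rw [neg_add_cancel] at h
  obtain ⟨β, hβ⟩ := h
  obtain ⟨t, ht⟩ := Z_of_alpha_zero hG hγ hγσ _ β hβ
  exact ⟨t, by rw [← ht, mul_inv_cancel_left]⟩

theorem u3px8_isU_a (hG : Gens D a b c ρ) : u3px1_IsU D a 1 := ⟨D.β0, hG.ha⟩

theorem u3px8_isU_cj (hG : Gens D a b c ρ) (hσσ : ∀ x, D.σ (D.σ x) = x) (i : ℤ) :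
    u3px1_IsU D (cj b a i) (D.al ^ i) :=
  ⟨_, by rw [cj_b_U hG hσσ a 1 D.β0 hG.ha i, mul_one]⟩

/-- X8 [M] -/
theorem relB_S (hG : Gens D a b c ρ) (hF : Fintype.card F = q ^ 2) (hK : Fintype.card K = q) (hq : 4 ≤ q)
    (h5 : q ≠ 5) (p : ℕ) [Fact p.Prime] [Algebra (ZMod p) F]
    (hsurj : Function.Surjective (fun f : (ZMod p)[X] => aeval D.nu f)) :
    ∃ C : ConstsB K p, RelB p q ρ a b C ∧ C.mν = minpoly (ZMod p) D.nu ∧ aeval D.nu C.fl = D.al ∧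
      D.al ^ C.k = D.nu + 1 := by
  have hσσ : ∀ x, D.σ (D.σ x) = x := fun x => Cfsg.Agent.Lib.Lead.frob_frob hF D.σ D.hσ x
  have hγ : D.γ0 ≠ 0 := (nu_ne D hF hK hq h5).2.2
  have hγσ : D.σ D.γ0 = -D.γ0 := (par_basic D hF hK hq).2.2.2.2.1
  obtain ⟨k, hk⟩ := exists_k D hF hK hq h5
  obtain ⟨fl, hfl⟩ := hsurj D.al
  have hfl' : aeval D.nu fl = D.al := hfl
  have halq : D.al ^ ((q : ℤ) - 1) = D.nu := u3px7_al_pow D (by omega)
  have hp0 : (p : F) = 0 := by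
    rw [← map_natCast (algebraMap (ZMod p) F) p, ZMod.natCast_self, map_zero]
  -- b4
  have h4 : u3px1_IsU D (a ^ p) 0 := by
    have := u3px1_isU_pow (u3px8_isU_a hG) p
    rwa [hp0, zero_mul] at this
  obtain ⟨β4, hβ4⟩ := h4
  obtain ⟨t4, ht4⟩ := Z_of_alpha_zero hG hγ hγσ _ β4 hβ4
  -- b6
  have h6l : u3px1_IsU D (cj b a k) (D.nu + 1) := by
    have := u3px8_isU_cj hG hσσ k
    rwa [hk] at this
  have h6r : u3px1_IsU D (cj b a ((q : ℤ) - 1) * a) (D.nu + 1) := by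
    have := u3px1_isU_mul (u3px8_isU_cj hG hσσ ((q : ℤ) - 1)) (u3px8_isU_a hG)
    rwa [halq] at this
  obtain ⟨t6, ht6⟩ := u3px8_eq_mul_Z hG hσσ hγ hγσ h6l h6r
  -- b7
  have h7l : u3px1_IsU D (cj b a 1) D.al := by
    have := u3px8_isU_cj hG hσσ 1
    rwa [zpow_one] at this
  have h7r : u3px1_IsU D (pw p b a ((q : ℤ) - 1) fl) D.al := by
    obtain ⟨β, hβ⟩ := pw_U hG hσσ p ((q : ℤ) - 1) fl
    rw [halq, hfl'] at hβ
    exact ⟨β, hβ⟩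
  obtain ⟨t7, ht7⟩ := u3px8_eq_mul_Z hG hσσ hγ hγσ h7l h7r
  -- b8
  obtain ⟨β8, hβ8⟩ := pw_U hG hσσ p ((q : ℤ) - 1) (minpoly (ZMod p) D.nu)
  rw [halq, minpoly.aeval] at hβ8
  obtain ⟨t8, ht8⟩ := Z_of_alpha_zero hG hγ hγσ _ β8 hβ8
  -- b1
  have h1 : Commute (ρ (xM (1 : K))) a := by
    apply D.c.cj_inj
    rw [D.c.cj_mul, D.c.cj_mul, rho_x hG, hG.ha, uu_mul, uu_mul]
    congr 1
    · ring
    · rw [map_zero, map_one]; ring
  refine ⟨⟨k, minpoly (ZMod p) D.nu, fl, t4, t6, t7, t8⟩, ⟨h1, ht4, ht6, ht7, ht8⟩, rfl, hfl', hk⟩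

end X

end Cfsg.Agent.Lib.Helper19.U3P
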