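import Mathlib
import Cfsg.Agent.Lib.helper17.SLP.Defs
import Cfsg.Agent.Lib.helper3.SP4.Defs
import Cfsg.Agent.Lib.Helper22.SU4.Defs

/-!
# Project SU4 (designer helper22), row F0 (`tw_basicT`) (helper4), VERBATIM.
The single identities are also given under own names `su4f0_*`.
-/

set_option autoImplicit false

namespace Cfsg.Agent.Lib.Helper22.SU4

open Cfsg.Agent.Lib.helper17.SLP Cfsg.Agent.Lib.helper3.SP4

universe u v

section F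

variable {F : Type u} {K : Type u} [Field F] [Field K]

theorem su4f0_nm_ι (D : Tw F K) (y : K) : D.nm (D.ι y) = y ^ 2 := by
  apply D.ι_injective
  rw [D.hnm, D.σ_ι, map_pow, sq]

theorem su4f0_nm_σ (D : Tw F K) (x : F) : D.nm (D.σ x) = D.nm x := by
  apply D.ι_injective
  rw [D.hnm, D.hnm, D.σσ, mul_comm]

theorem su4f0_tr_add (D : Tw F K) (x y : F) : D.tr (x + y) = D.tr x + D.tr y := by
  apply D.ι_injective
  rw [map_add, D.htr, D.htr, D.htr, map_add]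
  ring

theorem su4f0_tr_zero (D : Tw F K) : D.tr 0 = 0 := by
  apply D.ι_injective
  rw [D.htr, map_zero, map_zero, add_zero]

theorem su4f0_tr_neg (D : Tw F K) (x : F) : D.tr (-x) = -D.tr x := by
  apply D.ι_injective
  rw [map_neg, D.htr, D.htr, map_neg]
  ring

theorem su4f0_tr_σ (D : Tw F K) (x : F) : D.tr (D.σ x) = D.tr x := by
  apply D.ι_injective
  rw [D.htr, D.htr, D.σσ, add_comm]

theorem su4f0_tr_ι_mul (D : Tw F K) (y : K) (x : F) : D.tr (D.ι y * x) = y * D.tr x := by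
  apply D.ι_injective
  rw [map_mul, D.htr, D.htr, map_mul, D.σ_ι]
  ring

theorem su4f0_tr_one (D : Tw F K) : D.tr 1 = 2 := by
  apply D.ι_injective
  rw [D.htr, map_one, map_ofNat]
  norm_num

theorem su4f0_nm_add (D : Tw F K) (x y : F) : D.nm (x + y) = D.nm x + D.nm y + D.tr (x * D.σ y) := by
  apply D.ι_injective
  rw [map_add, map_add, D.hnm, D.hnm, D.hnm, D.htr, map_add, map_mul, D.σσ]
  ring

theorem su4f0_nmu_ιu (D : Tw F K) (r : Kˣ) : D.nmu (D.ιu r) = r ^ 2 := by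
  apply Units.ext
  rw [D.nmu_coe, D.ιu_coe, su4f0_nm_ι, Units.val_pow_eq_pow_val]

theorem su4f0_nmu_σu (D : Tw F K) (s : Fˣ) : D.nmu (D.σu s) = D.nmu s := by
  apply Units.ext
  rw [D.nmu_coe, D.σu_coe, su4f0_nm_σ, D.nmu_coe]

theorem su4f0_σu_σu (D : Tw F K) (s : Fˣ) : D.σu (D.σu s) = s := by
  apply Units.ext
  rw [D.σu_coe, D.σu_coe, D.σσ]

theorem su4f0_σu_ιu (D : Tw F K) (r : Kˣ) : D.σu (D.ιu r) = D.ιu r := by
  apply Units.ext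
  rw [D.σu_coe, D.ιu_coe, D.σ_ι]

theorem su4f0_ιu_nmu (D : Tw F K) (s : Fˣ) : D.ιu (D.nmu s) = s * D.σu s := by
  apply Units.ext
  rw [D.ιu_coe, D.nmu_coe, D.hnm, Units.val_mul, D.σu_coe]

/-- F0 [S-M]  Everything through `D.ι_injective` (`Defs.lean`) and `D.hnm`, `D.htr`, `D.σσ`, `D.σ_ι` (`map_add`, `map_mul`, `ring`).  One file. -/
theorem tw_basicT (D : Tw F K) :
    (∀ y, D.nm (D.ι y) = y ^ 2) ∧ (∀ x, D.nm (D.σ x) = D.nm x) ∧ (∀ x y, D.tr (x + y) = D.tr x + D.tr y) ∧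
      D.tr 0 = 0 ∧ (∀ x, D.tr (-x) = -D.tr x) ∧ (∀ x, D.tr (D.σ x) = D.tr x) ∧
      (∀ (y : K) (x : F), D.tr (D.ι y * x) = y * D.tr x) ∧ D.tr 1 = 2 ∧
      (∀ x y, D.nm (x + y) = D.nm x + D.nm y + D.tr (x * D.σ y)) ∧ (∀ r : Kˣ, D.nmu (D.ιu r) = r ^ 2) ∧
      (∀ s : Fˣ, D.nmu (D.σu s) = D.nmu s) ∧ (∀ s : Fˣ, D.σu (D.σu s) = s) ∧ (∀ r : Kˣ, D.σu (D.ιu r) = D.ιu r) ∧
      (∀ s : Fˣ, D.ιu (D.nmu s) = s * D.σu s) :=
  ⟨su4f0_nm_ι D, su4f0_nm_σ D, su4f0_tr_add D, su4f0_tr_zero D, su4f0_tr_neg D, su4f0_tr_σ D, su4f0_tr_ι_mul D,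
    su4f0_tr_one D, su4f0_nm_add D, su4f0_nmu_ιu D, su4f0_nmu_σu D, su4f0_σu_σu D, su4f0_σu_ιu D, su4f0_ιu_nmu D⟩

end F

end Cfsg.Agent.Lib.Helper22.SU4
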