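import Mathlib
import Cfsg.Prelude.Def_GeometricClasses
import Cfsg.Agent.Lib.Helper27.ASC.Defs
import Cfsg.Agent.Lib.helper23.ASCO.Defs
import Cfsg.Agent.Lib.Helper19.ASG.Defs
import Cfsg.Agent.Lib.Helper1.ASGCLIF3
import Cfsg.Agent.Lib.Helper25.ASO.Defs
import Cfsg.Agent.Lib.helper23.ASE.Defs
import Cfsg.Agent.Lib.helper8.ASECcore

set_option autoImplicit false
set_option linter.unusedVariables false
set_option linter.unusedSectionVars false

/-!
# Project ASE (S5826), piece CGRAM : `etensor_gram`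

The Gram matrix of the polar form, when the adjoint preserves a standard copy `P (M_k ⊗ 1) P⁻¹`, is a Kronecker product
`A ⊗ B` with `A`, `B` both symmetric or both skew-symmetric (= helper8's `asec_gram_kron` + `asec_kron_symm_cases`).
-/

namespace Cfsg.Agent.Lib.helper23.ASE

open Cfsg Cfsg.Geo Cfsg.Agent.Lib.Helper27.ASC Cfsg.Agent.Lib.helper23.ASCO Cfsg.Agent.Lib.Helper19.ASG
  Cfsg.Agent.Lib.Helper25.ASO
open scoped MatrixGroups Matrix Kronecker

variable {n : ℕ} {F : Type*} [Field F] [Fintype F]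

omit [Fintype F] in
/-- the two notions of "Gram matrix `A ⊗ B` in the coordinates `(e, P)`" agree -/
theorem asecgram_kronGram_iff (f : (Fin n → F) → (Fin n → F) → F) {k d : ℕ} (e : Fin n ≃ Fin k × Fin d)
    (P : GL (Fin n) F) (A : Matrix (Fin k) (Fin k) F) (B : Matrix (Fin d) (Fin d) F) :
    KronGram f e P A B ↔ Cfsg.Agent.Lib.Helper18.ASP.KrGram f e P A B :=
  Iff.rfl

omit [Field F] [Fintype F] in
/-- both factors of a positive product are positive -/
theorem asecgram_pos {k d : ℕ} (hn : 0 < n) (e : Fin n ≃ Fin k × Fin d) : 0 < k ∧ 0 < d := by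
  have hcard : n = k * d := by
    have := Fintype.card_congr e
    rwa [Fintype.card_fin, Fintype.card_prod, Fintype.card_fin, Fintype.card_fin] at this
  constructor
  · rcases Nat.eq_zero_or_pos k with h | h
    · rw [h, zero_mul] at hcard
      omega
    · exact h
  · rcases Nat.eq_zero_or_pos d with h | h
    · rw [h, mul_zero] at hcard
      omega
    · exact h

/-- CGRAM : the Gram matrix of a form whose adjoint preserves a standard copy `P (M_k ⊗ 1) P⁻¹` is a Kronecker product `A ⊗ B`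
with `A, B` both symmetric or both skew-symmetric.  (COPY of `Helper10.ASOCGRAM` `otensor_gram` up to `asocgram_factor`
(`Helper10.ASOCGRAMa`, no parity hypothesis): `G' = A ⊗ B` invertible and symmetric; then `(A ⊗ B)ᵀ = A ⊗ B` with `A i j ≠ 0`,
`B x y ≠ 0` gives `Aᵀ = λ A`, `Bᵀ = λ⁻¹ B`, `λ² = 1` (the first lines of `asocgram_symm`).) -/
theorem etensor_gram (hn : 0 < n) (Q : QuadraticForm F (Fin n → F))
    (hQ : (QuadraticMap.polarBilin Q).Nondegenerate) {k d : ℕ} (e : Fin n ≃ Fin k × Fin d) (P : GL (Fin n) F)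
    (hstar : ∀ a : Matrix (Fin k) (Fin k) F, ∃ a' : Matrix (Fin k) (Fin k) F,
      oadj (⇑Q) ((P : Matrix (Fin n) (Fin n) F) *
          Matrix.reindexAlgEquiv F F e.symm (a ⊗ₖ (1 : Matrix (Fin d) (Fin d) F)) *
          ((P⁻¹ : GL (Fin n) F) : Matrix (Fin n) (Fin n) F)) =
        (P : Matrix (Fin n) (Fin n) F) *
          Matrix.reindexAlgEquiv F F e.symm (a' ⊗ₖ (1 : Matrix (Fin d) (Fin d) F)) *
          ((P⁻¹ : GL (Fin n) F) : Matrix (Fin n) (Fin n) F)) :
    ∃ (A : Matrix (Fin k) (Fin k) F) (B : Matrix (Fin d) (Fin d) F), IsUnit A.det ∧ IsUnit B.det ∧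
      ((Aᵀ = A ∧ Bᵀ = B) ∨ (Aᵀ = -A ∧ Bᵀ = -B)) ∧ KronGram (QuadraticMap.polar (⇑Q)) e P A B := by
  obtain ⟨hk, hd⟩ := asecgram_pos hn e
  obtain ⟨A, B, hdet, hsym, hgram⟩ := Cfsg.Agent.Lib.helper8.ASEC.asec_gram_kron Q hQ hk hd e P hstar
  obtain ⟨hA, hB⟩ := Cfsg.Agent.Lib.helper8.ASEC.asec_det_factors hk hd A B hdet
  exact ⟨A, B, isUnit_iff_ne_zero.mpr hA, isUnit_iff_ne_zero.mpr hB,
    Cfsg.Agent.Lib.helper8.ASEC.asec_kron_symm_cases A B
      (Cfsg.Agent.Lib.helper8.ASEC.asec_ne_zero_of_det hk A hA)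
      (Cfsg.Agent.Lib.helper8.ASEC.asec_ne_zero_of_det hd B hB) hsym,
    fun x y => hgram x y⟩

end Cfsg.Agent.Lib.helper23.ASE
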