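import Mathlib
import Cfsg.Prelude.Def_GeometricClasses
import Cfsg.Agent.Lib.Helper27.ASC.Defs

/-!
# Project ASC, piece ES6 : the trichotomy on the field for the Heisenberg case.
-/

set_option autoImplicit false
set_option linter.unusedVariables false

namespace Cfsg.Agent.Lib.Helper27.ASC

open Cfsg Cfsg.Geo
open scoped MatrixGroups Matrix

variable {n : ℕ} {F : Type*} [Field F] [Fintype F]

/-- the fixed field of the `d`-th power of the Frobenius is proper when `0 < d < e`, `|F| = p ^ e` -/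
theorem asces6_fixed_ne_top (p : ℕ) [hp : Fact p.Prime] [CharP F p] {e d : ℕ}
    (hcard : Fintype.card F = p ^ e) (hd0 : 0 < d) (hde : d < e) :
    RingHom.eqLocusField (iterateFrobenius F p d) (RingHom.id F) ≠ ⊤ := by
  classical
  intro htop
  obtain ⟨g, hg⟩ := IsCyclic.exists_ofOrder_eq_natCard (α := Fˣ)
  have hgmem : (g : F) ∈ RingHom.eqLocusField (iterateFrobenius F p d) (RingHom.id F) := by
    rw [htop]; exact Subfield.mem_top _
  have hg1 : (g : F) ^ p ^ d = (g : F) := by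
    have := hgmem
    simpa [RingHom.eqLocusField, iterateFrobenius_def] using this
  have hp1 : 1 < p := hp.out.one_lt
  have hpd : 1 ≤ p ^ d := Nat.one_le_pow _ _ (by omega)
  have hg2 : g ^ (p ^ d - 1) = 1 := by
    apply Units.ext
    have hg0 : (g : F) ≠ 0 := g.ne_zero
    have h3 : (g : F) ^ (p ^ d - 1) * (g : F) = 1 * (g : F) := by
      rw [← pow_succ, Nat.sub_add_cancel hpd, hg1, one_mul]
    have := mul_right_cancel₀ hg0 h3
    simpa using this
  have hdvd : orderOf g ∣ p ^ d - 1 := orderOf_dvd_of_pow_eq_one hg2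
  rw [hg, Nat.card_eq_fintype_card, Fintype.card_units, hcard] at hdvd
  have hlt : p ^ d < p ^ e := Nat.pow_lt_pow_right hp1 hde
  have hpos : 0 < p ^ d - 1 := by
    have : p ^ 1 ≤ p ^ d := Nat.pow_le_pow_right (by omega) hd0
    simp at this; omega
  have := Nat.le_of_dvd hpos hdvd
  omega

/-- ES6 -/
theorem heis_field_cases {r : ℕ} (hr : r.Prime) (hr2 : r ≠ 2) (ω : F) (hω1 : ω ≠ 1) (hωr : ω ^ r = 1) :
    (∃ p e : ℕ, r ≠ p ∧ IsMinimalFieldFor r p e F ∧ Odd e) ∨
    (∃ F₀ : Subfield F, F₀ ≠ ⊤ ∧ ω ∈ F₀) ∨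
    (∃ q₀ : ℕ, Fintype.card F = q₀ ^ 2 ∧ ω ^ (q₀ + 1) = 1) := by
  classical
  obtain ⟨p, hchar⟩ := CharP.exists F
  have := hchar
  obtain ⟨e, hpp, hcard⟩ := FiniteField.card F p
  have : Fact p.Prime := ⟨hpp⟩
  have hp1 : 1 < p := hpp.one_lt
  have : Fact r.Prime := ⟨hr⟩
  have hord : orderOf ω = r := orderOf_eq_prime hωr hω1
  have hω0 : ω ≠ 0 := by
    intro h0
    rw [h0, zero_pow hr.ne_zero] at hωr
    exact zero_ne_one hωr
  -- `r ∣ p ^ e - 1`
  have hre : r ∣ p ^ (e : ℕ) - 1 := by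
    rw [← hord, ← hcard]
    exact orderOf_dvd_of_pow_eq_one (FiniteField.pow_card_sub_one_eq_one ω hω0)
  have hrp : r ≠ p := by
    rintro rfl
    have h1 : r ∣ r ^ (e : ℕ) := dvd_pow_self r e.pos.ne'
    have h2 : 1 ≤ r ^ (e : ℕ) := Nat.one_le_pow _ _ (by omega)
    have h3 : r ∣ 1 := by
      have := (Nat.dvd_sub h1 hre)
      rwa [Nat.sub_sub_self h2] at this
    exact hr.one_lt.ne' (Nat.dvd_one.mp h3)
  -- the order `e₀` of `p` modulo `r`
  have hex : ∃ d : ℕ, 0 < d ∧ r ∣ p ^ d - 1 := ⟨e, e.pos, hre⟩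
  set e₀ := Nat.find hex with he₀
  have he₀pos : 0 < e₀ := (Nat.find_spec hex).1
  have he₀dvd : r ∣ p ^ e₀ - 1 := (Nat.find_spec hex).2
  have he₀min : ∀ d : ℕ, 0 < d → d < e₀ → ¬ r ∣ p ^ d - 1 := by
    intro d hd0 hd hdv
    exact Nat.find_min hex hd ⟨hd0, hdv⟩
  have he₀le : e₀ ≤ e := Nat.find_min' hex ⟨e.pos, hre⟩
  have hpow_of_dvd : ∀ m : ℕ, r ∣ m → ω ^ m = 1 := by
    intro m hm
    obtain ⟨k, rfl⟩ := hm
    rw [pow_mul, hωr, one_pow]
  rcases Nat.lt_or_ge e₀ e with hlt | hge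
  · -- a proper subfield containing `ω`
    right; left
    refine ⟨RingHom.eqLocusField (iterateFrobenius F p e₀) (RingHom.id F),
      asces6_fixed_ne_top p hcard he₀pos hlt, ?_⟩
    have hpd : 1 ≤ p ^ e₀ := Nat.one_le_pow _ _ (by omega)
    have h1 : ω ^ p ^ e₀ = ω := by
      have : ω ^ (p ^ e₀ - 1 + 1) = ω := by
        rw [pow_succ, hpow_of_dvd _ he₀dvd, one_mul]
      rwa [Nat.sub_add_cancel hpd] at this
    show (iterateFrobenius F p e₀) ω = (RingHom.id F) ω
    rw [iterateFrobenius_def]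
    simpa using h1
  · have hee : e₀ = e := le_antisymm he₀le hge
    rcases Nat.even_or_odd (e : ℕ) with hev | hodd
    · -- unitary case
      right; right
      obtain ⟨k, hk⟩ := hev
      have hk0 : 0 < k := by
        have := e.pos; omega
      refine ⟨p ^ k, ?_, ?_⟩
      · rw [hcard, hk, ← pow_mul, ← two_mul, mul_comm]
      · have hnot : ¬ r ∣ p ^ k - 1 := he₀min k hk0 (by rw [hee, hk]; omega)
        have hfac : p ^ (e : ℕ) - 1 = (p ^ k - 1) * (p ^ k + 1) := by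
          have h1 : 1 ≤ p ^ k := Nat.one_le_pow _ _ (by omega)
          rw [hk, ← two_mul, pow_mul']
          have h2 : (p ^ k) ^ 2 = (p ^ k - 1) * (p ^ k + 1) + 1 := by
            obtain ⟨m, hm⟩ : ∃ m, p ^ k = m + 1 := ⟨p ^ k - 1, by omega⟩
            rw [hm]; simp; ring
          omega
        rw [hfac] at hre
        rcases (Nat.Prime.dvd_mul hr).mp hre with h | h
        · exact absurd h hnot
        · exact hpow_of_dvd _ h
    · left
      refine ⟨p, e, hrp, ⟨hpp, hchar, hcard, hre, ?_⟩, hodd⟩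
      intro d hd0 hd
      exact he₀min d hd0 (by rw [hee]; exact hd)

end Cfsg.Agent.Lib.Helper27.ASC
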