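import Mathlib
import Cfsg.Prelude.Def_GeometricClasses
import Cfsg.Agent.Lib.Helper27.ASC.Defs
import Cfsg.Agent.Lib.Helper19.ASG.Defs
import Cfsg.Agent.Lib.Helper18.ASP.Defs
import Cfsg.Agent.Lib.Helper18.ASPADJ
import Cfsg.Agent.Lib.helper8.ASPC.Defs

set_option autoImplicit false
set_option linter.unusedVariables false
set_option linter.unusedSectionVars false

namespace Cfsg.Agent.Lib.Helper18.ASP

open Cfsg Cfsg.Geo Cfsg.Agent.Lib.Helper27.ASC Cfsg.Agent.Lib.Helper19.ASG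
open scoped MatrixGroups Matrix Kronecker

variable {n : ℕ} {F : Type*} [Field F]

/-- `(x, y)` is a multiple of `(a, b) ≠ 0` when the determinant vanishes -/
theorem aspchyp1_par (a b x y : F) (h : a ≠ 0 ∨ b ≠ 0) (hp : b * x - a * y = 0) :
    ∃ c : F, x = c * a ∧ y = c * b := by
  rcases h with ha | hb
  · refine ⟨x * a⁻¹, ?_, ?_⟩
    · rw [mul_assoc, inv_mul_cancel₀ ha, mul_one]
    · apply mul_left_cancel₀ ha
      have e : a * (x * a⁻¹ * b) = (a * a⁻¹) * (b * x) := by ring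
      rw [e, mul_inv_cancel₀ ha, one_mul]
      linear_combination -hp
  · refine ⟨y * b⁻¹, ?_, ?_⟩
    · apply mul_left_cancel₀ hb
      have e : b * (y * b⁻¹ * a) = (b * b⁻¹) * (a * y) := by ring
      rw [e, mul_inv_cancel₀ hb, one_mul]
      linear_combination hp
    · rw [mul_assoc, inv_mul_cancel₀ hb, mul_one]

/-- the conclusion of C-HYP1 from a second isotropic vector `w'`, independent of `w`, and a factorisation of the form -/
theorem aspchyp1_core (S : Matrix (Fin 2) (Fin 2) F) (w w' : Fin 2 → F)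
    (hw' : w' ⬝ᵥ (S *ᵥ w') = 0)
    (hD : w 0 * w' 1 - w' 0 * w 1 ≠ 0)
    (hfac : ∀ v : Fin 2 → F, v ⬝ᵥ (S *ᵥ v) = 0 →
      (w 1 * v 0 - w 0 * v 1) * (w' 1 * v 0 - w' 0 * v 1) = 0) :
    w' ⬝ᵥ (S *ᵥ w') = 0 ∧ (∀ s t : F, s • w + t • w' = 0 → s = 0 ∧ t = 0) ∧
      ∀ v : Fin 2 → F, v ⬝ᵥ (S *ᵥ v) = 0 → (∃ c : F, v = c • w) ∨ (∃ c : F, v = c • w') := by
  refine ⟨hw', ?_, ?_⟩
  · intro s t hst
    have e0 : s * w 0 + t * w' 0 = 0 := by
      have h1 := congrFun hst 0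
      simpa [Pi.add_apply, Pi.smul_apply, smul_eq_mul] using h1
    have e1 : s * w 1 + t * w' 1 = 0 := by
      have h1 := congrFun hst 1
      simpa [Pi.add_apply, Pi.smul_apply, smul_eq_mul] using h1
    constructor
    · have h3 : s * (w 0 * w' 1 - w' 0 * w 1) = 0 := by linear_combination w' 1 * e0 - w' 0 * e1
      exact (mul_eq_zero.mp h3).resolve_right hD
    · have h3 : t * (w 0 * w' 1 - w' 0 * w 1) = 0 := by linear_combination w 0 * e1 - w 1 * e0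
      exact (mul_eq_zero.mp h3).resolve_right hD
  · intro v hv
    have hw_ne : w 0 ≠ 0 ∨ w 1 ≠ 0 := by
      by_contra hcon
      push_neg at hcon
      apply hD
      rw [hcon.1, hcon.2]
      ring
    have hw'_ne : w' 0 ≠ 0 ∨ w' 1 ≠ 0 := by
      by_contra hcon
      push_neg at hcon
      apply hD
      rw [hcon.1, hcon.2]
      ring
    rcases mul_eq_zero.mp (hfac v hv) with h | h
    · left
      obtain ⟨c, h0, h1⟩ := aspchyp1_par (w 0) (w 1) (v 0) (v 1) hw_ne h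
      refine ⟨c, ?_⟩
      funext i
      fin_cases i
      · simpa [Pi.smul_apply, smul_eq_mul] using h0
      · simpa [Pi.smul_apply, smul_eq_mul] using h1
    · right
      obtain ⟨c, h0, h1⟩ := aspchyp1_par (w' 0) (w' 1) (v 0) (v 1) hw'_ne h
      refine ⟨c, ?_⟩
      funext i
      fin_cases i
      · simpa [Pi.smul_apply, smul_eq_mul] using h0
      · simpa [Pi.smul_apply, smul_eq_mul] using h1

/-- C-HYP1 : a non-degenerate isotropic binary symmetric form (`2 ≠ 0`) has exactly two isotropic lines. -/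
theorem spc_binary_isotropic (h2 : (2 : F) ≠ 0) (S : Matrix (Fin 2) (Fin 2) F) (hS : Sᵀ = S) (hdet : S.det ≠ 0)
    (w : Fin 2 → F) (hw : w ≠ 0) (hw0 : w ⬝ᵥ (S *ᵥ w) = 0) :
    ∃ w' : Fin 2 → F, w' ⬝ᵥ (S *ᵥ w') = 0 ∧ (∀ s t : F, s • w + t • w' = 0 → s = 0 ∧ t = 0) ∧
      ∀ v : Fin 2 → F, v ⬝ᵥ (S *ᵥ v) = 0 → (∃ c : F, v = c • w) ∨ (∃ c : F, v = c • w') := by
  have h10 : S 1 0 = S 0 1 := by
    have h1 := congrFun (congrFun hS 0) 1
    simpa [Matrix.transpose_apply] using h1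
  have hQ : ∀ v : Fin 2 → F, v ⬝ᵥ (S *ᵥ v) =
      S 0 0 * v 0 ^ 2 + 2 * S 0 1 * v 0 * v 1 + S 1 1 * v 1 ^ 2 := by
    intro v
    have e : v ⬝ᵥ (S *ᵥ v) = v 0 * (S 0 0 * v 0 + S 0 1 * v 1) + v 1 * (S 1 0 * v 0 + S 1 1 * v 1) := by
      simp [dotProduct, Matrix.mulVec, Fin.sum_univ_two]
    rw [e, h10]
    ring
  have hd : S 0 0 * S 1 1 - S 0 1 ^ 2 ≠ 0 := by
    intro h
    apply hdet
    rw [Matrix.det_fin_two, h10]
    linear_combination h
  have hq : S 0 0 * w 0 ^ 2 + 2 * S 0 1 * w 0 * w 1 + S 1 1 * w 1 ^ 2 = 0 := by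
    have h1 := hQ w
    rw [hw0] at h1
    exact h1.symm
  have hab : w 0 ≠ 0 ∨ w 1 ≠ 0 := by
    by_contra hcon
    push_neg at hcon
    apply hw
    funext i
    fin_cases i
    · simpa using hcon.1
    · simpa using hcon.2
  by_cases hb : w 1 = 0
  · -- `w = (a, 0)`
    have ha : w 0 ≠ 0 := hab.resolve_right (not_not.mpr hb)
    have hp0 : S 0 0 = 0 := by
      have h3 : S 0 0 * w 0 ^ 2 = 0 := by
        rw [hb] at hq
        linear_combination hq
      exact (mul_eq_zero.mp h3).resolve_right (pow_ne_zero 2 ha)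
    have hq0 : S 0 1 ≠ 0 := by
      intro h
      apply hd
      rw [hp0, h]
      ring
    obtain ⟨w', e0, e1⟩ : ∃ w' : Fin 2 → F, w' 0 = -S 1 1 ∧ w' 1 = 2 * S 0 1 :=
      ⟨![-S 1 1, 2 * S 0 1], rfl, rfl⟩
    refine ⟨w', ?_⟩
    apply aspchyp1_core S w w'
    · rw [hQ, e0, e1, hp0]
      ring
    · rw [e0, e1, hb]
      have e : w 0 * (2 * S 0 1) - -S 1 1 * 0 = 2 * (w 0 * S 0 1) := by ring
      rw [e]
      exact mul_ne_zero h2 (mul_ne_zero ha hq0)
    · intro v hv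
      rw [hQ, hp0] at hv
      rw [e0, e1, hb]
      linear_combination (-w 0) * hv
  · -- `w 1 ≠ 0`
    have hm1 : S 0 0 * w 0 + S 0 1 * w 1 ≠ 0 := by
      intro h
      have hm2 : S 0 1 * w 0 + S 1 1 * w 1 = 0 := by
        have h3 : w 1 * (S 0 1 * w 0 + S 1 1 * w 1) = 0 := by linear_combination hq - w 0 * h
        exact (mul_eq_zero.mp h3).resolve_left hb
      apply hb
      have h3 : (S 0 0 * S 1 1 - S 0 1 ^ 2) * w 1 = 0 := by linear_combination S 0 0 * hm2 - S 0 1 * h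
      exact (mul_eq_zero.mp h3).resolve_left hd
    obtain ⟨w', e0, e1⟩ : ∃ w' : Fin 2 → F, w' 0 = S 0 0 * w 0 + 2 * S 0 1 * w 1 ∧ w' 1 = -(S 0 0 * w 1) :=
      ⟨![S 0 0 * w 0 + 2 * S 0 1 * w 1, -(S 0 0 * w 1)], rfl, rfl⟩
    refine ⟨w', ?_⟩
    apply aspchyp1_core S w w'
    · rw [hQ, e0, e1]
      linear_combination (S 0 0) ^ 2 * hq
    · rw [e0, e1]
      have e : w 0 * -(S 0 0 * w 1) - (S 0 0 * w 0 + 2 * S 0 1 * w 1) * w 1 =
          -2 * (w 1 * (S 0 0 * w 0 + S 0 1 * w 1)) := by ring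
      rw [e]
      exact mul_ne_zero (neg_ne_zero.mpr h2) (mul_ne_zero hb hm1)
    · intro v hv
      rw [hQ] at hv
      rw [e0, e1]
      linear_combination (-(w 1) ^ 2) * hv + (v 1) ^ 2 * hq

end Cfsg.Agent.Lib.Helper18.ASP
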