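import Mathlib
import Cfsg.Prelude.Def_GeometricClasses
import Cfsg.Agent.Lib.Helper27.ASC.Defs
import Cfsg.Agent.Lib.helper23.ASCO.Defs
import Cfsg.Agent.Lib.Helper19.ASG.Defs
import Cfsg.Agent.Lib.Helper1.ASGCLIF3
import Cfsg.Agent.Lib.Helper25.ASO.Defs
import Cfsg.Agent.Lib.helper23.ASE.Defs
import Cfsg.Agent.Lib.Helper16.ASE10.Defs
import Cfsg.Agent.Lib.Helper10.ASCOFRSUBcore
import Cfsg.Agent.Lib.Helper28.Ld.Trans

set_option autoImplicit false
set_option linter.unusedVariables false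
set_option linter.unusedSectionVars false

/-!
# Project E10M (S5850), piece FRSUB : `frame_subfield_zeta`

A frame of isometric non-degenerate lines over a NON-prime field: the isometries stabilising it lie in a subfield group of prime
index whose structure carries a multiple `ζ Q` of `Q` (`ζ = 1 / Q (d i)`; signed permutation matrices).
-/

namespace Cfsg.Agent.Lib.Helper16.E10M

open Cfsg Cfsg.Geo Cfsg.Agent.Lib.Helper27.ASC Cfsg.Agent.Lib.helper23.ASCO Cfsg.Agent.Lib.Helper19.ASG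
  Cfsg.Agent.Lib.Helper25.ASO
open scoped MatrixGroups Matrix Kronecker

variable {n : ℕ} {F : Type*} [Field F] [Fintype F]

/-- a non-degenerate decomposition into lines exists only when `2 ≠ 0` -/
theorem e10mfrsub_two_ne_zero (Q : QuadraticForm F (Fin n → F)) {t : ℕ} (D : Fin t → Submodule F (Fin n → F))
    (hD : IsOrthogonalMDecomposition (⇑Q) 1 D) : (2 : F) ≠ 0 := by
  intro h2
  have ht := hD.decomp.decomp.two_le
  set i₀ : Fin t := ⟨0, by omega⟩ with hi₀
  have hfr := hD.decomp.decomp.finrank_eq i₀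
  have hne : D i₀ ≠ ⊥ := by
    intro h
    rw [h, finrank_bot] at hfr
    omega
  obtain ⟨d₀, hd₀, hd₀0⟩ := Submodule.exists_mem_ne_zero_of_ne_bot hne
  obtain ⟨⟨x, hx, hxd⟩, -⟩ := hD.decomp.nondegenerate i₀ d₀ hd₀ hd₀0
  have hne' : (⟨d₀, hd₀⟩ : D i₀) ≠ 0 := fun h => hd₀0 (congrArg Subtype.val h)
  obtain ⟨a, ha⟩ := (finrank_eq_one_iff_of_nonzero' (⟨d₀, hd₀⟩ : D i₀) hne').1 hfr ⟨x, hx⟩
  have hx' : x = a • d₀ := by
    have := congrArg Subtype.val ha
    simpa using this.symm
  apply hxd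
  have e : QuadraticMap.polar (⇑Q) x d₀ = QuadraticMap.polarBilin Q x d₀ := rfl
  have h3 : (2 : ℕ) • Q d₀ = 0 := by
    rw [nsmul_eq_mul]
    push_cast
    rw [h2, zero_mul]
  rw [e, hx', map_smul, LinearMap.smul_apply, QuadraticMap.polarBilin_apply_apply,
    QuadraticMap.polar_self, h3, smul_zero]

/-- the subfield structure from the frame, for the multiple `c⁻¹ Q` of `Q` (copy of helper10's `ascofrsub_final`) -/
theorem e10mfrsub_final (h2 : (2 : F) ≠ 0) (Q : QuadraticForm F (Fin n → F)) (F₁ : Subfield F)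
    (D : Fin n → Submodule F (Fin n → F)) (hD : IsOrthogonalMDecomposition (⇑Q) 1 D)
    (d : Fin n → (Fin n → F)) (c : F) (hc : c ≠ 0) (hdD : ∀ i, d i ∈ D i)
    (hQd : ∀ i, Q (d i) = c) (l : F) (hl : l ≠ 0) (hl2 : l ^ 2 ∈ F₁) :
    ∃ B : GL (Fin n) F, IsQuadFormRationalStructure (fun v : Fin n → F => c⁻¹ * Q v) F₁ B ∧
      decompositionStabilizer D ⊓ isometryGroup F (⇑Q) ≤ subfieldSubgroup F₁ B := by
  classical
  have hd0 : ∀ i, d i ≠ 0 := by
    intro i h0
    have := hQd i
    rw [h0, QuadraticMap.map_zero] at this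
    exact hc this.symm
  have hli : LinearIndependent F d := hD.decomp.decomp.indep.linearIndependent D hdD hd0
  have horth : ∀ i j, i ≠ j → QuadraticMap.polar (⇑Q) (d i) (d j) = 0 :=
    fun i j hij => hD.decomp.orthogonal i j hij (d i) (hdD i) (d j) (hdD j)
  set Bm : Matrix (Fin n) (Fin n) F := Matrix.of fun a i => l * d i a with hBm
  have hBu : IsUnit Bm := by
    rw [← Matrix.linearIndependent_cols_iff_isUnit]
    have h1 : Bm.col = fun i => (Units.mk0 l hl) • d i := by
      funext i a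
      simp [hBm, Matrix.col, Units.smul_def]
    rw [h1]
    exact hli.units_smul (fun _ => Units.mk0 l hl)
  obtain ⟨B, hB⟩ := hBu
  have hBv : ∀ u : Fin n → F, Bm *ᵥ u = ∑ i, (u i * l) • d i := by
    intro u
    ext a
    simp only [Matrix.mulVec, dotProduct, hBm, Matrix.of_apply, Finset.sum_apply, Pi.smul_apply,
      smul_eq_mul]
    refine Finset.sum_congr rfl fun i _ => ?_
    ring
  refine ⟨B, ?_, ?_⟩
  · intro u hu
    show c⁻¹ * Q ((B : Matrix (Fin n) (Fin n) F) *ᵥ u) ∈ F₁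
    rw [hB, hBv, ascofrsub_Q_sum h2 Q d horth]
    have : c⁻¹ * ∑ i, (u i * l) ^ 2 * Q (d i) = l ^ 2 * ∑ i, u i ^ 2 := by
      rw [Finset.mul_sum, Finset.mul_sum]
      refine Finset.sum_congr rfl fun i _ => ?_
      rw [hQd]
      calc c⁻¹ * ((u i * l) ^ 2 * c) = (c⁻¹ * c) * (u i * l) ^ 2 := by ring
        _ = l ^ 2 * u i ^ 2 := by rw [inv_mul_cancel₀ hc]; ring
    rw [this]
    exact F₁.mul_mem hl2 (F₁.sum_mem fun i _ => F₁.pow_mem (hu i) 2)
  · rintro g ⟨⟨σ, hσ⟩, hgI⟩
    have hgI' : ∀ x, Q ((g : Matrix (Fin n) (Fin n) F) *ᵥ x) = Q x := fun x => hgI x x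
    -- `g d_i = ε_i d_(σ i)`
    have hmul : ∀ i, ∃ ε : F, (g : Matrix (Fin n) (Fin n) F) *ᵥ d i = ε • d (σ i) := by
      intro i
      have h1 : (g : Matrix (Fin n) (Fin n) F) *ᵥ d i ∈ D (σ i) := by
        rw [← hσ i]
        exact ⟨d i, hdD i, by rw [Matrix.toLin'_apply]⟩
      have hne' : (⟨d (σ i), hdD (σ i)⟩ : D (σ i)) ≠ 0 :=
        fun h => hd0 (σ i) (congrArg Subtype.val h)
      obtain ⟨a, ha⟩ := (finrank_eq_one_iff_of_nonzero' (⟨d (σ i), hdD (σ i)⟩ : D (σ i)) hne').1
        (hD.decomp.decomp.finrank_eq (σ i)) ⟨_, h1⟩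
      refine ⟨a, ?_⟩
      have := congrArg Subtype.val ha
      simpa using this.symm
    choose ε hε using hmul
    have hε2 : ∀ i, ε i = 1 ∨ ε i = -1 := by
      intro i
      have h1 := hgI' (d i)
      rw [hε i, QuadraticMap.map_smul, hQd, hQd, smul_eq_mul] at h1
      have h3 : ε i * ε i = 1 := by
        have := mul_right_cancel₀ hc (by rw [one_mul]; exact h1 : ε i * ε i * c = 1 * c)
        exact this
      exact mul_self_eq_one_iff.mp h3
    have hεmem : ∀ i, ε i ∈ F₁ := by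
      intro i
      rcases hε2 i with h | h
      · rw [h]; exact F₁.one_mem
      · rw [h]; exact F₁.neg_mem F₁.one_mem
    set g₀ : Matrix (Fin n) (Fin n) F₁ :=
      Matrix.of fun a i => if a = σ i then (⟨ε i, hεmem i⟩ : F₁) else 0 with hg₀
    have hcomm : (g : Matrix (Fin n) (Fin n) F) * Bm = Bm * (F₁.subtype).mapMatrix g₀ := by
      ext a i
      have hL : ((g : Matrix (Fin n) (Fin n) F) * Bm) a i =
          l * ((g : Matrix (Fin n) (Fin n) F) *ᵥ d i) a := by
        simp only [Matrix.mul_apply, Matrix.mulVec, dotProduct, hBm, Matrix.of_apply]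
        rw [Finset.mul_sum]
        refine Finset.sum_congr rfl fun b _ => ?_
        ring
      have hR : (Bm * (F₁.subtype).mapMatrix g₀) a i = l * (ε i * d (σ i) a) := by
        simp only [Matrix.mul_apply, hBm, hg₀, Matrix.of_apply, RingHom.mapMatrix_apply,
          Matrix.map_apply]
        rw [Finset.sum_eq_single (σ i)]
        · simp
          ring
        · intro b _ hb
          simp [hb]
        · intro h
          exact absurd (Finset.mem_univ _) h
      rw [hL, hR, hε i]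
      simp
    have hdet : g₀.det ≠ 0 := by
      intro h0
      have h1 := congrArg Matrix.det hcomm
      rw [Matrix.det_mul, Matrix.det_mul, ← RingHom.map_det, h0, map_zero, mul_zero] at h1
      have hgu : IsUnit (g : Matrix (Fin n) (Fin n) F).det :=
        (Matrix.isUnit_iff_isUnit_det _).1 g.isUnit
      have hBu' : IsUnit Bm.det := by
        rw [← hB]
        exact (Matrix.isUnit_iff_isUnit_det _).1 B.isUnit
      exact (mul_ne_zero hgu.ne_zero hBu'.ne_zero) h1
    set g₀' : GL (Fin n) F₁ := Matrix.GeneralLinearGroup.mkOfDetNeZero g₀ hdet with hg₀'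
    set x : GL (Fin n) F := Matrix.GeneralLinearGroup.map (F₁.subtype : F₁ →+* F) g₀' with hx
    have hxm : (x : Matrix (Fin n) (Fin n) F) = (F₁.subtype).mapMatrix g₀ := rfl
    have hgx : g * B = B * x := by
      apply Units.ext
      rw [Units.val_mul, Units.val_mul, hB, hxm]
      exact hcomm
    unfold subfieldSubgroup
    refine ⟨x, Subgroup.mem_sup_left ⟨g₀', rfl⟩, ?_⟩
    show B * x * B⁻¹ = g
    rw [← hgx]
    group

/-- FRSUB : a frame of isometric non-degenerate lines over a NON-prime field: the isometries stabilising it lie in a subfield group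
of prime index whose structure carries a multiple of `Q`.  (`2 ≠ 0` (ODDND).  `D i = F d_i`; isometric lines: `Q d_j = a² Q d_i`,
rescale so that `Q d_i = c` for all `i`; `ζ = c⁻¹`, `B` = the matrix with columns `d_i` (invertible: `hD.decomp.decomp`, `t = n`);
`ζ Q (B u) = ∑ u_i²` (orthogonality).  `F₁`: `Helper10.ASCSUBF2` `exists_prime_index_subfield ⊥` (`⊥ ≠ ⊤` as `|F|` is not prime).
`g ∈ Stab D ⊓ O(Q)`: `g d_i = ε_i d_(σ i)` with `ε_i² = 1`, so `B⁻¹ g B` is a signed permutation matrix: entries in `F₁`.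
Model: `Helper10.ASCOFRSUB` `frame_subfield` / `ascofrsub_core` (there `ζ = 1` costs a square-class argument; here `ζ` is free).) -/
theorem frame_subfield_zeta (hnp : ¬ (Fintype.card F).Prime) (Q : QuadraticForm F (Fin n → F))
    (hQ : (QuadraticMap.polarBilin Q).Nondegenerate) {t : ℕ} (D : Fin t → Submodule F (Fin n → F))
    (hD : IsOrthogonalMDecomposition (⇑Q) 1 D) :
    ∃ (F₁ : Subfield F) (ℓ : ℕ) (B : GL (Fin n) F) (ζ : F), ℓ.Prime ∧ Fintype.card F = Nat.card F₁ ^ ℓ ∧ ζ ≠ 0 ∧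
      IsQuadFormRationalStructure (fun v : Fin n → F => ζ * Q v) F₁ B ∧
      decompositionStabilizer D ⊓ isometryGroup F (⇑Q) ≤ subfieldSubgroup F₁ B := by
  have htn : t * 1 = n := Cfsg.Agent.Lib.Helper28.Ld.card_eq D hD.decomp.decomp
  obtain rfl : t = n := by omega
  have h2 := e10mfrsub_two_ne_zero Q D hD
  obtain ⟨F₁, ℓ, -, hℓ, hcard⟩ := exists_prime_index_subfield (⊥ : Subfield F) (ascofrsub_bot_ne_top hnp)
  obtain ⟨d, c, hc, hdD, hQd⟩ := ascofrsub_vectors h2 Q D hD
  obtain ⟨B, hB1, hB2⟩ := e10mfrsub_final h2 Q F₁ D hD d c hc hdD hQd 1 one_ne_zero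
    (by rw [one_pow]; exact F₁.one_mem)
  exact ⟨F₁, ℓ, B, c⁻¹, hℓ, hcard, inv_ne_zero hc, hB1, hB2⟩

end Cfsg.Agent.Lib.Helper16.E10M
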