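import Mathlib
import Cfsg.Prelude.Def_GeometricClasses
import Cfsg.Agent.Lib.Helper27.ASC.Defs
import Cfsg.Agent.Lib.helper23.ASCO.Defs
import Cfsg.Agent.Lib.Helper19.ASG.Defs
import Cfsg.Agent.Lib.Helper1.ASGCLIF3
import Cfsg.Agent.Lib.Helper25.ASO.Defs
import Cfsg.Agent.Lib.helper23.ASE.Defs
import Cfsg.Agent.Lib.Helper16.ASE10.Defs
import Cfsg.Agent.Lib.Helper16.ASCORED

set_option autoImplicit false
set_option linter.unusedVariables false
set_option linter.unusedSectionVars false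

/-!
# Project E10M (S5850), piece HALF : `half_decomp`

A non-degenerate subspace `W` of half the dimension and its orthogonal complement form a non-degenerate decomposition
`D = ![W, W^⊥]` stabilised by the isometries stabilising `W`.
-/

namespace Cfsg.Agent.Lib.Helper16.E10M

open Cfsg Cfsg.Geo Cfsg.Agent.Lib.Helper27.ASC Cfsg.Agent.Lib.helper23.ASCO Cfsg.Agent.Lib.Helper19.ASG
  Cfsg.Agent.Lib.Helper25.ASO
open scoped MatrixGroups Matrix Kronecker

variable {n : ℕ} {F : Type*} [Field F] [Fintype F]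

omit [Fintype F] in
/-- an invertible matrix that maps `W` onto itself in the sense of `subspaceStabilizer` maps the submodule `W` onto `W` -/
theorem e10mhalf_map_eq (g : GL (Fin n) F) (W : Submodule F (Fin n → F))
    (h : ∀ v, v ∈ W ↔ (g : Matrix (Fin n) (Fin n) F) *ᵥ v ∈ W) :
    W.map (Matrix.toLin' (g : Matrix (Fin n) (Fin n) F)) = W := by
  have hginv : ∀ w : Fin n → F, (g : Matrix (Fin n) (Fin n) F) *ᵥ
      (((g⁻¹ : GL (Fin n) F) : Matrix (Fin n) (Fin n) F) *ᵥ w) = w := by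
    intro w
    rw [Matrix.mulVec_mulVec, ← Units.val_mul, mul_inv_cancel, Units.val_one, Matrix.one_mulVec]
  apply le_antisymm
  · rintro _ ⟨v, hv, rfl⟩
    rw [Matrix.toLin'_apply]
    exact (h v).1 hv
  · intro w hw
    refine ⟨((g⁻¹ : GL (Fin n) F) : Matrix (Fin n) (Fin n) F) *ᵥ w, ?_, ?_⟩
    · apply (h _).2
      rw [hginv]
      exact hw
    · rw [Matrix.toLin'_apply, hginv]

/-- HALF : a non-degenerate subspace `W` of half the dimension and its orthogonal complement form a non-degenerate decomposition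
`D = ![W, W^⊥]` stabilised by the isometries stabilising `W`.  (`W' = {x | ∀ w ∈ W, polar x w = 0}`; `W ⊓ W' = ⊥` (`hW`),
`finrank W' = n - finrank W` (`hQ`; as in `Helper16.ASEPERP` `end_perp` / `Helper11.O9PERP`), so `W ⊔ W' = ⊤`; `W'` non-degenerate;
an isometry stabilising `W` stabilises `W'` (`end_perp`), so it fixes both members: permutation `1`.) -/
theorem half_decomp (Q : QuadraticForm F (Fin n → F)) (hQ : (QuadraticMap.polarBilin Q).Nondegenerate)
    (W : Submodule F (Fin n → F)) (hW : IsNondegenerateOn (QuadraticMap.polar (⇑Q)) W) {k : ℕ} (hk : 0 < k)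
    (hd : Module.finrank F W = k) (hn : n = 2 * k) :
    ∃ D : Fin 2 → Submodule F (Fin n → F), D 0 = W ∧
      IsNondegenerateMDecomposition (QuadraticMap.polar (⇑Q)) k D ∧
      subspaceStabilizer W ⊓ isometryGroup F (⇑Q) ≤ decompositionStabilizer D := by
  classical
  set H : Subgroup (GL (Fin n) F) := subspaceStabilizer W ⊓ isometryGroup F (⇑Q) with hH
  have hst : H ≤ subspaceStabilizer W := inf_le_left
  have hHO : H ≤ isometryGroup F (⇑Q) := inf_le_right
  have hWm := Cfsg.Agent.Lib.helper23.ASCO.ascored_maps_of_stab H W hst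
  set B : LinearMap.BilinForm F (Fin n → F) := QuadraticMap.polarBilin Q with hBdef
  have hBapp : ∀ x y : Fin n → F, B x y = QuadraticMap.polar (⇑Q) x y := fun x y => rfl
  have hpol : ∀ g ∈ H, ∀ u v : Fin n → F,
      QuadraticMap.polar (⇑Q) ((g : Matrix (Fin n) (Fin n) F) *ᵥ u)
        ((g : Matrix (Fin n) (Fin n) F) *ᵥ v) = QuadraticMap.polar (⇑Q) u v :=
    fun g hg u v => Cfsg.Agent.Lib.helper23.ASCO.ascored_polar Q g (hHO hg) u v
  have hginv : ∀ g : GL (Fin n) F, ∀ w : Fin n → F, (g : Matrix (Fin n) (Fin n) F) *ᵥ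
      (((g⁻¹ : GL (Fin n) F) : Matrix (Fin n) (Fin n) F) *ᵥ w) = w := by
    intro g w
    rw [Matrix.mulVec_mulVec, ← Units.val_mul, mul_inv_cancel, Units.val_one, Matrix.one_mulVec]
  obtain ⟨Wp, hWp⟩ : ∃ Wp : Submodule F (Fin n → F), Wp = B.orthogonal W := ⟨_, rfl⟩
  have hmemp : ∀ v : Fin n → F, v ∈ Wp ↔ ∀ w ∈ W, QuadraticMap.polar (⇑Q) w v = 0 := by
    intro v
    rw [hWp, LinearMap.BilinForm.mem_orthogonal_iff]
    constructor
    · intro hv w hw
      have := hv w hw
      rw [← hBapp]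
      exact this
    · intro hv w hw
      show B w v = 0
      rw [hBapp]
      exact hv w hw
  -- the perp is invariant
  have hPm : ∀ g ∈ H, ∀ v ∈ Wp, (g : Matrix (Fin n) (Fin n) F) *ᵥ v ∈ Wp := by
    intro g hg v hv
    rw [hmemp] at hv ⊢
    intro w hw
    have h3 := hWm g⁻¹ (H.inv_mem hg) w hw
    have h4 := hpol g hg (((g⁻¹ : GL (Fin n) F) : Matrix (Fin n) (Fin n) F) *ᵥ w) v
    rw [hginv] at h4
    rw [h4]
    exact hv _ h3
  have hstp : H ≤ subspaceStabilizer Wp := Cfsg.Agent.Lib.helper23.ASCO.ascored_stab_of_maps H _ hPm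
  have hR : W ⊓ Wp = ⊥ := by
    rw [eq_bot_iff]
    intro w hw
    rw [Submodule.mem_bot]
    by_contra hw0
    obtain ⟨⟨x, hx, hx0⟩, _⟩ := hW w hw.1 hw0
    exact hx0 ((hmemp w).1 hw.2 x hx)
  have hfr : Module.finrank F Wp = n - Module.finrank F W := by
    have := LinearMap.BilinForm.finrank_orthogonal (B := B) hQ W
    rw [Module.finrank_fin_fun] at this
    rw [hWp]
    exact this
  have hsi := Submodule.finrank_sup_add_finrank_inf_eq W Wp
  rw [hR, finrank_bot, add_zero] at hsi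
  have hsup : W ⊔ Wp = ⊤ := by
    apply Submodule.eq_top_of_finrank_eq
    rw [Module.finrank_fin_fun]
    omega
  have hWpdim : Module.finrank F Wp = k := by omega
  have hWpnd : IsNondegenerateOn (QuadraticMap.polar (⇑Q)) Wp := by
    intro w' hw' hw'0
    have key : ∃ x ∈ Wp, QuadraticMap.polar (⇑Q) x w' ≠ 0 := by
      by_contra hcon
      push Not at hcon
      have hall : ∀ v : Fin n → F, B v w' = 0 := by
        intro v
        have hv : v ∈ W ⊔ Wp := by rw [hsup]; exact Submodule.mem_top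
        obtain ⟨a, ha, b, hb, rfl⟩ := Submodule.mem_sup.1 hv
        rw [map_add, LinearMap.add_apply, hBapp, hBapp, hcon b hb, add_zero]
        exact (hmemp w').1 hw' a ha
      exact hw'0 (hQ.2 w' hall)
    obtain ⟨x, hx, hx0⟩ := key
    refine ⟨⟨x, hx, hx0⟩, ⟨x, hx, ?_⟩⟩
    rw [QuadraticMap.polar_comm]
    exact hx0
  have h01 : (0 : Fin 2) ≠ 1 := by decide
  have huniv : ∀ i : Fin 2, i = 0 ∨ i = 1 := by decide
  refine ⟨![W, Wp], rfl, ⟨⟨le_refl 2, hk, ?_, ?_, ?_⟩, ?_, ?_⟩, ?_⟩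
  · rw [Fin.forall_fin_two]
    exact ⟨hd, hWpdim⟩
  · exact (iSupIndep_pair h01 huniv).mpr (disjoint_iff.mpr hR)
  · rw [eq_top_iff, ← hsup]
    exact sup_le (le_iSup ![W, Wp] 0) (le_iSup ![W, Wp] 1)
  · rw [Fin.forall_fin_two]
    exact ⟨hW, hWpnd⟩
  · intro i j hij
    rcases huniv i with rfl | rfl <;> rcases huniv j with rfl | rfl
    · exact absurd rfl hij
    · intro u hu v hv
      exact (hmemp v).1 hv u hu
    · intro v hv u hu
      rw [QuadraticMap.polar_comm]
      exact (hmemp v).1 hv u hu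
    · exact absurd rfl hij
  · intro g hg
    refine ⟨1, ?_⟩
    rw [Fin.forall_fin_two]
    exact ⟨e10mhalf_map_eq g W (fun v => hst hg v), e10mhalf_map_eq g Wp (fun v => hstp hg v)⟩

end Cfsg.Agent.Lib.Helper16.E10M
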