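import Mathlib
import Cfsg.Prelude.Def_GeometricClasses
import Cfsg.Agent.Lib.Helper27.ASC.Defs
import Cfsg.Agent.Lib.helper23.ASCO.Defs
import Cfsg.Agent.Lib.Helper19.ASG.Defs
import Cfsg.Agent.Lib.Helper1.ASGCLIF3
import Cfsg.Agent.Lib.Helper25.ASO.Defs
import Cfsg.Agent.Lib.helper23.ASE.Defs
import Cfsg.Agent.Lib.Lead.E12M.Defs
import Cfsg.Agent.Lib.Helper28.Ld.Trans

set_option autoImplicit false
set_option linter.unusedVariables false
set_option linter.unusedSectionVars false

/-!
# Project E12M (S5874), piece BLKPLUS : `plus_of_block_plus`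

If one block of an orthogonal decomposition into isometric blocks is of plus type, the whole space is.
-/

namespace Cfsg.Agent.Lib.Lead.E12M

open Cfsg Cfsg.Geo Cfsg.Agent.Lib.Helper27.ASC Cfsg.Agent.Lib.helper23.ASCO Cfsg.Agent.Lib.Helper19.ASG
  Cfsg.Agent.Lib.Helper25.ASO Cfsg.Agent.Lib.helper23.ASE
open scoped MatrixGroups Matrix Kronecker

variable {n : ℕ} {F : Type*} [Field F] [Fintype F]

omit [Fintype F] in
/-- the dimension of a finite supremum of independent subspaces is the sum of the dimensions -/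
theorem e12mblkplus_finrank_sup {ι : Type*} [DecidableEq ι] {M : Type*} [AddCommGroup M] [Module F M]
    [FiniteDimensional F M] (V : ι → Submodule F M) (s : Finset ι) (h : s.SupIndep V) :
    Module.finrank F ↥(s.sup V) = ∑ i ∈ s, Module.finrank F ↥(V i) := by
  induction s using Finset.induction_on with
  | empty => simp
  | insert a s ha ih =>
    rw [Finset.sup_insert, Finset.sum_insert ha]
    have hdisj : Disjoint (V a) (s.sup V) := h (Finset.subset_insert a s) (Finset.mem_insert_self a s) ha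
    have h1 := Submodule.finrank_sup_add_finrank_inf_eq (V a) (s.sup V)
    rw [hdisj.eq_bot, finrank_bot, add_zero] at h1
    rw [h1, ih (h.subset (Finset.subset_insert a s))]

omit [Fintype F] in
/-- the dimension of the supremum of a finite independent family of subspaces -/
theorem e12mblkplus_finrank_iSup {ι : Type*} [Fintype ι] [DecidableEq ι] {M : Type*} [AddCommGroup M] [Module F M]
    [FiniteDimensional F M] (V : ι → Submodule F M) (h : iSupIndep V) :
    Module.finrank F ↥(⨆ i, V i) = ∑ i, Module.finrank F ↥(V i) := by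
  rw [← Finset.sup_univ_eq_iSup]
  exact e12mblkplus_finrank_sup V Finset.univ (h.supIndep' Finset.univ)

/-- BLKPLUS : if one block of an orthogonal decomposition into isometric blocks is of plus type, the whole space is.
(`U ≤ D i` totally singular with `2 dim U = k`; `σ_j : D i ≃ D j` the isometries of `hD.isometric i j`; `U_j = σ_j U ≤ D j` is
totally singular of the same dimension; `T = ⨆ j, U_j`: `Q (∑ u_j) = ∑ Q u_j + ∑_{j<l} polar (u_j, u_l) = 0` as the blocks are
pairwise orthogonal (induction over a `Finset` of indices, `QuadraticMap.map_add` / `polar`); `dim T = ∑ dim U_j = t * (k / 2)` as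
the `D j` are independent (`iSupIndep` restricted to the `U_j ≤ D j`), and `t * k = n`
(`Cfsg.Agent.Lib.Helper28.Ld.card_eq _ hD.decomp.decomp : t * k = n`).) -/
theorem plus_of_block_plus (Q : QuadraticForm F (Fin n → F)) {t k : ℕ} (D : Fin t → Submodule F (Fin n → F))
    (hD : IsOrthogonalMDecomposition (⇑Q) k D) (i : Fin t) (hp : IsPlusTypeOn (⇑Q) (D i)) :
    IsPlusTypeOn (⇑Q) ⊤ := by
  classical
  obtain ⟨U, hUle, hUts, hUdim⟩ := hp
  have hiso := fun j => hD.isometric i j
  choose σ hσ using hiso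
  -- the copies of `U` in the blocks
  obtain ⟨Uj, hUj⟩ : ∃ Uj : Fin t → Submodule F (Fin n → F), ∀ j, Uj j =
      Submodule.map ((D j).subtype ∘ₗ (σ j).toLinearMap) (Submodule.comap (D i).subtype U) :=
    ⟨fun j => Submodule.map ((D j).subtype ∘ₗ (σ j).toLinearMap) (Submodule.comap (D i).subtype U),
      fun j => rfl⟩
  have hmem : ∀ j w, w ∈ Uj j ↔ ∃ u' : D i, (u' : Fin n → F) ∈ U ∧ ((σ j u' : D j) : Fin n → F) = w := by
    intro j w
    rw [hUj, Submodule.mem_map]
    constructor
    · rintro ⟨u', hu', rfl⟩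
      exact ⟨u', hu', rfl⟩
    · rintro ⟨u', hu', rfl⟩
      exact ⟨u', hu', rfl⟩
  have hUj_le : ∀ j, Uj j ≤ D j := by
    intro j w hw
    obtain ⟨u', -, rfl⟩ := (hmem j w).mp hw
    exact (σ j u').2
  have hUj_ts : ∀ j, ∀ w ∈ Uj j, Q w = 0 := by
    intro j w hw
    obtain ⟨u', hu', rfl⟩ := (hmem j w).mp hw
    rw [hσ j u']
    exact hUts _ hu'
  have hinj : ∀ j, Function.Injective ((D j).subtype ∘ₗ (σ j).toLinearMap) := by
    intro j
    rw [LinearMap.coe_comp]
    exact (D j).injective_subtype.comp (σ j).injective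
  have hUj_dim : ∀ j, Module.finrank F (Uj j) = Module.finrank F U := by
    intro j
    rw [hUj]
    rw [← LinearEquiv.finrank_eq (Submodule.equivMapOfInjective _ (hinj j) (Submodule.comap (D i).subtype U))]
    exact LinearEquiv.finrank_eq (Submodule.comapSubtypeEquivOfLe hUle)
  -- the polar form vanishes on the copies
  have hpol0 : ∀ j l, ∀ x ∈ Uj j, ∀ y ∈ Uj l, QuadraticMap.polar (⇑Q) x y = 0 := by
    intro j l x hx y hy
    by_cases hjl : j = l
    · subst hjl
      unfold QuadraticMap.polar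
      rw [hUj_ts j _ ((Uj j).add_mem hx hy), hUj_ts j x hx, hUj_ts j y hy]
      simp
    · exact hD.decomp.orthogonal j l hjl x (hUj_le j hx) y (hUj_le l hy)
  have hpol1 : ∀ j, ∀ x ∈ Uj j, ∀ y ∈ ⨆ l, Uj l, QuadraticMap.polar (⇑Q) x y = 0 := by
    intro j x hx y hy
    refine Submodule.iSup_induction Uj (motive := fun y => QuadraticMap.polar (⇑Q) x y = 0) hy
      (fun l y hy => hpol0 j l x hx y hy) (QuadraticMap.polar_zero_right Q x) ?_
    intro a b ha hb
    rw [QuadraticMap.polar_add_right, ha, hb, add_zero]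
  have hpol2 : ∀ x ∈ ⨆ l, Uj l, ∀ y ∈ ⨆ l, Uj l, QuadraticMap.polar (⇑Q) x y = 0 := by
    intro x hx y hy
    refine Submodule.iSup_induction Uj (motive := fun x => QuadraticMap.polar (⇑Q) x y = 0) hx
      (fun l x hx => hpol1 l x hx y hy) (QuadraticMap.polar_zero_left Q y) ?_
    intro a b ha hb
    rw [QuadraticMap.polar_add_left, ha, hb, add_zero]
  have hts : ∀ w ∈ ⨆ l, Uj l, Q w = 0 := by
    intro w hw
    have h1 : w ∈ (⨆ l, Uj l) ∧ Q w = 0 := by
      refine Submodule.iSup_induction Uj (motive := fun w => w ∈ (⨆ l, Uj l) ∧ Q w = 0) hw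
        (fun l x hx => ⟨Submodule.mem_iSup_of_mem l hx, hUj_ts l x hx⟩)
        ⟨Submodule.zero_mem _, QuadraticMap.map_zero Q⟩ ?_
      rintro a b ⟨ha1, ha2⟩ ⟨hb1, hb2⟩
      refine ⟨Submodule.add_mem _ ha1 hb1, ?_⟩
      rw [QuadraticMap.map_add (⇑Q) a b, ha2, hb2, hpol2 a ha1 b hb1]
      simp
    exact h1.2
  -- dimensions
  have hindep : iSupIndep Uj := hD.decomp.decomp.indep.mono (fun j => hUj_le j)
  have hdimT : Module.finrank F ↥(⨆ l, Uj l) = t * Module.finrank F U := by
    rw [e12mblkplus_finrank_iSup Uj hindep]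
    simp only [hUj_dim, Finset.sum_const, Finset.card_univ, Fintype.card_fin, smul_eq_mul]
  have htk : t * k = n := Cfsg.Agent.Lib.Helper28.Ld.card_eq D hD.decomp.decomp
  have hk : Module.finrank F (D i) = k := hD.decomp.decomp.finrank_eq i
  refine ⟨⨆ l, Uj l, le_top, hts, ?_⟩
  rw [hdimT, finrank_top, Module.finrank_fintype_fun_eq_card, Fintype.card_fin]
  rw [hk] at hUdim
  calc 2 * (t * Module.finrank F U) = t * (2 * Module.finrank F U) := by ring
    _ = t * k := by rw [hUdim]
    _ = n := htk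

end Cfsg.Agent.Lib.Lead.E12M
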