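import Mathlib
import Cfsg.Agent.Lib.helper8.RSM.Defs

/-! RSM row C1 (`x_basic`), helper4. -/

set_option autoImplicit false

namespace Cfsg.Agent.Lib.helper8.RSM

universe u v w

variable {G : Type u} [Group G] {K : Type v} [Field K] [Fintype K] {m : ℕ}

theorem rsmc1_congr (RU : ReeU G K m) {t1 t2 u1 u2 v1 v2 : K} (ht : t1 = t2) (hu : u1 = u2)
    (hv : v1 = v2) : RU.x t1 u1 v1 = RU.x t2 u2 v2 := by
  subst ht; subst hu; subst hv; rfl

theorem rsmc1_right (RU : ReeU G K m) (t a b u v : K) :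
    RU.x t a b * RU.x 0 u v = RU.x t (a + u) (b + v) := by
  have hz : ((0 : K) ^ 3 ^ m) ^ 3 = 0 := by
    rw [zero_pow (pow_ne_zero m (by norm_num)), zero_pow (by norm_num)]
  rw [RU.x_mul, hz]
  apply rsmc1_congr RU <;> ring

theorem rsmc1_left (RU : ReeU G K m) (t a b u v : K) :
    RU.x 0 u v * RU.x t a b = RU.x t (a + u) (b + v - t * u) := by
  rw [RU.x_mul]
  apply rsmc1_congr RU <;> ring

/-- C1 [S-M]. Direct consequences of `RU.x_mul` (`x 0 0 0` is idempotent; put zeros in `x_mul`). -/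
theorem x_basic (RU : ReeU G K m) :
    RU.x 0 0 0 = 1 ∧
    (∀ t a b u v : K, RU.x t a b * RU.x 0 u v = RU.x t (a + u) (b + v)) ∧
    (∀ t a b u v : K, RU.x 0 u v * RU.x t a b = RU.x t (a + u) (b + v - t * u)) ∧
    (∀ t u v : K, RU.x t u v = RU.x t 0 0 * RU.x 0 u v) ∧
    (∀ u v : K, RU.x 0 u v = RU.x 0 u 0 * RU.x 0 0 v) ∧
    (∀ u v u' v' : K, RU.x 0 u v * RU.x 0 u' v' = RU.x 0 u' v' * RU.x 0 u v) ∧
    (∀ t u v c : K, RU.x t u v * RU.x 0 0 c = RU.x 0 0 c * RU.x t u v) := by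
  refine ⟨?_, rsmc1_right RU, rsmc1_left RU, ?_, ?_, ?_, ?_⟩
  · have h1 : RU.x 0 0 0 * RU.x 0 0 0 = RU.x 0 0 0 := by
      rw [rsmc1_right]
      apply rsmc1_congr RU <;> ring
    have h2 : RU.x 0 0 0 * RU.x 0 0 0 = RU.x 0 0 0 * 1 := by rw [mul_one]; exact h1
    exact mul_left_cancel h2
  · intro t u v
    rw [rsmc1_right]
    apply rsmc1_congr RU <;> ring
  · intro u v
    rw [rsmc1_right]
    apply rsmc1_congr RU <;> ring
  · intro u v u' v'
    rw [rsmc1_right, rsmc1_right]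
    apply rsmc1_congr RU <;> ring
  · intro t u v c
    rw [rsmc1_right, rsmc1_left]
    apply rsmc1_congr RU <;> ring

end Cfsg.Agent.Lib.helper8.RSM
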