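import Mathlib
import Cfsg.Agent.Lib.helper15.St2
import Cfsg.Agent.Lib.helper7.StA
import Cfsg.Agent.Lib.helper7.StC
import Cfsg.Agent.Lib.helper7.StE
import Cfsg.Agent.Lib.Helper24.STCI1
import Cfsg.Agent.Lib.helper23.STCX2
import Cfsg.Agent.Lib.Helper27.STU.Defs
import Cfsg.Agent.Lib.Helper27.STU.Defs2

/-!
# Project STU (S2291, designer helper27), rows N6 (`Yj_Pg`) and N7 (`Yg_decomp2`, `Yjj_le_Lg`, `Yjj_le_Yg`) (helper4), VERBATIM.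

Self-contained on `STU.Defs`, `STU.Defs2` and block I of STC (`Helper24.STCI1`): own-name copies `stun6_*` of the few facts of B1 / X1 used.
-/

set_option autoImplicit false

namespace Cfsg.Agent.Lib.Helper27.STU

open Cfsg.Agent.Lib.helper15.St2 Cfsg.Agent.Lib.helper7.St Cfsg.Agent.Lib.helper3.STC

namespace SysU

variable {F : Type*} [Field F] [StarRing F] {od : Prop} {ι : Type*} {G : Type*} [Group G] (S : SysU F od ι G)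

theorem stun6_xs_zero {a b : ι ⊕ ι} (hab : a ≠ b) (hab' : a ≠ ng b) : S.xs a b 0 = 1 := by
  have := S.adds a b hab hab' 0 0
  rw [add_zero] at this
  exact mul_eq_left.1 this

theorem stun6_xs_neg {a b : ι ⊕ ι} (hab : a ≠ b) (hab' : a ≠ ng b) (t : F) : S.xs a b (-t) = (S.xs a b t)⁻¹ := by
  have := S.adds a b hab hab' t (-t)
  rw [add_neg_cancel, S.stun6_xs_zero hab hab'] at this
  exact (inv_eq_of_mul_eq_one_right this).symm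

theorem stun6_xl_one (a : ι ⊕ ι) : S.xl a 1 = 1 := by
  have := S.addl a 1 1
  rw [mul_one] at this
  exact mul_eq_left.1 this

theorem stun6_xl_inv (a : ι ⊕ ι) (ξ : Lam F od) : S.xl a ξ⁻¹ = (S.xl a ξ)⁻¹ := by
  have := S.addl a ξ ξ⁻¹
  rw [mul_inv_cancel, S.stun6_xl_one] at this
  exact (inv_eq_of_mul_eq_one_right this).symm

theorem stun6_xs_mem_XQ {Q : ι ⊕ ι → ι ⊕ ι → Prop} {a b : ι ⊕ ι} (hab : a ≠ b) (hab' : a ≠ ng b) (hQ : Q a b) (t : F) :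
    S.xs a b t ∈ S.XQ Q :=
  Subgroup.subset_closure (Or.inl ⟨a, b, t, hab, hab', hQ, rfl⟩)

theorem stun6_xl_mem_XQ {Q : ι ⊕ ι → ι ⊕ ι → Prop} {a : ι ⊕ ι} (hQ : Q a (ng a)) (ξ : Lam F od) :
    S.xl a ξ ∈ S.XQ Q :=
  Subgroup.subset_closure (Or.inr ⟨a, ξ, hQ, rfl⟩)

theorem stun6_XQ_mono {Q Q' : ι ⊕ ι → ι ⊕ ι → Prop} (h : ∀ a b, a ≠ b → Q a b → Q' a b) :
    S.XQ Q ≤ S.XQ Q' := by
  apply Subgroup.closure_mono
  rintro _ (⟨a, b, t, hab, hab', hQ, rfl⟩ | ⟨a, ξ, hQ, rfl⟩)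
  · exact Or.inl ⟨a, b, t, hab, hab', h a b hab hQ, rfl⟩
  · exact Or.inr ⟨a, ξ, h a (ng a) (ne_ng a) hQ, rfl⟩

theorem stun6_XQ_gens_inv (Q : ι ⊕ ι → ι ⊕ ι → Prop) :
    ∀ s ∈ ({g | ∃ a b t, a ≠ b ∧ a ≠ ng b ∧ Q a b ∧ g = S.xs a b t} ∪ {g | ∃ a ξ, Q a (ng a) ∧ g = S.xl a ξ} : Set G),
      s⁻¹ ∈ ({g | ∃ a b t, a ≠ b ∧ a ≠ ng b ∧ Q a b ∧ g = S.xs a b t} ∪ {g | ∃ a ξ, Q a (ng a) ∧ g = S.xl a ξ} : Set G) := by
  rintro _ (⟨a, b, t, hab, hab', hQ, rfl⟩ | ⟨a, ξ, hQ, rfl⟩)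
  · exact Or.inl ⟨a, b, -t, hab, hab', hQ, (S.stun6_xs_neg hab hab' t).symm⟩
  · exact Or.inr ⟨a, ξ⁻¹, hQ, (S.stun6_xl_inv a ξ).symm⟩

section N
variable (o : ι ⊕ ι)

/-- N6 [S-M]  moving `xs o j s` across `y' ∈ Yj o j` (model `Helper22.STCN6`). -/
theorem Yj_Pg {j : ι ⊕ ι} (hj : j ≠ o) (hj' : j ≠ ng o)
    (hdec : ∀ z ∈ S.Yg j, ∃ v : F, ∃ z'' ∈ S.Yj j (ng o), z = S.xs (ng o) j v * z'')
    (hnorm : ∀ y' ∈ S.Yj o j, ∀ z ∈ S.Yg j, cj y' z ∈ S.Yg j) :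
    ∀ y' ∈ S.Yj o j, ∀ s : F, ∃ y₂ ∈ S.Yg o, ∃ p ∈ S.Pg o, S.xs o j s * y' = y' * y₂ * p := by
  intro y' hy' s
  have hoj' : o ≠ ng j := fun h => hj' (by rw [h, ng_ng])
  have hnoj : ng o ≠ j := fun h => hj' h.symm
  have hnoj' : ng o ≠ ng j := fun h => hj (ng_inj.1 h).symm
  have h0 : S.xs o j s ∈ S.Yg j := S.stun6_xs_mem_XQ (Ne.symm hj) hoj' rfl s
  have h1 : cj y'⁻¹ (S.xs o j s) ∈ S.Yg j := hnorm _ (inv_mem hy') _ h0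
  obtain ⟨v, z'', hz'', e⟩ := hdec _ h1
  refine ⟨S.xs (ng o) j v, ?_, z'', ?_, ?_⟩
  · rw [S.sym (ng o) j hnoj hnoj' v, ng_ng]
    exact S.stun6_xs_mem_XQ (fun h => hj' (ng_eq_iff.1 h)) (fun h => hj (ng_inj.1 h)) rfl _
  · refine S.stun6_XQ_mono ?_ hz''
    rintro a b - ⟨rfl, ha⟩
    exact ⟨hj, ha⟩
  · have h2 : S.xs o j s * y' = y' * cj y'⁻¹ (S.xs o j s) := by
      unfold cj
      group
    rw [h2, e, mul_assoc]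

end N

end SysU

end Cfsg.Agent.Lib.Helper27.STU
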