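import Cfsg.Agent.Lib.Helper28.TOO.Defs

/-!
# Project TOO (S5681), row WG2: a non-singular vector orthogonal to a hyperbolic pair (helper4)
-/

set_option autoImplicit false
set_option linter.unusedVariables false
set_option linter.unusedSectionVars false

namespace Cfsg.Agent.Lib.Helper28.TOO

open Matrix
open scoped Kronecker
open Cfsg.Agent.Lib.helper7.TP Cfsg.Agent.Lib.Helper21.TS

section generic

variable {ι : Type*} [Fintype ι] [DecidableEq ι] {F : Type*} [Field F] {J : Matrix ι ι F}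

/-- the linear map `y ↦ (f(w,y), f(w',y))`. -/
noncomputable def toowg2_phi (J : Matrix ι ι F) (w w' : ι → F) : (ι → F) →ₗ[F] (F × F) where
  toFun y := (bf J w y, bf J w' y)
  map_add' y y' := by
    simp only [bf_add_right, Prod.mk_add_mk]
  map_smul' c y := by
    simp only [bf_smul_right, RingHom.id_apply, Prod.smul_mk, smul_eq_mul]

theorem toowg2_exists_ker (J : Matrix ι ι F) (hn : 3 ≤ Fintype.card ι) (w w' : ι → F) :
    ∃ y : ι → F, y ≠ 0 ∧ bf J w y = 0 ∧ bf J w' y = 0 := by
  have h1 := LinearMap.finrank_range_add_finrank_ker (toowg2_phi J w w')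
  have h2 : Module.finrank F (LinearMap.range (toowg2_phi J w w')) ≤ 2 := by
    have h := Submodule.finrank_le (LinearMap.range (toowg2_phi J w w'))
    have h' : Module.finrank F (F × F) = 2 := by
      rw [Module.finrank_prod, Module.finrank_self]
    omega
  have h3 : Module.finrank F (ι → F) = Fintype.card ι := Module.finrank_fintype_fun_eq_card F
  have h4 : 0 < Module.finrank F (LinearMap.ker (toowg2_phi J w w')) := by omega
  obtain ⟨⟨y, hy⟩, hy0⟩ := Module.finrank_pos_iff_exists_ne_zero.mp h4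
  have hy' : (bf J w y, bf J w' y) = (0 : F × F) := LinearMap.mem_ker.mp hy
  refine ⟨y, ?_, (Prod.ext_iff.mp hy').1, (Prod.ext_iff.mp hy').2⟩
  intro h
  apply hy0
  exact Subtype.ext h

/-- WG2 [M]. a non-singular vector orthogonal to a hyperbolic pair (dimension `≥ 3`). -/
theorem w1_nonsing_perp (h2 : (2 : F) ≠ 0) (hJ : Jᵀ = J) (hdet : J.det ≠ 0) (hn : 3 ≤ Fintype.card ι)
    (w w' : ι → F) (hw : bf J w w = 0) (hw' : bf J w' w' = 0) (hww' : bf J w w' = 1) :
    ∃ y : ι → F, bf J w y = 0 ∧ bf J w' y = 0 ∧ bf J y y ≠ 0 := by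
  obtain ⟨y₀, hy0, h0w, h0w'⟩ := toowg2_exists_ker J hn w w'
  by_cases hs : bf J y₀ y₀ = 0
  · obtain ⟨x, hx⟩ := bf_nondeg hdet hy0
    have hw'w : bf J w' w = 1 := by rw [bf_symm hJ]; exact hww'
    have h1w : bf J w (x - bf J w' x • w - bf J w x • w') = 0 := by
      rw [bf_sub_right, bf_sub_right, bf_smul_right, bf_smul_right, hw, hww']; ring
    have h1w' : bf J w' (x - bf J w' x • w - bf J w x • w') = 0 := by
      rw [bf_sub_right, bf_sub_right, bf_smul_right, bf_smul_right, hw', hw'w]; ring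
    have h01 : bf J y₀ (x - bf J w' x • w - bf J w x • w') = bf J y₀ x := by
      rw [bf_sub_right, bf_sub_right, bf_smul_right, bf_smul_right, bf_symm hJ y₀ w,
        bf_symm hJ y₀ w', h0w, h0w']; ring
    obtain ⟨y₁, hy₁⟩ : ∃ y₁, y₁ = x - bf J w' x • w - bf J w x • w' := ⟨_, rfl⟩
    rw [← hy₁] at h1w h1w' h01
    by_cases hs1 : bf J y₁ y₁ = 0
    · refine ⟨y₀ + y₁, ?_, ?_, ?_⟩
      · rw [bf_add_right, h0w, h1w, add_zero]
      · rw [bf_add_right, h0w', h1w', add_zero]
      · rw [bf_add_left, bf_add_right, bf_add_right, hs, hs1, bf_symm hJ y₁ y₀, h01]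
        intro h
        apply hx
        have h' : (2 : F) * bf J y₀ x = 0 := by linear_combination h
        exact (mul_eq_zero.mp h').resolve_left h2
    · exact ⟨y₁, h1w, h1w', hs1⟩
  · exact ⟨y₀, h0w, h0w', hs⟩

end generic

end Cfsg.Agent.Lib.Helper28.TOO
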