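import Mathlib
import Cfsg.Prelude.Def_GeometricClasses
import Cfsg.Agent.Lib.Helper27.ASC.Defs
import Cfsg.Agent.Lib.Helper19.ASG.Defs
import Cfsg.Agent.Lib.Helper18.ASP.Defs
import Cfsg.Agent.Lib.Helper18.ASPADJ
import Cfsg.Agent.Lib.helper8.ASPC.Defs

set_option autoImplicit false
set_option linter.unusedVariables false
set_option linter.unusedSectionVars false

namespace Cfsg.Agent.Lib.Helper18.ASP

open Cfsg Cfsg.Geo Cfsg.Agent.Lib.Helper27.ASC Cfsg.Agent.Lib.Helper19.ASG
open scoped MatrixGroups Matrix Kronecker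

variable {n : ℕ} {F : Type*} [Field F]

/-- C-SIGN : `(A ⊗ B)ᵀ = -(A ⊗ B)` with `A, B ≠ 0` forces one factor symmetric and the other skew. -/
theorem spc_kron_skew_cases {k d : ℕ} (A : Matrix (Fin k) (Fin k) F) (B : Matrix (Fin d) (Fin d) F)
    (hA : A ≠ 0) (hB : B ≠ 0) (h : (A ⊗ₖ B)ᵀ = -(A ⊗ₖ B)) :
    (Aᵀ = A ∧ Bᵀ = -B) ∨ (Aᵀ = -A ∧ Bᵀ = B) := by
  have hE : ∀ (i i' : Fin k) (j j' : Fin d), A i' i * B j' j = -(A i i' * B j j') := by
    intro i i' j j'
    have h1 := congrFun (congrFun h (i, j)) (i', j')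
    simp only [Matrix.transpose_apply, Matrix.neg_apply, Matrix.kroneckerMap_apply] at h1
    linear_combination h1
  obtain ⟨i₀, i₀', hα⟩ : ∃ i i', A i i' ≠ 0 := by
    by_contra hcon
    push_neg at hcon
    exact hA (Matrix.ext hcon)
  obtain ⟨j₀, j₀', hβ⟩ : ∃ j j', B j j' ≠ 0 := by
    by_contra hcon
    push_neg at hcon
    exact hB (Matrix.ext hcon)
  have h0 := hE i₀ i₀' j₀ j₀'
  have h1 := hE i₀ i₀' j₀' j₀
  have hsq : A i₀ i₀' * ((B j₀' j₀ - B j₀ j₀') * (B j₀' j₀ + B j₀ j₀')) = 0 := by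
    linear_combination B j₀' j₀ * h1 - B j₀ j₀' * h0
  rcases mul_eq_zero.mp ((mul_eq_zero.mp hsq).resolve_left hα) with hb | hb
  · -- `β' = β`
    right
    have hα' : A i₀' i₀ + A i₀ i₀' = 0 := by
      have h3 : (A i₀' i₀ + A i₀ i₀') * B j₀ j₀' = 0 := by
        linear_combination h1 - A i₀ i₀' * hb
      exact (mul_eq_zero.mp h3).resolve_right hβ
    constructor
    · ext i i'
      rw [Matrix.transpose_apply, Matrix.neg_apply]
      have h3 : (A i' i + A i i') * B j₀ j₀' = 0 := by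
        linear_combination hE i i' j₀ j₀' - A i' i * hb
      exact eq_neg_of_add_eq_zero_left ((mul_eq_zero.mp h3).resolve_right hβ)
    · ext j j'
      rw [Matrix.transpose_apply]
      have h3 : A i₀ i₀' * (B j' j - B j j') = 0 := by
        linear_combination -(hE i₀ i₀' j j') + B j' j * hα'
      exact sub_eq_zero.mp ((mul_eq_zero.mp h3).resolve_left hα)
  · -- `β' = -β`
    left
    have hα' : A i₀' i₀ - A i₀ i₀' = 0 := by
      have h3 : (A i₀' i₀ - A i₀ i₀') * B j₀ j₀' = 0 := by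
        linear_combination h1 - A i₀ i₀' * hb
      exact (mul_eq_zero.mp h3).resolve_right hβ
    constructor
    · ext i i'
      rw [Matrix.transpose_apply]
      have h3 : (A i' i - A i i') * B j₀ j₀' = 0 := by
        linear_combination -(hE i i' j₀ j₀') + A i' i * hb
      exact sub_eq_zero.mp ((mul_eq_zero.mp h3).resolve_right hβ)
    · ext j j'
      rw [Matrix.transpose_apply, Matrix.neg_apply]
      have h3 : A i₀ i₀' * (B j' j + B j j') = 0 := by
        linear_combination hE i₀ i₀' j j' - B j' j * hα'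
      exact eq_neg_of_add_eq_zero_left ((mul_eq_zero.mp h3).resolve_left hα)

end Cfsg.Agent.Lib.Helper18.ASP
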