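import Mathlib
import Cfsg.Prelude.Def_GeometricClasses
import Cfsg.Agent.Lib.Helper27.ASC.Defs
import Cfsg.Agent.Lib.Helper19.ASG.Defs
import Cfsg.Agent.Lib.Helper18.ASP.Defs
import Cfsg.Agent.Lib.Helper18.ASPADJ
import Cfsg.Agent.Lib.helper8.ASPC.Defs

set_option autoImplicit false
set_option linter.unusedVariables false
set_option linter.unusedSectionVars false

namespace Cfsg.Agent.Lib.Helper18.ASP

open Cfsg Cfsg.Geo Cfsg.Agent.Lib.Helper27.ASC Cfsg.Agent.Lib.Helper19.ASG
open scoped MatrixGroups Matrix Kronecker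

variable {n : ℕ} {F : Type*} [Field F]

/-- the form with Gram matrix `G` evaluated on two standard basis vectors -/
theorem aspcskew_formOfGram_single {κ : Type} [Fintype κ] [DecidableEq κ] (G : Matrix κ κ F) (p q : κ) :
    formOfGram id G (Pi.single p 1) (Pi.single q 1) = G p q := by
  unfold formOfGram
  rw [Finset.sum_eq_single p]
  · rw [Finset.sum_eq_single q]
    · simp
    · intro b _ hb
      simp [Pi.single_eq_of_ne hb]
    · intro h
      exact absurd (Finset.mem_univ q) h
  · intro a _ ha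
    simp [Pi.single_eq_of_ne ha]
  · intro h
    exact absurd (Finset.mem_univ p) h

/-- C-SKEW : the Gram matrix `A ⊗ B` of a symplectic form is skew with zero diagonal. -/
theorem spc_kron_skew (f : (Fin n → F) → (Fin n → F) → F) (hf : IsSymplecticForm f) {k d : ℕ}
    (e : Fin n ≃ Fin k × Fin d) (P : GL (Fin n) F) (A : Matrix (Fin k) (Fin k) F) (B : Matrix (Fin d) (Fin d) F)
    (hK : KrGram f e P A B) :
    (A ⊗ₖ B)ᵀ = -(A ⊗ₖ B) ∧ ∀ p : Fin k × Fin d, (A ⊗ₖ B) p p = 0 := by
  have key : ∀ p q : Fin k × Fin d, (A ⊗ₖ B) p q =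
      f ((P : Matrix (Fin n) (Fin n) F) *ᵥ ((Pi.single p 1 : Fin k × Fin d → F) ∘ e))
        ((P : Matrix (Fin n) (Fin n) F) *ᵥ ((Pi.single q 1 : Fin k × Fin d → F) ∘ e)) := by
    intro p q
    exact ((hK (Pi.single p 1) (Pi.single q 1)).trans (aspcskew_formOfGram_single (A ⊗ₖ B) p q)).symm
  constructor
  · ext p q
    rw [Matrix.transpose_apply, Matrix.neg_apply, key q p, key p q]
    exact hf.skew _ _
  · intro p
    rw [key p p]
    exact hf.alternating _

end Cfsg.Agent.Lib.Helper18.ASP
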