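import Mathlib
import Cfsg.Prelude.Def_SolvableStructure
import Cfsg.Agent.Lib.helper4.Supersolvable

set_option autoImplicit false

namespace Cfsg.Agent.Lib.helper4

open Cfsg

universe u

theorem normal_zpowers_of_conj {G : Type*} [Group G] (w : G)
    (h : ∀ x : G, x * w * x⁻¹ ∈ Subgroup.zpowers w) : (Subgroup.zpowers w).Normal := by
  constructor
  intro y hy x
  obtain ⟨j, rfl⟩ := Subgroup.mem_zpowers_iff.mp hy
  have : x * w ^ j * x⁻¹ = (x * w * x⁻¹) ^ j := by rw [conj_zpow]
  rw [this]
  exact Subgroup.zpow_mem _ (h x) j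

theorem isSupersolvable_of_subsingleton {G : Type u} [Group G] [Subsingleton G] :
    IsSupersolvable G := by
  rw [isSupersolvable_iff]
  have : (⊤ : Subgroup G) = ⊥ := Subsingleton.elim _ _
  rw [this]
  exact SSChain.bot

theorem card_quotient_zpowers {G : Type u} [Group G] [Finite G] (z : G)
    [(Subgroup.zpowers z).Normal] (m k : ℕ) (hz : orderOf z = m) (hm : 0 < m)
    (hG : Nat.card G = m * k) : Nat.card (G ⧸ Subgroup.zpowers z) = k := by
  have h := Subgroup.card_eq_card_quotient_mul_card_subgroup (Subgroup.zpowers z)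
  rw [Nat.card_zpowers, hz, hG] at h
  have : m * k = m * Nat.card (G ⧸ Subgroup.zpowers z) := by rw [h]; ring
  exact (Nat.eq_of_mul_eq_mul_left hm this).symm

theorem ss_of_pgroup_aux (k : ℕ) : ∀ (G : Type u) [Group G] [Finite G] (p : ℕ), p.Prime →
    Nat.card G = p ^ k → IsSupersolvable G := by
  induction k with
  | zero =>
    intro G _ _ p _ hc
    rw [pow_zero] at hc
    haveI : Subsingleton G := (Nat.card_eq_one_iff_unique.mp hc).1
    exact isSupersolvable_of_subsingleton
  | succ k ih =>
    intro G _ _ p hp hc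
    haveI : Fact p.Prime := ⟨hp⟩
    have hG : IsPGroup p G := IsPGroup.of_card hc
    haveI : Nontrivial G := by
      rw [← Finite.one_lt_card_iff_nontrivial, hc]
      exact Nat.one_lt_pow (Nat.succ_ne_zero k) hp.one_lt
    haveI := hG.center_nontrivial
    have hZ : IsPGroup p (Subgroup.center G) := hG.to_subgroup _
    obtain ⟨j, hj⟩ := IsPGroup.iff_card.mp hZ
    have hj0 : j ≠ 0 := by
      rintro rfl
      have : 1 < Nat.card (Subgroup.center G) := Finite.one_lt_card_iff_nontrivial.mpr inferInstance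
      rw [hj] at this
      simp at this
    have hdvd : p ∣ Nat.card (Subgroup.center G) := by rw [hj]; exact dvd_pow_self p hj0
    obtain ⟨z, hz⟩ := exists_prime_orderOf_dvd_card' p hdvd
    have hzG : orderOf (z : G) = p := by rw [Subgroup.orderOf_coe]; exact hz
    have hcen : ∀ x : G, x * (z : G) * x⁻¹ = z := by
      intro x
      have := Subgroup.mem_center_iff.mp z.2 x
      rw [this, mul_inv_cancel_right]
    haveI hn : (Subgroup.zpowers (z : G)).Normal := by
      apply normal_zpowers_of_conj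
      intro x
      rw [hcen]
      exact Subgroup.mem_zpowers _
    have hq : Nat.card (G ⧸ Subgroup.zpowers (z : G)) = p ^ k := by
      apply card_quotient_zpowers (z : G) p (p ^ k) hzG hp.pos
      rw [hc, pow_succ]; ring
    exact isSupersolvable_of_cyclic_normal (Subgroup.zpowers (z : G)) (ih _ p hp hq)

theorem ss_of_pgroup {G : Type u} [Group G] [Finite G] (p k : ℕ) (hp : p.Prime)
    (hc : Nat.card G = p ^ k) : IsSupersolvable G :=
  ss_of_pgroup_aux k G p hp hc

theorem exists_normal_of_index_two {G : Type u} [Group G] [Finite G] (p : ℕ) (hp : p.Prime)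
    (hp2 : p ≠ 2) (P : Subgroup G) (hPi : P.index = 2) (hPp : IsPGroup p P) (hPnt : P ≠ ⊥) :
    ∃ w : G, orderOf w = p ∧ (Subgroup.zpowers w).Normal := by
  haveI : Fact p.Prime := ⟨hp⟩
  haveI hPn : P.Normal := Subgroup.normal_of_index_eq_two hPi
  haveI : Nontrivial P := by
    rw [Subgroup.nontrivial_iff_ne_bot]; exact hPnt
  haveI := hPp.center_nontrivial
  have hZ : IsPGroup p (Subgroup.center P) := hPp.to_subgroup _
  obtain ⟨j, hj⟩ := IsPGroup.iff_card.mp hZ
  have hj0 : j ≠ 0 := by
    rintro rfl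
    have : 1 < Nat.card (Subgroup.center P) := Finite.one_lt_card_iff_nontrivial.mpr inferInstance
    rw [hj] at this
    simp at this
  have hdvd : p ∣ Nat.card (Subgroup.center P) := by rw [hj]; exact dvd_pow_self p hj0
  obtain ⟨z, hz⟩ := exists_prime_orderOf_dvd_card' p hdvd
  set v : G := ((z : P) : G) with hv
  have hvo : orderOf v = p := by rw [hv, Subgroup.orderOf_coe, Subgroup.orderOf_coe]; exact hz
  have hvP : v ∈ P := (z : P).2
  have hvc : ∀ x ∈ P, x * v = v * x := by
    intro x hx
    have := Subgroup.mem_center_iff.mp z.2 ⟨x, hx⟩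
    exact congrArg Subtype.val this
  have h2 : 2 ∣ Nat.card G := by
    rw [← Subgroup.card_mul_index P, hPi]
    exact dvd_mul_left 2 _
  haveI : Fact (Nat.Prime 2) := ⟨Nat.prime_two⟩
  obtain ⟨t, ht⟩ := exists_prime_orderOf_dvd_card' 2 h2
  have htt : t * t = 1 := by
    have := pow_orderOf_eq_one t
    rwa [ht, pow_two] at this
  have htinv : t⁻¹ = t := inv_eq_of_mul_eq_one_left htt
  have htP : t ∉ P := by
    intro h
    have h1 : orderOf (⟨t, h⟩ : P) = 2 := by rw [← Subgroup.orderOf_coe]; exact ht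
    obtain ⟨m, hm⟩ := hPp ⟨t, h⟩
    have h3 : orderOf (⟨t, h⟩ : P) ∣ p ^ m := orderOf_dvd_of_pow_eq_one hm
    rw [h1] at h3
    have := (Nat.Prime.dvd_of_dvd_pow Nat.prime_two h3)
    exact hp2 ((Nat.prime_dvd_prime_iff_eq Nat.prime_two hp).mp this).symm
  set u : G := t * v * t⁻¹ with hu
  have huP : u ∈ P := hPn.conj_mem v hvP t
  have huc : ∀ x ∈ P, x * u = u * x := by
    intro x hx
    have hx' : t⁻¹ * x * t ∈ P := by
      have := hPn.conj_mem x hx t⁻¹
      rwa [inv_inv] at this
    have := hvc _ hx'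
    calc x * u = t * ((t⁻¹ * x * t) * v) * t⁻¹ := by rw [hu]; group
      _ = t * (v * (t⁻¹ * x * t)) * t⁻¹ := by rw [this]
      _ = u * x := by rw [hu]; group
  have hvu : v * u = u * v := (hvc u huP).symm
  have decomp : ∀ x : G, x ∉ P → ∃ y ∈ P, x = y * t := by
    intro x hx
    refine ⟨x * t⁻¹, ?_, by group⟩
    rw [Subgroup.mul_mem_iff_of_index_two hPi]
    constructor
    · intro h; exact absurd h hx
    · intro h; exact absurd (by rwa [htinv] at h) htP
  by_cases hw : v * u = 1
  · refine ⟨v, hvo, ?_⟩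
    apply normal_zpowers_of_conj
    intro x
    by_cases hx : x ∈ P
    · have : x * v * x⁻¹ = v := by rw [hvc x hx, mul_inv_cancel_right]
      rw [this]; exact Subgroup.mem_zpowers v
    · obtain ⟨y, hy, rfl⟩ := decomp x hx
      have h1 : y * t * v * (y * t)⁻¹ = y * u * y⁻¹ := by rw [hu]; group
      have h2 : y * u * y⁻¹ = u := by rw [huc y hy, mul_inv_cancel_right]
      have h3 : u = v⁻¹ := (inv_eq_of_mul_eq_one_right hw).symm
      rw [h1, h2, h3]
      exact Subgroup.inv_mem _ (Subgroup.mem_zpowers v)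
  · refine ⟨v * u, ?_, ?_⟩
    · apply orderOf_eq_prime _ hw
      have hcomm : Commute v u := hvu
      rw [hcomm.mul_pow]
      have h1 : v ^ p = 1 := by rw [← hvo]; exact pow_orderOf_eq_one v
      have h2 : u ^ p = 1 := by
        rw [hu, conj_pow, h1]; group
      rw [h1, h2, one_mul]
    · apply normal_zpowers_of_conj
      intro x
      have hwc : ∀ y ∈ P, y * (v * u) * y⁻¹ = v * u := by
        intro y hy
        calc y * (v * u) * y⁻¹ = (y * v) * u * y⁻¹ := by group
          _ = v * (y * u) * y⁻¹ := by rw [hvc y hy]; group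
          _ = v * (u * y) * y⁻¹ := by rw [huc y hy]
          _ = v * u := by group
      have hwt : t * (v * u) * t⁻¹ = v * u := by
        have h1 : t * u * t⁻¹ = v := by
          rw [hu, htinv]
          calc t * (t * v * t) * t = (t * t) * v * (t * t) := by group
            _ = v := by rw [htt, one_mul, mul_one]
        calc t * (v * u) * t⁻¹ = (t * v * t⁻¹) * (t * u * t⁻¹) := by group
          _ = u * v := by rw [h1]
          _ = v * u := hvu.symm
      by_cases hx : x ∈ P
      · rw [hwc x hx]; exact Subgroup.mem_zpowers _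
      · obtain ⟨y, hy, rfl⟩ := decomp x hx
        have : y * t * (v * u) * (y * t)⁻¹ = y * (t * (v * u) * t⁻¹) * y⁻¹ := by group
        rw [this, hwt, hwc y hy]
        exact Subgroup.mem_zpowers _

theorem ss_two_ppow_aux (n : ℕ) : ∀ (G : Type u) [Group G] [Finite G] (p : ℕ), p.Prime →
    Nat.card G = 2 * p ^ n → IsSupersolvable G := by
  induction n with
  | zero =>
    intro G _ _ p _ hc
    exact ss_of_pgroup 2 1 Nat.prime_two (by rw [hc]; norm_num)
  | succ n ih =>
    intro G _ _ p hp hc
    by_cases hp2 : p = 2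
    · subst hp2
      exact ss_of_pgroup 2 (n + 2) Nat.prime_two (by rw [hc]; ring)
    · haveI : Fact p.Prime := ⟨hp⟩
      obtain ⟨P⟩ : Nonempty (Sylow p G) := inferInstance
      have hfac : (Nat.card G).factorization p = n + 1 := by
        rw [hc, Nat.factorization_mul (by norm_num) (pow_ne_zero _ hp.ne_zero),
          Nat.Prime.factorization_pow hp]
        simp only [Finsupp.coe_add, Pi.add_apply, Finsupp.single_eq_same]
        have : (Nat.factorization 2) p = 0 := by
          rw [Nat.Prime.factorization Nat.prime_two]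
          simp [Ne.symm hp2]
        omega
      have hPc : Nat.card (P : Subgroup G) = p ^ (n + 1) := by
        rw [P.card_eq_multiplicity, hfac]
      have hPi : (P : Subgroup G).index = 2 := by
        have := Subgroup.card_mul_index (P : Subgroup G)
        rw [hPc, hc] at this
        have hpos : 0 < p ^ (n + 1) := pow_pos hp.pos _
        have : p ^ (n + 1) * (P : Subgroup G).index = p ^ (n + 1) * 2 := by rw [this]; ring
        exact Nat.eq_of_mul_eq_mul_left hpos this
      have hPnt : (P : Subgroup G) ≠ ⊥ := by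
        intro h
        rw [h, Subgroup.card_bot] at hPc
        have : 1 < p ^ (n + 1) := Nat.one_lt_pow (Nat.succ_ne_zero n) hp.one_lt
        omega
      obtain ⟨w, hwo, hwn⟩ := exists_normal_of_index_two p hp hp2 (P : Subgroup G) hPi P.isPGroup' hPnt
      haveI := hwn
      have hq : Nat.card (G ⧸ Subgroup.zpowers w) = 2 * p ^ n := by
        apply card_quotient_zpowers w p (2 * p ^ n) hwo hp.pos
        rw [hc, pow_succ]; ring
      exact isSupersolvable_of_cyclic_normal (Subgroup.zpowers w) (ih _ p hp hq)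

theorem ss_two_ppow {G : Type u} [Group G] [Finite G] (p n : ℕ) (hp : p.Prime)
    (hc : Nat.card G = 2 * p ^ n) : IsSupersolvable G :=
  ss_two_ppow_aux n G p hp hc

end Cfsg.Agent.Lib.helper4

namespace Cfsg.Agent.Lib.helper4

open Cfsg

universe u

theorem commutator_centralizes_step {G : Type u} [Group G] (A : Subgroup G) [hA : A.Normal]
    (g : G) (hB : (A ⊔ Subgroup.zpowers g).Normal) (c : G) (hc : c ∈ commutator G) (b : G)
    (hb : b ∈ A ⊔ Subgroup.zpowers g) : c * b * c⁻¹ * b⁻¹ ∈ A := by
  let π := QuotientGroup.mk' A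
  have hπ : Function.Surjective π := QuotientGroup.mk'_surjective A
  have hmap : (A ⊔ Subgroup.zpowers g).map π = Subgroup.zpowers (π g) := by
    rw [Subgroup.map_sup, MonoidHom.map_zpowers]
    have hA0 : A.map π = ⊥ :=
      (Subgroup.map_eq_bot_iff _).mpr (le_of_eq (QuotientGroup.ker_mk' A).symm)
    rw [hA0, bot_sup_eq]
  haveI hNn : (Subgroup.zpowers (π g)).Normal := by
    rw [← hmap]; exact hB.map π hπ
  let φ : (G ⧸ A) →* MulAut (Subgroup.zpowers (π g)) := MulAut.conjNormal
  let F : G →* (ZMod (Nat.card (Subgroup.zpowers (π g))))ˣ :=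
    ((IsCyclic.mulAutMulEquiv (Subgroup.zpowers (π g))).toMonoidHom.comp φ).comp π
  have hker : c ∈ F.ker := Abelianization.commutator_subset_ker F hc
  have h1 : φ (π c) = 1 := by
    have : (IsCyclic.mulAutMulEquiv (Subgroup.zpowers (π g))) (φ (π c)) = 1 := hker
    exact (MulEquiv.map_eq_one_iff _).mp this
  have hbN : π b ∈ Subgroup.zpowers (π g) := by
    rw [← hmap]; exact ⟨b, hb, rfl⟩
  have h2 : π c * π b * (π c)⁻¹ = π b := by
    have h4 := congrArg (fun σ : MulAut (Subgroup.zpowers (π g)) => ((σ ⟨π b, hbN⟩ : Subgroup.zpowers (π g)) : G ⧸ A)) h1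
    simp only [MulAut.one_apply] at h4
    have h5 : ((φ (π c) ⟨π b, hbN⟩ : Subgroup.zpowers (π g)) : G ⧸ A) = π c * π b * (π c)⁻¹ :=
      MulAut.conjNormal_apply (π c) ⟨π b, hbN⟩
    rw [← h5, h4]
  have h3 : π (c * b * c⁻¹ * b⁻¹) = 1 := by
    rw [map_mul, map_mul, map_mul, map_inv, map_inv, h2, mul_inv_cancel]
  exact (QuotientGroup.eq_one_iff _).mp h3

theorem ssChain_upperCentral {G : Type u} [Group G] {A : Subgroup G} (h : SSChain A) :
    ∃ n : ℕ, ∀ x : commutator G, (x : G) ∈ A → x ∈ Subgroup.upperCentralSeries (commutator G) n := by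
  induction h with
  | bot =>
    refine ⟨0, fun x hx => ?_⟩
    rw [Subgroup.mem_bot] at hx
    have : x = 1 := Subtype.ext hx
    rw [this]
    exact Subgroup.one_mem _
  | step A g _ hA hAg ih =>
    obtain ⟨n, hn⟩ := ih
    refine ⟨n + 1, fun x hx => ?_⟩
    rw [Subgroup.mem_upperCentralSeries_succ_iff]
    intro y
    apply hn
    haveI := hA
    have h1 := commutator_centralizes_step A g hAg (y : G) y.2 (x : G) hx
    have h2 : ((x * y * x⁻¹ * y⁻¹ : commutator G) : G) = ((y : G) * x * (y : G)⁻¹ * (x : G)⁻¹)⁻¹ := by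
      simp only [Subgroup.coe_mul, Subgroup.coe_inv]
      group
    show ((x * y * x⁻¹ * y⁻¹ : commutator G) : G) ∈ A
    rw [h2]
    exact A.inv_mem h1

theorem commutator_isNilpotent {G : Type u} [Group G] (hG : IsSupersolvable G) :
    Group.IsNilpotent (commutator G) := by
  rw [isSupersolvable_iff] at hG
  obtain ⟨n, hn⟩ := ssChain_upperCentral hG
  refine ⟨⟨n, ?_⟩⟩
  rw [eq_top_iff]
  intro x _
  exact hn x (Subgroup.mem_top _)

end Cfsg.Agent.Lib.helper4
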