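import Mathlib
import Cfsg.Agent.Lib.helper8.RSM.Defs

/-! RSM row B4 (`sym_kill`), helper4. -/

set_option autoImplicit false

namespace Cfsg.Agent.Lib.helper8.RSM

universe u v w

variable {G : Type u} [Group G] {K : Type v} [Field K] [Fintype K] {m : ℕ}

/-- B4 [S-M]. `B t w = B t (1 * w) = B 1 (t * w) =: f (t w)` by `hsym`; `f` is additive and
`f (a c r) = f r`, so `f ((a c - 1) r) = 1` for all `r`. -/
theorem sym_kill {A : Type*} [Group A] (B : K → K → A)
    (hr : ∀ u w w', B u (w + w') = B u w * B u w')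
    (hsym : ∀ s t u, B t (s * u) = B s (t * u)) (a c : K) (hac : a * c ≠ 1)
    (hinv : ∀ t w, B (a * t) (c * w) = B t w) : ∀ t w, B t w = 1 := by
  have hB : ∀ t w, B t w = B 1 (t * w) := by
    intro t w
    have h1 := hsym 1 t w
    rwa [one_mul] at h1
  have hf0 : B 1 0 = 1 := by
    have h1 := hr 1 0 0
    rw [add_zero] at h1
    have h2 : B 1 0 * B 1 0 = B 1 0 * 1 := by rw [mul_one]; exact h1.symm
    exact mul_left_cancel h2
  have hfneg : ∀ r, B 1 r * B 1 (-r) = 1 := by
    intro r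
    rw [← hr, add_neg_cancel, hf0]
  have hfac : ∀ r, B 1 (a * c * r) = B 1 r := by
    intro r
    have h1 := hinv 1 r
    rw [hB (a * 1) (c * r)] at h1
    have h2 : a * 1 * (c * r) = a * c * r := by ring
    rwa [h2] at h1
  have hd : a * c - 1 ≠ 0 := sub_ne_zero.mpr hac
  have hk : ∀ r, B 1 ((a * c - 1) * r) = 1 := by
    intro r
    have h1 : (a * c - 1) * r = a * c * r + (-r) := by ring
    rw [h1, hr, hfac, hfneg]
  intro t w
  rw [hB]
  have h2 : t * w = (a * c - 1) * ((a * c - 1)⁻¹ * (t * w)) := by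
    rw [← mul_assoc, mul_inv_cancel₀ hd, one_mul]
  rw [h2]
  exact hk _

end Cfsg.Agent.Lib.helper8.RSM
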