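import Mathlib
import Cfsg.Prelude.Def_Solvable
import Cfsg.Agent.Lib.Helper1.CFitting
import Cfsg.Agent.Lib.Helper1.Cores

set_option autoImplicit false

namespace Cfsg.Agent.Lib.helper4

open Cfsg

theorem aut_fix_fitting {G : Type*} [Group G] [Finite G] [Group.IsSolvable G] (σ : G ≃* G)
    (hσ : ∀ x ∈ Cfsg.fittingSubgroup G, σ x = x) (hne : σ ≠ MulEquiv.refl G) :
    ¬ (orderOf σ).Coprime (Nat.card G) := by
  intro hcop
  apply hne
  haveI hFn : (Cfsg.fittingSubgroup G).Normal := Cfsg.Agent.Lib.Helper1.fittingSubgroup_normal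
  apply MulEquiv.ext
  intro g
  show σ g = g
  set z := g⁻¹ * σ g with hz
  have hzC : z ∈ Subgroup.centralizer (Cfsg.fittingSubgroup G : Set G) := by
    rw [Subgroup.mem_centralizer_iff]
    intro x hx
    have h1 : g * x * g⁻¹ ∈ Cfsg.fittingSubgroup G := hFn.conj_mem x hx g
    have h2 := hσ _ h1
    rw [map_mul, map_mul, map_inv, hσ x hx] at h2
    -- σ g * x * (σ g)⁻¹ = g * x * g⁻¹
    have h3 : x * (g⁻¹ * σ g) = g⁻¹ * (g * x * g⁻¹) * σ g := by group
    rw [hz, h3, ← h2]
    group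
  have hzF : z ∈ Cfsg.fittingSubgroup G :=
    Cfsg.Agent.Lib.Helper1.centralizer_fittingSubgroup_le hzC
  have hσz : σ z = z := hσ z hzF
  have hpow : ∀ k : ℕ, (σ ^ k) g = g * z ^ k := by
    intro k
    induction k with
    | zero => simp
    | succ k ih =>
      have hgz : g * z = σ g := by rw [hz]; group
      rw [pow_succ', MulAut.mul_apply, ih, map_mul, map_pow, hσz, pow_succ', ← mul_assoc, hgz]
  have h1 : z ^ orderOf σ = 1 := by
    have := hpow (orderOf σ)
    rw [pow_orderOf_eq_one, MulAut.one_apply] at this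
    exact (mul_eq_left.mp this.symm)
  have h2 : z ^ Nat.card G = 1 := pow_card_eq_one'
  have h3 : orderOf z ∣ 1 := by
    rw [← Nat.Coprime.gcd_eq_one hcop]
    exact Nat.dvd_gcd (orderOf_dvd_of_pow_eq_one h1) (orderOf_dvd_of_pow_eq_one h2)
  have h4 : z = 1 := orderOf_eq_one_iff.mp (Nat.dvd_one.mp h3)
  rw [hz] at h4
  have : σ g = g * (g⁻¹ * σ g) := by group
  rw [this, h4, mul_one]

end Cfsg.Agent.Lib.helper4
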