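import Cfsg.Agent.Lib.helper6.UTP.Defs

/-!
# Project UTP, piece UNIPZ: an element of `M` (in the world `NTu`) which moves every vector inside the line `A ⊗ w`
is a root element `ELm (c • 1) w w*` with `σ c = -c`.  Self-contained (the skewness of `c` is read off the isometry
condition directly, no use of piece ELU).
-/

set_option autoImplicit false
set_option linter.unusedVariables false
set_option linter.unusedSectionVars false

namespace Cfsg.Agent.Lib.helper6.UTP

open Matrix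
open scoped Kronecker
open Cfsg.Agent.Lib.helper7.TP

variable {F : Type*} [Field F] {a b : ℕ}

theorem unipz (σ : F ≃+* F) (hσ : Inv2 σ) (ha : 1 ≤ a)
    (M : Subgroup (Matrix.GeneralLinearGroup (Fin a × Fin b) F)) (hMS : M ≤ SUm σ (Fin a × Fin b))
    (hNT : NTu σ M) (w : Fin b → F) (hw : w ≠ 0) (h : cj σ w ⬝ᵥ w = 0)
    (g : Matrix.GeneralLinearGroup (Fin a × Fin b) F) (hg : g ∈ M)
    (h1 : ∀ v : Fin a × Fin b → F,
      (g : Matrix (Fin a × Fin b) (Fin a × Fin b) F) *ᵥ v - v ∈ Bline (a := a) w) :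
    ∃ c : F, σ c = -c ∧
      (g : Matrix (Fin a × Fin b) (Fin a × Fin b) F) = ELm (c • (1 : Matrix (Fin a) (Fin a) F)) w (cj σ w) := by
  have hGU : ∀ x y, hf σ ((g : Matrix (Fin a × Fin b) (Fin a × Fin b) F) *ᵥ x)
      ((g : Matrix (Fin a × Fin b) (Fin a × Fin b) F) *ᵥ y) = hf σ x y :=
    (mem_GUm σ g).1 (hMS hg).1
  have hww : hf σ w w = 0 := (iso_iff σ w).1 h
  obtain ⟨j₀, hj₀⟩ : ∃ j, w j ≠ 0 := by
    by_contra hcon
    push Not at hcon
    exact hw (funext hcon)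
  -- the linear map `Φ` with `g v - v = ten (Φ v) w`
  let Φ : (Fin a × Fin b → F) →ₗ[F] (Fin a → F) :=
    { toFun := fun v i => (w j₀)⁻¹ *
        (((g : Matrix (Fin a × Fin b) (Fin a × Fin b) F) *ᵥ v) (i, j₀) - v (i, j₀))
      map_add' := fun v v' => by
        funext i
        simp only [Matrix.mulVec_add, Pi.add_apply]
        ring
      map_smul' := fun c v => by
        funext i
        simp only [Matrix.mulVec_smul, Pi.smul_apply, smul_eq_mul, RingHom.id_apply]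
        ring }
  have hΦ : ∀ v, (g : Matrix (Fin a × Fin b) (Fin a × Fin b) F) *ᵥ v - v = ten (Φ v) w := by
    intro v
    obtain ⟨u₀, hu₀⟩ := (mem_Bline w _).1 (h1 v)
    have e : Φ v = u₀ := by
      funext i
      show (w j₀)⁻¹ * (((g : Matrix (Fin a × Fin b) (Fin a × Fin b) F) *ᵥ v) (i, j₀) - v (i, j₀))
        = u₀ i
      have h3 := congrFun hu₀ (i, j₀)
      rw [Pi.sub_apply] at h3
      rw [h3]
      show (w j₀)⁻¹ * (u₀ i * w j₀) = u₀ i
      rw [mul_comm (u₀ i), ← mul_assoc, inv_mul_cancel₀ hj₀, one_mul]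
    rw [e]
    exact hu₀
  have hG : ∀ v, (g : Matrix (Fin a × Fin b) (Fin a × Fin b) F) *ᵥ v = v + ten (Φ v) w := by
    intro v
    rw [← hΦ v]
    abel
  -- the isometry condition
  have star : ∀ x y, hf σ (ctr (cj σ w) x) (Φ y) + hf σ (Φ x) (ctr (cj σ w) y) = 0 := by
    intro x y
    have h3 := hGU x y
    rw [hG x, hG y, hf_add_left, hf_add_right, hf_add_right, hf_ten, hww, mul_zero, add_zero,
      hf_ten_right, hf_ten_left σ hσ] at h3
    linear_combination h3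
  -- a vector `y₁` with `hf y₁ w = 1`
  obtain ⟨y₀, hy₀⟩ : ∃ y₀, hf σ y₀ w ≠ 0 := by
    by_contra hcon
    push Not at hcon
    exact hw (hf_nondeg σ w hcon)
  have hy₁ : hf σ ((hf σ y₀ w)⁻¹ • y₀) w = 1 := by rw [hf_smul_left, inv_mul_cancel₀ hy₀]
  generalize (hf σ y₀ w)⁻¹ • y₀ = y₁ at hy₁
  have hctr : ∀ u : Fin a → F, ctr (cj σ w) (ten u y₁) = u := by
    intro u
    rw [ctr_cj_ten, hy₁, one_smul]
  have hker : ∀ x, ctr (cj σ w) x = 0 → Φ x = 0 := by
    intro x hx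
    apply hf_nondeg' σ hσ
    intro u
    have h3 := star x (ten u y₁)
    rw [hx, hf_zero_left, zero_add, hctr] at h3
    exact h3
  let T : (Fin a → F) →ₗ[F] (Fin a × Fin b → F) :=
    { toFun := fun u => ten u y₁
      map_add' := fun u u' => ten_add_left u u' y₁
      map_smul' := fun c u => ten_smul_left c u y₁ }
  have hζ : ∀ u, LinearMap.toMatrix' (Φ ∘ₗ T) *ᵥ u = Φ (ten u y₁) := by
    intro u
    rw [LinearMap.toMatrix'_mulVec]
    rfl
  have hfac : ∀ x, Φ x = LinearMap.toMatrix' (Φ ∘ₗ T) *ᵥ ctr (cj σ w) x := by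
    intro x
    rw [hζ]
    have h0 : Φ (x - ten (ctr (cj σ w) x) y₁) = 0 := by
      apply hker
      have e : x - ten (ctr (cj σ w) x) y₁ = x + (-1 : F) • ten (ctr (cj σ w) x) y₁ := by
        rw [neg_one_smul, sub_eq_add_neg]
      rw [e, ctr_add, ctr_smul, hctr, neg_one_smul, add_neg_cancel]
    rw [map_sub, sub_eq_zero] at h0
    exact h0
  have hgE : (g : Matrix (Fin a × Fin b) (Fin a × Fin b) F)
      = ELm (LinearMap.toMatrix' (Φ ∘ₗ T)) w (cj σ w) := by
    rw [Matrix.ext_iff_mulVec]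
    intro v
    rw [ELm_mulVec, hG v, ← hfac v]
  obtain ⟨c, hc⟩ := hNT _ ⟨w, g, hw, h, hgE, hg⟩
  refine ⟨c, ?_, by rw [hgE, hc]⟩
  have he : hf σ (Pi.single (⟨0, ha⟩ : Fin a) (1 : F)) (Pi.single (⟨0, ha⟩ : Fin a) (1 : F)) = 1 := by
    simp [hf, cj]
  have h3 := star (ten (Pi.single (⟨0, ha⟩ : Fin a) (1 : F)) y₁)
    (ten (Pi.single (⟨0, ha⟩ : Fin a) (1 : F)) y₁)
  rw [hctr, hfac, hctr, hc, Matrix.smul_mulVec, Matrix.one_mulVec, hf_smul_right, hf_smul_left, he,
    mul_one, mul_one] at h3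
  exact eq_neg_of_add_eq_zero_left h3

end Cfsg.Agent.Lib.helper6.UTP
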