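import Mathlib
import Cfsg.Prelude.Def_GeometricClasses
import Cfsg.Agent.Lib.Helper27.ASC.Defs
import Cfsg.Agent.Lib.Helper19.ASG.Defs
import Cfsg.Agent.Lib.Helper9.ASGD2T.Defs
import Cfsg.Agent.Lib.Helper9.ASGD2TF.Defs
import Cfsg.Agent.Lib.Helper19.ASU.Defs
import Cfsg.Agent.Lib.Helper19.ASUADJ

set_option autoImplicit false
set_option linter.unusedVariables false
set_option linter.unusedSectionVars false

/-!
# Project ASU (S5663), block D2T, piece D2T-UFORM : `u_tpower_structure`

The Gram identity `(B^σ)ᵀ B = c • R (ptMat (fun _ => A))` in the coordinates `(e, B)` is the tensor power form structure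
with `f₁ =` the `σ`-sesquilinear form of `Aᵀ`.
-/

namespace Cfsg.Agent.Lib.Helper19.ASU

open Cfsg Cfsg.Geo Cfsg.Agent.Lib.Helper27.ASC Cfsg.Agent.Lib.Helper19.ASG
open scoped MatrixGroups Matrix

variable {n : ℕ} {F : Type*} [Field F]

variable [Fintype F]

/-- `|F| = q ^ 2` forces `q ≠ 0` -/
theorem asud2tuform_q_ne_zero (q : ℕ) (hF : Fintype.card F = q ^ 2) : q ≠ 0 := by
  rintro rfl
  have h : 0 < Fintype.card F := Fintype.card_pos
  rw [hF] at h
  norm_num at h

/-- the Gram matrix of the `x ↦ x ^ q`-sesquilinear form of a matrix is that matrix (`q ≠ 0`) -/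
theorem asud2tuform_gram {k : ℕ} (q : ℕ) (hq : q ≠ 0) (M : Matrix (Fin k) (Fin k) F) (a b : Fin k) :
    gramMatrix (formOfGram (fun x : F => x ^ q) M) a b = M a b := by
  unfold gramMatrix formOfGram
  have h1 : ∀ a' : Fin k, a' ≠ a →
      (∑ b' : Fin k, (Pi.single a (1 : F) : Fin k → F) a' * M a' b' *
        (fun x : F => x ^ q) ((Pi.single b (1 : F) : Fin k → F) b')) = 0 := by
    intro a' ha'
    simp [Pi.single_eq_of_ne ha']
  rw [Finset.sum_eq_single a (fun a' _ ha' => h1 a' ha') (fun h => absurd (Finset.mem_univ a) h)]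
  have h2 : ∀ b' : Fin k, b' ≠ b →
      (Pi.single a (1 : F) : Fin k → F) a * M a b' *
        (fun x : F => x ^ q) ((Pi.single b (1 : F) : Fin k → F) b') = 0 := by
    intro b' hb'
    simp [Pi.single_eq_of_ne hb', hq]
  rw [Finset.sum_eq_single b (fun b' _ hb' => h2 b' hb') (fun h => absurd (Finset.mem_univ b) h)]
  simp

/-- the hermitian form in the coordinates of `B` : `h (B u) (B v) = ∑ k l, u k * ((B^σ)ᵀ B) l k * (v l) ^ q` -/
theorem asud2tuform_herm (q : ℕ) (hF : Fintype.card F = q ^ 2) (B : Matrix (Fin n) (Fin n) F) (u v : Fin n → F) :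
    hermForm n F q (B *ᵥ u) (B *ᵥ v) =
      ∑ k, ∑ l, u k * (((B.map (ufrob hF))ᵀ * B) l k) * (v l) ^ q := by
  unfold hermForm
  have hpow : ∀ i, ((B *ᵥ v) i) ^ q = ∑ l, ufrob hF (B i l) * (v l) ^ q := by
    intro i
    rw [← ufrob_apply hF, Matrix.mulVec, dotProduct, map_sum]
    apply Finset.sum_congr rfl
    intro l _
    rw [map_mul, ufrob_apply hF (v l)]
  simp only [hpow]
  simp only [Matrix.mulVec, dotProduct, Matrix.mul_apply, Matrix.transpose_apply, Matrix.map_apply,
    Finset.sum_mul, Finset.mul_sum]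
  refine (Finset.sum_congr rfl (fun i _ => Finset.sum_comm)).trans ?_
  refine Finset.sum_comm.trans ?_
  refine Finset.sum_congr rfl (fun k _ => ?_)
  refine Finset.sum_comm.trans ?_
  refine Finset.sum_congr rfl (fun l _ => ?_)
  refine Finset.sum_congr rfl (fun i _ => ?_)
  ring

/-- D2T-UFORM : the Gram identity in the coordinates `(e, B)` is the tensor power form structure with `f₁ =` the form of `Aᵀ`
(`hermForm n F q (B x') (B y') = ∑ k l, x' k * (Bᵀ * B^σ) k l * (y' l) ^ q`, `Bᵀ * B^σ = ((B^σ)ᵀ * B)ᵀ`,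
`gramMatrix (formOfGram σ M) a b = M a b`, reindex the sums along `e`). -/
theorem u_tpower_structure (q : ℕ) (hF : Fintype.card F = q ^ 2) {k t : ℕ} (e : Fin n ≃ (Fin t → Fin k))
    (B : GL (Fin n) F) (A : Matrix (Fin k) (Fin k) F) (c : F) (hc : c ≠ 0)
    (hgram : ((B : Matrix (Fin n) (Fin n) F).map (ufrob hF))ᵀ * (B : Matrix (Fin n) (Fin n) F) =
      c • Matrix.reindex e.symm e.symm (ptMat (fun _ : Fin t => A))) :
    IsTensorPowerFormStructure (fun x : F => x ^ q) (hermForm n F q) (formOfGram (fun x : F => x ^ q) Aᵀ) e B := by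
  have hq : q ≠ 0 := asud2tuform_q_ne_zero q hF
  refine ⟨c, hc, ?_⟩
  intro x y
  rw [asud2tuform_herm q hF, hgram]
  simp only [asud2tuform_gram q hq, Matrix.transpose_apply, Matrix.smul_apply, smul_eq_mul, Matrix.reindex_apply,
    Matrix.submatrix_apply, Equiv.symm_symm, ptMat_apply, Function.comp_apply, Finset.mul_sum]
  rw [← Equiv.sum_comp e]
  apply Finset.sum_congr rfl
  intro i _
  rw [← Equiv.sum_comp e]
  apply Finset.sum_congr rfl
  intro j _
  ring

end Cfsg.Agent.Lib.Helper19.ASU
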