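import Mathlib
import Cfsg.Prelude.Def_Spor_J1

set_option autoImplicit false

/-! Tables for `7 × 7` matrices over the integers modulo `11`, with kernel-friendly products. -/

namespace Cfsg.Agent.Lib.helper4

/-- a row of seven entries -/
@[ext] structure JRow where
  a0 : ℕ
  a1 : ℕ
  a2 : ℕ
  a3 : ℕ
  a4 : ℕ
  a5 : ℕ
  a6 : ℕ
  deriving DecidableEq

/-- a matrix as seven rows -/
@[ext] structure JMat where
  r0 : JRow
  r1 : JRow
  r2 : JRow
  r3 : JRow
  r4 : JRow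
  r5 : JRow
  r6 : JRow
  deriving DecidableEq

/-- entry of a row -/
def JRow.get (r : JRow) (j : Fin 7) : ℕ := ![r.a0, r.a1, r.a2, r.a3, r.a4, r.a5, r.a6] j

/-- row of a table -/
def JMat.row (A : JMat) (i : Fin 7) : JRow := ![A.r0, A.r1, A.r2, A.r3, A.r4, A.r5, A.r6] i

/-- the matrix of a table -/
def jdec (A : JMat) : Matrix (Fin 7) (Fin 7) (ZMod 11) :=
  Matrix.of fun i j => (((A.row i).get j : ℕ) : ZMod 11)

/-- dot product of two rows, reduced -/
def jdot (r c : JRow) : ℕ :=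
  match r, c with
  | ⟨a0, a1, a2, a3, a4, a5, a6⟩, ⟨b0, b1, b2, b3, b4, b5, b6⟩ =>
    Nat.mod (Nat.add (Nat.add (Nat.add (Nat.add (Nat.add (Nat.add (Nat.mul a0 b0) (Nat.mul a1 b1)) (Nat.mul a2 b2)) (Nat.mul a3 b3)) (Nat.mul a4 b4)) (Nat.mul a5 b5)) (Nat.mul a6 b6)) 11

/-- a row times the transpose of a table -/
def jrowT (r : JRow) (B : JMat) : JRow :=
  ⟨jdot r B.r0, jdot r B.r1, jdot r B.r2, jdot r B.r3, jdot r B.r4, jdot r B.r5, jdot r B.r6⟩

/-- product with the transpose of the second argument -/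
def jmulT (A Bt : JMat) : JMat :=
  ⟨jrowT A.r0 Bt, jrowT A.r1 Bt, jrowT A.r2 Bt, jrowT A.r3 Bt, jrowT A.r4 Bt, jrowT A.r5 Bt,
    jrowT A.r6 Bt⟩

/-- transpose -/
def jtr (A : JMat) : JMat :=
  ⟨⟨A.r0.a0, A.r1.a0, A.r2.a0, A.r3.a0, A.r4.a0, A.r5.a0, A.r6.a0⟩, ⟨A.r0.a1, A.r1.a1, A.r2.a1, A.r3.a1, A.r4.a1, A.r5.a1, A.r6.a1⟩, ⟨A.r0.a2, A.r1.a2, A.r2.a2, A.r3.a2, A.r4.a2, A.r5.a2, A.r6.a2⟩, ⟨A.r0.a3, A.r1.a3, A.r2.a3, A.r3.a3, A.r4.a3, A.r5.a3, A.r6.a3⟩, ⟨A.r0.a4, A.r1.a4, A.r2.a4, A.r3.a4, A.r4.a4, A.r5.a4, A.r6.a4⟩, ⟨A.r0.a5, A.r1.a5, A.r2.a5, A.r3.a5, A.r4.a5, A.r5.a5, A.r6.a5⟩, ⟨A.r0.a6, A.r1.a6, A.r2.a6, A.r3.a6, A.r4.a6, A.r5.a6, A.r6.a6⟩⟩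

/-- product -/
def jmul (A B : JMat) : JMat := jmulT A (jtr B)

/-- the identity table -/
def jone : JMat :=
  ⟨⟨nat_lit 1, nat_lit 0, nat_lit 0, nat_lit 0, nat_lit 0, nat_lit 0, nat_lit 0⟩, ⟨nat_lit 0, nat_lit 1, nat_lit 0, nat_lit 0, nat_lit 0, nat_lit 0, nat_lit 0⟩, ⟨nat_lit 0, nat_lit 0, nat_lit 1, nat_lit 0, nat_lit 0, nat_lit 0, nat_lit 0⟩, ⟨nat_lit 0, nat_lit 0, nat_lit 0, nat_lit 1, nat_lit 0, nat_lit 0, nat_lit 0⟩, ⟨nat_lit 0, nat_lit 0, nat_lit 0, nat_lit 0, nat_lit 1, nat_lit 0, nat_lit 0⟩, ⟨nat_lit 0, nat_lit 0, nat_lit 0, nat_lit 0, nat_lit 0, nat_lit 1, nat_lit 0⟩, ⟨nat_lit 0, nat_lit 0, nat_lit 0, nat_lit 0, nat_lit 0, nat_lit 0, nat_lit 1⟩⟩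

/-- all entries below eleven -/
def JNorm (A : JMat) : Prop := ∀ i j : Fin 7, (A.row i).get j < 11

instance (A : JMat) : Decidable (JNorm A) := by unfold JNorm; infer_instance

theorem jdot_cast (r c : JRow) :
    ((jdot r c : ℕ) : ZMod 11) = ∑ k : Fin 7, ((r.get k : ℕ) : ZMod 11) * ((c.get k : ℕ) : ZMod 11) := by
  obtain ⟨a0, a1, a2, a3, a4, a5, a6⟩ := r
  obtain ⟨b0, b1, b2, b3, b4, b5, b6⟩ := c
  have h : jdot ⟨a0, a1, a2, a3, a4, a5, a6⟩ ⟨b0, b1, b2, b3, b4, b5, b6⟩ =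
      (a0 * b0 + a1 * b1 + a2 * b2 + a3 * b3 + a4 * b4 + a5 * b5 + a6 * b6) % 11 := rfl
  rw [h, ZMod.natCast_mod]
  simp [Fin.sum_univ_succ, JRow.get]
  ring

theorem jdot_lt (r c : JRow) : jdot r c < 11 := by
  obtain ⟨a0, a1, a2, a3, a4, a5, a6⟩ := r
  obtain ⟨b0, b1, b2, b3, b4, b5, b6⟩ := c
  exact Nat.mod_lt _ (by norm_num)

theorem jmulT_row (A B : JMat) (i : Fin 7) : (jmulT A B).row i = jrowT (A.row i) B := by
  fin_cases i <;> rfl

theorem jrowT_get (r : JRow) (B : JMat) (j : Fin 7) : (jrowT r B).get j = jdot r (B.row j) := by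
  fin_cases j <;> rfl

theorem jtr_get (A : JMat) (i j : Fin 7) : ((jtr A).row i).get j = (A.row j).get i := by
  fin_cases i <;> fin_cases j <;> rfl

theorem jnorm_jtr (B : JMat) (hB : JNorm B) : JNorm (jtr B) := by
  intro i j
  rw [jtr_get]
  exact hB j i

theorem jnorm_jmulT (A Bt : JMat) : JNorm (jmulT A Bt) := by
  intro i j
  rw [jmulT_row, jrowT_get]
  exact jdot_lt _ _

theorem jnorm_jmul (A B : JMat) : JNorm (jmul A B) := jnorm_jmulT A (jtr B)

theorem jdec_jtr (B : JMat) : jdec (jtr B) = (jdec B).transpose := by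
  ext i j
  simp only [jdec, Matrix.of_apply, Matrix.transpose_apply]
  rw [jtr_get]

theorem jdec_jmulT (A Bt : JMat) : jdec (jmulT A Bt) = jdec A * (jdec Bt).transpose := by
  ext i j
  simp only [jdec, Matrix.of_apply, Matrix.mul_apply, Matrix.transpose_apply]
  rw [jmulT_row, jrowT_get, jdot_cast]

theorem jdec_jmul (A B : JMat) : jdec (jmul A B) = jdec A * jdec B := by
  unfold jmul
  rw [jdec_jmulT, jdec_jtr, Matrix.transpose_transpose]

theorem jdec_jone : jdec jone = 1 := by decide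

theorem jnorm_jone : JNorm jone := by decide

theorem JRow.ext_get (r c : JRow) (h : ∀ j : Fin 7, r.get j = c.get j) : r = c := by
  obtain ⟨a0, a1, a2, a3, a4, a5, a6⟩ := r
  obtain ⟨b0, b1, b2, b3, b4, b5, b6⟩ := c
  have h0 := h 0
  have h1 := h 1
  have h2 := h 2
  have h3 := h 3
  have h4 := h 4
  have h5 := h 5
  have h6 := h 6
  simp only [JRow.get] at h0 h1 h2 h3 h4 h5 h6
  simp at h0 h1 h2 h3 h4 h5 h6
  subst h0 h1 h2 h3 h4 h5 h6
  rfl

theorem JMat.ext_row (A B : JMat) (h : ∀ i : Fin 7, A.row i = B.row i) : A = B := by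
  obtain ⟨a0, a1, a2, a3, a4, a5, a6⟩ := A
  obtain ⟨b0, b1, b2, b3, b4, b5, b6⟩ := B
  have h0 := h 0
  have h1 := h 1
  have h2 := h 2
  have h3 := h 3
  have h4 := h 4
  have h5 := h 5
  have h6 := h 6
  simp only [JMat.row] at h0 h1 h2 h3 h4 h5 h6
  simp at h0 h1 h2 h3 h4 h5 h6
  subst h0 h1 h2 h3 h4 h5 h6
  rfl

/-- a normalised table is determined by its matrix -/
theorem jdec_inj (A B : JMat) (hA : JNorm A) (hB : JNorm B) (h : jdec A = jdec B) : A = B := by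
  apply JMat.ext_row
  intro i
  apply JRow.ext_get
  intro j
  have h5 := congrFun (congrFun h i) j
  simp only [jdec, Matrix.of_apply] at h5
  have h6 := (ZMod.natCast_eq_natCast_iff' _ _ _).1 h5
  rw [Nat.mod_eq_of_lt (hA i j), Nat.mod_eq_of_lt (hB i j)] at h6
  exact h6

/-- evaluate a number before passing it on -/
def jforceNat {α : Type} (x : ℕ) (k : ℕ → α) : α :=
  match x with
  | 0 => k Nat.zero
  | t + 1 => k (Nat.succ t)

theorem jforceNat_eq {α : Type} (x : ℕ) (k : ℕ → α) : jforceNat x k = k x := by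
  cases x <;> rfl

/-- evaluate a row before passing it on -/
def jforceRow {α : Type} (r : JRow) (k : JRow → α) : α :=
  jforceNat r.a0 fun a0 => jforceNat r.a1 fun a1 => jforceNat r.a2 fun a2 => jforceNat r.a3 fun a3 => jforceNat r.a4 fun a4 => jforceNat r.a5 fun a5 => jforceNat r.a6 fun a6 => k ⟨a0, a1, a2, a3, a4, a5, a6⟩

theorem jforceRow_eq {α : Type} (r : JRow) (k : JRow → α) : jforceRow r k = k r := by
  unfold jforceRow
  simp only [jforceNat_eq]

/-- evaluate a table before passing it on -/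
def jforce {α : Type} (A : JMat) (k : JMat → α) : α :=
  jforceRow A.r0 fun r0 => jforceRow A.r1 fun r1 => jforceRow A.r2 fun r2 => jforceRow A.r3 fun r3 => jforceRow A.r4 fun r4 => jforceRow A.r5 fun r5 => jforceRow A.r6 fun r6 => k ⟨r0, r1, r2, r3, r4, r5, r6⟩

theorem jforce_eq {α : Type} (A : JMat) (k : JMat → α) : jforce A k = k A := by
  unfold jforce
  simp only [jforceRow_eq]

/-- evaluate a list of tables before passing it on -/
def jforces {α : Type} : List JMat → (List JMat → α) → α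
  | [], k => k []
  | A :: As, k => jforce A fun A' => jforces As fun As' => k (A' :: As')

theorem jforces_eq {α : Type} (L : List JMat) (k : List JMat → α) : jforces L k = k L := by
  induction L generalizing k with
  | nil => rfl
  | cons A As ih => simp only [jforces, jforce_eq, ih]

/-- equality test for rows -/
def JRow.beq (r c : JRow) : Bool :=
  Nat.beq r.a0 c.a0 && (Nat.beq r.a1 c.a1 && (Nat.beq r.a2 c.a2 && (Nat.beq r.a3 c.a3 && (Nat.beq r.a4 c.a4 && (Nat.beq r.a5 c.a5 && (Nat.beq r.a6 c.a6))))))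

theorem JRow.beq_iff (r c : JRow) : JRow.beq r c = true ↔ r = c := by
  obtain ⟨a0, a1, a2, a3, a4, a5, a6⟩ := r
  obtain ⟨b0, b1, b2, b3, b4, b5, b6⟩ := c
  simp [JRow.beq]

/-- equality test for tables -/
def jbeq (A B : JMat) : Bool :=
  JRow.beq A.r0 B.r0 && (JRow.beq A.r1 B.r1 && (JRow.beq A.r2 B.r2 && (JRow.beq A.r3 B.r3 && (JRow.beq A.r4 B.r4 && (JRow.beq A.r5 B.r5 && (JRow.beq A.r6 B.r6))))))

theorem jbeq_iff (A B : JMat) : jbeq A B = true ↔ A = B := by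
  obtain ⟨a0, a1, a2, a3, a4, a5, a6⟩ := A
  obtain ⟨b0, b1, b2, b3, b4, b5, b6⟩ := B
  simp [jbeq, JRow.beq_iff]

/-- membership test -/
def jelem (A : JMat) : List JMat → Bool
  | [] => false
  | B :: Bs => jbeq A B || jelem A Bs

theorem jelem_iff (A : JMat) (L : List JMat) : jelem A L = true ↔ A ∈ L := by
  induction L with
  | nil => simp [jelem]
  | cons B Bs ih => simp [jelem, jbeq_iff, ih]

/-- no repetition -/
def jnodup : List JMat → Bool
  | [] => true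
  | A :: As => !(jelem A As) && jnodup As

theorem jnodup_iff (L : List JMat) : jnodup L = true ↔ L.Nodup := by
  induction L with
  | nil => simp [jnodup]
  | cons B Bs ih =>
    simp only [jnodup, Bool.and_eq_true, Bool.not_eq_true', ih, List.nodup_cons]
    rw [← Bool.not_eq_true, jelem_iff]

end Cfsg.Agent.Lib.helper4
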