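import Mathlib
import Cfsg.Agent.Lib.helper4.J1Mat

set_option autoImplicit false

/-! Data for the first Janko group: the two generators (entries reduced modulo 11), their
transposes, a spanning tree for a subgroup of order 660 generated by two words, a Schreier tree for
its 266 cosets, and for each generator and each coset representative the position of the
representative of the image coset. -/

namespace Cfsg.Agent.Lib.helper4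

def j1X : JMat :=
  ⟨⟨nat_lit 0, nat_lit 1, nat_lit 0, nat_lit 0, nat_lit 0, nat_lit 0, nat_lit 0⟩,
  ⟨nat_lit 0, nat_lit 0, nat_lit 1, nat_lit 0, nat_lit 0, nat_lit 0, nat_lit 0⟩,
  ⟨nat_lit 0, nat_lit 0, nat_lit 0, nat_lit 1, nat_lit 0, nat_lit 0, nat_lit 0⟩,
  ⟨nat_lit 0, nat_lit 0, nat_lit 0, nat_lit 0, nat_lit 1, nat_lit 0, nat_lit 0⟩,
  ⟨nat_lit 0, nat_lit 0, nat_lit 0, nat_lit 0, nat_lit 0, nat_lit 1, nat_lit 0⟩,
  ⟨nat_lit 0, nat_lit 0, nat_lit 0, nat_lit 0, nat_lit 0, nat_lit 0, nat_lit 1⟩,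
  ⟨nat_lit 1, nat_lit 0, nat_lit 0, nat_lit 0, nat_lit 0, nat_lit 0, nat_lit 0⟩⟩

def j1Y : JMat :=
  ⟨⟨nat_lit 8, nat_lit 2, nat_lit 10, nat_lit 10, nat_lit 8, nat_lit 10, nat_lit 8⟩,
  ⟨nat_lit 9, nat_lit 1, nat_lit 1, nat_lit 3, nat_lit 1, nat_lit 3, nat_lit 3⟩,
  ⟨nat_lit 10, nat_lit 10, nat_lit 8, nat_lit 10, nat_lit 8, nat_lit 8, nat_lit 2⟩,
  ⟨nat_lit 10, nat_lit 8, nat_lit 10, nat_lit 8, nat_lit 8, nat_lit 2, nat_lit 10⟩,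
  ⟨nat_lit 8, nat_lit 10, nat_lit 8, nat_lit 8, nat_lit 2, nat_lit 10, nat_lit 10⟩,
  ⟨nat_lit 1, nat_lit 3, nat_lit 3, nat_lit 9, nat_lit 1, nat_lit 1, nat_lit 3⟩,
  ⟨nat_lit 3, nat_lit 3, nat_lit 9, nat_lit 1, nat_lit 1, nat_lit 3, nat_lit 1⟩⟩

def j1XT : JMat :=
  ⟨⟨nat_lit 0, nat_lit 0, nat_lit 0, nat_lit 0, nat_lit 0, nat_lit 0, nat_lit 1⟩,
  ⟨nat_lit 1, nat_lit 0, nat_lit 0, nat_lit 0, nat_lit 0, nat_lit 0, nat_lit 0⟩,
  ⟨nat_lit 0, nat_lit 1, nat_lit 0, nat_lit 0, nat_lit 0, nat_lit 0, nat_lit 0⟩,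
  ⟨nat_lit 0, nat_lit 0, nat_lit 1, nat_lit 0, nat_lit 0, nat_lit 0, nat_lit 0⟩,
  ⟨nat_lit 0, nat_lit 0, nat_lit 0, nat_lit 1, nat_lit 0, nat_lit 0, nat_lit 0⟩,
  ⟨nat_lit 0, nat_lit 0, nat_lit 0, nat_lit 0, nat_lit 1, nat_lit 0, nat_lit 0⟩,
  ⟨nat_lit 0, nat_lit 0, nat_lit 0, nat_lit 0, nat_lit 0, nat_lit 1, nat_lit 0⟩⟩

def j1YT : JMat :=
  ⟨⟨nat_lit 8, nat_lit 9, nat_lit 10, nat_lit 10, nat_lit 8, nat_lit 1, nat_lit 3⟩,
  ⟨nat_lit 2, nat_lit 1, nat_lit 10, nat_lit 8, nat_lit 10, nat_lit 3, nat_lit 3⟩,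
  ⟨nat_lit 10, nat_lit 1, nat_lit 8, nat_lit 10, nat_lit 8, nat_lit 3, nat_lit 9⟩,
  ⟨nat_lit 10, nat_lit 3, nat_lit 10, nat_lit 8, nat_lit 8, nat_lit 9, nat_lit 1⟩,
  ⟨nat_lit 8, nat_lit 1, nat_lit 8, nat_lit 8, nat_lit 2, nat_lit 1, nat_lit 1⟩,
  ⟨nat_lit 10, nat_lit 3, nat_lit 8, nat_lit 2, nat_lit 10, nat_lit 1, nat_lit 3⟩,
  ⟨nat_lit 8, nat_lit 3, nat_lit 2, nat_lit 10, nat_lit 10, nat_lit 3, nat_lit 1⟩⟩

set_option maxRecDepth 1000000 in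
/-- spanning tree of the subgroup: the entry `(o, g)` says that the next element is the one `o`
places before the newest one, times the generator `g` -/
def j1TreeH : List (ℕ × ℕ) := [
  (0,0), (0,0), (0,0), (0,0), (0,0), (0,0), (0,0), (0,0), (0,0), (0,0), (0,1), (0,0), (0,0), (0,0), (0,0), (0,0), (0,0), (0,0), (0,0), (0,0),
  (0,0), (0,1), (0,0), (0,0), (0,0), (0,0), (0,0), (0,0), (0,0), (0,0), (0,0), (0,0), (0,1), (0,0), (0,0), (0,0), (0,0), (0,0), (0,0), (0,0),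
  (0,0), (0,0), (0,0), (0,1), (0,0), (0,0), (0,0), (0,0), (0,0), (0,0), (0,0), (0,0), (0,0), (0,0), (1,1), (0,0), (0,0), (0,0), (0,0), (0,0),
  (0,0), (0,0), (0,0), (0,0), (0,0), (0,1), (0,0), (0,0), (0,0), (0,0), (0,0), (0,0), (0,0), (0,0), (0,0), (0,0), (0,1), (0,0), (0,0), (0,0),
  (0,0), (0,0), (0,0), (0,0), (0,0), (0,0), (0,0), (0,1), (0,0), (0,0), (0,0), (0,0), (0,0), (0,0), (0,0), (0,0), (0,0), (0,0), (1,1), (0,0),
  (0,0), (0,0), (0,0), (0,0), (0,0), (0,0), (0,0), (0,0), (0,0), (0,1), (0,0), (0,0), (0,0), (0,0), (0,0), (0,0), (0,0), (0,0), (0,0), (0,0),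
  (0,1), (0,0), (0,0), (0,0), (0,0), (0,0), (0,0), (0,0), (0,0), (0,0), (0,0), (0,1), (0,0), (0,0), (0,0), (0,0), (0,0), (0,0), (0,0), (0,0),
  (0,0), (0,0), (1,1), (0,0), (0,0), (0,0), (0,0), (0,0), (0,0), (0,0), (0,0), (0,0), (0,0), (0,1), (0,0), (0,0), (0,0), (0,0), (0,0), (0,0),
  (0,0), (0,0), (0,0), (0,0), (0,1), (0,0), (0,0), (0,0), (0,0), (0,0), (0,0), (0,0), (0,0), (0,0), (0,0), (0,1), (0,0), (0,0), (0,0), (0,0),
  (0,0), (0,0), (0,0), (0,0), (0,0), (0,0), (1,1), (0,0), (0,0), (0,0), (0,0), (0,0), (0,0), (0,0), (0,0), (0,0), (0,0), (0,1), (0,0), (0,0),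
  (0,0), (0,0), (0,0), (0,0), (0,0), (0,0), (0,0), (0,0), (0,1), (0,0), (0,0), (0,0), (0,0), (0,0), (0,0), (0,0), (0,0), (0,0), (0,0), (1,1),
  (0,0), (0,0), (0,0), (0,0), (0,0), (0,0), (0,0), (0,0), (0,0), (0,0), (2,1), (0,0), (0,0), (0,0), (0,0), (0,0), (0,0), (0,0), (0,0), (0,0),
  (0,0), (1,1), (0,0), (0,0), (0,0), (0,0), (0,0), (0,0), (0,0), (0,0), (0,0), (0,0), (0,1), (0,0), (0,0), (0,0), (0,0), (0,0), (0,0), (0,0),
  (0,0), (0,0), (0,0), (1,1), (0,0), (0,0), (0,0), (0,0), (0,0), (0,0), (0,0), (0,0), (0,0), (0,0), (0,1), (0,0), (0,0), (0,0), (0,0), (0,0),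
  (0,0), (0,0), (0,0), (0,0), (0,0), (0,1), (0,0), (0,0), (0,0), (0,0), (0,0), (0,0), (0,0), (0,0), (0,0), (0,0), (1,1), (0,0), (0,0), (0,0),
  (0,0), (0,0), (0,0), (0,0), (0,0), (0,0), (0,0), (3,1), (0,0), (0,0), (0,0), (0,0), (0,0), (0,0), (0,0), (0,0), (0,0), (0,0), (2,1), (0,0),
  (0,0), (0,0), (0,0), (0,0), (0,0), (0,0), (0,0), (0,0), (0,0), (2,1), (0,0), (0,0), (0,0), (0,0), (0,0), (0,0), (0,0), (0,0), (0,0), (0,0),
  (0,1), (0,0), (0,0), (0,0), (0,0), (0,0), (0,0), (0,0), (0,0), (0,0), (0,0), (0,1), (0,0), (0,0), (0,0), (0,0), (0,0), (0,0), (0,0), (0,0),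
  (0,0), (0,0), (1,1), (0,0), (0,0), (0,0), (0,0), (0,0), (0,0), (0,0), (0,0), (0,0), (0,0), (0,1), (0,0), (0,0), (0,0), (0,0), (0,0), (0,0),
  (0,0), (0,0), (0,0), (0,0), (0,1), (0,0), (0,0), (0,0), (0,0), (0,0), (0,0), (0,0), (0,0), (0,0), (0,0), (2,1), (0,0), (0,0), (0,0), (0,0),
  (0,0), (0,0), (0,0), (0,0), (0,0), (0,0), (3,1), (0,0), (0,0), (0,0), (0,0), (0,0), (0,0), (0,0), (0,0), (0,0), (0,0), (2,1), (0,0), (0,0),
  (0,0), (0,0), (0,0), (0,0), (0,0), (0,0), (0,0), (0,0), (0,1), (0,0), (0,0), (0,0), (0,0), (0,0), (0,0), (0,0), (0,0), (0,0), (0,0), (0,1),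
  (0,0), (0,0), (0,0), (0,0), (0,0), (0,0), (0,0), (0,0), (0,0), (0,0), (1,1), (0,0), (0,0), (0,0), (0,0), (0,0), (0,0), (0,0), (0,0), (0,0),
  (0,0), (4,1), (0,0), (0,0), (0,0), (0,0), (0,0), (0,0), (0,0), (0,0), (0,0), (0,0), (2,1), (0,0), (0,0), (0,0), (0,0), (0,0), (0,0), (0,0),
  (0,0), (0,0), (0,0), (6,1), (0,0), (0,0), (0,0), (0,0), (0,0), (0,0), (0,0), (0,0), (0,0), (0,0), (3,1), (0,0), (0,0), (0,0), (0,0), (0,0),
  (0,0), (0,0), (0,0), (0,0), (0,0), (7,1), (0,0), (0,0), (0,0), (0,0), (0,0), (0,0), (0,0), (0,0), (0,0), (0,0), (3,1), (0,0), (0,0), (0,0),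
  (0,0), (0,0), (0,0), (0,0), (0,0), (0,0), (0,0), (7,1), (0,0), (0,0), (0,0), (0,0), (0,0), (0,0), (0,0), (0,0), (0,0), (0,0), (3,1), (0,0),
  (0,0), (0,0), (0,0), (0,0), (0,0), (0,0), (0,0), (0,0), (0,0), (6,1), (0,0), (0,0), (0,0), (0,0), (0,0), (0,0), (0,0), (0,0), (0,0), (0,0),
  (8,1), (0,0), (0,0), (0,0), (0,0), (0,0), (0,0), (0,0), (0,0), (0,0), (0,0), (29,1), (0,0), (0,0), (0,0), (0,0), (0,0), (0,0), (0,0), (0,0),
  (0,0), (0,0), (51,1), (0,0), (0,0), (0,0), (0,0), (0,0), (0,0), (0,0), (0,0), (0,0), (0,0), (2,1), (0,0), (0,0), (0,0), (0,0), (0,0), (0,0),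
  (0,0), (0,0), (0,0), (0,0), (1,1), (0,0), (0,0), (0,0), (0,0), (0,0), (0,0), (0,0), (0,0), (0,0), (0,0), (16,1), (0,0), (0,0), (0,0), (0,0),
  (0,0), (0,0), (0,0), (0,0), (0,0), (0,0), (7,1), (0,0), (0,0), (0,0), (0,0), (0,0), (0,0), (0,0), (0,0), (0,0), (0,0), (161,1), (0,0), (0,0),
  (0,0), (0,0), (0,0), (0,0), (0,0), (0,0), (0,0), (0,0), (173,1), (0,0), (0,0), (0,0), (0,0), (0,0), (0,0), (0,0), (0,0), (0,0), (0,0)]

set_option maxRecDepth 1000000 in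
/-- Schreier tree of the cosets, in the same format -/
def j1TreeT : List (ℕ × ℕ) := [
  (0,0), (0,0), (0,0), (0,0), (0,0), (0,0), (0,1), (0,0), (0,0), (0,0), (0,0), (0,0), (0,0), (0,1), (0,0), (0,0), (0,0), (0,0), (0,0), (0,0),
  (0,1), (0,0), (0,0), (0,0), (0,0), (0,0), (0,0), (0,1), (0,0), (0,0), (0,0), (0,0), (0,0), (0,0), (0,1), (0,0), (0,0), (0,0), (0,0), (0,0),
  (0,0), (0,1), (0,0), (0,0), (0,0), (0,0), (0,0), (0,0), (0,1), (0,0), (0,0), (0,0), (0,0), (0,0), (0,0), (0,1), (0,0), (0,0), (0,0), (0,0),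
  (0,0), (0,0), (0,1), (0,0), (0,0), (0,0), (0,0), (0,0), (0,0), (0,1), (0,0), (0,0), (0,0), (0,0), (0,0), (0,0), (0,1), (0,0), (0,0), (0,0),
  (0,0), (0,0), (0,0), (0,1), (0,0), (0,0), (0,0), (0,0), (0,0), (0,0), (0,1), (0,0), (0,0), (0,0), (0,0), (0,0), (0,0), (0,1), (0,0), (0,0),
  (0,0), (0,0), (0,0), (0,0), (0,1), (0,0), (0,0), (0,0), (0,0), (0,0), (0,0), (1,1), (0,0), (0,0), (0,0), (0,0), (0,0), (0,0), (1,1), (0,0),
  (0,0), (0,0), (0,0), (0,0), (0,0), (0,1), (0,0), (0,0), (0,0), (0,0), (0,0), (0,0), (3,1), (0,0), (0,0), (0,0), (0,0), (0,0), (0,0), (0,1),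
  (0,0), (0,0), (0,0), (0,0), (0,0), (0,0), (1,1), (0,0), (0,0), (0,0), (0,0), (0,0), (0,0), (2,1), (0,0), (0,0), (0,0), (0,0), (0,0), (0,0),
  (0,1), (0,0), (0,0), (0,0), (0,0), (0,0), (0,0), (0,1), (0,0), (0,0), (0,0), (0,0), (0,0), (0,0), (0,1), (0,0), (0,0), (0,0), (0,0), (0,0),
  (0,0), (12,1), (0,0), (0,0), (0,0), (0,0), (0,0), (0,0), (0,1), (0,0), (0,0), (0,0), (0,0), (0,0), (0,0), (2,1), (0,0), (0,0), (0,0), (0,0),
  (0,0), (0,0), (0,1), (0,0), (0,0), (0,0), (0,0), (0,0), (0,0), (0,1), (0,0), (0,0), (0,0), (0,0), (0,0), (0,0), (0,1), (0,0), (0,0), (0,0),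
  (0,0), (0,0), (0,0), (0,1), (0,0), (0,0), (0,0), (0,0), (0,0), (0,0), (0,1), (0,0), (0,0), (0,0), (0,0), (0,0), (0,0), (2,1), (0,0), (0,0),
  (0,0), (0,0), (0,0), (0,0), (1,1), (0,0), (0,0), (0,0), (0,0), (0,0), (0,0), (9,1), (0,0), (0,0), (0,0), (0,0), (0,0), (0,0), (67,1), (0,0),
  (0,0), (0,0), (0,0), (0,0), (0,0)]

set_option maxRecDepth 1000000 in
def j1HintX : List ℕ := [
  6, 0, 1, 2, 3, 4, 5, 13, 7, 8, 9, 10, 11, 12, 20, 14, 15, 16, 17, 18, 19, 27, 21, 22, 23, 24, 25, 26, 34, 28, 29, 30, 31, 32, 33, 41, 35, 36, 37, 38,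
  39, 40, 48, 42, 43, 44, 45, 46, 47, 55, 49, 50, 51, 52, 53, 54, 62, 56, 57, 58, 59, 60, 61, 69, 63, 64, 65, 66, 67, 68, 76, 70, 71, 72, 73, 74, 75, 83, 77, 78,
  79, 80, 81, 82, 90, 84, 85, 86, 87, 88, 89, 97, 91, 92, 93, 94, 95, 96, 104, 98, 99, 100, 101, 102, 103, 111, 105, 106, 107, 108, 109, 110, 118, 112, 113, 114, 115, 116, 117, 125,
  119, 120, 121, 122, 123, 124, 132, 126, 127, 128, 129, 130, 131, 139, 133, 134, 135, 136, 137, 138, 146, 140, 141, 142, 143, 144, 145, 153, 147, 148, 149, 150, 151, 152, 160, 154, 155, 156, 157, 158,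
  159, 167, 161, 162, 163, 164, 165, 166, 174, 168, 169, 170, 171, 172, 173, 181, 175, 176, 177, 178, 179, 180, 188, 182, 183, 184, 185, 186, 187, 195, 189, 190, 191, 192, 193, 194, 202, 196, 197, 198,
  199, 200, 201, 209, 203, 204, 205, 206, 207, 208, 216, 210, 211, 212, 213, 214, 215, 223, 217, 218, 219, 220, 221, 222, 230, 224, 225, 226, 227, 228, 229, 237, 231, 232, 233, 234, 235, 236, 244, 238,
  239, 240, 241, 242, 243, 251, 245, 246, 247, 248, 249, 250, 258, 252, 253, 254, 255, 256, 257, 265, 259, 260, 261, 262, 263, 264]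

set_option maxRecDepth 1000000 in
def j1HintY : List ℕ := [
  66, 219, 225, 238, 141, 236, 70, 91, 37, 24, 99, 50, 45, 15, 179, 186, 134, 85, 148, 81, 56, 102, 20, 13, 95, 46, 49, 39, 98, 93, 27, 43, 7, 19, 51, 34, 249, 213, 212, 163,
  245, 161, 41, 16, 44, 26, 53, 96, 12, 48, 35, 11, 21, 92, 14, 101, 55, 8, 42, 100, 23, 17, 40, 62, 87, 77, 184, 110, 138, 180, 218, 231, 69, 243, 6, 145, 226, 76, 240, 232,
  217, 1, 229, 67, 200, 262, 130, 194, 119, 207, 255, 90, 108, 152, 135, 185, 83, 175, 97, 52, 18, 22, 10, 103, 38, 104, 9, 54, 25, 36, 47, 94, 151, 177, 111, 183, 57, 80, 136, 260,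
  118, 127, 201, 254, 189, 203, 125, 264, 190, 253, 113, 197, 208, 259, 256, 206, 132, 122, 198, 112, 139, 109, 89, 187, 178, 150, 59, 222, 146, 5, 233, 239, 224, 72, 182, 153, 107, 78, 86, 133,
  58, 160, 159, 172, 157, 170, 169, 154, 167, 214, 248, 247, 30, 210, 28, 174, 173, 158, 171, 156, 155, 168, 181, 137, 79, 106, 60, 149, 84, 188, 88, 61, 105, 176, 82, 147, 195, 129, 257, 265,
  124, 115, 204, 202, 126, 205, 114, 252, 120, 193, 209, 196, 192, 116, 123, 131, 261, 216, 250, 33, 165, 164, 211, 29, 223, 71, 235, 227, 144, 64, 2, 230, 0, 242, 220, 65, 143, 73, 237, 140,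
  221, 241, 75, 3, 63, 244, 68, 228, 234, 4, 74, 142, 251, 215, 166, 32, 31, 246, 162, 258, 128, 117, 191, 263, 199, 121]

end Cfsg.Agent.Lib.helper4
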