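import Mathlib
import Cfsg.Agent.Lib.helper4.J1Mat
import Cfsg.Agent.Lib.helper4.J1Data

set_option autoImplicit false

/-! Subgroup and coset tables for the first Janko group, and the checks on them. -/

namespace Cfsg.Agent.Lib.helper4

/-- transposed generator -/
def j1GenT (g : ℕ) : JMat :=
  match g with
  | 0 => j1XT
  | _ => j1YT

/-- tables built from the accumulator by right multiplications with two tables whose transposes
are given; newest first -/
def jBuild (gT0 gT1 : JMat) : List (ℕ × ℕ) → List JMat → List JMat
  | [], acc => acc
  | (off, g) :: rest, acc =>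
    match g with
    | 0 => jforce (jmulT (acc.getD off jone) gT0) fun M => jBuild gT0 gT1 rest (M :: acc)
    | _ => jforce (jmulT (acc.getD off jone) gT1) fun M => jBuild gT0 gT1 rest (M :: acc)

/-- a word in the two generators, as a table -/
def jwordF : List ℕ → JMat → JMat
  | [], cur => cur
  | g :: rest, cur => jforce (jmulT cur (j1GenT g)) fun M => jwordF rest M

/-- `cur·Aⁿ` -/
def jpowF (A : JMat) : ℕ → JMat → JMat
  | 0, cur => cur
  | n + 1, cur => jforce (jmul cur A) fun c => jpowF A n c

/-- `cur, cur·A, cur·A², …` -/
def jpows (A : JMat) : ℕ → JMat → List JMat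
  | 0, _ => []
  | n + 1, cur => jforce cur fun c => c :: jpows A n (jmul c A)

/-- the element of order 19 -/
def j1u : JMat := jwordF [0, 0, 0, 1] jone

/-- an element of order 11 -/
def j1a : JMat := jwordF [0, 1, 1] jone

/-- an element of order 5 generating with it a subgroup of order 660 -/
def j1b : JMat := jwordF [1, 0, 0, 1, 0, 0] jone

/-- an element of order 3 -/
def j1c : JMat := jwordF [0, 0, 0, 1, 0, 1, 0, 1] jone

/-- an involution -/
def j1t : JMat := jwordF [0, 1, 0, 1, 1, 1, 1] jone

/-- the subgroup of order 660 -/
def j1H : List JMat :=
  jforce (jtr j1a) fun aT => jforce (jtr j1b) fun bT => jBuild aT bT j1TreeH [jone]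

/-- representatives of its cosets -/
def j1T : List JMat := jBuild j1XT j1YT j1TreeT [jone]

/-- a test on corresponding entries of two lists -/
def j1All {β : Type} (f : JMat → β → Bool) : List JMat → List β → Bool
  | [], _ => true
  | _ :: _, [] => false
  | B :: Bs, j :: js => f B j && j1All f Bs js

theorem j1All_spec {β : Type} (f : JMat → β → Bool) (L : List JMat) (H : List β)
    (h : j1All f L H = true) : ∀ B ∈ L, ∃ j, f B j = true := by
  induction L generalizing H with
  | nil => simp
  | cons B Bs ih =>
    cases H with
    | nil => simp [j1All] at h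
    | cons j js =>
      simp only [j1All, Bool.and_eq_true] at h
      intro B' hB'
      rcases List.mem_cons.1 hB' with rfl | hB'
      · exact ⟨j, h.1⟩
      · exact ih js h.2 B' hB'

theorem j1All_map {β : Type} (f : JMat → β → Bool) (L : List JMat) (g : JMat → β)
    (h : j1All f L (L.map g) = true) : ∀ B ∈ L, f B (g B) = true := by
  induction L with
  | nil => simp
  | cons B Bs ih =>
    simp only [List.map_cons, j1All, Bool.and_eq_true] at h
    intro B' hB'
    rcases List.mem_cons.1 hB' with rfl | hB'
    · exact h.1
    · exact ih h.2 B' hB'

/-- the subgroup list contains the identity and is closed under right multiplication by a table -/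
def j1ChkH (g : JMat) : Bool :=
  jforces j1H fun H => jforce (jtr g) fun gT =>
    jelem jone H && H.all fun h => jforce (jmulT h gT) fun P => jelem P H

/-- the Schreier generators of a generator with transpose `sT` lie in the subgroup list -/
def j1Chk (sT : JMat) (hints : List ℕ) : Bool :=
  jforces j1H fun H => jforces j1T fun T =>
    j1All (fun B j => jforce (jmulT B sT) fun P => jforce (jmulT P (T.getD j jone)) fun h =>
      jelem h H) T hints

/-- everything of the form `h·B` commuting with `s` lies in the list `L` -/
def j1CentChk (s : JMat) (L : List JMat → List JMat → JMat → List JMat) : Bool :=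
  jforces j1H fun H => jforces j1T fun T => jforce s fun s' => jforce (jtr s') fun sT =>
    jforces (L H T s') fun L' =>
    jforces (H.map fun h => jforce (jtr h) fun ht => jforce (jmulT ht sT) fun P => jmulT P ht)
      fun Ts =>
      T.all fun B => jforce (jmulT B sT) fun P => jforce (jmulT P B) fun c =>
        j1All (fun h t => !(jbeq c t) || jelem (jmul h B) L') H Ts

/-- a table of prime order `p` -/
def jOrdChk (A : JMat) (p : ℕ) : Bool :=
  jforce A fun A' => jbeq (jpowF A' p jone) jone && !(jbeq A' jone)

/-- conjugate -/
def jconj (g s : JMat) : JMat := jforce g fun g' => jforce (jmul g' s) fun P => jmulT P g'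

/-- a table from positions in the subgroup and coset lists -/
def j1At (H T : List JMat) (kp : ℕ × ℕ) : JMat := jmul (H.getD kp.1 jone) (T.getD kp.2 jone)

/-- `t = (a s a⁻¹)(b s b⁻¹)` for the given positions -/
def j1ProdChk (s t : JMat) (a b : ℕ × ℕ) : Bool :=
  jforces j1H fun H => jforces j1T fun T => jforce s fun s' =>
    jforce (jconj (j1At H T a) s') fun c1 => jforce (jconj (j1At H T b) s') fun c2 =>
      jbeq (jmul c1 c2) t

/-- the subgroup of order eight -/
def j1E (H T : List JMat) : List JMat :=
  [(659, 265), (51, 138), (445, 12), (398, 26), (82, 14), (578, 63), (338, 217), (628, 174)].map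
    (j1At H T)

/-- the list of eight tables is closed under products, has no repetition and contains the
identity -/
def j1ChkE : Bool :=
  jforces j1H fun H => jforces j1T fun T => jforces (j1E H T) fun E =>
    jelem jone E && (E.all fun a => E.all fun b => jelem (jmul a b) E) && jnodup E

end Cfsg.Agent.Lib.helper4
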