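import Mathlib
import Cfsg.Agent.Lib.Helper19.A5Pairs

set_option autoImplicit false

/-! An involution `t` whose centraliser has at most 120 elements and contains a pair `x`, `y` with
`x³ = y⁵ = (xy)² = 1`, `x ≠ 1`, has centraliser isomorphic to `C₂ × A₅`. -/

namespace Cfsg.Agent.Lib.helper4

theorem c2hom_zmod2_cases (a : ZMod 2) : a = 0 ∨ a = 1 := by
  revert a
  decide

theorem c2hom_val_zero : (0 : ZMod 2).val = 0 := rfl

theorem c2hom_val_one : (1 : ZMod 2).val = 1 := rfl

theorem c2hom_one_add_one : (1 : ZMod 2) + 1 = 0 := by decide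

/-- the homomorphism from the group of order two given by an element of square one -/
def c2Hom {C : Type*} [Group C] (t : C) (ht : t * t = 1) : Multiplicative (ZMod 2) →* C where
  toFun e := t ^ (Multiplicative.toAdd e).val
  map_one' := by
    show t ^ (0 : ZMod 2).val = 1
    rw [c2hom_val_zero, pow_zero]
  map_mul' := by
    intro a b
    have key : ∀ a b : ZMod 2, t ^ (a + b).val = t ^ a.val * t ^ b.val := by
      intro a b
      rcases c2hom_zmod2_cases a with rfl | rfl <;> rcases c2hom_zmod2_cases b with rfl | rfl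
      · rw [add_zero, c2hom_val_zero, pow_zero, one_mul]
      · rw [zero_add, c2hom_val_zero, pow_zero, one_mul]
      · rw [add_zero, c2hom_val_zero, pow_zero, mul_one]
      · rw [c2hom_one_add_one, c2hom_val_zero, c2hom_val_one, pow_zero, pow_one, ht]
    exact key (Multiplicative.toAdd a) (Multiplicative.toAdd b)

theorem c2Hom_apply {C : Type*} [Group C] (t : C) (ht : t * t = 1) (e : Multiplicative (ZMod 2)) :
    c2Hom t ht e = 1 ∨ c2Hom t ht e = t := by
  have key : ∀ a : ZMod 2, t ^ a.val = 1 ∨ t ^ a.val = t := by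
    intro a
    rcases c2hom_zmod2_cases a with rfl | rfl
    · left; rw [c2hom_val_zero, pow_zero]
    · right; rw [c2hom_val_one, pow_one]
  exact key (Multiplicative.toAdd e)

theorem c2Hom_eq_one {C : Type*} [Group C] (t : C) (ht : t * t = 1) (ht1 : t ≠ 1)
    (e : Multiplicative (ZMod 2)) (h : c2Hom t ht e = 1) : e = 1 := by
  have key : ∀ a : ZMod 2, t ^ a.val = 1 → a = 0 := by
    intro a
    rcases c2hom_zmod2_cases a with rfl | rfl
    · intro _; rfl
    · intro h1
      exfalso
      apply ht1
      rwa [c2hom_val_one, pow_one] at h1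
  exact key (Multiplicative.toAdd e) h

theorem centralizer_iso_c2_a5 {G : Type*} [Group G] (t x y : G) (ht : orderOf t = 2)
    (hx : x ^ 3 = 1) (hy : y ^ 5 = 1) (hxy : (x * y) ^ 2 = 1) (hx1 : x ≠ 1)
    (hxt : x * t = t * x) (hyt : y * t = t * y)
    [Finite (Subgroup.centralizer ({t} : Set G))]
    (hcard : Nat.card (Subgroup.centralizer ({t} : Set G)) ≤ 120) :
    Nonempty (Subgroup.centralizer ({t} : Set G) ≃*
      Multiplicative (ZMod 2) × alternatingGroup (Fin 5)) := by
  obtain ⟨τ, hτinj, hτrange⟩ :=
    Cfsg.Agent.Lib.Helper19.A5Pairs.exists_hom_of_pair x y hx hy hxy hx1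
  have hτC : ∀ k, τ k ∈ Subgroup.centralizer ({t} : Set G) := by
    intro k
    have h1 : τ k ∈ τ.range := ⟨k, rfl⟩
    rw [hτrange] at h1
    refine (Subgroup.closure_le _).2 ?_ h1
    rintro z (rfl | hz)
    · rw [SetLike.mem_coe, Subgroup.mem_centralizer_iff]
      intro h hh
      rw [Set.mem_singleton_iff] at hh
      rw [hh, hxt]
    · rw [Set.mem_singleton_iff] at hz
      rw [SetLike.mem_coe, Subgroup.mem_centralizer_iff, hz]
      intro h hh
      rw [Set.mem_singleton_iff] at hh
      rw [hh, hyt]
  have htt : t * t = 1 := by rw [← pow_two, ← ht, pow_orderOf_eq_one]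
  have ht1 : t ≠ 1 := by
    intro h
    rw [h, orderOf_one] at ht
    norm_num at ht
  have htC : t ∈ Subgroup.centralizer ({t} : Set G) := by
    rw [Subgroup.mem_centralizer_iff]
    intro h hh
    rw [Set.mem_singleton_iff] at hh
    rw [hh]
  let tC : Subgroup.centralizer ({t} : Set G) := ⟨t, htC⟩
  have htCC : tC * tC = 1 := Subtype.ext htt
  have htC1 : tC ≠ 1 := fun h => ht1 (congrArg Subtype.val h)
  have hcen : ∀ c : Subgroup.centralizer ({t} : Set G), tC * c = c * tC := by
    intro c
    apply Subtype.ext
    exact (Subgroup.mem_centralizer_iff.1 c.2) t rfl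
  let τ' : alternatingGroup (Fin 5) →* Subgroup.centralizer ({t} : Set G) :=
    τ.codRestrict _ hτC
  have hτ'inj : Function.Injective τ' := by
    intro a b hab
    apply hτinj
    exact congrArg Subtype.val hab
  have hcomm : ∀ (e : Multiplicative (ZMod 2)) (k : alternatingGroup (Fin 5)),
      Commute (c2Hom tC htCC e) (τ' k) := by
    intro e k
    rcases c2Hom_apply tC htCC e with h | h
    · rw [h]; exact Commute.one_left _
    · rw [h]; exact hcen _
  let ψ := MonoidHom.noncommCoprod (c2Hom tC htCC) τ' hcomm
  have hψ : ∀ e k, ψ (e, k) = c2Hom tC htCC e * τ' k := fun _ _ => rfl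
  have hψinj : Function.Injective ψ := by
    rw [injective_iff_map_eq_one]
    rintro ⟨e, k⟩ h
    rw [hψ] at h
    rcases c2Hom_apply tC htCC e with h1 | h1
    · rw [h1, one_mul] at h
      have hk : k = 1 := hτ'inj (by rw [h, map_one])
      have he : e = 1 := c2Hom_eq_one tC htCC htC1 e h1
      rw [hk, he]
      rfl
    · exfalso
      rw [h1] at h
      have h2 : τ' k = tC := by
        have : τ' k = tC⁻¹ := eq_inv_of_mul_eq_one_right h
        rw [this]
        exact inv_eq_of_mul_eq_one_right htCC
      have hk : k ∈ Subgroup.center (alternatingGroup (Fin 5)) := by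
        rw [Subgroup.mem_center_iff]
        intro g
        apply hτ'inj
        rw [map_mul, map_mul, h2]
        exact (hcen _).symm
      rw [alternatingGroup.center_eq_bot (by simp), Subgroup.mem_bot] at hk
      rw [hk, map_one] at h2
      exact htC1 h2.symm
  have hcardA : Nat.card (alternatingGroup (Fin 5)) = 60 := by
    rw [nat_card_alternatingGroup]
    simp [Nat.factorial]
  have hbij : Function.Bijective ψ := by
    apply hψinj.bijective_of_nat_card_le
    rw [Nat.card_prod, hcardA]
    simpa using hcard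
  exact ⟨(MulEquiv.ofBijective ψ hbij).symm⟩

end Cfsg.Agent.Lib.helper4
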