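import Mathlib
import Cfsg.Agent.Lib.helper4.J1Defs

set_option autoImplicit false

/-! Kernel checks for the centraliser of an involution of the first Janko group. -/

namespace Cfsg.Agent.Lib.helper4

/-- positions of the 120 elements of the centraliser of the involution `j1t` -/
def j1Ct : List (ℕ × ℕ) := [
  (50, 1), (111, 1), (337, 12), (445, 12), (72, 14), (82, 14), (156, 18), (257, 18), (9, 20), (504, 20),
  (32, 26), (398, 26), (101, 29), (351, 29), (148, 36), (273, 36), (453, 37), (645, 37), (221, 41), (283, 41),
  (211, 43), (635, 43), (149, 52), (274, 52), (107, 62), (346, 62), (372, 63), (578, 63), (230, 67), (281, 67),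
  (215, 69), (628, 69), (307, 76), (472, 76), (338, 78), (446, 78), (330, 86), (449, 86), (300, 92), (465, 92),
  (233, 93), (435, 93), (123, 97), (596, 97), (411, 102), (626, 102), (185, 105), (507, 105), (50, 115), (111, 115),
  (189, 117), (536, 117), (12, 118), (208, 118), (243, 125), (426, 125), (147, 130), (272, 130), (51, 138), (112, 138),
  (226, 140), (277, 140), (211, 142), (635, 142), (368, 143), (574, 143), (149, 150), (274, 150), (92, 155), (544, 155),
  (136, 156), (614, 156), (155, 160), (256, 160), (191, 169), (538, 169), (164, 170), (254, 170), (215, 174), (628, 174),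
  (23, 183), (400, 183), (334, 184), (442, 184), (13, 188), (198, 188), (326, 189), (655, 189), (219, 190), (632, 190),
  (91, 194), (543, 194), (45, 196), (117, 196), (302, 207), (467, 207), (234, 216), (436, 216), (338, 217), (446, 217),
  (71, 219), (81, 219), (138, 220), (605, 220), (297, 228), (462, 228), (40, 235), (394, 235), (355, 242), (588, 242),
  (129, 249), (602, 249), (214, 252), (627, 252), (190, 254), (537, 254), (163, 255), (253, 255), (319, 265), (659, 265)]

/-- the centraliser of the involution, as tables -/
def j1CtList (H T : List JMat) : List JMat := j1Ct.map (j1At H T)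

/-- relations of a pair generating a subgroup `A₅` of the centraliser -/
def j1RelChk : Bool :=
  jforces j1H fun H => jforces j1T fun T => jforce j1t fun t =>
    jforce (j1At H T (50, 1)) fun x => jforce (j1At H T (72, 14)) fun y =>
      jbeq (jpowF x 3 jone) jone && (jbeq (jpowF y 5 jone) jone &&
        ((jforce (jmul x y) fun xy => jbeq (jmul xy xy) jone) && (!(jbeq x jone) &&
          (jbeq (jmul x t) (jmul t x) && jbeq (jmul y t) (jmul t y)))))

set_option maxRecDepth 10000000 in
theorem j1CentChk_t : j1CentChk j1t (fun H T _ => j1CtList H T) = true := by decide +kernel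

set_option maxRecDepth 10000000 in
theorem jOrdChk_t : jOrdChk j1t 2 = true := by decide +kernel

set_option maxRecDepth 10000000 in
theorem j1RelChk_ok : j1RelChk = true := by decide +kernel

end Cfsg.Agent.Lib.helper4
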