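import Mathlib
import Cfsg.Agent.Lib.helper4.J1Defs

set_option autoImplicit false

/-! Kernel checks for the first Janko group. -/

namespace Cfsg.Agent.Lib.helper4

set_option maxRecDepth 10000000 in
theorem j1ChkE_ok : j1ChkE = true := by decide +kernel

set_option maxRecDepth 10000000 in
theorem jOrdChk_c : jOrdChk j1c 3 = true := by decide +kernel

set_option maxRecDepth 10000000 in
theorem jOrdChk_Y : jOrdChk j1Y 5 = true := by decide +kernel

set_option maxRecDepth 10000000 in
theorem jOrdChk_X : jOrdChk j1X 7 = true := by decide +kernel

set_option maxRecDepth 10000000 in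
theorem jOrdChk_a : jOrdChk j1a 11 = true := by decide +kernel

set_option maxRecDepth 10000000 in
theorem jOrdChk_u : jOrdChk j1u 19 = true := by decide +kernel

set_option maxRecDepth 10000000 in
theorem j1ProdChk_yx : j1ProdChk j1X j1Y (0, 154) (586, 14) = true := by decide +kernel

set_option maxRecDepth 10000000 in
theorem j1ProdChk_xu : j1ProdChk j1u j1X (0, 77) (63, 103) = true := by decide +kernel

set_option maxRecDepth 10000000 in
theorem j1ProdChk_yu : j1ProdChk j1u j1Y (0, 23) (9, 8) = true := by decide +kernel

end Cfsg.Agent.Lib.helper4
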