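import Mathlib
import Cfsg.Agent.Lib.helper4.J1Defs

set_option autoImplicit false

/-! Kernel checks for the first Janko group. -/

namespace Cfsg.Agent.Lib.helper4

set_option maxRecDepth 10000000 in
theorem j1CentChk_u : j1CentChk j1u (fun _ _ s => jpows s 19 jone) = true := by decide +kernel

end Cfsg.Agent.Lib.helper4
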