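import Mathlib
import Cfsg.Agent.Lib.helper4.J1Defs

set_option autoImplicit false

/-! Tables representing elements of the first Janko group. -/

namespace Cfsg.Agent.Lib.helper4

/-- the first Janko group, as a type -/
abbrev J1G : Type := ↥Cfsg.Spor.J1

theorem j1_orth_aux (g : GL (Fin 7) (ZMod 11)) (hg : g ∈ Cfsg.Spor.J1) :
    g.val * g.val.transpose = 1 := by
  unfold Cfsg.Spor.J1 at hg
  induction hg using Subgroup.closure_induction with
  | mem x hx =>
    rcases hx with rfl | rfl
    · exact Cfsg.Spor.jankoX.val_inv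
    · exact Cfsg.Spor.jankoY.val_inv
  | one => simp
  | mul a b _ _ ha hb =>
    rw [Units.val_mul, Matrix.transpose_mul, mul_assoc, ← mul_assoc b.val, hb, one_mul, ha]
  | inv a _ ha =>
    have h1 : (a⁻¹).val = a.val.transpose := Units.inv_eq_of_mul_eq_one_right ha
    rw [h1, Matrix.transpose_transpose]
    exact mul_eq_one_comm.1 ha

theorem j1_inv_val (g : GL (Fin 7) (ZMod 11)) (hg : g ∈ Cfsg.Spor.J1) :
    (g⁻¹).val = g.val.transpose :=
  Units.inv_eq_of_mul_eq_one_right (j1_orth_aux g hg)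

/-- a normalised table of an element of the group -/
def JGood (A : JMat) : Prop := JNorm A ∧ ∃ g : J1G, g.val.val = jdec A

theorem exists_jel : ∃ f : JMat → J1G,
    ∀ A, (∃ g : J1G, g.val.val = jdec A) → (f A).val.val = jdec A := by
  classical
  exact ⟨fun A => if h : ∃ g : J1G, g.val.val = jdec A then Classical.choose h else 1,
    fun A hA => by simp only [dif_pos hA]; exact Classical.choose_spec hA⟩

/-- the element of a table -/
noncomputable def jel : JMat → J1G := Classical.choose exists_jel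

theorem jel_val {A : JMat} (hA : JGood A) : (jel A).val.val = jdec A :=
  Classical.choose_spec exists_jel A hA.2

theorem j1g_ext {g h : J1G} (H : g.val.val = h.val.val) : g = h := Subtype.ext (Units.ext H)

theorem jel_eq {A : JMat} {g : J1G} (hA : JNorm A) (hg : g.val.val = jdec A) : jel A = g :=
  j1g_ext (by rw [jel_val ⟨hA, g, hg⟩, hg])

theorem jel_inj {A B : JMat} (hA : JGood A) (hB : JGood B) (h : jel A = jel B) : A = B :=
  jdec_inj A B hA.1 hB.1 (by rw [← jel_val hA, ← jel_val hB, h])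

theorem jval_jmul {A B : JMat} (hA : JGood A) (hB : JGood B) :
    (jel A * jel B).val.val = jdec (jmul A B) := by
  rw [Subgroup.coe_mul, Units.val_mul, jel_val hA, jel_val hB, jdec_jmul A B]

theorem jgood_jmul {A B : JMat} (hA : JGood A) (hB : JGood B) : JGood (jmul A B) :=
  ⟨jnorm_jmul A B, jel A * jel B, jval_jmul hA hB⟩

theorem jel_jmul {A B : JMat} (hA : JGood A) (hB : JGood B) :
    jel (jmul A B) = jel A * jel B :=
  jel_eq (jnorm_jmul A B) (jval_jmul hA hB)

theorem jval_jtr {A : JMat} (hA : JGood A) : ((jel A)⁻¹).val.val = jdec (jtr A) := by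
  rw [Subgroup.coe_inv, j1_inv_val _ (jel A).2, jel_val hA, jdec_jtr]

theorem jgood_jtr {A : JMat} (hA : JGood A) : JGood (jtr A) :=
  ⟨jnorm_jtr A hA.1, (jel A)⁻¹, jval_jtr hA⟩

theorem jel_jtr {A : JMat} (hA : JGood A) : jel (jtr A) = (jel A)⁻¹ :=
  jel_eq (jnorm_jtr A hA.1) (jval_jtr hA)

theorem jval_jmulT {A B : JMat} (hA : JGood A) (hB : JGood B) :
    (jel A * (jel B)⁻¹).val.val = jdec (jmulT A B) := by
  rw [Subgroup.coe_mul, Units.val_mul, Subgroup.coe_inv, j1_inv_val _ (jel B).2, jel_val hA,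
    jel_val hB, jdec_jmulT A B]

theorem jgood_jmulT {A B : JMat} (hA : JGood A) (hB : JGood B) : JGood (jmulT A B) :=
  ⟨jnorm_jmulT A B, jel A * (jel B)⁻¹, jval_jmulT hA hB⟩

theorem jel_jmulT {A B : JMat} (hA : JGood A) (hB : JGood B) :
    jel (jmulT A B) = jel A * (jel B)⁻¹ :=
  jel_eq (jnorm_jmulT A B) (jval_jmulT hA hB)

theorem jgood_jone : JGood jone := ⟨jnorm_jone, 1, by simp [jdec_jone]⟩

theorem jel_jone : jel jone = 1 := jel_eq jnorm_jone (by simp [jdec_jone])

/-- the first generator, in the group -/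
def j1gX : J1G := ⟨Cfsg.Spor.jankoX, Subgroup.subset_closure (by simp)⟩

/-- the second generator, in the group -/
def j1gY : J1G := ⟨Cfsg.Spor.jankoY, Subgroup.subset_closure (by simp)⟩

theorem jnorm_j1X : JNorm j1X := by decide

theorem jnorm_j1Y : JNorm j1Y := by decide

theorem jval_j1X : j1gX.val.val = jdec j1X := by
  show Cfsg.jankoMatrixX = jdec j1X
  decide

theorem jval_j1Y : j1gY.val.val = jdec j1Y := by
  show Cfsg.jankoMatrixY = jdec j1Y
  decide

theorem jgood_j1X : JGood j1X := ⟨jnorm_j1X, j1gX, jval_j1X⟩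

theorem jgood_j1Y : JGood j1Y := ⟨jnorm_j1Y, j1gY, jval_j1Y⟩

theorem jel_j1X : jel j1X = j1gX := jel_eq jnorm_j1X jval_j1X

theorem jel_j1Y : jel j1Y = j1gY := jel_eq jnorm_j1Y jval_j1Y

theorem j1XT_eq : j1XT = jtr j1X := by decide

theorem j1YT_eq : j1YT = jtr j1Y := by decide

theorem jgood_j1XT : JGood j1XT := j1XT_eq ▸ jgood_jtr jgood_j1X

theorem jgood_j1YT : JGood j1YT := j1YT_eq ▸ jgood_jtr jgood_j1Y

theorem jel_j1XT : jel j1XT = j1gX⁻¹ := by rw [j1XT_eq, jel_jtr jgood_j1X, jel_j1X]

theorem jel_j1YT : jel j1YT = j1gY⁻¹ := by rw [j1YT_eq, jel_jtr jgood_j1Y, jel_j1Y]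

theorem jgood_j1GenT (g : ℕ) : JGood (j1GenT g) := by
  unfold j1GenT
  split
  · exact jgood_j1XT
  · exact jgood_j1YT

theorem jgood_jwordF (w : List ℕ) (cur : JMat) (h : JGood cur) : JGood (jwordF w cur) := by
  induction w generalizing cur with
  | nil => exact h
  | cons g rest ih =>
    simp only [jwordF, jforce_eq]
    exact ih _ (jgood_jmulT h (jgood_j1GenT g))

theorem jgood_j1u : JGood j1u := jgood_jwordF _ _ jgood_jone

theorem jgood_j1a : JGood j1a := jgood_jwordF _ _ jgood_jone

theorem jgood_j1b : JGood j1b := jgood_jwordF _ _ jgood_jone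

theorem jgood_j1c : JGood j1c := jgood_jwordF _ _ jgood_jone

theorem jgood_j1t : JGood j1t := jgood_jwordF _ _ jgood_jone

theorem jgetD_mem_or (l : List JMat) (i : ℕ) : l.getD i jone ∈ l ∨ l.getD i jone = jone := by
  by_cases h : i < l.length
  · rw [List.getD_eq_getElem _ _ h]
    exact Or.inl (List.getElem_mem h)
  · rw [List.getD_eq_default _ _ (by omega)]
    exact Or.inr rfl

theorem jBuild_ind (Q : JMat → Prop) (gT0 gT1 : JMat) (h0 : ∀ M, Q M → Q (jmulT M gT0))
    (h1 : ∀ M, Q M → Q (jmulT M gT1)) (hone : Q jone) (tree : List (ℕ × ℕ)) (acc : List JMat)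
    (hacc : ∀ M ∈ acc, Q M) : ∀ M ∈ jBuild gT0 gT1 tree acc, Q M := by
  induction tree generalizing acc with
  | nil => simpa [jBuild] using hacc
  | cons e rest ih =>
    obtain ⟨off, g⟩ := e
    have hq : Q (acc.getD off jone) := by
      rcases jgetD_mem_or acc off with h | h
      · exact hacc _ h
      · rw [h]; exact hone
    rcases g with _ | g
    · simp only [jBuild, jforce_eq]
      apply ih
      intro M hM
      rcases List.mem_cons.1 hM with rfl | hM
      · exact h0 _ hq
      · exact hacc _ hM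
    · simp only [jBuild, jforce_eq]
      apply ih
      intro M hM
      rcases List.mem_cons.1 hM with rfl | hM
      · exact h1 _ hq
      · exact hacc _ hM

theorem subset_jBuild (gT0 gT1 : JMat) (tree : List (ℕ × ℕ)) (acc : List JMat) :
    ∀ M ∈ acc, M ∈ jBuild gT0 gT1 tree acc := by
  induction tree generalizing acc with
  | nil => simp [jBuild]
  | cons e rest ih =>
    obtain ⟨off, g⟩ := e
    intro M hM
    rcases g with _ | g
    · simp only [jBuild, jforce_eq]
      exact ih _ _ (List.mem_cons_of_mem _ hM)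
    · simp only [jBuild, jforce_eq]
      exact ih _ _ (List.mem_cons_of_mem _ hM)

theorem length_jBuild (gT0 gT1 : JMat) (tree : List (ℕ × ℕ)) (acc : List JMat) :
    (jBuild gT0 gT1 tree acc).length = tree.length + acc.length := by
  induction tree generalizing acc with
  | nil => simp [jBuild]
  | cons e rest ih =>
    obtain ⟨off, g⟩ := e
    rcases g with _ | g
    · simp only [jBuild, jforce_eq]
      rw [ih]
      simp only [List.length_cons]
      omega
    · simp only [jBuild, jforce_eq]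
      rw [ih]
      simp only [List.length_cons]
      omega

theorem jgood_j1T : ∀ B ∈ j1T, JGood B :=
  jBuild_ind JGood j1XT j1YT (fun _ h => jgood_jmulT h jgood_j1XT)
    (fun _ h => jgood_jmulT h jgood_j1YT) jgood_jone _ _ (by simpa using jgood_jone)

theorem jone_mem_j1T : jone ∈ j1T := subset_jBuild _ _ _ _ _ (by simp)

theorem j1T_length : j1T.length = 266 := by
  unfold j1T
  rw [length_jBuild]
  decide +kernel

theorem j1H_eq : j1H = jBuild (jtr j1a) (jtr j1b) j1TreeH [jone] := by
  unfold j1H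
  rw [jforce_eq, jforce_eq]

theorem j1H_length : j1H.length = 660 := by
  rw [j1H_eq, length_jBuild]
  decide +kernel

theorem jone_mem_j1H : jone ∈ j1H := by
  rw [j1H_eq]
  exact subset_jBuild _ _ _ _ _ (by simp)

theorem jgood_jBuild_closure (a b : JMat) (ha : JGood a) (hb : JGood b)
    (tree : List (ℕ × ℕ)) : ∀ h ∈ jBuild (jtr a) (jtr b) tree [jone],
    JGood h ∧ jel h ∈ Submonoid.closure ({jel a, jel b} : Set J1G) := by
  apply jBuild_ind (fun h => JGood h ∧ jel h ∈ Submonoid.closure ({jel a, jel b} : Set J1G))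
  · intro M hM
    refine ⟨jgood_jmulT hM.1 (jgood_jtr ha), ?_⟩
    rw [jel_jmulT hM.1 (jgood_jtr ha), jel_jtr ha, inv_inv]
    exact mul_mem hM.2 (Submonoid.subset_closure (Set.mem_insert _ _))
  · intro M hM
    refine ⟨jgood_jmulT hM.1 (jgood_jtr hb), ?_⟩
    rw [jel_jmulT hM.1 (jgood_jtr hb), jel_jtr hb, inv_inv]
    exact mul_mem hM.2
      (Submonoid.subset_closure (Set.mem_insert_of_mem _ (Set.mem_singleton _)))
  · exact ⟨jgood_jone, by rw [jel_jone]; exact one_mem _⟩
  · intro M hM
    rw [List.mem_singleton] at hM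
    rw [hM]
    exact ⟨jgood_jone, by rw [jel_jone]; exact one_mem _⟩

theorem jgood_j1H : ∀ h ∈ j1H,
    JGood h ∧ jel h ∈ Submonoid.closure ({jel j1a, jel j1b} : Set J1G) := by
  rw [j1H_eq]
  exact jgood_jBuild_closure j1a j1b jgood_j1a jgood_j1b j1TreeH

end Cfsg.Agent.Lib.helper4
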