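import Mathlib
import Cfsg.Agent.Lib.helper4.J1Rep

set_option autoImplicit false

/-! Every element of the first Janko group is a product of a table of the subgroup list and a
table of the coset list; hence the order is at most `660 · 266`. -/

namespace Cfsg.Agent.Lib.helper4

attribute [local irreducible] j1H j1T

/-- the results of the kernel checks for the order -/
structure J1Hyp : Prop where
  hA : j1ChkH j1a = true
  hB : j1ChkH j1b = true
  hX : j1Chk j1XT j1HintX = true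
  hY : j1Chk j1YT j1HintY = true

theorem j1H_mul_gen (g : JMat) (hg : JGood g) (hchk : j1ChkH g = true) :
    ∀ h ∈ j1H, ∃ h' ∈ j1H, jel h * jel g = jel h' := by
  unfold j1ChkH at hchk
  rw [jforces_eq, jforce_eq] at hchk
  simp only [jforce_eq, Bool.and_eq_true, List.all_eq_true, jelem_iff] at hchk
  intro h hh
  refine ⟨jmulT h (jtr g), hchk.2 h hh, ?_⟩
  rw [jel_jmulT (jgood_j1H h hh).1 (jgood_jtr hg), jel_jtr hg, inv_inv]

theorem j1H_mul_closure (H : J1Hyp) (m : J1G)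
    (hm : m ∈ Submonoid.closure ({jel j1a, jel j1b} : Set J1G)) :
    ∀ h ∈ j1H, ∃ h' ∈ j1H, jel h * m = jel h' := by
  induction hm using Submonoid.closure_induction with
  | mem x hx =>
    rcases hx with rfl | hx
    · exact j1H_mul_gen j1a jgood_j1a H.hA
    · rw [Set.mem_singleton_iff] at hx
      rw [hx]
      exact j1H_mul_gen j1b jgood_j1b H.hB
  | one => intro h hh; exact ⟨h, hh, mul_one _⟩
  | mul x y _ _ hx hy =>
    intro h hh
    obtain ⟨h1, hh1, e1⟩ := hx h hh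
    obtain ⟨h2, hh2, e2⟩ := hy h1 hh1
    exact ⟨h2, hh2, by rw [← mul_assoc, e1, e2]⟩

theorem j1H_mul (H : J1Hyp) : ∀ h1 ∈ j1H, ∀ h2 ∈ j1H, ∃ h' ∈ j1H, jel h1 * jel h2 = jel h' :=
  fun h1 hh1 h2 hh2 => j1H_mul_closure H _ (jgood_j1H h2 hh2).2 h1 hh1

theorem j1_step (s sT : JMat) (hints : List ℕ) (hs : JGood s) (hsT : sT = jtr s)
    (hchk : j1Chk sT hints = true) :
    ∀ B ∈ j1T, ∃ h ∈ j1H, ∃ B' ∈ j1T, jel B * jel s = jel h * jel B' := by
  unfold j1Chk at hchk
  rw [jforces_eq, jforces_eq] at hchk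
  intro B hB
  obtain ⟨j, hj⟩ := j1All_spec _ _ _ hchk B hB
  simp only [jforce_eq, jelem_iff] at hj
  have hB' : j1T.getD j jone ∈ j1T := by
    rcases jgetD_mem_or j1T j with h | h
    · exact h
    · rw [h]; exact jone_mem_j1T
  refine ⟨jmulT (jmulT B sT) (j1T.getD j jone), hj, j1T.getD j jone, hB', ?_⟩
  have hgB := jgood_j1T B hB
  have hgB' := jgood_j1T _ hB'
  have hgsT : JGood sT := hsT ▸ jgood_jtr hs
  rw [jel_jmulT (jgood_jmulT hgB hgsT) hgB', jel_jmulT hgB hgsT, hsT, jel_jtr hs, inv_inv,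
    inv_mul_cancel_right]

/-- the products of a table of the subgroup list and a table of the coset list -/
def J1RepSet : Set J1G := {g | ∃ h ∈ j1H, ∃ B ∈ j1T, g = jel h * jel B}

theorem j1_rep_mul_gen (H : J1Hyp) (s : J1G)
    (hs : ∀ B ∈ j1T, ∃ h ∈ j1H, ∃ B' ∈ j1T, jel B * s = jel h * jel B') :
    ∀ g ∈ J1RepSet, g * s ∈ J1RepSet := by
  rintro g ⟨h, hh, B, hB, rfl⟩
  obtain ⟨h0, hh0, B', hB', e⟩ := hs B hB
  obtain ⟨h', hh', e'⟩ := j1H_mul H h hh h0 hh0
  exact ⟨h', hh', B', hB', by rw [mul_assoc, e, ← mul_assoc, e']⟩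

instance j1g_finite : Finite J1G := inferInstance

theorem j1_rep_pow (z : J1G) (hz : ∀ g ∈ J1RepSet, g * z ∈ J1RepSet) (n : ℕ) :
    ∀ g ∈ J1RepSet, g * z ^ n ∈ J1RepSet := by
  induction n with
  | zero => intro g hg; simpa using hg
  | succ n ih =>
    intro g hg
    rw [pow_succ, ← mul_assoc]
    exact hz _ (ih g hg)

theorem j1_rep_key (H : J1Hyp) (z : J1G) : ∀ g ∈ J1RepSet, g * z ∈ J1RepSet := by
  obtain ⟨z, hz⟩ := z
  refine Subgroup.closure_induction
    (p := fun z hz => ∀ g ∈ J1RepSet, g * (⟨z, hz⟩ : J1G) ∈ J1RepSet) ?_ ?_ ?_ ?_ hz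
  · intro x hx
    rcases hx with rfl | hx
    · have := j1_step j1X j1XT j1HintX jgood_j1X j1XT_eq H.hX
      rw [jel_j1X] at this
      exact j1_rep_mul_gen H j1gX this
    · rw [Set.mem_singleton_iff] at hx
      subst hx
      have := j1_step j1Y j1YT j1HintY jgood_j1Y j1YT_eq H.hY
      rw [jel_j1Y] at this
      exact j1_rep_mul_gen H j1gY this
  · intro g hg
    have : g * (⟨1, Subgroup.one_mem _⟩ : J1G) = g := mul_one g
    rw [this]
    exact hg
  · intro a b ha hb iha ihb g hg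
    have : g * (⟨a * b, Subgroup.mul_mem _ ha hb⟩ : J1G) =
        g * (⟨a, ha⟩ : J1G) * (⟨b, hb⟩ : J1G) := by
      rw [mul_assoc]; rfl
    rw [this]
    exact ihb _ (iha g hg)
  · intro a ha iha g hg
    have h1 : (⟨a⁻¹, Subgroup.inv_mem _ ha⟩ : J1G) =
        (⟨a, ha⟩ : J1G) ^ (orderOf (⟨a, ha⟩ : J1G) - 1) := by
      have hpos : 0 < orderOf (⟨a, ha⟩ : J1G) := orderOf_pos _
      have h2 : (⟨a, ha⟩ : J1G) * (⟨a, ha⟩ : J1G) ^ (orderOf (⟨a, ha⟩ : J1G) - 1) = 1 := by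
        rw [← pow_succ', Nat.sub_add_cancel hpos, pow_orderOf_eq_one]
      have h3 : (⟨a⁻¹, Subgroup.inv_mem _ ha⟩ : J1G) = (⟨a, ha⟩ : J1G)⁻¹ := rfl
      rw [h3]
      exact inv_eq_of_mul_eq_one_right h2
    rw [h1]
    exact j1_rep_pow _ iha _ g hg

theorem j1_rep (H : J1Hyp) (g : J1G) : g ∈ J1RepSet := by
  have h1 : (1 : J1G) ∈ J1RepSet :=
    ⟨jone, jone_mem_j1H, jone, jone_mem_j1T, by rw [jel_jone, mul_one]⟩
  have := j1_rep_key H g 1 h1
  rwa [one_mul] at this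

theorem j1_card_le (H : J1Hyp) : Nat.card J1G ≤ 175560 := by
  classical
  haveI : Fintype J1G := Fintype.ofFinite _
  let f : JMat × JMat → J1G := fun p => jel p.1 * jel p.2
  have hsub : (Finset.univ : Finset J1G) ⊆ ((j1H ×ˢ j1T).map f).toFinset := by
    intro g _
    obtain ⟨h, hh, B, hB, rfl⟩ := j1_rep H g
    rw [List.mem_toFinset, List.mem_map]
    exact ⟨(h, B), List.mem_product.2 ⟨hh, hB⟩, rfl⟩
  calc Nat.card J1G = Fintype.card J1G := Nat.card_eq_fintype_card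
    _ = (Finset.univ : Finset J1G).card := rfl
    _ ≤ ((j1H ×ˢ j1T).map f).toFinset.card := Finset.card_le_card hsub
    _ ≤ ((j1H ×ˢ j1T).map f).length := List.toFinset_card_le _
    _ = 175560 := by rw [List.length_map, List.length_product, j1H_length, j1T_length]

end Cfsg.Agent.Lib.helper4
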