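import Mathlib
import Cfsg.Agent.Lib.helper4.J1Order

set_option autoImplicit false

/-! Orders of elements, subgroups given by lists of tables, and the order of the first Janko
group. -/

namespace Cfsg.Agent.Lib.helper4

attribute [local irreducible] j1H j1T

/-- the results of the remaining kernel checks -/
structure J1Hyp2 : Prop where
  hE : j1ChkE = true
  h3 : jOrdChk j1c 3 = true
  h5 : jOrdChk j1Y 5 = true
  h7 : jOrdChk j1X 7 = true
  h11 : jOrdChk j1a 11 = true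
  h19 : jOrdChk j1u 19 = true
  hyx : j1ProdChk j1X j1Y (0, 154) (586, 14) = true
  hxu : j1ProdChk j1u j1X (0, 77) (63, 103) = true
  hyu : j1ProdChk j1u j1Y (0, 23) (9, 8) = true
  hCu : j1CentChk j1u (fun _ _ s => jpows s 19 jone) = true
  hCx : j1CentChk j1X (fun _ _ s => jpows s 7 jone) = true

theorem jgood_jpowF (A : JMat) (hA : JGood A) (n : ℕ) (cur : JMat) (hc : JGood cur) :
    JGood (jpowF A n cur) ∧ jel (jpowF A n cur) = jel cur * jel A ^ n := by
  induction n generalizing cur with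
  | zero => exact ⟨hc, by simp [jpowF]⟩
  | succ n ih =>
    simp only [jpowF, jforce_eq]
    obtain ⟨h1, h2⟩ := ih (jmul cur A) (jgood_jmul hc hA)
    exact ⟨h1, by rw [h2, jel_jmul hc hA, pow_succ', mul_assoc]⟩

theorem jel_order (A : JMat) (p : ℕ) (hp : p.Prime) (hA : JGood A) (h : jOrdChk A p = true) :
    orderOf (jel A) = p := by
  unfold jOrdChk at h
  rw [jforce_eq, Bool.and_eq_true, jbeq_iff, Bool.not_eq_true', ← Bool.not_eq_true,
    jbeq_iff] at h
  haveI := Fact.mk hp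
  apply orderOf_eq_prime
  · have := (jgood_jpowF A hA p jone jgood_jone).2
    rw [h.1, jel_jone, one_mul] at this
    exact this.symm
  · intro h1
    apply h.2
    apply jel_inj hA jgood_jone
    rw [h1, jel_jone]

/-- the subgroup of the elements of a list of tables closed under products -/
def jListSubgroup (L : List JMat) (h1 : jone ∈ L) (hg : ∀ a ∈ L, JGood a)
    (hm : ∀ a ∈ L, ∀ b ∈ L, jmul a b ∈ L) : Subgroup J1G where
  carrier := {g | ∃ l ∈ L, g = jel l}
  mul_mem' := by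
    rintro _ _ ⟨a, ha, rfl⟩ ⟨b, hb, rfl⟩
    exact ⟨jmul a b, hm a ha b hb, (jel_jmul (hg a ha) (hg b hb)).symm⟩
  one_mem' := ⟨jone, h1, jel_jone.symm⟩
  inv_mem' := by
    rintro _ ⟨a, ha, rfl⟩
    have hpow : ∀ n : ℕ, ∃ l ∈ L, jel a ^ n = jel l := by
      intro n
      induction n with
      | zero => exact ⟨jone, h1, by rw [pow_zero, jel_jone]⟩
      | succ n ih =>
        obtain ⟨l, hl, e⟩ := ih
        exact ⟨jmul l a, hm l hl a ha, by rw [pow_succ, e, jel_jmul (hg l hl) (hg a ha)]⟩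
    obtain ⟨l, hl, e⟩ := hpow (orderOf (jel a) - 1)
    refine ⟨l, hl, ?_⟩
    rw [← e]
    apply inv_eq_of_mul_eq_one_right
    rw [← pow_succ', Nat.sub_add_cancel (orderOf_pos _), pow_orderOf_eq_one]

theorem mem_jListSubgroup (L : List JMat) (h1 : jone ∈ L) (hg : ∀ a ∈ L, JGood a)
    (hm : ∀ a ∈ L, ∀ b ∈ L, jmul a b ∈ L) (g : J1G) :
    g ∈ jListSubgroup L h1 hg hm ↔ ∃ l ∈ L, g = jel l := Iff.rfl

theorem jListSubgroup_card (L : List JMat) (h1 : jone ∈ L) (hg : ∀ a ∈ L, JGood a)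
    (hm : ∀ a ∈ L, ∀ b ∈ L, jmul a b ∈ L) (hnd : L.Nodup) :
    Nat.card (jListSubgroup L h1 hg hm) = L.length := by
  have h2 : ((jListSubgroup L h1 hg hm : Subgroup J1G) : Set J1G) =
      jel '' (L.toFinset : Set JMat) := by
    ext g
    simp only [SetLike.mem_coe, mem_jListSubgroup, Set.mem_image, List.mem_toFinset]
    constructor
    · rintro ⟨l, hl, rfl⟩; exact ⟨l, hl, rfl⟩
    · rintro ⟨l, hl, rfl⟩; exact ⟨l, hl, rfl⟩
  have h3 : Set.InjOn jel (L.toFinset : Set JMat) := by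
    intro a ha b hb hab
    simp only [Finset.mem_coe, List.mem_toFinset] at ha hb
    exact jel_inj (hg a ha) (hg b hb) hab
  calc Nat.card (jListSubgroup L h1 hg hm)
      = Set.ncard ((jListSubgroup L h1 hg hm : Subgroup J1G) : Set J1G) := by
        rw [← Nat.card_coe_set_eq]; rfl
    _ = Set.ncard (L.toFinset : Set JMat) := by rw [h2, Set.InjOn.ncard_image h3]
    _ = L.toFinset.card := Set.ncard_coe_finset _
    _ = L.length := List.toFinset_card_of_nodup hnd

theorem jgood_getD_j1H (k : ℕ) : JGood (j1H.getD k jone) := by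
  rcases jgetD_mem_or j1H k with h | h
  · exact (jgood_j1H _ h).1
  · rw [h]; exact jgood_jone

theorem jgood_getD_j1T (k : ℕ) : JGood (j1T.getD k jone) := by
  rcases jgetD_mem_or j1T k with h | h
  · exact jgood_j1T _ h
  · rw [h]; exact jgood_jone

theorem jgood_j1At (kp : ℕ × ℕ) : JGood (j1At j1H j1T kp) :=
  jgood_jmul (jgood_getD_j1H _) (jgood_getD_j1T _)

theorem j1E_length (H T : List JMat) : (j1E H T).length = 8 := by
  unfold j1E
  rw [List.length_map]
  rfl

theorem jgood_j1E : ∀ a ∈ j1E j1H j1T, JGood a := by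
  intro a ha
  unfold j1E at ha
  rw [List.mem_map] at ha
  obtain ⟨kp, -, rfl⟩ := ha
  exact jgood_j1At kp

theorem j1ChkE_spec (E : List JMat)
    (h : (jelem jone E && (E.all fun a => E.all fun b => jelem (jmul a b) E) &&
      jnodup E) = true) :
    jone ∈ E ∧ (∀ a ∈ E, ∀ b ∈ E, jmul a b ∈ E) ∧ E.Nodup := by
  simp only [Bool.and_eq_true, List.all_eq_true, jelem_iff, jnodup_iff] at h
  exact ⟨h.1.1, h.1.2, h.2⟩

theorem j1_eight_dvd (hE : j1ChkE = true) : 8 ∣ Nat.card J1G := by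
  unfold j1ChkE at hE
  rw [jforces_eq, jforces_eq, jforces_eq] at hE
  obtain ⟨h1, hm, hnd⟩ := j1ChkE_spec _ hE
  have hc := jListSubgroup_card (j1E j1H j1T) h1 jgood_j1E hm hnd
  rw [j1E_length] at hc
  rw [← hc]
  exact Subgroup.card_subgroup_dvd_card _

theorem j1_arith (n : ℕ) (hle : n ≤ 175560) (hpos : 0 < n) (h8 : 8 ∣ n) (h3 : 3 ∣ n)
    (h5 : 5 ∣ n) (h7 : 7 ∣ n) (h11 : 11 ∣ n) (h19 : 19 ∣ n) : n = 175560 := by
  have a1 : 8 * 3 ∣ n := Nat.Coprime.mul_dvd_of_dvd_of_dvd (by norm_num) h8 h3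
  have a2 : 8 * 3 * 5 ∣ n := Nat.Coprime.mul_dvd_of_dvd_of_dvd (by norm_num) a1 h5
  have a3 : 8 * 3 * 5 * 7 ∣ n := Nat.Coprime.mul_dvd_of_dvd_of_dvd (by norm_num) a2 h7
  have a4 : 8 * 3 * 5 * 7 * 11 ∣ n := Nat.Coprime.mul_dvd_of_dvd_of_dvd (by norm_num) a3 h11
  have a5 : 8 * 3 * 5 * 7 * 11 * 19 ∣ n :=
    Nat.Coprime.mul_dvd_of_dvd_of_dvd (by norm_num) a4 h19
  obtain ⟨k, rfl⟩ := a5
  have hk : k = 1 := by
    rcases k with _ | _ | k
    · omega
    · rfl
    · omega
  subst hk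
  norm_num

theorem j1_card (H : J1Hyp) (H2 : J1Hyp2) : Nat.card J1G = 175560 := by
  have hle := j1_card_le H
  have h8 := j1_eight_dvd H2.hE
  have e3 := jel_order j1c 3 (by norm_num) jgood_j1c H2.h3
  have e5 := jel_order j1Y 5 (by norm_num) jgood_j1Y H2.h5
  have e7 := jel_order j1X 7 (by norm_num) jgood_j1X H2.h7
  have e11 := jel_order j1a 11 (by norm_num) jgood_j1a H2.h11
  have e19 := jel_order j1u 19 (by norm_num) jgood_j1u H2.h19
  have h3 : 3 ∣ Nat.card J1G := by rw [← e3]; exact orderOf_dvd_natCard _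
  have h5 : 5 ∣ Nat.card J1G := by rw [← e5]; exact orderOf_dvd_natCard _
  have h7 : 7 ∣ Nat.card J1G := by rw [← e7]; exact orderOf_dvd_natCard _
  have h11 : 11 ∣ Nat.card J1G := by rw [← e11]; exact orderOf_dvd_natCard _
  have h19 : 19 ∣ Nat.card J1G := by rw [← e19]; exact orderOf_dvd_natCard _
  exact j1_arith _ hle Nat.card_pos h8 h3 h5 h7 h11 h19

end Cfsg.Agent.Lib.helper4
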