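import Mathlib

set_option autoImplicit false

/-! A finite group with two self-centralising cyclic subgroups of prime orders `p` and `q`, each
with normal closure the whole group, is simple as soon as no divisor `m ≠ 1` of the group order is
congruent to `1` modulo both `p` and `q`. -/

namespace Cfsg.Agent.Lib.helper4

theorem mem_of_zpow_mem_of_prime {G : Type*} [Group G] (N : Subgroup G) (u : G) (p : ℕ)
    (hp : p.Prime) (hu : orderOf u = p) (k : ℤ) (hk : u ^ k ∈ N) (hne : u ^ k ≠ 1) : u ∈ N := by
  have h1 : ¬ ((p : ℤ) ∣ k) := by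
    intro h
    apply hne
    rw [← hu] at h
    exact orderOf_dvd_iff_zpow_eq_one.1 h
  have h2 : Int.gcd k p = 1 := by
    rw [Int.gcd_comm]
    have : Nat.Coprime p k.natAbs := by
      rw [Nat.Prime.coprime_iff_not_dvd hp]
      intro h
      exact h1 (Int.natCast_dvd.2 h)
    simpa [Int.gcd] using this
  have h3 := Int.gcd_eq_gcd_ab k p
  rw [h2] at h3
  have h4 : u = (u ^ k) ^ (Int.gcdA k p) := by
    have h5 : u ^ ((p : ℤ) * Int.gcdB k p) = 1 := by
      rw [zpow_mul, zpow_natCast, ← hu, pow_orderOf_eq_one, one_zpow]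
    calc u = u ^ (1 : ℤ) := (zpow_one u).symm
      _ = u ^ (k * Int.gcdA k p + p * Int.gcdB k p) := by rw [← h3]; norm_num
      _ = (u ^ k) ^ (Int.gcdA k p) := by rw [zpow_add, h5, mul_one, zpow_mul]
  rw [h4]
  exact Subgroup.zpow_mem N hk _

theorem card_modEq_one_of_not_mem {G : Type*} [Group G] (N : Subgroup G) [hN : N.Normal]
    [Finite N] (u : G) (p : ℕ) [hp : Fact p.Prime] (hu : orderOf u = p)
    (hC : ∀ z : G, z * u = u * z → z ∈ Subgroup.zpowers u) (huN : u ∉ N) :
    Nat.card N ≡ 1 [MOD p] := by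
  have hP : IsPGroup p (Subgroup.zpowers u) :=
    IsPGroup.of_card (n := 1) (by rw [pow_one, Nat.card_zpowers, hu])
  letI : MulAction (Subgroup.zpowers u) N :=
    { smul := fun g n => ⟨g.val * n.val * g.val⁻¹, hN.conj_mem n.val n.2 g.val⟩
      one_smul := by
        intro n
        apply Subtype.ext
        show (1 : G) * n.val * (1 : G)⁻¹ = n.val
        simp
      mul_smul := by
        intro a b n
        apply Subtype.ext
        show (a.val * b.val) * n.val * (a.val * b.val)⁻¹ = a.val * (b.val * n.val * b.val⁻¹) * a.val⁻¹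
        simp [mul_assoc] }
  have hsmul : ∀ (g : Subgroup.zpowers u) (n : N), (g • n).val = g.val * n.val * g.val⁻¹ :=
    fun _ _ => rfl
  have key := hP.card_modEq_card_fixedPoints N
  have hfix : MulAction.fixedPoints (Subgroup.zpowers u) N = {1} := by
    ext n
    simp only [MulAction.mem_fixedPoints, Set.mem_singleton_iff]
    constructor
    · intro h
      have h1 := congrArg Subtype.val (h ⟨u, Subgroup.mem_zpowers u⟩)
      rw [hsmul] at h1
      have h3 : n.val * u = u * n.val := by
        calc n.val * u = (u * n.val * u⁻¹) * u := by rw [h1]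
          _ = u * n.val := by group
      obtain ⟨k, hk⟩ := Subgroup.mem_zpowers_iff.1 (hC n.val h3)
      by_contra hne
      apply huN
      apply mem_of_zpow_mem_of_prime N u p hp.out hu k
      · rw [hk]; exact n.2
      · rw [hk]
        intro h
        exact hne (Subtype.ext h)
    · rintro rfl g
      apply Subtype.ext
      rw [hsmul]
      simp
  rw [hfix] at key
  simpa using key

theorem isSimpleGroup_of_two_self_centralizing {G : Type*} [Group G] [Finite G] [Nontrivial G]
    (u x : G) (p q : ℕ) [hp : Fact p.Prime] [hq : Fact q.Prime]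
    (hu : orderOf u = p) (hx : orderOf x = q)
    (hCu : ∀ z : G, z * u = u * z → z ∈ Subgroup.zpowers u)
    (hCx : ∀ z : G, z * x = x * z → z ∈ Subgroup.zpowers x)
    (hNu : ∀ N : Subgroup G, N.Normal → u ∈ N → N = ⊤)
    (hNx : ∀ N : Subgroup G, N.Normal → x ∈ N → N = ⊤)
    (harith : ∀ m, m ∣ Nat.card G → m % p = 1 → m % q = 1 → m = 1) : IsSimpleGroup G := by
  refine ⟨fun N hN => ?_⟩
  by_cases h1 : u ∈ N
  · exact Or.inr (hNu N hN h1)
  by_cases h2 : x ∈ N
  · exact Or.inr (hNx N hN h2)
  left
  have c1 := card_modEq_one_of_not_mem N u p hu hCu h1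
  have c2 := card_modEq_one_of_not_mem N x q hx hCx h2
  have h3 : Nat.card N = 1 := by
    apply harith _ (Subgroup.card_subgroup_dvd_card N)
    · rw [c1, Nat.mod_eq_of_lt hp.out.one_lt]
    · rw [c2, Nat.mod_eq_of_lt hq.out.one_lt]
  exact Subgroup.card_eq_one.1 h3

end Cfsg.Agent.Lib.helper4
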