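import Mathlib
import Cfsg.Agent.Lib.helper4.J1Card
import Cfsg.Agent.Lib.helper4.SelfCent

set_option autoImplicit false

/-! The first Janko group is simple. -/

namespace Cfsg.Agent.Lib.helper4

attribute [local irreducible] j1H j1T j1a j1b j1c j1u j1t

theorem jgood_jpows (A : JMat) (hA : JGood A) (n : ℕ) (cur : JMat) (hc : JGood cur) :
    ∀ l ∈ jpows A n cur, JGood l ∧ ∃ k : ℕ, jel l = jel cur * jel A ^ k := by
  induction n generalizing cur with
  | zero => simp [jpows]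
  | succ n ih =>
    simp only [jpows, jforce_eq]
    intro l hl
    rcases List.mem_cons.1 hl with rfl | hl
    · exact ⟨hc, 0, by simp⟩
    · obtain ⟨h1, k, hk⟩ := ih (jmul cur A) (jgood_jmul hc hA) l hl
      exact ⟨h1, k + 1, by rw [hk, jel_jmul hc hA, pow_succ', mul_assoc]⟩

theorem j1_cent (H : J1Hyp) (s : JMat) (L : List JMat → List JMat → JMat → List JMat)
    (hs : JGood s) (hchk : j1CentChk s L = true) (g : J1G) (hg : g * jel s = jel s * g) :
    ∃ l ∈ L j1H j1T s, g = jel l := by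
  unfold j1CentChk at hchk
  rw [jforces_eq, jforces_eq, jforce_eq, jforce_eq, jforces_eq] at hchk
  simp only [jforce_eq] at hchk
  rw [jforces_eq, List.all_eq_true] at hchk
  obtain ⟨h, hh, B, hB, rfl⟩ := j1_rep H g
  have h1 := j1All_map _ _ _ (hchk B hB) h hh
  have hgh := (jgood_j1H h hh).1
  have hgB := jgood_j1T B hB
  have hgst := jgood_jtr hs
  have hght := jgood_jtr hgh
  have e1 : jel (jmulT (jmulT B (jtr s)) B) = jel B * jel s * (jel B)⁻¹ := by
    rw [jel_jmulT (jgood_jmulT hgB hgst) hgB, jel_jmulT hgB hgst, jel_jtr hs, inv_inv]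
  have e2 : jel (jmulT (jmulT (jtr h) (jtr s)) (jtr h)) = (jel h)⁻¹ * jel s * jel h := by
    rw [jel_jmulT (jgood_jmulT hght hgst) hght, jel_jmulT hght hgst, jel_jtr hs, jel_jtr hgh,
      inv_inv, inv_inv]
  have e3 : jel B * jel s * (jel B)⁻¹ = (jel h)⁻¹ * jel s * jel h := by
    have : jel B * jel s = (jel h)⁻¹ * jel s * jel h * jel B := by
      calc jel B * jel s = (jel h)⁻¹ * (jel h * jel B * jel s) := by group
        _ = (jel h)⁻¹ * (jel s * (jel h * jel B)) := by rw [hg]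
        _ = (jel h)⁻¹ * jel s * jel h * jel B := by group
    rw [this]
    group
  have e4 : jmulT (jmulT B (jtr s)) B = jmulT (jmulT (jtr h) (jtr s)) (jtr h) :=
    jel_inj (jgood_jmulT (jgood_jmulT hgB hgst) hgB) (jgood_jmulT (jgood_jmulT hght hgst) hght)
      (by rw [e1, e2, e3])
  rw [e4, (jbeq_iff _ _).2 rfl, Bool.not_true, Bool.false_or, jelem_iff] at h1
  exact ⟨jmul h B, h1, (jel_jmul hgh hgB).symm⟩

theorem j1_cent_pows (H : J1Hyp) (s : JMat) (n : ℕ) (hs : JGood s)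
    (hchk : j1CentChk s (fun _ _ s => jpows s n jone) = true) (z : J1G)
    (hz : z * jel s = jel s * z) : z ∈ Subgroup.zpowers (jel s) := by
  obtain ⟨l, hl, rfl⟩ := j1_cent H s _ hs hchk z hz
  obtain ⟨-, k, hk⟩ := jgood_jpows s hs n jone jgood_jone l hl
  rw [hk, jel_jone, one_mul]
  exact Subgroup.pow_mem _ (Subgroup.mem_zpowers _) k

theorem j1_prod (s t : JMat) (a b : ℕ × ℕ) (hs : JGood s)
    (hchk : j1ProdChk s t a b = true) :
    ∃ g1 g2 : J1G, jel t = (g1 * jel s * g1⁻¹) * (g2 * jel s * g2⁻¹) := by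
  unfold j1ProdChk at hchk
  rw [jforces_eq, jforces_eq, jforce_eq, jforce_eq, jforce_eq, jbeq_iff] at hchk
  have hc : ∀ kp, JGood (jconj (j1At j1H j1T kp) s) ∧
      jel (jconj (j1At j1H j1T kp) s) =
        jel (j1At j1H j1T kp) * jel s * (jel (j1At j1H j1T kp))⁻¹ := by
    intro kp
    have hg := jgood_j1At kp
    unfold jconj
    rw [jforce_eq, jforce_eq]
    exact ⟨jgood_jmulT (jgood_jmul hg hs) hg, by
      rw [jel_jmulT (jgood_jmul hg hs) hg, jel_jmul hg hs]⟩
  refine ⟨jel (j1At j1H j1T a), jel (j1At j1H j1T b), ?_⟩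
  rw [← hchk, jel_jmul (hc a).1 (hc b).1, (hc a).2, (hc b).2]

theorem j1_top_of_mem (N : Subgroup J1G) (hX : j1gX ∈ N) (hY : j1gY ∈ N) : N = ⊤ := by
  rw [eq_top_iff]
  rintro ⟨z, hz⟩ -
  refine Subgroup.closure_induction (p := fun z hz => (⟨z, hz⟩ : J1G) ∈ N) ?_ ?_ ?_ ?_ hz
  · intro x hx
    rcases hx with rfl | hx
    · exact hX
    · rw [Set.mem_singleton_iff] at hx
      subst hx
      exact hY
  · exact N.one_mem
  · intro a b ha hb iha ihb
    exact N.mul_mem iha ihb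
  · intro a ha iha
    exact N.inv_mem iha

theorem j1_arith2 (m : ℕ) (hm : m ∣ 175560) (h1 : m % 19 = 1) (h2 : m % 7 = 1) : m = 1 := by
  have hle : m ≤ 175560 := Nat.le_of_dvd (by norm_num) hm
  have h3 : m = 133 * (m / 133) + 1 := by omega
  have h4 : m / 133 < 1320 := by omega
  have key : ∀ k < 1320, (133 * k + 1) ∣ 175560 → k = 0 := by decide +kernel
  have h5 := key (m / 133) h4 (h3 ▸ hm)
  omega

theorem j1_normal_of_conj (N : Subgroup J1G) (hN : N.Normal) (s : J1G) (hs : s ∈ N) (t : J1G)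
    (h : ∃ g1 g2 : J1G, t = (g1 * s * g1⁻¹) * (g2 * s * g2⁻¹)) : t ∈ N := by
  obtain ⟨g1, g2, rfl⟩ := h
  exact N.mul_mem (hN.conj_mem s hs g1) (hN.conj_mem s hs g2)

theorem j1_simple (H : J1Hyp) (H2 : J1Hyp2) : IsSimpleGroup J1G := by
  have hcard := j1_card H H2
  haveI : Nontrivial J1G := by
    rw [← Finite.one_lt_card_iff_nontrivial, hcard]
    norm_num
  haveI : Fact (Nat.Prime 19) := ⟨by norm_num⟩
  haveI : Fact (Nat.Prime 7) := ⟨by norm_num⟩
  have eu := jel_order j1u 19 (by norm_num) jgood_j1u H2.h19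
  have ex := jel_order j1X 7 (by norm_num) jgood_j1X H2.h7
  have hXX : ∀ N : Subgroup J1G, N.Normal → jel j1X ∈ N → N = ⊤ := by
    intro N hN hx
    apply j1_top_of_mem N
    · rw [← jel_j1X]; exact hx
    · rw [← jel_j1Y]
      exact j1_normal_of_conj N hN _ hx _ (j1_prod j1X j1Y _ _ jgood_j1X H2.hyx)
  have hUU : ∀ N : Subgroup J1G, N.Normal → jel j1u ∈ N → N = ⊤ := by
    intro N hN hu
    apply j1_top_of_mem N
    · rw [← jel_j1X]
      exact j1_normal_of_conj N hN _ hu _ (j1_prod j1u j1X _ _ jgood_j1u H2.hxu)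
    · rw [← jel_j1Y]
      exact j1_normal_of_conj N hN _ hu _ (j1_prod j1u j1Y _ _ jgood_j1u H2.hyu)
  apply isSimpleGroup_of_two_self_centralizing (jel j1u) (jel j1X) 19 7 eu ex
    (j1_cent_pows H j1u 19 jgood_j1u H2.hCu) (j1_cent_pows H j1X 7 jgood_j1X H2.hCx) hUU hXX
  intro m hm h1 h2
  rw [hcard] at hm
  exact j1_arith2 m hm h1 h2

end Cfsg.Agent.Lib.helper4
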