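import Mathlib
import Cfsg.Agent.Lib.helper4.J1Simple
import Cfsg.Agent.Lib.helper4.J1ChkA
import Cfsg.Agent.Lib.helper4.J1ChkB
import Cfsg.Agent.Lib.helper4.J1ChkC
import Cfsg.Agent.Lib.helper4.J1ChkD
import Cfsg.Agent.Lib.helper4.J1ChkE
import Cfsg.Agent.Lib.helper4.J1ChkF
import Cfsg.Agent.Lib.helper4.J1ChkG

set_option autoImplicit false

/-! The first Janko group, the subgroup of `GL₇(11)` generated by the two explicit matrices, is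
simple of order 175560. -/

namespace Cfsg.Agent.Lib.helper4

theorem j1Hyp : J1Hyp := ⟨j1ChkH_a, j1ChkH_b, j1Chk_X, j1Chk_Y⟩

theorem j1Hyp2 : J1Hyp2 :=
  ⟨j1ChkE_ok, jOrdChk_c, jOrdChk_Y, jOrdChk_X, jOrdChk_a, jOrdChk_u, j1ProdChk_yx, j1ProdChk_xu,
    j1ProdChk_yu, j1CentChk_u, j1CentChk_X⟩

theorem j1_card_eq : Nat.card ↥Cfsg.Spor.J1 = 175560 := j1_card j1Hyp j1Hyp2

theorem j1_isSimpleGroup : IsSimpleGroup ↥Cfsg.Spor.J1 := j1_simple j1Hyp j1Hyp2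

end Cfsg.Agent.Lib.helper4
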