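import Mathlib
import Cfsg.Agent.Lib.helper4.J1Main
import Cfsg.Agent.Lib.helper4.J1ChkT
import Cfsg.Agent.Lib.helper4.CentC2A5

set_option autoImplicit false

/-! The centraliser of an involution of the first Janko group is `C₂ × A₅`. -/

namespace Cfsg.Agent.Lib.helper4

attribute [local irreducible] j1H j1T j1a j1b j1c j1u j1t

theorem j1Ct_length : j1Ct.length = 120 := by decide

theorem j1_cent_t_card :
    Nat.card (Subgroup.centralizer ({jel j1t} : Set J1G)) ≤ 120 := by
  classical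
  have hsub : ((Subgroup.centralizer ({jel j1t} : Set J1G) : Subgroup J1G) : Set J1G) ⊆
      (((j1CtList j1H j1T).map jel).toFinset : Set J1G) := by
    intro g hg
    rw [SetLike.mem_coe, Subgroup.mem_centralizer_iff] at hg
    have h1 : g * jel j1t = jel j1t * g := (hg (jel j1t) rfl).symm
    obtain ⟨l, hl, rfl⟩ := j1_cent j1Hyp j1t (fun H T _ => j1CtList H T) jgood_j1t j1CentChk_t g h1
    rw [Finset.mem_coe, List.mem_toFinset, List.mem_map]
    exact ⟨l, hl, rfl⟩
  calc Nat.card (Subgroup.centralizer ({jel j1t} : Set J1G))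
      = Set.ncard ((Subgroup.centralizer ({jel j1t} : Set J1G) : Subgroup J1G) : Set J1G) := by
        rw [← Nat.card_coe_set_eq]; rfl
    _ ≤ Set.ncard (((j1CtList j1H j1T).map jel).toFinset : Set J1G) :=
        Set.ncard_le_ncard hsub (Finset.finite_toSet _)
    _ = ((j1CtList j1H j1T).map jel).toFinset.card := Set.ncard_coe_finset _
    _ ≤ ((j1CtList j1H j1T).map jel).length := List.toFinset_card_le _
    _ = 120 := by rw [List.length_map, j1CtList, List.length_map, j1Ct_length]

theorem j1RelChk_spec (t x y : JMat)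
    (h : (jbeq (jpowF x 3 jone) jone && (jbeq (jpowF y 5 jone) jone &&
        ((jforce (jmul x y) fun xy => jbeq (jmul xy xy) jone) && (!(jbeq x jone) &&
          (jbeq (jmul x t) (jmul t x) && jbeq (jmul y t) (jmul t y)))))) = true) :
    jpowF x 3 jone = jone ∧ jpowF y 5 jone = jone ∧ jmul (jmul x y) (jmul x y) = jone ∧
      x ≠ jone ∧ jmul x t = jmul t x ∧ jmul y t = jmul t y := by
  rw [jforce_eq] at h
  simp only [Bool.and_eq_true, jbeq_iff, Bool.not_eq_true', ← Bool.not_eq_true] at h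
  exact h

theorem j1_rel_xy : ∃ x y : J1G, x ^ 3 = 1 ∧ y ^ 5 = 1 ∧ (x * y) ^ 2 = 1 ∧ x ≠ 1 ∧
    x * jel j1t = jel j1t * x ∧ y * jel j1t = jel j1t * y := by
  have h := j1RelChk_ok
  unfold j1RelChk at h
  rw [jforces_eq, jforces_eq, jforce_eq, jforce_eq, jforce_eq] at h
  obtain ⟨h1, h2, h3, h4, h5, h6⟩ := j1RelChk_spec _ _ _ h
  have hx := jgood_j1At (50, 1)
  have hy := jgood_j1At (72, 14)
  have ht := jgood_j1t
  refine ⟨jel (j1At j1H j1T (50, 1)), jel (j1At j1H j1T (72, 14)), ?_, ?_, ?_, ?_, ?_, ?_⟩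
  · have := (jgood_jpowF _ hx 3 jone jgood_jone).2
    rw [h1, jel_jone, one_mul] at this
    exact this.symm
  · have := (jgood_jpowF _ hy 5 jone jgood_jone).2
    rw [h2, jel_jone, one_mul] at this
    exact this.symm
  · have := jel_jmul (jgood_jmul hx hy) (jgood_jmul hx hy)
    rw [h3, jel_jone, jel_jmul hx hy] at this
    rw [pow_two]
    exact this.symm
  · intro h
    apply h4
    apply jel_inj hx jgood_jone
    rw [h, jel_jone]
  · rw [← jel_jmul hx ht, ← jel_jmul ht hx, h5]
  · rw [← jel_jmul hy ht, ← jel_jmul ht hy, h6]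

theorem j1_involution_centralizer : ∃ t : J1G, orderOf t = 2 ∧
    Nonempty (Subgroup.centralizer ({t} : Set J1G) ≃*
      Multiplicative (ZMod 2) × alternatingGroup (Fin 5)) := by
  obtain ⟨x, y, hx, hy, hxy, hx1, hxt, hyt⟩ := j1_rel_xy
  exact ⟨jel j1t, jel_order j1t 2 (by norm_num) jgood_j1t jOrdChk_t,
    centralizer_iso_c2_a5 (jel j1t) x y (jel_order j1t 2 (by norm_num) jgood_j1t jOrdChk_t)
      hx hy hxy hx1 hxt hyt j1_cent_t_card⟩

end Cfsg.Agent.Lib.helper4
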