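import Mathlib
import Cfsg.Agent.Lib.helper4.J1Defs

set_option autoImplicit false

/-! Kernel check for a Sylow 2-subgroup of the first Janko group with an element of order seven
acting on it. -/

namespace Cfsg.Agent.Lib.helper4

/-- the list of the eight products of three tables -/
def j1CubeList (e1 e2 e3 : JMat) : List JMat :=
  [jone, e1, e2, jmul e1 e2, e3, jmul e1 e3, jmul e2 e3, jmul (jmul e1 e2) e3]

/-- the conjugates `e₂ = a e₁ a⁻¹`, `e₃ = a e₂ a⁻¹` of `e₁ = j1t` under the table `a` at position
`(0, 45)` satisfy `a e₃ a⁻¹ = e₁e₂`, commute, and their eight products are distinct and closed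
under products -/
def j1CubeChk : Bool :=
  jforces j1H fun H => jforces j1T fun T => jforce j1t fun e1 =>
    jforce (j1At H T (0, 45)) fun a => jforce (jconj a e1) fun e2 => jforce (jconj a e2) fun e3 =>
      jbeq (jconj a e3) (jmul e1 e2) && (jbeq (jmul e1 e2) (jmul e2 e1) &&
        (jbeq (jmul e1 e3) (jmul e3 e1) && (jbeq (jmul e2 e3) (jmul e3 e2) &&
          (jforces (j1CubeList e1 e2 e3) fun L =>
            (L.all fun x => L.all fun y => jelem (jmul x y) L) && jnodup L))))

set_option maxRecDepth 10000000 in
theorem j1CubeChk_ok : j1CubeChk = true := by decide +kernel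

end Cfsg.Agent.Lib.helper4
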