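import Mathlib
import Cfsg.Prelude.Def_Sporadic_a
import Cfsg.Agent.Lib.helper3.Golay
import Cfsg.Agent.Lib.helper3.GolayPerm
import Cfsg.Agent.Lib.helper3.GolayOrbits
import Cfsg.Agent.Lib.helper4.M12Data

set_option autoImplicit false

namespace Cfsg.Agent.Lib.helper4

open Cfsg Cfsg.Agent.Lib.helper3
open scoped Pointwise

/-! ### generic stabilizer-chain reachability -/

theorem reach_gen (H : Subgroup (Equiv.Perm GolayPt)) (A : ℕ)
    (hA : ∀ g ∈ H, ∀ p, A.testBit (gidx p) = true → A.testBit (gidx (g p)) = true)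
    (base orb : List ℕ) (n : ℕ)
    (hlevel : ∀ i < n, ∀ q < 24, (orb.getD i 0).testBit q = true →
      ∃ g ∈ H, (∀ j < i, g (gpt (base.getD j 0)) = gpt (base.getD j 0)) ∧
        g (gpt (base.getD i 0)) = gpt q)
    (horb : ∀ i < n, ∀ q < 24, A.testBit q = true → (∀ j < i, q ≠ base.getD j 0) →
      (orb.getD i 0).testBit q = true)
    (hbase : ∀ j < n, base.getD j 0 < 24)
    (i : ℕ) (hi : i ≤ n) (x : ℕ → GolayPt) (hxA : ∀ j < i, A.testBit (gidx (x j)) = true)
    (hx : ∀ j < i, ∀ k < i, x j = x k → j = k) :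
    ∃ g ∈ H, ∀ j < i, g (x j) = gpt (base.getD j 0) := by
  induction i with
  | zero => exact ⟨1, H.one_mem, fun j hj => absurd hj (Nat.not_lt_zero j)⟩
  | succ i ih =>
    obtain ⟨g, hg, hgx⟩ := ih (by omega) (fun j hj => hxA j (by omega))
      (fun j hj k hk => hx j (by omega) k (by omega))
    have hq : ∀ j < i, gidx (g (x i)) ≠ base.getD j 0 := by
      intro j hj h
      have h1 : g (x i) = g (x j) := by
        rw [hgx j hj]
        apply gidx_injective
        rw [h, gidx_gpt (hbase j (by omega))]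
      have := hx i (by omega) j (by omega) (g.injective h1)
      omega
    have hAi : A.testBit (gidx (g (x i))) = true := hA g hg _ (hxA i (by omega))
    have horb' := horb i (by omega) (gidx (g (x i))) (gidx_lt _) hAi hq
    obtain ⟨h, hh, hfix, hmap⟩ := hlevel i (by omega) (gidx (g (x i))) (gidx_lt _) horb'
    refine ⟨h⁻¹ * g, H.mul_mem (H.inv_mem hh) hg, ?_⟩
    intro j hj
    rcases Nat.lt_succ_iff_lt_or_eq.1 hj with hj' | rfl
    · rw [Equiv.Perm.mul_apply, hgx j hj', Equiv.Perm.inv_eq_iff_eq, hfix j hj']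
    · rw [Equiv.Perm.mul_apply, Equiv.Perm.inv_eq_iff_eq, hmap, gpt_gidx]

/-! ### certificates -/

def findT (tr : List (List (List ℕ))) (base : List ℕ) (i q : ℕ) : List ℕ :=
  ((tr.getD i []).find? (fun L => L.getD (base.getD i 0) 0 == q)).getD []

def tGood (ex : List ℕ → Bool) (tr : List (List (List ℕ))) (base : List ℕ) (i q : ℕ) : Bool :=
  tblCheck (findT tr base i q) && ex (findT tr base i q) &&
    ((findT tr base i q).getD (base.getD i 0) 0 == q) &&
    (List.range i).all (fun j => (findT tr base i q).getD (base.getD j 0) 0 == base.getD j 0)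

def chainOK (ex : List ℕ → Bool) (tr : List (List (List ℕ))) (base orb : List ℕ) (n : ℕ) : Bool :=
  (List.range n).all fun i => (List.range 24).all fun q =>
    !(orb.getD i 0).testBit q || tGood ex tr base i q

theorem level_of_chainOK (H : Subgroup (Equiv.Perm GolayPt)) (ex : List ℕ → Bool)
    (hex : ∀ (L : List ℕ) (g : Equiv.Perm GolayPt), tblCheck L = true → ex L = true → g ∈ M24 →
      (∀ p, g p = tblFun L p) → g ∈ H)
    (tr : List (List (List ℕ))) (base orb : List ℕ) (n : ℕ)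
    (hbase : ∀ j < n, base.getD j 0 < 24)
    (hc : chainOK ex tr base orb n = true) :
    ∀ i < n, ∀ q < 24, (orb.getD i 0).testBit q = true →
      ∃ g ∈ H, (∀ j < i, g (gpt (base.getD j 0)) = gpt (base.getD j 0)) ∧
        g (gpt (base.getD i 0)) = gpt q := by
  intro i hi q hq h
  unfold chainOK at hc
  rw [List.all_eq_true] at hc
  have h1 := hc i (List.mem_range.2 hi)
  rw [List.all_eq_true] at h1
  have h2 := h1 q (List.mem_range.2 hq)
  rw [h] at h2
  simp only [Bool.not_true, Bool.false_or] at h2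
  unfold tGood at h2
  simp only [Bool.and_eq_true, beq_iff_eq, List.all_eq_true, List.mem_range] at h2
  obtain ⟨⟨⟨hchk, hexL⟩, hq'⟩, hfix⟩ := h2
  obtain ⟨g, hg, hgf⟩ := exists_perm_of_tblCheck hchk
  refine ⟨g, hex _ g hchk hexL hg hgf, ?_, ?_⟩
  · intro j hj
    rw [hgf, tblFun_gpt (hbase j (by omega)), hfix j hj]
  · rw [hgf, tblFun_gpt (hbase i hi), hq']

/-! ### the base dodecad and its stabilizers -/

def D0 : ℕ := 10743859

theorem D0_eq : D0 = golayMask 51 := by decide

/-- stabilizer of the base dodecad in `M24`, as a subgroup of the symmetric group -/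
def H12 : Subgroup (Equiv.Perm GolayPt) :=
  M24 ⊓ MulAction.stabilizer (Equiv.Perm GolayPt) (gset D0)

/-- stabilizer of the base dodecad and the point with index 0 -/
def H11 : Subgroup (Equiv.Perm GolayPt) :=
  H12 ⊓ MulAction.stabilizer (Equiv.Perm GolayPt) (gpt 0)

def ex12 (L : List ℕ) : Bool := permMask L D0 == D0

def ex11 (L : List ℕ) : Bool := ex12 L && (L.getD 0 0 == 0)

theorem hex12 (L : List ℕ) (g : Equiv.Perm GolayPt) (hchk : tblCheck L = true)
    (hexL : ex12 L = true) (hg : g ∈ M24) (hgf : ∀ p, g p = tblFun L p) : g ∈ H12 := by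
  refine Subgroup.mem_inf.mpr ⟨hg, ?_⟩
  rw [MulAction.mem_stabilizer_iff]
  obtain ⟨hlen, hlt, -, -⟩ := tblCheck_spec hchk
  have := smul_gset_permMask hlt hlen g hgf D0
  unfold ex12 at hexL
  rw [beq_iff_eq] at hexL
  rw [hexL] at this
  exact this

theorem hex11 (L : List ℕ) (g : Equiv.Perm GolayPt) (hchk : tblCheck L = true)
    (hexL : ex11 L = true) (hg : g ∈ M24) (hgf : ∀ p, g p = tblFun L p) : g ∈ H11 := by
  unfold ex11 at hexL
  rw [Bool.and_eq_true, beq_iff_eq] at hexL
  refine Subgroup.mem_inf.mpr ⟨hex12 L g hchk hexL.1 hg hgf, ?_⟩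
  rw [MulAction.mem_stabilizer_iff]
  change g (gpt 0) = gpt 0
  rw [hgf, tblFun_gpt (by norm_num), hexL.2]

set_option maxRecDepth 1000000 in
theorem chainOK12 : chainOK ex12 m12Trans m12Base m12Orb 5 = true := by decide +kernel

set_option maxRecDepth 1000000 in
theorem chainOK11 : chainOK ex11 m11Trans m11Base m11Orb 3 = true := by decide +kernel

theorem inv_D0_of_mem_H12 {g : Equiv.Perm GolayPt} (hg : g ∈ H12) : Inv g D0 :=
  inv_of_smul_gset_eq (MulAction.mem_stabilizer_iff.mp (Subgroup.mem_inf.mp hg).2)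

theorem m12Base_lt : ∀ j < 5, m12Base.getD j 0 < 24 := by decide

theorem m11Base_lt : ∀ j < 3, m11Base.getD j 0 < 24 := by decide

theorem horb12 : ∀ i < 5, ∀ q < 24, D0.testBit q = true → (∀ j < i, q ≠ m12Base.getD j 0) →
    (m12Orb.getD i 0).testBit q = true := by decide +kernel

theorem horb11 : ∀ i < 3, ∀ q < 24, (16777215 ^^^ D0).testBit q = true →
    (∀ j < i, q ≠ m11Base.getD j 0) → (m11Orb.getD i 0).testBit q = true := by decide +kernel

theorem reach12 (i : ℕ) (hi : i ≤ 5) (x : ℕ → GolayPt) (hxA : ∀ j < i, x j ∈ gset D0)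
    (hx : ∀ j < i, ∀ k < i, x j = x k → j = k) :
    ∃ g ∈ H12, ∀ j < i, g (x j) = gpt (m12Base.getD j 0) := by
  apply reach_gen H12 D0 ?_ m12Base m12Orb 5
    (level_of_chainOK H12 ex12 hex12 m12Trans m12Base m12Orb 5 m12Base_lt chainOK12)
    horb12 m12Base_lt i hi x (fun j hj => mem_gset.mp (hxA j hj)) hx
  intro g hg p hp
  rw [inv_D0_of_mem_H12 hg p]
  exact hp

theorem reach11 (i : ℕ) (hi : i ≤ 3) (x : ℕ → GolayPt) (hxA : ∀ j < i, x j ∉ gset D0)
    (hx : ∀ j < i, ∀ k < i, x j = x k → j = k) :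
    ∃ g ∈ H11, ∀ j < i, g (x j) = gpt (m11Base.getD j 0) := by
  have hcompl : ∀ p : GolayPt, (16777215 ^^^ D0).testBit (gidx p) = true ↔ p ∉ gset D0 := by
    intro p
    rw [mem_gset, Nat.testBit_xor, testBit_full ⟨gidx p, gidx_lt p⟩]
    cases D0.testBit (gidx p) <;> simp
  apply reach_gen H11 (16777215 ^^^ D0) ?_ m11Base m11Orb 3
    (level_of_chainOK H11 ex11 hex11 m11Trans m11Base m11Orb 3 m11Base_lt chainOK11)
    horb11 m11Base_lt i hi x (fun j hj => (hcompl _).mpr (hxA j hj)) hx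
  intro g hg p hp
  rw [hcompl] at hp ⊢
  rw [mem_gset] at hp ⊢
  rw [inv_D0_of_mem_H12 (Subgroup.mem_inf.mp hg).1 p]
  exact hp

end Cfsg.Agent.Lib.helper4
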