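import Mathlib
import Cfsg.Prelude.Def_Sporadic_a
import Cfsg.Agent.Lib.helper3.GolayCard
import Cfsg.Agent.Lib.helper3.GolayCert
import Cfsg.Agent.Lib.helper3.GolayOrder

set_option autoImplicit false

namespace Cfsg.Agent.Lib.helper4

open Cfsg

theorem card_stabilizer_mul_card {G α : Type*} [Group G] [MulAction G α] [Finite G]
    [MulAction.IsPretransitive G α] (a : α) :
    Nat.card (MulAction.stabilizer G a) * Nat.card α = Nat.card G := by
  rw [← MulAction.index_stabilizer_of_transitive G a]
  exact Subgroup.card_mul_index _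

theorem card_stabilizer_emb_mul_card {G α : Type*} [Group G] [MulAction G α] [Finite G] (n : ℕ)
    [h : MulAction.IsMultiplyPretransitive G α n] (x : Fin n ↪ α) :
    Nat.card (MulAction.stabilizer G x) * Nat.card (Fin n ↪ α) = Nat.card G :=
  card_stabilizer_mul_card x

theorem mem_stabilizer_emb_iff {G α : Type*} [Group G] [MulAction G α] {n : ℕ} (x : Fin n ↪ α)
    (g : G) : g ∈ MulAction.stabilizer G x ↔ ∀ i, g • x i = x i := by
  rw [MulAction.mem_stabilizer_iff]
  constructor
  · intro h i
    rw [← Function.Embedding.smul_apply, h]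
  · intro h
    ext i
    rw [Function.Embedding.smul_apply, h]

theorem stabilizer_embedding_two {G α : Type*} [Group G] [MulAction G α] (p q : α) (hpq : p ≠ q) :
    MulAction.stabilizer G (Function.Embedding.embFinTwo hpq) =
      MulAction.stabilizer G p ⊓ MulAction.stabilizer G q := by
  ext g
  rw [Subgroup.mem_inf, mem_stabilizer_emb_iff, MulAction.mem_stabilizer_iff,
    MulAction.mem_stabilizer_iff]
  constructor
  · intro h
    exact ⟨h 0, h 1⟩
  · rintro ⟨h1, h2⟩ i
    fin_cases i
    · exact h1
    · exact h2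

theorem card_golayPt : Nat.card GolayPt = 24 := by
  unfold GolayPt
  rw [Nat.card_eq_fintype_card, Fintype.card_option, ZMod.card]

instance M24_fivefold_inst : MulAction.IsMultiplyPretransitive M24 GolayPt 5 :=
  Cfsg.Agent.Lib.helper3.M24_fivefold

theorem M24_pretrans_le (n : ℕ) (hn : n ≤ 5) : MulAction.IsMultiplyPretransitive M24 GolayPt n :=
  MulAction.isMultiplyPretransitive_of_le (n := 5) hn (by rw [card_golayPt]; norm_num)

theorem M24_two : MulAction.IsMultiplyPretransitive M24 GolayPt 2 := M24_pretrans_le 2 (by norm_num)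

theorem M24_pretransitive : MulAction.IsPretransitive M24 GolayPt :=
  haveI := M24_two
  MulAction.isPretransitive_of_is_two_pretransitive

instance finite_M24 : Finite M24 := Subtype.finite

theorem card_emb_golayPt (n : ℕ) :
    Nat.card (Fin n ↪ GolayPt) = Nat.descFactorial 24 n := by
  rw [Nat.card_eq_fintype_card, Fintype.card_embedding_eq, Fintype.card_fin,
    ← Nat.card_eq_fintype_card, card_golayPt]

theorem card_M23 (p : GolayPt) : Nat.card (MulAction.stabilizer M24 p) = 10200960 := by
  haveI := M24_pretransitive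
  have h := card_stabilizer_mul_card (G := M24) p
  rw [card_golayPt, Cfsg.Agent.Lib.helper3.card_M24] at h
  omega

theorem card_M22 (p q : GolayPt) (hpq : p ≠ q) :
    Nat.card ↥(MulAction.stabilizer M24 p ⊓ MulAction.stabilizer M24 q) = 443520 := by
  haveI := M24_two
  have h := card_stabilizer_emb_mul_card (G := M24) 2 (Function.Embedding.embFinTwo hpq)
  rw [stabilizer_embedding_two, Cfsg.Agent.Lib.helper3.card_M24, card_emb_golayPt] at h
  have hc : Nat.descFactorial 24 2 = 552 := rfl
  rw [hc] at h
  omega

end Cfsg.Agent.Lib.helper4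

namespace Cfsg.Agent.Lib.helper4

open Cfsg
open scoped Pointwise

theorem orbit_dodecad (d : Finset GolayPt) (hd : d ∈ dodecads) :
    MulAction.orbit M24 d = dodecads := by
  ext d'
  constructor
  · rintro ⟨g, rfl⟩
    exact Cfsg.Agent.Lib.helper3.smul_wordsOfWeight_of_mem_M24 g.2 12 d hd
  · intro hd'
    obtain ⟨g, hg⟩ := Cfsg.Agent.Lib.helper3.dodecads_transitive hd hd'
    exact ⟨g, hg⟩

theorem card_M12 (d : Finset GolayPt) (hd : d ∈ dodecads) :
    Nat.card (MulAction.stabilizer M24 d) = 95040 := by
  have h1 := MulAction.index_stabilizer M24 d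
  rw [orbit_dodecad d hd, Cfsg.Agent.Lib.helper3.dodecads_ncard] at h1
  have h2 := Subgroup.card_mul_index (MulAction.stabilizer M24 d)
  rw [h1, Cfsg.Agent.Lib.helper3.card_M24] at h2
  omega

end Cfsg.Agent.Lib.helper4
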