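import Mathlib
import Cfsg.Prelude.Def_Sporadic_a
import Cfsg.Agent.Lib.helper3.GolayOrder
import Cfsg.Agent.Lib.helper4.M12Cert
import Cfsg.Agent.Lib.helper4.M24Stab

set_option autoImplicit false

namespace Cfsg.Agent.Lib.helper4

open Cfsg Cfsg.Agent.Lib.helper3
open scoped Pointwise

theorem reach12_emb (n : ℕ) (hn : n ≤ 5) (x : Fin n ↪ GolayPt) (hx : ∀ i, x i ∈ gset D0) :
    ∃ g ∈ H12, ∀ j : Fin n, g (x j) = gpt (m12Base.getD j 0) := by
  obtain ⟨g, hg, h⟩ := reach12 n hn (fun j => if h : j < n then x ⟨j, h⟩ else none) (by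
      intro j hj
      simp only [hj, dif_pos]
      exact hx _) (by
    intro j hj k hk hjk
    simp only [hj, hk, dif_pos] at hjk
    have := x.injective hjk
    simpa using this)
  refine ⟨g, hg, fun j => ?_⟩
  have := h j.val j.isLt
  simpa using this

theorem reach11_emb (n : ℕ) (hn : n ≤ 3) (x : Fin n ↪ GolayPt) (hx : ∀ i, x i ∉ gset D0) :
    ∃ g ∈ H11, ∀ j : Fin n, g (x j) = gpt (m11Base.getD j 0) := by
  obtain ⟨g, hg, h⟩ := reach11 n hn (fun j => if h : j < n then x ⟨j, h⟩ else none) (by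
      intro j hj
      simp only [hj, dif_pos]
      exact hx _) (by
    intro j hj k hk hjk
    simp only [hj, hk, dif_pos] at hjk
    have := x.injective hjk
    simpa using this)
  refine ⟨g, hg, fun j => ?_⟩
  have := h j.val j.isLt
  simpa using this

theorem H12_trans (n : ℕ) (hn : n ≤ 5) (x y : Fin n ↪ GolayPt) (hx : ∀ i, x i ∈ gset D0)
    (hy : ∀ i, y i ∈ gset D0) : ∃ g ∈ H12, ∀ j, g (x j) = y j := by
  obtain ⟨g, hg, hgx⟩ := reach12_emb n hn x hx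
  obtain ⟨g', hg', hgy⟩ := reach12_emb n hn y hy
  refine ⟨g'⁻¹ * g, H12.mul_mem (H12.inv_mem hg') hg, fun j => ?_⟩
  rw [Equiv.Perm.mul_apply, hgx, Equiv.Perm.inv_eq_iff_eq, hgy]

theorem H11_trans (n : ℕ) (hn : n ≤ 3) (x y : Fin n ↪ GolayPt) (hx : ∀ i, x i ∉ gset D0)
    (hy : ∀ i, y i ∉ gset D0) : ∃ g ∈ H11, ∀ j, g (x j) = y j := by
  obtain ⟨g, hg, hgx⟩ := reach11_emb n hn x hx
  obtain ⟨g', hg', hgy⟩ := reach11_emb n hn y hy
  refine ⟨g'⁻¹ * g, H11.mul_mem (H11.inv_mem hg') hg, fun j => ?_⟩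
  rw [Equiv.Perm.mul_apply, hgx, Equiv.Perm.inv_eq_iff_eq, hgy]

theorem mem_H12_iff {g : Equiv.Perm GolayPt} : g ∈ H12 ↔ g ∈ M24 ∧ g • gset D0 = gset D0 := by
  unfold H12
  rw [Subgroup.mem_inf]
  exact Iff.rfl

theorem mem_H11_iff {g : Equiv.Perm GolayPt} :
    g ∈ H11 ↔ g ∈ M24 ∧ g • gset D0 = gset D0 ∧ g (gpt 0) = gpt 0 := by
  unfold H11
  rw [Subgroup.mem_inf, mem_H12_iff, and_assoc]
  exact Iff.rfl

/-- move an arbitrary dodecad to the base dodecad -/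
theorem dodecad_to_D0 {d : Finset GolayPt} (hd : d ∈ dodecads) :
    ∃ h : Equiv.Perm GolayPt, h ∈ M24 ∧ h • d = gset D0 := by
  obtain ⟨h, hh, hd'⟩ := dodecad_to_base hd
  exact ⟨h, hh, by rw [hd', D0_eq]⟩

/-- move an arbitrary dodecad with a marked point to the base dodecad with the point `0` -/
theorem dodecad_pt_to_D0 {d : Finset GolayPt} (hd : d ∈ dodecads) {p : GolayPt} (hp : p ∈ d) :
    ∃ h : Equiv.Perm GolayPt, h ∈ M24 ∧ h • d = gset D0 ∧ h p = gpt 0 := by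
  obtain ⟨h, hh, hd'⟩ := dodecad_to_D0 hd
  have hp' : h p ∈ gset D0 := by
    rw [← hd']
    exact Finset.smul_mem_smul_finset hp
  let x : Fin 1 ↪ GolayPt := ⟨fun _ => h p, fun a b _ => Subsingleton.elim a b⟩
  obtain ⟨g, hg, hgx⟩ := reach12_emb 1 (by norm_num) x (fun _ => hp')
  rw [mem_H12_iff] at hg
  refine ⟨g * h, M24.mul_mem hg.1 hh, ?_, ?_⟩
  · rw [mul_smul, hd', hg.2]
  · have := hgx 0
    rw [Equiv.Perm.mul_apply]
    exact this

theorem dodecad_trans (d : Finset GolayPt) (hd : d ∈ dodecads) (n : ℕ) (hn : n ≤ 5)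
    (x y : Fin n ↪ GolayPt) (hx : ∀ i, x i ∈ d) (hy : ∀ i, y i ∈ d) :
    ∃ g : Equiv.Perm GolayPt, g ∈ M24 ∧ g • d = d ∧ ∀ i, g (x i) = y i := by
  obtain ⟨h, hh, hd'⟩ := dodecad_to_D0 hd
  let x' : Fin n ↪ GolayPt := x.trans h.toEmbedding
  let y' : Fin n ↪ GolayPt := y.trans h.toEmbedding
  have hx' : ∀ i, x' i ∈ gset D0 := by
    intro i
    rw [← hd']
    exact Finset.smul_mem_smul_finset (hx i)
  have hy' : ∀ i, y' i ∈ gset D0 := by
    intro i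
    rw [← hd']
    exact Finset.smul_mem_smul_finset (hy i)
  obtain ⟨g, hg, hgx⟩ := H12_trans n hn x' y' hx' hy'
  rw [mem_H12_iff] at hg
  refine ⟨h⁻¹ * g * h, M24.mul_mem (M24.mul_mem (M24.inv_mem hh) hg.1) hh, ?_, ?_⟩
  · rw [mul_smul, mul_smul, hd', hg.2, ← hd', inv_smul_smul]
  · intro i
    have := hgx i
    rw [Equiv.Perm.mul_apply, Equiv.Perm.mul_apply, Equiv.Perm.inv_eq_iff_eq]
    exact this

theorem dodecad_pt_trans (d : Finset GolayPt) (hd : d ∈ dodecads) (p : GolayPt) (hp : p ∈ d)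
    (n : ℕ) (hn : n ≤ 3)
    (x y : Fin n ↪ GolayPt) (hx : ∀ i, x i ∉ d) (hy : ∀ i, y i ∉ d) :
    ∃ g : Equiv.Perm GolayPt, g ∈ M24 ∧ g • d = d ∧ g p = p ∧ ∀ i, g (x i) = y i := by
  obtain ⟨h, hh, hd', hp'⟩ := dodecad_pt_to_D0 hd hp
  let x' : Fin n ↪ GolayPt := x.trans h.toEmbedding
  let y' : Fin n ↪ GolayPt := y.trans h.toEmbedding
  have hx' : ∀ i, x' i ∉ gset D0 := by
    intro i hi
    rw [← hd'] at hi
    exact hx i (Finset.smul_mem_smul_finset_iff h |>.mp hi)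
  have hy' : ∀ i, y' i ∉ gset D0 := by
    intro i hi
    rw [← hd'] at hi
    exact hy i (Finset.smul_mem_smul_finset_iff h |>.mp hi)
  obtain ⟨g, hg, hgx⟩ := H11_trans n hn x' y' hx' hy'
  rw [mem_H11_iff] at hg
  refine ⟨h⁻¹ * g * h, M24.mul_mem (M24.mul_mem (M24.inv_mem hh) hg.1) hh, ?_, ?_, ?_⟩
  · rw [mul_smul, mul_smul, hd', hg.2.1, ← hd', inv_smul_smul]
  · rw [Equiv.Perm.mul_apply, Equiv.Perm.mul_apply, Equiv.Perm.inv_eq_iff_eq, hp', hg.2.2]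
  · intro i
    have := hgx i
    rw [Equiv.Perm.mul_apply, Equiv.Perm.mul_apply, Equiv.Perm.inv_eq_iff_eq]
    exact this

end Cfsg.Agent.Lib.helper4
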