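import Mathlib
import Cfsg.Prelude.Def_Sporadic_a
import Cfsg.Agent.Lib.helper4.M12Trans

set_option autoImplicit false

namespace Cfsg.Agent.Lib.helper4

open Cfsg Cfsg.Agent.Lib.helper3
open scoped Pointwise

theorem card_inf_stabilizer {G α : Type*} [Group G] [MulAction G α] (H : Subgroup G) (a : α) :
    Nat.card ↥(H ⊓ MulAction.stabilizer G a) = Nat.card (MulAction.stabilizer H a) :=
  Nat.card_congr
    { toFun := fun g => ⟨⟨g.1, (Subgroup.mem_inf.mp g.2).1⟩, (Subgroup.mem_inf.mp g.2).2⟩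
      invFun := fun g => ⟨g.1.1, Subgroup.mem_inf.mpr ⟨g.1.2, g.2⟩⟩
      left_inv := fun _ => rfl
      right_inv := fun _ => rfl }

theorem dodecad_card {d : Finset GolayPt} (hd : d ∈ dodecads) : d.card = 12 := hd.2

/-- the orbit of a point of a dodecad under the dodecad stabilizer is the dodecad -/
theorem orbit_stab_dodecad (d : Finset GolayPt) (hd : d ∈ dodecads) (p : GolayPt) (hp : p ∈ d) :
    MulAction.orbit (MulAction.stabilizer M24 d) p = (d : Set GolayPt) := by
  ext q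
  constructor
  · rintro ⟨h, rfl⟩
    have h2 : (h : M24) • d = d := MulAction.mem_stabilizer_iff.mp h.2
    rw [Finset.mem_coe]
    have : (h : M24) • p ∈ (h : M24) • d := Finset.smul_mem_smul_finset hp
    rw [h2] at this
    exact this
  · intro hq
    rw [Finset.mem_coe] at hq
    let x : Fin 1 ↪ GolayPt := ⟨fun _ => p, fun a b _ => Subsingleton.elim a b⟩
    let y : Fin 1 ↪ GolayPt := ⟨fun _ => q, fun a b _ => Subsingleton.elim a b⟩
    obtain ⟨g, hg, hgd, hgx⟩ := dodecad_trans d hd 1 (by norm_num) x y (fun _ => hp) (fun _ => hq)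
    refine ⟨⟨⟨g, hg⟩, ?_⟩, ?_⟩
    · rw [MulAction.mem_stabilizer_iff]
      exact hgd
    · exact hgx 0

theorem card_M11 (d : Finset GolayPt) (hd : d ∈ dodecads) (p : GolayPt) (hp : p ∈ d) :
    Nat.card ↥(MulAction.stabilizer M24 d ⊓ MulAction.stabilizer M24 p) = 7920 := by
  rw [card_inf_stabilizer]
  have h1 := MulAction.index_stabilizer (MulAction.stabilizer M24 d) p
  rw [orbit_stab_dodecad d hd p hp, Set.ncard_coe_finset, dodecad_card hd] at h1
  have h2 := Subgroup.card_mul_index (MulAction.stabilizer (MulAction.stabilizer M24 d) p)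
  rw [h1, card_M12 d hd] at h2
  omega

/-- embeddings into a dodecad -/
def embInEquiv (d : Finset GolayPt) (n : ℕ) :
    {y : Fin n ↪ GolayPt // ∀ i, y i ∈ d} ≃ (Fin n ↪ {p : GolayPt // p ∈ d}) where
  toFun y := ⟨fun i => ⟨y.1 i, y.2 i⟩, fun a b h => y.1.injective (Subtype.ext_iff.mp h)⟩
  invFun z := ⟨z.trans (Function.Embedding.subtype _), fun i => (z i).2⟩
  left_inv _ := rfl
  right_inv _ := rfl

theorem ncard_embIn (d : Finset GolayPt) (hd : d ∈ dodecads) :
    {y : Fin 5 ↪ GolayPt | ∀ i, y i ∈ d}.ncard = 95040 := by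
  rw [← Nat.card_coe_set_eq]
  have e : ↥{y : Fin 5 ↪ GolayPt | ∀ i, y i ∈ d} ≃ (Fin 5 ↪ {p : GolayPt // p ∈ d}) :=
    embInEquiv d 5
  rw [Nat.card_congr e, Nat.card_eq_fintype_card, Fintype.card_embedding_eq, Fintype.card_fin,
    Fintype.card_coe, dodecad_card hd]
  rfl

theorem orbit_emb_stab_dodecad (d : Finset GolayPt) (hd : d ∈ dodecads) (x : Fin 5 ↪ GolayPt)
    (hx : ∀ i, x i ∈ d) :
    MulAction.orbit (MulAction.stabilizer M24 d) x = {y : Fin 5 ↪ GolayPt | ∀ i, y i ∈ d} := by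
  ext y
  constructor
  · rintro ⟨h, rfl⟩ i
    have h2 : (h : M24) • d = d := MulAction.mem_stabilizer_iff.mp h.2
    have : (h : M24) • (x i) ∈ (h : M24) • d := Finset.smul_mem_smul_finset (hx i)
    rw [h2] at this
    exact this
  · intro hy
    obtain ⟨g, hg, hgd, hgx⟩ := dodecad_trans d hd 5 le_rfl x y hx hy
    refine ⟨⟨⟨g, hg⟩, ?_⟩, ?_⟩
    · rw [MulAction.mem_stabilizer_iff]
      exact hgd
    · apply Function.Embedding.ext
      intro i
      exact hgx i

theorem stab_emb_eq_bot (d : Finset GolayPt) (hd : d ∈ dodecads) (x : Fin 5 ↪ GolayPt)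
    (hx : ∀ i, x i ∈ d) : MulAction.stabilizer (MulAction.stabilizer M24 d) x = ⊥ := by
  have h1 : (MulAction.stabilizer (MulAction.stabilizer M24 d) x).index = 95040 := by
    rw [MulAction.index_stabilizer, ← ncard_embIn d hd]
    exact congrArg Set.ncard (orbit_emb_stab_dodecad d hd x hx)
  have h2 := Subgroup.card_mul_index (MulAction.stabilizer (MulAction.stabilizer M24 d) x)
  rw [h1, card_M12 d hd] at h2
  have h3 : Nat.card (MulAction.stabilizer (MulAction.stabilizer M24 d) x) = 1 := by omega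
  exact Subgroup.card_eq_one.mp h3

theorem sharp_five (d : Finset GolayPt) (hd : d ∈ dodecads) (x y : Fin 5 ↪ GolayPt)
    (hx : ∀ i, x i ∈ d) (hy : ∀ i, y i ∈ d) :
    ∃! g : MulAction.stabilizer M24 d,
      ∀ i, ((g : M24) : Equiv.Perm GolayPt) (x i) = y i := by
  obtain ⟨g, hg, hgd, hgx⟩ := dodecad_trans d hd 5 le_rfl x y hx hy
  have hmem : (⟨g, hg⟩ : M24) ∈ MulAction.stabilizer M24 d := by
    rw [MulAction.mem_stabilizer_iff]
    exact hgd
  refine ⟨⟨⟨g, hg⟩, hmem⟩, hgx, ?_⟩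
  intro g' hg'
  have hb := stab_emb_eq_bot d hd x hx
  have hin : (⟨⟨g, hg⟩, hmem⟩ : MulAction.stabilizer M24 d)⁻¹ * g' ∈
      MulAction.stabilizer (MulAction.stabilizer M24 d) x := by
    rw [MulAction.mem_stabilizer_iff, mul_smul, inv_smul_eq_iff]
    apply Function.Embedding.ext
    intro i
    change ((g' : M24) : Equiv.Perm GolayPt) (x i) = g (x i)
    rw [hg' i, hgx i]
  rw [hb, Subgroup.mem_bot, inv_mul_eq_one] at hin
  exact hin.symm

end Cfsg.Agent.Lib.helper4
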