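import Mathlib
import Cfsg.Prelude.Def_GeometricClasses
import Cfsg.Agent.Lib.Helper19.OU.Defs
import Cfsg.Agent.Lib.Helper13.OUFORM
import Cfsg.Agent.Lib.Helper1.OURSSUB
import Cfsg.Agent.Lib.Helper10.OUEXSS
import Cfsg.Agent.Lib.helper2.OUEXSP
import Cfsg.Agent.Lib.Helper20.OUKLIN
import Cfsg.Agent.Lib.Helper25.OUKLI

set_option autoImplicit false
set_option linter.unusedVariables false
set_option linter.unusedSectionVars false

/-!
# Project OU (S5700), piece MIX : `mix` (`Full1` everywhere gives a type-2 pair at every singular point)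
-/

namespace Cfsg.Agent.Lib.Helper19.OU

open Matrix Cfsg.Agent.Lib.Helper28.HForm Cfsg.Agent.Lib.Helper28.OGen
  Cfsg.Agent.Lib.Helper28.OMax Cfsg.Agent.Lib.Helper28.OQ Cfsg.Agent.Lib.Helper28.OMax2
  Cfsg.Agent.Lib.Helper28.OIwa Cfsg.Agent.Lib.Helper28.OPair

variable {n : ℕ} {F : Type*} [Field F] {Q : (Fin n → F) → F}
  {f : (Fin n → F) → (Fin n → F) → F} {θ : Matrix (Fin n) (Fin n) F} {t N : F}
  {G M : Subgroup (Matrix.GeneralLinearGroup (Fin n) F)}

/-- MIX [L] : `Full1` at all singular points gives a type-2 pair at every singular point.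
(`u'` singular, `f u u' = 0`, `f (θ u) u' = 1` (`ex_sing_solve` on `![u, θu]`, `j = 1`); `v` singular `⊥ K u ⊔ K u'`, outside
(`ex_sing_perp`); `v'` singular, `HO u v'`, `HO u' v'`, `f v v' = 1` (`ex_sing_solve` on `![u, θu, u', θu', v]` (`kl_li5`), `j = 4`);
`v ∈ RS M u`, `v' ∈ RS M u'` (`Full1`); `g = Tv f u v 1 ∈ M` (`rs_tv`) fixes `u'` and `g v' = v' - u`: `u ∈ RS M u'` (`rs_conj_fix`),
`u' ∈ RS M u` (`rs_symm`).) -/
theorem mix [Fintype F] (hn : 11 ≤ n) (ks : KS Q f θ t N) (am : Amb Q f θ G M)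
    (hall : ∀ x, Q x = 0 → x ≠ 0 → Full1 Q f θ M x) {u : Fin n → F} (hu : Q u = 0) (hu0 : u ≠ 0) :
    ∃ v, Q v = 0 ∧ f u v = 0 ∧ f (θ *ᵥ u) v ≠ 0 ∧ v ∈ RS Q f M u := by
  have hq := ks.hq
  have hf := hq.sym
  obtain ⟨hs1, hs2, hs3⟩ := ks_sing ks hu
  -- (a) `u'`
  obtain ⟨u', hu', hau'⟩ := ex_sing_solve hq ![u, θ *ᵥ u] (kl_li2 ks hu0) ![0, 1] 1
    (by simp) (by simpa using hs1)
    (by
      intro i
      fin_cases i
      · simpa using hs2
      · simpa using f_sing hq hs1)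
  have huu' : f u u' = 0 := by simpa using hau' 0
  have hθuu' : f (θ *ᵥ u) u' = 1 := by simpa using hau' 1
  have hu'0 : u' ≠ 0 := by
    intro h
    rw [h, f_zero_right hf] at hθuu'
    exact zero_ne_one hθuu'
  have hKuu : ∀ x ∈ Kl θ u, ∀ y ∈ Kl θ u, f x y = 0 :=
    ho_kl ks (⟨f_sing hq hu, hs3⟩ : HO f θ u u)
  have hθuK : θ *ᵥ u ∈ Kl θ u := by
    unfold Kl
    exact Submodule.subset_span (by simp)
  have hu'K : u' ∉ Kl θ u := by
    intro h
    have := hKuu _ hθuK _ h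
    rw [hθuu'] at this
    exact one_ne_zero this
  -- (b) `v`
  obtain ⟨v, hv, hvS, hvn⟩ := ex_sing_perp hq (Kl θ u ⊔ Kl θ u') (by
    have := kl_sup_finrank_le θ u u'
    omega)
  have hov : HO f θ u v := ho_of_perp ks (Kl θ u ⊔ Kl θ u') le_sup_left hvS
  have hov' : HO f θ u' v := ho_of_perp ks (Kl θ u ⊔ Kl θ u') le_sup_right hvS
  -- (c) `v'`
  obtain ⟨v', hv', hav'⟩ := ex_sing_solve hq ![u, θ *ᵥ u, u', θ *ᵥ u', v] (kl_li5 ks hu0 hu'K hvn)
    ![0, 0, 0, 0, 1] 4 (by simp) (by simpa using hv)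
    (by
      intro i
      fin_cases i
      · simpa using hov.1
      · simpa using hov.2
      · simpa using hov'.1
      · simpa using hov'.2
      · simpa using f_sing hq hv)
  have h0 : f u v' = 0 := by simpa using hav' 0
  have h1 : f (θ *ᵥ u) v' = 0 := by simpa using hav' 1
  have h2 : f u' v' = 0 := by simpa using hav' 2
  have h3 : f (θ *ᵥ u') v' = 0 := by simpa using hav' 3
  have h4 : f v v' = 1 := by simpa using hav' 4
  -- (d)
  have hvR : v ∈ RS Q f M u := hall u hu hu0 v hv hov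
  have hv'R : v' ∈ RS Q f M u' := hall u' hu' hu'0 v' hv' ⟨h2, h3⟩
  -- (e)
  obtain ⟨g, hgM, hg⟩ := rs_tv hq am.hG hu hv hvR 1
  have hgu' : (g : Matrix (Fin n) (Fin n) F) *ᵥ u' = u' := by
    rw [hg u']
    unfold Tv
    rw [huu', s_symm hf v u', hov'.1]
    simp
  have hgv' : (g : Matrix (Fin n) (Fin n) F) *ᵥ v' - v' = -u := by
    rw [hg v']
    unfold Tv
    rw [h0, h4]
    simp
  have h5 := rs_conj_fix hq am.vf am.hG am.hM hgM hu' hu'0 hgu' hv'R
  rw [hgv'] at h5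
  have h6 := rs_neg hq h5
  rw [neg_neg] at h6
  refine ⟨u', hu', huu', ?_, rs_symm hq hu' hu h6⟩
  rw [hθuu']
  exact one_ne_zero

end Cfsg.Agent.Lib.Helper19.OU
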