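import Mathlib
import Cfsg.Prelude.Def_GeometricClasses
import Cfsg.Agent.Lib.Helper19.OU.Defs
import Cfsg.Agent.Lib.Helper13.OUFORM
import Cfsg.Agent.Lib.Helper1.OURSSUB
import Cfsg.Agent.Lib.Helper11.OUUSG
import Cfsg.Agent.Lib.Helper11.OUTAU
import Cfsg.Agent.Lib.helper2.OUEXSP
import Cfsg.Agent.Lib.Helper22.OUHODECcore

set_option autoImplicit false
set_option linter.unusedVariables false
set_option linter.unusedSectionVars false

/-!
# Project OU (S5700), piece SPRB : `spread_B` (a type-2 pair gives `Full u`)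
-/

namespace Cfsg.Agent.Lib.Helper19.OU

open Matrix Cfsg.Agent.Lib.Helper28.HForm Cfsg.Agent.Lib.Helper28.OGen
  Cfsg.Agent.Lib.Helper28.OMax Cfsg.Agent.Lib.Helper28.OQ Cfsg.Agent.Lib.Helper28.OMax2
  Cfsg.Agent.Lib.Helper28.OIwa Cfsg.Agent.Lib.Helper28.OPair

variable {n : ℕ} {F : Type*} [Field F] {Q : (Fin n → F) → F}
  {f : (Fin n → F) → (Fin n → F) → F} {θ : Matrix (Fin n) (Fin n) F} {t N : F}
  {G M : Subgroup (Matrix.GeneralLinearGroup (Fin n) F)}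

/-- Step 1 of SPRB : a type-2 pair `(u, v)` puts every singular `y` with `HO u y` into `RS M u`. -/
theorem ousprb_step1 (ks : KS Q f θ t N) (am : Amb Q f θ G M)
    {u v : Fin n → F} (hu : Q u = 0) (hu0 : u ≠ 0) (hv : Q v = 0) (huv : f u v = 0)
    (hβ : f (θ *ᵥ u) v ≠ 0) (hvR : v ∈ RS Q f M u) {y : Fin n → F} (hy : Q y = 0) (ho : HO f θ u y) :
    y ∈ RS Q f M u := by
  have hq := ks.hq
  have hf := hq.sym
  obtain ⟨g, hgM, hg⟩ := usg_ex ks am hu hy ho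
  obtain ⟨ho1, ho2⟩ := ho
  obtain ⟨ht1, ht2⟩ := ho_theta ks (⟨ho1, ho2⟩ : HO f θ u y)
  obtain ⟨hs1, hs2, hs3⟩ := ks_sing ks hu
  -- `g` fixes `u`
  have hgu : (g : Matrix (Fin n) (Fin n) F) *ᵥ u = u := by
    rw [hg u, f_sing hq hu, s_symm hf y u, ho1, hs3, s_symm hf (θ *ᵥ y) u, ht1]
    simp
  -- `g v - v`
  have hgv : (g : Matrix (Fin n) (Fin n) F) *ᵥ v - v =
      (f y v • (θ *ᵥ u) - f (θ *ᵥ y) v • u) - f (θ *ᵥ u) v • y := by
    rw [hg v, huv]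
    module
  have h1 : (g : Matrix (Fin n) (Fin n) F) *ᵥ v - v ∈ RS Q f M u :=
    rs_conj_fix hq am.vf am.hG am.hM hgM hu hu0 hgu hvR
  have h2 : f y v • (θ *ᵥ u) - f (θ *ᵥ y) v • u ∈ RS Q f M u := by
    apply kl_le_rs ks am hu
    unfold Kl
    exact Submodule.sub_mem _ (Submodule.smul_mem _ _ (Submodule.subset_span (by simp)))
      (Submodule.smul_mem _ _ (Submodule.subset_span (by simp)))
  have h3 : f (θ *ᵥ u) v • y ∈ RS Q f M u := by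
    have h4 := rs_sub hq am.vf am.hG hu hu0 h2 h1
    rw [hgv] at h4
    have e : f y v • (θ *ᵥ u) - f (θ *ᵥ y) v • u -
        (f y v • (θ *ᵥ u) - f (θ *ᵥ y) v • u - f (θ *ᵥ u) v • y) = f (θ *ᵥ u) v • y := by
      abel
    rw [e] at h4
    exact h4
  have h5 := rs_smul hq (f (θ *ᵥ u) v)⁻¹ h3
  rw [smul_smul, inv_mul_cancel₀ hβ, one_smul] at h5
  exact h5

/-- SPRB [M-L] : a type-2 pair gives `Full u`.
(Step 1: singular `y` with `HO u y`: `g = usg_ex u y` fixes `u`, `g v - v = - β y + (f (y, v) θ u - f (θ y, v) u)`, `β = f (θ u) v`;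
`rs_conj_fix`, `kl_le_rs`: `y ∈ RS`.  Step 2: singular `y' ∈ u^⊥`: `z = y' - (f (θ u) y' / β) v` has `HO u z`; `ho_decomp`.) -/
theorem spread_B [Fintype F] (hn : 9 ≤ n) (ks : KS Q f θ t N) (am : Amb Q f θ G M)
    {u v : Fin n → F} (hu : Q u = 0) (hu0 : u ≠ 0) (hv : Q v = 0) (huv : f u v = 0)
    (hβ : f (θ *ᵥ u) v ≠ 0) (hvR : v ∈ RS Q f M u) : Full Q f M u := by
  have hq := ks.hq
  have hf := hq.sym
  intro y' hy' huy'
  obtain ⟨c, hc⟩ : ∃ c : F, c = f (θ *ᵥ u) y' * (f (θ *ᵥ u) v)⁻¹ := ⟨_, rfl⟩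
  have hz : HO f θ u (y' - c • v) := by
    refine ⟨?_, ?_⟩
    · rw [f_sub_right hf, s_smul_right hf, huy', huv, mul_zero, sub_zero]
    · rw [f_sub_right hf, s_smul_right hf, hc, mul_assoc, inv_mul_cancel₀ hβ, mul_one, sub_self]
  obtain ⟨y₁, y₂, hzy, hy₁, hy₂, ho₁, ho₂⟩ :=
    ouhodec_core2 hn ks (fun S hS => ex_sing_perp hq S hS) hu hu0 (y' - c • v) hz
  have h1 := ousprb_step1 ks am hu hu0 hv huv hβ hvR hy₁ ho₁
  have h2 := ousprb_step1 ks am hu hu0 hv huv hβ hvR hy₂ ho₂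
  have h3 := rs_add hq am.vf am.hG hu hu0 h1 h2
  rw [← hzy] at h3
  have h4 := rs_add hq am.vf am.hG hu hu0 h3 (rs_smul hq c hvR)
  rw [sub_add_cancel] at h4
  exact h4

end Cfsg.Agent.Lib.Helper19.OU
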