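import Mathlib
import Cfsg.Agent.Lib.helper17.SLP.Defs
import Cfsg.Agent.Lib.helper3.SP4.Defs
import Cfsg.Agent.Lib.Helper22.SU4.Defs
import Cfsg.Agent.Lib.Lead.Unitary
import Cfsg.Agent.Lib.helper7.U3PF2

/-!
# Project SU4 (designer helper22), row F1 (`exists_twT`) (helper4), VERBATIM.
On `Lead.exists_frob`, `Lead.frob_frob` and the U3P row F2 `exists_fix` (`helper7.U3PF2`).
-/

set_option autoImplicit false

namespace Cfsg.Agent.Lib.Helper22.SU4

open Cfsg.Agent.Lib.helper17.SLP Cfsg.Agent.Lib.helper3.SP4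

universe u v

section F

variable {F : Type u} {K : Type u} [Field F] [Field K]

/-- F1 [M]  `σ` from `Cfsg.Agent.Lib.Lead.exists_frob hF`, `K ι` from U3P `exists_fix` (`helper7.U3PF2`);
`nm x`, `tr x` := `Classical.choose` of `(hι _).1 _` applied to `σ (x * σ x) = x * σ x`, `σ (x + σ x) = x + σ x`. -/
theorem exists_twT [Fintype F] (q : ℕ) (hF : Fintype.card F = q ^ 2) :
    ∃ (K : Type u) (_ : Field K) (_ : Fintype K) (D : Tw F K), Fintype.card K = q ∧ ∀ x, D.σ x = x ^ q := by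
  obtain ⟨σ, hσ⟩ := Cfsg.Agent.Lib.Lead.exists_frob hF
  obtain ⟨K, iK, fK, ι, hcard, hfix⟩ := Cfsg.Agent.Lib.Helper19.U3P.exists_fix hF σ hσ
  have hσσ : ∀ x, σ (σ x) = x := Cfsg.Agent.Lib.Lead.frob_frob hF σ hσ
  have h1 : ∀ x, σ (x * σ x) = x * σ x := by
    intro x
    rw [map_mul, hσσ, mul_comm]
  have h2 : ∀ x, σ (x + σ x) = x + σ x := by
    intro x
    rw [map_add, hσσ, add_comm]
  exact ⟨K, iK, fK,
    { σ := σ
      ι := ι
      σσ := hσσ
      fix := hfix
      nm := fun x => Classical.choose ((hfix _).1 (h1 x))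
      tr := fun x => Classical.choose ((hfix _).1 (h2 x))
      hnm := fun x => Classical.choose_spec ((hfix _).1 (h1 x))
      htr := fun x => Classical.choose_spec ((hfix _).1 (h2 x)) }, hcard, hσ⟩

end F

end Cfsg.Agent.Lib.Helper22.SU4
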