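import Mathlib
import Cfsg.Agent.Lib.helper3.SU5.Defs
import Cfsg.Agent.Lib.Helper18.SU5G1
import Cfsg.Agent.Lib.Helper21.SU5G3
import Cfsg.Agent.Lib.Helper29.SU5G4
import Cfsg.Agent.Lib.Helper29.SU5G5
import Cfsg.Agent.Lib.Helper25.SU5G6
import Cfsg.Agent.Lib.helper23.SU5G7
import Cfsg.Agent.Lib.helper8.SU5I1
import Cfsg.Agent.Lib.Helper25.SU5M2
import Cfsg.Agent.Lib.Helper20.SU5M3
import Cfsg.Agent.Lib.Helper20.SU5S2
import Cfsg.Agent.Lib.helper8.SU5S3

/-!
# Project SU5 (S2291, designer helper3), row S4 (`Dat.all_adds all_addl all_cls all_ssl all_ls all_hh all_rel all_r1`), VERBATIM (helper4).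

Each instance family is the orbit (`orbit8` / `orbit4`, helper8 S3) of the base instance (helper20 S2) under the two monomial Weyl elements (`mon_A` helper25 M2, `mon_B` helper20 M3), transported by
the lemmas of block G (helper18 G1 G2, helper21 G3, helper29 G4 G5, helper25 G6, helper23 G7); `all_r1` from `base_r1`, `Pre.R1.ng` (helper8 I3) and `Pre.Mon.r1`.
-/

set_option autoImplicit false

namespace Cfsg.Agent.Lib.helper3.SU5

open Cfsg.Agent.Lib.helper15.St2 Cfsg.Agent.Lib.Helper27.STU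
open Cfsg.Agent.Lib.helper3.STC (ng sws)

universe u v w w₀

namespace Dat

variable {F : Type u} [Field F] [StarRing F] {G : Type w} [Group G] (D : Dat F G)

/-- S4 [M]  all instances (`orbit8` / `orbit4` with the transport lemmas of block G for `mon_A`, `mon_B`, and the base instances).  For `all_r1`: `R1` at `2` (`base_r1`), at `-2` (`Pre.R1.ng`), at `1`
(`Pre.Mon.r1` for `mon_A`: `dws 1 2 1 2 = 1 = dws 1 2 1 (-2)`), at `-1` (`Pre.R1.ng`). -/
theorem all_adds (hT : Tab5 D) : ∀ a b, a ≠ b → a ≠ ng b → D.pre.Adds a b := by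
  exact orbit8 (fun a b => D.pre.Adds a b)
    (fun a b h1 h2 h => Pre.Mon.adds D.pre (mon_A D hT) h1 h2 h)
    (fun a b h1 h2 h => Pre.Mon.adds D.pre (mon_B D hT) h1 h2 h)
    (by decide) (by decide) (base_adds D)

theorem all_addl (hT : Tab5 D) : ∀ a, D.pre.Addl a := by
  exact orbit4 (fun a => D.pre.Addl a)
    (fun a h => Pre.Mon.addl D.pre (mon_A D hT) h)
    (fun a h => Pre.Mon.addl D.pre (mon_B D hT) h)
    (base_addl D)

theorem all_cls (hT : Tab5 D) : ∀ a b, a ≠ b → a ≠ ng b → D.pre.Cls a a b := by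
  exact orbit8 (fun a b => D.pre.Cls a a b)
    (fun a b h1 h2 h => Pre.Mon.cls D.pre (mon_A D hT) h1 h2 h)
    (fun a b h1 h2 h => Pre.Mon.cls D.pre (mon_B D hT) h1 h2 h)
    (by decide) (by decide) (base_cls D hT)

theorem all_ssl (hT : Tab5 D) : ∀ a b, a ≠ b → a ≠ ng b → D.pre.Ssl a b := by
  exact orbit8 (fun a b => D.pre.Ssl a b)
    (fun a b h1 h2 h => Pre.Mon.ssl D.pre (mon_A D hT) h1 h2 h)
    (fun a b h1 h2 h => Pre.Mon.ssl D.pre (mon_B D hT) h1 h2 h)
    (by decide) (by decide) (base_ssl D hT)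

theorem all_ls (hT : Tab5 D) : ∀ a b, a ≠ b → a ≠ ng b → D.pre.Ls a b := by
  exact orbit8 (fun a b => D.pre.Ls a b)
    (fun a b h1 h2 h => Pre.Mon.ls D.pre (mon_A D hT) h1 h2 h)
    (fun a b h1 h2 h => Pre.Mon.ls D.pre (mon_B D hT) h1 h2 h)
    (by decide) (by decide) (base_ls D hT)

theorem all_hh (hT : Tab5 D) : ∀ a b, a ≠ b → a ≠ ng b → D.pre.Hh a b := by
  exact orbit8 (fun a b => D.pre.Hh a b)
    (fun a b h1 h2 h => Pre.Mon.hh D.pre (mon_A D hT) h1 h2 h)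
    (fun a b h1 h2 h => Pre.Mon.hh D.pre (mon_B D hT) h1 h2 h)
    (by decide) (by decide) (base_hh D hT)

theorem all_rel (hT : Tab5 D) : ∀ a b, a ≠ b → a ≠ ng b → D.pre.Rel a b := by
  exact orbit8 (fun a b => D.pre.Rel a b)
    (fun a b h1 h2 h => Pre.Mon.rel D.pre (mon_A D hT) h1 h2 h)
    (fun a b h1 h2 h => Pre.Mon.rel D.pre (mon_B D hT) h1 h2 h)
    (by decide) (by decide) (base_rel D)

theorem all_r1 (hT : Tab5 D) : ∀ a, D.pre.R1 a := by
  intro a
  have h2 : D.pre.R1 (Sum.inl 1) := base_r1 D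
  have hm2 : D.pre.R1 (Sum.inr 1) := Pre.R1.ng D.pre h2
  have h1 : D.pre.R1 (Sum.inl 0) := by
    have e1 : dws (Sum.inl (0 : Fin 2)) (Sum.inl 1) (1 : F) (Sum.inl 1) * (1 : F)⁻¹ = 1 := by
      simp [dws]
    have e2 : dws (Sum.inl (0 : Fin 2)) (Sum.inl 1) (1 : F) (ng (Sum.inl 1)) * (1 : F)⁻¹ = 1 := by
      simp [dws, ng]
    have h := Pre.Mon.r1 D.pre (mon_A D hT) e1 e2 h2
    have e3 : sws (Sum.inl (0 : Fin 2)) (Sum.inl 1) (Sum.inl 1) = Sum.inl 0 := by decide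
    rw [e3] at h
    exact h
  have hm1 : D.pre.R1 (Sum.inr 0) := Pre.R1.ng D.pre h1
  rcases a with a | a <;> fin_cases a <;> assumption

end Dat

end Cfsg.Agent.Lib.helper3.SU5
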