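import Mathlib
import Cfsg.Agent.Lib.helper3.SU5.Defs

/-!
# Project SU5 (S2291, designer helper3), row S5 (`Dat.exists_sys`) (helper4), CORE.

`su5s5_core`: the Skel statement of `exists_sys` with the conclusions of S1 `pre_sym` and S4 `all_adds … all_r1` as hypotheses.  The axioms `comm_ss`, `comm_ls`, `comm3` by finite case analysis on the
signed indices of `Fin 2` (three `decide` lemmas).
-/

set_option autoImplicit false

namespace Cfsg.Agent.Lib.helper3.SU5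

open Cfsg.Agent.Lib.helper15.St2 Cfsg.Agent.Lib.Helper27.STU
open Cfsg.Agent.Lib.helper3.STC (ng sws)

universe u v w

/-- `comm_ss` for `Fin 2`: the only pairs -/
theorem su5s5_ss_cases_aux : ∀ a b c d : Fin 2 ⊕ Fin 2, (a ≠ b ∧ a ≠ ng b ∧ c ≠ d ∧ c ≠ ng d ∧ b ≠ c ∧ a ≠ d ∧
    b ≠ ng d ∧ a ≠ ng c) → (c = a ∧ d = b) ∨ (c = ng b ∧ d = ng a) := by
  decide

theorem su5s5_ss_cases (a b c d : Fin 2 ⊕ Fin 2) (h1 : a ≠ b) (h2 : a ≠ ng b) (h3 : c ≠ d) (h4 : c ≠ ng d) (h5 : b ≠ c)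
    (h6 : a ≠ d) (h7 : b ≠ ng d) (h8 : a ≠ ng c) : (c = a ∧ d = b) ∨ (c = ng b ∧ d = ng a) :=
  su5s5_ss_cases_aux a b c d ⟨h1, h2, h3, h4, h5, h6, h7, h8⟩

/-- `comm_ls` for `Fin 2`: the only pairs -/
theorem su5s5_ls_cases : ∀ a c d : Fin 2 ⊕ Fin 2, c ≠ d → c ≠ ng d → c ≠ ng a → d ≠ a →
    (c = a) ∨ (d = ng a ∧ c ≠ a) := by
  decide

/-- `comm3` for `Fin 2`: no triples -/
theorem su5s5_no3 : ∀ a b c : Fin 2 ⊕ Fin 2, a ≠ b → a ≠ ng b → b ≠ c → b ≠ ng c → a ≠ c → a ≠ ng c → False := by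
  decide

theorem su5s5_ng_ng {ι : Type v} (a : ι ⊕ ι) : ng (ng a) = a := by
  cases a <;> rfl

namespace Dat

variable {F : Type u} [Field F] [StarRing F] {G : Type w} [Group G] (D : Dat F G)

/-- S5 core -/
theorem su5s5_core (hsym : D.pre.Sym)
    (hadds : ∀ a b, a ≠ b → a ≠ ng b → D.pre.Adds a b) (haddl : ∀ a, D.pre.Addl a)
    (hcls : ∀ a b, a ≠ b → a ≠ ng b → D.pre.Cls a a b)
    (hssl : ∀ a b, a ≠ b → a ≠ ng b → D.pre.Ssl a b)
    (hls : ∀ a b, a ≠ b → a ≠ ng b → D.pre.Ls a b)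
    (hhh : ∀ a b, a ≠ b → a ≠ ng b → D.pre.Hh a b)
    (hrel : ∀ a b, a ≠ b → a ≠ ng b → D.pre.Rel a b)
    (hr1 : ∀ a, D.pre.R1 a) :
    ∃ S : SysU F True (Fin 2) G, S.xs = D.xs ∧ S.xl = D.xl := by
  have hcomm : ∀ a b, a ≠ b → a ≠ ng b → ∀ t u : F, D.xs a b t * D.xs a b u = D.xs a b u * D.xs a b t := by
    intro a b h1 h2 t u
    have e1 := hadds a b h1 h2 t u
    have e2 := hadds a b h1 h2 u t
    change D.xs a b t * D.xs a b u = D.xs a b (t + u) at e1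
    change D.xs a b u * D.xs a b t = D.xs a b (u + t) at e2
    rw [e1, e2, add_comm]
  refine ⟨{ xs := D.xs, xl := D.xl, sym := hsym, adds := hadds, addl := haddl, comm_ss := ?_, comm_ls := ?_,
            comm3 := ?_, ssl := hssl, ls := hls, hh := hhh, rel := hrel, r1 := hr1 }, rfl, rfl⟩
  · intro a b c d h1 h2 h3 h4 h5 h6 h7 h8 t u
    rcases su5s5_ss_cases a b c d h1 h2 h3 h4 h5 h6 h7 h8 with ⟨rfl, rfl⟩ | ⟨rfl, rfl⟩
    · exact hcomm _ _ h1 h2 t u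
    · have e := hsym a b h1 h2 (-(star u))
      change D.xs a b (-(star u)) = D.xs (ng b) (ng a) (-(star (-(star u)))) at e
      rw [star_neg, star_star, neg_neg] at e
      rw [← e]
      exact hcomm _ _ h1 h2 t _
  · intro a c d h1 h2 h3 h4 ξ u
    rcases su5s5_ls_cases a c d h1 h2 h3 h4 with rfl | ⟨rfl, hca⟩
    · exact hcls c d h1 h2 ξ u
    · have hc1 : c ≠ ng (ng a) := by rw [su5s5_ng_ng]; exact hca
      have e := hsym c (ng a) h3 hc1 u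
      change D.xs c (ng a) u = D.xs (ng (ng a)) (ng c) (-(star u)) at e
      rw [su5s5_ng_ng] at e
      rw [e]
      have ha1 : a ≠ ng c := fun h => h3 (by rw [h, su5s5_ng_ng])
      have ha2 : a ≠ ng (ng c) := by rw [su5s5_ng_ng]; exact fun h => hca h.symm
      exact hcls a (ng c) ha1 ha2 ξ _
  · intro a b c h1 h2 h3 h4 h5 h6
    exact (su5s5_no3 a b c h1 h2 h3 h4 h5 h6).elim

end Dat

end Cfsg.Agent.Lib.helper3.SU5

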