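import Mathlib
import Cfsg.Agent.Lib.helper3.SU5.Defs
import Cfsg.Agent.Lib.helper8.SU5S1
import Cfsg.Agent.Lib.helper4.SU5S4
import Cfsg.Agent.Lib.helper4.SU5S5core

/-!
# Project SU5 (S2291, designer helper3), row S5 (`Dat.exists_sys`), VERBATIM (helper4).

Wrapper of `su5s5_core` (`helper4.SU5S5core`) on S1 `pre_sym` (helper8) and S4 `all_adds … all_r1` (`helper4.SU5S4`).
-/

set_option autoImplicit false

namespace Cfsg.Agent.Lib.helper3.SU5

open Cfsg.Agent.Lib.helper15.St2 Cfsg.Agent.Lib.Helper27.STU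
open Cfsg.Agent.Lib.helper3.STC (ng sws)

universe u v w w₀

namespace Dat

variable {F : Type u} [Field F] [StarRing F] {G : Type w} [Group G] (D : Dat F G)

/-- S5 [M]  the system.  `comm_ss`: for `Fin 2` the hypotheses force `(c, e) = (a, b)` or `(c, e) = (ng b, ng a)` (case analysis), commutativity from `all_adds` (+ `pre_sym`).
`comm_ls`: the hypotheses force `(c, e) = (a, b')` or `(ng b', ng a)` with `b' ≠ ± a`: `all_cls` (+ `pre_sym`).  `comm3`: no three signed indices of `Fin 2` are pairwise distinct and non opposite. -/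
theorem exists_sys (hT : Tab5 D) : ∃ S : SysU F True (Fin 2) G, S.xs = D.xs ∧ S.xl = D.xl := by
  exact su5s5_core D (pre_sym D) (all_adds D hT) (all_addl D hT) (all_cls D hT) (all_ssl D hT) (all_ls D hT) (all_hh D hT)
    (all_rel D hT) (all_r1 D hT)

end Dat

end Cfsg.Agent.Lib.helper3.SU5
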