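import Mathlib
import Cfsg.Agent.Lib.Helper19.SU5.Defs
import Cfsg.Agent.Lib.Helper19.SU5.Defs2
import Cfsg.Agent.Lib.helper3.SU5.Defs
import Cfsg.Agent.Lib.Helper27.STU.Defs2
import Cfsg.Agent.Lib.Helper27.STU.Defs3
import Cfsg.Agent.Lib.Helper27.STU.Frob
import Cfsg.Agent.Lib.Helper19.MODMain
import Cfsg.Agent.Lib.Helper20.GLO.Defs
import Cfsg.Prelude.Def_Classical

/-!
# Project SU5 (designer helper19), part 2, row P1 (`hypU_iff_relsU`), VERBATIM (helper4).

`Monoid.Coprod.lift φa φb` maps every building block of the relators (`rx rn rh` of `fpA`, of `phiL P fpB`, `yb hbF` of `fpB`, `xcU xDU ydU`) to the same block for `(φa, φb)`;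
`eqr g g' = 1 ↔ g = g'`, `cm g g' = 1 ↔ Commute g g'`.
-/

set_option autoImplicit false

namespace Cfsg.Agent.Lib.Helper19.SU5

open Cfsg.Agent.Lib.helper17.SLP Cfsg.Agent.Lib.helper3.SP4 Cfsg.Agent.Lib.Helper22.SU4
open Cfsg.Agent.Lib.Helper27.STU (Lam XpM XmM XpS XmS SUm XpU XmU SysU)
open Cfsg.Agent.Lib.helper3.STC (ng sws)
open Cfsg.Agent.Lib.helper3.SU5 (Dat Tab5 Pre)

universe u v w

section P

variable {F : Type u} {K : Type u} [Field F] [Field K] [StarRing F] {D : Tw F K} {G : Type v} [Group G]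

/-- the relator `eqr` under a homomorphism -/
theorem su5p1_eqr {H : Type*} [Group H] (f : G →* H) (g g' : G) : f (eqr g g') = 1 ↔ f g = f g' := by
  unfold eqr
  rw [map_mul, map_inv]
  exact mul_inv_eq_one

/-- the relator `cm` under a homomorphism -/
theorem su5p1_cm {H : Type*} [Group H] (f : G →* H) (g g' : G) : f (cm g g') = 1 ↔ Commute (f g) (f g') := by
  rw [← cm_eq_one_iff]
  unfold cm
  rw [map_mul, map_mul, map_mul, map_inv, map_inv]

/-- the commutator under a homomorphism -/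
theorem su5p1_map_cm {H : Type*} [Group H] (f : G →* H) (g g' : G) : f (cm g g') = cm (f g) (f g') := by
  unfold cm
  rw [map_mul, map_mul, map_mul, map_inv, map_inv]

/-- P1 [M]  Model SU4 P4 `hypT_iff_rel`.  `Monoid.Coprod.lift φa φb` maps `rx fpA t ↦ rx φa t`, `rn fpA`, `rh fpA`, `yb fpB ξ ↦ yb φb ξ`, `hbF P fpB r`, `rn (phiL P fpB) ↦ rn (phiL P φb)`, `xcU P fpA fpB t ↦ xcU P φa φb t`, …
(`Monoid.Coprod.lift_apply_inl`, `lift_apply_inr`, `map_mul`, `map_inv`, `map_pow`); `eqr g g' = 1 ↔ g = g'` (`mul_inv_eq_one`), `cm g g' = 1 ↔ Commute g g'`; `List.forall_mem_cons`; 22 fields. -/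
theorem hypU_iff_relsU (P : RO D) (φa : Matrix.SpecialLinearGroup (Fin 2) F →* G) (φb : ↥(SUm F True) →* G) :
    HypU P φa φb ↔ ∀ r ∈ relsU P, Monoid.Coprod.lift φa φb r = 1 := by
  have hxa : ∀ t, Monoid.Coprod.lift φa φb (rx fpA t) = rx φa t := fun t => Monoid.Coprod.lift_apply_inl φa φb _
  have hna : Monoid.Coprod.lift φa φb (rn fpA) = rn φa := Monoid.Coprod.lift_apply_inl φa φb _
  have hha : ∀ s, Monoid.Coprod.lift φa φb (rh fpA s) = rh φa s := fun s => Monoid.Coprod.lift_apply_inl φa φb _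
  have hxb : ∀ u, Monoid.Coprod.lift φa φb (rx (phiL P fpB) u) = rx (phiL P φb) u :=
    fun u => Monoid.Coprod.lift_apply_inr φa φb _
  have hnb : Monoid.Coprod.lift φa φb (rn (phiL P fpB)) = rn (phiL P φb) := Monoid.Coprod.lift_apply_inr φa φb _
  have hhb : ∀ r, Monoid.Coprod.lift φa φb (rh (phiL P fpB) r) = rh (phiL P φb) r :=
    fun r => Monoid.Coprod.lift_apply_inr φa φb _
  have hyb : ∀ ξ, Monoid.Coprod.lift φa φb (yb fpB ξ) = yb φb ξ := fun ξ => Monoid.Coprod.lift_apply_inr φa φb _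
  have hhF : ∀ r, Monoid.Coprod.lift φa φb (hbF P fpB r) = hbF P φb r := fun r => Monoid.Coprod.lift_apply_inr φa φb _
  have hxc : ∀ t, Monoid.Coprod.lift φa φb (xcU P fpA fpB t) = xcU P φa φb t := by
    intro t
    unfold xcU xcT
    rw [map_mul, map_mul, map_inv, hnb, hxa]
  have hxD : ∀ u, Monoid.Coprod.lift φa φb (xDU P fpA fpB u) = xDU P φa φb u := by
    intro u
    unfold xDU xdT
    rw [map_mul, map_mul, map_inv, hna, hxb]
  have hyd : ∀ ξ, Monoid.Coprod.lift φa φb (ydU fpA fpB ξ) = ydU φa φb ξ := by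
    intro ξ
    unfold ydU
    rw [map_mul, map_mul, map_inv, hna, hyb]
  unfold relsU
  simp only [List.forall_mem_cons, List.not_mem_nil, IsEmpty.forall_iff, implies_true, and_true]
  simp only [su5p1_eqr, su5p1_cm, su5p1_map_cm, cm_eq_one_iff, map_mul, map_inv, map_pow, hxa, hna, hha, hxb, hnb, hhb, hyb, hhF, hxc, hxD,
    hyd]
  constructor
  · intro H
    exact ⟨H.T3, H.N5, H.N6, H.W7, H.W8, H.C9, H.C10, H.C10b, H.C11, H.C12, H.U1, H.U2, H.U3, H.U3b, H.U4, H.U5, H.U6, H.U6b, H.U7, H.U7b,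
      H.U8, H.U8b⟩
  · rintro ⟨h1, h2, h3, h4, h5, h6, h7, h8, h9, h10, h11, h12, h13, h14, h15, h16, h17, h18, h19, h20, h21, h22⟩
    exact ⟨h1, h2, h3, h4, h5, h6, h7, h8, h9, h10, h11, h12, h13, h14, h15, h16, h17, h18, h19, h20, h21, h22⟩

end P

end Cfsg.Agent.Lib.Helper19.SU5
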