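import Mathlib
import Cfsg.Agent.Lib.Helper19.SU5.Defs
import Cfsg.Agent.Lib.Helper19.SU5.Defs2
import Cfsg.Agent.Lib.helper3.SU5.Defs
import Cfsg.Agent.Lib.helper3.SU5StHom
import Cfsg.Agent.Lib.Helper27.STU.Defs2
import Cfsg.Agent.Lib.Helper27.STU.Defs3
import Cfsg.Agent.Lib.Helper27.STU.Frob
import Cfsg.Agent.Lib.Helper19.MODMain
import Cfsg.Agent.Lib.Helper20.GLO.Defs
import Cfsg.Prelude.Def_Classical

/-!
# Project SU5 (designer helper19), part 2, row Z13 (`exists_matchU`), VERBATIM (helper4).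

`ψa` from helper3's `su5st_exists_hom` at the rank one system `(sys C).st (inl 0) (inl 1)`, `ψb` from `(sys C).r1 (inl 1)`.
-/

set_option autoImplicit false

namespace Cfsg.Agent.Lib.Helper19.SU5

open Cfsg.Agent.Lib.helper17.SLP Cfsg.Agent.Lib.helper3.SP4 Cfsg.Agent.Lib.Helper22.SU4
open Cfsg.Agent.Lib.Helper27.STU (Lam XpM XmM XpS XmS SUm XpU XmU SysU)
open Cfsg.Agent.Lib.helper3.STC (ng sws)
open Cfsg.Agent.Lib.helper3.SU5 (Dat Tab5 Pre)

universe u v w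

section ZM

open Cfsg.Agent.Lib.Helper19.MOD

variable {F : Type u} [Field F] [StarRing F] {n q m : ℕ} {od : Prop}

/-- Z13 [S-M]  the two rank one homomorphisms of the model: `ψa` from `Cfsg.Agent.Lib.helper3.SU5StHom.su5st_exists_hom` (`helper3/SU5StHom.lean`) for the rank one system `(sys C).st (inl 0) (inl 1) _ _`
(`St.x t = X true t = xs 1 2 t`, `St.y t = X false t = xs 2 1 t`: check `helper15.St2`), `ψb` from `(sys C).r1 (inl 1)` (`ng (inl 1) = inr 1`). -/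
theorem exists_matchU [Finite F] (C : Ctx F 5 q 2 True) :
    ∃ (ψa : Matrix.SpecialLinearGroup (Fin 2) F →* ↥(Cfsg.SU 5 F q)) (ψb : ↥(SUm F True) →* ↥(Cfsg.SU 5 F q)),
      MatchU (sys C) ψa ψb := by
  have h01 : (Sum.inl 0 : Fin 2 ⊕ Fin 2) ≠ Sum.inl 1 := by decide
  have h01' : (Sum.inl 0 : Fin 2 ⊕ Fin 2) ≠ ng (Sum.inl 1) := by
    intro h
    cases h
  obtain ⟨ψa, hx, hy⟩ := Cfsg.Agent.Lib.helper3.SU5.su5st_exists_hom ((sys C).st (Sum.inl 0) (Sum.inl 1) h01 h01')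
  obtain ⟨ψb, hb⟩ := (sys C).r1 (Sum.inl 1)
  refine ⟨ψa, ψb, ⟨?_, ?_, ?_, ?_⟩⟩
  · intro t
    rw [hx t]
    rfl
  · intro t
    rw [hy t]
    rfl
  · intro ξ
    exact (hb ξ).1
  · intro ξ
    exact (hb ξ).2

end ZM

end Cfsg.Agent.Lib.Helper19.SU5
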