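import Cfsg.Agent.Lib.Lead.UDK1Q2.Defs
import Cfsg.Agent.Lib.Lead.UDK1Q2FLD
import Cfsg.Agent.Lib.helper4.UDK1Q2W2

/-!
# Block UDK1Q2, row PAT (first half): `q2_tv` verbatim and the core of `q2_pattern`
(with the membership of `d * y` in `C.X` as a hypothesis; it is `q2_mono_conj` with `π = 1`).
-/

set_option autoImplicit false

namespace Cfsg.Agent.Lib.Lead.UDK1Q2

open Matrix Cfsg.Agent.Lib.Helper29.ExtrL Cfsg.Agent.Lib.Helper28.UMax

variable {n : ℕ} {F : Type*} [Field F] [Fintype F] [DecidableEq F]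

theorem q2_tv (C : Ctx n F) {y z : Fin n → F} (hy : y ∈ C.X) (hz : z ∈ C.X) :
    (fun i => y i + Cfsg.hermForm n F 2 y z * z i) ∈ C.X := by
  have hc : C.σ 1 = -1 := by rw [map_one, q2w2_neg C.hF]
  have h := XS_tv C.hf C.M hy hz hc
  rw [one_smul] at h
  exact h

/-- core of `q2_pattern`: the hypothesis `hu` is `q2_mono_conj` with `π = 1`. -/
theorem q2pat_core (C : Ctx n F) (d : Fin n → F) {y : Fin n → F} (hy : y ∈ C.X)
    (hu : (fun i => d i * y i) ∈ C.X)
    (hsum : ∑ i, (if y i = 0 then 0 else (d i) ^ 2) = 1) :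
    (fun i => y i * (1 + d i)) ∈ C.X := by
  have hf1 : Cfsg.hermForm n F 2 y (fun i => d i * y i) = 1 := by
    rw [← hsum]
    unfold Cfsg.hermForm
    refine Finset.sum_congr rfl (fun i _ => ?_)
    show y i * (d i * y i) ^ 2 = _
    by_cases h0 : y i = 0
    · rw [if_pos h0, h0, zero_mul]
    · rw [if_neg h0]
      have h3 := q2_cube C.hF h0
      calc y i * (d i * y i) ^ 2 = d i ^ 2 * (y i) ^ 3 := by ring
        _ = d i ^ 2 := by rw [h3, mul_one]
  have h := q2_tv C hy hu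
  rw [hf1] at h
  have e : (fun i => y i * (1 + d i)) = (fun i => y i + 1 * (d i * y i)) := by
    funext i
    ring
  rw [e]
  exact h

end Cfsg.Agent.Lib.Lead.UDK1Q2
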