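import Cfsg.Agent.Lib.Lead.UDK1Q2.Defs
import Cfsg.Agent.Lib.Lead.UDK1Q2FLD
import Cfsg.Agent.Lib.helper4.UDK1Q2PATcore
import Cfsg.Agent.Lib.Lead.UDK1Q2MONO

/-!
# Block UDK1Q2, row PAT: `q2_pattern` verbatim (`q2_tv` is in `UDK1Q2PATcore`).
-/

set_option autoImplicit false

namespace Cfsg.Agent.Lib.Lead.UDK1Q2

open Matrix Cfsg.Agent.Lib.Helper29.ExtrL Cfsg.Agent.Lib.Helper28.UMax

variable {n : ℕ} {F : Type*} [Field F] [Fintype F] [DecidableEq F]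

theorem q2_pattern (C : Ctx n F) (d : Fin n → F) (hd : ∀ i, d i ≠ 0) (hdet : ∏ i, d i = 1)
    {y : Fin n → F} (hy : y ∈ C.X)
    (hsum : ∑ i, (if y i = 0 then 0 else (d i) ^ 2) = 1) :
    (fun i => y i * (1 + d i)) ∈ C.X := by
  have hu : (fun i => d i * y i) ∈ C.X := q2_mono_conj C 1 d hd hdet hy
  exact q2pat_core C d hy hu hsum

end Cfsg.Agent.Lib.Lead.UDK1Q2
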