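import Cfsg.Agent.Lib.helper7.TP.Defs
import Cfsg.Agent.Lib.helper7.TP.MeetA
import Cfsg.Agent.Lib.Helper18.TPUNIP
import Cfsg.Agent.Lib.helper4.TPNS

/-!
# Project TP (S5637), piece STAB : `stab_of_nt`

An element of `M` mapping a `B`-line into a `B`-line lies in `K0` (under `NT M`).
-/

set_option autoImplicit false
set_option linter.unusedVariables false
set_option linter.unusedSectionVars false

namespace Cfsg.Agent.Lib.helper7.TP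

open Matrix
open scoped Kronecker

variable {a b : ℕ} {F : Type*} [Field F]

/-- `y ↦ ten u y` as a linear map -/
def tpstab_tenR (u : Fin a → F) : (Fin b → F) →ₗ[F] (Fin a × Fin b → F) where
  toFun y := ten u y
  map_add' y y' := ten_add_right u y y'
  map_smul' c y := ten_smul_right c u y

/-- the row `i₀` of a vector of `A ⊗ B` -/
def tpstab_rowL (i₀ : Fin a) : (Fin a × Fin b → F) →ₗ[F] (Fin b → F) where
  toFun v := fun k => v (i₀, k)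
  map_add' v v' := rfl
  map_smul' c v := rfl

/-- contraction after a Kronecker product -/
theorem tpstab_ctr_kron (α : Matrix (Fin a) (Fin a) F) (β : Matrix (Fin b) (Fin b) F) (ψ : Fin b → F)
    (v : Fin a × Fin b → F) : ctr ψ ((α ⊗ₖ β) *ᵥ v) = α *ᵥ ctr (ψ ᵥ* β) v := by
  funext i
  simp only [ctr, Matrix.mulVec, dotProduct, Matrix.vecMul, Matrix.kroneckerMap_apply,
    Fintype.sum_prod_type, Finset.sum_mul, Finset.mul_sum]
  rw [Finset.sum_comm]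
  refine Finset.sum_congr rfl fun k _ => ?_
  rw [Finset.sum_comm]
  refine Finset.sum_congr rfl fun l _ => ?_
  refine Finset.sum_congr rfl fun j _ => ?_
  ring

/-- STAB (step B): an element of `M` mapping a `B`-line into a `B`-line lies in `K0`. -/
theorem stab_of_nt (ha : 1 ≤ a) (hb : 3 ≤ b)
    (M : Subgroup (Matrix.GeneralLinearGroup (Fin a × Fin b) F)) (hTM : T0 a b F ≤ M)
    (hMS : M ≤ Cfsg.Geo.specialLinear (Fin a × Fin b) F) (hNT : NT M)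
    (w w' : Fin b → F) (hw : w ≠ 0) (hw' : w' ≠ 0)
    (g : Matrix.GeneralLinearGroup (Fin a × Fin b) F) (hg : g ∈ M)
    (h : ∀ u : Fin a → F, ∃ u' : Fin a → F,
      (g : Matrix (Fin a × Fin b) (Fin a × Fin b) F) *ᵥ ten u w = ten u' w') :
    g ∈ K0 a b F := by
  classical
  obtain ⟨G, hG⟩ : ∃ G : Matrix (Fin a × Fin b) (Fin a × Fin b) F,
      (g : Matrix (Fin a × Fin b) (Fin a × Fin b) F) = G := ⟨_, rfl⟩
  obtain ⟨Gi, hGi⟩ : ∃ Gi : Matrix (Fin a × Fin b) (Fin a × Fin b) F,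
      ((g⁻¹ : Matrix.GeneralLinearGroup (Fin a × Fin b) F) :
        Matrix (Fin a × Fin b) (Fin a × Fin b) F) = Gi := ⟨_, rfl⟩
  rw [hG] at h
  have hGGi : ∀ v : Fin a × Fin b → F, G *ᵥ (Gi *ᵥ v) = v := by
    intro v
    rw [Matrix.mulVec_mulVec, ← hG, ← hGi, ← Units.val_mul, mul_inv_cancel, Units.val_one,
      Matrix.one_mulVec]
  have hGiG : ∀ v : Fin a × Fin b → F, Gi *ᵥ (G *ᵥ v) = v := by
    intro v
    rw [Matrix.mulVec_mulVec, ← hG, ← hGi, ← Units.val_mul, inv_mul_cancel, Units.val_one,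
      Matrix.one_mulVec]
  -- (S1) the matrix `μ`
  obtain ⟨j₁, hj₁⟩ := tpns_exists_ne hw'
  obtain ⟨μ, hμdef⟩ : ∃ μ : Matrix (Fin a) (Fin a) F,
      μ = (w' j₁)⁻¹ • tpns_mat G (Pi.single j₁ 1) w := ⟨_, rfl⟩
  have hμ : ∀ u : Fin a → F, G *ᵥ ten u w = ten (μ *ᵥ u) w' := by
    intro u
    obtain ⟨u', hu'⟩ := h u
    rw [hu', hμdef, Matrix.smul_mulVec, tpns_mat_mulVec, hu', ctr_ten, single_one_dotProduct,
      smul_smul, inv_mul_cancel₀ hj₁, one_smul]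
  have hμinj : ∀ u : Fin a → F, μ *ᵥ u = 0 → u = 0 := by
    intro u hu
    have h1 := hμ u
    rw [hu, tpns_ten_zero_left] at h1
    have h2 := hGiG (ten u w)
    rw [h1, Matrix.mulVec_zero] at h2
    exact tpns_ten_eq_zero h2.symm hw
  have hμunit : IsUnit μ := by
    rw [← Matrix.mulVec_injective_iff_isUnit]
    intro u u' huu
    have h1 : μ *ᵥ (u - u') = 0 := by
      rw [Matrix.mulVec_sub]
      exact sub_eq_zero.2 huu
    exact sub_eq_zero.1 (hμinj _ h1)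
  have hμdet : IsUnit μ.det := (Matrix.isUnit_iff_isUnit_det μ).1 hμunit
  have hμiμ : ∀ u : Fin a → F, μ⁻¹ *ᵥ (μ *ᵥ u) = u := by
    intro u
    rw [Matrix.mulVec_mulVec, Matrix.nonsing_inv_mul μ hμdet, Matrix.one_mulVec]
  have hμμi : ∀ u : Fin a → F, μ *ᵥ (μ⁻¹ *ᵥ u) = u := by
    intro u
    rw [Matrix.mulVec_mulVec, Matrix.mul_nonsing_inv μ hμdet, Matrix.one_mulVec]
  -- (S2) the map `ψ ↦ φ` on `w^⊥`
  have hS2 : ∀ ψ : Fin b → F, ψ ⬝ᵥ w = 0 → ∃ φ : Fin b → F, φ ⬝ᵥ w' = 0 ∧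
      ∀ v : Fin a × Fin b → F, ctr φ (G *ᵥ v) = μ *ᵥ ctr ψ v := by
    intro ψ hψ
    have hxM : EL (1 : Matrix (Fin a) (Fin a) F) w ψ hψ ∈ M := hTM (tpmeet_EL_one_mem_T0 w ψ hψ)
    obtain ⟨t, htdef⟩ : ∃ t : Matrix.GeneralLinearGroup (Fin a × Fin b) F,
        t = g * EL (1 : Matrix (Fin a) (Fin a) F) w ψ hψ * g⁻¹ := ⟨_, rfl⟩
    have htM : t ∈ M := by
      rw [htdef]
      exact M.mul_mem (M.mul_mem hg hxM) (M.inv_mem hg)
    have htm : (t : Matrix (Fin a × Fin b) (Fin a × Fin b) F) = G * ELm 1 w ψ * Gi := by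
      rw [htdef, Units.val_mul, Units.val_mul, hG, hGi, EL_coe]
    have ht : ∀ v : Fin a × Fin b → F, (t : Matrix (Fin a × Fin b) (Fin a × Fin b) F) *ᵥ v =
        v + ten (μ *ᵥ ctr ψ (Gi *ᵥ v)) w' := by
      intro v
      rw [htm, ← Matrix.mulVec_mulVec, ← Matrix.mulVec_mulVec, ELm_mulVec, Matrix.one_mulVec,
        Matrix.mulVec_add, hGGi, hμ]
    have h1 : ∀ v : Fin a × Fin b → F,
        (t : Matrix (Fin a × Fin b) (Fin a × Fin b) F) *ᵥ v - v ∈ Bline (a := a) w' := by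
      intro v
      rw [ht v, add_sub_cancel_left]
      exact (mem_Bline w' _).2 ⟨_, rfl⟩
    have h2 : ∀ u : Fin a → F,
        (t : Matrix (Fin a × Fin b) (Fin a × Fin b) F) *ᵥ ten u w' = ten u w' := by
      intro u
      have e1 : Gi *ᵥ ten u w' = ten (μ⁻¹ *ᵥ u) w := by
        have h3 := hμ (μ⁻¹ *ᵥ u)
        rw [hμμi] at h3
        rw [← h3, hGiG]
      rw [ht, e1, ctr_ten, hψ, zero_smul, Matrix.mulVec_zero, tpns_ten_zero_left, add_zero]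
    obtain ⟨φ, hφ, hφm⟩ := unip_of_nt ha hb M hTM hNT w' hw' t htM h1 h2
    refine ⟨φ, hφ, fun v => ?_⟩
    have h3 := ht (G *ᵥ v)
    rw [hφm, ELm_mulVec, Matrix.one_mulVec, hGiG] at h3
    exact tpns_ten_left_inj (add_left_cancel h3) hw'
  -- (S3) the matrix `γ`
  obtain ⟨i₀, hi₀⟩ : ∃ i₀ : Fin a, i₀ = ⟨0, by omega⟩ := ⟨_, rfl⟩
  obtain ⟨e₀, he₀⟩ : ∃ e₀ : Fin a → F, e₀ = Pi.single i₀ 1 := ⟨_, rfl⟩
  have he₀i : e₀ i₀ = 1 := by rw [he₀, Pi.single_eq_same]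
  obtain ⟨m₀, hm₀⟩ : ∃ m₀ : Fin a → F, m₀ = μ *ᵥ e₀ := ⟨_, rfl⟩
  obtain ⟨γ, hγdef⟩ : ∃ γ : Matrix (Fin b) (Fin b) F, γ = LinearMap.toMatrix'
      ((tpstab_rowL i₀).comp ((Matrix.toLin' Gi).comp (tpstab_tenR m₀))) := ⟨_, rfl⟩
  have hγ : ∀ y : Fin b → F, γ *ᵥ y = fun k => (Gi *ᵥ ten m₀ y) (i₀, k) := by
    intro y
    rw [hγdef, LinearMap.toMatrix'_mulVec]
    rfl
  have hγ1 : γ *ᵥ w' = w := by
    rw [hγ, hm₀, ← hμ e₀, hGiG]
    funext k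
    simp only [ten]
    rw [he₀i, one_mul]
  have hγ2 : ∀ ψ φ : Fin b → F, ψ ⬝ᵥ w = 0 →
      (∀ v : Fin a × Fin b → F, ctr φ (G *ᵥ v) = μ *ᵥ ctr ψ v) → ψ ᵥ* γ = φ := by
    intro ψ φ hψ hφ
    funext k
    have h1 : ctr ψ (Gi *ᵥ ten m₀ (Pi.single k 1)) = φ k • e₀ := by
      have h2 := hφ (Gi *ᵥ ten m₀ (Pi.single k 1))
      rw [hGGi, ctr_ten, dotProduct_single_one] at h2
      have hm : φ k • m₀ = μ *ᵥ (φ k • e₀) := by rw [hm₀, Matrix.mulVec_smul]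
      rw [hm] at h2
      have h3 : μ *ᵥ (ctr ψ (Gi *ᵥ ten m₀ (Pi.single k 1)) - φ k • e₀) = 0 := by
        rw [Matrix.mulVec_sub, ← h2, sub_self]
      exact sub_eq_zero.1 (hμinj _ h3)
    have h4 := congrFun h1 i₀
    rw [Pi.smul_apply, he₀i, smul_eq_mul, mul_one] at h4
    rw [← h4]
    have h5 : (ψ ᵥ* γ) k = ψ ⬝ᵥ (γ *ᵥ Pi.single k 1) := by
      rw [Matrix.dotProduct_mulVec, dotProduct_single_one]
    rw [h5, hγ]
    simp only [ctr, dotProduct]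
    refine Finset.sum_congr rfl fun l _ => ?_
    ring
  -- (S4) the element `U = (μ⁻¹ ⊗ γ) g`
  obtain ⟨U, hUdef⟩ : ∃ U : Matrix (Fin a × Fin b) (Fin a × Fin b) F, U = (μ⁻¹ ⊗ₖ γ) * G := ⟨_, rfl⟩
  have hU1 : ∀ u : Fin a → F, U *ᵥ ten u w = ten u w := by
    intro u
    rw [hUdef, ← Matrix.mulVec_mulVec, hμ, kron_mulVec_ten, hμiμ, hγ1]
  have hU2c : ∀ ψ : Fin b → F, ψ ⬝ᵥ w = 0 → ∀ v : Fin a × Fin b → F, ctr ψ (U *ᵥ v) = ctr ψ v := by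
    intro ψ hψ v
    obtain ⟨φ, _, hφ⟩ := hS2 ψ hψ
    rw [hUdef, ← Matrix.mulVec_mulVec, tpstab_ctr_kron, hγ2 ψ φ hψ hφ, hφ, hμiμ]
  have hU2 : ∀ v : Fin a × Fin b → F, U *ᵥ v - v ∈ Bline (a := a) w := by
    intro v
    obtain ⟨u₁, hu₁⟩ := tpns_mem_Bline_of_ctr hw (U *ᵥ v - v)
      (fun ψ hψ => by rw [tpns_ctr_sub, hU2c ψ hψ, sub_self])
    exact (mem_Bline w _).2 ⟨u₁, hu₁⟩
  -- `det U = 1`
  obtain ⟨j₀, hj₀⟩ := tpns_exists_ne hw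
  obtain ⟨ι, hιdef⟩ : ∃ ι : Matrix (Fin a × Fin b) (Fin a) F,
      ι = LinearMap.toMatrix' (tpns_tenL (a := a) w) := ⟨_, rfl⟩
  have hι : ∀ u : Fin a → F, ι *ᵥ u = ten u w := by
    intro u
    rw [hιdef, LinearMap.toMatrix'_mulVec]
    rfl
  obtain ⟨ρ, hρdef⟩ : ∃ ρ : Matrix (Fin a) (Fin a × Fin b) F,
      ρ = (w j₀)⁻¹ • LinearMap.toMatrix'
        ((tpns_ctrL (a := a) (Pi.single j₀ 1)).comp (Matrix.toLin' (U - 1))) := ⟨_, rfl⟩
  have hρ : ∀ v : Fin a × Fin b → F,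
      ρ *ᵥ v = (w j₀)⁻¹ • ctr (Pi.single j₀ 1) (U *ᵥ v - v) := by
    intro v
    rw [hρdef, Matrix.smul_mulVec, LinearMap.toMatrix'_mulVec, LinearMap.comp_apply,
      Matrix.toLin'_apply, Matrix.sub_mulVec, Matrix.one_mulVec]
    rfl
  have hUeq : U = 1 + ι * ρ := by
    rw [Matrix.ext_iff_mulVec]
    intro v
    obtain ⟨u₁, hu₁⟩ := (mem_Bline w _).1 (hU2 v)
    rw [Matrix.add_mulVec, Matrix.one_mulVec, ← Matrix.mulVec_mulVec, hρ, hι, hu₁, ctr_ten,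
      single_one_dotProduct, smul_smul, inv_mul_cancel₀ hj₀, one_smul, ← hu₁]
    abel
  have hρι : ρ * ι = 0 := by
    rw [Matrix.ext_iff_mulVec]
    intro u
    rw [← Matrix.mulVec_mulVec, hι, hρ, hU1, sub_self, tpns_ctr_zero, smul_zero, Matrix.zero_mulVec]
  have hUdet : U.det = 1 := by
    rw [hUeq, Matrix.det_one_add_mul_comm, hρι, add_zero, Matrix.det_one]
  have hGdet : G.det = 1 := by
    rw [← hG]
    exact (Cfsg.Agent.Lib.Helper28.Transport.mem_SL_iff g).1 (hMS hg)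
  have hKdet : (μ⁻¹ ⊗ₖ γ).det = 1 := by
    have h1 := hUdet
    rw [hUdef, Matrix.det_mul, hGdet, mul_one] at h1
    exact h1
  have hγdet : γ.det ≠ 0 := by
    intro h0
    rw [Matrix.det_kronecker, h0, Fintype.card_fin, Fintype.card_fin, zero_pow (by omega),
      mul_zero] at hKdet
    exact zero_ne_one hKdet
  have hμidet : (μ⁻¹).det ≠ 0 := by
    intro h0
    rw [Matrix.det_kronecker, h0, Fintype.card_fin, Fintype.card_fin, zero_pow (by omega),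
      zero_mul] at hKdet
    exact zero_ne_one hKdet
  -- the element `τ = μ⁻¹ ⊗ γ` of `T0`
  obtain ⟨α₀, hα₀⟩ : ∃ α₀ : Matrix.GeneralLinearGroup (Fin a) F,
      (α₀ : Matrix (Fin a) (Fin a) F) = μ⁻¹ :=
    ⟨Matrix.GeneralLinearGroup.mkOfDetNeZero μ⁻¹ hμidet, rfl⟩
  obtain ⟨β₀, hβ₀⟩ : ∃ β₀ : Matrix.GeneralLinearGroup (Fin b) F,
      (β₀ : Matrix (Fin b) (Fin b) F) = γ :=
    ⟨Matrix.GeneralLinearGroup.mkOfDetNeZero γ hγdet, rfl⟩
  obtain ⟨τ, hτ⟩ : ∃ τ : Matrix.GeneralLinearGroup (Fin a × Fin b) F,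
      (τ : Matrix (Fin a × Fin b) (Fin a × Fin b) F) = μ⁻¹ ⊗ₖ γ :=
    ⟨Matrix.GeneralLinearGroup.mkOfDetNeZero (μ⁻¹ ⊗ₖ γ) (by rw [hKdet]; exact one_ne_zero), rfl⟩
  have hτK : τ ∈ K0 a b F := (mem_K0 τ).2 ⟨α₀, β₀, by rw [hτ, hα₀, hβ₀]⟩
  have hτS : τ ∈ Cfsg.Geo.specialLinear (Fin a × Fin b) F :=
    (Cfsg.Agent.Lib.Helper28.Transport.mem_SL_iff τ).2 (by rw [hτ]; exact hKdet)
  have hτM : τ ∈ M := hTM (Subgroup.mem_inf.mpr ⟨hτK, hτS⟩)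
  have hsM : τ * g ∈ M := M.mul_mem hτM hg
  have hsm : ((τ * g : Matrix.GeneralLinearGroup (Fin a × Fin b) F) :
      Matrix (Fin a × Fin b) (Fin a × Fin b) F) = U := by
    rw [Units.val_mul, hτ, hG, hUdef]
  obtain ⟨ψ₁, hψ₁, hs⟩ := unip_of_nt ha hb M hTM hNT w hw (τ * g) hsM
    (by intro v; rw [hsm]; exact hU2 v) (by intro u; rw [hsm]; exact hU1 u)
  have hs' : τ * g = EL (1 : Matrix (Fin a) (Fin a) F) w ψ₁ hψ₁ := Units.ext (by rw [hs, EL_coe])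
  have hsK : τ * g ∈ K0 a b F := by
    rw [hs']
    exact (Subgroup.mem_inf.mp (tpmeet_EL_one_mem_T0 w ψ₁ hψ₁)).1
  have hfin : g = τ⁻¹ * (τ * g) := by group
  rw [hfin]
  exact (K0 a b F).mul_mem ((K0 a b F).inv_mem hτK) hsK

end Cfsg.Agent.Lib.helper7.TP
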