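import Mathlib
import Cfsg.Agent.Lib.helper3.T2E.Defs
import Cfsg.Agent.Lib.helper8.ChevTwE6H16
import Cfsg.Agent.Lib.helper8.ChevTwE6c
import Cfsg.Agent.Lib.helper8.ChevFix4
import Cfsg.Agent.Lib.helper8.ChevBN3

/-!
# Project T2E (S2108, designer helper3), row D4 (`XT_conj`) (helper4), VERBATIM.
An element `n ∈ G¹` conjugating the root group `X r` to `X r'` (with the scalar `κ`) conjugates `XT q r` to `XT q r'`.
Extra: distinct root groups of `E₆(K)` meet trivially (`t2ed4helper4_X_eq`), by the matrix entry `(e_r, e_{-r})`.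
-/

set_option autoImplicit false

namespace Cfsg.Agent.Lib.helper3.T2E

open Cfsg.Lie Cfsg.Lie.ChevalleyDatum Matrix
open Cfsg.Agent.Lib.helper8 Cfsg.Agent.Lib.Helper10.TEM Cfsg.Agent.Lib.helper7.Ce
  Cfsg.Agent.Lib.helper15.St2

universe u

variable {K : Type u} [Field K] {q : ℕ} {f : K ≃+* K}

set_option synthInstance.maxSize 1024 in
/-- no `s`-chain through `-r` reaches `r` unless `s = ± r` -/
theorem t2ed4helper4_chain : ∀ r < 72, ∀ s < 72, s ≠ r → s ≠ 71 - r →
    chevE6.chainCoeff s (71 - r) r = [] := by decide +kernel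

theorem t2ed4helper4_lt (r : ℕ) : 71 - r < chevE6.nroots := by
  show 71 - r < 72
  omega

/-- the entry `(e_r, e_{-r})` of `x_r(a)` is `-a²` -/
theorem t2ed4helper4_entry_self (r : ℕ) (hr : r < 72) (a : K) :
    ((X r a : GG K) : Matrix chevE6.Idx chevE6.Idx K) (Sum.inr ⟨r, hr⟩) (Sum.inr ⟨71 - r, t2ed4helper4_lt r⟩) =
      -(a ^ 2) := by
  have hneg : chevE6.negIdx.getD r 0 = 71 - r := (root_data r hr).2.1
  have hne : 71 - r ≠ r := by omega
  have hne' : r ≠ 71 - r := by omega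
  unfold X
  rw [h8xU_val]
  unfold ChevalleyDatum.x
  have hr2 : r < chevE6.nroots := hr
  rw [dif_pos hr2]
  unfold ChevalleyDatum.xMat
  rw [Matrix.of_apply]
  simp only [Fin.mk.injEq, hne, hne', hneg, if_false, if_true]
  rw [if_neg (fun e => hne' (congrArg Fin.val e))]

/-- the entry `(e_r, e_{-r})` of `x_s(b)`, `s ≠ r`, is `0` -/
theorem t2ed4helper4_entry_ne (r s : ℕ) (hr : r < 72) (hs : s < 72) (hsr : s ≠ r) (b : K) :
    ((X s b : GG K) : Matrix chevE6.Idx chevE6.Idx K) (Sum.inr ⟨r, hr⟩) (Sum.inr ⟨71 - r, t2ed4helper4_lt r⟩) = 0 := by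
  have hneg : chevE6.negIdx.getD s 0 = 71 - s := (root_data s hs).2.1
  have hne : 71 - r ≠ r := by omega
  have hne' : r ≠ 71 - r := by omega
  have hrs : r ≠ s := fun e => hsr e.symm
  unfold X
  rw [h8xU_val]
  unfold ChevalleyDatum.x
  have hs2 : s < chevE6.nroots := hs
  rw [dif_pos hs2]
  unfold ChevalleyDatum.xMat
  rw [Matrix.of_apply]
  by_cases h1 : s = 71 - r
  · have h2 : 71 - r = s := h1.symm
    simp only [Fin.mk.injEq, h2, hrs, if_false, if_true]
    rw [if_neg (fun e => hrs (congrArg Fin.val e))]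
  · have h2 : ¬ 71 - r = s := fun e => h1 e.symm
    have h3 : ¬ 71 - r = 71 - s := by omega
    have hch := t2ed4helper4_chain r hr s hs hsr h1
    simp only [Fin.mk.injEq, h2, h3, hneg, hne', hch, if_false, List.map_nil, List.sum_nil, add_zero]
    rw [if_neg (fun e => hne' (congrArg Fin.val e))]

/-- distinct root groups meet trivially -/
theorem t2ed4helper4_X_eq (r s : ℕ) (hr : r < 72) (hs : s < 72) (hsr : s ≠ r) (a b : K)
    (h : (X r a : GG K) = X s b) : a = 0 := by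
  have h1 := congrArg (fun g : GG K =>
    (g : Matrix chevE6.Idx chevE6.Idx K) (Sum.inr ⟨r, hr⟩) (Sum.inr ⟨71 - r, t2ed4helper4_lt r⟩)) h
  simp only [t2ed4helper4_entry_self, t2ed4helper4_entry_ne r s hr hs hsr] at h1
  simpa using h1

theorem t2ed4helper4_eta_ne (r : ℕ) (hr : r < 72) : ((h8eE6 r : ℤ) : K) ≠ 0 := by
  rcases (root_data r hr).2.2.2.2.2.2.1 with e | e
  · rw [e]; simp
  · rw [e]; simp

theorem t2ed4helper4_eta_fix (r : ℕ) (hr : r < 72) (hσ : h8sE6 r = r) : ((h8eE6 r : ℤ) : K) = 1 := by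
  rw [(root_data r hr).2.2.2.2.2.2.2.1 hσ]; simp

-- ROW D4 [M]  `Sg f n = n` (`sig_fix`), so `n * X (σ r) (η_r f t) * n⁻¹ = Sg f (n * X r t * n⁻¹) = X (σ r') (η_{r'} f (κ t))`
-- (`Sg_X`).  `r` fixed: then `X r' (κ f t) = X (σ r') (η f κ f t)` for all `t`, so `σ r' = r'` and `f κ = κ`
-- (`h8xU_inj_t` / distinct root groups).  `r` not fixed: `r'` is not fixed (else `n` maps `X r` and `X (σ r)` onto the
-- same root group), and the product of the two conjugates is `XS q r' (κ t)`.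
theorem XT_conj (hF : Frob q f) (n : GG K) (hn : n ∈ twistedE6 K q) (r r' : ℕ) (hr : r < 72)
    (hr' : r' < 72) (κ : K) (h : ∀ t, n * X r t * n⁻¹ = X r' (κ * t)) (t : K) (ht : Adm q r t) :
    Adm q r' (κ * t) ∧ n * XT q r t * n⁻¹ = XT q r' (κ * t) := by
  have hσr : h8sE6 r < 72 := (root_data r hr).2.2.1
  have hσr' : h8sE6 r' < 72 := (root_data r' hr').2.2.1
  have hn' : Sg f n = n := sig_fix hF n hn
  have star : ∀ t, n * X (h8sE6 r) (((h8eE6 r : ℤ) : K) * f t) * n⁻¹ =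
      X (h8sE6 r') (((h8eE6 r' : ℤ) : K) * f (κ * t)) := by
    intro t
    have := congrArg (Sg f) (h t)
    rw [map_mul, map_mul, map_inv, hn', Sg_X f r hr, Sg_X f r' hr'] at this
    exact this
  have hX0 : ∀ s : ℕ, (X s (0 : K) : GG K) = 1 := fun s => h8xU_zero chevE6 hB s
  have hκ : κ ≠ 0 := by
    rintro rfl
    have h1 := h 1
    rw [zero_mul, hX0] at h1
    have h2 : (X r (1 : K) : GG K) = 1 := by
      have e : (X r (1 : K) : GG K) = n⁻¹ * (n * X r 1 * n⁻¹) * n := by group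
      rw [e, h1]; group
    have := h8xU_inj_t chevE6 hB hA hW r hr (1 : K) 0 (by
      show (X r (1 : K) : GG K) = X r 0
      rw [h2, hX0])
    exact one_ne_zero this
  by_cases hσ : h8sE6 r = r
  · have hη1r : ((h8eE6 r : ℤ) : K) = 1 := t2ed4helper4_eta_fix r hr hσ
    have e1 : ∀ t, (X r' (κ * f t) : GG K) = X (h8sE6 r') (((h8eE6 r' : ℤ) : K) * f (κ * t)) := by
      intro t
      rw [← star t, hσ, hη1r, one_mul, h]
    have hσ' : h8sE6 r' = r' := by
      by_contra hne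
      have := t2ed4helper4_X_eq r' (h8sE6 r') hr' hσr' hne _ _ (e1 1)
      rw [map_one, mul_one] at this
      exact hκ this
    have hη1r' : ((h8eE6 r' : ℤ) : K) = 1 := t2ed4helper4_eta_fix r' hr' hσ'
    have hfκ : f κ = κ := by
      have := e1 1
      rw [hσ', hη1r', one_mul, map_one, mul_one] at this
      exact (h8xU_inj_t chevE6 hB hA hW r' hr' _ _ this).symm
    refine ⟨fun _ => ?_, ?_⟩
    · rw [← hF.pow, map_mul, hfκ, hF.pow, ht hσ]
    · unfold XT
      rw [if_pos hσ, if_pos hσ']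
      exact h t
  · have hσ' : h8sE6 r' ≠ r' := by
      intro hσ'
      have hη1r' : ((h8eE6 r' : ℤ) : K) = 1 := t2ed4helper4_eta_fix r' hr' hσ'
      have s1 := star 1
      rw [hσ', hη1r', one_mul, map_one, mul_one, mul_one] at s1
      have s2 := h (κ⁻¹ * f κ)
      rw [mul_inv_cancel_left₀ hκ] at s2
      have e : (X (h8sE6 r) (((h8eE6 r : ℤ) : K)) : GG K) = X r (κ⁻¹ * f κ) := by
        have e' : n * X (h8sE6 r) (((h8eE6 r : ℤ) : K)) * n⁻¹ = n * X r (κ⁻¹ * f κ) * n⁻¹ := by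
          rw [s1, s2]
        exact mul_left_cancel (mul_right_cancel e')
      exact t2ed4helper4_eta_ne r hr (t2ed4helper4_X_eq (h8sE6 r) r hσr hr (Ne.symm hσ) _ _ e)
    refine ⟨fun h0 => absurd h0 hσ', ?_⟩
    unfold XT
    rw [if_neg hσ, if_neg hσ']
    unfold XS
    have s1 := star t
    rw [hF.pow, hF.pow] at s1
    have e : n * (X r t * X (h8sE6 r) (((h8eE6 r : ℤ) : K) * t ^ q)) * n⁻¹ =
        (n * X r t * n⁻¹) * (n * X (h8sE6 r) (((h8eE6 r : ℤ) : K) * t ^ q) * n⁻¹) := by group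
    rw [e, h t, s1]

end Cfsg.Agent.Lib.helper3.T2E
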