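import Mathlib
import Cfsg.Agent.Lib.Helper24.T3C.Defs2
import Cfsg.Agent.Lib.helper23.CEUE1
import Cfsg.Agent.Lib.helper3.SL2Mult
import Cfsg.Agent.Lib.Helper19.SL2Normal

/-!
# Project T3C (sub-designer helper24; family T3 of helper17, for S2110), rows T2 (`CL_ll0 CL_sl0 CL_ls1 CL_ll1`) and T3 (`CL_sl1 CL_ls2`) (helper4), VERBATIM.
T2 by Milnor's trick, T3 by the torus trick with `g = S.hs k s`; self-contained: own-name copies `t3ct3_hs_s0`, `t3ct3_hs_l1`, `t3ct3_hs_l4` of the statements of T1.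
-/

set_option autoImplicit false

namespace Cfsg.Agent.Lib.Helper24.T3C

open Cfsg.Agent.Lib.helper15.St2 Cfsg.Agent.Lib.helper7.Ce Cfsg.Agent.Lib.helper17.T3

variable {F K : Type*} [Field F] [Field K] [Algebra F K] {C : Cub F K} {G : Type*} [Group G] {Γ : Type*} [Group Γ]
  {π : Γ →* G} {S : SysT C G}

section T

/-- own-name copy of T1 `hs_s0` -/
theorem t3ct3_hs_s0 (S : SysT C G) (k : ZMod 6) (t u : K) (ht : t ≠ 0) :
    cj (S.hs k t) (S.xs k u) = S.xs k (t ^ 2 * u) := by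
  have h1 : cj (S.ws k 1) (S.xs (k + 3) u) = S.xs k u := by
    have := S.ws_s3 k 1 u one_ne_zero
    rw [one_pow, one_mul] at this
    exact this
  have h2 : cj (S.ws k 1)⁻¹ (S.xs k u) = S.xs (k + 3) u := cj_inv_of h1
  unfold SysT.hs
  rw [← cj_cj, h2]
  exact S.ws_s3 k t u ht

/-- own-name copy of T1 `hs_l1` -/
theorem t3ct3_hs_l1 (S : SysT C G) (k : ZMod 6) (t : K) (c : F) (ht : t ≠ 0) :
    cj (S.hs k t) (S.xl (k + 1) c) = S.xl (k + 1) c := by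
  have h1 : cj (S.ws k 1) (S.xl (k + 1) c) = S.xl (k + 1) c := S.ws_l1 k 1 c one_ne_zero
  have h2 : cj (S.ws k 1)⁻¹ (S.xl (k + 1) c) = S.xl (k + 1) c := cj_inv_of h1
  unfold SysT.hs
  rw [← cj_cj, h2]
  exact S.ws_l1 k t c ht

/-- own-name copy of T1 `hs_l4` -/
theorem t3ct3_hs_l4 (S : SysT C G) (k : ZMod 6) (t : K) (c : F) (ht : t ≠ 0) :
    cj (S.hs k t) (S.xl (k + 4) c) = S.xl (k + 4) c := by
  have h1 : cj (S.ws k 1) (S.xl (k + 4) c) = S.xl (k + 4) c := S.ws_l4 k 1 c one_ne_zero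
  have h2 : cj (S.ws k 1)⁻¹ (S.xl (k + 4) c) = S.xl (k + 4) c := cj_inv_of h1
  unfold SysT.hs
  rw [← cj_cj, h2]
  exact S.ws_l4 k t c ht

/-- a long root element is a commutator of short root elements -/
theorem t3ct2_xl_eq_ss (hG : C.Good) (S : SysT C G) (k : ZMod 6) (c : F) :
    ∃ s : K, S.xl k c = cm (S.xs k s) (S.xs (k + 1) 1) := by
  obtain ⟨s, hs⟩ := hG.tr_surj (-c)
  refine ⟨s, ?_⟩
  rw [S.ss1, mul_one, hs, neg_neg]

/-- a long root element is a commutator of long root elements -/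
theorem t3ct2_xl_eq_ll (S : SysT C G) (j : ZMod 6) (c : F) :
    S.xl (j + 1) c = cm (S.xl j c) (S.xl (j + 2) 1) := by
  rw [S.ll, mul_one]

/-- T2 [M] (four statements) -/
theorem CL_ll0 (h : IsCE π) (hG : C.Good) (S : SysT C G) (k : ZMod 6) (c d : F) :
    CL π (S.xl k c) (S.xl k d) := by
  obtain ⟨s, hs⟩ := t3ct2_xl_eq_ss hG S k c
  rw [hs]
  exact h.milnor (S.c_sl0 k s d) (S.c_ls1 k d 1).symm

theorem CL_sl0 (h : IsCE π) (S : SysT C G) (k : ZMod 6) (s : K) (c : F) :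
    CL π (S.xs k s) (S.xl k c) := by
  obtain ⟨j, rfl⟩ : ∃ j, k = j + 1 := ⟨k - 1, by ring⟩
  have e : j + 1 + 1 = j + 2 := by ring
  apply CL.symm
  rw [t3ct2_xl_eq_ll S j c]
  apply h.milnor (S.c_ls1 j c s)
  have := S.c_sl1 (j + 1) s 1
  rw [e] at this
  exact this.symm

theorem CL_ls1 (h : IsCE π) (S : SysT C G) (k : ZMod 6) (c : F) (s : K) :
    CL π (S.xl k c) (S.xs (k + 1) s) := by
  obtain ⟨j, rfl⟩ : ∃ j, k = j + 1 := ⟨k - 1, by ring⟩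
  have e : j + 1 + 1 = j + 2 := by ring
  rw [e, t3ct2_xl_eq_ll S j c]
  exact h.milnor (S.c_ls2 j c s) (S.c_sl0 (j + 2) s 1).symm

theorem CL_ll1 (h : IsCE π) (hG : C.Good) (S : SysT C G) (k : ZMod 6) (c d : F) :
    CL π (S.xl k c) (S.xl (k + 1) d) := by
  obtain ⟨s, hs⟩ := t3ct2_xl_eq_ss hG S k c
  rw [hs]
  exact h.milnor (S.c_sl1 k s d) (S.c_sl0 (k + 1) 1 d)

/-- T3 [M] (two statements) -/
theorem CL_sl1 (h : IsCE π) (hs : ∃ s : K, s ≠ 0 ∧ s ^ 2 ≠ 1) (S : SysT C G) (k : ZMod 6) (s : K) (c : F) :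
    CL π (S.xs k s) (S.xl (k + 1) c) := by
  obtain ⟨v, hv0, hv2⟩ := hs
  exact h.torus (S.xs k) (fun s t => (S.adds k s t).symm) (S.xl (k + 1) c) (S.hs k v) (v ^ 2) hv2
    (fun t => S.c_sl1 k t c) (fun t => t3ct3_hs_s0 S k v t hv0) (t3ct3_hs_l1 S k v c hv0) s

theorem CL_ls2 (h : IsCE π) (hs : ∃ s : K, s ≠ 0 ∧ s ^ 2 ≠ 1) (S : SysT C G) (k : ZMod 6) (c : F) (s : K) :
    CL π (S.xl k c) (S.xs (k + 2) s) := by
  obtain ⟨v, hv0, hv2⟩ := hs
  have e : k + 2 + 4 = k := by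
    have : (2 : ZMod 6) + 4 = 0 := by decide
    rw [add_assoc, this, add_zero]
  have hfix : cj (S.hs (k + 2) v) (S.xl k c) = S.xl k c := by
    have := t3ct3_hs_l4 S (k + 2) v c hv0
    rw [e] at this
    exact this
  apply CL.symm
  exact h.torus (S.xs (k + 2)) (fun s t => (S.adds (k + 2) s t).symm) (S.xl k c) (S.hs (k + 2) v) (v ^ 2) hv2
    (fun t => (S.c_ls2 k c t).symm) (fun t => t3ct3_hs_s0 S (k + 2) v t hv0) hfix s

end T

end Cfsg.Agent.Lib.Helper24.T3C
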