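import Cfsg.Agent.Lib.Helper21.TS.Basic

/-!
# Project TS, piece MAINA: core of `main_tv`
(a transvection `≠ 1` with pure centre `u ⊗ w` is `X_u(c • opm J2 w w)`, self-adjoint and non-scalar)

The statement of `main_A` is taken as a hypothesis in `tsmaina_tv_core`.
-/

set_option autoImplicit false
set_option linter.unusedSectionVars false
set_option linter.unusedVariables false

namespace Cfsg.Agent.Lib.Helper21.TS

open Matrix
open scoped Kronecker
open Cfsg.Agent.Lib.helper7.TP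

variable {ι : Type*} [Fintype ι] [DecidableEq ι] {a b : ℕ} {F : Type*} [Field F]
  {J1 : Matrix (Fin a) (Fin a) F} {J2 : Matrix (Fin b) (Fin b) F}
  {M : Subgroup (Matrix.GeneralLinearGroup (Fin a × Fin b) F)}

/-- the rank one operator of two pure tensors is a Kronecker product. -/
theorem tsmaina_opm_ten (u u' : Fin a → F) (w w' : Fin b → F) :
    opm (JV J1 J2) (ten u w) (ten u' w') = opm J1 u u' ⊗ₖ opm J2 w w' := by
  ext ⟨i, j⟩ ⟨i', j'⟩
  simp only [opm, JV, Matrix.vecMulVec_apply, Matrix.kroneckerMap_apply, Matrix.vecMul, dotProduct, ten,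
    Fintype.sum_prod_type]
  have key : ∑ x, ∑ y, u' x * w' y * (J1 x i' * J2 y j') =
      (∑ x, u' x * J1 x i') * (∑ y, w' y * J2 y j') := by
    rw [Finset.sum_mul_sum]
    apply Finset.sum_congr rfl
    intro x _
    apply Finset.sum_congr rfl
    intro y _
    ring
  rw [key]
  ring

/-- a transvection with pure centre is `X_u(c w w^*)`. -/
theorem tsmaina_XAm_tv (u : Fin a → F) (w : Fin b → F) (c : F) :
    tvm (JV J1 J2) (ten u w) c = XAm J1 u (c • opm J2 w w) := by
  rw [tvm, XAm, tsmaina_opm_ten, Matrix.kronecker_smul]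

theorem tsmaina_selfadj {J : Matrix ι ι F} (hJ : Jᵀ = J) (w : ι → F) (c : F) :
    SelfAdj J (c • opm J w w) := by
  unfold SelfAdj
  apply bf_ext
  intro x y
  rw [← bf_mulVec_left, ← bf_mulVec_right, Matrix.smul_mulVec, Matrix.smul_mulVec, opm_mulVec,
    opm_mulVec, bf_smul_left, bf_smul_left, bf_smul_right, bf_smul_right, bf_symm hJ x w]
  ring

/-- `c w w^*` (`c ≠ 0`, `w ≠ 0`, `b ≥ 2`) is not a scalar matrix. -/
theorem tsmaina_nonscalar {J : Matrix (Fin b) (Fin b) F} (hdet : J.det ≠ 0) (hb : 2 ≤ b)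
    {w : Fin b → F} (hw : w ≠ 0) {c : F} (hc : c ≠ 0) (d : F) :
    c • opm J w w ≠ d • (1 : Matrix (Fin b) (Fin b) F) := by
  intro h
  have hv : ∀ v : Fin b → F, (c * bf J w v) • w = d • v := by
    intro v
    have := congrArg (fun A => A *ᵥ v) h
    simp only [Matrix.smul_mulVec, opm_mulVec, Matrix.one_mulVec, smul_smul] at this
    exact this
  obtain ⟨y, hy⟩ := bf_nondeg hdet hw
  have hd : d ≠ 0 := by
    intro hd
    have h1 := hv y
    rw [hd, zero_smul] at h1
    rcases smul_eq_zero.mp h1 with h2 | h2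
    · exact (mul_ne_zero hc hy) h2
    · exact hw h2
  have hall : ∀ v : Fin b → F, ∃ α : F, v = α • w := by
    intro v
    refine ⟨d⁻¹ * (c * bf J w v), ?_⟩
    rw [← smul_smul, hv v, smul_smul, inv_mul_cancel₀ hd, one_smul]
  obtain ⟨i0, i1, hi⟩ : ∃ i0 i1 : Fin b, i0 ≠ i1 :=
    ⟨⟨0, by omega⟩, ⟨1, by omega⟩, fun h => absurd (Fin.mk.inj h) (by norm_num)⟩
  obtain ⟨α, e0⟩ := hall (Pi.single i0 1)
  obtain ⟨β, e1⟩ := hall (Pi.single i1 1)
  have a0 := congrFun e0 i0
  have a1 := congrFun e0 i1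
  have b1 := congrFun e1 i1
  rw [Pi.single_eq_same, Pi.smul_apply, smul_eq_mul] at a0 b1
  rw [Pi.single_eq_of_ne hi.symm, Pi.smul_apply, smul_eq_mul] at a1
  have hα : α ≠ 0 := by
    intro h
    rw [h, zero_mul] at a0
    exact one_ne_zero a0
  have hw1 : w i1 = 0 := by
    rcases mul_eq_zero.mp a1.symm with h | h
    · exact (hα h).elim
    · exact h
  rw [hw1, mul_zero] at b1
  exact one_ne_zero b1

/-- MAINTV core: `main_tv` with the statement of `main_A` as a hypothesis. -/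
theorem tsmaina_tv_core (C : Ctx J1 J2) (hb : 2 ≤ b)
    (hA : ∀ (u : Fin a → F), u ≠ 0 → ∀ (η : Matrix (Fin b) (Fin b) F), η ∈ LamU J1 J2 M u →
      (∀ c : F, η ≠ c • 1) → ∀ v : Fin a × Fin b → F, TT J1 J2 M v)
    (hNT : ¬ NTp J1 J2 M) : ∀ v : Fin a × Fin b → F, TT J1 J2 M v := by
  unfold NTp at hNT
  push Not at hNT
  obtain ⟨u, w, c, hu, hw, hc, hin⟩ := hNT
  rw [tsmaina_XAm_tv] at hin
  have hmem : c • opm J2 w w ∈ LamU J1 J2 M u := by
    unfold LamU
    exact ⟨tsmaina_selfadj C.sym w c, hin⟩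
  exact hA u hu (c • opm J2 w w) hmem (tsmaina_nonscalar C.det2 hb hw hc)

end Cfsg.Agent.Lib.Helper21.TS
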