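import Mathlib
import Cfsg.Agent.Lib.Helper19.ORE.Defs

/-!
# ORE row D3 (`rep_prod`): `Rep` of a product is the block diagonal matrix.
-/

set_option autoImplicit false

namespace Cfsg.Agent.Lib.Helper19.ORE

open Polynomial Module

universe u v w

section General
variable {F : Type u} [Field F]

/-- the coordinate isomorphism `(Fin k → F) × (Fin l → F) ≃ (Fin (k + l) → F)`. -/
noncomputable def ored3_glue (k l : ℕ) : ((Fin k → F) × (Fin l → F)) ≃ₗ[F] (Fin (k + l) → F) :=
  (LinearEquiv.sumArrowLequivProdArrow (Fin k) (Fin l) F F).symm.trans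
    (LinearEquiv.funCongrLeft F F finSumFinEquiv.symm)

theorem ored3_glue_apply (k l : ℕ) (a : Fin k → F) (b : Fin l → F) :
    ored3_glue (F := F) k l (a, b) = Sum.elim a b ∘ finSumFinEquiv.symm := by
  funext i
  simp only [ored3_glue, LinearEquiv.trans_apply, LinearEquiv.funCongrLeft_apply,
    LinearMap.funLeft_apply, Function.comp_apply]
  cases h : finSumFinEquiv.symm i with
  | inl j => simp [LinearEquiv.sumArrowLequivProdArrow]
  | inr j => simp [LinearEquiv.sumArrowLequivProdArrow]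

theorem ored3_blk_mulVec {k l : ℕ} (M : Matrix (Fin k) (Fin k) F) (M' : Matrix (Fin l) (Fin l) F)
    (a : Fin k → F) (b : Fin l → F) :
    (blk M M').mulVec (Sum.elim a b ∘ finSumFinEquiv.symm) =
      Sum.elim (M.mulVec a) (M'.mulVec b) ∘ finSumFinEquiv.symm := by
  unfold blk
  rw [Matrix.reindex_apply, Matrix.submatrix_mulVec_equiv, Matrix.fromBlocks_mulVec]
  congr 1
  simp only [Equiv.symm_symm]
  have h1 : (Sum.elim a b ∘ finSumFinEquiv.symm) ∘ (finSumFinEquiv : Fin k ⊕ Fin l ≃ Fin (k + l)) =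
      Sum.elim a b := by
    funext i
    simp
  rw [h1]
  funext i
  cases i with
  | inl j => simp
  | inr j => simp

/-- **D3** (`(Fin k → F) × (Fin l → F) ≃ (Fin (k + l) → F)`, e.g. `Fin.appendEquiv` /
`LinearEquiv.sumArrowLequivProdArrow` + `finSumFinEquiv`). -/
theorem rep_prod {V : Type v} {W : Type w} [AddCommGroup V] [Module F V] [AddCommGroup W]
    [Module F W] {k l : ℕ} {g : V ≃ₗ[F] V} {h : W ≃ₗ[F] W} {M : Matrix (Fin k) (Fin k) F}
    {M' : Matrix (Fin l) (Fin l) F} (hg : Rep g M) (hh : Rep h M') :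
    Rep (g.prodCongr h) (blk M M') := by
  obtain ⟨e, he⟩ := hg
  obtain ⟨f, hf⟩ := hh
  refine ⟨(e.prodCongr f).trans (ored3_glue k l), ?_⟩
  rintro ⟨x, y⟩
  simp only [LinearEquiv.trans_apply, LinearEquiv.prodCongr_apply, Prod.map_apply]
  rw [ored3_glue_apply, ored3_glue_apply, ored3_blk_mulVec, he, hf]

end General

end Cfsg.Agent.Lib.Helper19.ORE
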