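import Mathlib
import Cfsg.Agent.Lib.Helper19.ORE.Defs

/-!
# ORE row C4 (`cyc_flex`), core: a cyclic `g` of determinant 1 in dimension `≥ 3` is flexible.

The statements of the rows C2 (`cyc_piece`), B2 (`block_lu`, at `X₁ = Fin d → F`, `X₂ = F`) and
C3 (`line_sol`, at `V = F`) are taken as hypotheses.
-/

set_option autoImplicit false

namespace Cfsg.Agent.Lib.Helper19.ORE

open Polynomial Module

universe u v

section General
variable {F : Type u} [Field F]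

theorem orec4_smulE_one : smulE (1 : Fˣ) = (1 : F ≃ₗ[F] F) := by
  apply LinearEquiv.ext
  intro x
  show ((1 : Fˣ) • x : F) = x
  exact one_smul _ x

theorem orec4_det_smulE_one : LinearEquiv.det (smulE (1 : Fˣ)) = 1 := by
  rw [orec4_smulE_one, map_one]

theorem orec4_solP_zero {V : Type v} [AddCommGroup V] [Module F V] {g : V ≃ₗ[F] V}
    {D E : Fˣ} {p : F[X]} (hg : SolP g D E p) : SolP g D E 0 := by
  obtain ⟨A, y, h1, h2, h3, _⟩ := hg
  exact ⟨A, y, h1, h2, h3, by simp⟩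

/-- `X - C a` is coprime to `p` if `p` is coprime to `X ^ (q - 1) - 1`. -/
theorem orec4_coprime [Fintype F] (p : F[X]) (a : Fˣ)
    (hp : IsCoprime p (X ^ (Fintype.card F - 1) - 1)) : IsCoprime p (X - C (a : F)) := by
  refine IsCoprime.of_isCoprime_of_dvd_right hp ?_
  rw [Polynomial.dvd_iff_isRoot]
  simp only [IsRoot.def, eval_sub, eval_pow, eval_X, eval_one]
  rw [FiniteField.pow_card_sub_one_eq_one (a : F) a.ne_zero, sub_self]

theorem orec4_not_dvd (q d : ℕ) (hq : 2 ≤ q) (hd : 2 ≤ d) : ¬ (q ^ d - 1 ∣ q - 1) := by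
  intro h
  have h1 : q ^ d - 1 ≤ q - 1 := Nat.le_of_dvd (by omega) h
  have h2 : q ^ 2 ≤ q ^ d := Nat.pow_le_pow_right (by omega) hd
  have h3 : q * 2 ≤ q ^ 2 := by nlinarith
  omega

/-- **C4 core**. -/
theorem orec4_core [Fintype F] {V : Type v} [AddCommGroup V] [Module F V] [FiniteDimensional F V]
    (g : V ≃ₗ[F] V) (hg : IsCyc g) (h3 : 3 ≤ finrank F V) (hdet : LinearEquiv.det g = 1)
    (hC2 : ∀ (d : ℕ), 1 ≤ d → finrank F V = d + 1 →
      ∃ (m : (Fin d → F) ≃ₗ[F] (Fin d → F)) (p : F[X]) (D₀ : Fˣ),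
        Split g m (smulE (LinearEquiv.det g)) ∧
        (∀ k : ℕ, ¬ (Fintype.card F ^ d - 1 ∣ k) → IsCoprime p (X ^ k - 1)) ∧
        ∀ E' : Fˣ, SolP m D₀ E' p)
    (hB2 : ∀ {d : ℕ} {m : (Fin d → F) ≃ₗ[F] (Fin d → F)} {g₂ : F ≃ₗ[F] F}, Split g m g₂ →
      ∀ {D₁ E₁ D₂ E₂ : Fˣ} {p₁ p₂ : F[X]}, SolP m D₁ E₁ p₁ → SolP g₂ D₂ E₂ p₂ →
        IsCoprime p₁ p₂ → SolP g (D₁ * D₂) (E₁ * E₂) (p₁ * p₂))
    (hC3 : ∀ (g₂ : F ≃ₗ[F] F), finrank F F = 1 → LinearEquiv.det g₂ = 1 → ∀ a e : Fˣ,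
      SolP g₂ a e (X - C (a : F))) :
    Flex g := by
  have _ := hg
  obtain ⟨d, hd⟩ : ∃ d, finrank F V = d + 1 := ⟨finrank F V - 1, by omega⟩
  have hd2 : 2 ≤ d := by omega
  obtain ⟨m, p, D₀, hsplit, hcop, hsol⟩ := hC2 d (by omega) hd
  rw [hdet] at hsplit
  have hq : 2 ≤ Fintype.card F := Fintype.one_lt_card
  intro D E
  have hline := hC3 (smulE (1 : Fˣ)) (Module.finrank_self F) orec4_det_smulE_one (D₀⁻¹ * D) 1
  have hc : IsCoprime p (X - C ((D₀⁻¹ * D : Fˣ) : F)) :=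
    orec4_coprime p _ (hcop _ (orec4_not_dvd _ d hq hd2))
  have key := hB2 hsplit (hsol E) hline hc
  have e1 : D₀ * (D₀⁻¹ * D) = D := by group
  rw [e1, mul_one] at key
  exact orec4_solP_zero key

end General

end Cfsg.Agent.Lib.Helper19.ORE
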