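import Mathlib
import Cfsg.Agent.Lib.helper23.P4S.DefsC

/-! P4C row FIXV (`gsum_fix`), helper4. -/

set_option autoImplicit false

namespace Cfsg.Agent.Lib.helper23.P4S

open Matrix
open scoped Kronecker

theorem p4cfixv_pow {E : Type*} [Field E] {ι : Type*} [Fintype ι] [DecidableEq ι]
    (M : Matrix ι ι E) (v : ι → E) (hM : M *ᵥ v = v) (i : ℕ) : (M ^ i) *ᵥ v = v := by
  induction i with
  | zero => rw [pow_zero, Matrix.one_mulVec]
  | succ i ih => rw [pow_succ, ← Matrix.mulVec_mulVec, hM, ih]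

theorem p4cfixv_apply {E : Type*} [Field E] {ι : Type*} [Fintype ι] [DecidableEq ι]
    (M : Matrix ι ι E) (v : ι → E) (hM : M *ᵥ v = v) (k : ℕ) : gsum M k *ᵥ v = (k : E) • v := by
  induction k with
  | zero =>
    unfold gsum
    rw [Finset.range_zero, Finset.sum_empty, Matrix.zero_mulVec, Nat.cast_zero, zero_smul]
  | succ k ih =>
    have h1 : gsum M (k + 1) = gsum M k + M ^ k := by
      unfold gsum
      rw [Finset.sum_range_succ]
    rw [h1, Matrix.add_mulVec, ih, p4cfixv_pow M v hM k, Nat.cast_succ, add_smul, one_smul]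

/-- FIXV [S]: `M ^ i *ᵥ v = v`, so `gsum M k *ᵥ v = k • v ≠ 0`. -/
theorem gsum_fix {E : Type} [Field E] {ι : Type} [Fintype ι] [DecidableEq ι]
    (M : Matrix ι ι E) (v : ι → E) (hv : v ≠ 0) (hM : M *ᵥ v = v) (k : ℕ) (hk : (k : E) ≠ 0) :
    gsum M k ≠ 0 := by
  intro h
  have h1 := p4cfixv_apply M v hM k
  rw [h, Matrix.zero_mulVec] at h1
  rcases smul_eq_zero.mp h1.symm with h2 | h2
  · exact hk h2
  · exact hv h2

end Cfsg.Agent.Lib.helper23.P4S
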