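import Mathlib
import Cfsg.Prelude.Def_Characters
import Cfsg.Agent.Lib.helper7.PM2.Defs
import Cfsg.Agent.Lib.helper4.PM2QPcore
import Cfsg.Agent.Lib.Helper11.PM2QP1
import Cfsg.Agent.Lib.Helper11.PM2QP2
import Cfsg.Agent.Lib.Helper27.PM2NRM2

/-!
# Project PM2, piece QP: `G / Z(G)` is perfect (verbatim wrapper).
-/

set_option autoImplicit false
set_option linter.unusedVariables false
set_option linter.unusedSectionVars false

namespace Cfsg.Agent.Lib.helper7.PM2

open scoped ComplexConjugate

universe u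

variable {G : Type u} [Group G] [Fintype G] {p : ℕ} {ζ : G → ℂ} {x : G} {ω : ℂ}

/-- QP : `G / Z(G)` is perfect -/
theorem quot_perfect (S : Setting p ζ x ω) : commutator (G ⧸ Subgroup.center G) = ⊤ :=
  pm2qp_core S (zero_off_ker S) (nrm_nonzero S) (nrm_of_conj_mem S)

end Cfsg.Agent.Lib.helper7.PM2
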