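import Mathlib
import Cfsg.Prelude.Def_Characters
import Cfsg.Agent.Lib.helper7.PM2.Defs

/-!
# Project PM2, piece QS (core): the Sylow `p`-subgroups of `G / Z(G)` are not normal.

The lower statements (CNT `card_eq`, NRM `nrm_card`, NRM2 `nrm_of_conj_mem`, BAS3 `p_not_dvd_center`) are
hypotheses here.
-/

set_option autoImplicit false

namespace Cfsg.Agent.Lib.helper7.PM2

universe u

variable {G : Type u} [Group G] [Fintype G] {p : ℕ} {ζ : G → ℂ} {x : G} {ω : ℂ}

theorem pm2qs_x_not_center (S : Setting p ζ x ω) : x ∉ Subgroup.center G := by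
  intro hx
  obtain ⟨τ, hτ⟩ := S.inv
  have h1 : τ * x * τ⁻¹ = x := by
    rw [Subgroup.mem_center_iff] at hx
    rw [hx τ, mul_inv_cancel_right]
  have h2 : x * x = 1 := by
    have : x = x⁻¹ := h1.symm.trans hτ
    calc x * x = x * x⁻¹ := by rw [← this]
      _ = 1 := mul_inv_cancel x
  have h3 : x ^ 2 = 1 := by rw [pow_two, h2]
  have h4 : orderOf x ∣ 2 := orderOf_dvd_of_pow_eq_one h3
  rw [S.ordx] at h4
  have := Nat.le_of_dvd (by norm_num) h4
  have := S.hp5
  omega

theorem pm2qs_core (S : Setting p ζ x ω)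
    (hcard : Nat.card G = Nat.card (Subgroup.center G) * (p * (p - 1) * (p - 2)))
    (hnrmcard : (nrm x).card = 2 * p * Nat.card (Subgroup.center G))
    (hnrm : ∀ h : G, h * x * h⁻¹ ∈ Subgroup.zpowers x → h * x * h⁻¹ = x ∨ h * x * h⁻¹ = x⁻¹)
    (hpZ : ¬ p ∣ Nat.card (Subgroup.center G))
    [Fact p.Prime] (Q : Sylow p (G ⧸ Subgroup.center G)) :
    ¬ (Q : Subgroup (G ⧸ Subgroup.center G)).Normal := by
  classical
  intro hQ
  have hpp : p.Prime := S.hp
  have hp5 := S.hp5
  -- the image of x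
  have hxbp : ((x : G) : G ⧸ Subgroup.center G) ^ p = 1 := by
    rw [← QuotientGroup.mk_pow, ← S.ordx, pow_orderOf_eq_one]; rfl
  have hxb1 : ((x : G) : G ⧸ Subgroup.center G) ≠ 1 := by
    intro h
    rw [QuotientGroup.eq_one_iff] at h
    exact pm2qs_x_not_center S h
  have hordxb : orderOf ((x : G) : G ⧸ Subgroup.center G) = p := orderOf_eq_prime hxbp hxb1
  -- xb ∈ Q
  have hU : Unique (Sylow p (G ⧸ Subgroup.center G)) := Sylow.unique_of_normal Q hQ
  have hxQ : ((x : G) : G ⧸ Subgroup.center G) ∈ (Q : Subgroup (G ⧸ Subgroup.center G)) := by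
    have hpg : IsPGroup p (Subgroup.zpowers ((x : G) : G ⧸ Subgroup.center G)) := by
      apply IsPGroup.of_card (n := 1)
      rw [Nat.card_zpowers, hordxb, pow_one]
    obtain ⟨P, hP⟩ := hpg.exists_le_sylow
    have : P = Q := Subsingleton.elim _ _
    rw [← this]; exact hP (Subgroup.mem_zpowers _)
  -- card Q = p
  have hcardQ : Nat.card (Q : Subgroup (G ⧸ Subgroup.center G)) = p := by
    obtain ⟨k, hk⟩ := IsPGroup.iff_card.mp Q.isPGroup'
    have hdvd1 : Nat.card (Q : Subgroup (G ⧸ Subgroup.center G)) ∣ Nat.card (G ⧸ Subgroup.center G) :=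
      Subgroup.card_subgroup_dvd_card _
    have hdvd2 : Nat.card (G ⧸ Subgroup.center G) ∣ Nat.card G := by
      rw [Subgroup.card_eq_card_quotient_mul_card_subgroup (Subgroup.center G)]
      exact dvd_mul_right _ _
    have hdvd : p ^ k ∣ Nat.card G := hk ▸ (hdvd1.trans hdvd2)
    have hk2 : k < 2 := by
      by_contra hk2
      rw [not_lt] at hk2
      exact S.sylow ((pow_dvd_pow p hk2).trans hdvd)
    have hk0 : k ≠ 0 := by
      intro hk0
      rw [hk0, pow_zero] at hk
      have hbot : (Q : Subgroup (G ⧸ Subgroup.center G)) = ⊥ := Subgroup.card_eq_one.mp hk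
      rw [hbot, Subgroup.mem_bot] at hxQ
      exact hxb1 hxQ
    have : k = 1 := by omega
    rw [hk, this, pow_one]
  -- every conjugate of x lies in ⟨x⟩
  have hall : ∀ h : G, h * x * h⁻¹ ∈ Subgroup.zpowers x := by
    intro h
    have hmem : ((h * x * h⁻¹ : G) : G ⧸ Subgroup.center G) ∈ (Q : Subgroup (G ⧸ Subgroup.center G)) := by
      have := hQ.conj_mem _ hxQ ((h : G) : G ⧸ Subgroup.center G)
      simpa using this
    have hz : (⟨((h * x * h⁻¹ : G) : G ⧸ Subgroup.center G), hmem⟩ : (Q : Subgroup (G ⧸ Subgroup.center G)))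
        ∈ Subgroup.zpowers (⟨((x : G) : G ⧸ Subgroup.center G), hxQ⟩ : (Q : Subgroup (G ⧸ Subgroup.center G))) := by
      apply mem_zpowers_of_prime_card hcardQ
      intro h1
      apply hxb1
      exact congrArg Subtype.val h1
    obtain ⟨j, hj⟩ := Subgroup.mem_zpowers_iff.mp hz
    have hj' : (((x : G) : G ⧸ Subgroup.center G)) ^ j = ((h * x * h⁻¹ : G) : G ⧸ Subgroup.center G) := by
      have := congrArg Subtype.val hj
      simpa using this
    rw [← QuotientGroup.mk_zpow, QuotientGroup.eq] at hj'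
    -- c = (x^j)⁻¹ * (h x h⁻¹) ∈ Z
    set c : G := (x ^ j)⁻¹ * (h * x * h⁻¹) with hc
    have hcZ : c ∈ Subgroup.center G := hj'
    have hconj : h * x * h⁻¹ = x ^ j * c := by rw [hc]; group
    have hcomm : Commute (x ^ j) c := by
      rw [Subgroup.mem_center_iff] at hcZ
      exact hcZ (x ^ j)
    have hpow : (h * x * h⁻¹) ^ p = 1 := by
      rw [conj_pow, ← S.ordx, pow_orderOf_eq_one]; group
    have hcp : c ^ p = 1 := by
      have h1 : (x ^ j * c) ^ p = 1 := hconj ▸ hpow
      rw [hcomm.mul_pow] at h1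
      have h2 : (x ^ j) ^ p = 1 := by
        rw [← zpow_natCast, ← zpow_mul, mul_comm, zpow_mul, zpow_natCast, ← S.ordx, pow_orderOf_eq_one,
          one_zpow]
      rwa [h2, one_mul] at h1
    have hc1 : c = 1 := by
      have h1 : orderOf c ∣ p := orderOf_dvd_of_pow_eq_one hcp
      have h2 : orderOf (⟨c, hcZ⟩ : Subgroup.center G) ∣ Nat.card (Subgroup.center G) :=
        orderOf_dvd_natCard _
      rw [Subgroup.orderOf_mk] at h2
      rcases (Nat.dvd_prime hpp).mp h1 with h3 | h3
      · exact orderOf_eq_one_iff.mp h3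
      · exact absurd (h3 ▸ h2) hpZ
    rw [hconj, hc1, mul_one]
    exact Subgroup.zpow_mem _ (Subgroup.mem_zpowers x) j
  -- so nrm x is everything
  have huniv : nrm x = Finset.univ := by
    ext h
    rw [mem_nrm]
    exact ⟨fun _ => Finset.mem_univ _, fun _ => hnrm h (hall h)⟩
  rw [huniv, Finset.card_univ, ← Nat.card_eq_fintype_card, hcard] at hnrmcard
  have ho : 0 < Nat.card (Subgroup.center G) := Nat.card_pos
  have h7 : 7 ≤ p := by
    rcases Nat.lt_or_ge p 7 with h | h
    · exfalso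
      have : p = 6 := by omega
      rw [this] at hpp
      norm_num at hpp
    · exact h
  have hpm : p * (p - 1) * (p - 2) = 2 * p := by
    have : Nat.card (Subgroup.center G) * (p * (p - 1) * (p - 2)) = Nat.card (Subgroup.center G) * (2 * p) := by
      rw [hnrmcard]; ring
    exact Nat.eq_of_mul_eq_mul_left ho this
  obtain ⟨q, rfl⟩ : ∃ q, p = q + 7 := ⟨p - 7, by omega⟩
  have e1 : q + 7 - 1 = q + 6 := by omega
  have e2 : q + 7 - 2 = q + 5 := by omega
  rw [e1, e2] at hpm
  have h8 : (q + 7) * ((q + 6) * (q + 5)) = (q + 7) * 2 := by rw [← mul_assoc, hpm]; ring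
  have h9 : (q + 6) * (q + 5) = 2 := Nat.eq_of_mul_eq_mul_left (by omega) h8
  nlinarith

end Cfsg.Agent.Lib.helper7.PM2
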