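import Mathlib
import Cfsg.Prelude.Def_Characters
import Cfsg.Agent.Lib.helper7.PM2.Defs
import Cfsg.Agent.Lib.helper4.PM2QScore
import Cfsg.Agent.Lib.Helper24.PM2CNT
import Cfsg.Agent.Lib.Helper27.PM2NRM
import Cfsg.Agent.Lib.Helper27.PM2NRM2
import Cfsg.Agent.Lib.helper23.PM2BAS3

/-!
# Project PM2, piece QS: the Sylow `p`-subgroups of `G / Z(G)` are not normal (verbatim wrapper).
-/

set_option autoImplicit false
set_option linter.unusedVariables false
set_option linter.unusedSectionVars false

namespace Cfsg.Agent.Lib.helper7.PM2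

open scoped ComplexConjugate

universe u

variable {G : Type u} [Group G] [Fintype G] {p : ℕ} {ζ : G → ℂ} {x : G} {ω : ℂ}

/-- QS : the Sylow `p`-subgroups of `G / Z(G)` are not normal -/
theorem quot_sylow (S : Setting p ζ x ω) [Fact p.Prime] (Q : Sylow p (G ⧸ Subgroup.center G)) :
    ¬ (Q : Subgroup (G ⧸ Subgroup.center G)).Normal :=
  pm2qs_core S (card_eq S) (nrm_card S) (nrm_of_conj_mem S) (p_not_dvd_center S) Q

end Cfsg.Agent.Lib.helper7.PM2
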