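import Mathlib
import Cfsg.Agent.Lib.Helper28.BP2.Defs

/-!
# BP2 row T4 (`binS_comap`): `G ⧸ f⁻¹ H` and `G' ⧸ H` are the same action for a surjection `f`.
-/

set_option autoImplicit false

namespace Cfsg.Agent.Lib.Helper28.BP2

open Cfsg.Agent.Lib.helper14

universe u v w

section Toolbox

variable {G : Type u} [Group G]

/-- **T4**. -/
theorem binS_comap {G' : Type v} [Group G'] (f : G →* G') (hf : Function.Surjective f)
    (H : Subgroup G') : BinS (H.comap f) ↔ BinS H := by
  constructor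
  · intro hB n x' y' hn h
    obtain ⟨x, hx⟩ : ∃ x : Fin n → G, ∀ i, f (x i) = x' i :=
      ⟨fun i => Function.surjInv hf (x' i), fun i => Function.surjInv_eq hf (x' i)⟩
    obtain ⟨y, hy⟩ : ∃ y : Fin n → G, ∀ i, f (y i) = y' i :=
      ⟨fun i => Function.surjInv hf (y' i), fun i => Function.surjInv_eq hf (y' i)⟩
    have hpair : ∀ i j : Fin n, i ≠ j →
        ∃ g : G, (y i)⁻¹ * g * x i ∈ H.comap f ∧ (y j)⁻¹ * g * x j ∈ H.comap f := by
      intro i j hij
      obtain ⟨g', hgi, hgj⟩ := h i j hij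
      obtain ⟨g, rfl⟩ := hf g'
      refine ⟨g, ?_, ?_⟩
      · rw [Subgroup.mem_comap, map_mul, map_mul, map_inv, hx, hy]
        exact hgi
      · rw [Subgroup.mem_comap, map_mul, map_mul, map_inv, hx, hy]
        exact hgj
    obtain ⟨g, hg⟩ := hB n x y hn hpair
    refine ⟨f g, fun i => ?_⟩
    have := hg i
    rw [Subgroup.mem_comap, map_mul, map_mul, map_inv, hx, hy] at this
    exact this
  · intro hB n x y hn h
    have hpair : ∀ i j : Fin n, i ≠ j →
        ∃ g' : G', (f (y i))⁻¹ * g' * f (x i) ∈ H ∧ (f (y j))⁻¹ * g' * f (x j) ∈ H := by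
      intro i j hij
      obtain ⟨g, hgi, hgj⟩ := h i j hij
      refine ⟨f g, ?_, ?_⟩
      · rw [Subgroup.mem_comap, map_mul, map_mul, map_inv] at hgi
        exact hgi
      · rw [Subgroup.mem_comap, map_mul, map_mul, map_inv] at hgj
        exact hgj
    obtain ⟨g', hg'⟩ := hB n (fun i => f (x i)) (fun i => f (y i)) hn hpair
    obtain ⟨g, rfl⟩ := hf g'
    refine ⟨g, fun i => ?_⟩
    rw [Subgroup.mem_comap, map_mul, map_mul, map_inv]
    exact hg' i

end Toolbox

end Cfsg.Agent.Lib.Helper28.BP2
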