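import Mathlib
import Cfsg.Agent.Lib.Helper28.BP2.Defs

/-!
# BP2 row G1 (`le_PB_of_PU_le`): a proper subgroup of `PSL₂(F)` containing `PU F` lies in `PB F`.
-/

set_option autoImplicit false

namespace Cfsg.Agent.Lib.Helper28.BP2

open Cfsg.Agent.Lib.helper14

universe u v w

section Borel

variable {F : Type u} [Field F] [Fintype F]

/-- **G1**.  `eq_top_of_US_conj` applied to `H.comap (pr F)`. -/
theorem le_PB_of_PU_le (H : Subgroup (PSL2 F)) (hU : PU F ≤ H) (hH : H ≠ ⊤) : H ≤ PB F := by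
  intro x hx
  by_contra hxB
  apply hH
  have hsurj : Function.Surjective (pr F) := QuotientGroup.mk'_surjective _
  obtain ⟨m, rfl⟩ := hsurj x
  have hu : ∀ t : F, uS t ∈ H.comap (pr F) := fun t =>
    Subgroup.mem_comap.2 (hU (Subgroup.mem_map_of_mem _ (uS_mem t)))
  have hm : m ∈ H.comap (pr F) := Subgroup.mem_comap.2 hx
  have hm10 : (m : Matrix (Fin 2) (Fin 2) F) 1 0 ≠ 0 := by
    intro h0
    exact hxB (Subgroup.mem_map_of_mem _ ((mem_BS m).2 h0))
  have htop : H.comap (pr F) = ⊤ :=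
    eq_top_of_US_conj _ hu m hm10 (fun t =>
      (H.comap (pr F)).mul_mem ((H.comap (pr F)).mul_mem hm (hu t)) ((H.comap (pr F)).inv_mem hm))
  rw [eq_top_iff]
  intro y _
  obtain ⟨n, rfl⟩ := hsurj y
  have hn : n ∈ H.comap (pr F) := by
    rw [htop]
    exact Subgroup.mem_top n
  exact Subgroup.mem_comap.1 hn

end Borel

end Cfsg.Agent.Lib.Helper28.BP2
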