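import Mathlib
import Cfsg.Agent.Lib.helper3.BSZ.Defs

/-!
# BSZ row C03 (`exists_f20`): a Frobenius pair `f₀`, `w` of orders 4 and 5 with `f₀ w f₀⁻¹ = w²`
in `Sz F m`.  Own copies of C01 / C02 are included under the prefix `bszc03_`.
-/

set_option autoImplicit false

namespace Cfsg.Agent.Lib.helper3.BSZ

open Cfsg Cfsg.Agent.Lib.helper3

section General

theorem bszc03_five_dvd (m : ℕ) : 5 ∣ (2 ^ (2 * m + 1)) ^ 2 + 1 := by
  have h : (2 ^ (2 * m + 1)) ^ 2 = 4 * 16 ^ m := by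
    calc (2 ^ (2 * m + 1)) ^ 2 = 2 ^ (2 + 4 * m) := by
          rw [← pow_mul]; congr 1; ring
      _ = 2 ^ 2 * (2 ^ 4) ^ m := by rw [pow_add, pow_mul]
      _ = 4 * 16 ^ m := by norm_num
  rw [h]
  have h16 : 16 ^ m % 5 = 1 := by
    rw [Nat.pow_mod]; norm_num
  omega

/-- in a finite cyclic subgroup, the elements of exponent `n` lie in any cyclic subgroup of
order `n` -/
theorem bszc03_mem_zpowers {G : Type*} [Group G] (C : Subgroup G) [Finite C] [IsCyclic C]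
    {w v : G} (hw : w ∈ C) (hv : v ∈ C) {n : ℕ} (hn : 0 < n) (how : orderOf w = n)
    (hvn : v ^ n = 1) : v ∈ Subgroup.zpowers w := by
  classical
  haveI : Fintype C := Fintype.ofFinite C
  have how' : orderOf (⟨w, hw⟩ : C) = n :=
    (Subgroup.orderOf_coe (⟨w, hw⟩ : C)).symm.trans how
  have hvn' : (⟨v, hv⟩ : C) ^ n = 1 := by
    apply Subtype.ext
    rw [Subgroup.coe_pow, Subgroup.coe_one]
    exact hvn
  have hle : (Finset.univ.filter (fun a : C => a ^ n = 1)).card ≤ n := by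
    convert IsCyclic.card_pow_eq_one_le (α := C) hn
  have hsub : Finset.univ.filter (fun a : C => a ∈ Subgroup.zpowers (⟨w, hw⟩ : C)) ⊆
      Finset.univ.filter (fun a : C => a ^ n = 1) := by
    intro a ha
    rw [Finset.mem_filter] at ha ⊢
    refine ⟨Finset.mem_univ _, ?_⟩
    obtain ⟨k, rfl⟩ := Subgroup.mem_zpowers_iff.1 ha.2
    rw [← zpow_natCast, ← zpow_mul, mul_comm, zpow_mul, zpow_natCast, ← how',
      pow_orderOf_eq_one, one_zpow]
  have hcard : (Finset.univ.filter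
      (fun a : C => a ∈ Subgroup.zpowers (⟨w, hw⟩ : C))).card = n := by
    rw [← Fintype.card_subtype, ← Nat.card_eq_fintype_card, ← how']
    exact Nat.card_zpowers _
  have heq := Finset.eq_of_subset_of_card_le hsub (by rw [hcard]; exact hle)
  have hvmem : (⟨v, hv⟩ : C) ∈ Finset.univ.filter
      (fun a : C => a ∈ Subgroup.zpowers (⟨w, hw⟩ : C)) := by
    rw [heq, Finset.mem_filter]
    exact ⟨Finset.mem_univ _, hvn'⟩
  obtain ⟨k, hk⟩ := Subgroup.mem_zpowers_iff.1 (Finset.mem_filter.1 hvmem).2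
  refine Subgroup.mem_zpowers_iff.2 ⟨k, ?_⟩
  have := congrArg (Subtype.val) hk
  rw [Subgroup.coe_zpow] at this
  exact this

/-- `5 ∣ j * j + 1`, `j < 5` forces `j = 2` or `j = 3` -/
theorem bszc03_arith {j : ℕ} (hj : j < 5) (h : 5 ∣ j * j + 1) : j = 2 ∨ j = 3 := by
  interval_cases j <;> omega

end General

section
variable {F : Type*} [Field F] [Fintype F] {m : ℕ}

theorem bszc03_exists_order_five (hF : Fintype.card F = 2 ^ (2 * m + 1)) (hm : 1 ≤ m) :
    ∃ w : Sz F m, orderOf w = 5 ∧ Fpf w := by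
  haveI hfin : Finite (Sz F m) := finite_Sz hF hm
  haveI : Fact (Nat.Prime 5) := ⟨by norm_num⟩
  have hdvd : 5 ∣ Nat.card (Sz F m) := by
    rw [card_Sz hm hF]
    exact Dvd.dvd.mul_right (Dvd.dvd.mul_left (bszc03_five_dvd m) _) _
  obtain ⟨w, hw⟩ := exists_prime_orderOf_dvd_card' 5 hdvd
  refine ⟨w, hw, ?_⟩
  have hne : w ≠ 1 := by
    intro h
    rw [h, orderOf_one] at hw
    omega
  exact fpf_of_order hF hm hne (by rw [hw]; exact bszc03_five_dvd m)

/-- C03 -/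
theorem exists_f20 (hF : Fintype.card F = 2 ^ (2 * m + 1)) (hm : 1 ≤ m) :
    ∃ f₀ w : Sz F m, orderOf w = 5 ∧ f₀ * f₀ ≠ 1 ∧ (f₀ * f₀) * (f₀ * f₀) = 1 ∧ f₀ * w * f₀⁻¹ = w ^ 2 := by
  haveI hfin : Finite (Sz F m) := finite_Sz hF hm
  obtain ⟨w, how, hw⟩ := bszc03_exists_order_five hF hm
  obtain ⟨f, hfN, hf1, hf2⟩ := hw.exists_order_four hF hm
  have hcyc : IsCyclic (Subgroup.centralizer ({w} : Set (Sz F m))) := hw.centralizer_isCyclic hF hm
  have hwC : w ∈ Subgroup.centralizer ({w} : Set (Sz F m)) :=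
    Subgroup.mem_centralizer_singleton_iff.2 rfl
  have hfw : f * w * f⁻¹ ∈ Subgroup.centralizer ({w} : Set (Sz F m)) :=
    (Subgroup.mem_normalizer_iff.1 hfN w).1 hwC
  have hw5 : w ^ 5 = 1 := by rw [← how]; exact pow_orderOf_eq_one w
  have hfw5 : (f * w * f⁻¹) ^ 5 = 1 := by
    rw [conj_pow, hw5, mul_one, mul_inv_cancel]
  have hmem : f * w * f⁻¹ ∈ Subgroup.zpowers w :=
    bszc03_mem_zpowers _ hwC hfw (by norm_num) how hfw5
  obtain ⟨k, hk⟩ := Subgroup.mem_zpowers_iff.1 hmem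
  -- reduce the exponent mod 5
  have h0 : 0 ≤ k % 5 := Int.emod_nonneg k (by norm_num)
  have hk' : w ^ (k % 5).toNat = f * w * f⁻¹ := by
    have h5 : ((orderOf w : ℕ) : ℤ) = 5 := by rw [how]; norm_num
    rw [← hk, ← zpow_mod_orderOf w k, h5, ← zpow_natCast, Int.toNat_of_nonneg h0]
  obtain ⟨j, hj⟩ : ∃ j : ℕ, j = (k % 5).toNat := ⟨_, rfl⟩
  rw [← hj] at hk'
  have hj5 : j < 5 := by
    have h1 := Int.emod_lt_of_pos k (show (0 : ℤ) < 5 by norm_num)
    have h2 : (j : ℤ) = k % 5 := by rw [hj, Int.toNat_of_nonneg h0]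
    omega
  -- the involution `f * f` inverts `w`
  have hinv : (f * f) * w * (f * f)⁻¹ = w⁻¹ :=
    invol_inverts_torus hF hm (hw.isTorus_centralizer hF hm) ((NC w).mul_mem hfN hfN) hf1 hf2 hwC
  have hjj : w ^ (j * j) = w⁻¹ := by
    rw [← hinv]
    have e1 : (f * f) * w * (f * f)⁻¹ = f * (f * w * f⁻¹) * f⁻¹ := by group
    rw [e1, ← hk', ← conj_pow, ← hk', ← pow_mul]
  have hdvd : 5 ∣ j * j + 1 := by
    rw [← how]
    apply orderOf_dvd_of_pow_eq_one
    rw [pow_succ, hjj, inv_mul_cancel]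
  rcases bszc03_arith hj5 hdvd with h2 | h3
  · refine ⟨f, w, how, hf1, hf2, ?_⟩
    rw [← hk', h2]
  · refine ⟨f⁻¹, w, how, ?_, ?_, ?_⟩
    · intro h
      apply hf1
      have : (f * f)⁻¹ = 1 := by rw [mul_inv_rev]; exact h
      exact inv_eq_one.1 this
    · have : ((f * f) * (f * f))⁻¹ = 1 := by rw [hf2, inv_one]
      rw [mul_inv_rev, mul_inv_rev] at this
      exact this
    · rw [inv_inv]
      rw [h3] at hk'
      -- `f * w * f⁻¹ = w ^ 3`, so `f * w ^ 2 * f⁻¹ = w ^ 6 = w`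
      have e : f * w ^ 2 * f⁻¹ = w := by
        rw [← conj_pow, ← hk', ← pow_mul]
        have h32 : 3 * 2 = 5 + 1 := by norm_num
        rw [h32, pow_succ, hw5, one_mul]
      calc f⁻¹ * w * f = f⁻¹ * (f * w ^ 2 * f⁻¹) * f := by rw [e]
        _ = w ^ 2 := by group

end

end Cfsg.Agent.Lib.helper3.BSZ
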