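import Mathlib
import Cfsg.Agent.Lib.helper3.BSZ.Defs
import Cfsg.Agent.Lib.helper4.BSZC03

/-!
# BSZ row C04 (`f20_all`): every element `f` of order four of `Sz F m` (or its inverse) acts on
some element of order five by squaring.
-/

set_option autoImplicit false

namespace Cfsg.Agent.Lib.helper3.BSZ

open Cfsg Cfsg.Agent.Lib.helper3

theorem bszc04_orderOf_conj {G : Type*} [Group G] (c w : G) :
    orderOf (c * w * c⁻¹) = orderOf w := by
  have := MulEquiv.orderOf_eq (MulAut.conj c) w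
  rwa [MulAut.conj_apply] at this

section
variable {F : Type*} [Field F] [Fintype F] {m : ℕ}

/-- an element with `f * f ≠ 1`, `(f * f) * (f * f) = 1` is conjugate to some `gT a b`, `a ≠ 0` -/
theorem bszc04_type (hF : Fintype.card F = 2 ^ (2 * m + 1)) (hm : 1 ≤ m) {f : Sz F m}
    (hf2 : f * f ≠ 1) (hf4 : (f * f) * (f * f) = 1) :
    ∃ (u : Sz F m) (a b : F), a ≠ 0 ∧ f = u * gT hF a b * u⁻¹ := by
  have hf1 : f ≠ 1 := by
    intro h
    apply hf2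
    rw [h, one_mul]
  have hf44 : f ^ 4 = 1 := by
    have e : f ^ 4 = (f * f) * (f * f) := by
      rw [pow_succ, pow_succ, pow_succ, pow_one, mul_assoc (f * f)]
    rw [e]
    exact hf4
  have ho4 : orderOf f ∣ 4 := orderOf_dvd_of_pow_eq_one hf44
  obtain ⟨hodd1, hodd2, hcop⟩ := sz_orders_arith m
  rcases elt_type hF hm hf1 with ⟨_, u, a, b, _, hfu⟩ | ⟨h1, _⟩ | ⟨h2, _⟩
  · refine ⟨u, a, b, ?_, hfu⟩
    intro ha
    apply hf2
    rw [hfu, ha]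
    have e : u * gT hF 0 b * u⁻¹ * (u * gT hF 0 b * u⁻¹) =
        u * (gT hF 0 b * gT hF 0 b) * u⁻¹ := by group
    rw [e, gT_zero_sq, mul_one, mul_inv_cancel]
  · exact absurd (orderOf_eq_one_of_dvd_coprime ho4 h1 (coprime_four_of_odd hodd1)) hf1
  · exact absurd (orderOf_eq_one_of_dvd_coprime ho4 h2 (coprime_four_of_odd hodd2)) hf1

/-- C04 -/
theorem f20_all (hF : Fintype.card F = 2 ^ (2 * m + 1)) (hm : 1 ≤ m) {f : Sz F m} (hf2 : f * f ≠ 1)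
    (hf4 : (f * f) * (f * f) = 1) :
    ∃ y : Sz F m, orderOf y = 5 ∧ (f * y * f⁻¹ = y ^ 2 ∨ f⁻¹ * y * f = y ^ 2) := by
  obtain ⟨f₀, w, how, h02, h04, hfw⟩ := exists_f20 hF hm
  obtain ⟨u, a, b, ha, hfu⟩ := bszc04_type hF hm hf2 hf4
  obtain ⟨u₀, a₀, b₀, ha₀, hfu₀⟩ := bszc04_type hF hm h02 h04
  rcases order_four_cases hF ha₀ ha b₀ b with ⟨g, hg⟩ | ⟨g, hg⟩
  · have hfc : f = (u * g * u₀⁻¹) * f₀ * (u * g * u₀⁻¹)⁻¹ := by
      rw [hfu, hg, hfu₀]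
      group
    refine ⟨(u * g * u₀⁻¹) * w * (u * g * u₀⁻¹)⁻¹, ?_, Or.inl ?_⟩
    · rw [bszc04_orderOf_conj]
      exact how
    · rw [conj_pow, ← hfw, hfc]
      group
  · have hfc : f = (u * g * u₀⁻¹) * f₀⁻¹ * (u * g * u₀⁻¹)⁻¹ := by
      rw [hfu, hg, hfu₀]
      group
    refine ⟨(u * g * u₀⁻¹) * w * (u * g * u₀⁻¹)⁻¹, ?_, Or.inr ?_⟩
    · rw [bszc04_orderOf_conj]
      exact how
    · rw [conj_pow, ← hfw, hfc]
      group

end

end Cfsg.Agent.Lib.helper3.BSZ
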