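import Mathlib
import Cfsg.Prelude.Def_Classical
import Cfsg.Agent.Lib.helper3.O9A.Defs

/-!
# Project O9A, row DETSPLIT (`det_split`), verbatim from `helper3/O9A/Skel.lean.txt`.  (helper4)
-/

set_option autoImplicit false

namespace Cfsg.Agent.Lib.helper3.O9A

open Matrix Module

theorem det_split {F : Type*} [Field F] {V : Type*} [AddCommGroup V] [Module F V] [FiniteDimensional F V] (y : Module.End F V)
    (K W : Submodule F V) (h : IsCompl K W) (hK : ∀ x ∈ K, y x ∈ K) (hW : ∀ x ∈ W, y x ∈ W) :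
    LinearMap.det y = LinearMap.det (y.restrict hK) * LinearMap.det (y.restrict hW) := by
  obtain ⟨e, he⟩ : ∃ e : (↥K × ↥W) ≃ₗ[F] V, ∀ x : ↥K × ↥W, e x = (x.1 : V) + (x.2 : V) :=
    ⟨Submodule.prodEquivOfIsCompl K W h, Submodule.coe_prodEquivOfIsCompl' K W h⟩
  have hconj : ((e : (↥K × ↥W) →ₗ[F] V) ∘ₗ (LinearMap.prodMap (y.restrict hK) (y.restrict hW)) ∘ₗ
      (e.symm : V →ₗ[F] (↥K × ↥W))) = y := by
    apply LinearMap.ext
    intro v
    obtain ⟨x, rfl⟩ := e.surjective v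
    rw [LinearMap.comp_apply, LinearMap.comp_apply, LinearEquiv.coe_coe, LinearEquiv.coe_coe,
      LinearEquiv.symm_apply_apply, he, he, map_add]
    rfl
  calc LinearMap.det y
      = LinearMap.det ((e : (↥K × ↥W) →ₗ[F] V) ∘ₗ (LinearMap.prodMap (y.restrict hK) (y.restrict hW)) ∘ₗ
          (e.symm : V →ₗ[F] (↥K × ↥W))) := by rw [hconj]
    _ = LinearMap.det (LinearMap.prodMap (y.restrict hK) (y.restrict hW)) := LinearMap.det_conj _ e
    _ = LinearMap.det (y.restrict hK) * LinearMap.det (y.restrict hW) := LinearMap.det_prodMap _ _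

end Cfsg.Agent.Lib.helper3.O9A
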