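import Mathlib
import Cfsg.Prelude.Def_Classical
import Cfsg.Agent.Lib.helper3.O9A.Defs

/-!
# Project O9A, row FIXSPLIT (`fix_split`), verbatim from `helper3/O9A/Skel.lean.txt`.  (helper4)

`S = ∑_{a<m} y^a` kills `range (y - 1)` (`S (y - 1) = y^m - 1 = 0`) and is `m` on `ker (y - 1)`: the two are disjoint, hence complementary by rank-nullity.
-/

set_option autoImplicit false

namespace Cfsg.Agent.Lib.helper3.O9A

open Matrix Module

/-- a fixed vector is fixed by all powers -/
theorem o9afixsplit_pow_fix {F : Type*} [Field F] {V : Type*} [AddCommGroup V] [Module F V] (y : Module.End F V)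
    (x : V) (hx : y x = x) (a : ℕ) : (y ^ a) x = x := by
  induction a with
  | zero => rw [pow_zero]; rfl
  | succ a ih => rw [pow_succ, Module.End.mul_apply, hx, ih]

/-- isometries preserve the polar form -/
theorem o9afixsplit_polar {F : Type*} [Field F] {V : Type*} [AddCommGroup V] [Module F V] (Q : QuadraticForm F V)
    (y : Module.End F V) (hy : ∀ v, Q (y v) = Q v) (u v : V) :
    QuadraticMap.polar Q (y u) (y v) = QuadraticMap.polar Q u v := by
  unfold QuadraticMap.polar
  rw [← map_add, hy, hy, hy]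

/-- `ker (y - 1)` and `range (y - 1)` are disjoint when `y ^ m = 1`, `m ≠ 0` in `F` -/
theorem o9afixsplit_disjoint {F : Type*} [Field F] {V : Type*} [AddCommGroup V] [Module F V]
    (y : Module.End F V) (m : ℕ) (hm : (m : F) ≠ 0) (hym : y ^ m = 1) :
    Disjoint (LinearMap.ker (y - 1)) (LinearMap.range (y - 1)) := by
  rw [Submodule.disjoint_def]
  intro x hxK hxW
  have hfix : y x = x := by
    have h := LinearMap.mem_ker.mp hxK
    rw [LinearMap.sub_apply, Module.End.one_apply, sub_eq_zero] at h
    exact h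
  obtain ⟨x', rfl⟩ := LinearMap.mem_range.mp hxW
  have h1 : (∑ a ∈ Finset.range m, y ^ a) ((y - 1) x') = 0 := by
    rw [← Module.End.mul_apply, geom_sum_mul, hym, sub_self]
    rfl
  have h2 : (∑ a ∈ Finset.range m, y ^ a) ((y - 1) x') = (m : F) • ((y - 1) x') := by
    rw [LinearMap.sum_apply]
    rw [Finset.sum_congr rfl (fun a _ => o9afixsplit_pow_fix y _ hfix a)]
    rw [Finset.sum_const, Finset.card_range, Nat.cast_smul_eq_nsmul]
  rw [h2] at h1
  rcases smul_eq_zero.mp h1 with h | h
  · exact absurd h hm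
  · exact h

theorem fix_split {F : Type*} [Field F] {V : Type*} [AddCommGroup V] [Module F V] [FiniteDimensional F V] (Q : QuadraticForm F V)
    (y : Module.End F V) (hy : ∀ v, Q (y v) = Q v) (m : ℕ) (hm : (m : F) ≠ 0) (hym : y ^ m = 1) :
    IsCompl (LinearMap.ker (y - 1)) (LinearMap.range (y - 1)) ∧
      ∀ u ∈ LinearMap.ker (y - 1), ∀ x ∈ LinearMap.range (y - 1), QuadraticMap.polar Q u x = 0 := by
  refine ⟨?_, ?_⟩
  · refine (Submodule.isCompl_iff_disjoint _ _ ?_).mpr (o9afixsplit_disjoint y m hm hym)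
    rw [add_comm, LinearMap.finrank_range_add_finrank_ker]
  · intro u hu x hx
    have hfix : y u = u := by
      have h := LinearMap.mem_ker.mp hu
      rw [LinearMap.sub_apply, Module.End.one_apply, sub_eq_zero] at h
      exact h
    obtain ⟨x', rfl⟩ := LinearMap.mem_range.mp hx
    rw [LinearMap.sub_apply, Module.End.one_apply, QuadraticMap.polar_sub_right]
    nth_rewrite 1 [← hfix]
    rw [o9afixsplit_polar Q y hy, sub_self]

end Cfsg.Agent.Lib.helper3.O9A
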