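import Mathlib
import Cfsg.Prelude.Def_Sporadic_a

set_option autoImplicit false

namespace Cfsg.Agent.Lib.helper4

open Cfsg

theorem zmod2_cases_l (a : ZMod 2) : a = 0 ∨ a = 1 := by
  revert a; decide

theorem mem_supports_iff {α : Type*} [Fintype α] (C : Set (α → ZMod 2)) (P : α → Prop)
    [DecidablePred P] :
    (Finset.univ.filter P) ∈ supports C ↔ (fun i => if P i then (1 : ZMod 2) else 0) ∈ C := by
  constructor
  · rintro ⟨w, hw, hs⟩
    have : w = (fun i => if P i then (1 : ZMod 2) else 0) := by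
      funext i
      have hi : i ∈ support₂ w ↔ i ∈ Finset.univ.filter P := by rw [hs]
      simp only [support₂, Finset.mem_filter, Finset.mem_univ, true_and] at hi
      by_cases hP : P i
      · rw [if_pos hP]
        rcases zmod2_cases_l (w i) with h | h
        · exact absurd h (hi.mpr hP)
        · exact h
      · rw [if_neg hP]
        by_contra h
        exact hP (hi.mp h)
    rw [← this]
    exact hw
  · intro h
    refine ⟨_, h, ?_⟩
    ext i
    simp only [support₂, Finset.mem_filter, Finset.mem_univ, true_and]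
    by_cases hP : P i
    · simp [hP]
    · simp [hP]

theorem one_mem_golay : (1 : GolayPt → ZMod 2) ∈ golayCode :=
  Submodule.subset_span (Or.inr rfl)

def ind4 (x : GolayPt → ℤ) (k : ℤ) : GolayPt → ZMod 2 :=
  fun i => if x i ≡ k [ZMOD 4] then 1 else 0

theorem mem_leechSet_iff (x : GolayPt → ℤ) :
    x ∈ leechSet ↔ ∃ m : ℤ, (∀ i, x i ≡ m [ZMOD 2]) ∧ (∑ i, x i ≡ 4 * m [ZMOD 8]) ∧
      ∀ k : ℤ, ind4 x k ∈ golayCode := by
  constructor
  · rintro ⟨m, h1, h2, h3⟩
    refine ⟨m, h1, h2, fun k => ?_⟩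
    have := h3 k
    rw [mem_supports_iff] at this
    exact this
  · rintro ⟨m, h1, h2, h3⟩
    refine ⟨m, h1, h2, fun k => ?_⟩
    rw [mem_supports_iff]
    exact h3 k

theorem ind4_add_even (x y : GolayPt → ℤ) (m m' k : ℤ) (hx : ∀ i, x i ≡ m [ZMOD 2])
    (hy : ∀ i, y i ≡ m' [ZMOD 2]) (hk : k ≡ m + m' [ZMOD 2]) :
    ind4 (x + y) k = 1 + ind4 x m + ind4 y (k - m) := by
  funext i
  have h1 : x i % 2 = m % 2 := hx i
  have h2 : y i % 2 = m' % 2 := hy i
  have hk' : k % 2 = (m + m') % 2 := hk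
  simp only [ind4, Pi.add_apply, Pi.one_apply]
  by_cases ha : x i ≡ m [ZMOD 4] <;> by_cases hb : y i ≡ k - m [ZMOD 4]
  · have ha' : x i % 4 = m % 4 := ha
    have hb' : y i % 4 = (k - m) % 4 := hb
    have hc : x i + y i ≡ k [ZMOD 4] := by show _ % 4 = _ % 4; omega
    rw [if_pos ha, if_pos hb, if_pos hc]; decide
  · have ha' : x i % 4 = m % 4 := ha
    have hb' : ¬ y i % 4 = (k - m) % 4 := hb
    have hc : ¬ x i + y i ≡ k [ZMOD 4] := by show ¬ _ % 4 = _ % 4; omega
    rw [if_pos ha, if_neg hb, if_neg hc]; decide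
  · have ha' : ¬ x i % 4 = m % 4 := ha
    have hb' : y i % 4 = (k - m) % 4 := hb
    have hc : ¬ x i + y i ≡ k [ZMOD 4] := by show ¬ _ % 4 = _ % 4; omega
    rw [if_neg ha, if_pos hb, if_neg hc]; decide
  · have ha' : ¬ x i % 4 = m % 4 := ha
    have hb' : ¬ y i % 4 = (k - m) % 4 := hb
    have hc : x i + y i ≡ k [ZMOD 4] := by show _ % 4 = _ % 4; omega
    rw [if_neg ha, if_neg hb, if_pos hc]; decide

theorem ind4_add_odd (x y : GolayPt → ℤ) (m m' k : ℤ) (hx : ∀ i, x i ≡ m [ZMOD 2])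
    (hy : ∀ i, y i ≡ m' [ZMOD 2]) (hk : ¬ k ≡ m + m' [ZMOD 2]) :
    ind4 (x + y) k = 0 := by
  funext i
  have h1 : x i % 2 = m % 2 := hx i
  have h2 : y i % 2 = m' % 2 := hy i
  have hk' : ¬ k % 2 = (m + m') % 2 := hk
  simp only [ind4, Pi.add_apply, Pi.zero_apply]
  have hc : ¬ x i + y i ≡ k [ZMOD 4] := by show ¬ _ % 4 = _ % 4; omega
  rw [if_neg hc]

theorem ind4_neg (x : GolayPt → ℤ) (k : ℤ) : ind4 (-x) k = ind4 x (-k) := by
  funext i
  simp only [ind4, Pi.neg_apply]
  by_cases ha : x i ≡ -k [ZMOD 4]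
  · have ha' : x i % 4 = (-k) % 4 := ha
    have hc : -x i ≡ k [ZMOD 4] := by show _ % 4 = _ % 4; omega
    rw [if_pos ha, if_pos hc]
  · have ha' : ¬ x i % 4 = (-k) % 4 := ha
    have hc : ¬ -x i ≡ k [ZMOD 4] := by show ¬ _ % 4 = _ % 4; omega
    rw [if_neg ha, if_neg hc]

theorem ind4_zero (k : ℤ) : ind4 0 k = if (0 : ℤ) ≡ k [ZMOD 4] then 1 else 0 := by
  funext i
  simp only [ind4, Pi.zero_apply]
  split_ifs <;> rfl

theorem leechSet_add {x y : GolayPt → ℤ} (hx : x ∈ leechSet) (hy : y ∈ leechSet) :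
    x + y ∈ leechSet := by
  rw [mem_leechSet_iff] at *
  obtain ⟨m, h1, h2, h3⟩ := hx
  obtain ⟨m', h1', h2', h3'⟩ := hy
  refine ⟨m + m', fun i => (h1 i).add (h1' i), ?_, fun k => ?_⟩
  · have : ∑ i, (x + y) i = ∑ i, x i + ∑ i, y i := by
      simp only [Pi.add_apply, Finset.sum_add_distrib]
    rw [this, mul_add]
    exact h2.add h2'
  · by_cases hk : k ≡ m + m' [ZMOD 2]
    · rw [ind4_add_even x y m m' k h1 h1' hk]
      exact golayCode.add_mem (golayCode.add_mem one_mem_golay (h3 m)) (h3' (k - m))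
    · rw [ind4_add_odd x y m m' k h1 h1' hk]
      exact golayCode.zero_mem

theorem leechSet_neg {x : GolayPt → ℤ} (hx : x ∈ leechSet) : -x ∈ leechSet := by
  rw [mem_leechSet_iff] at *
  obtain ⟨m, h1, h2, h3⟩ := hx
  refine ⟨-m, fun i => (h1 i).neg, ?_, fun k => ?_⟩
  · have : ∑ i, (-x) i = -∑ i, x i := by
      simp only [Pi.neg_apply, Finset.sum_neg_distrib]
    rw [this, mul_neg]
    exact h2.neg
  · rw [ind4_neg]
    exact h3 (-k)

theorem leechSet_zero : (0 : GolayPt → ℤ) ∈ leechSet := by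
  rw [mem_leechSet_iff]
  refine ⟨0, fun i => Int.ModEq.refl _, ?_, fun k => ?_⟩
  · simp only [Pi.zero_apply, Finset.sum_const_zero, mul_zero]
    exact Int.ModEq.refl _
  · rw [ind4_zero]
    split_ifs
    · exact one_mem_golay
    · exact golayCode.zero_mem

def leechSub : AddSubgroup (GolayPt → ℤ) where
  carrier := leechSet
  add_mem' := leechSet_add
  zero_mem' := leechSet_zero
  neg_mem' := leechSet_neg

theorem leechLattice_eq : leechLattice = leechSub := by
  apply le_antisymm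
  · exact (AddSubgroup.closure_le leechSub).mpr (fun x hx => hx)
  · intro x hx
    exact AddSubgroup.subset_closure hx

theorem mem_leechLattice_iff (x : GolayPt → ℤ) : x ∈ leechLattice ↔ x ∈ leechSet := by
  rw [leechLattice_eq]; rfl

end Cfsg.Agent.Lib.helper4

namespace Cfsg.Agent.Lib.helper4

open Cfsg
open scoped Pointwise

theorem eq_of_support₂_eq {α : Type*} [Fintype α] {v w : α → ZMod 2}
    (h : support₂ v = support₂ w) : v = w := by
  funext i
  have hi : i ∈ support₂ v ↔ i ∈ support₂ w := by rw [h]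
  simp only [support₂, Finset.mem_filter, Finset.mem_univ, true_and] at hi
  rcases zmod2_cases_l (v i) with hv | hv <;> rcases zmod2_cases_l (w i) with hw | hw
  · rw [hv, hw]
  · exfalso
    have : w i ≠ 0 := by rw [hw]; decide
    exact (hi.mpr this) hv
  · exfalso
    have : v i ≠ 0 := by rw [hv]; decide
    exact (hi.mp this) hw
  · rw [hv, hw]

theorem comp_mem_golay {σ : Equiv.Perm GolayPt} (hσ : σ ∈ M24) {w : GolayPt → ZMod 2}
    (hw : w ∈ golayCode) : (fun i => w (σ i)) ∈ golayCode := by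
  have hinv : σ⁻¹ ∈ M24 := M24.inv_mem hσ
  have h : σ⁻¹ • supports (golayCode : Set (GolayPt → ZMod 2)) = supports (golayCode : Set (GolayPt → ZMod 2)) :=
    MulAction.mem_stabilizer_iff.mp hinv
  have h1 : support₂ w ∈ supports (golayCode : Set (GolayPt → ZMod 2)) := ⟨w, hw, rfl⟩
  have h2 : σ⁻¹ • support₂ w ∈ σ⁻¹ • supports (golayCode : Set (GolayPt → ZMod 2)) :=
    Set.smul_mem_smul_set h1
  rw [h] at h2
  obtain ⟨w', hw', hs⟩ := h2
  have : w' = fun i => w (σ i) := by
    apply eq_of_support₂_eq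
    rw [hs]
    ext i
    rw [Finset.mem_inv_smul_finset_iff]
    simp only [support₂, Finset.mem_filter, Finset.mem_univ, true_and, Equiv.Perm.smul_def]
  rw [← this]
  exact hw'

theorem comp_mem_leechSet {σ : Equiv.Perm GolayPt} (hσ : σ ∈ M24) {x : GolayPt → ℤ}
    (hx : x ∈ leechSet) : (fun i => x (σ i)) ∈ leechSet := by
  rw [mem_leechSet_iff] at *
  obtain ⟨m, h1, h2, h3⟩ := hx
  refine ⟨m, fun i => h1 (σ i), ?_, fun k => ?_⟩
  · rw [Equiv.sum_comp σ x]
    exact h2
  · have : ind4 (fun i => x (σ i)) k = fun i => ind4 x k (σ i) := rfl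
    rw [this]
    exact comp_mem_golay hσ (h3 k)

end Cfsg.Agent.Lib.helper4
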