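import Mathlib
import Cfsg.Prelude.Def_Sporadic_a
import Cfsg.Agent.Lib.helper4.Leech

set_option autoImplicit false

namespace Cfsg.Agent.Lib.helper4

open Cfsg

def dot2 (v w : GolayPt → ZMod 2) : ZMod 2 := ∑ i, v i * w i

theorem dot2_add_left (u v w : GolayPt → ZMod 2) : dot2 (u + v) w = dot2 u w + dot2 v w := by
  simp only [dot2, Pi.add_apply, add_mul, Finset.sum_add_distrib]

theorem dot2_add_right (u v w : GolayPt → ZMod 2) : dot2 u (v + w) = dot2 u v + dot2 u w := by
  simp only [dot2, Pi.add_apply, mul_add, Finset.sum_add_distrib]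

theorem dot2_smul_left (a : ZMod 2) (v w : GolayPt → ZMod 2) : dot2 (a • v) w = a * dot2 v w := by
  simp only [dot2, Pi.smul_apply, smul_eq_mul, mul_assoc, Finset.mul_sum]

theorem dot2_smul_right (a : ZMod 2) (v w : GolayPt → ZMod 2) : dot2 v (a • w) = a * dot2 v w := by
  simp only [dot2, Pi.smul_apply, smul_eq_mul, Finset.mul_sum]
  apply Finset.sum_congr rfl
  intro i _
  ring

theorem dot2_zero_left (w : GolayPt → ZMod 2) : dot2 0 w = 0 := by
  simp [dot2]

theorem dot2_zero_right (w : GolayPt → ZMod 2) : dot2 w 0 = 0 := by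
  simp [dot2]

set_option maxRecDepth 100000 in
theorem qr_qr : ∀ s t : ZMod 23, dot2 (qrWord s) (qrWord t) = 0 := by
  unfold dot2
  decide +kernel

set_option maxRecDepth 100000 in
theorem qr_one : ∀ s : ZMod 23, dot2 (qrWord s) 1 = 0 := by
  unfold dot2
  decide +kernel

set_option maxRecDepth 100000 in
theorem one_qr : ∀ s : ZMod 23, dot2 1 (qrWord s) = 0 := by
  unfold dot2
  decide +kernel

set_option maxRecDepth 100000 in
theorem one_one : dot2 (1 : GolayPt → ZMod 2) 1 = 0 := by
  unfold dot2
  decide +kernel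

theorem gen_gen {g h : GolayPt → ZMod 2} (hg : g ∈ Set.range qrWord ∪ {1})
    (hh : h ∈ Set.range qrWord ∪ {1}) : dot2 g h = 0 := by
  rcases hg with ⟨s, rfl⟩ | hg <;> rcases hh with ⟨t, rfl⟩ | hh
  · exact qr_qr s t
  · rw [Set.mem_singleton_iff] at hh; subst hh; exact qr_one s
  · rw [Set.mem_singleton_iff] at hg; subst hg; exact one_qr t
  · rw [Set.mem_singleton_iff] at hg hh; subst hg; subst hh; exact one_one

theorem gen_code {g w : GolayPt → ZMod 2} (hg : g ∈ Set.range qrWord ∪ {1})
    (hw : w ∈ golayCode) : dot2 g w = 0 := by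
  induction hw using Submodule.span_induction with
  | mem x hx => exact gen_gen hg hx
  | zero => exact dot2_zero_right g
  | add x y _ _ hx hy => rw [dot2_add_right, hx, hy, add_zero]
  | smul a x _ hx => rw [dot2_smul_right, hx, mul_zero]

theorem golay_dot2 {v w : GolayPt → ZMod 2} (hv : v ∈ golayCode) (hw : w ∈ golayCode) :
    dot2 v w = 0 := by
  induction hv using Submodule.span_induction with
  | mem x hx => exact gen_code hx hw
  | zero => exact dot2_zero_left w
  | add x y _ _ hx hy => rw [dot2_add_left, hx, hy, add_zero]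
  | smul a x _ hx => rw [dot2_smul_left, hx, mul_zero]

theorem golay_orth {v w : GolayPt → ZMod 2} (hv : v ∈ golayCode) (hw : w ∈ golayCode) :
    ∑ i, v i * w i = 0 := golay_dot2 hv hw

def both (v w : GolayPt → ZMod 2) : ℕ := (Finset.univ.filter fun i => v i ≠ 0 ∧ w i ≠ 0).card

theorem dot2_eq_both (v w : GolayPt → ZMod 2) : dot2 v w = (both v w : ZMod 2) := by
  unfold dot2 both
  rw [Finset.card_filter, Nat.cast_sum]
  apply Finset.sum_congr rfl
  intro i _
  rcases zmod2_cases_l (v i) with hv | hv <;> rcases zmod2_cases_l (w i) with hw | hw <;>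
    simp [hv, hw]

theorem even_both_of_dot2 {v w : GolayPt → ZMod 2} (h : dot2 v w = 0) : Even (both v w) := by
  rw [dot2_eq_both] at h
  have := (ZMod.natCast_eq_zero_iff (both v w) 2).mp h
  exact even_iff_two_dvd.mpr this

theorem hammingNorm_add (v w : GolayPt → ZMod 2) :
    hammingNorm (v + w) + 2 * both v w = hammingNorm v + hammingNorm w := by
  unfold hammingNorm both
  rw [Finset.card_filter, Finset.card_filter, Finset.card_filter, Finset.card_filter,
    Finset.mul_sum, ← Finset.sum_add_distrib, ← Finset.sum_add_distrib]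
  apply Finset.sum_congr rfl
  intro i _
  have h11 : (1 : ZMod 2) + 1 = 0 := by decide
  rcases zmod2_cases_l (v i) with hv | hv <;> rcases zmod2_cases_l (w i) with hw | hw <;>
    simp [hv, hw, h11]

set_option maxRecDepth 100000 in
theorem qr_weight : ∀ s : ZMod 23, hammingNorm (qrWord s) = 12 := by
  unfold hammingNorm
  decide +kernel

theorem one_weight : hammingNorm (1 : GolayPt → ZMod 2) = 24 := by
  unfold hammingNorm
  decide +kernel

theorem golay_four_dvd {w : GolayPt → ZMod 2} (hw : w ∈ golayCode) : 4 ∣ hammingNorm w := by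
  induction hw using Submodule.span_induction with
  | mem x hx =>
    rcases hx with ⟨s, rfl⟩ | hx
    · rw [qr_weight]; decide
    · rw [Set.mem_singleton_iff] at hx; subst hx; rw [one_weight]; decide
  | zero => simp
  | add x y hx hy ihx ihy =>
    have h1 := hammingNorm_add x y
    have h2 := even_both_of_dot2 (golay_dot2 hx hy)
    obtain ⟨k, hk⟩ := h2
    omega
  | smul a x _ ihx =>
    rcases zmod2_cases_l a with ha | ha
    · rw [ha, zero_smul]; simp
    · rw [ha, one_smul]; exact ihx

end Cfsg.Agent.Lib.helper4
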