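import Mathlib
import Cfsg.Prelude.Def_Sporadic_a
import Cfsg.Agent.Lib.helper4.Leech
import Cfsg.Agent.Lib.helper4.GolayOrth

set_option autoImplicit false

namespace Cfsg.Agent.Lib.helper4

open Cfsg

def flip (wc : GolayPt → ZMod 2) (x : GolayPt → ℤ) : GolayPt → ℤ :=
  fun i => if wc i ≠ 0 then -x i else x i

theorem hammingNorm_cast (w : GolayPt → ZMod 2) :
    ((hammingNorm w : ℕ) : ℤ) = ∑ i, (if w i ≠ 0 then (1 : ℤ) else 0) := by
  unfold hammingNorm
  rw [Finset.card_filter]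
  push_cast
  rfl

theorem both_cast (v w : GolayPt → ZMod 2) :
    ((both v w : ℕ) : ℤ) = ∑ i, (if v i ≠ 0 ∧ w i ≠ 0 then (1 : ℤ) else 0) := by
  unfold both
  rw [Finset.card_filter]
  push_cast
  rfl

theorem partial_sum_mod4 (wc : GolayPt → ZMod 2) (hwc : wc ∈ golayCode) (x : GolayPt → ℤ) (m : ℤ)
    (h1 : ∀ i, x i ≡ m [ZMOD 2]) (h3 : ∀ k : ℤ, ind4 x k ∈ golayCode) :
    (∑ i, (if wc i ≠ 0 then x i else 0)) ≡ 0 [ZMOD 4] := by
  have hpt : ∀ i ∈ (Finset.univ : Finset GolayPt), (if wc i ≠ 0 then x i else 0) ≡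
      m * (if wc i ≠ 0 then (1 : ℤ) else 0) +
        2 * (if wc i ≠ 0 ∧ ind4 x (m + 2) i ≠ 0 then (1 : ℤ) else 0) [ZMOD 4] := by
    intro i _
    have hi : x i % 2 = m % 2 := h1 i
    by_cases hc : wc i ≠ 0
    · by_cases hx : x i ≡ m + 2 [ZMOD 4]
      · have hx' : x i % 4 = (m + 2) % 4 := hx
        have hind : ind4 x (m + 2) i ≠ 0 := by
          simp only [ind4, if_pos hx]; decide
        rw [if_pos hc, if_pos hc, if_pos ⟨hc, hind⟩]
        show _ % 4 = _ % 4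
        omega
      · have hx' : ¬ x i % 4 = (m + 2) % 4 := hx
        have hind : ¬ (wc i ≠ 0 ∧ ind4 x (m + 2) i ≠ 0) := by
          rintro ⟨_, h⟩
          apply h
          simp only [ind4, if_neg hx]
        rw [if_pos hc, if_pos hc, if_neg hind]
        show _ % 4 = _ % 4
        omega
    · have hind : ¬ (wc i ≠ 0 ∧ ind4 x (m + 2) i ≠ 0) := fun h => hc h.1
      rw [if_neg hc, if_neg hc, if_neg hind]
      show _ % 4 = _ % 4
      omega
  have hsum := Int.ModEq.sum hpt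
  rw [Finset.sum_add_distrib, ← Finset.mul_sum, ← Finset.mul_sum, ← hammingNorm_cast,
    ← both_cast] at hsum
  have h4 : 4 ∣ hammingNorm wc := golay_four_dvd hwc
  have he : Even (both wc (ind4 x (m + 2))) := even_both_of_dot2 (golay_dot2 hwc (h3 (m + 2)))
  obtain ⟨a, ha⟩ := h4
  obtain ⟨b, hb⟩ := he
  refine hsum.trans ?_
  rw [ha, hb]
  push_cast
  have : m * (4 * (a : ℤ)) + 2 * ((b : ℤ) + b) = 4 * (m * a + b) := by ring
  rw [this]
  exact (Int.modEq_zero_iff_dvd).mpr ⟨_, rfl⟩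

theorem flip_sum (wc : GolayPt → ZMod 2) (x : GolayPt → ℤ) :
    ∑ i, flip wc x i = ∑ i, x i - 2 * ∑ i, (if wc i ≠ 0 then x i else 0) := by
  rw [Finset.mul_sum, ← Finset.sum_sub_distrib]
  apply Finset.sum_congr rfl
  intro i _
  unfold flip
  split_ifs <;> ring

theorem flip_pos {wc : GolayPt → ZMod 2} {x : GolayPt → ℤ} {i : GolayPt} (hc : wc i ≠ 0) :
    flip wc x i = -x i := if_pos hc

theorem flip_neg {wc : GolayPt → ZMod 2} {x : GolayPt → ℤ} {i : GolayPt} (hc : ¬ wc i ≠ 0) :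
    flip wc x i = x i := if_neg hc

theorem ind4_apply (y : GolayPt → ℤ) (k : ℤ) (i : GolayPt) :
    ind4 y k i = if y i ≡ k [ZMOD 4] then 1 else 0 := rfl

theorem ind4_flip_even (wc : GolayPt → ZMod 2) (x : GolayPt → ℤ) (m k : ℤ)
    (h1 : ∀ i, x i ≡ m [ZMOD 2]) (hm : m % 2 = 0) : ind4 (flip wc x) k = ind4 x k := by
  funext i
  have hi : x i % 2 = m % 2 := h1 i
  rw [ind4_apply, ind4_apply]
  by_cases hc : wc i ≠ 0
  · rw [flip_pos hc]
    by_cases hx : x i ≡ k [ZMOD 4]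
    · have hx' : x i % 4 = k % 4 := hx
      have : -x i ≡ k [ZMOD 4] := by show _ % 4 = _ % 4; omega
      rw [if_pos hx, if_pos this]
    · have hx' : ¬ x i % 4 = k % 4 := hx
      have : ¬ -x i ≡ k [ZMOD 4] := by show ¬ _ % 4 = _ % 4; omega
      rw [if_neg hx, if_neg this]
  · rw [flip_neg hc]

theorem ind4_flip_odd_even (wc : GolayPt → ZMod 2) (x : GolayPt → ℤ) (m k : ℤ)
    (h1 : ∀ i, x i ≡ m [ZMOD 2]) (hm : m % 2 = 1) (hk : k % 2 = 0) :
    ind4 (flip wc x) k = 0 := by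
  funext i
  have hi : x i % 2 = m % 2 := h1 i
  rw [ind4_apply, Pi.zero_apply]
  by_cases hc : wc i ≠ 0
  · rw [flip_pos hc]
    have : ¬ -x i ≡ k [ZMOD 4] := by show ¬ _ % 4 = _ % 4; omega
    rw [if_neg this]
  · rw [flip_neg hc]
    have : ¬ x i ≡ k [ZMOD 4] := by show ¬ _ % 4 = _ % 4; omega
    rw [if_neg this]

theorem ind4_flip_odd_odd (wc : GolayPt → ZMod 2) (x : GolayPt → ℤ) (m k : ℤ)
    (h1 : ∀ i, x i ≡ m [ZMOD 2]) (hm : m % 2 = 1) (hk : k % 2 = 1) :
    ind4 (flip wc x) k = ind4 x k + wc := by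
  funext i
  have hi : x i % 2 = m % 2 := h1 i
  rw [Pi.add_apply, ind4_apply, ind4_apply]
  by_cases hc : wc i ≠ 0
  · rw [flip_pos hc]
    have hw1 : wc i = 1 := by
      rcases zmod2_cases_l (wc i) with h | h
      · exact absurd h hc
      · exact h
    rw [hw1]
    by_cases hx : x i ≡ k [ZMOD 4]
    · have hx' : x i % 4 = k % 4 := hx
      have : ¬ -x i ≡ k [ZMOD 4] := by show ¬ _ % 4 = _ % 4; omega
      rw [if_pos hx, if_neg this]; decide
    · have hx' : ¬ x i % 4 = k % 4 := hx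
      have : -x i ≡ k [ZMOD 4] := by show _ % 4 = _ % 4; omega
      rw [if_neg hx, if_pos this]; decide
  · rw [flip_neg hc]
    have hw0 : wc i = 0 := by
      by_contra h
      exact hc h
    rw [hw0, add_zero]

theorem flip_mem_leechSet {wc : GolayPt → ZMod 2} (hwc : wc ∈ golayCode) {x : GolayPt → ℤ}
    (hx : x ∈ leechSet) : flip wc x ∈ leechSet := by
  rw [mem_leechSet_iff] at *
  obtain ⟨m, h1, h2, h3⟩ := hx
  refine ⟨m, fun i => ?_, ?_, fun k => ?_⟩
  · have hi : x i % 2 = m % 2 := h1 i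
    unfold flip
    split_ifs
    · show _ % 2 = _ % 2; omega
    · exact h1 i
  · rw [flip_sum]
    have hp : (∑ i, (if wc i ≠ 0 then x i else 0)) % 4 = 0 % 4 := partial_sum_mod4 wc hwc x m h1 h3
    have h2' : (∑ i, x i) % 8 = (4 * m) % 8 := h2
    show _ % 8 = _ % 8
    omega
  · rcases Int.emod_two_eq_zero_or_one m with hm | hm
    · rw [ind4_flip_even wc x m k h1 hm]
      exact h3 k
    · rcases Int.emod_two_eq_zero_or_one k with hk | hk
      · rw [ind4_flip_odd_even wc x m k h1 hm hk]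
        exact golayCode.zero_mem
      · rw [ind4_flip_odd_odd wc x m k h1 hm hk]
        exact golayCode.add_mem (h3 k) hwc

end Cfsg.Agent.Lib.helper4
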