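import Mathlib
import Cfsg.Agent.Lib.helper23.P4S.DefsC

/-! P4C row GEO2 (`gsum_two_mul`), helper4. -/

set_option autoImplicit false

namespace Cfsg.Agent.Lib.helper23.P4S

open Matrix
open scoped Kronecker

theorem p4cgeo2_succ {E : Type*} [Field E] {ι : Type*} [Fintype ι] [DecidableEq ι]
    (M : Matrix ι ι E) (k : ℕ) : gsum M (k + 1) = gsum M k + M ^ k := by
  unfold gsum
  rw [Finset.sum_range_succ]

theorem p4cgeo2_zero {E : Type*} [Field E] {ι : Type*} [Fintype ι] [DecidableEq ι]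
    (M : Matrix ι ι E) : gsum M 0 = 0 := by
  unfold gsum
  rw [Finset.range_zero, Finset.sum_empty]

/-- GEO2 [S-M]: split `range (2k)` into even and odd indices (induction on `k`, `Finset.sum_range_succ`, `pow_succ`). -/
theorem gsum_two_mul {E : Type} [Field E] {ι : Type} [Fintype ι] [DecidableEq ι]
    (M : Matrix ι ι E) (k : ℕ) : gsum M (2 * k) = (1 + M) * gsum (M * M) k := by
  induction k with
  | zero => rw [Nat.mul_zero, p4cgeo2_zero, p4cgeo2_zero, mul_zero]
  | succ k ih =>
    have h1 : 2 * (k + 1) = 2 * k + 1 + 1 := by ring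
    have h2 : (M * M) ^ k = M ^ (2 * k) := by rw [← pow_two, ← pow_mul]
    rw [h1, p4cgeo2_succ, p4cgeo2_succ, ih, p4cgeo2_succ, mul_add, h2, pow_succ' M (2 * k),
      add_mul 1 M (M ^ (2 * k)), one_mul, add_assoc]

end Cfsg.Agent.Lib.helper23.P4S
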