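import Mathlib
import Cfsg.Agent.Lib.helper17.T3.DefsC
import Cfsg.Agent.Lib.helper3.SL2Mult
import Cfsg.Agent.Lib.helper23.CEUE1

/-!
# Project T3C (designer helper17, for S2110), row H5 (`SysT.hs_mapsPair`, `SysT.hl_mapsPair`, `SysT.chs_ne_zero`) (helper4), VERBATIM.
Self-contained: own-name copies `t3ch5helper4_hs_xs`, `t3ch5helper4_hl_xs` of the statements of H1, H3.
-/

set_option autoImplicit false

namespace Cfsg.Agent.Lib.helper17.T3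

open Cfsg.Agent.Lib.helper15.St2 Cfsg.Agent.Lib.helper7.Ce Matrix

variable {F K : Type*} [Field F] [Field K] [Algebra F K]

theorem t3ch5helper4_nm_one (C : Cub F K) : C.nm 1 = 1 := by
  apply (algebraMap F K).injective
  rw [C.hnm, map_one, map_one, map_one, one_mul, one_mul]

theorem t3ch5helper4_nm_ne (C : Cub F K) {u : K} (hu : u ≠ 0) : algebraMap F K (C.nm u) ≠ 0 := by
  rw [C.hnm]
  exact mul_ne_zero (mul_ne_zero hu ((map_ne_zero C.θ).2 hu)) ((map_ne_zero C.θ).2 ((map_ne_zero C.θ).2 hu))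

theorem t3ch5helper4_cases (i : ZMod 6) : i = 0 ∨ i = 1 ∨ i = 2 ∨ i = 3 ∨ i = 4 ∨ i = 5 := by
  revert i; decide

variable {C : Cub F K} {G Γ : Type*} [Group G] [Group Γ]

namespace SysT

variable (S : SysT C G)

/-! ### the short torus element on the short root groups -/

theorem t3ch5helper4_s0 (j : ZMod 6) (u t : K) (hu : u ≠ 0) :
    cj (S.hs j u) (S.xs j t) = S.xs j (u ^ 2 * t) := by
  have h1 : cj (S.ws j 1) (S.xs (j + 3) t) = S.xs j t := by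
    have : cj (S.ws j 1) (S.xs (j + 3) t) = S.xs j ((1 : K) ^ 2 * t) := S.ws_s3 j 1 t one_ne_zero
    rw [one_pow, one_mul] at this
    exact this
  have h2 : cj (S.ws j 1)⁻¹ (S.xs j t) = S.xs (j + 3) t := cj_inv_of h1
  unfold SysT.hs
  rw [← cj_cj, h2]
  exact S.ws_s3 j u t hu

theorem t3ch5helper4_s1 (j : ZMod 6) (u t : K) (hu : u ≠ 0) :
    cj (S.hs j u) (S.xs (j + 1) t) = S.xs (j + 1) (algebraMap F K (C.nm u) * u⁻¹ ^ 2 * t) := by
  have h1 : cj (S.ws j 1) (S.xs (j + 2) (-t)) = S.xs (j + 1) t := by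
    have : cj (S.ws j 1) (S.xs (j + 2) (-t)) = S.xs (j + 1) (-(C.nm 1 • ((1 : K)⁻¹ ^ 2 * -t))) :=
      S.ws_s2 j 1 (-t) one_ne_zero
    rw [t3ch5helper4_nm_one, inv_one, one_pow, one_mul, one_smul, neg_neg] at this
    exact this
  have h2 : cj (S.ws j 1)⁻¹ (S.xs (j + 1) t) = S.xs (j + 2) (-t) := cj_inv_of h1
  unfold SysT.hs
  rw [← cj_cj, h2]
  have : cj (S.ws j u) (S.xs (j + 2) (-t)) = S.xs (j + 1) (-(C.nm u • (u⁻¹ ^ 2 * -t))) := S.ws_s2 j u (-t) hu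
  rw [this]
  congr 1
  rw [Algebra.smul_def]
  ring

theorem t3ch5helper4_s2 (j : ZMod 6) (u t : K) (hu : u ≠ 0) :
    cj (S.hs j u) (S.xs (j + 2) t) = S.xs (j + 2) (u ^ 2 * (algebraMap F K (C.nm u))⁻¹ * t) := by
  have h1 : cj (S.ws j 1) (S.xs (j + 1) t) = S.xs (j + 2) t := by
    have : cj (S.ws j 1) (S.xs (j + 1) t) = S.xs (j + 2) ((C.nm 1)⁻¹ • ((1 : K) ^ 2 * t)) :=
      S.ws_s1 j 1 t one_ne_zero
    rw [t3ch5helper4_nm_one, inv_one, one_pow, one_mul, one_smul] at this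
    exact this
  have h2 : cj (S.ws j 1)⁻¹ (S.xs (j + 2) t) = S.xs (j + 1) t := cj_inv_of h1
  unfold SysT.hs
  rw [← cj_cj, h2]
  have : cj (S.ws j u) (S.xs (j + 1) t) = S.xs (j + 2) ((C.nm u)⁻¹ • (u ^ 2 * t)) := S.ws_s1 j u t hu
  rw [this]
  congr 1
  rw [Algebra.smul_def, map_inv₀]
  ring

theorem t3ch5helper4_s3 (j : ZMod 6) (u t : K) (hu : u ≠ 0) :
    cj (S.hs j u) (S.xs (j + 3) t) = S.xs (j + 3) (u⁻¹ ^ 2 * t) := by
  have h1 : cj (S.ws j 1) (S.xs j t) = S.xs (j + 3) t := by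
    have : cj (S.ws j 1) (S.xs j t) = S.xs (j + 3) ((1 : K)⁻¹ ^ 2 * t) := S.ws_s0 j 1 t one_ne_zero
    rw [inv_one, one_pow, one_mul] at this
    exact this
  have h2 : cj (S.ws j 1)⁻¹ (S.xs (j + 3) t) = S.xs j t := cj_inv_of h1
  unfold SysT.hs
  rw [← cj_cj, h2]
  exact S.ws_s0 j u t hu

theorem t3ch5helper4_s4 (j : ZMod 6) (u t : K) (hu : u ≠ 0) :
    cj (S.hs j u) (S.xs (j + 4) t) = S.xs (j + 4) (u ^ 2 * (algebraMap F K (C.nm u))⁻¹ * t) := by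
  have h1 : cj (S.ws j 1) (S.xs (j + 5) (-t)) = S.xs (j + 4) t := by
    have : cj (S.ws j 1) (S.xs (j + 5) (-t)) = S.xs (j + 4) (-((C.nm 1)⁻¹ • ((1 : K) ^ 2 * -t))) :=
      S.ws_s5 j 1 (-t) one_ne_zero
    rw [t3ch5helper4_nm_one, inv_one, one_pow, one_mul, one_smul, neg_neg] at this
    exact this
  have h2 : cj (S.ws j 1)⁻¹ (S.xs (j + 4) t) = S.xs (j + 5) (-t) := cj_inv_of h1
  unfold SysT.hs
  rw [← cj_cj, h2]
  have : cj (S.ws j u) (S.xs (j + 5) (-t)) = S.xs (j + 4) (-((C.nm u)⁻¹ • (u ^ 2 * -t))) := S.ws_s5 j u (-t) hu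
  rw [this]
  congr 1
  rw [Algebra.smul_def, map_inv₀]
  ring

theorem t3ch5helper4_s5 (j : ZMod 6) (u t : K) (hu : u ≠ 0) :
    cj (S.hs j u) (S.xs (j + 5) t) = S.xs (j + 5) (algebraMap F K (C.nm u) * u⁻¹ ^ 2 * t) := by
  have h1 : cj (S.ws j 1) (S.xs (j + 4) t) = S.xs (j + 5) t := by
    have : cj (S.ws j 1) (S.xs (j + 4) t) = S.xs (j + 5) (C.nm 1 • ((1 : K)⁻¹ ^ 2 * t)) :=
      S.ws_s4 j 1 t one_ne_zero
    rw [t3ch5helper4_nm_one, inv_one, one_pow, one_mul, one_smul] at this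
    exact this
  have h2 : cj (S.ws j 1)⁻¹ (S.xs (j + 5) t) = S.xs (j + 4) t := cj_inv_of h1
  unfold SysT.hs
  rw [← cj_cj, h2]
  have : cj (S.ws j u) (S.xs (j + 4) t) = S.xs (j + 5) (C.nm u • (u⁻¹ ^ 2 * t)) := S.ws_s4 j u t hu
  rw [this]
  congr 1
  rw [Algebra.smul_def]
  ring

/-- own-name copy of the statement of H1 `hs_xs` -/
theorem t3ch5helper4_hs_xs (j i : ZMod 6) (u t : K) (hu : u ≠ 0) :
    cj (S.hs j u) (S.xs (j + i) t) = S.xs (j + i) (C.chs i u * t) := by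
  rcases t3ch5helper4_cases i with rfl | rfl | rfl | rfl | rfl | rfl
  · rw [add_zero]; exact S.t3ch5helper4_s0 j u t hu
  · exact S.t3ch5helper4_s1 j u t hu
  · exact S.t3ch5helper4_s2 j u t hu
  · exact S.t3ch5helper4_s3 j u t hu
  · exact S.t3ch5helper4_s4 j u t hu
  · exact S.t3ch5helper4_s5 j u t hu

/-! ### the long torus element on the short root groups -/

theorem t3ch5helper4_d0 (j : ZMod 6) (c : F) (t : K) (hc : c ≠ 0) :
    cj (S.hl j c) (S.xs j t) = S.xs j (c • t) := by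
  have h1 : cj (S.wl j 1) (S.xs (j + 4) t) = S.xs j t := by
    have : cj (S.wl j 1) (S.xs (j + 4) t) = S.xs j ((1 : F) • t) := S.wl_s4 j 1 t one_ne_zero
    rw [one_smul] at this
    exact this
  have h2 : cj (S.wl j 1)⁻¹ (S.xs j t) = S.xs (j + 4) t := cj_inv_of h1
  unfold SysT.hl
  rw [← cj_cj, h2]
  exact S.wl_s4 j c t hc

theorem t3ch5helper4_d1 (j : ZMod 6) (c : F) (t : K) (hc : c ≠ 0) :
    cj (S.hl j c) (S.xs (j + 1) t) = S.xs (j + 1) (c • t) := by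
  have h1 : cj (S.wl j 1) (S.xs (j + 3) (-t)) = S.xs (j + 1) t := by
    have : cj (S.wl j 1) (S.xs (j + 3) (-t)) = S.xs (j + 1) (-((1 : F) • -t)) := S.wl_s3 j 1 (-t) one_ne_zero
    rw [one_smul, neg_neg] at this
    exact this
  have h2 : cj (S.wl j 1)⁻¹ (S.xs (j + 1) t) = S.xs (j + 3) (-t) := cj_inv_of h1
  unfold SysT.hl
  rw [← cj_cj, h2]
  have : cj (S.wl j c) (S.xs (j + 3) (-t)) = S.xs (j + 1) (-(c • -t)) := S.wl_s3 j c (-t) hc
  rw [this, smul_neg, neg_neg]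

theorem t3ch5helper4_d2 (j : ZMod 6) (c : F) (t : K) (hc : c ≠ 0) :
    cj (S.hl j c) (S.xs (j + 2) t) = S.xs (j + 2) ((1 : F) • t) := by
  have h1 : cj (S.wl j 1) (S.xs (j + 2) t) = S.xs (j + 2) t := S.wl_s2 j 1 t one_ne_zero
  have h2 : cj (S.wl j 1)⁻¹ (S.xs (j + 2) t) = S.xs (j + 2) t := cj_inv_of h1
  unfold SysT.hl
  rw [← cj_cj, h2, one_smul]
  exact S.wl_s2 j c t hc

theorem t3ch5helper4_d3 (j : ZMod 6) (c : F) (t : K) (hc : c ≠ 0) :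
    cj (S.hl j c) (S.xs (j + 3) t) = S.xs (j + 3) (c⁻¹ • t) := by
  have h1 : cj (S.wl j 1) (S.xs (j + 1) t) = S.xs (j + 3) t := by
    have : cj (S.wl j 1) (S.xs (j + 1) t) = S.xs (j + 3) ((1 : F)⁻¹ • t) := S.wl_s1 j 1 t one_ne_zero
    rw [inv_one, one_smul] at this
    exact this
  have h2 : cj (S.wl j 1)⁻¹ (S.xs (j + 3) t) = S.xs (j + 1) t := cj_inv_of h1
  unfold SysT.hl
  rw [← cj_cj, h2]
  exact S.wl_s1 j c t hc

theorem t3ch5helper4_d4 (j : ZMod 6) (c : F) (t : K) (hc : c ≠ 0) :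
    cj (S.hl j c) (S.xs (j + 4) t) = S.xs (j + 4) (c⁻¹ • t) := by
  have h1 : cj (S.wl j 1) (S.xs j (-t)) = S.xs (j + 4) t := by
    have : cj (S.wl j 1) (S.xs j (-t)) = S.xs (j + 4) (-((1 : F)⁻¹ • -t)) := S.wl_s0 j 1 (-t) one_ne_zero
    rw [inv_one, one_smul, neg_neg] at this
    exact this
  have h2 : cj (S.wl j 1)⁻¹ (S.xs (j + 4) t) = S.xs j (-t) := cj_inv_of h1
  unfold SysT.hl
  rw [← cj_cj, h2]
  have : cj (S.wl j c) (S.xs j (-t)) = S.xs (j + 4) (-(c⁻¹ • -t)) := S.wl_s0 j c (-t) hc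
  rw [this, smul_neg, neg_neg]

theorem t3ch5helper4_d5 (j : ZMod 6) (c : F) (t : K) (hc : c ≠ 0) :
    cj (S.hl j c) (S.xs (j + 5) t) = S.xs (j + 5) ((1 : F) • t) := by
  have h1 : cj (S.wl j 1) (S.xs (j + 5) t) = S.xs (j + 5) t := S.wl_s5 j 1 t one_ne_zero
  have h2 : cj (S.wl j 1)⁻¹ (S.xs (j + 5) t) = S.xs (j + 5) t := cj_inv_of h1
  unfold SysT.hl
  rw [← cj_cj, h2, one_smul]
  exact S.wl_s5 j c t hc

/-- own-name copy of the statement of H3 `hl_xs` -/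
theorem t3ch5helper4_hl_xs (j i : ZMod 6) (c : F) (t : K) (hc : c ≠ 0) :
    cj (S.hl j c) (S.xs (j + i) t) = S.xs (j + i) (dhs i c • t) := by
  rcases t3ch5helper4_cases i with rfl | rfl | rfl | rfl | rfl | rfl
  · rw [add_zero]; exact S.t3ch5helper4_d0 j c t hc
  · exact S.t3ch5helper4_d1 j c t hc
  · exact S.t3ch5helper4_d2 j c t hc
  · exact S.t3ch5helper4_d3 j c t hc
  · exact S.t3ch5helper4_d4 j c t hc
  · exact S.t3ch5helper4_d5 j c t hc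

/-! ### the characters at `i + 3` -/

theorem t3ch5helper4_chs3 (C : Cub F K) (i : ZMod 6) (u : K) : C.chs (i + 3) u = (C.chs i u)⁻¹ := by
  rcases t3ch5helper4_cases i with rfl | rfl | rfl | rfl | rfl | rfl
  · show u⁻¹ ^ 2 = (u ^ 2)⁻¹
    rw [inv_pow]
  · show u ^ 2 * (algebraMap F K (C.nm u))⁻¹ = (algebraMap F K (C.nm u) * u⁻¹ ^ 2)⁻¹
    rw [mul_inv, inv_pow, inv_inv, mul_comm]
  · show algebraMap F K (C.nm u) * u⁻¹ ^ 2 = (u ^ 2 * (algebraMap F K (C.nm u))⁻¹)⁻¹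
    rw [mul_inv, inv_inv, inv_pow, mul_comm]
  · show u ^ 2 = (u⁻¹ ^ 2)⁻¹
    rw [inv_pow, inv_inv]
  · show algebraMap F K (C.nm u) * u⁻¹ ^ 2 = (u ^ 2 * (algebraMap F K (C.nm u))⁻¹)⁻¹
    rw [mul_inv, inv_inv, inv_pow, mul_comm]
  · show u ^ 2 * (algebraMap F K (C.nm u))⁻¹ = (algebraMap F K (C.nm u) * u⁻¹ ^ 2)⁻¹
    rw [mul_inv, inv_pow, inv_inv, mul_comm]

theorem t3ch5helper4_dhs3 (i : ZMod 6) (c : F) : dhs (i + 3) c = (dhs i c)⁻¹ := by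
  rcases t3ch5helper4_cases i with rfl | rfl | rfl | rfl | rfl | rfl
  · show c⁻¹ = c⁻¹
    rfl
  · show c⁻¹ = c⁻¹
    rfl
  · show (1 : F) = (1 : F)⁻¹
    rw [inv_one]
  · show c = (c⁻¹)⁻¹
    rw [inv_inv]
  · show c = (c⁻¹)⁻¹
    rw [inv_inv]
  · show (1 : F) = (1 : F)⁻¹
    rw [inv_one]

/-- [H5] [S] `hs_xs` at `i` and `i + 3` (`j + i + 3 = j + (i + 3)`); `C.chs (i + 3) u = (C.chs i u)⁻¹` by `fin_cases i` and `field_simp`-type algebra (`nm u ≠ 0`). -/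
theorem hs_mapsPair (j i : ZMod 6) (u : K) (hu : u ≠ 0) : S.MapsPair (S.hs j u) (j + i) (j + i) (C.chs i u) := by
  refine ⟨fun t => S.t3ch5helper4_hs_xs j i u t hu, fun t => ?_⟩
  rw [add_assoc, ← t3ch5helper4_chs3]
  exact S.t3ch5helper4_hs_xs j (i + 3) u t hu

/-- [H5] [S] -/
theorem hl_mapsPair (j i : ZMod 6) (c : F) (hc : c ≠ 0) : S.MapsPair (S.hl j c) (j + i) (j + i) (algebraMap F K (dhs i c)) := by
  refine ⟨fun t => ?_, fun t => ?_⟩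
  · rw [← Algebra.smul_def]
    exact S.t3ch5helper4_hl_xs j i c t hc
  · rw [add_assoc, ← map_inv₀, ← t3ch5helper4_dhs3, ← Algebra.smul_def]
    exact S.t3ch5helper4_hl_xs j (i + 3) c t hc

/-- [H5] [S] `fin_cases i`; the characters are products / inverses of `u ^ 2 ≠ 0` and `algebraMap (nm u) ≠ 0`. -/
theorem chs_ne_zero (C : Cub F K) (i : ZMod 6) {u : K} (hu : u ≠ 0) : C.chs i u ≠ 0 := by
  have hn := t3ch5helper4_nm_ne C hu
  have h2 : u ^ 2 ≠ 0 := pow_ne_zero 2 hu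
  have h3 : u⁻¹ ^ 2 ≠ 0 := pow_ne_zero 2 (inv_ne_zero hu)
  rcases t3ch5helper4_cases i with rfl | rfl | rfl | rfl | rfl | rfl
  · exact h2
  · exact mul_ne_zero hn h3
  · exact mul_ne_zero h2 (inv_ne_zero hn)
  · exact h3
  · exact mul_ne_zero h2 (inv_ne_zero hn)
  · exact mul_ne_zero hn h3

end SysT

end Cfsg.Agent.Lib.helper17.T3
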