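import Mathlib
import Cfsg.Agent.Lib.Helper19.S5954.Defs
import Cfsg.Agent.Lib.helper14.JTb

/-!
# Project S5954 (designer helper19), row UPROD: the orthogonal sum of two standard hermitian contexts is a
standard context (`Fin.append` coordinates).  (helper4)
-/

set_option autoImplicit false
set_option linter.unusedVariables false
set_option linter.unusedSectionVars false

namespace Cfsg.Agent.Lib.Helper19.S5954

open Polynomial Module Cfsg.Agent.Lib.Helper13.S5955 Cfsg.Agent.Lib.helper14.JTa Cfsg.Agent.Lib.Helper11.S5956U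

variable {F : Type*} [Field F] {V : Type*} [AddCommGroup V] [Module F V]

/-- the standard hermitian form in coordinates. -/
theorem s5954uprod_stdH_apply (n : ℕ) (σ : F →+* F) (u v : Fin n → F) :
    stdH n σ u v = ∑ i, v i * σ (u i) := by
  simp only [stdH, Cfsg.Agent.Lib.helper6.HF.hB, LinearMap.mk₂'ₛₗ_apply]

/-- splitting the coordinates `Fin (k₁ + k₂)` into the first `k₁` and the last `k₂`. -/
def s5954uprod_psi (F : Type*) [Field F] (k₁ k₂ : ℕ) :
    (Fin (k₁ + k₂) → F) ≃ₗ[F] (Fin k₁ → F) × (Fin k₂ → F) where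
  toFun u := (fun i => u (Fin.castAdd k₂ i), fun i => u (Fin.natAdd k₁ i))
  map_add' u v := rfl
  map_smul' c u := rfl
  invFun p := Fin.append p.1 p.2
  left_inv u := by
    funext i
    refine Fin.addCases (fun i => ?_) (fun i => ?_) i
    · simp only [Fin.append_left]
    · simp only [Fin.append_right]
  right_inv p := by
    apply Prod.ext
    · funext i; simp only [Fin.append_left]
    · funext i; simp only [Fin.append_right]

/-- the standard form on `Fin (k₁ + k₂)` is the orthogonal sum of the standard forms. -/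
theorem s5954uprod_split (σ : F →+* F) (k₁ k₂ : ℕ) (u v : Fin (k₁ + k₂) → F) :
    stdH (k₁ + k₂) σ u v =
      stdH k₁ σ (s5954uprod_psi F k₁ k₂ u).1 (s5954uprod_psi F k₁ k₂ v).1 +
        stdH k₂ σ (s5954uprod_psi F k₁ k₂ u).2 (s5954uprod_psi F k₁ k₂ v).2 := by
  rw [s5954uprod_stdH_apply, s5954uprod_stdH_apply, s5954uprod_stdH_apply, Fin.sum_univ_add]
  rfl

/-- UPROD [M] (twin of helper4/S5956UPRODCTX.lean): the orthogonal sum of two standard contexts is a standard context. -/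
theorem h_prod [Finite F] {r : ℕ} {σ : F →+* F} (hσσ : ∀ a, σ (σ a) = a) (k₁ k₂ : ℕ)
    (y₁ : Module.End F (Fin k₁ → F)) (y₂ : Module.End F (Fin k₂ → F))
    (h₁ : HCtx r σ (stdH k₁ σ) y₁) (h₂ : HCtx r σ (stdH k₂ σ) y₂) :
    ∃ y : Module.End F (Fin (k₁ + k₂) → F), HCtx r σ (stdH (k₁ + k₂) σ) y ∧
      ∀ j, dk (y - 1) j = dk (y₁ - 1) j + dk (y₂ - 1) j := by
  classical
  obtain ⟨ψ, hψ⟩ : ∃ ψ, ψ = s5954uprod_psi F k₁ k₂ := ⟨_, rfl⟩
  have hsplit : ∀ u v, stdH (k₁ + k₂) σ u v =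
      stdH k₁ σ (ψ u).1 (ψ v).1 + stdH k₂ σ (ψ u).2 (ψ v).2 := by
    rw [hψ]; exact s5954uprod_split σ k₁ k₂
  obtain ⟨x', hx'def⟩ : ∃ x' : Module.End F ((Fin k₁ → F) × (Fin k₂ → F)),
      x' = LinearMap.prodMap y₁ y₂ := ⟨_, rfl⟩
  have hx' : ∀ u, x' u = (y₁ u.1, y₂ u.2) := fun u => by rw [hx'def]; rfl
  obtain ⟨y, hydef⟩ : ∃ y : Module.End F (Fin (k₁ + k₂) → F), y = ψ.symm.conjAlgEquiv F x' :=
    ⟨_, rfl⟩
  have hy : ∀ u, ψ (y u) = x' (ψ u) := by
    intro u
    have e1 : (ψ.symm.conjAlgEquiv F x') u = ψ.symm (x' (ψ u)) := by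
      rw [LinearEquiv.conjAlgEquiv_apply]; rfl
    rw [hydef, e1, LinearEquiv.apply_symm_apply]
  refine ⟨y, ⟨hσσ, h₁.ne, ?_, ?_, ?_, ?_⟩, ?_⟩
  · intro u v
    rw [hsplit, hsplit, map_add, h₁.symm, h₂.symm]
  · intro u hu
    have e1 : (ψ u).1 = 0 := h₁.nd _ (fun v => by
      have h3 := hu (ψ.symm (v, 0))
      rw [hsplit, LinearEquiv.apply_symm_apply] at h3
      simpa using h3)
    have e2 : (ψ u).2 = 0 := h₂.nd _ (fun v => by
      have h3 := hu (ψ.symm (0, v))
      rw [hsplit, LinearEquiv.apply_symm_apply] at h3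
      simpa using h3)
    have h0 : ψ u = 0 := Prod.ext e1 e2
    exact ψ.map_eq_zero_iff.mp h0
  · intro u v
    rw [hsplit, hsplit u v, hy, hy, hx', hx', h₁.pres, h₂.pres]
  · rw [hydef, ← map_pow, hx'def, Cfsg.Agent.Lib.helper14.JTb.prodMap_pow', h₁.pow, h₂.pow]
    rw [show (LinearMap.prodMap (1 : Module.End F (Fin k₁ → F)) (1 : Module.End F (Fin k₂ → F))) = 1
      from LinearMap.prodMap_one]
    exact map_one _
  · intro j
    have hsub : (LinearMap.prodMap (y₁ - 1) (y₂ - 1) : Module.End F _) = x' - 1 := by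
      apply LinearMap.ext
      intro u
      rw [LinearMap.sub_apply, hx']
      apply Prod.ext
      · simp [LinearMap.prodMap_apply, LinearMap.sub_apply]
      · simp [LinearMap.prodMap_apply, LinearMap.sub_apply]
    have hconj : y - 1 = ψ.symm.conjAlgEquiv F (LinearMap.prodMap (y₁ - 1) (y₂ - 1)) := by
      rw [hsub, map_sub, map_one, hydef]
    rw [hconj, dk_conj, Cfsg.Agent.Lib.helper14.JTb.dk_prodMap]

end Cfsg.Agent.Lib.Helper19.S5954
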