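import Mathlib
import Cfsg.Agent.Lib.Helper19.S5954.Defs
import Cfsg.Agent.Lib.helper4.S5956UEXTYPEcore
import Cfsg.Agent.Lib.helper4.S5954UPROD

/-!
# Project S5954 (designer helper19), row UEXTYPE (core): a unipotent isometry of the standard hermitian space
of prescribed Jordan type, with the statement of row UBLK (`h_blk`) taken as a hypothesis.  (helper4)
-/

set_option autoImplicit false
set_option linter.unusedVariables false
set_option linter.unusedSectionVars false

namespace Cfsg.Agent.Lib.Helper19.S5954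

open Polynomial Module Cfsg.Agent.Lib.Helper13.S5955 Cfsg.Agent.Lib.helper14.JTa Cfsg.Agent.Lib.Helper11.S5956U

variable {F : Type*} [Field F] {V : Type*} [AddCommGroup V] [Module F V]

/-- the trivial context on the zero space. -/
theorem s5954uextype_zero {p : ℕ} (σ : F →+* F) (hσσ : ∀ a, σ (σ a) = a) (hne : ∃ a, σ a ≠ a) :
    ∃ y : Module.End F (Fin 0 → F), HCtx p σ (stdH 0 σ) y ∧ ∀ j, dk (y - 1) j = tyf 0 j := by
  refine ⟨1, ⟨hσσ, hne, fun u v => ?_, fun u _ => Subsingleton.elim _ _, fun u v => rfl, one_pow p⟩,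
    fun j => ?_⟩
  · rw [s5954uprod_stdH_apply, s5954uprod_stdH_apply, Finset.univ_eq_empty, Finset.sum_empty,
      Finset.sum_empty, map_zero]
  · rw [s5956uextype_tyf_zero]
    unfold dk
    have h1 : finrank F (Fin 0 → F) = 0 := by
      rw [Module.finrank_fintype_fun_eq_card, Fintype.card_fin]
    have h2 := Submodule.finrank_le
      (LinearMap.ker (((1 : Module.End F (Fin 0 → F)) - 1) ^ j))
    omega

/-- UEXTYPE, core: `hblk` is the statement of row UBLK. -/
theorem s5954uextype_core [Finite F] {p : ℕ} (σ : F →+* F)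
    (hσσ : ∀ a, σ (σ a) = a) (hne : ∃ a, σ a ≠ a)
    (hblk : ∀ s : ℕ, 1 ≤ s → s ≤ p →
      ∃ y : Module.End F (Fin s → F), HCtx p σ (stdH s σ) y ∧ ∀ j, dk (y - 1) j = tyf {s} j)
    (μ : Multiset ℕ) (hμ : ∀ a ∈ μ, 0 < a ∧ a ≤ p) (n : ℕ) (hn : μ.sum = n) :
    ∃ y : Module.End F (Fin n → F), HCtx p σ (stdH n σ) y ∧ ∀ j, dk (y - 1) j = tyf μ j := by
  classical
  induction μ using Multiset.induction_on generalizing n with
  | empty =>
    rw [Multiset.sum_zero] at hn
    subst hn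
    exact s5954uextype_zero σ hσσ hne
  | cons a μ ih =>
    rw [Multiset.sum_cons] at hn
    subst hn
    obtain ⟨ha0, hap⟩ := hμ a (Multiset.mem_cons_self a μ)
    obtain ⟨y₂, h₂, hy₂⟩ := ih (fun b hb => hμ b (Multiset.mem_cons_of_mem hb)) μ.sum rfl
    obtain ⟨y₁, h₁, hy₁⟩ := hblk a ha0 hap
    obtain ⟨y, hy, hyd⟩ := h_prod hσσ a μ.sum y₁ y₂ h₁ h₂
    refine ⟨y, hy, fun j => ?_⟩
    rw [hyd, hy₁, hy₂, s5956uextype_tyf_single, s5956uextype_tyf_cons]

end Cfsg.Agent.Lib.Helper19.S5954
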