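import Mathlib
import Cfsg.Prelude.Def_Sporadic_a
import Cfsg.Prelude.Def_SporadicCombinatorics
import Cfsg.Agent.Lib.helper4.ElemClassB

set_option autoImplicit false

namespace Cfsg.Agent.Lib.helper4

open Cfsg
open scoped Pointwise
open Cfsg.Agent.Lib.Helper12.Golay

/-! ### Subgroups of order 3 of the group of the code -/

theorem conj_smul_zpowers {G : Type*} [Group G] (k x : G) :
    MulAut.conj k • Subgroup.zpowers x = Subgroup.zpowers (k * x * k⁻¹) := by
  show Subgroup.map ((MulAut.conj k).toMonoidHom) (Subgroup.zpowers x) = _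
  rw [MonoidHom.map_zpowers]
  rfl

/-- The set of common fixed points of a subgroup. -/
def fixSet (X : Subgroup ↥M24) : Set GolayPt :=
  {p : GolayPt | ∀ x ∈ X, ((x : ↥M24) : Equiv.Perm GolayPt) p = p}

/-- A subgroup of order 3 is generated by an element of order 3. -/
theorem exists_gen_of_card_three (X : Subgroup ↥M24) (hX : Nat.card X = 3) :
    ∃ x : ↥M24, X = Subgroup.zpowers x ∧ orderOf (x : Equiv.Perm GolayPt) = 3 := by
  have : Fact (Nat.Prime 3) := ⟨by norm_num⟩
  have hne : X ≠ ⊥ := by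
    rintro rfl
    rw [Subgroup.card_bot] at hX
    norm_num at hX
  obtain ⟨⟨x, hx⟩, hx1'⟩ := (Subgroup.ne_bot_iff_exists_ne_one).mp hne
  have htop := zpowers_eq_top_of_prime_card hX hx1'
  have hXeq : X = Subgroup.zpowers (x : ↥M24) := by
    apply le_antisymm
    · intro y hy
      have : (⟨y, hy⟩ : ↥X) ∈ Subgroup.zpowers (⟨x, hx⟩ : ↥X) := by rw [htop]; trivial
      obtain ⟨n, hn⟩ := Subgroup.mem_zpowers_iff.mp this
      refine Subgroup.mem_zpowers_iff.mpr ⟨n, ?_⟩
      have := congrArg Subtype.val hn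
      simpa using this
    · rw [Subgroup.zpowers_le]
      exact hx
  refine ⟨x, hXeq, ?_⟩
  rw [Subgroup.orderOf_coe, ← Nat.card_zpowers, ← hXeq, hX]

theorem fixSet_zpowers (x : ↥M24) :
    fixSet (Subgroup.zpowers x) = {p | (x : Equiv.Perm GolayPt) p = p} := by
  ext p
  constructor
  · intro h
    exact h x (Subgroup.mem_zpowers x)
  · intro h y hy
    obtain ⟨n, rfl⟩ := Subgroup.mem_zpowers_iff.mp hy
    have : ((x ^ n : ↥M24) : Equiv.Perm GolayPt) = (x : Equiv.Perm GolayPt) ^ n := by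
      simp
    rw [this]
    exact Equiv.Perm.zpow_apply_eq_self_of_apply_eq_self h n

theorem ncard_fixed_eq (g : Equiv.Perm GolayPt) :
    {p | g p = p}.ncard = (Finset.univ.filter fun p => g p = p).card := by
  rw [← Set.ncard_coe_finset]
  congr 1
  ext p
  simp

theorem card_fixed_zero_iff (g : Equiv.Perm GolayPt) :
    (Finset.univ.filter fun p => g p = p).card = 0 ↔ ∀ p, g p ≠ p := by
  rw [Finset.card_eq_zero, Finset.filter_eq_empty_iff]
  exact ⟨fun h p => h (Finset.mem_univ p), fun h p _ => h p⟩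

/-- The fixed points of an element of order 3: six or none. -/
theorem card_fixed_order3 {g : Equiv.Perm GolayPt} (hg : g ∈ M24) (h₃ : orderOf g = 3) :
    (Finset.univ.filter fun p => g p = p).card = 6 ∨
      (Finset.univ.filter fun p => g p = p).card = 0 := by
  by_cases hf : ∃ p, g p = p
  · left
    have h3 : g ^ 3 = 1 := by rw [← h₃]; exact pow_orderOf_eq_one g
    have h1 : g ≠ 1 := by
      rintro rfl
      rw [orderOf_one] at h₃
      norm_num at h₃
    exact (class3A hg h3 h1 hf).1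
  · right
    push Not at hf
    exact (card_fixed_zero_iff g).mpr hf

theorem order3_conj {g g' : Equiv.Perm GolayPt} (hg : g ∈ M24) (hg' : g' ∈ M24)
    (h₃ : orderOf g = 3) (h₃' : orderOf g' = 3)
    (hc : (Finset.univ.filter fun p => g p = p).card =
      (Finset.univ.filter fun p => g' p = p).card) :
    ∃ k ∈ M24, k * g * k⁻¹ = g' := by
  have h3 : g ^ 3 = 1 := by rw [← h₃]; exact pow_orderOf_eq_one g
  have h3' : g' ^ 3 = 1 := by rw [← h₃']; exact pow_orderOf_eq_one g'
  have h1 : g ≠ 1 := by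
    rintro rfl
    rw [orderOf_one] at h₃
    norm_num at h₃
  have h1' : g' ≠ 1 := by
    rintro rfl
    rw [orderOf_one] at h₃'
    norm_num at h₃'
  have key : ∀ R : Equiv.Perm GolayPt, (∃ w ∈ M24, w * g * w⁻¹ = R) →
      (∃ w ∈ M24, w * g' * w⁻¹ = R) → ∃ k ∈ M24, k * g * k⁻¹ = g' := by
    rintro R ⟨w, hw, e⟩ ⟨w', hw', e'⟩
    refine ⟨w'⁻¹ * w, M24.mul_mem (M24.inv_mem hw') hw, ?_⟩
    have : g' = w'⁻¹ * R * w' := by rw [← e']; group
    rw [this, ← e]
    group
  by_cases hf : ∃ p, g p = p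
  · obtain ⟨h6, hw⟩ := class3A hg h3 h1 hf
    have hf' : ∃ p, g' p = p := by
      by_contra hno
      push Not at hno
      rw [(card_fixed_zero_iff g').mpr hno, h6] at hc
      norm_num at hc
    exact key _ hw (class3A hg' h3' h1' hf').2
  · push Not at hf
    have hf' : ∀ p, g' p ≠ p := by
      rw [← card_fixed_zero_iff, ← hc, card_fixed_zero_iff]
      exact hf
    exact key _ (class3B hg h3 hf) (class3B hg' h3' hf')

theorem orderOf_fperm_three {R : List ℕ} (hR : okK R = true) (hc : cube1 R = true)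
    (hne : R ≠ List.range 24) : orderOf (fperm R) = 3 := by
  have : Fact (Nat.Prime 3) := ⟨by norm_num⟩
  have hv := okK_valid hR
  apply orderOf_eq_prime
  · apply tblOf_injective
    unfold cube1 at hc
    rw [beq_iff_eq] at hc
    rw [pow_succ, pow_two, mul_assoc, tblOf_mul, tblOf_mul, tblOf_fperm hv, hc, tblOf_one]
  · intro h
    apply hne
    rw [← tblOf_fperm hv, h, tblOf_one]

set_option maxRecDepth 100000 in
theorem rep3_facts : cube1 rep3A = true ∧ rep3A ≠ List.range 24 ∧ fixCount rep3A = 6 ∧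
    cube1 rep3B = true ∧ rep3B ≠ List.range 24 ∧ fixCount rep3B = 0 := by
  decide +kernel

theorem order3_main :
    (∀ X : Subgroup ↥M24, Nat.card X = 3 → (fixSet X).ncard = 6 ∨ (fixSet X).ncard = 0) ∧
    (∃ X : Subgroup ↥M24, Nat.card X = 3 ∧ (fixSet X).ncard = 6) ∧
    (∃ X : Subgroup ↥M24, Nat.card X = 3 ∧ (fixSet X).ncard = 0) ∧
    ∀ X Y : Subgroup ↥M24, Nat.card X = 3 → Nat.card Y = 3 →
      (fixSet X).ncard = (fixSet Y).ncard → ∃ k : ↥M24, MulAut.conj k • X = Y := by
  obtain ⟨c1, c2, c3, c4, c5, c6⟩ := rep3_facts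
  have hRA := class_oks.2.2.2.2.2.2.2.2.1
  have hRB := class_oks.2.2.2.2.2.2.2.2.2.1
  refine ⟨?_, ?_, ?_, ?_⟩
  · intro X hX
    obtain ⟨x, rfl, hx⟩ := exists_gen_of_card_three X hX
    rw [fixSet_zpowers, ncard_fixed_eq]
    exact card_fixed_order3 x.2 hx
  · refine ⟨Subgroup.zpowers ⟨fperm rep3A, fperm_mem hRA⟩, ?_, ?_⟩
    · rw [Nat.card_zpowers, ← Subgroup.orderOf_coe]
      exact orderOf_fperm_three hRA c1 c2
    · rw [fixSet_zpowers, ncard_fixed_eq]
      show (Finset.univ.filter fun p => fperm rep3A p = p).card = 6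
      rw [card_fixed_eq, tblOf_fperm (okK_valid hRA), c3]
  · refine ⟨Subgroup.zpowers ⟨fperm rep3B, fperm_mem hRB⟩, ?_, ?_⟩
    · rw [Nat.card_zpowers, ← Subgroup.orderOf_coe]
      exact orderOf_fperm_three hRB c4 c5
    · rw [fixSet_zpowers, ncard_fixed_eq]
      show (Finset.univ.filter fun p => fperm rep3B p = p).card = 0
      rw [card_fixed_eq, tblOf_fperm (okK_valid hRB), c6]
  · intro X Y hX hY hc
    obtain ⟨x, rfl, hx⟩ := exists_gen_of_card_three X hX
    obtain ⟨y, rfl, hy⟩ := exists_gen_of_card_three Y hY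
    rw [fixSet_zpowers, fixSet_zpowers, ncard_fixed_eq, ncard_fixed_eq] at hc
    obtain ⟨k, hk, e⟩ := order3_conj x.2 y.2 hx hy hc
    refine ⟨⟨k, hk⟩, ?_⟩
    rw [conj_smul_zpowers]
    congr 1
    exact Subtype.ext e

end Cfsg.Agent.Lib.helper4
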