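import Mathlib
import Cfsg.Prelude.Def_Sporadic_a
import Cfsg.Prelude.Def_SporadicCombinatorics
import Cfsg.Agent.Lib.helper4.SextetKer
import Cfsg.Agent.Lib.helper4.ObjLists

set_option autoImplicit false

namespace Cfsg.Agent.Lib.helper4

open Cfsg
open scoped Pointwise
open Cfsg.Agent.Lib.Helper12.Golay

/-! ### The centraliser of a fixed-point-free involution: data -/

/-- A fixed-point-free involution fixing every tetrad of the standard sextet. -/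
def tau1 : List ℕ := [12,9,21,7,13,15,10,3,11,1,6,8,0,4,16,5,14,18,17,20,19,2,23,22]
/-- A table conjugating `rep2B` to `tau1`. -/
def conjW2B : List ℕ := [0,1,2,8,18,17,22,23,15,10,11,5,12,20,7,19,3,9,6,16,14,4,21,13]
/-- For each sextet fixed by `tau1` other than the standard one, a tetrad that is moved. -/
def witL : List ℕ := [16391,65543,559232,70148,120,16901,9256,526376,16425,9732,1046,49161,20640,16465,29696,17425,28736,1051140,16545,53256,8262,525060,24641,21520,49281,596,9376,1080,86,32782,546816,69638,20486,25601,556,9222,8296,591873,166,33292,240,676,1556,46,32902,8772,533760,8416,1200,524624]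
/-- Elements of the centraliser of `tau1` mapping point 0 to each point. -/
def trans24 : List (List ℕ) := [[0,1,2,3,4,5,6,7,8,9,10,11,12,13,14,15,16,17,18,19,20,21,22,23],[1,0,14,13,15,10,7,4,22,12,3,23,9,5,2,6,21,11,8,17,18,16,20,19],[2,0,14,4,7,6,15,13,22,12,5,23,21,3,1,10,9,8,11,17,18,16,19,20],[3,0,14,11,21,20,9,8,22,12,1,23,7,2,5,19,15,13,4,17,18,16,10,6],[4,0,14,8,23,19,18,11,1,12,17,9,13,22,10,20,6,5,15,2,21,16,7,3],[5,0,14,11,2,20,1,8,23,12,9,22,15,21,3,19,7,6,10,18,17,16,4,13],[6,0,14,9,7,2,15,1,19,12,5,20,10,3,13,21,4,18,17,11,8,16,22,23],[7,0,14,8,21,19,9,11,17,12,1,18,3,2,15,20,5,6,10,22,23,16,4,13],[8,0,14,6,18,4,23,10,15,12,22,5,11,17,20,13,19,1,9,7,3,16,21,2],[9,0,14,4,15,6,7,13,17,12,3,18,1,5,21,10,2,19,20,22,23,16,8,11],[10,0,14,21,15,1,7,2,20,12,3,19,6,5,4,9,13,18,17,8,11,16,22,23],[11,0,14,5,2,7,1,15,13,12,9,4,8,21,19,3,20,18,17,6,10,16,22,23],[12,1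,2,20,22,8,18,19,3,9,17,7,0,23,16,11,14,13,4,15,5,21,6,10],[13,0,14,21,7,1,15,2,8,12,5,11,4,3,6,9,10,22,23,20,19,16,18,17],[14,1,2,8,22,20,18,11,7,9,17,3,16,23,0,19,12,4,13,5,15,21,10,6],[15,0,14,8,2,19,1,11,18,12,9,17,5,21,7,20,3,13,4,23,22,16,10,6],[16,1,2,5,4,3,6,15,11,9,10,8,14,13,12,7,0,18,17,20,19,21,23,22],[17,0,14,1,20,21,8,9,5,12,11,15,18,19,22,2,23,13,4,3,7,16,10,6],[18,0,14,5,4,7,10,15,21,12,6,2,17,13,23,3,22,11,8,9,1,16,20,19],[19,0,14,4,18,6,23,13,5,12,22,15,20,17,11,10,8,9,1,3,7,16,2,21],[20,0,14,5,1,7,2,15,6,12,21,10,19,9,8,3,11,22,23,13,4,16,18,17],[21,0,14,22,11,18,19,23,6,12,20,10,2,8,9,17,1,5,15,13,4,16,7,3],[22,0,14,2,20,9,8,21,7,12,11,3,23,19,17,1,18,10,6,15,5,16,13,4],[23,0,14,15,10,3,4,5,21,12,13,2,22,6,18,7,17,8,11,9,1,16,19,20]]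
/-- The fixed-point-free involutions fixing every tetrad of the standard sextet. -/
def Om18 : List (List ℕ) := [[12,9,21,7,13,15,10,3,11,1,6,8,0,4,16,5,14,18,17,20,19,2,23,22],[12,2,1,5,6,3,4,15,19,21,13,20,0,10,16,7,14,18,17,8,11,9,23,22],[12,21,9,7,6,15,4,3,20,2,13,19,0,10,16,5,14,22,23,11,8,1,17,18],[12,9,21,15,10,7,13,5,19,1,4,20,0,6,16,3,14,22,23,8,11,2,17,18],[12,2,1,15,13,7,10,5,20,21,6,19,0,4,16,3,14,23,22,11,8,9,18,17],[12,21,9,5,10,3,13,15,11,2,4,8,0,6,16,7,14,23,22,20,19,1,18,17],[14,2,1,15,10,7,13,5,11,21,4,8,16,6,0,3,12,18,17,20,19,9,23,22],[14,21,9,5,13,3,10,15,20,2,6,19,16,4,0,7,12,18,17,11,8,1,23,22],[14,2,1,7,13,15,10,3,19,21,6,20,16,4,0,5,12,22,23,8,11,9,17,18],[14,9,21,5,6,3,4,15,11,1,13,8,16,10,0,7,12,22,23,20,19,2,17,18],[14,21,9,15,6,7,4,5,19,2,13,20,16,10,0,3,12,23,22,8,11,1,18,17],[14,9,21,7,10,15,13,3,20,1,4,19,16,6,0,5,12,23,22,11,8,2,18,17],[16,21,9,7,10,15,13,3,19,2,4,20,14,6,12,5,0,18,17,8,11,1,23,22],[16,9,21,15,6,7,4,5,20,1,13,19,14,10,12,3,0,18,17,11,8,2,23,22],[16,21,9,15,13,7,10,5,11,2,6,8,14,4,12,3,0,22,23,20,19,1,17,18],[16,2,1,5,10,3,13,15,20,21,4,19,14,6,12,7,0,22,23,11,8,9,17,18],[16,9,21,5,13,3,10,15,19,1,6,20,14,4,12,7,0,23,22,8,11,2,18,17],[16,2,1,7,6,15,4,3,11,21,13,8,14,10,12,5,0,23,22,20,19,9,18,17]]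
/-- Elements conjugating `tau1` to the members of `Om18`. -/
def conj18 : List (List ℕ) := [[0,1,2,3,4,5,6,7,8,9,10,11,12,13,14,15,16,17,18,19,20,21,22,23],[0,1,9,7,11,3,8,15,10,2,19,13,12,20,16,5,14,23,22,6,4,21,17,18],[0,1,2,3,4,15,13,7,23,21,10,18,12,6,16,5,14,19,11,17,22,9,20,8],[0,1,2,23,8,17,20,18,4,9,11,10,12,19,14,22,16,5,7,13,6,21,15,3],[0,1,9,22,13,17,6,18,19,2,10,11,12,4,16,23,14,5,7,8,20,21,3,15],[0,1,2,19,22,8,23,20,13,21,17,6,12,18,16,11,14,3,5,10,4,9,7,15],[0,1,9,22,19,18,11,23,15,2,8,3,14,20,12,17,16,10,4,5,7,21,6,13],[0,1,2,11,10,8,4,19,7,21,13,15,14,6,12,20,16,23,22,5,3,9,17,18],[0,1,9,10,7,13,15,6,11,2,5,20,14,3,12,4,16,22,17,8,19,21,23,18],[0,1,2,5,17,7,18,3,6,9,23,4,14,22,16,15,12,11,8,13,10,21,19,20],[0,1,2,23,3,18,7,17,4,21,5,6,14,15,12,22,16,11,20,13,10,9,19,8],[0,1,2,8,4,19,13,20,23,9,6,17,14,10,16,11,12,15,5,18,22,21,7,3],[0,1,2,11,7,19,15,20,18,21,5,17,16,3,14,8,12,13,6,23,22,9,4,10],[0,1,2,18,10,23,4,17,7,9,6,5,16,13,12,22,14,8,20,15,3,21,19,11],[0,1,2,6,17,4,23,10,5,21,18,7,16,22,14,13,12,8,11,15,3,9,19,20],[0,1,9,4,8,13,19,10,23,2,11,18,16,20,14,6,12,15,7,17,22,21,5,3],[0,1,2,20,5,19,15,11,6,9,7,10,16,3,12,8,14,22,18,4,13,21,23,17],[0,1,9,3,23,15,22,7,8,2,18,11,16,17,14,5,12,13,10,20,19,21,6,4]]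

set_option maxRecDepth 1000000 in
theorem fpf_checks : okK tau1 = true ∧ okK conjW2B = true ∧
    compTbl conjW2B rep2B = compTbl tau1 conjW2B ∧ sq1 tau1 = true ∧ fixCount tau1 = 0 ∧
    tau1 ∈ B192 ∧
    (sextL.all fun s => !(Nat.beq (actS tau1 s) s) || Nat.beq s s₁ || witL.any fun m =>
      Nat.beq (popcF m) 4 && Nat.ble (Nat.succ m) 16777216 && Nat.beq (syn m) s &&
        !(Nat.beq (actK tau1 m) m)) = true ∧
    (trans24.all fun c => okK c && (compTbl c tau1 == compTbl tau1 c)) = true ∧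
    ((List.range 24).all fun q => Nat.beq ((trans24.getD q []).getD 0 0) q) = true ∧
    trans24.length = 24 := by
  decide +kernel

set_option maxRecDepth 1000000 in
theorem om18_checks : B192.filter (fun C => sq1 C && Nat.beq (fixCount C) 0) = Om18 ∧
    Om18.length = 18 ∧ conj18.length = 18 ∧
    ((List.range 18).all fun i => okK (conj18.getD i []) &&
      Nat.beq (actS (conj18.getD i []) s₁) s₁ &&
      (compTbl (conj18.getD i []) tau1 == compTbl (Om18.getD i []) (conj18.getD i []))) = true := by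
  decide +kernel

end Cfsg.Agent.Lib.helper4
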