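import Mathlib
import Cfsg.Prelude.Def_Sporadic_a
import Cfsg.Prelude.Def_SporadicCombinatorics
import Cfsg.Agent.Lib.helper4.ObjLists
import Cfsg.Agent.Lib.helper4.CodedOrbitsB
import Cfsg.Agent.Lib.helper4.ElemEnum

set_option autoImplicit false

namespace Cfsg.Agent.Lib.helper4

open Cfsg
open scoped Pointwise
open Cfsg.Agent.Lib.Helper12.Golay

/-! ### Specifications of the complete lists -/

theorem sextL_isSext : ∀ s ∈ sextL, IsSext s := by
  intro s hs
  unfold sextL at hs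
  rw [List.mem_map] at hs
  obtain ⟨t, ht, rfl⟩ := hs
  have h := tetL_checks.1
  rw [List.all_eq_true] at h
  have h1 := h t ht
  rw [Bool.and_eq_true] at h1
  exact isSext_of_checks ⟨h1.1, h1.2, Nat.beq_refl _⟩

theorem sextL_nodup : sextL.Nodup := nodup_of_nodupBy id tetL_checks.2.1

theorem sextL_complete (S : Finset (Finset GolayPt)) :
    S ∈ sextets ↔ ∃ s ∈ sextL, sextetOfSyn s = S := by
  constructor
  · exact sextets_complete sextL_isSext sextL_nodup tetL_checks.2.2 S
  · rintro ⟨s, hs, rfl⟩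
    exact sextetOfSyn_mem (sextL_isSext s hs)

theorem land_encF {u : ℕ} (hu : u < 4096) : Nat.land (encF u) 4095 = u := by
  rw [encF_eq hu]
  have := enc_mod hu
  have e : Nat.land (enc u) 4095 = enc u % 4096 := Nat.and_two_pow_sub_one_eq_mod (enc u) 12
  rw [e, this]

theorem codeL_nodup : codeL.Nodup := by
  unfold codeL
  refine (List.nodup_map_iff_inj_on List.nodup_range).mpr ?_
  intro a ha b hb hab
  rw [List.mem_range] at ha hb
  rw [← land_encF ha, ← land_encF hb, hab]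

theorem mem_codeL {m : ℕ} : m ∈ codeL ↔ isCode m = true := by
  unfold codeL
  rw [List.mem_map, isCode_iff]
  constructor
  · rintro ⟨u, hu, rfl⟩
    rw [List.mem_range] at hu
    exact ⟨u, hu, (encF_eq hu).symm⟩
  · rintro ⟨u, hu, rfl⟩
    exact ⟨u, List.mem_range.mpr hu, encF_eq hu⟩

theorem codeL_lt {m : ℕ} (hm : m ∈ codeL) : m < 2 ^ 24 := by
  obtain ⟨u, _, rfl⟩ := isCode_iff.mp (mem_codeL.mp hm)
  exact enc_lt u

theorem octL_nodup : octL.Nodup := codeL_nodup.filter _
theorem dodL_nodup : dodL.Nodup := codeL_nodup.filter _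

theorem octL_lt {m : ℕ} (hm : m ∈ octL) : m < 2 ^ 24 := codeL_lt (List.mem_filter.mp hm).1
theorem dodL_lt {m : ℕ} (hm : m ∈ dodL) : m < 2 ^ 24 := codeL_lt (List.mem_filter.mp hm).1

theorem octL_complete (o : Finset GolayPt) : o ∈ octads ↔ ∃ m ∈ octL, fs m = o := by
  constructor
  · intro ho
    have h := (mem_octads_iff o).mp ho
    refine ⟨mask o, ?_, fs_mask o⟩
    unfold octL
    rw [List.mem_filter, mem_codeL, natBeq_iff, popcF_eq (mask_lt o)]
    exact h
  · rintro ⟨m, hm, rfl⟩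
    have hlt := octL_lt hm
    unfold octL at hm
    rw [List.mem_filter, mem_codeL, natBeq_iff, popcF_eq hlt] at hm
    exact (fs_mem_octads_iff hlt).mpr hm

theorem dodL_complete (o : Finset GolayPt) : o ∈ dodecads ↔ ∃ m ∈ dodL, fs m = o := by
  constructor
  · intro ho
    have h := (mem_dodecads_iff o).mp ho
    refine ⟨mask o, ?_, fs_mask o⟩
    unfold dodL
    rw [List.mem_filter, mem_codeL, natBeq_iff, popcF_eq (mask_lt o)]
    exact h
  · rintro ⟨m, hm, rfl⟩
    have hlt := dodL_lt hm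
    unfold dodL at hm
    rw [List.mem_filter, mem_codeL, natBeq_iff, popcF_eq hlt] at hm
    exact (fs_mem_dodecads_iff hlt).mpr hm

theorem LTall_nodup : LTall.Nodup :=
  List.Nodup.of_map _ (nodupK3_spec lists_ok.1).2

theorem LTall_complete (X : Finset (Finset GolayPt)) : X ∈ trios ↔ ∃ t ∈ LTall, D3 t = X := by
  constructor
  · exact trios_complete X
  · rintro ⟨t, ht, rfl⟩
    exact (LTall_props t ht).2

/-! ### Counting the objects fixed by an element -/

section

variable {C : Type} {X : Type*} [MulAction (Equiv.Perm GolayPt) X]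

theorem coded_fixed_count (D : C → X) (V : C → Prop)
    (hinj : ∀ c c', V c → V c' → D c = D c' → c = c')
    (F : Set X) (L : List C) (hnd : L.Nodup) (hLV : ∀ c ∈ L, V c)
    (hF : ∀ x, x ∈ F ↔ ∃ c ∈ L, D c = x)
    (σ : Equiv.Perm GolayPt) (act : C → C) (beq : C → C → Bool)
    (hbeq : ∀ a b, beq a b = true ↔ a = b)
    (hact : ∀ c, V c → V (act c) ∧ σ • D c = D (act c)) :
    {x | x ∈ F ∧ σ • x = x}.ncard = (L.filter fun c => beq (act c) c).length := by
  classical
  have hset : {x | x ∈ F ∧ σ • x = x} =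
      ↑(((L.filter fun c => beq (act c) c).map D).toFinset) := by
    ext x
    rw [Finset.mem_coe, List.mem_toFinset, List.mem_map]
    constructor
    · rintro ⟨hx, hfix⟩
      obtain ⟨c, hc, rfl⟩ := (hF x).mp hx
      refine ⟨c, ?_, rfl⟩
      rw [List.mem_filter, hbeq]
      obtain ⟨hv, hs⟩ := hact c (hLV c hc)
      refine ⟨hc, hinj _ _ hv (hLV c hc) ?_⟩
      rw [← hs, hfix]
    · rintro ⟨c, hc, rfl⟩
      rw [List.mem_filter, hbeq] at hc
      refine ⟨(hF _).mpr ⟨c, hc.1, rfl⟩, ?_⟩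
      rw [(hact c (hLV c hc.1)).2, hc.2]
  rw [hset, Set.ncard_coe_finset, List.toFinset_card_of_nodup, List.length_map]
  refine (List.nodup_map_iff_inj_on (hnd.filter _)).mpr ?_
  intro a ha b hb hab
  exact hinj a b (hLV a (List.mem_filter.mp ha).1) (hLV b (List.mem_filter.mp hb).1) hab

theorem fixed_ncard_inv (F : Set X) (σ : Equiv.Perm GolayPt) :
    {x | x ∈ F ∧ σ⁻¹ • x = x}.ncard = {x | x ∈ F ∧ σ • x = x}.ncard := by
  congr 1
  ext x
  simp only [Set.mem_setOf_eq, inv_smul_eq_iff]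
  exact and_congr_right fun _ => eq_comm

theorem fixed_ncard_conj (F : Set X) (w g : Equiv.Perm GolayPt) (hF : ∀ x ∈ F, w • x ∈ F)
    (hF' : ∀ x ∈ F, w⁻¹ • x ∈ F) :
    {x | x ∈ F ∧ (w * g * w⁻¹) • x = x}.ncard = {x | x ∈ F ∧ g • x = x}.ncard := by
  have : {x | x ∈ F ∧ (w * g * w⁻¹) • x = x} = (fun x => w • x) '' {x | x ∈ F ∧ g • x = x} := by
    ext x
    constructor
    · rintro ⟨hx, hfix⟩
      refine ⟨w⁻¹ • x, ⟨hF' x hx, ?_⟩, smul_inv_smul _ _⟩
      rw [mul_smul, mul_smul] at hfix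
      exact eq_inv_smul_iff.mpr hfix
    · rintro ⟨y, ⟨hy, hfix⟩, rfl⟩
      refine ⟨hF y hy, ?_⟩
      show (w * g * w⁻¹) • w • y = w • y
      rw [mul_smul, mul_smul, inv_smul_smul, hfix]
  rw [this, Set.ncard_image_of_injective _ (MulAction.injective w)]

end

end Cfsg.Agent.Lib.helper4
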