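import Mathlib
import Cfsg.Prelude.Def_Sporadic_a
import Cfsg.Prelude.Def_SporadicCombinatorics
import Cfsg.Agent.Lib.helper4.SextetKerB

set_option autoImplicit false

namespace Cfsg.Agent.Lib.helper4

open Cfsg MulAction
open scoped Pointwise
open Cfsg.Agent.Lib.Helper12.Golay

/-! ### Structure of the stabiliser of a sextet -/

theorem conj_mem_Bset {k : Equiv.Perm GolayPt} (hk : k ∈ M24) {S : Finset (Finset GolayPt)}
    {g : Equiv.Perm GolayPt} (hg : g ∈ Bset (k • S)) : k⁻¹ * g * k ∈ Bset S := by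
  refine ⟨M24.mul_mem (M24.mul_mem (M24.inv_mem hk) hg.1) hk, fun t ht => ?_⟩
  rw [mul_smul, mul_smul, hg.2 _ (Finset.smul_mem_smul_finset ht), inv_smul_smul]

theorem conj_mem_Bset' {k : Equiv.Perm GolayPt} (hk : k ∈ M24) {S : Finset (Finset GolayPt)}
    {g : Equiv.Perm GolayPt} (hg : g ∈ Bset S) : k * g * k⁻¹ ∈ Bset (k • S) := by
  refine ⟨M24.mul_mem (M24.mul_mem hk hg.1) (M24.inv_mem hk), fun t ht => ?_⟩
  obtain ⟨t0, ht0, rfl⟩ := Finset.mem_smul_finset.mp ht
  show (k * g * k⁻¹) • k • t0 = k • t0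
  rw [mul_smul, mul_smul, inv_smul_smul, hg.2 t0 ht0]

theorem exists_smul_S₁ (S : Finset (Finset GolayPt)) (hS : S ∈ sextets) :
    ∃ k ∈ M24, k • S₁ = S := by
  obtain ⟨a, ha⟩ := sextets_transitive S hS
  obtain ⟨b, hb⟩ := sextets_transitive S₁ S₁_mem
  refine ⟨(a : Equiv.Perm GolayPt) * (b : Equiv.Perm GolayPt)⁻¹,
    M24.mul_mem a.2 (M24.inv_mem b.2), ?_⟩
  have ha' : (a : Equiv.Perm GolayPt) • S₀ = S := ha
  have hb' : (b : Equiv.Perm GolayPt) • S₀ = S₁ := hb
  rw [mul_smul, ← hb', inv_smul_smul, ha']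

theorem card_Bset (S : Finset (Finset GolayPt)) (hS : S ∈ sextets) : Nat.card ↥(Bset S) = 192 := by
  obtain ⟨k, hk, rfl⟩ := exists_smul_S₁ S hS
  rw [← card_Bset_S₁]
  apply Nat.card_congr
  exact
    { toFun := fun g => ⟨k⁻¹ * g.1 * k, conj_mem_Bset hk g.2⟩
      invFun := fun g => ⟨k * g.1 * k⁻¹, conj_mem_Bset' hk g.2⟩
      left_inv := fun g => Subtype.ext (by show k * (k⁻¹ * g.1 * k) * k⁻¹ = g.1; group)
      right_inv := fun g => Subtype.ext (by show k⁻¹ * (k * g.1 * k⁻¹) * k = g.1; group) }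

theorem smul_eq_of_Bset {S : Finset (Finset GolayPt)} {g : Equiv.Perm GolayPt} (hg : g ∈ Bset S) :
    g • S = S := by
  ext t
  constructor
  · intro ht
    obtain ⟨t0, ht0, rfl⟩ := Finset.mem_smul_finset.mp ht
    show g • t0 ∈ S
    rw [hg.2 t0 ht0]
    exact ht0
  · intro ht
    rw [← hg.2 t ht]
    exact Finset.smul_mem_smul_finset ht

/-- The subtype of the statement is equivalent to the set of elements fixing every tetrad. -/
noncomputable def kerEquiv (S : Finset (Finset GolayPt)) :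
    {g : ↥(stabilizer M24 S) // ∀ t ∈ S, ((g : M24) : Equiv.Perm GolayPt) • t = t} ≃ ↥(Bset S) where
  toFun g := ⟨g.1.1.1, g.1.1.2, g.2⟩
  invFun g := ⟨⟨⟨g.1, g.2.1⟩, smul_eq_of_Bset g.2⟩, g.2.2⟩
  left_inv _ := rfl
  right_inv _ := rfl

theorem card_stab_sextet (S : Finset (Finset GolayPt)) (hS : S ∈ sextets) :
    Nat.card ↥(stabilizer M24 S) = 138240 := by
  have horb : orbit M24 S = sextets := by
    ext X
    constructor
    · rintro ⟨g, rfl⟩
      exact smul_sextets g.2 hS
    · intro hX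
      obtain ⟨a, ha⟩ := sextets_transitive X hX
      obtain ⟨b, hb⟩ := sextets_transitive S hS
      exact ⟨a * b⁻¹, by show (a * b⁻¹) • S = X; rw [mul_smul, ← hb, inv_smul_smul, ha]⟩
  have h2 := Subgroup.card_mul_index (stabilizer M24 S)
  rw [← Cfsg.Agent.Lib.Helper12.ncard_orbit_top, horb, Cfsg.Agent.Lib.helper3.sextets_ncard,
    Cfsg.Agent.Lib.helper3.card_M24] at h2
  have h3 : 138240 * 1771 = 244823040 := by norm_num
  exact Nat.eq_of_mul_eq_mul_right (by norm_num : 0 < 1771) (h2.trans h3.symm)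

/-- The action of the stabiliser of a family on its members. -/
noncomputable def tetHom (S : Finset (Finset GolayPt)) :
    ↥(stabilizer M24 S) →* Equiv.Perm ↥S :=
  MonoidHom.mk' (fun g => Equiv.Perm.subtypePerm (p := fun t => t ∈ S)
    (MulAction.toPerm (g.1.1 : Equiv.Perm GolayPt) : Equiv.Perm (Finset GolayPt)) (by
      intro t
      have hg : (g.1.1 : Equiv.Perm GolayPt) • S = S := g.2
      exact (show ∀ σ : Equiv.Perm GolayPt, σ • S = S → (σ • t ∈ S ↔ t ∈ S) from
        fun σ hσ => by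
          have := Finset.smul_mem_smul_finset_iff (s := S) (b := t) σ
          rwa [hσ] at this) _ hg)) (by
    intro a b
    ext x : 2
    show ((a * b).1.1 : Equiv.Perm GolayPt) • x.1 = (a.1.1 : Equiv.Perm GolayPt) • (b.1.1 : Equiv.Perm GolayPt) • x.1
    rw [← mul_smul]
    rfl)

theorem tetHom_apply (S : Finset (Finset GolayPt)) (g : ↥(stabilizer M24 S)) (t : ↥S) :
    ((tetHom S g) t : Finset GolayPt) = (g.1.1 : Equiv.Perm GolayPt) • t.1 := rfl

theorem tetHom_surjective (S : Finset (Finset GolayPt)) (hS : S ∈ sextets) :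
    Function.Surjective (tetHom S) := by
  have hker : Nat.card (tetHom S).ker = 192 := by
    rw [← card_Bset S hS]
    apply Nat.card_congr
    exact
      { toFun := fun g => ⟨g.1.1.1, g.1.1.2, fun t ht => by
          have h1 := tetHom_apply S g.1 ⟨t, ht⟩
          have h2 : tetHom S g.1 = 1 := g.2
          rw [h2] at h1
          exact h1.symm⟩
        invFun := fun g => ⟨⟨⟨g.1, g.2.1⟩, smul_eq_of_Bset g.2⟩, by
          rw [MonoidHom.mem_ker]
          apply Equiv.ext
          intro t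
          apply Subtype.ext
          rw [tetHom_apply]
          exact g.2.2 t.1 t.2⟩
        left_inv := fun g => rfl
        right_inv := fun g => rfl }
  have h1 := Subgroup.card_eq_card_quotient_mul_card_subgroup (tetHom S).ker
  rw [hker, card_stab_sextet S hS,
    Nat.card_congr (QuotientGroup.quotientKerEquivRange (tetHom S)).toEquiv] at h1
  have hrange : Nat.card (tetHom S).range = 720 := by omega
  have hperm : Nat.card (Equiv.Perm ↥S) = 720 := by
    rw [Nat.card_perm, Nat.card_eq_fintype_card, Fintype.card_coe, hS.1]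
    rfl
  rw [← MonoidHom.range_eq_top]
  exact Subgroup.eq_top_of_card_eq _ (by rw [hrange, hperm])

/-- Products of two elements of `Bset S₁` squaring to the identity square to the identity. -/
theorem sq_mul_S₁ {g h : Equiv.Perm GolayPt} (hg : g ∈ Bset S₁) (hh : h ∈ Bset S₁)
    (g2 : g * g = 1) (h2 : h * h = 1) : (g * h) * (g * h) = 1 := by
  obtain ⟨_, _, _, _, hN, _, hcl⟩ := B192_checks
  have hgN : tblOf g ∈ N64 := by
    rw [← hN, List.mem_filter]
    exact ⟨tblOf_mem_B192 hg, sq1_of_pow (by rw [pow_two, g2])⟩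
  have hhN : tblOf h ∈ N64 := by
    rw [← hN, List.mem_filter]
    exact ⟨tblOf_mem_B192 hh, sq1_of_pow (by rw [pow_two, h2])⟩
  rw [List.all_eq_true] at hcl
  have h1 := hcl _ hgN
  rw [List.all_eq_true] at h1
  have h3 := h1 _ hhN
  rw [forceList_eq] at h3
  unfold sq1 at h3
  rw [beq_iff_eq, ← tblOf_mul, ← tblOf_mul, ← tblOf_one] at h3
  exact tblOf_injective h3

theorem sq_mul_Bset {S : Finset (Finset GolayPt)} (hS : S ∈ sextets) {g h : Equiv.Perm GolayPt}
    (hg : g ∈ Bset S) (hh : h ∈ Bset S) (g2 : g * g = 1) (h2 : h * h = 1) :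
    (g * h) * (g * h) = 1 := by
  obtain ⟨k, hk, rfl⟩ := exists_smul_S₁ S hS
  have e := sq_mul_S₁ (conj_mem_Bset hk hg) (conj_mem_Bset hk hh)
    (by calc k⁻¹ * g * k * (k⁻¹ * g * k) = k⁻¹ * (g * g) * k := by group
          _ = 1 := by rw [g2]; group)
    (by calc k⁻¹ * h * k * (k⁻¹ * h * k) = k⁻¹ * (h * h) * k := by group
          _ = 1 := by rw [h2]; group)
  calc g * h * (g * h) = k * ((k⁻¹ * g * k) * (k⁻¹ * h * k) * ((k⁻¹ * g * k) * (k⁻¹ * h * k))) * k⁻¹ := by
        group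
    _ = 1 := by rw [e]; group

end Cfsg.Agent.Lib.helper4
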