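import Mathlib
import Cfsg.Prelude.Def_Sporadic_a
import Cfsg.Prelude.Def_SporadicCombinatorics
import Cfsg.Agent.Lib.helper4.SextetKerC

set_option autoImplicit false

namespace Cfsg.Agent.Lib.helper4

open Cfsg MulAction
open scoped Pointwise
open Cfsg.Agent.Lib.Helper12.Golay

/-- The elements of the stabiliser fixing every tetrad and squaring to the identity. -/
noncomputable def Nsub (S : Finset (Finset GolayPt)) (hS : S ∈ sextets) :
    Subgroup ↥(stabilizer M24 S) where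
  carrier := {g | (g.1.1 : Equiv.Perm GolayPt) ∈ Bset S ∧
    (g.1.1 : Equiv.Perm GolayPt) * (g.1.1 : Equiv.Perm GolayPt) = 1}
  one_mem' := ⟨⟨M24.one_mem, fun t _ => one_smul _ t⟩, one_mul 1⟩
  mul_mem' := by
    rintro a b ⟨ha, ha2⟩ ⟨hb, hb2⟩
    refine ⟨⟨M24.mul_mem ha.1 hb.1, fun t ht => ?_⟩, sq_mul_Bset hS ha hb ha2 hb2⟩
    show ((a.1.1 : Equiv.Perm GolayPt) * (b.1.1 : Equiv.Perm GolayPt)) • t = t
    rw [mul_smul, hb.2 t ht, ha.2 t ht]
  inv_mem' := by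
    rintro a ⟨ha, ha2⟩
    refine ⟨⟨M24.inv_mem ha.1, fun t ht => ?_⟩, ?_⟩
    · show (a.1.1 : Equiv.Perm GolayPt)⁻¹ • t = t
      rw [inv_smul_eq_iff, ha.2 t ht]
    · show (a.1.1 : Equiv.Perm GolayPt)⁻¹ * (a.1.1 : Equiv.Perm GolayPt)⁻¹ = 1
      rw [← mul_inv_rev, ha2, inv_one]

theorem Nsub_normal (S : Finset (Finset GolayPt)) (hS : S ∈ sextets) : (Nsub S hS).Normal := by
  constructor
  rintro g ⟨hg, hg2⟩ n
  have hn : (n.1.1 : Equiv.Perm GolayPt) • S = S := n.2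
  refine ⟨⟨M24.mul_mem (M24.mul_mem n.1.2 hg.1) (M24.inv_mem n.1.2), fun t ht => ?_⟩, ?_⟩
  · show ((n.1.1 : Equiv.Perm GolayPt) * (g.1.1 : Equiv.Perm GolayPt) *
      (n.1.1 : Equiv.Perm GolayPt)⁻¹) • t = t
    have ht' : (n.1.1 : Equiv.Perm GolayPt)⁻¹ • t ∈ S := by
      have : (n.1.1 : Equiv.Perm GolayPt)⁻¹ • t ∈ (n.1.1 : Equiv.Perm GolayPt)⁻¹ • S :=
        Finset.smul_mem_smul_finset ht
      rwa [inv_smul_eq_iff.mpr hn.symm] at this
    rw [mul_smul, mul_smul, hg.2 _ ht', smul_inv_smul]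
  · show ((n.1.1 : Equiv.Perm GolayPt) * (g.1.1 : Equiv.Perm GolayPt) *
      (n.1.1 : Equiv.Perm GolayPt)⁻¹) * ((n.1.1 : Equiv.Perm GolayPt) *
      (g.1.1 : Equiv.Perm GolayPt) * (n.1.1 : Equiv.Perm GolayPt)⁻¹) = 1
    calc _ = (n.1.1 : Equiv.Perm GolayPt) * ((g.1.1 : Equiv.Perm GolayPt) *
        (g.1.1 : Equiv.Perm GolayPt)) * (n.1.1 : Equiv.Perm GolayPt)⁻¹ := by group
      _ = 1 := by rw [hg2]; group

theorem card_Nsub (S : Finset (Finset GolayPt)) (hS : S ∈ sextets) :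
    Nat.card ↥(Nsub S hS) = 64 := by
  obtain ⟨k, hk, hkS⟩ := exists_smul_S₁ S hS
  obtain ⟨_, hnd, _, hB, hN, hlen, _⟩ := B192_checks
  have hN64nd : N64.Nodup := by
    rw [← hN]
    exact (nodupL_spec hnd).filter _
  rw [card_of_tables (fun g : ↥(Nsub S hS) => tblOf (k⁻¹ * (g.1.1.1 : Equiv.Perm GolayPt) * k))
    (fun a b h => by
      have h1 := tblOf_injective h
      have h2 : (a.1.1.1 : Equiv.Perm GolayPt) = b.1.1.1 := by
        calc (a.1.1.1 : Equiv.Perm GolayPt) = k * (k⁻¹ * a.1.1.1 * k) * k⁻¹ := by group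
          _ = k * (k⁻¹ * b.1.1.1 * k) * k⁻¹ := by rw [h1]
          _ = b.1.1.1 := by group
      exact Subtype.ext (Subtype.ext (Subtype.ext h2))) N64 hN64nd ?_ ?_]
  · exact hlen
  · rintro ⟨g, hg, hg2⟩
    have hg' : (g.1.1 : Equiv.Perm GolayPt) ∈ Bset (k • S₁) := by rw [hkS]; exact hg
    show tblOf (k⁻¹ * (g.1.1 : Equiv.Perm GolayPt) * k) ∈ N64
    rw [← hN, List.mem_filter]
    refine ⟨tblOf_mem_B192 (conj_mem_Bset hk hg'), sq1_of_pow ?_⟩
    rw [pow_two]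
    calc k⁻¹ * (g.1.1 : Equiv.Perm GolayPt) * k * (k⁻¹ * (g.1.1 : Equiv.Perm GolayPt) * k) =
        k⁻¹ * ((g.1.1 : Equiv.Perm GolayPt) * (g.1.1 : Equiv.Perm GolayPt)) * k := by group
      _ = 1 := by rw [hg2]; group
  · intro L hL
    rw [← hN, List.mem_filter] at hL
    obtain ⟨hLB, hLsq⟩ := hL
    have hv := okK_valid (hB L hLB).1
    have hmem := fperm_mem_Bset hLB
    have hsq : fperm L * fperm L = 1 := by
      apply tblOf_injective
      unfold sq1 at hLsq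
      rw [beq_iff_eq] at hLsq
      rw [tblOf_mul, tblOf_fperm hv, hLsq, tblOf_one]
    have hmem' : k * fperm L * k⁻¹ ∈ Bset S := by
      rw [← hkS]
      exact conj_mem_Bset' hk hmem
    refine ⟨⟨⟨⟨k * fperm L * k⁻¹, hmem'.1⟩, smul_eq_of_Bset hmem'⟩, hmem', ?_⟩, ?_⟩
    · show k * fperm L * k⁻¹ * (k * fperm L * k⁻¹) = 1
      calc k * fperm L * k⁻¹ * (k * fperm L * k⁻¹) = k * (fperm L * fperm L) * k⁻¹ := by group
        _ = 1 := by rw [hsq]; group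
    · show tblOf (k⁻¹ * (k * fperm L * k⁻¹) * k) = L
      have : k⁻¹ * (k * fperm L * k⁻¹) * k = fperm L := by group
      rw [this, tblOf_fperm hv]

/-- Structure of a sextet stabiliser. -/
theorem sextet_stab_structure (S : Finset (Finset GolayPt)) (hS : S ∈ sextets) :
    (∀ e : Equiv.Perm ↥S, ∃ g ∈ stabilizer M24 S, ∀ t : ↥S,
      (g : Equiv.Perm GolayPt) • (t : Finset GolayPt) = ((e t : ↥S) : Finset GolayPt)) ∧
    Nat.card {g : ↥(stabilizer M24 S) //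
      ∀ t ∈ S, ((g : M24) : Equiv.Perm GolayPt) • t = t} = 192 ∧
    ∃ N : Subgroup ↥(stabilizer M24 S), N.Normal ∧ Nat.card N = 64 ∧ ∀ x ∈ N, x * x = 1 := by
  refine ⟨fun e => ?_, ?_, Nsub S hS, Nsub_normal S hS, card_Nsub S hS, ?_⟩
  · obtain ⟨g, hg⟩ := tetHom_surjective S hS e
    refine ⟨g.1, g.2, fun t => ?_⟩
    rw [← hg, tetHom_apply]
  · rw [Nat.card_congr (kerEquiv S)]
    exact card_Bset S hS
  · rintro x ⟨_, hx2⟩
    exact Subtype.ext (Subtype.ext hx2)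

end Cfsg.Agent.Lib.helper4
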