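import Mathlib
import Cfsg.Prelude.Def_Sporadic_a
import Cfsg.Prelude.Def_SporadicCombinatorics
import Cfsg.Agent.Lib.helper4.FpfCent
import Cfsg.Agent.Lib.helper4.SextetKerD
import Cfsg.Agent.Lib.helper4.ObjListsB
import Cfsg.Agent.Lib.helper4.ElemOrder3

set_option autoImplicit false

namespace Cfsg.Agent.Lib.helper4

open Cfsg MulAction
open scoped Pointwise
open Cfsg.Agent.Lib.Helper12.Golay

/-! ### The centraliser of a fixed-point-free involution -/

/-- Class equation for one element: centraliser order times number of conjugates. -/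
theorem card_centralizer_mul_conj {G : Type*} [Group G] [Finite G] (x : G) :
    Nat.card (Subgroup.centralizer {x}) * (Set.range fun n : G => n * x * n⁻¹).ncard =
      Nat.card G := by
  have horb : orbit (ConjAct G) x = Set.range fun n : G => n * x * n⁻¹ := by
    ext y
    constructor
    · rintro ⟨c, rfl⟩
      exact ⟨ConjAct.ofConjAct c, (ConjAct.smul_def c x).symm⟩
    · rintro ⟨n, rfl⟩
      exact ⟨ConjAct.toConjAct n, ConjAct.smul_def _ x⟩
  have h1 := Cfsg.Agent.Lib.Helper12.ncard_orbit_top (G := ConjAct G) x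
  have h2 := Subgroup.card_mul_index (stabilizer (ConjAct G) x)
  rw [← h1, horb, ← Subgroup.nat_card_centralizer_nat_card_stabilizer] at h2
  rw [h2]
  rfl

/-- The standard fixed-point-free involution. -/
noncomputable def τ₁ : Equiv.Perm GolayPt := fperm tau1

theorem tblOf_τ₁ : tblOf τ₁ = tau1 := tblOf_fperm (okK_valid fpf_checks.1)

theorem τ₁_mem_Bset : τ₁ ∈ Bset S₁ := fperm_mem_Bset fpf_checks.2.2.2.2.2.1

theorem τ₁_sq : τ₁ * τ₁ = 1 := by
  apply tblOf_injective
  have h := fpf_checks.2.2.2.1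
  unfold sq1 at h
  rw [beq_iff_eq] at h
  rw [tblOf_mul, tblOf_τ₁, h, tblOf_one]

theorem τ₁_fpf : ∀ p, τ₁ p ≠ p := by
  rw [← card_fixed_zero_iff, card_fixed_eq, tblOf_τ₁]
  exact fpf_checks.2.2.2.2.1

theorem smul_eq_of_fixes {S : Finset (Finset GolayPt)} {g : Equiv.Perm GolayPt}
    (h : ∀ t ∈ S, g • t = t) : g • S = S := by
  ext t
  constructor
  · intro ht
    obtain ⟨t0, ht0, rfl⟩ := Finset.mem_smul_finset.mp ht
    show g • t0 ∈ S
    rw [h t0 ht0]
    exact ht0
  · intro ht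
    rw [← h t ht]
    exact Finset.smul_mem_smul_finset ht

/-- The standard sextet is the only one all of whose tetrads are fixed by `τ₁`. -/
theorem unique_sextet_τ₁ {S : Finset (Finset GolayPt)} (hS : S ∈ sextets)
    (h : ∀ t ∈ S, τ₁ • t = t) : S = S₁ := by
  obtain ⟨s, hs, rfl⟩ := (sextL_complete S).mp hS
  have hIs := sextL_isSext s hs
  have hok := fpf_checks.1
  have hv := okK_valid hok
  have hfix : τ₁ • sextetOfSyn s = sextetOfSyn s := smul_eq_of_fixes h
  have hfix' : permT tau1 • sextetOfSyn s = sextetOfSyn s := by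
    have : permT tau1 = τ₁⁻¹ := by unfold τ₁ fperm; rw [inv_inv]
    rw [this, inv_smul_eq_iff, hfix]
  obtain ⟨hI2, e⟩ := smul_sextetOfSyn hv (permT_mem_M24' hok) hIs
  rw [hfix'] at e
  have hact : actS tau1 s = s := (sextetOfSyn_injOn hIs hI2 e).symm
  have hw := fpf_checks.2.2.2.2.2.2.1
  rw [List.all_eq_true] at hw
  have h1 := hw s hs
  rw [natBeq_iff.mpr hact] at h1
  simp only [Bool.not_true, Bool.false_or, Bool.or_eq_true, natBeq_iff, List.any_eq_true,
    Bool.and_eq_true, Bool.not_eq_true'] at h1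
  rcases h1 with h1 | ⟨m, _, ⟨⟨⟨hp, hlt⟩, hsyn⟩, hne⟩⟩
  · rw [h1]; rfl
  · exfalso
    have hlt' : m < 2 ^ 24 := Nat.le_of_ble_eq_true hlt
    have hcard : (fs m).card = 4 := by rw [card_fs, ← popcF_eq hlt', hp]
    have hmem := mem_sextetOfSyn hcard
    rw [mask_fs hlt', hsyn] at hmem
    have := (fixes_iff_actK τ₁ hlt').mp (h _ hmem)
    rw [tblOf_τ₁] at this
    rw [this, Nat.beq_refl] at hne
    exact Bool.noConfusion hne

theorem cent_le_stab {c : Equiv.Perm GolayPt} (hc : c ∈ M24) (hcomm : c * τ₁ = τ₁ * c) :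
    c • S₁ = S₁ := by
  apply unique_sextet_τ₁ (smul_sextets hc S₁_mem)
  intro t ht
  obtain ⟨t0, ht0, rfl⟩ := Finset.mem_smul_finset.mp ht
  show τ₁ • c • t0 = c • t0
  rw [← mul_smul, ← hcomm, mul_smul, τ₁_mem_Bset.2 t0 ht0]

/-- Transitivity of the centraliser. -/
theorem cent_transitive (p q : GolayPt) : ∃ c ∈ M24, c * τ₁ = τ₁ * c ∧ c p = q := by
  obtain ⟨_, _, _, _, _, _, _, h8, h9, h10⟩ := fpf_checks
  have key : ∀ r : GolayPt, ∃ c ∈ M24, c * τ₁ = τ₁ * c ∧ c (pt 0) = r := by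
    intro r
    have hr := idx_lt r
    have hmem : trans24.getD (idx r) [] ∈ trans24 := by
      rw [List.getD_eq_getElem _ _ (by rw [h10]; exact hr)]
      exact List.getElem_mem _
    rw [List.all_eq_true] at h8 h9
    have h1 := h8 _ hmem
    rw [Bool.and_eq_true, beq_iff_eq] at h1
    have h2 := natBeq_iff.mp (h9 (idx r) (List.mem_range.mpr hr))
    have hv := okK_valid h1.1
    refine ⟨fperm (trans24.getD (idx r) []), fperm_mem h1.1, ?_, ?_⟩
    · apply tblOf_injective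
      rw [tblOf_mul, tblOf_mul, tblOf_fperm hv, tblOf_τ₁, h1.2]
    · rw [fperm_apply hv]
      unfold tblFun
      rw [idx_pt (by norm_num), h2, pt_idx]
  obtain ⟨a, ha, hac, hap⟩ := key p
  obtain ⟨b, hb, hbc, hbq⟩ := key q
  refine ⟨b * a⁻¹, M24.mul_mem hb (M24.inv_mem ha), ?_, ?_⟩
  · have hinv : a⁻¹ * τ₁ = τ₁ * a⁻¹ := by
      calc a⁻¹ * τ₁ = a⁻¹ * (τ₁ * a) * a⁻¹ := by group
        _ = a⁻¹ * (a * τ₁) * a⁻¹ := by rw [hac]
        _ = τ₁ * a⁻¹ := by group
    rw [mul_assoc, hinv, ← mul_assoc, hbc, mul_assoc]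
  · rw [Equiv.Perm.mul_apply, ← hap]
    simp [hbq]

end Cfsg.Agent.Lib.helper4
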