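import Mathlib
import Cfsg.Prelude.Def_Sporadic_a
import Cfsg.Prelude.Def_SporadicCombinatorics
import Cfsg.Agent.Lib.helper4.FpfCentB

set_option autoImplicit false

namespace Cfsg.Agent.Lib.helper4

open Cfsg MulAction
open scoped Pointwise
open Cfsg.Agent.Lib.Helper12.Golay

theorem conj_stab_mem_Bset {S : Finset (Finset GolayPt)} {n g : Equiv.Perm GolayPt}
    (hn : n ∈ M24) (hnS : n • S = S) (hg : g ∈ Bset S) : n * g * n⁻¹ ∈ Bset S := by
  refine ⟨M24.mul_mem (M24.mul_mem hn hg.1) (M24.inv_mem hn), fun t ht => ?_⟩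
  have ht' : n⁻¹ • t ∈ S := by
    have : n⁻¹ • t ∈ n⁻¹ • S := Finset.smul_mem_smul_finset ht
    rwa [inv_smul_eq_iff.mpr hnS.symm] at this
  rw [mul_smul, mul_smul, hg.2 _ ht', smul_inv_smul]

/-- `τ₁` as an element of the stabiliser of the standard sextet. -/
noncomputable def τK : ↥(stabilizer M24 S₁) :=
  ⟨⟨τ₁, τ₁_mem_Bset.1⟩, smul_eq_of_Bset τ₁_mem_Bset⟩

theorem getD_mem_of_lt {Ls : List (List ℕ)} {i : ℕ} (hi : i < Ls.length) : Ls.getD i [] ∈ Ls := by
  rw [List.getD_eq_getElem _ _ hi]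
  exact List.getElem_mem _

theorem ncard_conj_τK : (Set.range fun n : ↥(stabilizer M24 S₁) => n * τK * n⁻¹).ncard = 18 := by
  obtain ⟨hOm, hlen, hlen2, hconj⟩ := om18_checks
  obtain ⟨_, hnd, _, hB, _⟩ := B192_checks
  have hOmnd : Om18.Nodup := by
    rw [← hOm]
    exact (nodupL_spec hnd).filter _
  rw [← Nat.card_coe_set_eq, card_of_tables
    (fun y : ↥(Set.range fun n : ↥(stabilizer M24 S₁) => n * τK * n⁻¹) =>
      tblOf (y.1.1.1 : Equiv.Perm GolayPt))
    (fun a b h => Subtype.ext (Subtype.ext (Subtype.ext (tblOf_injective h)))) Om18 hOmnd ?_ ?_]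
  · exact hlen
  · rintro ⟨y, n, rfl⟩
    show tblOf ((n.1.1 : Equiv.Perm GolayPt) * τ₁ * (n.1.1 : Equiv.Perm GolayPt)⁻¹) ∈ Om18
    rw [← hOm, List.mem_filter, Bool.and_eq_true, natBeq_iff]
    refine ⟨tblOf_mem_B192 (conj_stab_mem_Bset n.1.2 n.2 τ₁_mem_Bset), sq1_of_pow ?_, ?_⟩
    · apply conj_pow_eq_one
      rw [pow_two, τ₁_sq]
    · rw [fixCount_conj, tblOf_τ₁]
      exact fpf_checks.2.2.2.2.1
  · intro L hL
    have hLB : L ∈ B192 := by
      have h := hL
      rw [← hOm, List.mem_filter] at h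
      exact h.1
    obtain ⟨i, hi, hLi⟩ := List.getElem_of_mem hL
    have hi18 : i < 18 := by rw [hlen] at hi; exact hi
    have hgetL : Om18.getD i [] = L := by rw [List.getD_eq_getElem _ _ hi, hLi]
    rw [List.all_eq_true] at hconj
    have h1 := hconj i (List.mem_range.mpr hi18)
    rw [Bool.and_eq_true, Bool.and_eq_true, natBeq_iff, beq_iff_eq, hgetL] at h1
    obtain ⟨⟨hok, hs⟩, hc⟩ := h1
    set N := conj18.getD i [] with hN
    have hvN := okK_valid hok
    have hvL := okK_valid (hB _ hLB).1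
    have hNS : fperm N • S₁ = S₁ := by
      have e := (smul_sextetOfSyn hvN (permT_mem_M24' hok) isSext_s₁).2
      rw [hs] at e
      have : fperm N = (permT N)⁻¹ := rfl
      rw [this, inv_smul_eq_iff]
      exact e.symm
    have hrel : fperm N * τ₁ = fperm L * fperm N := by
      apply tblOf_injective
      rw [tblOf_mul, tblOf_mul, tblOf_fperm hvN, tblOf_τ₁, tblOf_fperm hvL, hc]
    refine ⟨⟨⟨⟨fperm N * τ₁ * (fperm N)⁻¹, M24.mul_mem (M24.mul_mem (fperm_mem hok)
      τ₁_mem_Bset.1) (M24.inv_mem (fperm_mem hok))⟩, ?_⟩, ⟨⟨⟨fperm N, fperm_mem hok⟩, hNS⟩, rfl⟩⟩, ?_⟩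
    · show (fperm N * τ₁ * (fperm N)⁻¹) • S₁ = S₁
      exact smul_eq_of_Bset (conj_stab_mem_Bset (fperm_mem hok) hNS τ₁_mem_Bset)
    · show tblOf (fperm N * τ₁ * (fperm N)⁻¹) = L
      rw [hrel]
      have : fperm L * fperm N * (fperm N)⁻¹ = fperm L := by group
      rw [this, tblOf_fperm hvL]

theorem card_centralizer_τK : Nat.card (Subgroup.centralizer {τK}) = 7680 := by
  have h := card_centralizer_mul_conj τK
  rw [ncard_conj_τK, card_stab_sextet S₁ S₁_mem] at h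
  omega

/-- The centraliser of the standard fixed-point-free involution has order 7680. -/
theorem card_cent_τ₁ :
    Nat.card {c : Equiv.Perm GolayPt // c ∈ M24 ∧ c * τ₁ = τ₁ * c} = 7680 := by
  rw [← card_centralizer_τK]
  apply Nat.card_congr
  exact
    { toFun := fun c => ⟨⟨⟨c.1, c.2.1⟩, cent_le_stab c.2.1 c.2.2⟩, by
        rw [Subgroup.mem_centralizer_iff]
        intro h hh
        rw [Set.mem_singleton_iff] at hh
        subst hh
        exact Subtype.ext (Subtype.ext c.2.2.symm)⟩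
      invFun := fun c => ⟨c.1.1.1, c.1.1.2, by
        have := (Subgroup.mem_centralizer_iff.mp c.2) τK (Set.mem_singleton _)
        have h2 := congrArg (fun z : ↥(stabilizer M24 S₁) => (z.1.1 : Equiv.Perm GolayPt)) this
        exact h2.symm⟩
      left_inv := fun c => rfl
      right_inv := fun c => rfl }

/-- Centraliser of any fixed-point-free involution. -/
theorem fpf_centralizer (t : Equiv.Perm GolayPt) (ht : t ∈ M24) (h₂ : orderOf t = 2)
    (h₀ : ∀ p, t p ≠ p) :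
    Nat.card {c : Equiv.Perm GolayPt // c ∈ M24 ∧ c * t = t * c} = 7680 ∧
    (∀ p q : GolayPt, ∃ c ∈ M24, c * t = t * c ∧ c p = q) ∧
    ∃ S ∈ sextets, t • S = S ∧ ∀ c ∈ M24, c * t = t * c → c • S = S := by
  have h2 : t ^ 2 = 1 := by rw [← h₂]; exact pow_orderOf_eq_one t
  obtain ⟨w, hw, e⟩ := class2B ht h2 h₀
  obtain ⟨hokT, hokW, hrel, _⟩ := fpf_checks
  have hvW := okK_valid hokW
  have hvR := okK_valid class_oks.2.2.2.2.2.2.2.2.2.2.2
  have e2 : fperm conjW2B * fperm rep2B * (fperm conjW2B)⁻¹ = τ₁ := by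
    have : fperm conjW2B * fperm rep2B = τ₁ * fperm conjW2B := by
      apply tblOf_injective
      rw [tblOf_mul, tblOf_mul, tblOf_fperm hvW, tblOf_fperm hvR, tblOf_τ₁, hrel]
    rw [this]
    group
  set k := fperm conjW2B * w with hk
  have hkM : k ∈ M24 := M24.mul_mem (fperm_mem hokW) hw
  have ek : k * t * k⁻¹ = τ₁ := by
    rw [← e2, ← e, hk]
    group
  have et : t = k⁻¹ * τ₁ * k := by rw [← ek]; group
  have hcomm : ∀ c : Equiv.Perm GolayPt, c * t = t * c ↔ (k * c * k⁻¹) * τ₁ = τ₁ * (k * c * k⁻¹) := by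
    intro c
    rw [et]
    constructor
    · intro h
      calc k * c * k⁻¹ * τ₁ = k * (c * (k⁻¹ * τ₁ * k)) * k⁻¹ := by group
        _ = k * ((k⁻¹ * τ₁ * k) * c) * k⁻¹ := by rw [h]
        _ = τ₁ * (k * c * k⁻¹) := by group
    · intro h
      calc c * (k⁻¹ * τ₁ * k) = k⁻¹ * (k * c * k⁻¹ * τ₁) * k := by group
        _ = k⁻¹ * (τ₁ * (k * c * k⁻¹)) * k := by rw [h]
        _ = k⁻¹ * τ₁ * k * c := by group
  refine ⟨?_, ?_, ?_⟩
  · rw [← card_cent_τ₁]
    apply Nat.card_congr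
    exact
      { toFun := fun c => ⟨k * c.1 * k⁻¹, M24.mul_mem (M24.mul_mem hkM c.2.1) (M24.inv_mem hkM),
          (hcomm c.1).mp c.2.2⟩
        invFun := fun c => ⟨k⁻¹ * c.1 * k, M24.mul_mem (M24.mul_mem (M24.inv_mem hkM) c.2.1) hkM, by
          rw [hcomm]
          have : k * (k⁻¹ * c.1 * k) * k⁻¹ = c.1 := by group
          rw [this]
          exact c.2.2⟩
        left_inv := fun c => Subtype.ext (by show k⁻¹ * (k * c.1 * k⁻¹) * k = c.1; group)
        right_inv := fun c => Subtype.ext (by show k * (k⁻¹ * c.1 * k) * k⁻¹ = c.1; group) }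
  · intro p q
    obtain ⟨c, hc, hcc, hcp⟩ := cent_transitive (k p) (k q)
    refine ⟨k⁻¹ * c * k, M24.mul_mem (M24.mul_mem (M24.inv_mem hkM) hc) hkM, ?_, ?_⟩
    · rw [hcomm]
      have : k * (k⁻¹ * c * k) * k⁻¹ = c := by group
      rw [this]
      exact hcc
    · rw [Equiv.Perm.mul_apply, Equiv.Perm.mul_apply, hcp]
      simp
  · refine ⟨k⁻¹ • S₁, smul_sextets (M24.inv_mem hkM) S₁_mem, ?_, ?_⟩
    · rw [et, mul_smul, mul_smul, smul_inv_smul, smul_eq_of_Bset τ₁_mem_Bset]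
    · intro c hc hcc
      have h1 := cent_le_stab (M24.mul_mem (M24.mul_mem hkM hc) (M24.inv_mem hkM)) ((hcomm c).mp hcc)
      rw [mul_smul, mul_smul] at h1
      exact eq_inv_smul_iff.mpr h1

end Cfsg.Agent.Lib.helper4
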