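import Mathlib
import Cfsg.Agent.Lib.helper7.CEC.Defs
import Cfsg.Agent.Lib.Helper24.STCI1

/-!
# Project CEC (S2092, designer helper7), row L10 (`xF_map`) (helper4), VERBATIM.

Express: it does not wait for L1 / L3 / L9; the file has own-name copies (exact Skel statements) `cecl10_Zl_map` (= L1 `Zl_map`),
`cecl10_Zl_eq` (= L1 `Zl_eq`), `cecl10_Dl_map` (= L3 `Dl_map`), `cecl10_Xl_map` (= L9 `Xl_map`).
-/

set_option autoImplicit false

namespace Cfsg.Agent.Lib.helper7.CEC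

open Cfsg.Agent.Lib.helper15.St2 Cfsg.Agent.Lib.helper7.Ce Cfsg.Agent.Lib.helper3.STC

section L

variable {K : Type*} [Field K] {ι : Type*} {Γ G : Type*} [Group Γ] [Group G] {S : SysC K ι G} {σ : Γ →* G} {h : IsCE σ}

theorem cecl10_ne_of_ab {a b : ι ⊕ ι} (hab : ab a ≠ ab b) : a ≠ b ∧ a ≠ ng b :=
  ⟨fun e => hab (ab_eq_iff.2 (Or.inl e)), fun e => hab (ab_eq_iff.2 (Or.inr e))⟩

theorem cecl10_ab_of_ne {a b : ι ⊕ ι} (h1 : a ≠ b) (h2 : a ≠ ng b) : ab a ≠ ab b := fun e => by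
  rcases ab_eq_iff.1 e with e | e
  · exact h1 e
  · exact h2 e

/-- own-name copy of L1 `Zl_map` -/
theorem cecl10_Zl_map (h : IsCE σ) {a b : ι ⊕ ι} (hab : ab a ≠ ab b) (t u : K) :
    σ (Zl S h a b t u) = S.x a b (t * u) * S.x (ng b) b (sg a * sg b * t * u ^ 2) := by
  obtain ⟨h1, h2⟩ := cecl10_ne_of_ab hab
  unfold Zl
  rw [map_cm, map_lf, map_lf]
  unfold cm
  exact S.ls a b h1 h2 t u

/-- own-name copy of L1 `Zl_eq` -/
theorem cecl10_Zl_eq (h : IsCE σ) {a b : ι ⊕ ι} {t u : K} {p q : Γ} (hp : σ p = S.x a (ng a) t) (hq : σ q = S.x (ng a) b u) :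
    cm p q = Zl S h a b t u := by
  unfold Zl
  exact h.cm_congr (hp.trans (map_lf h _).symm) (hq.trans (map_lf h _).symm)

/-- own-name copy of L3 `Dl_map` -/
theorem cecl10_Dl_map (h : IsCE σ) (L : ShortLift S h) {a b : ι ⊕ ι} (hab : ab a ≠ ab b) (t u : K) :
    σ (Dl L a b t u) = S.x (ng b) b (sg a * sg b * t * u ^ 2) := by
  unfold Dl
  rw [map_mul, map_inv, L.map a b hab, cecl10_Zl_map h hab, inv_mul_cancel_left]

/-- own-name copy of L9 `Xl_map` -/
theorem cecl10_Xl_map (L : ShortLift S h) (h2 : I2 ι) (b : ι ⊕ ι) (s : K) : σ (Xl L h2 b s) = S.x (ng b) b s := by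
  unfold Xl
  rw [cecl10_Dl_map h L (Classical.choose_spec (h2 b))]
  congr 1
  have e1 := sg_mul_self (K := K) (Classical.choose (h2 b))
  have e2 := sg_mul_self (K := K) b
  linear_combination (sg b * sg b * s) * e1 + s * e2

/-- L10 [S]  all the lifts are lifts. -/
theorem xF_map (L : ShortLift S h) (h2 : I2 ι) (a b : ι ⊕ ι) (t : K) : σ (xF L h2 a b t) = S.x a b t := by
  unfold xF
  by_cases hab : a = b
  · subst hab
    rw [if_pos rfl, map_one, S.diag]
  · rw [if_neg hab]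
    by_cases hb : b = ng a
    · subst hb
      rw [if_pos rfl, cecl10_Xl_map, ng_ng]
    · rw [if_neg hb]
      exact L.map a b (cecl10_ab_of_ne hab (fun e => hb (by rw [e, ng_ng]))) t

end L

end Cfsg.Agent.Lib.helper7.CEC
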