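import Mathlib
import Cfsg.Prelude.Def_GeometricClasses
import Cfsg.Agent.Lib.Helper27.ASC.Defs
import Cfsg.Agent.Lib.helper23.ASCO.Defs
import Cfsg.Agent.Lib.Helper19.ASG.Defs
import Cfsg.Agent.Lib.Helper1.ASGCLIF3
import Cfsg.Agent.Lib.Helper25.ASO.Defs
import Cfsg.Agent.Lib.helper23.ASE.Defs
import Cfsg.Agent.Lib.Helper25.ASOADJ
import Cfsg.Agent.Lib.Helper1.ASODEC2

set_option autoImplicit false
set_option linter.unusedVariables false
set_option linter.unusedSectionVars false

/-!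
# Project ASE (S5826), piece PAIRT : `epair_many`

More than two idempotents, paired by the adjoint without fixed point: the sums `range (E i) ⊕ range (E (τ i))` form an orthogonal
decomposition into `t / 2 ≥ 2` non-degenerate isometric blocks stabilised by `H`.
-/

namespace Cfsg.Agent.Lib.helper23.ASE

open Cfsg Cfsg.Geo Cfsg.Agent.Lib.Helper27.ASC Cfsg.Agent.Lib.helper23.ASCO Cfsg.Agent.Lib.Helper19.ASG
  Cfsg.Agent.Lib.Helper25.ASO
open scoped MatrixGroups Matrix Kronecker

variable {n : ℕ} {F : Type*} [Field F] [Fintype F]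

omit [Fintype F] in
/-- conjugation is additive -/
theorem asepairt_conj_add (h : GL (Fin n) F) (A B : Matrix (Fin n) (Fin n) F) :
    asgConj h (A + B) = asgConj h A + asgConj h B := by
  unfold asgConj
  rw [Matrix.mul_add, Matrix.add_mul]

/-- the adjoint commutes with conjugation by isometries -/
theorem asepairt_conj_oadj (Q : QuadraticForm F (Fin n → F)) (hQ : (QuadraticMap.polarBilin Q).Nondegenerate)
    (h : GL (Fin n) F) (hh : h ∈ isometryGroup F (⇑Q)) (X : Matrix (Fin n) (Fin n) F) :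
    oadj (⇑Q) (asgConj h X) = asgConj h (oadj (⇑Q) X) := by
  unfold asgConj
  have e1 := oadj_of_iso Q hQ h hh
  have e2 := oadj_of_iso Q hQ h⁻¹ ((isometryGroup F (⇑Q)).inv_mem hh)
  rw [inv_inv] at e2
  rw [oadj_mul Q hQ, oadj_mul Q hQ, e1, e2, Matrix.mul_assoc]

/-- `odec_of_selfadj` (helper1) for an arbitrary system of self-adjoint orthogonal idempotents permuted transitively by `H` -/
theorem asepairt_odec (Q : QuadraticForm F (Fin n → F))
    (hQ : (QuadraticMap.polarBilin Q).Nondegenerate) {H : Subgroup (GL (Fin n) F)}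
    (hHO : H ≤ isometryGroup F (⇑Q)) {t : ℕ} (E : Fin t → Matrix (Fin n) (Fin n) F)
    (ht : 2 ≤ t) (hidem : ∀ i, E i * E i = E i) (hne0 : ∀ i, E i ≠ 0)
    (horth' : ∀ i j, i ≠ j → E i * E j = 0)
    (htop : (⨆ i, LinearMap.range (Matrix.toLin' (E i))) = ⊤)
    (hperm : ∀ h ∈ H, ∃ σ : Equiv.Perm (Fin t), ∀ i, asgConj h (E i) = E (σ i))
    (htrans : ∀ i j, ∃ h ∈ H, asgConj h (E i) = E j)
    (hsa : ∀ i, oadj (⇑Q) (E i) = E i) :
    ∃ k : ℕ, IsOrthogonalMDecomposition (⇑Q) k (fun i => LinearMap.range (Matrix.toLin' (E i))) ∧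
      H ≤ decompositionStabilizer (fun i => LinearMap.range (Matrix.toLin' (E i))) := by
  classical
  have hself : ∀ i (u v : Fin n → F),
      QuadraticMap.polar (⇑Q) (E i *ᵥ u) v = QuadraticMap.polar (⇑Q) u (E i *ᵥ v) := by
    intro i u v
    rw [oadj_spec Q hQ, hsa]
  have hmap : ∀ h ∈ H, ∀ i j, asgConj h (E i) = E j →
      (LinearMap.range (Matrix.toLin' (E i))).map (Matrix.toLin' (h : Matrix (Fin n) (Fin n) F)) =
        LinearMap.range (Matrix.toLin' (E j)) := by
    intro h hh i j hij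
    rw [asgclif_range_conj, hij]
  let i0 : Fin t := ⟨0, by omega⟩
  have hfr : ∀ i, Module.finrank F (LinearMap.range (Matrix.toLin' (E i))) =
      Module.finrank F (LinearMap.range (Matrix.toLin' (E i0))) := by
    intro i
    obtain ⟨h, hh, hc⟩ := htrans i0 i
    rw [← hmap h hh i0 i hc]
    exact (LinearEquiv.finrank_eq (Submodule.equivMapOfInjective _ (asodec2_toLin_inj h) _)).symm
  have hpos : 0 < Module.finrank F (LinearMap.range (Matrix.toLin' (E i0))) := by
    rw [Module.finrank_pos_iff_exists_ne_zero]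
    have hne : ∃ v : Fin n → F, E i0 *ᵥ v ≠ 0 := by
      by_contra hcon
      push Not at hcon
      apply hne0 i0
      apply Matrix.toLin'.injective
      apply LinearMap.ext
      intro v
      rw [Matrix.toLin'_apply, hcon v, map_zero, LinearMap.zero_apply]
    obtain ⟨v, hv⟩ := hne
    refine ⟨⟨E i0 *ᵥ v, ⟨v, by rw [Matrix.toLin'_apply]⟩⟩, ?_⟩
    intro h0
    exact hv (congrArg Subtype.val h0)
  have hnd : ∀ i, IsNondegenerateOn (QuadraticMap.polar (⇑Q)) (LinearMap.range (Matrix.toLin' (E i))) := by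
    intro i w hw hw0
    have hw' := (asodec2_mem_range (E i) (hidem i) w).mp hw
    have hex : ∃ x, QuadraticMap.polar (⇑Q) x w ≠ 0 := by
      by_contra hcon
      push Not at hcon
      exact hw0 (hQ.2 w (fun x => hcon x))
    obtain ⟨x, hx⟩ := hex
    have hx' : QuadraticMap.polar (⇑Q) (E i *ᵥ x) w ≠ 0 := by
      rw [hself, hw']
      exact hx
    refine ⟨⟨E i *ᵥ x, ⟨x, by rw [Matrix.toLin'_apply]⟩, hx'⟩, ⟨E i *ᵥ x, ⟨x, by rw [Matrix.toLin'_apply]⟩, ?_⟩⟩
    rw [QuadraticMap.polar_comm]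
    exact hx'
  have horth : ∀ i j, i ≠ j → AreOrthogonalFor (QuadraticMap.polar (⇑Q))
      (LinearMap.range (Matrix.toLin' (E i))) (LinearMap.range (Matrix.toLin' (E j))) := by
    rintro i j hij _ ⟨u, rfl⟩ _ ⟨v, rfl⟩
    rw [Matrix.toLin'_apply, Matrix.toLin'_apply, hself, Matrix.mulVec_mulVec, horth' i j hij,
      Matrix.zero_mulVec]
    exact QuadraticMap.polar_zero_right _ _
  have hiso : ∀ i j, AreIsometricFor (⇑Q) (LinearMap.range (Matrix.toLin' (E i)))
      (LinearMap.range (Matrix.toLin' (E j))) := by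
    intro i j
    obtain ⟨h, hh, hc⟩ := htrans i j
    have hm := hmap h hh i j hc
    let e1 := Submodule.equivMapOfInjective (Matrix.toLin' (h : Matrix (Fin n) (Fin n) F))
      (asodec2_toLin_inj h) (LinearMap.range (Matrix.toLin' (E i)))
    let e2 := LinearEquiv.ofEq _ _ hm
    refine ⟨e1.trans e2, fun w => ?_⟩
    have h1 : (((e1.trans e2) w : LinearMap.range (Matrix.toLin' (E j))) : Fin n → F) =
        (h : Matrix (Fin n) (Fin n) F) *ᵥ (w : Fin n → F) := by
      rw [LinearEquiv.trans_apply, LinearEquiv.coe_ofEq_apply, Submodule.coe_equivMapOfInjective_apply,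
        Matrix.toLin'_apply]
    rw [h1]
    exact hHO hh (w : Fin n → F) (w : Fin n → F)
  refine ⟨Module.finrank F (LinearMap.range (Matrix.toLin' (E i0))),
    ⟨⟨⟨ht, hpos, hfr, asgclif_indep E hidem horth', htop⟩, hnd, horth⟩, hiso⟩, ?_⟩
  intro h hh
  obtain ⟨σ, hσ⟩ := hperm h hh
  exact ⟨σ, fun i => hmap h hh i (σ i) (hσ i)⟩

/-- PAIRT : more than two idempotents, paired by the adjoint without fixed point: the sums `range (E i) ⊕ range (E (τ i))` form
an orthogonal decomposition into `t / 2 ≥ 2` non-degenerate isometric blocks stabilised by `H`.  (`f (E i u) (E j v) = 0` unless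
`j = τ i`; index the pairs by `{i | i < τ i}`; `h ∈ H` with `asgConj h (E i) = E j` also maps `E (τ i)` to `E (τ j)`
(`oadj` commutes with conjugation by isometries), so it is an isometry between the blocks.) -/
theorem epair_many (Q : QuadraticForm F (Fin n → F)) (hQ : (QuadraticMap.polarBilin Q).Nondegenerate)
    {H N : Subgroup (GL (Fin n) F)} (hHO : H ≤ isometryGroup F (⇑Q)) (hN : NormalIn N H) {t : ℕ}
    (E : Fin t → Matrix (Fin n) (Fin n) F) (hE : IsIdemSystem H N E) (τ : Equiv.Perm (Fin t))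
    (hτ : ∀ i, oadj (⇑Q) (E i) = E (τ i)) (hτ2 : ∀ i, τ (τ i) = i) (hfp : ∀ i, τ i ≠ i) (ht : 2 < t) :
    ∃ (t' k' : ℕ) (D' : Fin t' → Submodule F (Fin n → F)), IsOrthogonalMDecomposition (⇑Q) k' D' ∧
      H ≤ decompositionStabilizer D' := by
  classical
  have hneτ : ∀ i, i ≠ τ i := fun i h => hfp i h.symm
  -- conjugation by `h ∈ H` commutes with `τ`
  have hconjτ : ∀ h ∈ H, ∀ i j, asgConj h (E i) = E j → asgConj h (E (τ i)) = E (τ j) := by
    intro h hh i j hij
    rw [← hτ i, ← asepairt_conj_oadj Q hQ h (hHO hh), hij, hτ j]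
  -- representatives of the pairs
  obtain ⟨S, hSmem⟩ : ∃ S : Finset (Fin t), ∀ i, i ∈ S ↔ i < τ i :=
    ⟨Finset.univ.filter (fun i => i < τ i), fun i => by simp⟩
  have hS_or : ∀ i, i ∈ S ∨ τ i ∈ S := by
    intro i
    rcases lt_or_gt_of_ne (hfp i) with h | h
    · right
      rw [hSmem, hτ2]
      exact h
    · left
      exact (hSmem i).mpr h
  have hS_not : ∀ i, i ∈ S → τ i ∉ S := by
    intro i hi h
    rw [hSmem] at hi h
    rw [hτ2] at h
    exact lt_asymm hi h
  have h2S : 2 ≤ S.card := by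
    have hcov : (Finset.univ : Finset (Fin t)) ⊆ S ∪ S.image τ := by
      intro i _
      rcases hS_or i with hi | hi
      · exact Finset.mem_union_left _ hi
      · exact Finset.mem_union_right _ (Finset.mem_image.mpr ⟨τ i, hi, hτ2 i⟩)
    have hc1 := Finset.card_le_card hcov
    rw [Finset.card_univ, Fintype.card_fin] at hc1
    have hc2 := Finset.card_union_le S (S.image τ)
    have hc3 : (S.image τ).card ≤ S.card := Finset.card_image_le
    omega
  -- enumeration of the pairs and the paired idempotents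
  obtain ⟨r, -⟩ : ∃ r : Fin S.card ≃ S, True := ⟨S.equivFin.symm, trivial⟩
  obtain ⟨Fp, hFp⟩ : ∃ Fp : Fin S.card → Matrix (Fin n) (Fin n) F,
      ∀ p, Fp p = E (r p : Fin t) + E (τ (r p : Fin t)) :=
    ⟨fun p => E (r p : Fin t) + E (τ (r p : Fin t)), fun p => rfl⟩
  have hidem : ∀ p, Fp p * Fp p = Fp p := by
    intro p
    rw [hFp, Matrix.add_mul, Matrix.mul_add, Matrix.mul_add, hE.idem, hE.idem, hE.orth _ _ (hneτ _),
      hE.orth _ _ (hfp _), add_zero, zero_add]
  have horth : ∀ p p', p ≠ p' → Fp p * Fp p' = 0 := by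
    intro p p' hpp'
    have h1 : (r p : Fin t) ≠ (r p' : Fin t) := fun h => hpp' (r.injective (Subtype.ext h))
    have h2 : (r p : Fin t) ≠ τ (r p' : Fin t) := by
      intro h
      apply hS_not _ (r p').2
      rw [← h]
      exact (r p).2
    have h3 : τ (r p : Fin t) ≠ (r p' : Fin t) := by
      intro h
      apply hS_not _ (r p).2
      rw [h]
      exact (r p').2
    have h4 : τ (r p : Fin t) ≠ τ (r p' : Fin t) := fun h => h1 (τ.injective h)
    rw [hFp, hFp, Matrix.add_mul, Matrix.mul_add, Matrix.mul_add, hE.orth _ _ h1, hE.orth _ _ h2,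
      hE.orth _ _ h3, hE.orth _ _ h4]
    simp
  have hne0 : ∀ p, Fp p ≠ 0 := by
    intro p h0
    apply hE.ne_zero (r p : Fin t)
    have h1 : E (r p : Fin t) * Fp p = E (r p : Fin t) := by
      rw [hFp, Matrix.mul_add, hE.idem, hE.orth _ _ (hneτ _), add_zero]
    rw [← h1, h0, Matrix.mul_zero]
  have hFinj : Function.Injective Fp := by
    intro p p' h
    by_contra hpp'
    have h1 := horth p p' hpp'
    rw [← h, hidem] at h1
    exact hne0 p h1
  have hFpS : ∀ j (hj : j ∈ S), Fp (r.symm ⟨j, hj⟩) = E j + E (τ j) := by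
    intro j hj
    simp only [hFp, Equiv.apply_symm_apply]
  have hrep : ∀ j, ∃ p', E j + E (τ j) = Fp p' := by
    intro j
    rcases hS_or j with hj | hj
    · exact ⟨r.symm ⟨j, hj⟩, (hFpS j hj).symm⟩
    · refine ⟨r.symm ⟨τ j, hj⟩, ?_⟩
      rw [hFpS (τ j) hj, hτ2, add_comm]
  have hcover : ∀ i, ∃ p, Fp p * E i = E i := by
    intro i
    obtain ⟨p, hp⟩ := hrep i
    refine ⟨p, ?_⟩
    rw [← hp, Matrix.add_mul, hE.idem, hE.orth _ _ (hfp i), add_zero]
  have htop : (⨆ p, LinearMap.range (Matrix.toLin' (Fp p))) = ⊤ := by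
    rw [eq_top_iff]
    intro v _
    have hv : v = ∑ i, E i *ᵥ v := by
      rw [← Matrix.sum_mulVec, hE.sum, Matrix.one_mulVec]
    rw [hv]
    refine Submodule.sum_mem _ fun i _ => ?_
    obtain ⟨p, hp⟩ := hcover i
    refine Submodule.mem_iSup_of_mem p ⟨E i *ᵥ v, ?_⟩
    rw [Matrix.toLin'_apply, Matrix.mulVec_mulVec, hp]
  have hsa : ∀ p, oadj (⇑Q) (Fp p) = Fp p := by
    intro p
    rw [hFp, oadj_add, hτ, hτ, hτ2, add_comm]
  have hpairconj : ∀ h ∈ H, ∀ (p : Fin S.card) (j : Fin t), asgConj h (E (r p : Fin t)) = E j →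
      asgConj h (Fp p) = E j + E (τ j) := by
    intro h hh p j hj
    rw [hFp, asepairt_conj_add, hj, hconjτ h hh _ _ hj]
  have htrans : ∀ p p', ∃ h ∈ H, asgConj h (Fp p) = Fp p' := by
    intro p p'
    obtain ⟨h, hh, hc⟩ := hE.trans (r p : Fin t) (r p' : Fin t)
    exact ⟨h, hh, (hpairconj h hh p _ hc).trans (hFp p').symm⟩
  have hperm : ∀ h ∈ H, ∃ σ' : Equiv.Perm (Fin S.card), ∀ p, asgConj h (Fp p) = Fp (σ' p) := by
    intro h hh
    obtain ⟨σ, hσ⟩ := hE.perm h hh
    have hex : ∀ p, ∃ p', asgConj h (Fp p) = Fp p' := by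
      intro p
      obtain ⟨p', hp'⟩ := hrep (σ (r p : Fin t))
      exact ⟨p', (hpairconj h hh p _ (hσ (r p : Fin t))).trans hp'⟩
    choose g hg using hex
    have hginj : Function.Injective g := by
      intro p p' hpp'
      apply hFinj
      have h1 : asgConj h (Fp p) = asgConj h (Fp p') := by rw [hg, hg, hpp']
      have h2 := congrArg (asgConj h⁻¹) h1
      rwa [asgclif_conj_inv_conj, asgclif_conj_inv_conj] at h2
    exact ⟨Equiv.ofBijective g (Finite.injective_iff_bijective.mp hginj), fun p => hg p⟩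
  obtain ⟨k, hk1, hk2⟩ := asepairt_odec Q hQ hHO Fp h2S hidem hne0 horth htop hperm htrans hsa
  exact ⟨S.card, k, _, hk1, hk2⟩

end Cfsg.Agent.Lib.helper23.ASE
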