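import Mathlib
import Cfsg.Prelude.Def_Sporadic_a
import Cfsg.Prelude.Def_SporadicCombinatorics
import Cfsg.Agent.Lib.helper4.ObjListsB
import Cfsg.Agent.Lib.helper4.ElemClassB

set_option autoImplicit false

namespace Cfsg.Agent.Lib.helper4

open Cfsg
open scoped Pointwise
open Cfsg.Agent.Lib.Helper12.Golay

/-! ### Numbers of objects fixed by an element conjugate to a table element -/

/-- Boolean equality of triples. -/
def beq3 (a b : Code3) : Bool := Nat.beq a.1 b.1 && Nat.beq a.2.1 b.2.1 && Nat.beq a.2.2 b.2.2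

theorem beq3_iff (a b : Code3) : beq3 a b = true ↔ a = b := by
  obtain ⟨a1, a2, a3⟩ := a
  obtain ⟨b1, b2, b3⟩ := b
  simp only [beq3, Bool.and_eq_true, natBeq_iff, Prod.mk.injEq]
  tauto

variable {R : List ℕ} (hR : okK R = true) {g w : Equiv.Perm GolayPt} (hw : w ∈ M24)
  (h : w * g * w⁻¹ = fperm R)

include hR hw h

theorem count_fixed_octads :
    {o : Finset GolayPt | o ∈ octads ∧ g • o = o}.ncard =
      (octL.filter fun m => Nat.beq (actK R m) m).length := by
  have hv := okK_valid hR
  rw [← fixed_ncard_conj octads w g (fun x hx => smul_mem_octads hw hx)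
    (fun x hx => smul_mem_octads (M24.inv_mem hw) hx), h, fperm, fixed_ncard_inv]
  exact coded_fixed_count fs (fun m => m < 2 ^ 24) (fun c c' hc hc' e => fs_inj hc hc' e) octads
    octL octL_nodup (fun c hc => octL_lt hc) octL_complete (permT R) (actK R) Nat.beq
    (fun a b => natBeq_iff) (fun c hc => by
      rw [actK_eq]
      exact ⟨actT_lt hv.1 c, permT_smul_fs hv hc⟩)

theorem count_fixed_dodecads :
    {o : Finset GolayPt | o ∈ dodecads ∧ g • o = o}.ncard =
      (dodL.filter fun m => Nat.beq (actK R m) m).length := by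
  have hv := okK_valid hR
  rw [← fixed_ncard_conj dodecads w g (fun x hx => smul_mem_dodecads hw hx)
    (fun x hx => smul_mem_dodecads (M24.inv_mem hw) hx), h, fperm, fixed_ncard_inv]
  exact coded_fixed_count fs (fun m => m < 2 ^ 24) (fun c c' hc hc' e => fs_inj hc hc' e) dodecads
    dodL dodL_nodup (fun c hc => dodL_lt hc) dodL_complete (permT R) (actK R) Nat.beq
    (fun a b => natBeq_iff) (fun c hc => by
      rw [actK_eq]
      exact ⟨actT_lt hv.1 c, permT_smul_fs hv hc⟩)

theorem count_fixed_sextets :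
    {S : Finset (Finset GolayPt) | S ∈ sextets ∧ g • S = S}.ncard =
      (sextL.filter fun s => Nat.beq (actS R s) s).length := by
  have hv := okK_valid hR
  have hM := permT_mem_M24' hR
  rw [← fixed_ncard_conj sextets w g (fun x hx => smul_sextets hw hx)
    (fun x hx => smul_sextets (M24.inv_mem hw) hx), h, fperm, fixed_ncard_inv]
  exact coded_fixed_count sextetOfSyn IsSext (fun c c' hc hc' e => sextetOfSyn_injOn hc hc' e)
    sextets sextL sextL_nodup sextL_isSext sextL_complete (permT R) (actS R) Nat.beq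
    (fun a b => natBeq_iff) (fun c hc => smul_sextetOfSyn hv hM hc)

theorem count_fixed_trios :
    {T : Finset (Finset GolayPt) | T ∈ trios ∧ g • T = T}.ncard =
      (LTall.filter fun t => beq3 (actT3 R t) t).length := by
  have hv := okK_valid hR
  have hM := permT_mem_M24' hR
  rw [← fixed_ncard_conj trios w g (fun x hx => Cfsg.Agent.S1557.smul_trios ⟨w, hw⟩ x hx)
    (fun x hx => Cfsg.Agent.S1557.smul_trios ⟨w⁻¹, M24.inv_mem hw⟩ x hx), h, fperm,
    fixed_ncard_inv]
  exact coded_fixed_count D3 (fun t => Sorted3 t ∧ D3 t ∈ trios)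
    (fun c c' hc hc' e => D3_injOn hc.1 hc'.1 e)
    trios LTall LTall_nodup LTall_props LTall_complete (permT R) (actT3 R) beq3
    beq3_iff (fun c hc => by
      obtain ⟨e1, e2⟩ := D3_actT3 hv hc.1
      refine ⟨⟨e2, ?_⟩, e1.symm⟩
      rw [e1]
      exact Cfsg.Agent.S1557.smul_trios ⟨permT R, hM⟩ _ hc.2)

end Cfsg.Agent.Lib.helper4
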