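import Mathlib
import Cfsg.Prelude.Def_Sporadic_a
import Cfsg.Prelude.Def_SporadicCombinatorics
import Cfsg.Agent.Lib.helper4.ElemFixed

set_option autoImplicit false

namespace Cfsg.Agent.Lib.helper4

open Cfsg
open scoped Pointwise
open Cfsg.Agent.Lib.Helper12.Golay

/-! ### The numbers of fixed objects of the class representatives -/

set_option maxRecDepth 1000000 in
theorem count3A : (octL.filter fun m => Nat.beq (actK rep3A m) m).length = 21 ∧
    (LTall.filter fun t => beq3 (actT3 rep3A t) t).length = 15 ∧
    (sextL.filter fun s => Nat.beq (actS rep3A s) s).length = 16 ∧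
    (dodL.filter fun m => Nat.beq (actK rep3A m) m).length = 20 := by
  decide +kernel

set_option maxRecDepth 1000000 in
theorem count3B : (sextL.filter fun s => Nat.beq (actS rep3B s) s).length = 7 ∧
    (LTall.filter fun t => beq3 (actT3 rep3B t) t).length = 15 := by
  decide +kernel

set_option maxRecDepth 1000000 in
theorem count2A : (octL.filter fun m => Nat.beq (actK rep2A m) m).length = 71 ∧
    (LTall.filter fun t => beq3 (actT3 rep2A t) t).length = 99 ∧
    (sextL.filter fun s => Nat.beq (actS rep2A s) s).length = 91 := by
  decide +kernel

set_option maxRecDepth 1000000 in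
theorem count2B : (octL.filter fun m => Nat.beq (actK rep2B m) m).length = 15 ∧
    (LTall.filter fun t => beq3 (actT3 rep2B t) t).length = 75 ∧
    (sextL.filter fun s => Nat.beq (actS rep2B s) s).length = 51 := by
  decide +kernel

end Cfsg.Agent.Lib.helper4
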