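import Mathlib
import Cfsg.Prelude.Def_Sporadic_a
import Cfsg.Prelude.Def_SporadicCombinatorics
import Cfsg.Agent.Lib.helper4.ElemCounts

set_option autoImplicit false

namespace Cfsg.Agent.Lib.helper4

open Cfsg
open scoped Pointwise
open Cfsg.Agent.Lib.Helper12.Golay

theorem okK_rep3A : okK rep3A = true := class_oks.2.2.2.2.2.2.2.2.1
theorem okK_rep3B : okK rep3B = true := class_oks.2.2.2.2.2.2.2.2.2.1
theorem okK_rep2A : okK rep2A = true := class_oks.2.2.2.2.2.2.2.2.2.2.1
theorem okK_rep2B : okK rep2B = true := class_oks.2.2.2.2.2.2.2.2.2.2.2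

theorem pow_eq_one_of_orderOf {g : Equiv.Perm GolayPt} {n : ℕ} (h : orderOf g = n) : g ^ n = 1 := by
  rw [← h]
  exact pow_orderOf_eq_one g

theorem ne_one_of_orderOf {g : Equiv.Perm GolayPt} {n : ℕ} (h : orderOf g = n) (hn : n ≠ 1) :
    g ≠ 1 := by
  rintro rfl
  rw [orderOf_one] at h
  exact hn h.symm

theorem exists_fixed_of_card {g : Equiv.Perm GolayPt} {n : ℕ}
    (h : (Finset.univ.filter fun p => g p = p).card = n) (hn : 0 < n) : ∃ p, g p = p := by
  have : 0 < (Finset.univ.filter fun p => g p = p).card := by rw [h]; exact hn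
  obtain ⟨p, hp⟩ := Finset.card_pos.mp this
  exact ⟨p, (Finset.mem_filter.mp hp).2⟩

/-- Fixed structures of an element of order 3 with six fixed points. -/
theorem fixed_3A (g : Equiv.Perm GolayPt) (hg : g ∈ M24) (h₃ : orderOf g = 3)
    (h₆ : (Finset.univ.filter fun p => g p = p).card = 6) :
    {o : Finset GolayPt | o ∈ octads ∧ g • o = o}.ncard = 21 ∧
    {T : Finset (Finset GolayPt) | T ∈ trios ∧ g • T = T}.ncard = 15 ∧
    {S : Finset (Finset GolayPt) | S ∈ sextets ∧ g • S = S}.ncard = 16 ∧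
    {d : Finset GolayPt | d ∈ dodecads ∧ g • d = d}.ncard = 20 := by
  obtain ⟨_, w, hw, e⟩ := class3A hg (pow_eq_one_of_orderOf h₃) (ne_one_of_orderOf h₃ (by norm_num))
    (exists_fixed_of_card h₆ (by norm_num))
  refine ⟨?_, ?_, ?_, ?_⟩
  · rw [count_fixed_octads okK_rep3A hw e]; exact count3A.1
  · rw [count_fixed_trios okK_rep3A hw e]; exact count3A.2.1
  · rw [count_fixed_sextets okK_rep3A hw e]; exact count3A.2.2.1
  · rw [count_fixed_dodecads okK_rep3A hw e]; exact count3A.2.2.2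

/-- Fixed structures of a fixed-point-free element of order 3. -/
theorem fixed_3B (g : Equiv.Perm GolayPt) (hg : g ∈ M24) (h₃ : orderOf g = 3)
    (h₀ : ∀ p, g p ≠ p) :
    {S : Finset (Finset GolayPt) | S ∈ sextets ∧ g • S = S}.ncard = 7 ∧
    {T : Finset (Finset GolayPt) | T ∈ trios ∧ g • T = T}.ncard = 15 := by
  obtain ⟨w, hw, e⟩ := class3B hg (pow_eq_one_of_orderOf h₃) h₀
  refine ⟨?_, ?_⟩
  · rw [count_fixed_sextets okK_rep3B hw e]; exact count3B.1
  · rw [count_fixed_trios okK_rep3B hw e]; exact count3B.2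

/-- Fixed structures of an involution with eight fixed points. -/
theorem fixed_2A (g : Equiv.Perm GolayPt) (hg : g ∈ M24) (h₂ : orderOf g = 2)
    (h₈ : (Finset.univ.filter fun p => g p = p).card = 8) :
    {o : Finset GolayPt | o ∈ octads ∧ g • o = o}.ncard = 71 ∧
    {T : Finset (Finset GolayPt) | T ∈ trios ∧ g • T = T}.ncard = 99 ∧
    {S : Finset (Finset GolayPt) | S ∈ sextets ∧ g • S = S}.ncard = 91 := by
  obtain ⟨_, w, hw, e⟩ := class2A hg (pow_eq_one_of_orderOf h₂) (ne_one_of_orderOf h₂ (by norm_num))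
    (exists_fixed_of_card h₈ (by norm_num))
  refine ⟨?_, ?_, ?_⟩
  · rw [count_fixed_octads okK_rep2A hw e]; exact count2A.1
  · rw [count_fixed_trios okK_rep2A hw e]; exact count2A.2.1
  · rw [count_fixed_sextets okK_rep2A hw e]; exact count2A.2.2

/-- Fixed structures of a fixed-point-free involution. -/
theorem fixed_2B (g : Equiv.Perm GolayPt) (hg : g ∈ M24) (h₂ : orderOf g = 2)
    (h₀ : ∀ p, g p ≠ p) :
    {o : Finset GolayPt | o ∈ octads ∧ g • o = o}.ncard = 15 ∧
    {T : Finset (Finset GolayPt) | T ∈ trios ∧ g • T = T}.ncard = 75 ∧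
    {S : Finset (Finset GolayPt) | S ∈ sextets ∧ g • S = S}.ncard = 51 := by
  obtain ⟨w, hw, e⟩ := class2B hg (pow_eq_one_of_orderOf h₂) h₀
  refine ⟨?_, ?_, ?_⟩
  · rw [count_fixed_octads okK_rep2B hw e]; exact count2B.1
  · rw [count_fixed_trios okK_rep2B hw e]; exact count2B.2.1
  · rw [count_fixed_sextets okK_rep2B hw e]; exact count2B.2.2

end Cfsg.Agent.Lib.helper4
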