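import Mathlib
import Cfsg.Prelude.Def_GeometricClasses
import Cfsg.Agent.Lib.helper15.TX2SCOMMON
import Cfsg.Agent.Lib.Helper24.TX2SPQ3a

set_option autoImplicit false
set_option linter.unusedVariables false
set_option linter.unusedSectionVars false

/-!
# Block TX2S (helper15), piece PQ3, structural part (helper4)

`|F| = 3`, `t` hyperbolic planes `D i = ⟨u_i, v_i⟩`: the vectors `p_i = u_i + v_i` (`Q = 1`) and `m_i = u_i - v_i` (`Q = -1`) are
pairwise orthogonal, `W⁺ = span p`, `W⁻ = span m` form a non-degenerate decomposition into two `t`-spaces and every isometry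
stabilising `D` stabilises both `W⁺` and `W⁻` (as `c⁻¹ = c` for `c = ± 1`).
-/

namespace Cfsg.Agent.Lib.Helper15.TX2S

open Cfsg Cfsg.Geo
open scoped MatrixGroups Matrix

variable {n : ℕ} {F : Type*} [Field F]

/-- `3 = 0` in a field with three elements -/
theorem tx2spq3b_three [Fintype F] (hq : Fintype.card F = 3) : (3 : F) = 0 := by
  have h := FiniteField.cast_card_eq_zero F
  rw [hq] at h
  exact_mod_cast h

/-- the elements of a field with three elements -/
theorem tx2spq3b_elems [Fintype F] (hq : Fintype.card F = 3) (c : F) : c = 0 ∨ c = 1 ∨ c = -1 := by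
  have h := FiniteField.pow_card c
  rw [hq] at h
  have h1 : c * ((c - 1) * (c + 1)) = 0 := by linear_combination h
  rcases mul_eq_zero.1 h1 with h0 | h0
  · exact Or.inl h0
  · rcases mul_eq_zero.1 h0 with h0 | h0
    · exact Or.inr (Or.inl (sub_eq_zero.1 h0))
    · exact Or.inr (Or.inr (eq_neg_of_add_eq_zero_left h0))

/-- `2 ≠ 0` in a field with three elements -/
theorem tx2spq3b_two_ne [Fintype F] (hq : Fintype.card F = 3) : (2 : F) ≠ 0 := by
  intro h
  have h3 := tx2spq3b_three hq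
  have : (1 : F) = 0 := by linear_combination h3 - h
  exact one_ne_zero this

/-- `-1` is not a square in a field with three elements -/
theorem tx2spq3b_not_sq [Fintype F] (hq : Fintype.card F = 3) : ¬ IsSquare (-1 : F) := by
  rintro ⟨r, hr⟩
  have h2 := tx2spq3b_two_ne hq
  rcases tx2spq3b_elems hq r with h | h | h
  · rw [h, mul_zero] at hr
    exact one_ne_zero (neg_eq_zero.1 hr)
  · rw [h] at hr
    apply h2
    linear_combination (-1 : F) * hr
  · rw [h] at hr
    apply h2
    linear_combination (-1 : F) * hr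

/-- value of `Q` on a combination of pairwise orthogonal vectors -/
theorem tx2spq3b_Q_sum (Q : QuadraticForm F (Fin n → F)) {t : ℕ}
    (d : Fin t → (Fin n → F))
    (horth : ∀ i j, i ≠ j → QuadraticMap.polar (⇑Q) (d i) (d j) = 0) (a : Fin t → F) :
    Q (∑ i, a i • d i) = ∑ i, a i * a i * Q (d i) := by
  classical
  have key : ∀ s : Finset (Fin t), Q (∑ i ∈ s, a i • d i) = ∑ i ∈ s, a i * a i * Q (d i) := by
    intro s
    induction s using Finset.induction_on with
    | empty => simp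
    | insert j s hj ih =>
      rw [Finset.sum_insert hj, Finset.sum_insert hj]
      have hp : Q (a j • d j + ∑ i ∈ s, a i • d i) =
          Q (a j • d j) + Q (∑ i ∈ s, a i • d i) +
            QuadraticMap.polar (⇑Q) (a j • d j) (∑ i ∈ s, a i • d i) := by
        unfold QuadraticMap.polar
        ring
      have hz : QuadraticMap.polar (⇑Q) (a j • d j) (∑ i ∈ s, a i • d i) = 0 := by
        have : QuadraticMap.polar (⇑Q) (a j • d j) (∑ i ∈ s, a i • d i) =
            QuadraticMap.polarBilin Q (a j • d j) (∑ i ∈ s, a i • d i) := rfl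
        rw [this, map_sum]
        refine Finset.sum_eq_zero fun i hi => ?_
        have hij : j ≠ i := fun h => hj (h ▸ hi)
        rw [map_smul, map_smul, LinearMap.smul_apply, QuadraticMap.polarBilin_apply_apply,
          horth j i hij, smul_zero, smul_zero]
      rw [hp, hz, add_zero, ih, QuadraticMap.map_smul, smul_eq_mul]
  exact key Finset.univ

/-- the polar form vanishes on combinations of two mutually orthogonal families -/
theorem tx2spq3b_polar_comb (Q : QuadraticForm F (Fin n → F)) {t : ℕ}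
    (a b : Fin t → (Fin n → F)) (hab : ∀ i j, QuadraticMap.polar (⇑Q) (a i) (b j) = 0)
    (x y : Fin t → F) :
    QuadraticMap.polar (⇑Q) (∑ i, x i • a i) (∑ j, y j • b j) = 0 := by
  have h0 : QuadraticMap.polar (⇑Q) (∑ i, x i • a i) (∑ j, y j • b j) =
      QuadraticMap.polarBilin Q (∑ i, x i • a i) (∑ j, y j • b j) := rfl
  rw [h0, map_sum]
  refine Finset.sum_eq_zero fun j _ => ?_
  rw [map_sum, LinearMap.sum_apply]
  refine Finset.sum_eq_zero fun i _ => ?_
  rw [map_smul, map_smul, LinearMap.smul_apply, QuadraticMap.polarBilin_apply_apply, hab i j, smul_zero,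
    smul_zero]

/-- the polar form of a member of a family with `Q (∑ x_i a_i) = c ∑ x_i²` against a combination -/
theorem tx2spq3b_polar_single (Q : QuadraticForm F (Fin n → F)) {t : ℕ} (c : F) (a : Fin t → (Fin n → F))
    (ha : ∀ x : Fin t → F, Q (∑ i, x i • a i) = c * ∑ i, x i * x i) (x : Fin t → F) (j : Fin t) :
    QuadraticMap.polar (⇑Q) (a j) (∑ i, x i • a i) = c * (2 * x j) := by
  classical
  have h := tx2spq3_polar_sum Q c a ha (Pi.single j 1) x
  have h1 : ∑ i, (Pi.single j (1 : F) : Fin t → F) i • a i = a j := by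
    rw [Finset.sum_eq_single j]
    · rw [Pi.single_eq_same, one_smul]
    · intro b _ hb
      rw [Pi.single_eq_of_ne hb, zero_smul]
    · intro h
      exact absurd (Finset.mem_univ j) h
  have h2 : ∑ i, (Pi.single j (1 : F) : Fin t → F) i * x i = x j := by
    rw [Finset.sum_eq_single j]
    · rw [Pi.single_eq_same, one_mul]
    · intro b _ hb
      rw [Pi.single_eq_of_ne hb, zero_mul]
    · intro h
      exact absurd (Finset.mem_univ j) h
  rw [h1, h2] at h
  exact h

/-- a family with `Q (∑ x_i a_i) = c ∑ x_i²`, `c ≠ 0`, `2 ≠ 0`, is linearly independent and spans a non-degenerate subspace -/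
theorem tx2spq3b_family (h2 : (2 : F) ≠ 0) (Q : QuadraticForm F (Fin n → F)) {t : ℕ} (c : F) (hc : c ≠ 0)
    (a : Fin t → (Fin n → F)) (ha : ∀ x : Fin t → F, Q (∑ i, x i • a i) = c * ∑ i, x i * x i) :
    LinearIndependent F a ∧
      IsNondegenerateOn (QuadraticMap.polar (⇑Q)) (Submodule.span F (Set.range a)) := by
  classical
  have hkey : ∀ x : Fin t → F, ∑ i, x i • a i = 0 → ∀ j, x j = 0 := by
    intro x hx j
    have h := tx2spq3b_polar_single Q c a ha x j
    rw [hx, QuadraticMap.polar_zero_right] at h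
    rcases mul_eq_zero.1 h.symm with h | h
    · exact absurd h hc
    · rcases mul_eq_zero.1 h with h | h
      · exact absurd h h2
      · exact h
  refine ⟨Fintype.linearIndependent_iff.2 hkey, ?_⟩
  intro w hw hw0
  obtain ⟨x, rfl⟩ := (Submodule.mem_span_range_iff_exists_fun F).1 hw
  have hex : ∃ j, x j ≠ 0 := by
    by_contra hcon
    push Not at hcon
    apply hw0
    refine Finset.sum_eq_zero fun i _ => ?_
    rw [hcon i, zero_smul]
  obtain ⟨j, hj⟩ := hex
  have hne : QuadraticMap.polar (⇑Q) (a j) (∑ i, x i • a i) ≠ 0 := by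
    rw [tx2spq3b_polar_single Q c a ha x j]
    exact mul_ne_zero hc (mul_ne_zero h2 hj)
  have haj : a j ∈ Submodule.span F (Set.range a) := Submodule.subset_span ⟨j, rfl⟩
  refine ⟨⟨a j, haj, hne⟩, ⟨a j, haj, ?_⟩⟩
  rw [QuadraticMap.polar_comm]
  exact hne

/-- a matrix mapping the members of a family into `W` maps their span into `W` -/
theorem tx2spq3b_span_maps (g : Matrix (Fin n) (Fin n) F) {t : ℕ} (p : Fin t → (Fin n → F))
    (W : Submodule F (Fin n → F)) (h : ∀ i, g *ᵥ p i ∈ W) :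
    ∀ w ∈ Submodule.span F (Set.range p), g *ᵥ w ∈ W := by
  intro w hw
  have hle : Submodule.span F (Set.range p) ≤ W.comap (Matrix.toLin' g) := by
    rw [Submodule.span_le]
    rintro _ ⟨i, rfl⟩
    show Matrix.toLin' g (p i) ∈ W
    rw [Matrix.toLin'_apply]
    exact h i
  have h1 := hle hw
  rw [Submodule.mem_comap, Matrix.toLin'_apply] at h1
  exact h1

/-- a subspace mapped into itself by all members of a subgroup is mapped onto itself by them -/
theorem tx2spq3b_map_eq (H : Subgroup (GL (Fin n) F)) (W : Submodule F (Fin n → F))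
    (h : ∀ g ∈ H, ∀ w ∈ W, (g : Matrix (Fin n) (Fin n) F) *ᵥ w ∈ W) (g : GL (Fin n) F) (hg : g ∈ H) :
    W.map (Matrix.toLin' (g : Matrix (Fin n) (Fin n) F)) = W := by
  apply le_antisymm
  · rintro _ ⟨v, hv, rfl⟩
    rw [Matrix.toLin'_apply]
    exact h g hg v hv
  · intro w hw
    refine ⟨((g⁻¹ : GL (Fin n) F) : Matrix (Fin n) (Fin n) F) *ᵥ w, h g⁻¹ (H.inv_mem hg) w hw, ?_⟩
    rw [Matrix.toLin'_apply, Matrix.mulVec_mulVec, ← Units.val_mul, mul_inv_cancel, Units.val_one,
      Matrix.one_mulVec]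

/-- PQ3, structural part: the norm `1` vectors `p_i = u_i + v_i` and the norm `-1` vectors `m_i = u_i - v_i` of `t` hyperbolic
planes over `F_3` span the two members of a non-degenerate decomposition stabilised by the isometries stabilising the planes. -/
theorem tx2spq3b_struct (hel : ∀ c : F, c = 0 ∨ c = 1 ∨ c = -1) (h2 : (2 : F) ≠ 0)
    (Q : QuadraticForm F (Fin n → F))
    {t : ℕ} (D : Fin t → Submodule F (Fin n → F)) (hD : IsOrthogonalMDecomposition (⇑Q) 2 D)
    (hp : ∀ i, IsPlusTypeOn (⇑Q) (D i)) :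
    ∃ p m : Fin t → (Fin n → F),
      (∀ x : Fin t → F, Q (∑ i, x i • p i) = ∑ i, x i * x i) ∧
      (∀ x : Fin t → F, Q (∑ i, x i • m i) = - ∑ i, x i * x i) ∧
      IsNondegenerateMDecomposition (QuadraticMap.polar (⇑Q)) t
        ![Submodule.span F (Set.range p), Submodule.span F (Set.range m)] ∧
      decompositionStabilizer D ⊓ isometryGroup F (⇑Q) ≤
        decompositionStabilizer ![Submodule.span F (Set.range p), Submodule.span F (Set.range m)] := by
  classical
  obtain ⟨u, v, hu, hv, hQu, hQv, huv, hrep, hQab⟩ := tx2scommon_bases Q D hD hp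
  obtain ⟨p, hpdef⟩ : ∃ p : Fin t → (Fin n → F), ∀ i, p i = u i + v i := ⟨fun i => u i + v i, fun _ => rfl⟩
  obtain ⟨m, hmdef⟩ : ∃ m : Fin t → (Fin n → F), ∀ i, m i = u i - v i := ⟨fun i => u i - v i, fun _ => rfl⟩
  have hpD : ∀ i, p i ∈ D i := fun i => by rw [hpdef]; exact (D i).add_mem (hu i) (hv i)
  have hmD : ∀ i, m i ∈ D i := fun i => by rw [hmdef]; exact (D i).sub_mem (hu i) (hv i)
  have hQp1 : ∀ i, Q (p i) = 1 := by
    intro i
    have h := hQab i 1 1
    rw [one_smul, one_smul, mul_one] at h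
    rw [hpdef]
    exact h
  have hQm1 : ∀ i, Q (m i) = -1 := by
    intro i
    have h := hQab i 1 (-1)
    rw [one_smul, neg_smul, one_smul, one_mul, ← sub_eq_add_neg] at h
    rw [hmdef]
    exact h
  have hort : ∀ i j, i ≠ j → ∀ a ∈ D i, ∀ b ∈ D j, QuadraticMap.polar (⇑Q) a b = 0 :=
    fun i j hij a ha b hb => hD.decomp.orthogonal i j hij a ha b hb
  have hpp : ∀ i j, i ≠ j → QuadraticMap.polar (⇑Q) (p i) (p j) = 0 :=
    fun i j hij => hort i j hij _ (hpD i) _ (hpD j)
  have hmm : ∀ i j, i ≠ j → QuadraticMap.polar (⇑Q) (m i) (m j) = 0 :=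
    fun i j hij => hort i j hij _ (hmD i) _ (hmD j)
  have hpm : ∀ i j, QuadraticMap.polar (⇑Q) (p i) (m j) = 0 := by
    intro i j
    by_cases hij : i = j
    · subst hij
      have huu : QuadraticMap.polar (⇑Q) (u i) (u i) = 0 := by rw [tx2scommon_polar_self, hQu, mul_zero]
      have hvv : QuadraticMap.polar (⇑Q) (v i) (v i) = 0 := by rw [tx2scommon_polar_self, hQv, mul_zero]
      have hvu : QuadraticMap.polar (⇑Q) (v i) (u i) = 1 := by rw [QuadraticMap.polar_comm, huv]
      rw [hpdef, hmdef, sub_eq_add_neg, tx2scommon_polar_add_left, tx2scommon_polar_add_right,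
        tx2scommon_polar_add_right, ← neg_one_smul F (v i), tx2scommon_polar_smul_right,
        tx2scommon_polar_smul_right, huu, hvv, huv, hvu]
      ring
    · exact hort i j hij _ (hpD i) _ (hmD j)
  have hQp : ∀ x : Fin t → F, Q (∑ i, x i • p i) = ∑ i, x i * x i := by
    intro x
    rw [tx2spq3b_Q_sum Q p hpp x]
    refine Finset.sum_congr rfl fun i _ => ?_
    rw [hQp1, mul_one]
  have hQm : ∀ x : Fin t → F, Q (∑ i, x i • m i) = - ∑ i, x i * x i := by
    intro x
    rw [tx2spq3b_Q_sum Q m hmm x, ← Finset.sum_neg_distrib]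
    refine Finset.sum_congr rfl fun i _ => ?_
    rw [hQm1, mul_neg, mul_one]
  have hQp' : ∀ x : Fin t → F, Q (∑ i, x i • p i) = 1 * ∑ i, x i * x i := fun x => by rw [one_mul, hQp]
  have hQm' : ∀ x : Fin t → F, Q (∑ i, x i • m i) = (-1) * ∑ i, x i * x i := fun x => by
    rw [neg_one_mul, hQm]
  obtain ⟨hplin, hPnd⟩ := tx2spq3b_family h2 Q 1 one_ne_zero p hQp'
  obtain ⟨hmlin, hMnd⟩ := tx2spq3b_family h2 Q (-1) (neg_ne_zero.2 one_ne_zero) m hQm'
  obtain ⟨P, hP⟩ : ∃ P : Submodule F (Fin n → F), P = Submodule.span F (Set.range p) := ⟨_, rfl⟩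
  obtain ⟨M, hM⟩ : ∃ M : Submodule F (Fin n → F), M = Submodule.span F (Set.range m) := ⟨_, rfl⟩
  refine ⟨p, m, hQp, hQm, ?_⟩
  rw [← hP, ← hM]
  rw [← hP] at hPnd
  rw [← hM] at hMnd
  have hpP : ∀ i, p i ∈ P := fun i => by rw [hP]; exact Submodule.subset_span ⟨i, rfl⟩
  have hmM : ∀ i, m i ∈ M := fun i => by rw [hM]; exact Submodule.subset_span ⟨i, rfl⟩
  have hPd : Module.finrank F P = t := by
    rw [hP, finrank_span_eq_card hplin, Fintype.card_fin]
  have hMd : Module.finrank F M = t := by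
    rw [hM, finrank_span_eq_card hmlin, Fintype.card_fin]
  have hPM : ∀ a ∈ P, ∀ b ∈ M, QuadraticMap.polar (⇑Q) a b = 0 := by
    intro a ha b hb
    rw [hP] at ha
    rw [hM] at hb
    obtain ⟨x, rfl⟩ := (Submodule.mem_span_range_iff_exists_fun F).1 ha
    obtain ⟨y, rfl⟩ := (Submodule.mem_span_range_iff_exists_fun F).1 hb
    exact tx2spq3b_polar_comb Q p m hpm x y
  have hR : P ⊓ M = ⊥ := by
    rw [eq_bot_iff]
    intro w hw
    rw [Submodule.mem_bot]
    by_contra hw0
    obtain ⟨⟨x, hx, hx0⟩, _⟩ := hPnd w hw.1 hw0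
    exact hx0 (hPM x hx w hw.2)
  have hDle : ∀ i, D i ≤ P ⊔ M := by
    intro i w hw
    obtain ⟨a, b, rfl⟩ := hrep i w hw
    have hui : u i = (2 : F)⁻¹ • (p i + m i) := by
      rw [hpdef, hmdef, show u i + v i + (u i - v i) = (2 : F) • u i by rw [two_smul]; abel, smul_smul,
        inv_mul_cancel₀ h2, one_smul]
    have hvi : v i = (2 : F)⁻¹ • (p i - m i) := by
      rw [hpdef, hmdef, show u i + v i - (u i - v i) = (2 : F) • v i by rw [two_smul]; abel, smul_smul,
        inv_mul_cancel₀ h2, one_smul]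
    have hpS : p i ∈ P ⊔ M := Submodule.mem_sup_left (hpP i)
    have hmS : m i ∈ P ⊔ M := Submodule.mem_sup_right (hmM i)
    have huS : u i ∈ P ⊔ M := by
      rw [hui]
      exact (P ⊔ M).smul_mem _ ((P ⊔ M).add_mem hpS hmS)
    have hvS : v i ∈ P ⊔ M := by
      rw [hvi]
      exact (P ⊔ M).smul_mem _ ((P ⊔ M).sub_mem hpS hmS)
    exact (P ⊔ M).add_mem ((P ⊔ M).smul_mem _ huS) ((P ⊔ M).smul_mem _ hvS)
  have htpos : 0 < t := by
    have := hD.decomp.decomp.two_le
    omega
  set H : Subgroup (GL (Fin n) F) := decompositionStabilizer D ⊓ isometryGroup F (⇑Q) with hH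
  have hmaps : ∀ g ∈ H, (∀ i, (g : Matrix (Fin n) (Fin n) F) *ᵥ p i ∈ P) ∧
      (∀ i, (g : Matrix (Fin n) (Fin n) F) *ᵥ m i ∈ M) := by
    intro g hg
    obtain ⟨σ, hσ, hact⟩ := tx2scommon_act Q D u v hu hv hQu hQv huv hrep hQab g hg
    have hact' : ∀ i, ∃ c : F,
        (((g : Matrix (Fin n) (Fin n) F) *ᵥ u i = c • u (σ i) ∧
            (g : Matrix (Fin n) (Fin n) F) *ᵥ v i = c • v (σ i)) ∨
          ((g : Matrix (Fin n) (Fin n) F) *ᵥ u i = c • v (σ i) ∧
            (g : Matrix (Fin n) (Fin n) F) *ᵥ v i = c • u (σ i))) := by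
      intro i
      obtain ⟨c, hc0, hcase⟩ := hact i
      have hcinv : c⁻¹ = c := by
        rcases hel c with h | h | h
        · exact absurd h hc0
        · rw [h, inv_one]
        · rw [h, inv_neg_one]
      rw [hcinv] at hcase
      exact ⟨c, hcase⟩
    refine ⟨fun i => ?_, fun i => ?_⟩
    · obtain ⟨c, hcase⟩ := hact' i
      have hgp : (g : Matrix (Fin n) (Fin n) F) *ᵥ p i = c • p (σ i) := by
        rcases hcase with ⟨h1, h2'⟩ | ⟨h1, h2'⟩
        · rw [hpdef, Matrix.mulVec_add, h1, h2', hpdef, smul_add]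
        · rw [hpdef, Matrix.mulVec_add, h1, h2', hpdef, smul_add, add_comm]
      rw [hgp]
      exact P.smul_mem _ (hpP (σ i))
    · obtain ⟨c, hcase⟩ := hact' i
      rcases hcase with ⟨h1, h2'⟩ | ⟨h1, h2'⟩
      · have hgm : (g : Matrix (Fin n) (Fin n) F) *ᵥ m i = c • m (σ i) := by
          rw [hmdef, Matrix.mulVec_sub, h1, h2', hmdef, smul_sub]
        rw [hgm]
        exact M.smul_mem _ (hmM (σ i))
      · have hgm : (g : Matrix (Fin n) (Fin n) F) *ᵥ m i = (-c) • m (σ i) := by
          rw [hmdef, Matrix.mulVec_sub, h1, h2', hmdef, neg_smul, smul_sub, neg_sub]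
        rw [hgm]
        exact M.smul_mem _ (hmM (σ i))
  have hPmaps : ∀ g ∈ H, ∀ w ∈ P, (g : Matrix (Fin n) (Fin n) F) *ᵥ w ∈ P := by
    intro g hg w hw
    rw [hP] at hw
    exact tx2spq3b_span_maps _ p P (hmaps g hg).1 w hw
  have hMmaps : ∀ g ∈ H, ∀ w ∈ M, (g : Matrix (Fin n) (Fin n) F) *ᵥ w ∈ M := by
    intro g hg w hw
    rw [hM] at hw
    exact tx2spq3b_span_maps _ m M (hmaps g hg).2 w hw
  have h01 : (0 : Fin 2) ≠ 1 := by decide
  have huniv : ∀ i : Fin 2, i = 0 ∨ i = 1 := by decide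
  refine ⟨⟨⟨le_refl 2, htpos, ?_, ?_, ?_⟩, ?_, ?_⟩, ?_⟩
  · rw [Fin.forall_fin_two]
    exact ⟨hPd, hMd⟩
  · exact (iSupIndep_pair h01 huniv).mpr (disjoint_iff.mpr hR)
  · rw [eq_top_iff, ← hD.decomp.decomp.iSup_eq_top]
    exact iSup_le fun i => (hDle i).trans (sup_le (le_iSup ![P, M] 0) (le_iSup ![P, M] 1))
  · rw [Fin.forall_fin_two]
    exact ⟨hPnd, hMnd⟩
  · intro i j hij
    rcases huniv i with rfl | rfl <;> rcases huniv j with rfl | rfl
    · exact absurd rfl hij
    · intro a ha b hb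
      exact hPM a ha b hb
    · intro b hb a ha
      rw [QuadraticMap.polar_comm]
      exact hPM a ha b hb
    · exact absurd rfl hij
  · intro g hg
    refine ⟨1, ?_⟩
    rw [Fin.forall_fin_two]
    exact ⟨tx2spq3b_map_eq H P hPmaps g hg, tx2spq3b_map_eq H M hMmaps g hg⟩

end Cfsg.Agent.Lib.Helper15.TX2S
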