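import Mathlib
import Cfsg.Prelude.Def_GeometricClasses
import Cfsg.Agent.Lib.Helper27.ASC.Defs
import Cfsg.Agent.Lib.helper23.ASCO.Defs
import Cfsg.Agent.Lib.Helper19.ASG.Defs
import Cfsg.Agent.Lib.Helper1.ASGCLIF3
import Cfsg.Agent.Lib.Helper25.ASO.Defs
import Cfsg.Agent.Lib.helper23.ASE.Defs
import Cfsg.Agent.Lib.Helper27.E10P.Defs
import Cfsg.Agent.Lib.helper4.TX2SPQ3b

set_option autoImplicit false
set_option linter.unusedVariables false
set_option linter.unusedSectionVars false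

/-!
# Project E10P (S5847), piece P2Q3 : `planes_q3` (from `Helper15.TX2S.tx2spq3b_struct` and helper24's `tx2spq3_not_iso`)
-/

namespace Cfsg.Agent.Lib.Helper27.E10P

open Cfsg Cfsg.Geo Cfsg.Agent.Lib.Helper27.ASC Cfsg.Agent.Lib.helper23.ASCO Cfsg.Agent.Lib.Helper19.ASG
  Cfsg.Agent.Lib.Helper25.ASO Cfsg.Agent.Lib.helper23.ASE
open scoped MatrixGroups Matrix Kronecker

variable {n : ℕ} {F : Type*} [Field F] [Fintype F]

/-- P2Q3 : `|F| = 3`, an odd number `t` of plus-type planes: in `D i` the vectors with `Q = 1` span a line `L_i⁺`, those with `Q = -1` a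
line `L_i⁻`, `D i = L_i⁺ ⊥ L_i⁻`; `W⁺ = ⨁ L_i⁺`, `W⁻ = ⨁ L_i⁻` are non-degenerate of dimension `t`, orthogonal, permuted (hence fixed) by
the isometries permuting the planes, and not isometric (`Q` is `∑ x_i²` on one and `-∑ x_i²` on the other, `(-1)^t = -1` is a
non-square: `Helper16.QuadClass` `forward`). -/
theorem planes_q3 (hq : Fintype.card F = 3) (Q : QuadraticForm F (Fin n → F))
    (hQ : (QuadraticMap.polarBilin Q).Nondegenerate) {t : ℕ} (ht : Odd t) (D : Fin t → Submodule F (Fin n → F))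
    (hD : IsOrthogonalMDecomposition (⇑Q) 2 D) (hp : ∀ i, IsPlusTypeOn (⇑Q) (D i)) :
    ∃ D' : Fin 2 → Submodule F (Fin n → F), IsNondegenerateMDecomposition (QuadraticMap.polar (⇑Q)) t D' ∧
      ¬ AreIsometricFor (⇑Q) (D' 0) (D' 1) ∧
      decompositionStabilizer D ⊓ isometryGroup F (⇑Q) ≤ decompositionStabilizer D' := by
  have h2 := Cfsg.Agent.Lib.Helper15.TX2S.tx2spq3b_two_ne hq
  obtain ⟨p, m, hQp, hQm, hdec, hstab⟩ := Cfsg.Agent.Lib.Helper15.TX2S.tx2spq3b_struct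
    (Cfsg.Agent.Lib.Helper15.TX2S.tx2spq3b_elems hq) h2 Q D hD hp
  exact ⟨_, hdec, Cfsg.Agent.Lib.Helper15.TX2S.tx2spq3_not_iso
    (Cfsg.Agent.Lib.Helper15.TX2S.tx2spq3b_not_sq hq) h2 Q ht p m hQp hQm, hstab⟩

end Cfsg.Agent.Lib.Helper27.E10P
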