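import Mathlib
import Cfsg.Prelude.Def_GeometricClasses
import Cfsg.Agent.Lib.Helper27.ASC.Defs
import Cfsg.Agent.Lib.helper23.ASCO.Defs
import Cfsg.Agent.Lib.Helper19.ASG.Defs
import Cfsg.Agent.Lib.Helper1.ASGCLIF3
import Cfsg.Agent.Lib.Helper25.ASO.Defs
import Cfsg.Agent.Lib.helper23.ASE.Defs
import Cfsg.Agent.Lib.Helper27.E10P.Defs
import Cfsg.Agent.Lib.Helper24.TX2SPQ4

set_option autoImplicit false
set_option linter.unusedVariables false
set_option linter.unusedSectionVars false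

/-!
# Project E10P (S5847), piece P2Q4 : `planes_q4` (wrapper of helper24's landed `Helper15.TX2S.plus_planes_q4`)
-/

namespace Cfsg.Agent.Lib.Helper27.E10P

open Cfsg Cfsg.Geo Cfsg.Agent.Lib.Helper27.ASC Cfsg.Agent.Lib.helper23.ASCO Cfsg.Agent.Lib.Helper19.ASG
  Cfsg.Agent.Lib.Helper25.ASO Cfsg.Agent.Lib.helper23.ASE
open scoped MatrixGroups Matrix Kronecker

variable {n : ℕ} {F : Type*} [Field F] [Fintype F]

/-- P2Q4 : `|F| = 4`, plus-type planes: the three vectors of `D i` with `Q = 1` together with `0` form an `F₂`-subspace `Λ_i`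
(`(1,1) + (ω, ω²) = (ω², ω)` in hyperbolic coordinates), `Q` is `F₂`-valued on `⨁ Λ_i` (an `O_10^-(2)`-structure), and the isometries
permuting the planes preserve `⨁ Λ_i`: they lie in the subfield group. -/
theorem planes_q4 (hq : Fintype.card F = 4) (Q : QuadraticForm F (Fin n → F))
    (hQ : (QuadraticMap.polarBilin Q).Nondegenerate) {t : ℕ} (D : Fin t → Submodule F (Fin n → F))
    (hD : IsOrthogonalMDecomposition (⇑Q) 2 D) (hp : ∀ i, IsPlusTypeOn (⇑Q) (D i)) :
    ∃ (F₁ : Subfield F) (B : GL (Fin n) F), Fintype.card F = Nat.card F₁ ^ 2 ∧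
      IsQuadFormRationalStructure (⇑Q) F₁ B ∧
      decompositionStabilizer D ⊓ isometryGroup F (⇑Q) ≤ subfieldSubgroup F₁ B := by
  obtain ⟨F₀, P, hc, hr, hs⟩ := Cfsg.Agent.Lib.Helper15.TX2S.plus_planes_q4 hq Q D hD hp
  refine ⟨F₀, P, ?_, hr, hs⟩
  rw [hq, hc] <;> norm_num

end Cfsg.Agent.Lib.Helper27.E10P
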