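import Mathlib
import Cfsg.Agent.Lib.Helper27.WSP.Defs
import Cfsg.Agent.Lib.helper14.SpBNm

/-! # WSP piece C4 : `Mexp_one`, `Mexp_mul`, `Uup_toBlocks₂₁` -/

set_option autoImplicit false

namespace Cfsg.Agent.Lib.Helper27.WSP

open Matrix

section C

variable {F : Type*} [Field F] {n : ℕ}

/-- block form of a symplectic matrix with vanishing lower left block: `D Aᵀ = 1` and `C Aᵀ`
symmetric -/
theorem h4_blocks (g : ↥(Matrix.symplecticGroup (Fin n) F))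
    (hg : (g : Matrix (Fin n ⊕ Fin n) (Fin n ⊕ Fin n) F).toBlocks₂₁ = 0) :
    (g : Matrix (Fin n ⊕ Fin n) (Fin n ⊕ Fin n) F).toBlocks₂₂ *
        ((g : Matrix (Fin n ⊕ Fin n) (Fin n ⊕ Fin n) F).toBlocks₁₁)ᵀ = 1 ∧
      ((g : Matrix (Fin n ⊕ Fin n) (Fin n ⊕ Fin n) F).toBlocks₁₂ *
        ((g : Matrix (Fin n ⊕ Fin n) (Fin n ⊕ Fin n) F).toBlocks₁₁)ᵀ)ᵀ =
      (g : Matrix (Fin n ⊕ Fin n) (Fin n ⊕ Fin n) F).toBlocks₁₂ *
        ((g : Matrix (Fin n ⊕ Fin n) (Fin n ⊕ Fin n) F).toBlocks₁₁)ᵀ := by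
  set M : Matrix (Fin n ⊕ Fin n) (Fin n ⊕ Fin n) F := (g : Matrix (Fin n ⊕ Fin n) (Fin n ⊕ Fin n) F) with hM
  have hJ : M * Matrix.J (Fin n) F * Mᵀ = Matrix.J (Fin n) F := SymplecticGroup.mem_iff.1 g.2
  have hMb : M = fromBlocks M.toBlocks₁₁ M.toBlocks₁₂ 0 M.toBlocks₂₂ := by
    rw [← hg]
    exact (Matrix.fromBlocks_toBlocks M).symm
  set A := M.toBlocks₁₁
  set C := M.toBlocks₁₂
  set D := M.toBlocks₂₂
  rw [hMb, Matrix.J, Matrix.fromBlocks_transpose, Matrix.fromBlocks_multiply,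
    Matrix.fromBlocks_multiply, Matrix.fromBlocks_inj] at hJ
  obtain ⟨h11, h12, h21, h22⟩ := hJ
  simp only [Matrix.mul_zero, Matrix.zero_mul, Matrix.mul_one, Matrix.mul_neg, zero_add, add_zero,
    Matrix.neg_mul, Matrix.transpose_zero, neg_zero] at h11 h12 h21 h22
  refine ⟨h21, ?_⟩
  rw [Matrix.transpose_mul, Matrix.transpose_transpose]
  -- h11 : C * Aᵀ + -(A * Cᵀ) = 0
  have := h11
  rw [add_neg_eq_zero] at this
  exact this.symm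

/-- C4 -/
theorem Uup_toBlocks₂₁ (g : ↥(Matrix.symplecticGroup (Fin n) F))
    (hg : g ∈ Cfsg.Agent.Lib.helper14.SpBN.Uup n F) :
    (g : Matrix (Fin n ⊕ Fin n) (Fin n ⊕ Fin n) F).toBlocks₂₁ = 0 := by
  have hB : (g : Matrix (Fin n ⊕ Fin n) (Fin n ⊕ Fin n) F).BlockTriangular
      Cfsg.Agent.Lib.helper14.SpBN.rk := hg.1
  ext i j
  rw [Matrix.toBlocks₂₁, Matrix.of_apply, Matrix.zero_apply]
  apply hB
  rw [Cfsg.Agent.Lib.helper14.SpBN.rk_inl, Cfsg.Agent.Lib.helper14.SpBN.rk_inr]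
  have := i.2
  have := j.2
  omega

/-- C4 -/
theorem Mexp_one (ψ : AddChar F ℂ) :
    Mexp ψ (1 : ↥(Matrix.symplecticGroup (Fin n) F)) = 1 := by
  apply LinearMap.ext
  intro f
  funext x
  rw [Mexp_apply]
  have h1 : ((1 : ↥(Matrix.symplecticGroup (Fin n) F)) :
      Matrix (Fin n ⊕ Fin n) (Fin n ⊕ Fin n) F) = 1 := rfl
  rw [h1]
  have h11 : (1 : Matrix (Fin n ⊕ Fin n) (Fin n ⊕ Fin n) F).toBlocks₁₁ = 1 := by
    ext i j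
    simp [Matrix.toBlocks₁₁, Matrix.one_apply]
  have h12 : (1 : Matrix (Fin n ⊕ Fin n) (Fin n ⊕ Fin n) F).toBlocks₁₂ = 0 := by
    ext i j
    simp [Matrix.toBlocks₁₂]
  rw [h11, h12]
  simp

/-- C4 -/
theorem Mexp_mul (ψ : AddChar F ℂ) (g g' : ↥(Matrix.symplecticGroup (Fin n) F))
    (hg : (g : Matrix (Fin n ⊕ Fin n) (Fin n ⊕ Fin n) F).toBlocks₂₁ = 0)
    (hg' : (g' : Matrix (Fin n ⊕ Fin n) (Fin n ⊕ Fin n) F).toBlocks₂₁ = 0) :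
    Mexp ψ (g * g') = Mexp ψ g * Mexp ψ g' := by
  obtain ⟨hDA', -⟩ := h4_blocks g' hg'
  set M : Matrix (Fin n ⊕ Fin n) (Fin n ⊕ Fin n) F := (g : Matrix (Fin n ⊕ Fin n) (Fin n ⊕ Fin n) F) with hM
  set M' : Matrix (Fin n ⊕ Fin n) (Fin n ⊕ Fin n) F := (g' : Matrix (Fin n ⊕ Fin n) (Fin n ⊕ Fin n) F) with hM'
  have hMb : M = fromBlocks M.toBlocks₁₁ M.toBlocks₁₂ 0 M.toBlocks₂₂ := by
    rw [← hg]
    exact (Matrix.fromBlocks_toBlocks M).symm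
  have hMb' : M' = fromBlocks M'.toBlocks₁₁ M'.toBlocks₁₂ 0 M'.toBlocks₂₂ := by
    rw [← hg']
    exact (Matrix.fromBlocks_toBlocks M').symm
  have hprod : ((g * g' : ↥(Matrix.symplecticGroup (Fin n) F)) :
      Matrix (Fin n ⊕ Fin n) (Fin n ⊕ Fin n) F) = M * M' := rfl
  have h11 : (M * M').toBlocks₁₁ = M.toBlocks₁₁ * M'.toBlocks₁₁ := by
    conv_lhs => rw [hMb, hMb', Matrix.fromBlocks_multiply, Matrix.toBlocks_fromBlocks₁₁]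
    simp
  have h12 : (M * M').toBlocks₁₂ = M.toBlocks₁₁ * M'.toBlocks₁₂ + M.toBlocks₁₂ * M'.toBlocks₂₂ := by
    conv_lhs => rw [hMb, hMb', Matrix.fromBlocks_multiply, Matrix.toBlocks_fromBlocks₁₂]
  apply LinearMap.ext
  intro f
  funext x
  rw [Module.End.mul_apply, Mexp_apply, Mexp_apply, Mexp_apply, hprod, h11, h12]
  set A := M.toBlocks₁₁
  set C := M.toBlocks₁₂
  set A' := M'.toBlocks₁₁
  set C' := M'.toBlocks₁₂
  set D' := M'.toBlocks₂₂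
  rw [← mul_assoc, ← AddChar.map_add_eq_mul]
  have e1 : (A * A')ᵀ *ᵥ x = A'ᵀ *ᵥ (Aᵀ *ᵥ x) := by
    rw [Matrix.transpose_mul, Matrix.mulVec_mulVec]
  have e2 : x ⬝ᵥ ((A * C' + C * D') * (A * A')ᵀ) *ᵥ x =
      x ⬝ᵥ (C * Aᵀ) *ᵥ x + (Aᵀ *ᵥ x) ⬝ᵥ (C' * A'ᵀ) *ᵥ (Aᵀ *ᵥ x) := by
    have h3 : (A * C' + C * D') * (A * A')ᵀ = C * Aᵀ + A * (C' * A'ᵀ) * Aᵀ := by
      rw [Matrix.transpose_mul, Matrix.add_mul, add_comm]
      congr 1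
      · rw [Matrix.mul_assoc, ← Matrix.mul_assoc D', hDA', Matrix.one_mul]
      · simp only [Matrix.mul_assoc]
    rw [h3, Matrix.add_mulVec, dotProduct_add]
    congr 1
    have h4 : ∀ y : Fin n → F, (Aᵀ *ᵥ x) ⬝ᵥ y = x ⬝ᵥ A *ᵥ y := by
      intro y
      rw [Matrix.mulVec_transpose, ← Matrix.dotProduct_mulVec]
    rw [h4, Matrix.mulVec_mulVec, Matrix.mulVec_mulVec]
  rw [e1, e2]
  congr 2
  ring
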