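import Mathlib
import Cfsg.Agent.Lib.Helper27.WSP.Defs
import Cfsg.Agent.Lib.helper4.WSPC4

/-! # WSP piece C5 : `Mexp_weyl` -/

set_option autoImplicit false

namespace Cfsg.Agent.Lib.Helper27.WSP

open Matrix

section C

variable {F : Type*} [Field F] {n : ℕ}

theorem h4_vl_mulVec (A B C D : Matrix (Fin n) (Fin n) F) (v : Fin n ⊕ Fin n → F) :
    vl (fromBlocks A B C D *ᵥ v) = A *ᵥ vl v + B *ᵥ vr v := by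
  rw [Matrix.fromBlocks_mulVec]
  rfl

theorem h4_vr_mulVec (A B C D : Matrix (Fin n) (Fin n) F) (v : Fin n ⊕ Fin n → F) :
    vr (fromBlocks A B C D *ᵥ v) = C *ᵥ vl v + D *ᵥ vr v := by
  rw [Matrix.fromBlocks_mulVec]
  rfl

theorem h4_arg (A D : Matrix (Fin n) (Fin n) F) (hDA : D * Aᵀ = 1) (b x : Fin n → F) :
    Aᵀ *ᵥ (x + D *ᵥ b) = Aᵀ *ᵥ x + b := by
  have hAD : Aᵀ * D = 1 := mul_eq_one_comm.mp hDA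
  rw [Matrix.mulVec_add, Matrix.mulVec_mulVec, hAD, Matrix.one_mulVec]

theorem h4_phase (h2 : (2 : F) ≠ 0) (A C D : Matrix (Fin n) (Fin n) F) (hDA : D * Aᵀ = 1)
    (hS : (C * Aᵀ)ᵀ = C * Aᵀ) (a b x : Fin n → F) :
    -(2⁻¹ * (x ⬝ᵥ (C * Aᵀ) *ᵥ x)) + (a ⬝ᵥ (Aᵀ *ᵥ x) + 2⁻¹ * (a ⬝ᵥ b)) =
      ((A *ᵥ a + C *ᵥ b) ⬝ᵥ x + 2⁻¹ * ((A *ᵥ a + C *ᵥ b) ⬝ᵥ (D *ᵥ b))) +
        -(2⁻¹ * ((x + D *ᵥ b) ⬝ᵥ (C * Aᵀ) *ᵥ (x + D *ᵥ b))) := by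
  have hAD : Aᵀ * D = 1 := mul_eq_one_comm.mp hDA
  have h2' : (2 : F)⁻¹ * 2 = 1 := inv_mul_cancel₀ h2
  have e1 : (C * Aᵀ) *ᵥ (D *ᵥ b) = C *ᵥ b := by
    rw [Matrix.mulVec_mulVec, Matrix.mul_assoc, hAD, Matrix.mul_one]
  have e2 : ∀ y : Fin n → F, a ⬝ᵥ (Aᵀ *ᵥ y) = (A *ᵥ a) ⬝ᵥ y := by
    intro y
    rw [Matrix.dotProduct_mulVec, Matrix.vecMul_transpose]
  have e3 : (A *ᵥ a) ⬝ᵥ (D *ᵥ b) = a ⬝ᵥ b := by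
    rw [← e2, Matrix.mulVec_mulVec, hAD, Matrix.one_mulVec]
  have e4 : (D *ᵥ b) ⬝ᵥ (C * Aᵀ) *ᵥ x = (C *ᵥ b) ⬝ᵥ x := by
    rw [Matrix.dotProduct_mulVec, ← Matrix.mulVec_transpose, hS, e1]
  have e5 : x ⬝ᵥ C *ᵥ b = (C *ᵥ b) ⬝ᵥ x := dotProduct_comm _ _
  have e6 : (D *ᵥ b) ⬝ᵥ C *ᵥ b = (C *ᵥ b) ⬝ᵥ (D *ᵥ b) := dotProduct_comm _ _
  simp only [Matrix.mulVec_add, dotProduct_add, add_dotProduct, e1, e4, e2, e3, e5, e6]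
  linear_combination ((C *ᵥ b) ⬝ᵥ x) * h2'

/-- C5 -/
theorem Mexp_weyl (h2 : (2 : F) ≠ 0) (ψ : AddChar F ℂ)
    (g : ↥(Matrix.symplecticGroup (Fin n) F))
    (hg : (g : Matrix (Fin n ⊕ Fin n) (Fin n ⊕ Fin n) F).toBlocks₂₁ = 0)
    (v : Fin n ⊕ Fin n → F) :
    Mexp ψ g * weyl ψ v = weyl ψ (spAct n F g v) * Mexp ψ g := by
  obtain ⟨hDA, hS⟩ := h4_blocks g hg
  have hMb : (g : Matrix (Fin n ⊕ Fin n) (Fin n ⊕ Fin n) F) =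
      fromBlocks (g : Matrix (Fin n ⊕ Fin n) (Fin n ⊕ Fin n) F).toBlocks₁₁
        (g : Matrix (Fin n ⊕ Fin n) (Fin n ⊕ Fin n) F).toBlocks₁₂ 0
        (g : Matrix (Fin n ⊕ Fin n) (Fin n ⊕ Fin n) F).toBlocks₂₂ := by
    rw [← hg]
    exact (Matrix.fromBlocks_toBlocks _).symm
  have hvl : vl (spAct n F g v) =
      (g : Matrix (Fin n ⊕ Fin n) (Fin n ⊕ Fin n) F).toBlocks₁₁ *ᵥ vl v +
        (g : Matrix (Fin n ⊕ Fin n) (Fin n ⊕ Fin n) F).toBlocks₁₂ *ᵥ vr v := by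
    rw [spAct_apply]
    conv_lhs => rw [hMb]
    exact h4_vl_mulVec _ _ _ _ v
  have hvr : vr (spAct n F g v) =
      (g : Matrix (Fin n ⊕ Fin n) (Fin n ⊕ Fin n) F).toBlocks₂₂ *ᵥ vr v := by
    rw [spAct_apply]
    conv_lhs => rw [hMb]
    rw [h4_vr_mulVec, Matrix.zero_mulVec, zero_add]
  apply LinearMap.ext
  intro f
  funext x
  rw [Module.End.mul_apply, Module.End.mul_apply, Mexp_apply, weyl_apply, weyl_apply, Mexp_apply,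
    hvl, hvr, ← mul_assoc, ← mul_assoc, ← AddChar.map_add_eq_mul, ← AddChar.map_add_eq_mul,
    h4_arg _ _ hDA, h4_phase h2 _ _ _ hDA hS]

end C

end Cfsg.Agent.Lib.Helper27.WSP
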