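import Mathlib
import Cfsg.Agent.Lib.Helper28.BP2.Defs
import Cfsg.Agent.Lib.helper4.BP2U2

/-!
# BP2 row U12 (`normalizer_le_PB`): if `1 ≠ Q ≤ PU F` then `N(Q) ≤ PB F`.
-/

set_option autoImplicit false

namespace Cfsg.Agent.Lib.Helper28.BP2

open Cfsg.Agent.Lib.helper14

universe u v w

section Util

variable {F : Type u} [Field F]

variable [Fintype F]

/-- **U12**. -/
theorem normalizer_le_PB (Q : Subgroup (PSL2 F)) (hQ : Q ≤ PU F) (hQ1 : Q ≠ ⊥) :
    Subgroup.normalizer ((Q : Subgroup (PSL2 F)) : Set (PSL2 F)) ≤ PB F := by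
  intro n hn
  obtain ⟨z, hzQ, hz1⟩ : ∃ z ∈ Q, z ≠ 1 := by
    by_contra hcon
    push_neg at hcon
    exact hQ1 ((Subgroup.eq_bot_iff_forall Q).2 hcon)
  obtain ⟨u, huU, huz⟩ := Subgroup.mem_map.1 (hQ hzQ)
  obtain ⟨x, rfl⟩ := (mem_US u).1 huU
  have hx : x ≠ 0 := by
    intro h0
    apply hz1
    rw [← huz, h0, uS_zero, map_one]
  have hsurj : Function.Surjective (pr F) := QuotientGroup.mk'_surjective _
  obtain ⟨g, rfl⟩ := hsurj n
  have hc : (pr F g)⁻¹ * z * (pr F g) ∈ Q := by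
    have h1 := (Subgroup.mem_normalizer_iff.1 (Subgroup.inv_mem _ hn) z).1 hzQ
    rwa [inv_inv] at h1
  have hc' : pr F (g⁻¹ * uS x * g) ∈ PU F := by
    rw [map_mul, map_mul, map_inv, huz]
    exact hQ hc
  obtain ⟨v, hvU, hv⟩ := Subgroup.mem_map.1 hc'
  obtain ⟨y, rfl⟩ := (mem_US v).1 hvU
  show pr F g ∈ (BS F).map (pr F)
  refine Subgroup.mem_map_of_mem (pr F) (?_ : g ∈ BS F)
  rcases (pr_eq_iff _ _).1 hv with h | h
  · exact mem_BS_of_conj_uS g x hx (by rw [← h]; exact uS_mem y)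
  · by_cases h2 : (2 : F) = 0
    · have hneg : -(g⁻¹ * uS x * g) = g⁻¹ * uS x * g := by
        apply Subtype.ext
        rw [Matrix.SpecialLinearGroup.coe_neg]
        ext i j
        rw [Matrix.neg_apply, neg_eq_iff_add_eq_zero, ← two_mul, h2, zero_mul]
      rw [hneg] at h
      exact mem_BS_of_conj_uS g x hx (by rw [← h]; exact uS_mem y)
    · have hxx : x + x ≠ 0 := by
        rw [← two_mul]
        exact mul_ne_zero h2 hx
      have hsq : g⁻¹ * uS (x + x) * g = uS (y + y) := by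
        rw [← uS_mul, ← uS_mul, h, neg_mul_neg]
        group
      exact mem_BS_of_conj_uS g (x + x) hxx (by rw [hsq]; exact uS_mem _)

end Util

end Cfsg.Agent.Lib.Helper28.BP2
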