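import Mathlib
import Cfsg.Agent.Lib.Helper28.BP2.Defs

/-!
# BP2 row T5 (`binS_bot`): the regular action is binary.
-/

set_option autoImplicit false

namespace Cfsg.Agent.Lib.Helper28.BP2

open Cfsg.Agent.Lib.helper14

universe u v w

section Toolbox

variable {G : Type u} [Group G]

/-- **T5**.  the regular action is binary. -/
theorem binS_bot : BinS (⊥ : Subgroup G) := by
  intro n x y hn h
  have h0 : 0 < n := by omega
  refine ⟨y ⟨0, h0⟩ * (x ⟨0, h0⟩)⁻¹, fun i => ?_⟩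
  rw [Subgroup.mem_bot]
  by_cases hi : i = ⟨0, h0⟩
  · rw [hi]
    group
  · obtain ⟨g, hg0, hgi⟩ := h ⟨0, h0⟩ i (Ne.symm hi)
    rw [Subgroup.mem_bot] at hg0 hgi
    have hg : g = y ⟨0, h0⟩ * (x ⟨0, h0⟩)⁻¹ := by
      calc g = y ⟨0, h0⟩ * ((y ⟨0, h0⟩)⁻¹ * g * x ⟨0, h0⟩) * (x ⟨0, h0⟩)⁻¹ := by group
        _ = y ⟨0, h0⟩ * (x ⟨0, h0⟩)⁻¹ := by rw [hg0, mul_one]
    rw [← hg]
    exact hgi

end Toolbox

end Cfsg.Agent.Lib.Helper28.BP2
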