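import Mathlib

set_option autoImplicit false

namespace Cfsg.Agent.Lib.helper4

/-- the sixteen elements of `M24` fixing the base octad pointwise, as tables -/
def octFixTables : List (List ℕ) := [
   [0, 1, 2, 3, 4, 5, 6, 7, 8, 9, 10, 11, 12, 13, 14, 15, 16, 17, 18, 19, 20, 21, 22, 23],
   [0, 2, 1, 5, 13, 3, 10, 15, 11, 21, 6, 8, 12, 4, 14, 7, 16, 17, 18, 20, 19, 9, 22, 23],
   [0, 3, 5, 1, 8, 2, 19, 9, 4, 7, 20, 13, 12, 11, 14, 21, 16, 17, 18, 6, 10, 15, 22, 23],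
   [0, 4, 13, 8, 1, 11, 9, 19, 3, 6, 21, 5, 12, 2, 14, 20, 16, 17, 18, 7, 15, 10, 22, 23],
   [0, 5, 3, 2, 11, 1, 20, 21, 13, 15, 19, 4, 12, 8, 14, 9, 16, 17, 18, 10, 6, 7, 22, 23],
   [0, 6, 10, 19, 9, 20, 1, 8, 7, 4, 2, 15, 12, 21, 14, 11, 16, 17, 18, 3, 5, 13, 22, 23],
   [0, 7, 15, 9, 19, 21, 8, 1, 6, 3, 11, 10, 12, 20, 14, 2, 16, 17, 18, 4, 13, 5, 22, 23],
   [0, 8, 11, 4, 3, 13, 7, 6, 1, 19, 15, 2, 12, 5, 14, 10, 16, 17, 18, 9, 21, 20, 22, 23],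
   [0, 9, 21, 7, 6, 15, 4, 3, 19, 1, 13, 20, 12, 10, 14, 5, 16, 17, 18, 8, 11, 2, 22, 23],
   [0, 10, 6, 20, 21, 19, 2, 11, 15, 13, 1, 7, 12, 9, 14, 8, 16, 17, 18, 5, 3, 4, 22, 23],
   [0, 11, 8, 13, 5, 4, 15, 10, 2, 20, 7, 1, 12, 3, 14, 6, 16, 17, 18, 21, 9, 19, 22, 23],
   [0, 13, 4, 11, 2, 8, 21, 20, 5, 10, 9, 3, 12, 1, 14, 19, 16, 17, 18, 15, 7, 6, 22, 23],
   [0, 15, 7, 21, 20, 9, 11, 2, 10, 5, 8, 6, 12, 19, 14, 1, 16, 17, 18, 13, 4, 3, 22, 23],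
   [0, 19, 20, 6, 7, 10, 3, 4, 9, 8, 5, 21, 12, 15, 14, 13, 16, 17, 18, 1, 2, 11, 22, 23],
   [0, 20, 19, 10, 15, 6, 5, 13, 21, 11, 3, 9, 12, 7, 14, 4, 16, 17, 18, 2, 1, 8, 22, 23],
   [0, 21, 9, 15, 10, 7, 13, 5, 20, 2, 4, 19, 12, 6, 14, 3, 16, 17, 18, 11, 8, 1, 22, 23]]

end Cfsg.Agent.Lib.helper4
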