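import Mathlib
import Cfsg.Prelude.Def_Sporadic_a
import Cfsg.Agent.Lib.helper3.GolayCard
import Cfsg.Agent.Lib.helper4.OctadData

set_option autoImplicit false

namespace Cfsg.Agent.Lib.helper4

open Cfsg Cfsg.Agent.Lib.helper3
open scoped Pointwise

def O1 : ℕ := 13062145

theorem O1_eq : O1 = golayMask 1 := by decide

/-- pointwise stabilizer of the base octad -/
def K0 : Subgroup (Equiv.Perm GolayPt) :=
  M24 ⊓ fixingSubgroup (Equiv.Perm GolayPt) ((gset O1 : Finset GolayPt) : Set GolayPt)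

theorem mem_K0_iff {g : Equiv.Perm GolayPt} :
    g ∈ K0 ↔ g ∈ M24 ∧ ∀ y ∈ gset O1, g y = y := by
  unfold K0
  rw [Subgroup.mem_inf, mem_fixingSubgroup_iff]
  constructor
  · rintro ⟨h1, h2⟩
    exact ⟨h1, fun y hy => h2 y (Finset.mem_coe.mpr hy)⟩
  · rintro ⟨h1, h2⟩
    exact ⟨h1, fun y hy => h2 y (Finset.mem_coe.mp hy)⟩

def octTblOK (L : List ℕ) : Bool :=
  tblCheck L && (List.range 24).all (fun i => !O1.testBit i || L.getD i 0 == i) &&
    (List.range 24).all (fun i => L.getD (L.getD i 0) 0 == i)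

def octCertOK : Bool :=
  octFixTables.all octTblOK &&
    (List.range 24).all (fun q => O1.testBit q || octFixTables.any (fun L => L.getD 1 0 == q))

set_option maxRecDepth 1000000 in
theorem octCertOK_true : octCertOK = true := by decide +kernel

theorem exists_K0_map {q : ℕ} (hq : q < 24) (hqO : O1.testBit q = false) :
    ∃ g ∈ K0, g (gpt 1) = gpt q ∧ g * g = 1 := by
  have hc := octCertOK_true
  unfold octCertOK at hc
  rw [Bool.and_eq_true, List.all_eq_true, List.all_eq_true] at hc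
  obtain ⟨hc1, hc2⟩ := hc
  have h2 := hc2 q (List.mem_range.2 hq)
  rw [hqO, Bool.false_or, List.any_eq_true] at h2
  obtain ⟨L, hL, hLq⟩ := h2
  rw [beq_iff_eq] at hLq
  have h1 := hc1 L hL
  unfold octTblOK at h1
  simp only [Bool.and_eq_true, List.all_eq_true, List.mem_range, Bool.or_eq_true,
    Bool.not_eq_true', beq_iff_eq] at h1
  obtain ⟨⟨hchk, hfix⟩, hinv⟩ := h1
  obtain ⟨g, hg, hgf⟩ := exists_perm_of_tblCheck hchk
  obtain ⟨hlen, hlt, -, -⟩ := tblCheck_spec hchk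
  have hLlt : ∀ i < 24, L.getD i 0 < 24 := by
    intro i hi
    rw [List.getD_eq_getElem _ _ (by omega)]
    exact hlt _ (List.getElem_mem _)
  refine ⟨g, mem_K0_iff.mpr ⟨hg, ?_⟩, ?_, ?_⟩
  · intro y hy
    rw [mem_gset] at hy
    rw [hgf]
    unfold tblFun
    rcases hfix (gidx y) (gidx_lt y) with h | h
    · rw [hy] at h; exact absurd h (by decide)
    · rw [h, gpt_gidx]
  · rw [hgf, tblFun_gpt (by norm_num), hLq]
  · apply Equiv.ext
    intro p
    rw [Equiv.Perm.mul_apply, hgf p, hgf]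
    unfold tblFun
    rw [gidx_gpt (hLlt _ (gidx_lt p)), hinv _ (gidx_lt p), gpt_gidx]
    rfl

theorem K0_eq_one_of_fix {g : Equiv.Perm GolayPt} (hg : g ∈ K0) (h : g (gpt 1) = gpt 1) :
    g = 1 := by
  rw [mem_K0_iff] at hg
  apply eq_one_of_fixes hg.1
  intro p hp
  have key : ∀ i : Fin 24, (479235 : ℕ).testBit i = true → O1.testBit i = true ∨ i.val = 1 := by
    decide
  rcases key ⟨gidx p, gidx_lt p⟩ hp with h1 | h1
  · exact hg.2 p (mem_gset.mpr h1)
  · have : p = gpt 1 := by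
      apply gidx_injective
      rw [gidx_gpt (by norm_num)]
      exact h1
    rw [this, h]

theorem K0_compl {g : Equiv.Perm GolayPt} (hg : g ∈ K0) {p : GolayPt} (hp : p ∉ gset O1) :
    g p ∉ gset O1 := by
  rw [mem_K0_iff] at hg
  intro h
  have := hg.2 (g p) h
  have : g p = p := g.injective this
  rw [this] at h
  exact hp h

theorem K0_eq_table {g : Equiv.Perm GolayPt} (hg : g ∈ K0) : g * g = 1 := by
  have h1 : gpt 1 ∉ gset O1 := by
    rw [mem_gset, gidx_gpt (by norm_num)]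
    decide
  have h2 := K0_compl hg h1
  rw [mem_gset, Bool.not_eq_true] at h2
  obtain ⟨t, ht, htq, htt⟩ := exists_K0_map (gidx_lt (g (gpt 1))) h2
  rw [gpt_gidx] at htq
  have : t⁻¹ * g = 1 := by
    apply K0_eq_one_of_fix (K0.mul_mem (K0.inv_mem ht) hg)
    rw [Equiv.Perm.mul_apply, Equiv.Perm.inv_eq_iff_eq, htq]
  rw [inv_mul_eq_one] at this
  rw [← this]
  exact htt

theorem card_K0 : Nat.card K0 = 16 := by
  have h := card_eq_orbit_mul K0 ⊥ (gpt 1) (by
    intro g
    rw [Subgroup.mem_bot]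
    constructor
    · intro h; rw [h]; exact ⟨K0.one_mem, rfl⟩
    · rintro ⟨h1, h2⟩; exact K0_eq_one_of_fix h1 h2)
  rw [Subgroup.card_bot, mul_one] at h
  rw [h]
  have horb : MulAction.orbit K0 (gpt 1) = ((gset (16777215 ^^^ O1) : Finset GolayPt) : Set GolayPt) := by
    ext p
    rw [Finset.mem_coe, mem_gset, Nat.testBit_xor, testBit_full ⟨gidx p, gidx_lt p⟩]
    constructor
    · rintro ⟨g, rfl⟩
      have h1 : gpt 1 ∉ gset O1 := by
        rw [mem_gset, gidx_gpt (by norm_num)]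
        decide
      have h2 := K0_compl g.2 h1
      rw [mem_gset, Bool.not_eq_true] at h2
      change (true ^^ O1.testBit (gidx ((g : Equiv.Perm GolayPt) (gpt 1)))) = true
      rw [h2]
      rfl
    · intro hp
      have hpO : O1.testBit (gidx p) = false := by
        cases hb : O1.testBit (gidx p)
        · rfl
        · rw [hb] at hp; exact absurd hp (by decide)
      obtain ⟨g, hg, hgq, -⟩ := exists_K0_map (gidx_lt p) hpO
      refine ⟨⟨g, hg⟩, ?_⟩
      change g (gpt 1) = p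
      rw [hgq, gpt_gidx]
  rw [horb, Nat.card_coe_set_eq, Set.ncard_coe_finset, card_gset]
  decide

end Cfsg.Agent.Lib.helper4

namespace Cfsg.Agent.Lib.helper4

open Cfsg Cfsg.Agent.Lib.helper3
open scoped Pointwise

theorem mem_octFix_iff {o : Finset GolayPt} {g : Equiv.Perm GolayPt} :
    g ∈ M24 ⊓ fixingSubgroup (Equiv.Perm GolayPt) (o : Set GolayPt) ↔
      g ∈ M24 ∧ ∀ y ∈ o, g y = y := by
  rw [Subgroup.mem_inf, mem_fixingSubgroup_iff]
  constructor
  · rintro ⟨h1, h2⟩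
    exact ⟨h1, fun y hy => h2 y (Finset.mem_coe.mpr hy)⟩
  · rintro ⟨h1, h2⟩
    exact ⟨h1, fun y hy => h2 y (Finset.mem_coe.mp hy)⟩

theorem conj_mem_K0 {o : Finset GolayPt} {h : Equiv.Perm GolayPt} (hh : h ∈ M24)
    (ho : h • o = gset O1) {g : Equiv.Perm GolayPt}
    (hg : g ∈ M24 ⊓ fixingSubgroup (Equiv.Perm GolayPt) (o : Set GolayPt)) :
    h * g * h⁻¹ ∈ K0 := by
  rw [mem_octFix_iff] at hg
  rw [mem_K0_iff]
  refine ⟨M24.mul_mem (M24.mul_mem hh hg.1) (M24.inv_mem hh), ?_⟩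
  intro y hy
  rw [← ho] at hy
  obtain ⟨x, hx, rfl⟩ := Finset.mem_smul_finset.mp hy
  change (h * g * h⁻¹) (h x) = h x
  have e : h⁻¹ (h x) = x := Equiv.Perm.inv_eq_iff_eq.mpr rfl
  rw [Equiv.Perm.mul_apply, Equiv.Perm.mul_apply, e, hg.2 x hx]

theorem conj_mem_octFix {o : Finset GolayPt} {h : Equiv.Perm GolayPt} (hh : h ∈ M24)
    (ho : h • o = gset O1) {k : Equiv.Perm GolayPt} (hk : k ∈ K0) :
    h⁻¹ * k * h ∈ M24 ⊓ fixingSubgroup (Equiv.Perm GolayPt) (o : Set GolayPt) := by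
  rw [mem_K0_iff] at hk
  rw [mem_octFix_iff]
  refine ⟨M24.mul_mem (M24.mul_mem (M24.inv_mem hh) hk.1) hh, ?_⟩
  intro x hx
  have hy : h x ∈ gset O1 := by
    rw [← ho]
    exact Finset.smul_mem_smul_finset hx
  have e : h⁻¹ (h x) = x := Equiv.Perm.inv_eq_iff_eq.mpr rfl
  rw [Equiv.Perm.mul_apply, Equiv.Perm.mul_apply, hk.2 _ hy, e]

theorem octad_fix (o : Finset GolayPt) (ho : o ∈ octads) :
    Nat.card ↥(M24 ⊓ fixingSubgroup (Equiv.Perm GolayPt) (o : Set GolayPt)) = 16 ∧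
      ∀ g ∈ M24 ⊓ fixingSubgroup (Equiv.Perm GolayPt) (o : Set GolayPt), g * g = 1 := by
  obtain ⟨h, hh, hho⟩ := octad_to_base ho
  rw [← O1_eq] at hho
  refine ⟨?_, ?_⟩
  · rw [← card_K0]
    apply Nat.card_congr
    exact
      { toFun := fun g => ⟨h * g.1 * h⁻¹, conj_mem_K0 hh hho g.2⟩
        invFun := fun k => ⟨h⁻¹ * k.1 * h, conj_mem_octFix hh hho k.2⟩
        left_inv := fun g => by
          apply Subtype.ext
          simp only
          group
        right_inv := fun k => by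
          apply Subtype.ext
          simp only
          group }
  · intro g hg
    have := K0_eq_table (conj_mem_K0 hh hho hg)
    have e : h * g * h⁻¹ * (h * g * h⁻¹) = h * (g * g) * h⁻¹ := by group
    rw [e] at this
    have e2 : g * g = h⁻¹ * (h * (g * g) * h⁻¹) * h := by group
    rw [e2, this]
    group

end Cfsg.Agent.Lib.helper4
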