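import Cfsg.Agent.Lib.helper4.TOOGC7core
import Cfsg.Agent.Lib.Helper28.TOOGC6core
import Cfsg.Agent.Lib.Helper13.TOOGA6
import Cfsg.Agent.Lib.helper2.TOOGA7
import Cfsg.Agent.Lib.Helper13.TOOGC4

/-!
# Project TOO (S5681), row GC7 (`meet`), verbatim (helper4).

Assembled from `toogc7_core` (helper4), `toogc6_core` (helper28, the `pgrp` core), GA6 (`NV_sq`, `NV_ker`,
`NV_range`), GA7 (`xpl_mem_T1`) and GC5 (`c1_img`).  Does not need the verbatim GC6 wrapper: since `5 ≤ b` here,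
`x_W(c) ∈ T1 ≤ K0` by GA7.
-/

set_option autoImplicit false
set_option linter.unusedVariables false
set_option linter.unusedSectionVars false

namespace Cfsg.Agent.Lib.Helper28.TOO

open Matrix
open scoped Kronecker
open Cfsg.Agent.Lib.helper7.TP Cfsg.Agent.Lib.Helper21.TS

variable {a b : ℕ} {F : Type*} [Field F]
variable {J1 : Matrix (Fin a) (Fin a) F} {J2 : Matrix (Fin b) (Fin b) F}

/-- `T1 ≤ K0`. -/
theorem toogc7_T1_le_K0 : T1 J1 J2 ≤ K0 a b F := by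
  apply sup_le
  · rintro _ ⟨α, _, rfl⟩
    exact Cfsg.Agent.Lib.helper7.TO.kA_mem_K0 α
  · rintro _ ⟨β, _, rfl⟩
    exact Cfsg.Agent.Lib.helper7.TO.kB_mem_K0 β

/-- the instance of `pgrp` (row GC6) for `5 ≤ b`, from `toogc6_core`. -/
theorem toogc7_pgrp [Fintype F] (p : ℕ) [Fact p.Prime] (C : OCtx J1 J2) (ha : 1 ≤ a) (hab : a < b) (hb : 5 ≤ b)
    (M : Subgroup (Matrix.GeneralLinearGroup (Fin a × Fin b) F)) (hMO : M ≤ OV J1 J2) (hS : StabPl (a := a) J2 M)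
    (Q : Subgroup (Matrix.GeneralLinearGroup (Fin a × Fin b) F)) (hQM : Q ≤ M) (hQ : IsPGroup p Q)
    (w₁ w₂ : Fin b → F) (hw : IsTS J2 w₁ w₂) (c : F) (hc : c ≠ 0)
    (hx : InM Q (1 + c • NV (a := a) J2 w₁ w₂)) : Q ≤ K0 a b F :=
  toogc6_core p M hMO hS Q hQM hQ w₁ w₂ hw c hc
    (fun h γ hK hO hconj => c1_img C ha hab h γ hK hO w₁ w₂ hw c hc hconj)
    (fun g hgv => by
      obtain ⟨g', hg'T, hg'⟩ := xpl_mem_T1 (J1 := J1) C hb w₁ w₂ hw c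
      have hgg' : g = g' := Units.ext (by rw [hgv]; exact hg'.symm)
      rw [hgg']
      exact toogc7_T1_le_K0 hg'T)
    hx

/-- GC7 [M-L]. MEET (port of `Helper28.TS4MEET.meetA_of_ufpA`): Sylow trick in `D = ⟨x, y⟩`, `x = x_W(1)`,
`y = g x_{W₀}(1) g⁻¹`: `P` a Sylow `p`-subgroup of `D` containing `x`, `v ∈ D` with `v y v⁻¹ ∈ P`; `P ≤ K0` (pgrp), so
`v y v⁻¹ = (v g) x_{W₀}(1) (v g)⁻¹ ∈ K0`, `v S = L_{W'}` (c1_img); every element of `D` fixes `L^⊥ ∩ S^⊥` pointwise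
(so `S ∩ L^⊥ = v (S ∩ L^⊥) ≤ v S`) and moves every vector by an element of `L + S` (so `v S ≤ L + S`). -/
theorem meet [Fintype F] (p : ℕ) [Fact p.Prime] [CharP F p] (C : OCtx J1 J2) (ha : 1 ≤ a) (hab : a < b) (hb : 5 ≤ b)
    (M : Subgroup (Matrix.GeneralLinearGroup (Fin a × Fin b) F)) (hT : T1 J1 J2 ≤ M) (hMO : M ≤ OV J1 J2)
    (hS : StabPl (a := a) J2 M)
    (g : Matrix.GeneralLinearGroup (Fin a × Fin b) F) (hg : g ∈ M)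
    (w₀₁ w₀₂ w₁ w₂ : Fin b → F) (h₀ : IsTS J2 w₀₁ w₀₂) (hw : IsTS J2 w₁ w₂) :
    ∃ w₁' w₂' : Fin b → F, IsTS J2 w₁' w₂' ∧
      img g (Lpl (a := a) w₀₁ w₀₂) ⊓ perp (JV J1 J2) (Lpl (a := a) w₁ w₂) ≤ Lpl (a := a) w₁' w₂' ∧
      Lpl (a := a) w₁' w₂' ≤ Lpl (a := a) w₁ w₂ ⊔ img g (Lpl (a := a) w₀₁ w₀₂) :=
  toogc7_core p C M hT hMO g hg w₀₁ w₀₂ w₁ w₂ h₀ hw
    (fun w₁ w₂ h => NV_sq C w₁ w₂ h)
    (fun w₁ w₂ h => NV_ker C w₁ w₂ h)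
    (fun w₁ w₂ h => NV_range C w₁ w₂ h)
    (fun w₁ w₂ h c => xpl_mem_T1 C hb w₁ w₂ h c)
    (fun Q hQM hQ w₁ w₂ h c hc hx =>
      toogc7_pgrp p C ha hab hb M hMO hS Q hQM hQ w₁ w₂ h c hc hx)
    (fun h γ hK hO w₁ w₂ hw c hc hconj => c1_img C ha hab h γ hK hO w₁ w₂ hw c hc hconj)

end Cfsg.Agent.Lib.Helper28.TOO
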