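import Mathlib
import Cfsg.Agent.Lib.helper4.PrimeDegreeB

set_option autoImplicit false

namespace Cfsg.Agent.Lib.helper4

open Subgroup
open scoped Pointwise

theorem orderOf_conj' {G : Type*} [Group G] (g x : G) : orderOf (g * x * g⁻¹) = orderOf x := by
  have := MulEquiv.orderOf_eq (MulAut.conj g) x
  rwa [MulAut.conj_apply] at this

/-- A finite group acting faithfully and 2-transitively on a set `S` whose size is not a prime
power, with a simple point stabilizer, is simple. -/
theorem simple_of_simple_stabilizer {G α : Type*} [Group G] [Finite G] [MulAction G α] (S : Set α)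
    (hinv : ∀ g : G, ∀ x ∈ S, g • x ∈ S)
    (hfaith : ∀ g : G, (∀ x ∈ S, g • x = x) → g = 1)
    (h2t : ∀ a ∈ S, ∀ b ∈ S, ∀ c ∈ S, a ≠ b → a ≠ c → ∃ g : G, g • a = a ∧ g • b = c)
    (a : α) (ha : a ∈ S) (hsimple : IsSimpleGroup (MulAction.stabilizer G a))
    (hSfin : S.Finite) (hS2 : 2 ≤ S.ncard)
    (hnpp : ∀ q k : ℕ, q.Prime → S.ncard ≠ q ^ k) : IsSimpleGroup G := by
  haveI : Nontrivial G := by
    obtain ⟨x, y, hxy⟩ := hsimple.toNontrivial.exists_pair_ne
    exact ⟨⟨(x : G), (y : G), fun h => hxy (Subtype.ext h)⟩⟩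
  refine ⟨fun N hNn => ?_⟩
  by_cases hbot : N = ⊥
  · exact Or.inl hbot
  right
  haveI := hNn
  obtain ⟨a', ha', horb'⟩ := orbit_normal_eq S hinv hfaith h2t N hbot
  have horb : MulAction.orbit N a = S := by
    have : a ∈ MulAction.orbit N a' := by rw [horb']; exact ha
    rw [MulAction.orbit_eq_iff.mpr this, horb']
  have hMn : (N.subgroupOf (MulAction.stabilizer G a)).Normal := Subgroup.Normal.subgroupOf hNn _
  rcases hMn.eq_bot_or_eq_top with hM | hM
  · -- regular case
    exfalso
    rw [Subgroup.subgroupOf_eq_bot, disjoint_iff] at hM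
    have hreg : ∀ x ∈ N, x • a = a → x = 1 := by
      intro x hx hxa
      have : x ∈ N ⊓ MulAction.stabilizer G a :=
        Subgroup.mem_inf.mpr ⟨hx, MulAction.mem_stabilizer_iff.mpr hxa⟩
      rw [hM, Subgroup.mem_bot] at this
      exact this
    have hstab : MulAction.stabilizer N a = ⊥ := by
      rw [eq_bot_iff]
      intro x hx
      rw [Subgroup.mem_bot]
      apply Subtype.ext
      exact hreg (x : G) x.2 (MulAction.mem_stabilizer_iff.mp hx)
    have hcardN : Nat.card N = S.ncard := by
      have := MulAction.index_stabilizer N a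
      rw [hstab, Subgroup.index_bot, horb] at this
      exact this
    have hN2 : 2 ≤ Nat.card N := by rw [hcardN]; exact hS2
    obtain ⟨q, hq, hqd⟩ := Nat.exists_prime_and_dvd (show Nat.card N ≠ 1 by omega)
    haveI : Fact q.Prime := ⟨hq⟩
    obtain ⟨x, hx⟩ := exists_prime_orderOf_dvd_card' q hqd
    have hx1 : (x : G) ≠ 1 := by
      intro h
      have : x = 1 := Subtype.ext h
      rw [this, orderOf_one] at hx
      exact hq.one_lt.ne hx
    have hxa : (x : G) • a ≠ a := fun h => hx1 (hreg (x : G) x.2 h)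
    have hall : ∀ y : N, y ≠ 1 → orderOf y = q := by
      intro y hy
      have hy1 : (y : G) ≠ 1 := fun h => hy (Subtype.ext h)
      have hya : (y : G) • a ≠ a := fun h => hy1 (hreg (y : G) y.2 h)
      obtain ⟨g, hga, hgx⟩ := h2t a ha ((x : G) • a) (hinv _ a ha) ((y : G) • a) (hinv _ a ha)
        (Ne.symm hxa) (Ne.symm hya)
      have hginv : g⁻¹ • a = a := by rw [inv_smul_eq_iff, hga]
      have hconj : g * (x : G) * g⁻¹ ∈ N := hNn.conj_mem (x : G) x.2 g
      have heq : (y : G)⁻¹ * (g * (x : G) * g⁻¹) = 1 := by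
        apply hreg _ (N.mul_mem (N.inv_mem y.2) hconj)
        rw [mul_smul, mul_smul, mul_smul, hginv, hgx, inv_smul_smul]
      rw [inv_mul_eq_one] at heq
      rw [← Subgroup.orderOf_coe, heq, orderOf_conj', Subgroup.orderOf_coe, hx]
    have hpg : IsPGroup q N := by
      intro y
      by_cases hy : y = 1
      · exact ⟨0, by rw [hy, one_pow]⟩
      · refine ⟨1, ?_⟩
        rw [pow_one, ← hall y hy, pow_orderOf_eq_one]
    obtain ⟨k, hk⟩ := hpg.exists_card_eq
    rw [hcardN] at hk
    exact hnpp q k hq hk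
  · rw [Subgroup.subgroupOf_eq_top] at hM
    rw [eq_top_iff]
    intro g _
    have hga : g • a ∈ MulAction.orbit N a := by rw [horb]; exact hinv g a ha
    obtain ⟨n, hn⟩ := hga
    have hn' : (n : G) • a = g • a := hn
    have : (n : G)⁻¹ * g ∈ MulAction.stabilizer G a := by
      rw [MulAction.mem_stabilizer_iff, mul_smul, ← hn', inv_smul_smul]
    have h2 := N.mul_mem n.2 (hM this)
    rwa [mul_inv_cancel_left] at h2

end Cfsg.Agent.Lib.helper4
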