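import Mathlib
import Cfsg.Prelude.Def_Sporadic_a
import Cfsg.Agent.Lib.helper4.PrimeDegreeB
import Cfsg.Agent.Lib.helper4.M12Sharp
import Cfsg.Agent.Lib.helper4.SimpleStab

set_option autoImplicit false

namespace Cfsg.Agent.Lib.helper4

open Cfsg Cfsg.Agent.Lib.helper3
open scoped Pointwise

def emb3 {α : Type*} (a b c : α) (hab : a ≠ b) (hac : a ≠ c) (hbc : b ≠ c) : Fin 3 ↪ α :=
  ⟨![a, b, c], by
    intro i j h
    fin_cases i <;> fin_cases j <;> simp_all⟩

theorem M24_three : MulAction.IsMultiplyPretransitive M24 GolayPt 3 :=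
  M24_pretrans_le 3 (by norm_num)

theorem arith23 : ∀ e, e ∣ 23 - 1 → e ∣ 443520 → (443520 / e) % 23 = 1 → e = 11 := by
  intro e h1 h2 h3
  have hle : e ≤ 22 := Nat.le_of_dvd (by norm_num) h1
  interval_cases e <;> omega

theorem arith11 : ∀ e, e ∣ 11 - 1 → e ∣ 720 → (720 / e) % 11 = 1 → e = 5 := by
  intro e h1 h2 h3
  have hle : e ≤ 10 := Nat.le_of_dvd (by norm_num) h1
  interval_cases e <;> omega

theorem M23_simple (p : GolayPt) : IsSimpleGroup (MulAction.stabilizer M24 p) := by
  haveI : Fact (Nat.Prime 23) := ⟨by norm_num⟩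
  apply simple_of_prime_degree (G := MulAction.stabilizer M24 p) (α := GolayPt)
    {q : GolayPt | q ≠ p} 23 11 443520 (by norm_num)
  · have : {q : GolayPt | q ≠ p} = ({p} : Set GolayPt)ᶜ := by
      ext q; simp
    rw [this, Set.ncard_compl, card_golayPt, Set.ncard_singleton]
  · intro g x hx hgx
    apply hx
    have hg : (g : M24) • p = p := MulAction.mem_stabilizer_iff.mp g.2
    have : (g : M24) • x = (g : M24) • p := by rw [hg]; exact hgx
    exact MulAction.injective (g : M24) this
  · intro g hg
    apply Subtype.ext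
    apply Subtype.ext
    apply Equiv.ext
    intro x
    by_cases hx : x = p
    · rw [hx]
      exact MulAction.mem_stabilizer_iff.mp g.2
    · exact hg x hx
  · intro a ha b hb c hc hab hac
    haveI := M24_three
    obtain ⟨g, hg⟩ := MulAction.exists_smul_eq M24
      (emb3 p a b (Ne.symm ha) (Ne.symm hb) hab) (emb3 p a c (Ne.symm ha) (Ne.symm hc) hac)
    have h0 := congrArg (fun f => f 0) hg
    have h1 := congrArg (fun f => f 1) hg
    have h2 := congrArg (fun f => f 2) hg
    refine ⟨⟨g, ?_⟩, ?_, ?_⟩
    · rw [MulAction.mem_stabilizer_iff]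
      exact h0
    · exact h1
    · exact h2
  · rw [card_M23]
  · norm_num
  · norm_num
  · exact arith23

theorem M11_simple (d : Finset GolayPt) (hd : d ∈ dodecads) (p : GolayPt) (hp : p ∈ d) :
    IsSimpleGroup ↥(MulAction.stabilizer M24 d ⊓ MulAction.stabilizer M24 p) := by
  haveI : Fact (Nat.Prime 11) := ⟨by norm_num⟩
  apply simple_of_prime_degree
    (G := ↥(MulAction.stabilizer M24 d ⊓ MulAction.stabilizer M24 p)) (α := GolayPt)
    {q : GolayPt | q ∈ d ∧ q ≠ p} 11 5 720 (by norm_num)
  · have : {q : GolayPt | q ∈ d ∧ q ≠ p} = ((d.erase p : Finset GolayPt) : Set GolayPt) := by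
      ext q
      simp [and_comm]
    rw [this, Set.ncard_coe_finset, Finset.card_erase_of_mem hp, dodecad_card hd]
  · intro g x hx
    have hgd : (g : M24) • d = d := MulAction.mem_stabilizer_iff.mp (Subgroup.mem_inf.mp g.2).1
    have hgp : (g : M24) • p = p := MulAction.mem_stabilizer_iff.mp (Subgroup.mem_inf.mp g.2).2
    refine ⟨?_, ?_⟩
    · have : (g : M24) • x ∈ (g : M24) • d := Finset.smul_mem_smul_finset hx.1
      rw [hgd] at this
      exact this
    · intro hgx
      apply hx.2
      have : (g : M24) • x = (g : M24) • p := by rw [hgp]; exact hgx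
      exact MulAction.injective (g : M24) this
  · intro g hg
    have hgd : (g : M24) ∈ MulAction.stabilizer M24 d := (Subgroup.mem_inf.mp g.2).1
    have hgp : (g : M24) • p = p := MulAction.mem_stabilizer_iff.mp (Subgroup.mem_inf.mp g.2).2
    obtain ⟨x, hx⟩ := exists_emb_subset d (by rw [dodecad_card hd]; norm_num)
    have hb := stab_emb_eq_bot d hd x hx
    have hmem : (⟨(g : M24), hgd⟩ : MulAction.stabilizer M24 d) ∈
        MulAction.stabilizer (MulAction.stabilizer M24 d) x := by
      rw [MulAction.mem_stabilizer_iff]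
      apply Function.Embedding.ext
      intro i
      change (g : M24) • x i = x i
      by_cases hxi : x i = p
      · rw [hxi]; exact hgp
      · exact hg (x i) ⟨hx i, hxi⟩
    rw [hb, Subgroup.mem_bot] at hmem
    apply Subtype.ext
    exact congrArg (Subtype.val : ↥(MulAction.stabilizer M24 d) → M24) hmem
  · intro a ha b hb c hc hab hac
    obtain ⟨g, hg, hgd, hgx⟩ := dodecad_trans d hd 3 (by norm_num)
      (emb3 p a b (Ne.symm ha.2) (Ne.symm hb.2) hab) (emb3 p a c (Ne.symm ha.2) (Ne.symm hc.2) hac)
      (by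
        intro i
        fin_cases i
        · exact hp
        · exact ha.1
        · exact hb.1)
      (by
        intro i
        fin_cases i
        · exact hp
        · exact ha.1
        · exact hc.1)
    refine ⟨⟨⟨g, hg⟩, Subgroup.mem_inf.mpr ⟨?_, ?_⟩⟩, ?_, ?_⟩
    · rw [MulAction.mem_stabilizer_iff]
      exact hgd
    · rw [MulAction.mem_stabilizer_iff]
      exact hgx 0
    · exact hgx 1
    · exact hgx 2
  · rw [card_M11 d hd p hp]
  · norm_num
  · norm_num
  · exact arith11

end Cfsg.Agent.Lib.helper4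

namespace Cfsg.Agent.Lib.helper4

open Cfsg Cfsg.Agent.Lib.helper3
open scoped Pointwise

theorem ne_prime_pow_of_two_three (n : ℕ) (h2 : 2 ∣ n) (h3 : 3 ∣ n) (q k : ℕ) (hq : q.Prime) :
    n ≠ q ^ k := by
  intro h
  rw [h] at h2 h3
  have e2 := (Nat.prime_dvd_prime_iff_eq Nat.prime_two hq).mp (Nat.prime_two.dvd_of_dvd_pow h2)
  have e3 := (Nat.prime_dvd_prime_iff_eq Nat.prime_three hq).mp (Nat.prime_three.dvd_of_dvd_pow h3)
  omega

/-- the stabilizer of `p` inside the stabilizer of `d` versus the intersection of stabilizers -/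
def stabInfEquiv {G α β : Type*} [Group G] [MulAction G α] [MulAction G β] (d : α) (p : β) :
    ↥(MulAction.stabilizer G d ⊓ MulAction.stabilizer G p) ≃*
      MulAction.stabilizer (MulAction.stabilizer G d) p where
  toFun g := ⟨⟨g.1, (Subgroup.mem_inf.mp g.2).1⟩, (Subgroup.mem_inf.mp g.2).2⟩
  invFun g := ⟨g.1.1, Subgroup.mem_inf.mpr ⟨g.1.2, g.2⟩⟩
  left_inv _ := rfl
  right_inv _ := rfl
  map_mul' _ _ := rfl

theorem M12_simple (d : Finset GolayPt) (hd : d ∈ dodecads) :
    IsSimpleGroup (MulAction.stabilizer M24 d) := by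
  have hne : d.Nonempty := by
    rw [← Finset.card_pos, dodecad_card hd]; norm_num
  obtain ⟨p, hp⟩ := hne
  haveI := M11_simple d hd p hp
  have hsimple : IsSimpleGroup (MulAction.stabilizer (MulAction.stabilizer M24 d) p) :=
    (stabInfEquiv (G := M24) d p).symm.isSimpleGroup
  apply simple_of_simple_stabilizer (G := MulAction.stabilizer M24 d) (α := GolayPt)
    (d : Set GolayPt) ?_ ?_ ?_ p hp hsimple (Finset.finite_toSet d)
  · rw [Set.ncard_coe_finset, dodecad_card hd]; norm_num
  · rw [Set.ncard_coe_finset, dodecad_card hd]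
    exact ne_prime_pow_of_two_three 12 (by norm_num) (by norm_num)
  · intro g x hx
    have hgd : (g : M24) • d = d := MulAction.mem_stabilizer_iff.mp g.2
    have : (g : M24) • x ∈ (g : M24) • d := Finset.smul_mem_smul_finset hx
    rw [hgd] at this
    exact this
  · intro g hg
    obtain ⟨x, hx⟩ := exists_emb_subset d (by rw [dodecad_card hd]; norm_num)
    have hb := stab_emb_eq_bot d hd x hx
    have hmem : g ∈ MulAction.stabilizer (MulAction.stabilizer M24 d) x := by
      rw [MulAction.mem_stabilizer_iff]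
      apply Function.Embedding.ext
      intro i
      exact hg (x i) (hx i)
    rw [hb, Subgroup.mem_bot] at hmem
    exact hmem
  · intro a ha b hb c hc hab hac
    obtain ⟨g, hg, hgd, hgx⟩ := dodecad_trans d hd 2 (by norm_num)
      (Function.Embedding.embFinTwo hab) (Function.Embedding.embFinTwo hac)
      (by
        intro i
        fin_cases i
        · exact ha
        · exact hb)
      (by
        intro i
        fin_cases i
        · exact ha
        · exact hc)
    refine ⟨⟨⟨g, hg⟩, ?_⟩, ?_, ?_⟩
    · rw [MulAction.mem_stabilizer_iff]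
      exact hgd
    · exact hgx 0
    · exact hgx 1

theorem M24_simple : IsSimpleGroup M24 := by
  let a : GolayPt := none
  have hsimple : IsSimpleGroup (MulAction.stabilizer M24 a) := M23_simple a
  apply simple_of_simple_stabilizer (G := M24) (α := GolayPt)
    (Set.univ : Set GolayPt) ?_ ?_ ?_ a (Set.mem_univ a) hsimple Set.finite_univ
  · rw [Set.ncard_univ, card_golayPt]; norm_num
  · rw [Set.ncard_univ, card_golayPt]
    exact ne_prime_pow_of_two_three 24 (by norm_num) (by norm_num)
  · intro g x _
    exact Set.mem_univ _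
  · intro g hg
    apply Subtype.ext
    apply Equiv.ext
    intro x
    exact hg x (Set.mem_univ x)
  · intro a _ b _ c _ hab hac
    haveI := M24_two
    obtain ⟨g, hg⟩ := MulAction.exists_smul_eq M24
      (Function.Embedding.embFinTwo hab) (Function.Embedding.embFinTwo hac)
    have h0 := congrArg (fun f => f 0) hg
    have h1 := congrArg (fun f => f 1) hg
    exact ⟨g, h0, h1⟩

end Cfsg.Agent.Lib.helper4
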