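import Mathlib
import Cfsg.Agent.Lib.Helper29.S5981.Defs
import Cfsg.Agent.Lib.Helper28.OBundle
import Cfsg.Agent.Lib.Helper16.OSemi1
import Cfsg.Agent.Lib.helper4.TSD.OrthPar4
import Cfsg.Agent.Lib.Helper22.TD.Transfer

/-!
# Project S5981, blocks A and B: the common engine.

An element `x ∈ SL_n(F)` (`2 ≠ 0`) of odd order `r`, such that `F` has no `r`-th roots of unity besides `1`
and with `rank (x - 1)` odd, has no conjugate in the similarity group of a non-degenerate quadratic form: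
a conjugate `y` in `Sim(Q)` has multiplier `c`, `c ^ r = 1`, so `c = 1`, so `y` is an isometry of odd
order, and `rank (y - 1)` is even (`tsdorthpar4_parity`).
-/

set_option autoImplicit false

namespace Cfsg.Agent.Lib.Helper29.S5981

open scoped MatrixGroups
open Matrix

variable {F : Type*} [Field F]

/-- a non-degenerate quadratic form on a non-zero space takes a non-zero value -/
theorem s5981a_exists_ne_zero {n : ℕ} (hn : 1 ≤ n) (Q : (Fin n → F) → F)
    (hQ : Cfsg.Geo.IsNondegenerateQuadraticForm Q) : ∃ v, Q v ≠ 0 := by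
  by_contra hcon
  push Not at hcon
  have he : (Pi.single (⟨0, hn⟩ : Fin n) (1 : F) : Fin n → F) ≠ 0 := by
    intro h
    have := congrFun h ⟨0, hn⟩
    simp at this
  obtain ⟨⟨x, hx⟩, -⟩ := hQ.nondegenerate _ he
  apply hx
  unfold QuadraticMap.polar
  rw [hcon, hcon, hcon]
  simp

theorem s5981a_sim_pow {n : ℕ} (Q : (Fin n → F) → F) (y : Matrix (Fin n) (Fin n) F) (c : F)
    (hc : ∀ v, Q (y *ᵥ v) = c * Q v) (k : ℕ) : ∀ v, Q ((y ^ k) *ᵥ v) = c ^ k * Q v := by
  induction k with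
  | zero =>
    intro v
    rw [pow_zero, pow_zero, Matrix.one_mulVec, one_mul]
  | succ k ih =>
    intro v
    rw [pow_succ, ← Matrix.mulVec_mulVec, ih, hc, pow_succ]
    ring

theorem s5981a_dot {n : ℕ} (S G : Matrix (Fin n) (Fin n) F) (u v : Fin n → F) :
    (S *ᵥ u) ⬝ᵥ (G *ᵥ (S *ᵥ v)) = u ⬝ᵥ ((Sᵀ * G * S) *ᵥ v) := by
  rw [← Matrix.mulVec_mulVec, ← Matrix.mulVec_mulVec, Matrix.mulVec_transpose, dotProduct_comm u,
    ← Matrix.dotProduct_mulVec, dotProduct_comm]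

/-- the Gram matrix of the polar form: symmetric, invertible, preserved by the isometries -/
theorem s5981a_gram {n : ℕ} (Q : (Fin n → F) → F) (hQ : Cfsg.Geo.IsNondegenerateQuadraticForm Q) :
    ∃ G : Matrix (Fin n) (Fin n) F, Gᵀ = G ∧ G.det ≠ 0 ∧
      ∀ y : Matrix (Fin n) (Fin n) F, (∀ v, Q (y *ᵥ v) = Q v) → yᵀ * G * y = G := by
  obtain ⟨M, Mi, hMMi, -, hMT, hpol⟩ := Cfsg.Agent.Lib.Helper16.OSemi.gram_data
    (Cfsg.Agent.Lib.Helper28.OBundle.bundle Q hQ)
    (Cfsg.Agent.Lib.Helper28.OBundle.bundle_nondeg Q hQ)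
  have hpol' : ∀ x y : Fin n → F, QuadraticMap.polar Q x y = x ⬝ᵥ M *ᵥ y := hpol
  refine ⟨M, hMT, ?_, fun y hy => ?_⟩
  · intro h0
    have := congrArg Matrix.det hMMi
    rw [Matrix.det_mul, h0, zero_mul, Matrix.det_one] at this
    exact zero_ne_one this
  · ext i j
    have h1 : QuadraticMap.polar Q (y *ᵥ Pi.single i 1) (y *ᵥ Pi.single j 1) =
        QuadraticMap.polar Q (Pi.single i 1) (Pi.single j 1) := by
      unfold QuadraticMap.polar
      rw [← Matrix.mulVec_add, hy, hy, hy]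
    rw [hpol', hpol', s5981a_dot] at h1
    simpa using h1

/-- the engine of blocks A and B -/
theorem s5981a_bad_of_odd_rank (h2 : (2 : F) ≠ 0) {n : ℕ} (hn : 1 ≤ n) (Q : (Fin n → F) → F)
    (hQ : Cfsg.Geo.IsNondegenerateQuadraticForm Q) (r : ℕ) (hr : Odd r)
    (hmult : ∀ z : F, z ^ r = 1 → z = 1)
    (x : GL (Fin n) F) (hx : x ∈ Cfsg.Geo.specialLinear (Fin n) F)
    (hxr : (x : Matrix (Fin n) (Fin n) F) ^ r = 1)
    (hns : ∀ z : F, (x : Matrix (Fin n) (Fin n) F) ≠ z • (1 : Matrix (Fin n) (Fin n) F))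
    (hrank : Odd ((x : Matrix (Fin n) (Fin n) F) - 1).rank) : Bad n Q r := by
  refine ⟨x, hx, ⟨1, ?_⟩, hns, fun g _ hmem => ?_⟩
  · rw [one_smul, Units.val_pow_eq_pow_val]
    exact hxr
  · obtain ⟨c, hc⟩ := hmem
    obtain ⟨Y, hY⟩ : ∃ Y : Matrix (Fin n) (Fin n) F,
        Y = ((g⁻¹ * x * g : GL (Fin n) F) : Matrix (Fin n) (Fin n) F) := ⟨_, rfl⟩
    rw [← hY] at hc
    have hYe : Y = ((g⁻¹ : GL (Fin n) F) : Matrix (Fin n) (Fin n) F) *
        (x : Matrix (Fin n) (Fin n) F) * (g : Matrix (Fin n) (Fin n) F) := by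
      rw [hY, Units.val_mul, Units.val_mul]
    have hgi : ((g⁻¹ : GL (Fin n) F) : Matrix (Fin n) (Fin n) F) *
        (g : Matrix (Fin n) (Fin n) F) = 1 := by
      rw [← Units.val_mul, inv_mul_cancel, Units.val_one]
    have hYr : Y ^ r = 1 := by
      have hx1 : x ^ r = 1 := Units.ext (by rw [Units.val_pow_eq_pow_val, hxr, Units.val_one])
      have h1 : (g⁻¹ * x * g) ^ r = (1 : GL (Fin n) F) := by
        have h3 : g⁻¹ * x * g = g⁻¹ * x * g⁻¹⁻¹ := by rw [inv_inv]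
        rw [h3, conj_pow, hx1, mul_one, inv_inv, inv_mul_cancel]
      rw [hY, ← Units.val_pow_eq_pow_val, h1, Units.val_one]
    obtain ⟨v0, hv0⟩ := s5981a_exists_ne_zero hn Q hQ
    have hcr : (c : F) ^ r = 1 := by
      have h1 := s5981a_sim_pow Q Y c hc r v0
      rw [hYr, Matrix.one_mulVec] at h1
      have h3 : ((c : F) ^ r - 1) * Q v0 = 0 := by linear_combination -h1
      rcases mul_eq_zero.mp h3 with h4 | h4
      · linear_combination h4
      · exact absurd h4 hv0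
    have hc1 : (c : F) = 1 := hmult _ hcr
    have hiso : ∀ v, Q (Y *ᵥ v) = Q v := fun v => by rw [hc, hc1, one_mul]
    obtain ⟨G, hGT, hGdet, hG⟩ := s5981a_gram Q hQ
    have hev := Cfsg.Agent.Lib.helper4.TSD.tsdorthpar4_parity h2 G hGT hGdet Y (hG Y hiso) r hr hYr
    have hrk : (Y - 1).rank = ((x : Matrix (Fin n) (Fin n) F) - 1).rank := by
      have h5 : Y - 1 = ((g⁻¹ : GL (Fin n) F) : Matrix (Fin n) (Fin n) F) *
          ((x : Matrix (Fin n) (Fin n) F) - 1) * (g : Matrix (Fin n) (Fin n) F) := by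
        rw [hYe, Matrix.mul_sub, Matrix.sub_mul, Matrix.mul_one, hgi]
      rw [h5, Matrix.rank_mul_eq_left_of_isUnit_det _ _
          ((Matrix.isUnit_iff_isUnit_det _).mp (Units.isUnit g)),
        Matrix.rank_mul_eq_right_of_isUnit_det _ _
          ((Matrix.isUnit_iff_isUnit_det _).mp (Units.isUnit g⁻¹))]
    rw [hrk] at hev
    exact (Nat.not_even_iff_odd.mpr hrank) hev

/-- `q` odd gives `2 ≠ 0` -/
theorem s5981a_two_ne_zero [Fintype F] (hodd : Odd (Fintype.card F)) : (2 : F) ≠ 0 := by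
  apply Ring.two_ne_zero
  intro h
  have h1 := FiniteField.even_card_iff_char_two.mp h
  obtain ⟨t, ht⟩ := hodd
  omega

end Cfsg.Agent.Lib.Helper29.S5981
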