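import Mathlib
import Cfsg.Agent.Lib.Helper29.S5981.Defs
import Cfsg.Agent.Lib.helper4.S5981Acommon
import Cfsg.Agent.Lib.Helper22.TD.Count

/-!
# Project S5981, block A: `r = p` (odd).  The transvection `1 + E₀₁` has order `p` and
`rank (x - 1) = 1` is odd, so no conjugate of it lies in the similarity group of a non-degenerate
quadratic form (engine `s5981a_bad_of_odd_rank`).
-/

set_option autoImplicit false

namespace Cfsg.Agent.Lib.Helper29.S5981

open scoped MatrixGroups
open Matrix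

variable {F : Type*} [Field F] [Fintype F]

/-- BLOCK A : `r = p` (odd).  `x` = the transvection `1 + E_{01}`; a conjugate in `Sim(Q)` has multiplier `c`, `c^p = 1`, so `c = 1`;
an isometry `1 + u φᵀ` of a non-degenerate symmetric form: `φ(v) B(u,w) + φ(w) B(v,u) + φ(v) φ(w) B(u,u) = 0` forces `u = 0`. -/
theorem blockA {p : ℕ} [Fact p.Prime] [CharP F p] {q : ℕ} (hq : Fintype.card F = q) (hodd : Odd q)
    (n : ℕ) (hn : 3 ≤ n) (Q : (Fin n → F) → F) (hQ : Cfsg.Geo.IsNondegenerateQuadraticForm Q) :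
    Bad n Q p := by
  classical
  have hp : p.Prime := Fact.out
  have h2 : (2 : F) ≠ 0 := s5981a_two_ne_zero (by rw [hq]; exact hodd)
  have hp2 : p ≠ 2 := by
    rintro rfl
    apply h2
    have := CharP.cast_eq_zero F 2
    exact_mod_cast this
  have hpodd : Odd p := hp.odd_of_ne_two hp2
  have hmult : ∀ z : F, z ^ p = 1 → z = 1 := by
    intro z hz
    have h3 : (z - 1) ^ p = 0 := by rw [sub_pow_char, hz, one_pow, sub_self]
    exact sub_eq_zero.mp ((pow_eq_zero_iff hp.ne_zero).mp h3)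
  obtain ⟨i0, hi0⟩ : ∃ i0 : Fin n, i0 = ⟨0, by omega⟩ := ⟨_, rfl⟩
  obtain ⟨i1, hi1⟩ : ∃ i1 : Fin n, i1 = ⟨1, by omega⟩ := ⟨_, rfl⟩
  have h01 : i0 ≠ i1 := by
    intro h
    rw [hi0, hi1] at h
    have := congrArg Fin.val h
    simp at this
  obtain ⟨E, hE⟩ : ∃ E : Matrix (Fin n) (Fin n) F, E = Matrix.single i0 i1 1 := ⟨_, rfl⟩
  obtain ⟨M, hM⟩ : ∃ M : Matrix (Fin n) (Fin n) F, M = 1 + E := ⟨_, rfl⟩
  have hdet : M.det = 1 := by
    rw [hM, hE]
    exact Matrix.det_transvection_of_ne i0 i1 h01 1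
  have hEE : E * E = 0 := by
    rw [hE]
    exact Matrix.single_mul_single_of_ne 1 i0 i1 i0 h01.symm 1
  have hMp : M ^ p = 1 := by
    have : Nonempty (Fin n) := ⟨i0⟩
    rw [hM, add_pow_char_of_commute _ (Commute.one_left E), one_pow]
    have h3 : E ^ p = 0 := by
      obtain ⟨t, ht⟩ : ∃ t, p = 2 + t := ⟨p - 2, by have := hp.two_le; omega⟩
      rw [ht, pow_add, pow_two, hEE, zero_mul]
    rw [h3, add_zero]
  have hns : ∀ z : F, M ≠ z • (1 : Matrix (Fin n) (Fin n) F) := by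
    intro z hz
    have h3 := congrFun (congrFun hz i0) i1
    rw [hM, hE] at h3
    simp [h01] at h3
  have hrank : Odd (M - 1).rank := by
    have h3 : M - 1 = E := by rw [hM, add_sub_cancel_left]
    have h4 : E.rank ≤ 1 := by
      rw [hE, Matrix.single_eq_single_vecMulVec_single]
      exact Matrix.rank_vecMulVec_le _ _
    have h5 : E.rank ≠ 0 := by
      intro h0
      have h6 := Cfsg.Agent.Lib.Helper22.TD.td_eq_zero_of_rank E h0
      have h7 := congrFun (congrFun h6 i0) i1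
      rw [hE] at h7
      simp at h7
    rw [h3]
    exact ⟨0, by omega⟩
  obtain ⟨x, hx⟩ : ∃ x : GL (Fin n) F, (x : Matrix (Fin n) (Fin n) F) = M :=
    ⟨Matrix.GeneralLinearGroup.mkOfDetNeZero M (by rw [hdet]; exact one_ne_zero), rfl⟩
  apply s5981a_bad_of_odd_rank h2 (by omega) Q hQ p hpodd hmult x
  · rw [Cfsg.Agent.Lib.Helper22.TD.td_mem_sl, hx]
    exact hdet
  · rw [hx]
    exact hMp
  · rw [hx]
    exact hns
  · rw [hx]
    exact hrank

end Cfsg.Agent.Lib.Helper29.S5981
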