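import Mathlib
import Cfsg.Agent.Lib.Helper29.S5981.Defs
import Cfsg.Agent.Lib.helper4.S5981Acommon
import Cfsg.Agent.Lib.helper14.PolA
import Cfsg.Agent.Lib.helper14.SpSLe

/-!
# Project S5981, block B: `r ≠ p` odd, `o = ord_r(q)` odd, `3 ≤ o ≤ n`.  The block element
`[Λ_o, 1_{n-o}]` (helper14's S5968 template) has order `r` and `rank (x - 1) = o` odd, so no
conjugate of it lies in the similarity group of a non-degenerate quadratic form
(engine `s5981a_bad_of_odd_rank`).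
-/

set_option autoImplicit false

namespace Cfsg.Agent.Lib.Helper29.S5981

open scoped MatrixGroups
open Matrix Cfsg.Agent.Lib.helper14

variable {F : Type*} [Field F] [Fintype F]

theorem s5981b_toLin'_pow {n : Type*} [Fintype n] [DecidableEq n]
    (A : Matrix n n F) (m : ℕ) : Matrix.toLin' (A ^ m) = (Matrix.toLin' A) ^ m := by
  induction m with
  | zero => rw [pow_zero, pow_zero, Matrix.toLin'_one]; rfl
  | succ m ih => rw [pow_succ, pow_succ, Matrix.toLin'_mul, ih]; rfl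

theorem s5981b_block {q : ℕ} (hq : Fintype.card F = q) (h2 : (2 : F) ≠ 0)
    (o k : ℕ) (ho : Odd o) (ho3 : 3 ≤ o) (r : ℕ) [hr : Fact r.Prime] (hrodd : Odd r)
    (hrq : ¬ r ∣ q) (hrq1 : ¬ r ∣ q - 1) (hdiv : r ∣ q ^ o - 1)
    (hnum : ∀ m, 0 < m → m < o → ¬ r ∣ q ^ m - 1)
    (Q : (Fin (o + k) → F) → F) (hQ : Cfsg.Geo.IsNondegenerateQuadraticForm Q) :
    Bad (o + k) Q r := by
  classical
  have ho1 : 1 ≤ o := by omega
  have hq2 : 2 ≤ q := hq ▸ Fintype.one_lt_card
  have hcard : r ∣ Nat.card (GL (Fin o) F) := by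
    rw [Matrix.card_GL_field, hq]
    apply dvd_trans _ (Finset.dvd_prod_of_mem _ (Finset.mem_univ (⟨0, ho1⟩ : Fin o)))
    show r ∣ q ^ o - q ^ 0
    rw [pow_zero]
    exact hdiv
  obtain ⟨x₁, hx₁⟩ := exists_prime_orderOf_dvd_card' r hcard
  obtain ⟨a, ha⟩ : ∃ a : Module.End F (Fin o → F),
      a = Matrix.toLin' (x₁ : Matrix (Fin o) (Fin o) F) := ⟨_, rfl⟩
  have har : a ^ r = 1 := by
    have h1 : x₁ ^ r = 1 := hx₁ ▸ pow_orderOf_eq_one x₁
    have h3 : (x₁ : Matrix (Fin o) (Fin o) F) ^ r = 1 := by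
      rw [← Units.val_pow_eq_pow_val, h1, Units.val_one]
    rw [ha, ← s5981b_toLin'_pow, h3, Matrix.toLin'_one]
    rfl
  have ha1 : a ≠ 1 := by
    intro h
    have h1 : (x₁ : Matrix (Fin o) (Fin o) F) = 1 := by
      apply Matrix.toLin'.injective
      rw [Matrix.toLin'_one, ← ha]
      exact h
    have h3 : x₁ = 1 := Units.ext h1
    rw [h3, orderOf_one] at hx₁
    exact hr.out.one_lt.ne hx₁
  have hcardF : Nat.card F = q := by rw [Nat.card_eq_fintype_card, hq]
  have hfr : Module.finrank F (Fin o → F) = o := by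
    rw [Module.finrank_fintype_fun_eq_card, Fintype.card_fin]
  obtain ⟨hfix, hirr⟩ := PolA.irr_of_order a r har ha1 q o hcardF hrq hfr hnum
  have hmult : ∀ z : F, z ^ r = 1 → z = 1 := by
    intro z hz
    have hz0 : z ≠ 0 := by
      intro h0
      rw [h0, zero_pow hr.out.ne_zero] at hz
      exact zero_ne_one hz
    have h1 : z ^ (q - 1) = 1 := by
      rw [← hq]
      exact FiniteField.pow_card_sub_one_eq_one z hz0
    have h3 : orderOf z ∣ r := orderOf_dvd_of_pow_eq_one hz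
    have h4 : orderOf z ∣ q - 1 := orderOf_dvd_of_pow_eq_one h1
    rcases (Nat.dvd_prime hr.out).mp h3 with h5 | h5
    · exact orderOf_eq_one_iff.mp h5
    · rw [h5] at h4
      exact absurd h4 hrq1
  obtain ⟨X, hX⟩ : ∃ X : Module.End F (Fin (o + k) → F), X = SpSLe.emb o k a := ⟨_, rfl⟩
  have hXr : X ^ r = 1 := by
    rw [hX, ← SpSLe.emb_pow, har, SpSLe.emb_one]
  obtain ⟨M, hM⟩ : ∃ M : Matrix (Fin (o + k)) (Fin (o + k)) F, M = LinearMap.toMatrix' X :=
    ⟨_, rfl⟩
  have hMr : M ^ r = 1 := by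
    rw [hM, ← SpSLe.toMatrix_pow, hXr]
    exact LinearMap.toMatrix'_id
  have hdet : M.det = 1 := by
    apply hmult
    rw [← Matrix.det_pow, hMr, Matrix.det_one]
  have hMv : ∀ v, M *ᵥ v = X v := fun v => by rw [hM]; exact LinearMap.toMatrix'_mulVec X v
  -- `a - 1` is bijective
  have hbv : ∀ y, (a - 1 : Module.End F (Fin o → F)) y = a y - y := fun y => by
    rw [LinearMap.sub_apply, Module.End.one_apply]
  have hinj : Function.Injective (a - 1 : Module.End F (Fin o → F)) := by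
    rw [injective_iff_map_eq_zero]
    intro y hy
    apply hfix
    rw [hbv] at hy
    exact sub_eq_zero.mp hy
  have hsurj : Function.Surjective (a - 1 : Module.End F (Fin o → F)) :=
    LinearMap.injective_iff_surjective.mp hinj
  -- the rank of `M - 1`
  have hrank : (M - 1).rank = o := by
    have hM1 : M - 1 = LinearMap.toMatrix' (SpSLe.io o k ∘ₗ (a - 1) ∘ₗ SpSLe.pr o k) := by
      have h3 : X = 1 + SpSLe.io o k ∘ₗ (a - 1) ∘ₗ SpSLe.pr o k := by rw [hX]; rfl
      rw [hM, h3, map_add, LinearMap.toMatrix'_one, add_sub_cancel_left]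
    have hprsurj : Function.Surjective (SpSLe.pr (F := F) o k) := fun y =>
      ⟨SpSLe.io o k y, SpSLe.pr_io o k y⟩
    have hioinj : Function.Injective (SpSLe.io (F := F) o k) := by
      intro y1 y2 h
      have := congrArg (SpSLe.pr o k) h
      rwa [SpSLe.pr_io, SpSLe.pr_io] at this
    have hrange : LinearMap.range ((a - 1) ∘ₗ SpSLe.pr (F := F) o k) = ⊤ := by
      rw [LinearMap.range_eq_top]
      exact hsurj.comp hprsurj
    rw [hM1, Matrix.rank, ← Matrix.toLin'_apply', Matrix.toLin'_toMatrix',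
      LinearMap.range_comp_of_range_eq_top _ hrange, LinearMap.finrank_range_of_inj hioinj, hfr]
  -- not scalar
  have hns : ∀ z : F, M ≠ z • (1 : Matrix (Fin (o + k)) (Fin (o + k)) F) := by
    intro z hz
    -- every subspace of `Fin o → F` is `a`-invariant, contradicting irreducibility (`o ≥ 3`)
    have hXz : ∀ v, X v = z • v := by
      intro v
      rw [← hMv, hz, Matrix.smul_mulVec, Matrix.one_mulVec]
    have haz : ∀ y, a y = z • y := by
      intro y
      have h3 := hXz (SpSLe.io o k y)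
      rw [hX, SpSLe.emb_io] at h3
      have h4 := congrArg (SpSLe.pr o k) h3
      rwa [SpSLe.pr_io, map_smul, SpSLe.pr_io] at h4
    obtain ⟨y0, hy0⟩ : ∃ y0 : Fin o → F, y0 = Pi.single ⟨0, ho1⟩ 1 := ⟨_, rfl⟩
    have hy0ne : y0 ≠ 0 := by
      intro h
      have := congrFun h ⟨0, ho1⟩
      rw [hy0] at this
      simp at this
    rcases hirr (Submodule.span F {y0}) (fun u hu => by
      rw [haz]
      exact Submodule.smul_mem _ _ hu) with h3 | h3
    · apply hy0ne
      have : y0 ∈ Submodule.span F {y0} := Submodule.mem_span_singleton_self y0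
      rw [h3] at this
      exact (Submodule.mem_bot F).mp this
    · have h4 : Module.finrank F (Submodule.span F {y0}) = o := by
        rw [h3, finrank_top, hfr]
      have h5 : Module.finrank F (Submodule.span F {y0}) = 1 := finrank_span_singleton hy0ne
      omega
  obtain ⟨x, hx⟩ : ∃ x : GL (Fin (o + k)) F, (x : Matrix (Fin (o + k)) (Fin (o + k)) F) = M :=
    ⟨Matrix.GeneralLinearGroup.mkOfDetNeZero M (by rw [hdet]; exact one_ne_zero), rfl⟩
  apply s5981a_bad_of_odd_rank h2 (by omega) Q hQ r hrodd hmult x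
  · rw [Cfsg.Agent.Lib.Helper22.TD.td_mem_sl, hx]
    exact hdet
  · rw [hx]
    exact hMr
  · rw [hx]
    exact hns
  · rw [hx, hrank]
    exact ho

/-- BLOCK B : `r ≠ p` odd, `i = ord_r(q)` odd, `3 ≤ i ≤ n`.  `x = [Λ_i, 1_{n-i}]` (helper14 `SpSLe.emb` + `PolA.irr_of_order`, or lead's
`tsdexodd`): `x^r = 1`; a conjugate `y ∈ Sim(Q)` has multiplier `c`, `c^r = 1`, `r ∤ q - 1`, so `c = 1`; `y` is an isometry of odd order
`r` with `rank (y - 1) = i` odd: impossible (helper2 `tsd_orth_parity`, `td_order_dvd_rank`). -/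
theorem blockB {p : ℕ} [Fact p.Prime] [CharP F p] {q : ℕ} (hq : Fintype.card F = q) (hodd : Odd q)
    (n : ℕ) (hn : 3 ≤ n) (Q : (Fin n → F) → F) (hQ : Cfsg.Geo.IsNondegenerateQuadraticForm Q)
    (r : ℕ) [Fact r.Prime] (hr2 : r ≠ 2) (hrp : r ≠ p)
    (hi : Odd (orderOf ((q : ℕ) : ZMod r))) (hi3 : 3 ≤ orderOf ((q : ℕ) : ZMod r))
    (hin : orderOf ((q : ℕ) : ZMod r) ≤ n) :
    Bad n Q r := by
  classical
  have hrpr : r.Prime := Fact.out
  have hppr : p.Prime := Fact.out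
  have h2 : (2 : F) ≠ 0 := s5981a_two_ne_zero (by rw [hq]; exact hodd)
  have hrodd : Odd r := hrpr.odd_of_ne_two hr2
  obtain ⟨kk, -, hk⟩ := FiniteField.card F p
  have hrq : ¬ r ∣ q := by
    rw [← hq, hk]
    intro h
    exact hrp ((Nat.prime_dvd_prime_iff_eq hrpr hppr).mp (hrpr.dvd_of_dvd_pow h))
  have hq2 : 2 ≤ q := hq ▸ Fintype.one_lt_card
  obtain ⟨o, hoeq⟩ : ∃ o, o = orderOf ((q : ℕ) : ZMod r) := ⟨_, rfl⟩
  rw [← hoeq] at hi hi3 hin
  have cast_sub : ∀ m, ((q ^ m - 1 : ℕ) : ZMod r) = ((q : ℕ) : ZMod r) ^ m - 1 := by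
    intro m
    rw [Nat.cast_sub (Nat.one_le_pow _ _ (by omega)), Nat.cast_pow, Nat.cast_one]
  have hdvd_iff : ∀ m, r ∣ q ^ m - 1 ↔ ((q : ℕ) : ZMod r) ^ m = 1 := by
    intro m
    rw [← ZMod.natCast_eq_zero_iff, cast_sub, sub_eq_zero]
  have hao : ((q : ℕ) : ZMod r) ^ o = 1 := hoeq ▸ pow_orderOf_eq_one _
  have hnum : ∀ m, 0 < m → m < o → ¬ r ∣ q ^ m - 1 := by
    intro m hm0 hm hdvd
    have h1 := (hdvd_iff m).mp hdvd
    exact pow_ne_one_of_lt_orderOf (by omega) (hoeq ▸ hm) h1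
  have hrq1 : ¬ r ∣ q - 1 := by
    intro h
    have h3 := hnum 1 (by omega) (by omega)
    rw [pow_one] at h3
    exact h3 h
  obtain ⟨k, rfl⟩ : ∃ k, n = o + k := ⟨n - o, by omega⟩
  exact s5981b_block hq h2 o k hi hi3 r hrodd hrq hrq1 ((hdvd_iff o).mpr hao) hnum Q hQ

end Cfsg.Agent.Lib.Helper29.S5981
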