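import Mathlib
import Cfsg.Agent.Lib.helper7.SPC.Defs

/-!
# Project SPC, row C6 (`parts_odd_even`, `parts_pos`, `parts_le`), verbatim from `helper7/SPC/Skel.lean.txt`.  (helper4)
-/

set_option autoImplicit false

namespace Cfsg.Agent.Lib.helper7.SPC

universe u

open Module

variable {F : Type u} [Field F]

theorem spcc6_partsL_cons (b : Blk F) (L : List (Blk F)) : partsL (b :: L) = Blk.parts b + partsL L := by
  unfold partsL
  rw [List.map_cons, List.sum_cons]

theorem spcc6_partsL_nil : partsL ([] : List (Blk F)) = 0 := rfl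

theorem spcc6_canon_cons {b : Blk F} {L : List (Blk F)} (hL : CanonL (b :: L)) : b.Canon ∧ CanonL L :=
  ⟨hL b (List.mem_cons.mpr (Or.inl rfl)), fun b' hb' => hL b' (List.mem_cons.mpr (Or.inr hb'))⟩

/-- a member of the parts of a block is its length -/
theorem spcc6_mem_parts (b : Blk F) (a : ℕ) (ha : a ∈ Blk.parts b) : a = Blk.len b := by
  cases b with
  | A k' c => exact Multiset.mem_singleton.mp ha
  | H k' =>
    have ha' : a ∈ k' ::ₘ ({k'} : Multiset ℕ) := ha
    rcases Multiset.mem_cons.mp ha' with h | h
    · exact h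
    · exact Multiset.mem_singleton.mp h

theorem parts_odd_even (L : List (Blk F)) (hL : CanonL L) (j : ℕ) (hj : Odd j) : Even ((partsL L).count j) := by
  induction L with
  | nil =>
    rw [spcc6_partsL_nil, Multiset.count_zero]
    exact ⟨0, rfl⟩
  | cons b L ih =>
    obtain ⟨hb, hL'⟩ := spcc6_canon_cons hL
    rw [spcc6_partsL_cons, Multiset.count_add]
    refine Even.add ?_ (ih hL')
    cases b with
    | A k' c =>
      have hne : j ≠ k' := by
        intro e
        rw [e] at hj
        exact (Nat.not_even_iff_odd.mpr hj) hb.1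
      have hA : Blk.parts (Blk.A k' c : Blk F) = {k'} := rfl
      rw [hA, Multiset.count_singleton, if_neg hne]
      exact ⟨0, rfl⟩
    | H k' =>
      have hH : Blk.parts (Blk.H k' : Blk F) = k' ::ₘ {k'} := rfl
      rw [hH, Multiset.count_cons, Multiset.count_singleton]
      split_ifs
      · exact ⟨1, rfl⟩
      · exact ⟨0, rfl⟩

theorem parts_pos (L : List (Blk F)) (hL : CanonL L) (a : ℕ) (ha : a ∈ partsL L) : 0 < a := by
  induction L with
  | nil =>
    rw [spcc6_partsL_nil] at ha
    exact absurd ha (Multiset.notMem_zero a)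
  | cons b L ih =>
    obtain ⟨hb, hL'⟩ := spcc6_canon_cons hL
    rw [spcc6_partsL_cons, Multiset.mem_add] at ha
    rcases ha with ha | ha
    · have h1 := spcc6_mem_parts b a ha
      rw [h1]
      cases b with
      | A k' c => exact hb.2.1
      | H k' => exact Odd.pos hb
    · exact ih hL' ha

theorem parts_le (L : List (Blk F)) (e : ℕ) (h : ∀ b ∈ L, b.len ≤ e) (a : ℕ) (ha : a ∈ partsL L) : a ≤ e := by
  induction L with
  | nil =>
    rw [spcc6_partsL_nil] at ha
    exact absurd ha (Multiset.notMem_zero a)
  | cons b L ih =>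
    rw [spcc6_partsL_cons, Multiset.mem_add] at ha
    rcases ha with ha | ha
    · rw [spcc6_mem_parts b a ha]
      exact h b (List.mem_cons.mpr (Or.inl rfl))
    · exact ih (fun b' hb' => h b' (List.mem_cons.mpr (Or.inr hb'))) ha

end Cfsg.Agent.Lib.helper7.SPC
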