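import Mathlib
import Cfsg.Agent.Lib.helper7.SPC.Defs

/-!
# Project SPC, row C7 (`prodA_eq_one`, `prodA_eq_one_of_odd`, `prodA_ne_zero`), verbatim from `helper7/SPC/Skel.lean.txt`.  (helper4)
-/

set_option autoImplicit false

namespace Cfsg.Agent.Lib.helper7.SPC

universe u

open Module

variable {F : Type u} [Field F]

theorem spcc7_prodA_cons (b : Blk F) (L : List (Blk F)) (k : ℕ) :
    prodA (b :: L) k = Blk.cst k b * prodA L k := by
  unfold prodA
  rw [List.map_cons, List.prod_cons]

theorem spcc7_partsL_cons (b : Blk F) (L : List (Blk F)) : partsL (b :: L) = Blk.parts b + partsL L := by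
  unfold partsL
  rw [List.map_cons, List.sum_cons]

theorem spcc7_prodA_nil (k : ℕ) : prodA ([] : List (Blk F)) k = 1 := rfl

theorem spcc7_canon_cons {b : Blk F} {L : List (Blk F)} (hL : CanonL (b :: L)) : b.Canon ∧ CanonL L :=
  ⟨hL b (List.mem_cons.mpr (Or.inl rfl)), fun b' hb' => hL b' (List.mem_cons.mpr (Or.inr hb'))⟩

theorem prodA_eq_one (L : List (Blk F)) (k : ℕ) (h : k ∉ partsL L) : prodA L k = 1 := by
  induction L with
  | nil => rfl
  | cons b L ih =>
    rw [spcc7_partsL_cons, Multiset.mem_add, not_or] at h
    rw [spcc7_prodA_cons, ih h.2, mul_one]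
    cases b with
    | A k' c =>
      have hne : k' ≠ k := by
        intro hk
        apply h.1
        rw [hk]
        exact Multiset.mem_singleton_self k
      show (if k' = k then c else 1) = 1
      exact if_neg hne
    | H k' => rfl

theorem prodA_eq_one_of_odd (L : List (Blk F)) (hL : CanonL L) (k : ℕ) (hk : ¬ Even k) : prodA L k = 1 := by
  induction L with
  | nil => rfl
  | cons b L ih =>
    obtain ⟨hb, hL'⟩ := spcc7_canon_cons hL
    rw [spcc7_prodA_cons, ih hL', mul_one]
    cases b with
    | A k' c =>
      have hne : k' ≠ k := by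
        intro e
        apply hk
        rw [← e]
        exact hb.1
      show (if k' = k then c else 1) = 1
      exact if_neg hne
    | H k' => rfl

theorem prodA_ne_zero (L : List (Blk F)) (hL : CanonL L) (k : ℕ) : prodA L k ≠ 0 := by
  induction L with
  | nil =>
    rw [spcc7_prodA_nil]
    exact one_ne_zero
  | cons b L ih =>
    obtain ⟨hb, hL'⟩ := spcc7_canon_cons hL
    rw [spcc7_prodA_cons]
    refine mul_ne_zero ?_ (ih hL')
    cases b with
    | A k' c =>
      show (if k' = k then c else 1) ≠ 0
      split_ifs
      · exact hb.2.2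
      · exact one_ne_zero
    | H k' =>
      show (1 : F) ≠ 0
      exact one_ne_zero

end Cfsg.Agent.Lib.helper7.SPC
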