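import Cfsg.Agent.Lib.helper8.BTT.Defs
import Cfsg.Agent.Lib.helper8.ChevReflAll
import Cfsg.Agent.Lib.helper8.ChevBNAll

/-!
# BTT ROOT5 (`reflL_mem`, `reflL_invol`, `reflL_nsq`) and ROOT6 (`refl_count`).
-/

set_option autoImplicit false

namespace Cfsg.Agent.Lib.helper8.BTT

open Cfsg.Lie Cfsg.Lie.ChevalleyDatum

universe u

section root
variable (D : ChevalleyDatum)

theorem bttroot5_lv (L : Fin D.nroots → ℝ) (r : ℕ) (hr : r < D.nroots) :
    lv D L r = L ⟨r, hr⟩ := by
  unfold lv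
  rw [dif_pos hr]

theorem bttroot5_reflL_apply (i : ℕ) (η : ℕ → ℤ) (hR : H8Refl D i η) (L : Fin D.nroots → ℝ)
    (r : Fin D.nroots) : reflL D i L r = L ⟨D.reflectRoot i r, hR.lt r r.2⟩ := by
  unfold reflL
  exact bttroot5_lv D L _ _

/-- the reflected Cartan integers -/
theorem bttroot5_cartan_refl (i : ℕ) (η : ℕ → ℤ) (hR : H8Refl D i η) (j : ℕ) (hj : j < D.rank)
    (s : ℕ) (hs : s < D.nroots) :
    D.cartan j (D.reflectRoot i s) = D.cartan j s - D.cartan j (D.simple i) * D.cartan i s := by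
  have h := hR.tc1 j hj (D.reflectRoot i s) (hR.lt s hs)
  rw [hR.invol s hs] at h
  exact h

/-- `L ∘ w_i = L - L(p_i) A_{p_i, ·}` for `L = lamL y`. -/
theorem bttroot5_reflL_lamL (i : ℕ) (hi : i < D.rank) (η : ℕ → ℤ) (hR : H8Refl D i η)
    (y : Fin D.rank → ℝ) :
    reflL D i (lamL D y) = lamL D (fun j => y j -
      (if (j : ℕ) = i then ∑ k : Fin D.rank, y k * ((D.cartan k (D.simple i) : ℤ) : ℝ) else 0)) := by
  funext r
  rw [bttroot5_reflL_apply D i η hR]
  change ∑ j : Fin D.rank, y j * ((D.cartan j (D.reflectRoot i r) : ℤ) : ℝ) =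
    ∑ j : Fin D.rank, (y j - (if (j : ℕ) = i then
      ∑ k : Fin D.rank, y k * ((D.cartan k (D.simple i) : ℤ) : ℝ) else 0)) *
        ((D.cartan j r : ℤ) : ℝ)
  set c : ℝ := ∑ k : Fin D.rank, y k * ((D.cartan k (D.simple i) : ℤ) : ℝ) with hc
  have h1 : ∀ j : Fin D.rank, y j * ((D.cartan j (D.reflectRoot i r) : ℤ) : ℝ) =
      y j * ((D.cartan j r : ℤ) : ℝ) -
        (y j * ((D.cartan j (D.simple i) : ℤ) : ℝ)) * ((D.cartan i r : ℤ) : ℝ) := by
    intro j
    rw [bttroot5_cartan_refl D i η hR j j.2 r r.2]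
    push_cast
    ring
  have h2 : ∀ j : Fin D.rank, (y j - (if (j : ℕ) = i then c else 0)) * ((D.cartan j r : ℤ) : ℝ) =
      y j * ((D.cartan j r : ℤ) : ℝ) -
        (if (j : ℕ) = i then c * ((D.cartan i r : ℤ) : ℝ) else 0) := by
    intro j
    by_cases hji : (j : ℕ) = i
    · rw [if_pos hji, if_pos hji, hji]; ring
    · rw [if_neg hji, if_neg hji]; ring
  rw [Finset.sum_congr rfl (fun j _ => h1 j), Finset.sum_congr rfl (fun j _ => h2 j),
    Finset.sum_sub_distrib, Finset.sum_sub_distrib, ← Finset.sum_mul, ← hc]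
  congr 1
  rw [Finset.sum_eq_single (⟨i, hi⟩ : Fin D.rank)]
  · rw [if_pos rfl]
  · intro j _ hj
    rw [if_neg]
    intro h
    exact hj (Fin.ext h)
  · intro h
    exact absurd (Finset.mem_univ _) h

/-- ROOT5 [M]: the fundamental reflections act on `levE D` (`H8Refl.tc1`, `invol`, `lt`). -/
theorem reflL_mem (hD : D ∈ [chevG2, chevB2, chevD4, chevF4, chevE6, chevE7, chevE8])
    (i : ℕ) (hi : i < D.rank) (L : Fin D.nroots → ℝ) (hL : L ∈ levE D) :
    reflL D i L ∈ levE D := by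
  obtain ⟨η, hR⟩ := h8reflAll_spec D (h8reflAll D hD) i hi
  obtain ⟨y, rfl⟩ := hL
  rw [bttroot5_reflL_lamL D i hi η hR y]
  exact ⟨_, rfl⟩

theorem reflL_invol (hD : D ∈ [chevG2, chevB2, chevD4, chevF4, chevE6, chevE7, chevE8])
    (i : ℕ) (hi : i < D.rank) (L : Fin D.nroots → ℝ) :
    reflL D i (reflL D i L) = L := by
  obtain ⟨η, hR⟩ := h8reflAll_spec D (h8reflAll D hD) i hi
  funext r
  rw [bttroot5_reflL_apply D i η hR, bttroot5_reflL_apply D i η hR]
  congr 1
  exact Fin.ext (hR.invol r r.2)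

/-- the permutation of the root indices induced by the `i`-th fundamental reflection -/
def bttroot5_perm (i : ℕ) (η : ℕ → ℤ) (hR : H8Refl D i η) : Equiv.Perm (Fin D.nroots) where
  toFun r := ⟨D.reflectRoot i r, hR.lt r r.2⟩
  invFun r := ⟨D.reflectRoot i r, hR.lt r r.2⟩
  left_inv r := Fin.ext (hR.invol r r.2)
  right_inv r := Fin.ext (hR.invol r r.2)

theorem reflL_nsq (hD : D ∈ [chevG2, chevB2, chevD4, chevF4, chevE6, chevE7, chevE8])
    (i : ℕ) (hi : i < D.rank) (L : Fin D.nroots → ℝ) :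
    nsq (reflL D i L) = nsq L := by
  obtain ⟨η, hR⟩ := h8reflAll_spec D (h8reflAll D hD) i hi
  unfold nsq
  rw [← Equiv.sum_comp (bttroot5_perm D i η hR) (fun r => L r ^ 2)]
  apply Finset.sum_congr rfl
  intro r _
  rw [bttroot5_reflL_apply D i η hR]
  rfl

/-- level functions are odd -/
theorem bttroot6_neg (hD : D ∈ [chevG2, chevB2, chevD4, chevF4, chevE6, chevE7, chevE8])
    (L : Fin D.nroots → ℝ) (hL : L ∈ levE D) (r : ℕ) (hr : r < D.nroots) :
    D.negIdx.getD r 0 < D.nroots ∧ lv D L (D.negIdx.getD r 0) = - lv D L r := by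
  have hCA : H8CA D := h8CAchk_spec D (h8reflAll D hD).ca
  have hlt := hCA.neg_lt r hr
  refine ⟨hlt, ?_⟩
  obtain ⟨y, rfl⟩ := hL
  rw [bttroot5_lv D _ _ hlt, bttroot5_lv D _ _ hr]
  change ∑ j : Fin D.rank, y j * ((D.cartan j (D.negIdx.getD r 0) : ℤ) : ℝ) =
    - ∑ j : Fin D.rank, y j * ((D.cartan j r : ℤ) : ℝ)
  rw [← Finset.sum_neg_distrib]
  apply Finset.sum_congr rfl
  intro j _
  rw [hCA.neg j j.2 r hr]
  push_cast
  ring

/-- ROOT6 [M]: reflecting in a fundamental root on which `L` is negative decreases the number of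
positive roots on which `L` is negative (`h8spChk_spec`, `(h8bn_all D hD).sp`, ROOT1, `invol`). -/
theorem refl_count (hD : D ∈ [chevG2, chevB2, chevD4, chevF4, chevE6, chevE7, chevE8])
    (i : ℕ) (hi : i < D.rank) (L : Fin D.nroots → ℝ) (hL : L ∈ levE D)
    (hneg : lv D L (D.simple i) < 0) :
    (Finset.univ.filter fun r : Fin D.nroots => D.IsPosRoot r ∧ reflL D i L r < 0).card <
      (Finset.univ.filter fun r : Fin D.nroots => D.IsPosRoot r ∧ L r < 0).card := by
  obtain ⟨η, hR⟩ := h8reflAll_spec D (h8reflAll D hD) i hi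
  have hBN : H8BN D := h8bn_all D hD
  have hpos : D.IsPosRoot (D.simple i) := h8simple_pos D hBN i hi
  have hplt : D.simple i < D.nroots := hpos.1
  set P : Fin D.nroots := ⟨D.simple i, hplt⟩ with hP
  have hPneg : L P < 0 := by
    rw [bttroot5_lv D L _ hplt] at hneg
    exact hneg
  have hPmem : P ∈ Finset.univ.filter fun r : Fin D.nroots => D.IsPosRoot r ∧ L r < 0 := by
    rw [Finset.mem_filter]
    exact ⟨Finset.mem_univ _, hpos, hPneg⟩
  have hle : (Finset.univ.filter fun r : Fin D.nroots => D.IsPosRoot r ∧ reflL D i L r < 0).card ≤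
      ((Finset.univ.filter fun r : Fin D.nroots => D.IsPosRoot r ∧ L r < 0).erase P).card := by
    apply Finset.card_le_card_of_injOn (bttroot5_perm D i η hR)
    · intro r hr
      rw [Finset.mem_coe, Finset.mem_filter] at hr
      obtain ⟨_, hrpos, hrneg⟩ := hr
      rw [bttroot5_reflL_apply D i η hR] at hrneg
      have hrne : (r : ℕ) ≠ D.simple i := by
        intro hrs
        have h1 : D.reflectRoot i r = D.negIdx.getD (D.simple i) 0 := by
          rw [hrs]; exact h8reflectRoot_simple D i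
        have h2 := (bttroot6_neg D hD L hL (D.simple i) hplt).2
        rw [bttroot5_lv D L _ (bttroot6_neg D hD L hL (D.simple i) hplt).1] at h2
        have h3 : L ⟨D.reflectRoot i r, hR.lt r r.2⟩ =
            L ⟨D.negIdx.getD (D.simple i) 0, (bttroot6_neg D hD L hL (D.simple i) hplt).1⟩ := by
          congr 1
          exact Fin.ext h1
        rw [h3, h2] at hrneg
        linarith
      obtain ⟨h4, h5⟩ := h8spChk_spec D i (hBN.sp i hi) r hrpos hrne
      rw [Finset.mem_coe, Finset.mem_erase, Finset.mem_filter]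
      refine ⟨?_, Finset.mem_univ _, h4, hrneg⟩
      intro hcon
      apply h5
      have := congrArg Fin.val hcon
      exact this
    · exact (bttroot5_perm D i η hR).injective.injOn
  exact lt_of_le_of_lt hle (Finset.card_erase_lt_of_mem hPmem)

end root

end Cfsg.Agent.Lib.helper8.BTT
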