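import Mathlib
import Cfsg.Agent.Lib.helper4.PrimeDegreeB

set_option autoImplicit false

namespace Cfsg.Agent.Lib.helper4

open Subgroup Cfsg.Agent.Lib.helper8
open scoped Pointwise

section

variable {G α : Type*} [Group G] [Finite G] [MulAction G α] (S : Set α)

/-- a subgroup acting semiregularly at a point of an invariant set has at most as many elements
as the set -/
theorem card_le_ncard_of_free (hSfin : S.Finite) (C : Subgroup G) (a : α) (haS : a ∈ S)
    (hinv : ∀ g : G, ∀ x ∈ S, g • x ∈ S)
    (hfree : ∀ c ∈ C, c • a = a → c = 1) : Nat.card C ≤ S.ncard := by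
  haveI : Finite S := hSfin
  rw [← Nat.card_coe_set_eq]
  apply Nat.card_le_card_of_injective (fun c : C => (⟨(c : G) • a, hinv _ a haS⟩ : S))
  intro c c' h
  have h' : (c : G) • a = (c' : G) • a := congrArg Subtype.val h
  have : ((c : G)⁻¹ * (c' : G)) • a = a := by
    rw [mul_smul, ← h', inv_smul_smul]
  have h1 := hfree _ (C.mul_mem (C.inv_mem c.2) c'.2) this
  apply Subtype.ext
  rw [inv_mul_eq_one] at h1
  exact h1

/-- simplicity of a 2-transitive group of degree `2p` in which `p`-point fixers are trivial -/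
theorem simple_of_double_prime_degree (p r m : ℕ) [hp : Fact p.Prime] (hr : r.Prime)
    (hS : S.ncard = 2 * p)
    (hinv : ∀ g : G, ∀ x ∈ S, g • x ∈ S)
    (hfaith : ∀ g : G, (∀ x ∈ S, g • x = x) → g = 1)
    (h2t : ∀ a ∈ S, ∀ b ∈ S, ∀ c ∈ S, a ≠ b → a ≠ c → ∃ g : G, g • a = a ∧ g • b = c)
    (hrigid : ∀ c : G, ∀ T : Set α, T ⊆ S → T.ncard = p → (∀ x ∈ T, c • x = x) → c = 1)
    (hcard : Nat.card G = p * m) (hpm : ¬ p ∣ m) (hmr : m ≠ r)
    (harith : ∀ c e, (c = 1 ∨ c = 2) → e ∣ p - 1 → c * e ∣ m → (m / (c * e)) % p = 1 →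
      c * e = r) : IsSimpleGroup G := by
  have hcard' : Nat.card G = p ^ 1 * m := by rw [pow_one]; exact hcard
  let P : Sylow p G := default
  have hcP : Nat.card P = p := by
    have := h8_sylow_card p 1 m hcard' hpm P
    rwa [pow_one] at this
  haveI : IsCyclic (P : Subgroup G) := isCyclic_of_prime_card hcP
  have hcomm : ∀ a ∈ (P : Subgroup G), ∀ b ∈ (P : Subgroup G), a * b = b * a := by
    intro a ha b hb
    have := IsCyclic.commGroup.mul_comm (⟨a, ha⟩ : (P : Subgroup G)) ⟨b, hb⟩
    exact congrArg Subtype.val this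
  have hPbot : (P : Subgroup G) ≠ ⊥ := by
    intro h
    rw [h, Subgroup.card_bot] at hcP
    exact hp.out.one_lt.ne hcP
  obtain ⟨x0, hx0⟩ := (Subgroup.ne_bot_iff_exists_ne_one).mp hPbot
  obtain ⟨σ, hσ, hσ1⟩ : ∃ σ : G, σ ∈ (P : Subgroup G) ∧ σ ≠ 1 :=
    ⟨(x0 : G), x0.2, fun h => hx0 (Subtype.ext h)⟩
  have : ∃ a ∈ S, σ • a ≠ a := by
    by_contra hcon
    push Not at hcon
    exact hσ1 (hfaith σ hcon)
  obtain ⟨a, haS, hσa⟩ := this
  have hSfin : S.Finite := Set.finite_of_ncard_pos (by rw [hS]; have := hp.out.pos; omega)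
  have horb_sub : MulAction.orbit (P : Subgroup G) a ⊆ S := by
    rintro c ⟨k, rfl⟩
    exact hinv (k : G) a haS
  have horb_dvd : (MulAction.orbit (P : Subgroup G) a).ncard ∣ p := by
    have h0 := Subgroup.index_dvd_card (MulAction.stabilizer (P : Subgroup G) a)
    rw [hcP] at h0
    rwa [MulAction.index_stabilizer] at h0
  have horb_ne1 : (MulAction.orbit (P : Subgroup G) a).ncard ≠ 1 := by
    intro h1
    rw [Set.ncard_eq_one] at h1
    obtain ⟨z, hz⟩ := h1
    have h1 : a ∈ MulAction.orbit (P : Subgroup G) a := MulAction.mem_orbit_self a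
    have h2 : σ • a ∈ MulAction.orbit (P : Subgroup G) a := ⟨⟨σ, hσ⟩, rfl⟩
    rw [hz, Set.mem_singleton_iff] at h1 h2
    exact hσa (h2.trans h1.symm)
  have horb_card : (MulAction.orbit (P : Subgroup G) a).ncard = p := by
    rcases (Nat.dvd_prime hp.out).mp horb_dvd with h | h
    · exact absurd h horb_ne1
    · exact h
  set C : Subgroup G := centralizer ((P : Subgroup G) : Set G) with hC
  have hPC : (P : Subgroup G) ≤ C := by
    intro c hc
    rw [hC, Subgroup.mem_centralizer_iff]
    intro b hb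
    exact hcomm b hb c hc
  have hfree : ∀ c ∈ C, c • a = a → c = 1 := by
    intro c hc hca
    rw [hC, Subgroup.mem_centralizer_iff] at hc
    apply hrigid c _ horb_sub horb_card
    rintro x ⟨ρ, rfl⟩
    change c • ((ρ : G) • a) = (ρ : G) • a
    rw [← mul_smul, ← hc (ρ : G) ρ.2, mul_smul, hca]
  have hCle : Nat.card C ≤ 2 * p := by
    rw [← hS]
    exact card_le_ncard_of_free S hSfin C a haS hinv hfree
  have hpC : p ∣ Nat.card C := by
    have := Subgroup.card_dvd_of_le hPC
    rwa [hcP] at this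
  obtain ⟨c0, hc0⟩ := hpC
  have hc0pos : 0 < c0 := by
    rcases Nat.eq_zero_or_pos c0 with h | h
    · rw [h, mul_zero] at hc0
      have := Nat.card_pos (α := C)
      omega
    · exact h
  have hc0le : c0 ≤ 2 := by
    rw [hc0, mul_comm] at hCle
    exact Nat.le_of_mul_le_mul_right hCle hp.out.pos
  have hc012 : c0 = 1 ∨ c0 = 2 := by omega
  have hN1 := h8_card_centralizer_mul_relIndex (P : Subgroup G)
  have he := h8_relIndex_centralizer_normalizer_dvd_prime p hp.out (P : Subgroup G) hcP
  set e := (centralizer ((P : Subgroup G) : Set G)).relIndex (normalizer ((P : Subgroup G) : Set G))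
    with hedef
  rw [← hC, hc0] at hN1
  have hidx := Subgroup.card_mul_index (normalizer ((P : Subgroup G) : Set G))
  rw [← hN1, hcard] at hidx
  have hidx' : c0 * e * (normalizer ((P : Subgroup G) : Set G)).index = m := by
    have : p * (c0 * e * (normalizer ((P : Subgroup G) : Set G)).index) = p * m := by
      rw [← hidx]; ring
    exact Nat.eq_of_mul_eq_mul_left hp.out.pos this
  have hem : c0 * e ∣ m := Dvd.intro _ hidx'
  have hepos : 0 < c0 * e := by
    rcases Nat.eq_zero_or_pos (c0 * e) with h | h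
    · rw [h, zero_mul] at hidx'
      rw [← hidx', mul_zero] at hcard
      have := Nat.card_pos (α := G)
      omega
    · exact h
  have hdiv : m / (c0 * e) = (normalizer ((P : Subgroup G) : Set G)).index := by
    rw [← hidx', Nat.mul_div_cancel_left _ hepos]
  have hmod : (m / (c0 * e)) % p = 1 := by
    have h2 : Nat.card (Sylow p G) = (normalizer ((P : Subgroup G) : Set G)).index :=
      Sylow.card_eq_index_normalizer P
    rw [hdiv, ← h2]
    have := card_sylow_modEq_one p G
    have h' : Nat.card (Sylow p G) % p = 1 % p := this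
    rw [h', Nat.mod_eq_of_lt hp.out.one_lt]
  have her : c0 * e = r := harith c0 e hc012 he hem hmod
  refine simple_of_sylow_prime p r m hr hcard hpm hmr ?_ P (by rw [← hN1, mul_assoc, her])
  intro N hNn hbot
  haveI := hNn
  obtain ⟨a', _, horb⟩ := orbit_normal_eq S hinv hfaith h2t N hbot
  have := dvd_card_of_orbit_eq N a' (2 * p) (by rw [horb, hS])
  exact (Dvd.intro_left 2 rfl).trans this

end

end Cfsg.Agent.Lib.helper4
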