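import Mathlib
import Cfsg.Prelude.Def_Sporadic_a
import Cfsg.Agent.Lib.helper4.PrimeDegreeC
import Cfsg.Agent.Lib.helper4.M24Rigid
import Cfsg.Agent.Lib.helper4.MathieuSimple

set_option autoImplicit false

namespace Cfsg.Agent.Lib.helper4

open Cfsg Cfsg.Agent.Lib.helper3
open scoped Pointwise

def emb4 {α : Type*} (a b c d : α) (hab : a ≠ b) (hac : a ≠ c) (had : a ≠ d) (hbc : b ≠ c)
    (hbd : b ≠ d) (hcd : c ≠ d) : Fin 4 ↪ α :=
  ⟨![a, b, c, d], by
    intro i j h
    fin_cases i <;> fin_cases j <;> simp_all⟩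

theorem M24_four : MulAction.IsMultiplyPretransitive M24 GolayPt 4 :=
  M24_pretrans_le 4 (by norm_num)

theorem arith22 : ∀ c e, (c = 1 ∨ c = 2) → e ∣ 11 - 1 → c * e ∣ 40320 →
    (40320 / (c * e)) % 11 = 1 → c * e = 5 := by
  intro c e hc h1 h2 h3
  have hle : e ≤ 10 := Nat.le_of_dvd (by norm_num) h1
  rcases hc with rfl | rfl <;> interval_cases e <;> omega

theorem ncard_compl_pair (p q : GolayPt) (hpq : p ≠ q) :
    {x : GolayPt | x ≠ p ∧ x ≠ q}.ncard = 22 := by
  have : {x : GolayPt | x ≠ p ∧ x ≠ q} = ({p, q} : Set GolayPt)ᶜ := by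
    ext x; simp
  rw [this, Set.ncard_compl, card_golayPt, Set.ncard_pair hpq]

theorem M22_simple (p q : GolayPt) (hpq : p ≠ q) :
    IsSimpleGroup ↥(MulAction.stabilizer M24 p ⊓ MulAction.stabilizer M24 q) := by
  haveI : Fact (Nat.Prime 11) := ⟨by norm_num⟩
  have hfixp : ∀ g : ↥(MulAction.stabilizer M24 p ⊓ MulAction.stabilizer M24 q),
      (g : M24) • p = p := fun g => MulAction.mem_stabilizer_iff.mp (Subgroup.mem_inf.mp g.2).1
  have hfixq : ∀ g : ↥(MulAction.stabilizer M24 p ⊓ MulAction.stabilizer M24 q),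
      (g : M24) • q = q := fun g => MulAction.mem_stabilizer_iff.mp (Subgroup.mem_inf.mp g.2).2
  apply simple_of_double_prime_degree
    (G := ↥(MulAction.stabilizer M24 p ⊓ MulAction.stabilizer M24 q)) (α := GolayPt)
    {x : GolayPt | x ≠ p ∧ x ≠ q} 11 5 40320 (by norm_num)
  · exact ncard_compl_pair p q hpq
  · intro g x hx
    refine ⟨fun hgx => hx.1 ?_, fun hgx => hx.2 ?_⟩
    · have : (g : M24) • x = (g : M24) • p := by rw [hfixp g]; exact hgx
      exact MulAction.injective (g : M24) this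
    · have : (g : M24) • x = (g : M24) • q := by rw [hfixq g]; exact hgx
      exact MulAction.injective (g : M24) this
  · intro g hg
    apply Subtype.ext
    apply Subtype.ext
    apply Equiv.ext
    intro x
    by_cases hx : x = p
    · rw [hx]
      exact hfixp g
    · by_cases hx' : x = q
      · rw [hx']
        exact hfixq g
      · exact hg x ⟨hx, hx'⟩
  · intro a ha b hb c hc hab hac
    haveI := M24_four
    obtain ⟨g, hg⟩ := MulAction.exists_smul_eq M24
      (emb4 p q a b hpq (Ne.symm ha.1) (Ne.symm hb.1) (Ne.symm ha.2) (Ne.symm hb.2) hab)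
      (emb4 p q a c hpq (Ne.symm ha.1) (Ne.symm hc.1) (Ne.symm ha.2) (Ne.symm hc.2) hac)
    have h0 := congrArg (fun f => f 0) hg
    have h1 := congrArg (fun f => f 1) hg
    have h2 := congrArg (fun f => f 2) hg
    have h3 := congrArg (fun f => f 3) hg
    refine ⟨⟨g, ?_⟩, ?_, ?_⟩
    · rw [Subgroup.mem_inf, MulAction.mem_stabilizer_iff, MulAction.mem_stabilizer_iff]
      exact ⟨h0, h1⟩
    · exact h2
    · exact h3
  · intro c T hTS hT hfix
    have hTfin : T.Finite := Set.toFinite T
    have h1 : ((c : M24) : Equiv.Perm GolayPt) = 1 := by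
      apply M24_rigid (c : M24).2 hTfin.toFinset
      · rw [← Set.ncard_eq_toFinset_card T hTfin, hT]
        norm_num
      · intro x hx
        rw [Set.Finite.mem_toFinset] at hx
        exact hfix x hx
    apply Subtype.ext
    apply Subtype.ext
    exact h1
  · rw [card_M22 p q hpq]
  · norm_num
  · norm_num
  · exact arith22

end Cfsg.Agent.Lib.helper4
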