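import Mathlib
import Cfsg.Agent.Lib.helper4.J2OData

set_option autoImplicit false

/-! Coded permutations of 315 points: the tests run by the kernel and what they mean. -/

namespace Cfsg.Agent.Lib.helper4

/-- evaluate a number before passing it on -/
def jqForce {α : Type} (x : ℕ) (k : ℕ → α) : α :=
  match x with
  | 0 => k Nat.zero
  | t + 1 => k (Nat.succ t)

theorem jqForce_eq {α : Type} (x : ℕ) (k : ℕ → α) : jqForce x k = k x := by
  cases x <;> rfl

/-- a test on `n` successive numbers from `i` on -/
def jqAll (f : ℕ → Bool) : ℕ → ℕ → Bool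
  | 0, _ => true
  | n + 1, i => f i && jqForce (Nat.succ i) fun i' => jqAll f n i'

theorem jqAll_iff (f : ℕ → Bool) : ∀ n i, jqAll f n i = true ↔
    ∀ j, i ≤ j → j < i + n → f j = true := by
  intro n
  induction n with
  | zero =>
    intro i
    constructor
    · intro _ j h1 h2
      omega
    · intro _
      rfl
  | succ n ih =>
    intro i
    rw [jqAll, jqForce_eq, Bool.and_eq_true, ih]
    constructor
    · rintro ⟨h0, h⟩ j h1 h2
      rcases Nat.eq_or_lt_of_le h1 with rfl | h3
      · exact h0
      · exact h j h3 (by omega)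
    · intro h
      exact ⟨h i le_rfl (by omega), fun j h1 h2 => h j (by omega) (by omega)⟩

/-- the image of a point under a coded permutation -/
def jqLook (T p : ℕ) : ℕ := Nat.land (Nat.shiftRight T (Nat.mul 9 p)) 511

/-- the image of a point under a word of coded permutations, the last letter acting first -/
def jqEv : List ℕ → ℕ → ℕ
  | [], p => p
  | T :: w, p => jqLook T (jqEv w p)

theorem jqEv_append (w v : List ℕ) (p : ℕ) : jqEv (w ++ v) p = jqEv w (jqEv v p) := by
  induction w with
  | nil => rfl
  | cons T w ih =>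
    show jqLook T (jqEv (w ++ v) p) = jqLook T (jqEv w (jqEv v p))
    rw [ih]

/-- two words of coded permutations agree on the 315 points -/
def jqEqW (w1 w2 : List ℕ) : Bool := jqAll (fun p => Nat.beq (jqEv w1 p) (jqEv w2 p)) 315 0

theorem jqEqW_iff (w1 w2 : List ℕ) :
    jqEqW w1 w2 = true ↔ ∀ p, p < 315 → jqEv w1 p = jqEv w2 p := by
  unfold jqEqW
  rw [jqAll_iff]
  constructor
  · intro h p hp
    exact Nat.eq_of_beq_eq_true (h p (Nat.zero_le _) (by omega))
  · intro h p _ hp
    have := h p (by omega)
    rw [this]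
    exact Nat.beq_refl _

/-- the position of the conjugate of an involution under a generator -/
def jqNx (k i : ℕ) : ℕ :=
  Nat.land (Nat.shiftRight ([jqNx0, jqNx1, jqNx2, jqNx3].getD k 0) (Nat.mul 12 i)) 4095

/-- the words in the codes of the generators -/
def jqWd (w : List ℕ) : List ℕ := w.map fun l => jqG.getD (Nat.mod l 4) 0

/-- the words in the codes of the element of order 7, its inverse and the involution -/
def jqWd3 (w : List ℕ) : List ℕ := w.map fun l => [jqC, jqCi, jqA].getD l 0

/-- the images of four points under a word of coded permutations -/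
def jqSig (w : List ℕ) : ℕ :=
  Nat.add (jqEv w 11) (Nat.mul 512 (Nat.add (jqEv w 0) (Nat.mul 512
    (Nat.add (jqEv w 3) (Nat.mul 512 (jqEv w 4))))))

/-- the conjugating word of the involution of a position -/
def jqLWd (i : ℕ) : List ℕ := (jqLW.getD (Nat.div i 53) []).getD (Nat.mod i 53) []

/-- the word of the involution of a position -/
def jqXw (i : ℕ) : List ℕ :=
  jqLWd i ++ (cond (Nat.blt i 315) [0] jqTBw ++ (jqLWd i).reverse)

/-- the stored images of four points under the involution of a position -/
def jqXs (i : ℕ) : ℕ := Nat.land (Nat.shiftRight jqLSig (Nat.mul 36 i)) 68719476735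

/-- the word of an element of the subgroup of order 128 -/
def jqSw (j : ℕ) : List ℕ := (jqSW.getD j []).flatMap fun k => jqSgw.getD k []

/-- a coded permutation and a permutation agree -/
def JqRep (T : ℕ) (g : Equiv.Perm (Fin 315)) : Prop := ∀ i : Fin 315, (g i).1 = jqLook T i.1

theorem jqRep_ev (w : List ℕ) (gs : List (Equiv.Perm (Fin 315))) (h : List.Forall₂ JqRep w gs)
    (i : Fin 315) : (gs.prod i).1 = jqEv w i.1 := by
  induction h with
  | nil => rfl
  | cons hT _ ih =>
    rw [List.prod_cons, Equiv.Perm.mul_apply, hT, ih]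
    rfl

/-- words that agree on all points have the same product -/
theorem jqEqW_prod (w1 w2 : List ℕ) (gs1 gs2 : List (Equiv.Perm (Fin 315)))
    (h1 : List.Forall₂ JqRep w1 gs1) (h2 : List.Forall₂ JqRep w2 gs2)
    (h : jqEqW w1 w2 = true) : gs1.prod = gs2.prod := by
  rw [jqEqW_iff] at h
  apply Equiv.ext
  intro i
  apply Fin.ext
  rw [jqRep_ev w1 gs1 h1, jqRep_ev w2 gs2 h2]
  exact h i.1 i.2

/-- a code that agrees with a word is a code of the product -/
theorem jqRep_of_eqW (T : ℕ) (w : List ℕ) (gs : List (Equiv.Perm (Fin 315)))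
    (h1 : List.Forall₂ JqRep w gs) (h : jqEqW [T] w = true) : JqRep T gs.prod := by
  rw [jqEqW_iff] at h
  intro i
  rw [jqRep_ev w gs h1, ← h i.1 i.2]
  rfl

/-- products that are equal agree on all points -/
theorem jqEqW_of_prod (w1 w2 : List ℕ) (gs1 gs2 : List (Equiv.Perm (Fin 315)))
    (h1 : List.Forall₂ JqRep w1 gs1) (h2 : List.Forall₂ JqRep w2 gs2)
    (h : gs1.prod = gs2.prod) : jqEqW w1 w2 = true := by
  rw [jqEqW_iff]
  intro p hp
  have e1 := jqRep_ev w1 gs1 h1 ⟨p, hp⟩
  have e2 := jqRep_ev w2 gs2 h2 ⟨p, hp⟩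
  rw [← e1, ← e2, h]

theorem jqRep_one : JqRep 0 1 → True := fun _ => trivial

theorem jqRep_eq (T : ℕ) (g h : Equiv.Perm (Fin 315)) (hg : JqRep T g) (hh : JqRep T h) :
    g = h := by
  apply Equiv.ext
  intro i
  apply Fin.ext
  rw [hg i, hh i]

end Cfsg.Agent.Lib.helper4
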