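import Mathlib
import Cfsg.Agent.Lib.Lead.J2.P315
import Cfsg.Agent.Lib.helper4.J2OBase

set_option autoImplicit false

/-! Kernel checks for the outer automorphism group of the Hall–Janko group on 315 points. -/

namespace Cfsg.Agent.Lib.helper4

open Cfsg.Agent.Lib.Lead.J2

/-- the word raised to a power -/
def jqRepW (w : List ℕ) : ℕ → List ℕ
  | 0 => []
  | n + 1 => w ++ jqRepW w n

/-- the word of coded permutations fixes the four points -/
def jqFix (w : List ℕ) : Bool :=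
  Nat.beq (jqEv w 11) 11 && (Nat.beq (jqEv w 0) 0 && (Nat.beq (jqEv w 3) 3 &&
    Nat.beq (jqEv w 4) 4))

/-- the pattern of orders, or membership in the list of fourteen -/
def jqPat (i : ℕ) : Bool :=
  match jqFix (jqRepW (jqC :: jqWd (jqXw i)) 3) with
  | false => true
  | true =>
    match jqFix (jqRepW (jqC :: jqWd (jqXw i) ++ jqCi :: jqWd (jqXw i)) 12) with
    | false => true
    | true =>
      match jqFix (jqRepW (jqC :: jqWd (jqXw i) ++ jqCi :: jqWd (jqXw i)) 4) with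
      | true => true
      | false => jqOrbSig.any fun o => Nat.beq o (jqXs i)

/-- the conjugate of a listed involution under a generator is listed -/
def jqCl (k i : ℕ) : Bool :=
  Nat.blt (jqNx k i) 2835 &&
    Nat.beq (jqSig (jqWd (k :: jqXw i ++ [k]))) (jqXs (jqNx k i))

/-- the involution does not commute with the element of order 7 -/
def jqNc (i : ℕ) : Bool :=
  !(Nat.beq (jqSig (jqWd (jqXw i) ++ [jqC])) (jqSig (jqC :: jqWd (jqXw i))))

/-- the stored images are the images -/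
def jqSg (i : ℕ) : Bool := Nat.beq (jqXs i) (jqSig (jqWd (jqXw i)))

set_option maxRecDepth 100000 in
theorem jqChkG : ∀ k : Fin 4, ∀ i : Fin 315,
    jqLook (jqG.getD k.1 0) i.1 = (tabG k).getD i.1 0 % 315 := by decide +kernel

set_option maxRecDepth 100000 in
theorem jqChkW : jqEqW [jqC] (jqWd [0, 1, 3]) = true ∧ jqEqW [jqCi] (jqWd [3, 1, 0]) = true ∧
    jqEqW [jqA] (jqWd jqAw) = true ∧ jqEqW [jqU] (jqWd jqUw) = true ∧
    jqEqW [jqU, jqC] [jqC, jqC, jqC, jqU] = true ∧ jqEqW (jqRepW [jqC] 7) [] = true ∧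
    jqEqW [jqC] [] = false ∧ jqEqW [jqA, jqA] [] = true ∧ jqEqW [jqA] [] = false ∧
    jqEqW (jqRepW [jqC, jqA] 3) [] = true ∧
    jqEqW (jqRepW [jqC, jqA, jqCi, jqA] 12) [] = true ∧
    jqEqW (jqRepW [jqC, jqA, jqCi, jqA] 4) [] = false ∧ jqEqW [jqA] [jqA2] = false := by
  decide +kernel

set_option maxRecDepth 100000 in
theorem jqChkGen : ∀ k, k < 4 → jqEqW [jqG.getD k 0] (jqWd3 (jqGw.getD k [])) = true := by
  decide +kernel

set_option maxRecDepth 100000 in
theorem jqChkZ : jqEqW [jqZ, jqZ] [] = true ∧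
    (∀ k, k < 4 → jqEqW [jqZ, jqG.getD k 0, jqZ] (jqWd (jqZw.getD k [])) = true) ∧
    jqEqW [jqZ, jqC, jqZ] [jqC] = true ∧ jqEqW [jqA2] [jqZ, jqA, jqZ] = true ∧
    (∀ i, i < 315 → jqLook jqZ i < 315) := by
  decide +kernel

set_option maxRecDepth 100000 in
theorem jqChkOrb : jqOrbSig.length = 14 ∧
    (∀ j, j < 7 → jqOrbSig.getD j 0 = jqSig (jqRepW [jqC] j ++ jqA :: jqRepW [jqCi] j)) ∧
    (∀ j, j < 7 → jqOrbSig.getD (j + 7) 0 = jqSig (jqRepW [jqC] j ++ jqA2 :: jqRepW [jqCi] j)) := by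
  decide +kernel

set_option maxRecDepth 100000 in
theorem jqChkS1 : jqSw 0 = [] ∧ jqSW.length = 128 ∧
    (∀ k, k < 5 → ∀ j, j < 128 → (jqNxtS.getD k []).getD j 0 < 128 ∧
      jqSig (jqWd (jqSgw.getD k [] ++ jqSw j)) =
        jqSig (jqWd (jqSw ((jqNxtS.getD k []).getD j 0)))) := by
  decide +kernel

set_option maxRecDepth 100000 in
theorem jqChkS3 : ∀ i, i < 128 → ∀ j, j < i →
    jqSig (jqWd (jqSw i)) ≠ jqSig (jqWd (jqSw j)) := by
  decide +kernel

set_option maxRecDepth 100000 in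
theorem jqChkS4 : ∀ j, j < 128 → jqFix (jqWd (jqSw j ++ jqSw j)) = true →
    jqFix (jqWd (jqSw j)) = false →
    jqIdxS.getD j 0 < 2835 ∧ jqXs (jqIdxS.getD j 0) = jqSig (jqWd (jqSw j)) := by
  decide +kernel

end Cfsg.Agent.Lib.helper4
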