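import Mathlib
import Cfsg.Agent.Lib.helper23.J2pMain
import Cfsg.Agent.Lib.helper4.J2OChk

set_option autoImplicit false

/-! The Hall–Janko group on 315 points: words in the generators, their codes, and the four
points that determine an element. -/

namespace Cfsg.Agent.Lib.helper4

open Cfsg.Agent.Lib.Lead.J2 Cfsg.Agent.Lib.helper23

set_option maxRecDepth 1000000 in
/-- an element fixing the four points is trivial -/
theorem jq_rigid (g : Equiv.Perm (Fin 315)) (hg : g ∈ P315) (h11 : g 11 = 11) (h0 : g 0 = 0)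
    (h3 : g 3 = 3) (h4 : g 4 = 4) : g = 1 := by
  have hc1 : pgChkW 315 (pgRigidTop 315).base [j2pL1, j2pL2, j2pL3, j2pL4] = true := j2pchkC
  have hc := hc1
  rw [pgChkW_cons, Bool.and_eq_true] at hc
  have hc2 : pgChkW 315 (pgRigidTop 315).base [j2pL2, j2pL3, j2pL4] = true := hc.2
  have hc' := hc.2
  rw [pgChkW_cons, Bool.and_eq_true] at hc'
  have hc3 : pgChkW 315 (pgRigidTop 315).base [j2pL3, j2pL4] = true := hc'.2
  have hc'' := hc'.2
  rw [pgChkW_cons, Bool.and_eq_true] at hc''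
  have hc4 : pgChkW 315 (pgRigidTop 315).base [j2pL4] = true := hc''.2
  rw [P315_eq] at hg
  obtain ⟨hb1, k1, -, -, -⟩ := pgLvlW_main (pgRigidTop 315) hc1 le_top
  obtain ⟨hb2, k2, -, -, -⟩ := pgLvlW_main (pgRigidTop 315) hc2 le_top
  obtain ⟨hb3, k3, -, -, -⟩ := pgLvlW_main (pgRigidTop 315) hc3 le_top
  obtain ⟨hb4, k4, -, -, -⟩ := pgLvlW_main (pgRigidTop 315) hc4 le_top
  have g1 := k1 g hg h11
  have g2 := k2 g g1 h0
  have g3 := k3 g g2 h3
  have g4 := k4 g g3 h4
  rw [pgGrpW_nil, Subgroup.mem_bot] at g4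
  exact g4

/-- elements that agree on the four points are equal -/
theorem jq_eq_of_base (g h : Equiv.Perm (Fin 315)) (hg : g ∈ P315) (hh : h ∈ P315)
    (h11 : g 11 = h 11) (h0 : g 0 = h 0) (h3 : g 3 = h 3) (h4 : g 4 = h 4) : g = h := by
  have := jq_rigid (h⁻¹ * g) (Subgroup.mul_mem _ (Subgroup.inv_mem _ hh) hg)
    (by rw [Equiv.Perm.mul_apply, h11]; simp)
    (by rw [Equiv.Perm.mul_apply, h0]; simp)
    (by rw [Equiv.Perm.mul_apply, h3]; simp)
    (by rw [Equiv.Perm.mul_apply, h4]; simp)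
  calc g = h * (h⁻¹ * g) := by group
    _ = h := by rw [this, mul_one]

/-- the generators, indexed by all numbers -/
def jqGen (l : ℕ) : Equiv.Perm (Fin 315) := piG ⟨l % 4, Nat.mod_lt _ (by norm_num)⟩

theorem jqGen_mem (l : ℕ) : jqGen l ∈ P315 := Subgroup.subset_closure ⟨_, rfl⟩

theorem jqGen_sq (l : ℕ) : jqGen l * jqGen l = 1 := by
  apply Equiv.ext
  intro i
  exact piFun_invol _ i

theorem jqGen_inv (l : ℕ) : (jqGen l)⁻¹ = jqGen l := inv_eq_of_mul_eq_one_left (jqGen_sq l)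

theorem jqRep_gen (l : ℕ) : JqRep (jqG.getD (Nat.mod l 4) 0) (jqGen l) := by
  intro i
  exact (jqChkG ⟨l % 4, Nat.mod_lt _ (by norm_num)⟩ i).symm

/-- the element of a word in the generators -/
def jqPw (w : List ℕ) : Equiv.Perm (Fin 315) := (w.map jqGen).prod

theorem jqPw_nil : jqPw [] = 1 := rfl

theorem jqPw_cons (l : ℕ) (w : List ℕ) : jqPw (l :: w) = jqGen l * jqPw w := by
  unfold jqPw
  rw [List.map_cons, List.prod_cons]

theorem jqPw_append (w v : List ℕ) : jqPw (w ++ v) = jqPw w * jqPw v := by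
  unfold jqPw
  rw [List.map_append, List.prod_append]

theorem jqPw_mem (w : List ℕ) : jqPw w ∈ P315 := by
  induction w with
  | nil => exact Subgroup.one_mem _
  | cons l w ih =>
    rw [jqPw_cons]
    exact Subgroup.mul_mem _ (jqGen_mem l) ih

theorem jqPw_reverse (w : List ℕ) : jqPw w.reverse = (jqPw w)⁻¹ := by
  induction w with
  | nil => simp [jqPw]
  | cons l w ih =>
    rw [List.reverse_cons, jqPw_append, ih, jqPw_cons, jqPw_cons, jqPw_nil, mul_one, mul_inv_rev,
      jqGen_inv]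

theorem jqPw_rep (w : List ℕ) : List.Forall₂ JqRep (jqWd w) (w.map jqGen) := by
  induction w with
  | nil => exact List.Forall₂.nil
  | cons l w ih => exact List.Forall₂.cons (jqRep_gen l) ih

theorem jqLook_lt (T p : ℕ) : jqLook T p < 512 := by
  unfold jqLook
  exact Nat.lt_succ_of_le Nat.and_le_right

theorem jqEv_lt (w : List ℕ) (p : ℕ) (hp : p < 512) : jqEv w p < 512 := by
  cases w with
  | nil => exact hp
  | cons T w => exact jqLook_lt _ _

/-- the packed images of the four points determine the images -/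
theorem jqSig_inj (w v : List ℕ) (h : jqSig w = jqSig v) :
    jqEv w 11 = jqEv v 11 ∧ jqEv w 0 = jqEv v 0 ∧ jqEv w 3 = jqEv v 3 ∧ jqEv w 4 = jqEv v 4 := by
  unfold jqSig at h
  have a1 := jqEv_lt w 11 (by norm_num)
  have a2 := jqEv_lt w 0 (by norm_num)
  have a3 := jqEv_lt w 3 (by norm_num)
  have a4 := jqEv_lt w 4 (by norm_num)
  have b1 := jqEv_lt v 11 (by norm_num)
  have b2 := jqEv_lt v 0 (by norm_num)
  have b3 := jqEv_lt v 3 (by norm_num)
  have b4 := jqEv_lt v 4 (by norm_num)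
  simp only [Nat.add_eq, Nat.mul_eq] at h
  omega

theorem jqSig_congr (w v : List ℕ) (h11 : jqEv w 11 = jqEv v 11) (h0 : jqEv w 0 = jqEv v 0)
    (h3 : jqEv w 3 = jqEv v 3) (h4 : jqEv w 4 = jqEv v 4) : jqSig w = jqSig v := by
  unfold jqSig
  rw [h11, h0, h3, h4]

/-- products in the group with the same packed images are equal -/
theorem jq_eq_of_sig (w v : List ℕ) (gs hs : List (Equiv.Perm (Fin 315)))
    (hw : List.Forall₂ JqRep w gs) (hv : List.Forall₂ JqRep v hs) (hg : gs.prod ∈ P315)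
    (hh : hs.prod ∈ P315) (h : jqSig w = jqSig v) : gs.prod = hs.prod := by
  obtain ⟨e11, e0, e3, e4⟩ := jqSig_inj w v h
  apply jq_eq_of_base _ _ hg hh
  · apply Fin.ext
    rw [jqRep_ev w gs hw, jqRep_ev v hs hv]
    exact e11
  · apply Fin.ext
    rw [jqRep_ev w gs hw, jqRep_ev v hs hv]
    exact e0
  · apply Fin.ext
    rw [jqRep_ev w gs hw, jqRep_ev v hs hv]
    exact e3
  · apply Fin.ext
    rw [jqRep_ev w gs hw, jqRep_ev v hs hv]
    exact e4

/-- equal products have the same packed images -/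
theorem jqSig_of_eq (w v : List ℕ) (gs hs : List (Equiv.Perm (Fin 315)))
    (hw : List.Forall₂ JqRep w gs) (hv : List.Forall₂ JqRep v hs) (h : gs.prod = hs.prod) :
    jqSig w = jqSig v := by
  have key : ∀ i : Fin 315, jqEv w i.1 = jqEv v i.1 := by
    intro i
    rw [← jqRep_ev w gs hw, ← jqRep_ev v hs hv, h]
  exact jqSig_congr w v (key 11) (key 0) (key 3) (key 4)

theorem jqFix_iff (w : List ℕ) : jqFix w = true ↔ jqSig w = jqSig [] := by
  unfold jqFix
  rw [Bool.and_eq_true, Bool.and_eq_true, Bool.and_eq_true]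
  constructor
  · rintro ⟨h1, h2, h3, h4⟩
    exact jqSig_congr w [] (Nat.eq_of_beq_eq_true h1) (Nat.eq_of_beq_eq_true h2)
      (Nat.eq_of_beq_eq_true h3) (Nat.eq_of_beq_eq_true h4)
  · intro h
    obtain ⟨e1, e2, e3, e4⟩ := jqSig_inj w [] h
    change jqEv w 11 = 11 at e1
    change jqEv w 0 = 0 at e2
    change jqEv w 3 = 3 at e3
    change jqEv w 4 = 4 at e4
    rw [e1, e2, e3, e4]
    exact ⟨rfl, rfl, rfl, rfl⟩

end Cfsg.Agent.Lib.helper4
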