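import Mathlib

set_option autoImplicit false

/-! Elements of prime order are conjugate into a subgroup containing a Sylow subgroup. -/

namespace Cfsg.Agent.Lib.helper4

open scoped Pointwise

theorem conj_into_subgroup {G : Type*} [Group G] [Finite G] (p : ℕ) [Fact p.Prime]
    (C : Subgroup G) (k : ℕ) (hG : (Nat.card G).factorization p = k)
    (hC : p ^ k ∣ Nat.card C) (x : G) (hx : orderOf x = p) :
    ∃ g : G, g⁻¹ * x * g ∈ C := by
  obtain ⟨K, hK⟩ := Sylow.exists_subgroup_card_pow_prime p hC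
  let K' : Subgroup G := K.map C.subtype
  have hK' : Nat.card K' = p ^ k := by
    rw [← hK]
    exact Subgroup.card_map_of_injective C.subtype_injective
  let S : Sylow p G := Sylow.ofCard K' (by rw [hG]; exact hK')
  have hSK : (S : Subgroup G) = K' := rfl
  have hzp : IsPGroup p (Subgroup.zpowers x) := by
    apply IsPGroup.of_card (n := 1)
    rw [Nat.card_zpowers, hx, pow_one]
  obtain ⟨Q, hQ⟩ := hzp.exists_le_sylow
  obtain ⟨g, hg⟩ := MulAction.exists_smul_eq G S Q
  refine ⟨g, ?_⟩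
  have hxQ : x ∈ (Q : Subgroup G) := hQ (Subgroup.mem_zpowers x)
  rw [← hg] at hxQ
  have hxQ' : x ∈ MulAut.conj g • (S : Subgroup G) := by
    rw [← Sylow.coe_subgroup_smul]
    exact hxQ
  rw [Subgroup.mem_pointwise_smul_iff_inv_smul_mem, hSK] at hxQ'
  have e : (MulAut.conj g)⁻¹ • x = g⁻¹ * x * g := by
    rw [← map_inv, MulAut.smul_def, MulAut.conj_apply, inv_inv]
  rw [e] at hxQ'
  obtain ⟨c, -, hc⟩ := hxQ'
  rw [← hc]
  exact c.2

end Cfsg.Agent.Lib.helper4
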