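import Mathlib

set_option autoImplicit false

/-! One step of a stabiliser chain, for a finite group acting on a set through a given function
(Schreier's lemma in the form of a certificate): a generating set `S`, a subgroup `K` of the
generated group fixing the point `b`, and a family `u z` (`z ∈ O`) of elements of the generated
group with `u z · b = z`, such that `(u (s · z))⁻¹ * s * u z ∈ K` for all `s ∈ S`, `z ∈ O`. Then the
stabiliser of `b` in the generated group is `K` and the order is `|O| * |K|`. -/

namespace Cfsg.Agent.Lib.helper4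

open Subgroup

theorem ss_inv_mul_subset {G : Type*} [Group G] [Finite G] (P : Set G) (g : G)
    (h : ∀ x ∈ P, g * x ∈ P) : ∀ x ∈ P, g⁻¹ * x ∈ P := by
  classical
  have hfin : P.Finite := Set.toFinite P
  have himg : (fun x => g * x) '' P = P := by
    apply Set.eq_of_subset_of_ncard_le
    · rintro _ ⟨x, hx, rfl⟩
      exact h x hx
    · rw [Set.ncard_image_of_injective _ (mul_right_injective g)]
    · exact hfin
  intro x hx
  rw [← himg] at hx
  obtain ⟨y, hy, rfl⟩ := hx
  simpa using hy

section step

variable {G X : Type*} [Group G] [Finite G] [DecidableEq X] (act : G → X → X)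

theorem ss_closure_sub (h1 : ∀ x, act 1 x = x) (hm : ∀ g h x, act (g * h) x = act g (act h x))
    (S : Set G) (K : Subgroup G) (b : X)
    (O : Finset X) (u : X → G) (hb : b ∈ O) (hub : u b = 1)
    (hcl : ∀ s ∈ S, ∀ z ∈ O, act s z ∈ O ∧ (u (act s z))⁻¹ * s * u z ∈ K) :
    ∀ g ∈ closure S, act g b ∈ O ∧ (u (act g b))⁻¹ * g ∈ K := by
  have key : ∀ g ∈ closure S, ∀ x : G, (act x b ∈ O ∧ (u (act x b))⁻¹ * x ∈ K) →
      (act (g * x) b ∈ O ∧ (u (act (g * x) b))⁻¹ * (g * x) ∈ K) := by
    intro g hg
    induction hg using Subgroup.closure_induction with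
    | mem s hs =>
      rintro x ⟨hx1, hx2⟩
      obtain ⟨h1', h2'⟩ := hcl s hs (act x b) hx1
      rw [hm]
      refine ⟨h1', ?_⟩
      have e : (u (act s (act x b)))⁻¹ * (s * x) =
          ((u (act s (act x b)))⁻¹ * s * u (act x b)) * ((u (act x b))⁻¹ * x) := by
        group
      rw [e]
      exact K.mul_mem h2' hx2
    | one => intro x hx; simpa using hx
    | mul a c _ _ iha ihc =>
      intro x hx
      rw [mul_assoc]
      exact iha _ (ihc x hx)
    | inv a _ iha =>
      exact ss_inv_mul_subset {x | act x b ∈ O ∧ (u (act x b))⁻¹ * x ∈ K} a iha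
  intro g hg
  have h0 : act (1 : G) b ∈ O ∧ (u (act (1 : G) b))⁻¹ * (1 : G) ∈ K := by
    rw [h1, hub]
    exact ⟨hb, by simp⟩
  simpa using key g hg 1 h0

theorem ss_step (h1 : ∀ x, act 1 x = x) (hm : ∀ g h x, act (g * h) x = act g (act h x))
    (S : Set G) (K : Subgroup G) (b : X)
    (O : Finset X) (u : X → G) (hb : b ∈ O) (hub : u b = 1)
    (huz : ∀ z ∈ O, act (u z) b = z)
    (hK : K ≤ closure S) (hKb : ∀ k ∈ K, act k b = b)
    (huS : ∀ z ∈ O, u z ∈ closure S)
    (hcl : ∀ s ∈ S, ∀ z ∈ O, act s z ∈ O ∧ (u (act s z))⁻¹ * s * u z ∈ K) :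
    (∀ g ∈ closure S, act g b = b → g ∈ K) ∧ (∀ g ∈ closure S, act g b ∈ O) ∧
      Nat.card (closure S) = O.card * Nat.card K := by
  have hP := ss_closure_sub act h1 hm S K b O u hb hub hcl
  refine ⟨?_, fun g hg => (hP g hg).1, ?_⟩
  · intro g hg hgb
    have := (hP g hg).2
    rw [hgb, hub] at this
    simpa using this
  · have e : (closure S) ≃ O × K :=
      { toFun := fun g => (⟨act g.1 b, (hP g.1 g.2).1⟩,
          ⟨(u (act g.1 b))⁻¹ * g.1, (hP g.1 g.2).2⟩)
        invFun := fun p => ⟨u p.1.1 * p.2.1,
          (closure S).mul_mem (huS p.1.1 p.1.2) (hK p.2.2)⟩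
        left_inv := by
          intro g
          apply Subtype.ext
          simp
        right_inv := by
          rintro ⟨⟨z, hz⟩, ⟨k, hk⟩⟩
          have h1' : act (u z * k) b = z := by
            rw [hm, hKb k hk, huz z hz]
          apply Prod.ext
          · apply Subtype.ext
            exact h1'
          · apply Subtype.ext
            simp only [h1']
            simp }
    rw [Nat.card_congr e, Nat.card_prod, Nat.card_eq_fintype_card, Fintype.card_coe]

end step

end Cfsg.Agent.Lib.helper4
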