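import Mathlib
import Cfsg.Agent.Lib.helper4.J2OSound
import Cfsg.Agent.Lib.helper4.J2OChkL
import Cfsg.Agent.Lib.helper4.J2OChkN0
import Cfsg.Agent.Lib.helper4.J2OChkN1
import Cfsg.Agent.Lib.helper4.J2OChkN2
import Cfsg.Agent.Lib.helper4.J2OChkN3
import Cfsg.Agent.Lib.helper4.SchreierStep
import Cfsg.Agent.Lib.helper4.J3CSyl

set_option autoImplicit false

/-! The Hall–Janko group on 315 points: the list of all its involutions is complete. -/

namespace Cfsg.Agent.Lib.helper4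

open Cfsg.Agent.Lib.Lead.J2 Cfsg.Agent.Lib.helper23

/-- the involution of a position -/
def jqX (i : ℕ) : Equiv.Perm (Fin 315) := jqPw (jqXw i)

theorem jqX_mem (i : ℕ) : jqX i ∈ P315 := jqPw_mem _

theorem jqXs_eq (i : ℕ) (hi : i < 2835) : jqXs i = jqSig (jqWd (jqXw i)) :=
  Nat.eq_of_beq_eq_true ((jqAll_iff _ _ _).1 jqChkL i (Nat.zero_le _) (by omega))

theorem jqCl_all (k i : ℕ) (hk : k < 4) (hi : i < 2835) : jqCl k i = true := by
  interval_cases k
  · exact (jqAll_iff _ _ _).1 jqChkN0 i (Nat.zero_le _) (by omega)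
  · exact (jqAll_iff _ _ _).1 jqChkN1 i (Nat.zero_le _) (by omega)
  · exact (jqAll_iff _ _ _).1 jqChkN2 i (Nat.zero_le _) (by omega)
  · exact (jqAll_iff _ _ _).1 jqChkN3 i (Nat.zero_le _) (by omega)

/-- the conjugate of a listed involution under a generator is listed -/
theorem jqX_conj (k i : ℕ) (hk : k < 4) (hi : i < 2835) :
    jqNx k i < 2835 ∧ jqGen k * jqX i * jqGen k = jqX (jqNx k i) := by
  have h := jqCl_all k i hk hi
  unfold jqCl at h
  rw [Bool.and_eq_true] at h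
  have hlt : jqNx k i < 2835 := by
    have := h.1
    simpa using this
  refine ⟨hlt, ?_⟩
  have hs := Nat.eq_of_beq_eq_true h.2
  rw [jqXs_eq _ hlt] at hs
  have e := jq_eq_of_sig _ _ _ _ (jqPw_rep (k :: jqXw i ++ [k])) (jqPw_rep (jqXw (jqNx k i)))
    (jqPw_mem _) (jqPw_mem _) hs
  change jqPw (k :: jqXw i ++ [k]) = jqPw (jqXw (jqNx k i)) at e
  rw [jqPw_append, jqPw_cons, jqPw_cons, jqPw_nil, mul_one] at e
  exact e

/-- the generators of the subgroup of order 128 -/
def jqSgen (k : ℕ) : Equiv.Perm (Fin 315) := jqPw (jqSgw.getD k [])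

/-- the subgroup of order 128 -/
def jqS : Subgroup (Equiv.Perm (Fin 315)) := Subgroup.closure (Set.range jqSgen)

theorem jqS_le : jqS ≤ P315 := by
  unfold jqS
  rw [Subgroup.closure_le]
  rintro _ ⟨k, rfl⟩
  exact jqPw_mem _

/-- the listed elements of the subgroup of order 128 -/
def jqY (j : ℕ) : Equiv.Perm (Fin 315) := jqPw (jqSw j)

theorem jqPw_flatMap (l : List ℕ) :
    jqPw (l.flatMap fun k => jqSgw.getD k []) ∈ jqS := by
  induction l with
  | nil => exact Subgroup.one_mem _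
  | cons k l ih =>
    rw [List.flatMap_cons, jqPw_append]
    exact Subgroup.mul_mem _ (Subgroup.subset_closure ⟨k, rfl⟩) ih

theorem jqY_mem (j : ℕ) : jqY j ∈ jqS := jqPw_flatMap _

theorem jqY_zero : jqY 0 = 1 := by
  unfold jqY
  rw [jqChkS1.1]
  rfl

theorem jqSgen_big (k : ℕ) (hk : 5 ≤ k) : jqSgen k = 1 := by
  unfold jqSgen
  have : jqSgw.getD k [] = [] := List.getD_eq_default _ _ (by
    have : jqSgw.length = 5 := rfl
    omega)
  rw [this]
  rfl

/-- every element of the subgroup of order 128 is listed -/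
theorem jqS_mem (g : Equiv.Perm (Fin 315)) (hg : g ∈ jqS) : ∃ j, j < 128 ∧ g = jqY j := by
  let S : Set (Equiv.Perm (Fin 315)) := {x | ∃ j, j < 128 ∧ x = jqY j}
  have key : ∀ g ∈ jqS, ∀ x ∈ S, g * x ∈ S := by
    intro g hg
    induction hg using Subgroup.closure_induction with
    | mem s hs =>
      obtain ⟨k, rfl⟩ := hs
      rintro x ⟨j, hj, rfl⟩
      by_cases hk : k < 5
      · obtain ⟨h1, h2⟩ := jqChkS1.2.2 k hk j hj
        refine ⟨_, h1, ?_⟩
        have e := jq_eq_of_sig _ _ _ _ (jqPw_rep (jqSgw.getD k [] ++ jqSw j))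
          (jqPw_rep (jqSw ((jqNxtS.getD k []).getD j 0))) (jqPw_mem _) (jqPw_mem _) h2
        change jqPw (jqSgw.getD k [] ++ jqSw j) = jqPw (jqSw ((jqNxtS.getD k []).getD j 0)) at e
        rw [jqPw_append] at e
        exact e
      · rw [jqSgen_big k (by omega), one_mul]
        exact ⟨j, hj, rfl⟩
    | one => intro x hx; simpa using hx
    | mul a c _ _ iha ihc =>
      intro x hx
      rw [mul_assoc]
      exact iha _ (ihc x hx)
    | inv a _ iha => exact ss_inv_mul_subset S a iha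
  have h1 : (1 : Equiv.Perm (Fin 315)) ∈ S := ⟨0, by norm_num, jqY_zero.symm⟩
  have := key g hg 1 h1
  rw [mul_one] at this
  exact this

theorem jqY_inj (i j : ℕ) (hi : i < 128) (hj : j < 128) (h : jqY i = jqY j) : i = j := by
  have hs : jqSig (jqWd (jqSw i)) = jqSig (jqWd (jqSw j)) :=
    jqSig_of_eq _ _ _ _ (jqPw_rep _) (jqPw_rep _) h
  rcases Nat.lt_trichotomy i j with hlt | heq | hgt
  · exact absurd hs.symm (jqChkS3 j hj i hlt)
  · exact heq
  · exact absurd hs (jqChkS3 i hi j hgt)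

/-- the order of the subgroup -/
theorem jqS_card : Nat.card jqS = 128 := by
  let f : Fin 128 → jqS := fun j => ⟨jqY j.1, jqY_mem j.1⟩
  have hf : Function.Bijective f := by
    constructor
    · intro i j hij
      apply Fin.ext
      exact jqY_inj _ _ i.2 j.2 (congrArg Subtype.val hij)
    · rintro ⟨g, hg⟩
      obtain ⟨j, hj, e⟩ := jqS_mem g hg
      exact ⟨⟨j, hj⟩, Subtype.ext e.symm⟩
  rw [← Nat.card_congr (Equiv.ofBijective f hf), Nat.card_eq_fintype_card, Fintype.card_fin]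

/-- the involutions of the subgroup of order 128 are listed -/
theorem jqS_invol (d : Equiv.Perm (Fin 315)) (hd : d ∈ jqS) (h2 : d * d = 1) (h1 : d ≠ 1) :
    ∃ i, i < 2835 ∧ d = jqX i := by
  obtain ⟨j, hj, rfl⟩ := jqS_mem d hd
  have hf2 : jqFix (jqWd (jqSw j ++ jqSw j)) = true := by
    rw [jqFix_iff]
    apply jqSig_of_eq _ _ _ _ (jqPw_rep (jqSw j ++ jqSw j)) List.Forall₂.nil
    change jqPw (jqSw j ++ jqSw j) = 1
    rw [jqPw_append]
    exact h2
  have hf1 : jqFix (jqWd (jqSw j)) = false := by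
    rw [← Bool.not_eq_true, jqFix_iff]
    intro h
    apply h1
    have e := jq_eq_of_sig _ _ _ _ (jqPw_rep (jqSw j)) List.Forall₂.nil (jqPw_mem _)
      (Subgroup.one_mem _) h
    exact e
  obtain ⟨hlt, hs⟩ := jqChkS4 j hj hf2 hf1
  refine ⟨_, hlt, ?_⟩
  rw [jqXs_eq _ hlt] at hs
  exact (jq_eq_of_sig _ _ _ _ (jqPw_rep _) (jqPw_rep _) (jqPw_mem _) (jqPw_mem _) hs).symm

theorem jqFact2 : (604800 : ℕ).factorization 2 = 7 := by
  have e : (604800 : ℕ) = 2 ^ 7 * 4725 := by norm_num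
  rw [e, Nat.factorization_mul (by norm_num) (by norm_num),
    Nat.Prime.factorization_pow Nat.prime_two]
  have : (4725 : ℕ).factorization 2 = 0 := Nat.factorization_eq_zero_of_not_dvd (by norm_num)
  simp [this]

/-- the conjugates of the listed involutions are listed -/
theorem jqX_conj_all (g : Equiv.Perm (Fin 315)) (hg : g ∈ P315) :
    (∀ i, i < 2835 → ∃ i', i' < 2835 ∧ g * jqX i * g⁻¹ = jqX i') ∧
      (∀ i, i < 2835 → ∃ i', i' < 2835 ∧ g⁻¹ * jqX i * g = jqX i') := by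
  unfold P315 at hg
  induction hg using Subgroup.closure_induction with
  | mem s hs =>
    obtain ⟨k, rfl⟩ := hs
    have hk : piG k = jqGen k.1 := by
      unfold jqGen
      congr 1
      apply Fin.ext
      exact (Nat.mod_eq_of_lt k.2).symm
    have hinv : (piG k)⁻¹ = jqGen k.1 := by rw [hk, jqGen_inv]
    constructor
    · intro i hi
      obtain ⟨h1, h2⟩ := jqX_conj k.1 i k.2 hi
      exact ⟨_, h1, by rw [hinv, hk]; exact h2⟩
    · intro i hi
      obtain ⟨h1, h2⟩ := jqX_conj k.1 i k.2 hi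
      exact ⟨_, h1, by rw [hinv, hk]; exact h2⟩
  | one =>
    constructor
    · intro i hi
      exact ⟨i, hi, by simp⟩
    · intro i hi
      exact ⟨i, hi, by simp⟩
  | mul a b _ _ iha ihb =>
    constructor
    · intro i hi
      obtain ⟨i1, h1, e1⟩ := ihb.1 i hi
      obtain ⟨i2, h2, e2⟩ := iha.1 i1 h1
      refine ⟨i2, h2, ?_⟩
      rw [← e2, ← e1]
      group
    · intro i hi
      obtain ⟨i1, h1, e1⟩ := iha.2 i hi
      obtain ⟨i2, h2, e2⟩ := ihb.2 i1 h1
      refine ⟨i2, h2, ?_⟩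
      rw [← e2, ← e1]
      group
  | inv a _ iha =>
    constructor
    · intro i hi
      obtain ⟨i1, h1, e1⟩ := iha.2 i hi
      exact ⟨i1, h1, by rw [inv_inv]; exact e1⟩
    · intro i hi
      obtain ⟨i1, h1, e1⟩ := iha.1 i hi
      exact ⟨i1, h1, by rw [inv_inv]; exact e1⟩

/-- every involution of the group is listed -/
theorem jq_invol_listed (x : Equiv.Perm (Fin 315)) (hx : x ∈ P315) (h2 : x * x = 1)
    (h1 : x ≠ 1) : ∃ i, i < 2835 ∧ x = jqX i := by
  have : Fact (Nat.Prime 2) := ⟨Nat.prime_two⟩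
  have hord : orderOf (⟨x, hx⟩ : P315) = 2 := by
    apply orderOf_eq_prime
    · rw [pow_two]
      exact Subtype.ext h2
    · intro h
      exact h1 (congrArg Subtype.val h)
  have hfac : (Nat.card P315).factorization 2 = 7 := by
    rw [P315_card]
    exact jqFact2
  have hcard : Nat.card (jqS.subgroupOf P315) = 128 := by
    rw [Nat.card_congr (Subgroup.subgroupOfEquivOfLe jqS_le).toEquiv, jqS_card]
  obtain ⟨g, hg⟩ := conj_into_subgroup 2 (jqS.subgroupOf P315) 7 hfac
    (by rw [hcard]; norm_num) ⟨x, hx⟩ hord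
  rw [Subgroup.mem_subgroupOf] at hg
  have hd : (g : Equiv.Perm (Fin 315))⁻¹ * x * g ∈ jqS := hg
  have hd2 : ((g : Equiv.Perm (Fin 315))⁻¹ * x * g) * ((g : Equiv.Perm (Fin 315))⁻¹ * x * g) = 1 := by
    calc ((g : Equiv.Perm (Fin 315))⁻¹ * x * g) * ((g : Equiv.Perm (Fin 315))⁻¹ * x * g)
        = (g : Equiv.Perm (Fin 315))⁻¹ * (x * x) * g := by group
      _ = 1 := by rw [h2]; group
  have hd1 : (g : Equiv.Perm (Fin 315))⁻¹ * x * g ≠ 1 := by
    intro h
    apply h1
    calc x = g * ((g : Equiv.Perm (Fin 315))⁻¹ * x * g) * (g : Equiv.Perm (Fin 315))⁻¹ := by group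
      _ = 1 := by rw [h]; group
  obtain ⟨i, hi, e⟩ := jqS_invol _ hd hd2 hd1
  obtain ⟨i', hi', e'⟩ := (jqX_conj_all g.1 g.2).1 i hi
  refine ⟨i', hi', ?_⟩
  rw [← e', ← e]
  group

end Cfsg.Agent.Lib.helper4
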