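import Mathlib
import Cfsg.Agent.S0023
import Cfsg.Agent.Lib.helper23.HallCount
import Cfsg.Agent.Lib.helper23.SylowBasic

set_option autoImplicit false

/-! A simplicity criterion: a finite group with trivial centre, generated by its elements of
order `p`, where `p` divides the order exactly once and no other prime power dividing the order
is `1` modulo `p`, is simple. -/

namespace Cfsg.Agent.Lib.helper4

open Subgroup

/-- an element of prime order `p` centralises a normal subgroup of order prime to `p`, when no
prime power (other than one) dividing the order of that subgroup is `1` modulo `p` -/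
theorem centralizes_of_isolated_prime {G : Type*} [Group G] [Finite G] (p : ℕ) [hp : Fact p.Prime]
    (N : Subgroup G) [hN : N.Normal] (x : G) (hx : orderOf x = p) (hpN : ¬ p ∣ Nat.card N)
    (hq : ∀ q k, q.Prime → 0 < k → q ^ k ∣ Nat.card N → ¬ (q ^ k ≡ 1 [MOD p])) :
    N ≤ centralizer (zpowers x : Set G) := by
  set A : Subgroup G := zpowers x with hAdef
  have hcardA : Nat.card A = p := by rw [Nat.card_zpowers, hx]
  have hA : IsPGroup p A := IsPGroup.of_card (n := 1) (by rw [hcardA, pow_one])
  have hAN : A ≤ normalizer (N : Set G) := by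
    rw [normalizer_eq_top_iff.mpr hN]
    exact le_top
  have hcop : (Nat.card A).Coprime (Nat.card N) := by
    rw [hcardA]
    exact (Nat.Prime.coprime_iff_not_dvd hp.out).2 hpN
  have hsol : Group.IsSolvable A ∨ Group.IsSolvable N := Or.inl inferInstance
  set C : Subgroup G := N ⊓ centralizer (A : Set G) with hC
  have hCN : C ≤ N := inf_le_left
  have hdvd : Nat.card N ∣ Nat.card C := by
    rw [← Nat.factorization_prime_le_iff_dvd Nat.card_pos.ne' Nat.card_pos.ne']
    intro q hqp
    haveI : Fact q.Prime := ⟨hqp⟩
    obtain ⟨P, hP⟩ := Cfsg.Agent.S0023.result A N hAN hcop hsol q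
    set Q : Subgroup G := (P : Subgroup N).map N.subtype with hQ
    have hQN : Q ≤ N := by
      rintro _ ⟨y, _, rfl⟩
      exact y.2
    set a := (Nat.card N).factorization q with ha
    have hcardQ : Nat.card Q = q ^ a := by
      rw [hQ, Nat.card_congr (Subgroup.equivMapOfInjective _ _ N.subtype_injective).symm.toEquiv]
      exact P.card_eq_multiplicity
    have hmod := Cfsg.Agent.Lib.helper23.card_modEq_card_inf_centralizer A Q hA hP
    have hle : Q ⊓ centralizer (A : Set G) ≤ Q := inf_le_left
    have hd : Nat.card (Q ⊓ centralizer (A : Set G) : Subgroup G) ∣ q ^ a := by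
      rw [← hcardQ]
      exact Subgroup.card_dvd_of_le hle
    obtain ⟨b, hba, hb⟩ := (Nat.dvd_prime_pow hqp).1 hd
    rw [hcardQ, hb] at hmod
    have hab : a = b := by
      by_contra hne
      have hlt : b < a := lt_of_le_of_ne hba (Ne.symm hne)
      have hqa : q ^ a ∣ Nat.card N := Nat.ordProj_dvd _ _
      have hqne : q ≠ p := by
        rintro rfl
        apply hpN
        exact dvd_trans (dvd_pow_self q (by omega)) hqa
      have hcopq : (q ^ b).Coprime p :=
        Nat.Coprime.pow_left _ ((Nat.coprime_primes hqp hp.out).2 hqne)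
      have e : q ^ a = q ^ b * q ^ (a - b) := by
        rw [← pow_add]
        congr 1
        omega
      rw [e] at hmod
      have h1 : q ^ b * q ^ (a - b) ≡ q ^ b * 1 [MOD p] := by rwa [mul_one]
      have h2 := Nat.ModEq.cancel_left_of_coprime (by rwa [Nat.coprime_comm] at hcopq) h1
      refine hq q (a - b) hqp (by omega) ?_ h2
      exact dvd_trans (pow_dvd_pow q (by omega)) hqa
    have hQC : Q ≤ centralizer (A : Set G) := by
      have : Q ⊓ centralizer (A : Set G) = Q := by
        apply Subgroup.eq_of_le_of_card_ge hle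
        rw [hcardQ, hb, hab]
      rw [← this]
      exact inf_le_right
    have hQC' : Q ≤ C := le_inf hQN hQC
    have h3 : q ^ a ∣ Nat.card C := by
      rw [← hcardQ]
      exact Subgroup.card_dvd_of_le hQC'
    exact (hqp.pow_dvd_iff_le_factorization Nat.card_pos.ne').1 h3
  have hCeq : C = N := by
    apply Subgroup.eq_of_le_of_card_ge hCN
    exact Nat.le_of_dvd Nat.card_pos hdvd
  rw [← hCeq]
  exact inf_le_right

/-- the simplicity criterion -/
theorem isSimpleGroup_of_isolated_prime {G : Type*} [Group G] [Finite G] (p : ℕ)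
    [hp : Fact p.Prime] (m : ℕ) (hcard : Nat.card G = p * m) (hpm : ¬ p ∣ m)
    (hgen : closure {x : G | orderOf x = p} = ⊤) (hZ : center G = ⊥)
    (hq : ∀ q k, q.Prime → 0 < k → q ^ k ∣ m → ¬ (q ^ k ≡ 1 [MOD p])) :
    IsSimpleGroup G := by
  have hm0 : m ≠ 0 := by
    rintro rfl
    rw [mul_zero] at hcard
    exact Nat.card_pos.ne' hcard
  have hfac : (Nat.card G).factorization p = 1 := by
    rw [hcard, Nat.factorization_mul hp.out.ne_zero hm0, Finsupp.add_apply,
      hp.out.factorization_self, Nat.factorization_eq_zero_of_not_dvd hpm]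
  haveI : Nontrivial G := by
    rw [← Finite.one_lt_card_iff_nontrivial, hcard]
    have : 0 < m := Nat.pos_of_ne_zero hm0
    have := hp.out.one_lt
    nlinarith
  refine ⟨fun N hN => ?_⟩
  by_cases hpN : p ∣ Nat.card N
  · right
    rw [eq_top_iff, ← hgen, closure_le]
    intro x hx
    rw [Set.mem_ofPred_eq] at hx
    obtain ⟨y, hy⟩ := exists_prime_orderOf_dvd_card' p hpN
    have hy' : orderOf (y : G) = p := by rw [Subgroup.orderOf_coe, hy]
    have c1 : Nat.card (zpowers x) = p ^ (Nat.card G).factorization p := by
      rw [hfac, pow_one, Nat.card_zpowers, hx]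
    have c2 : Nat.card (zpowers (y : G)) = p ^ (Nat.card G).factorization p := by
      rw [hfac, pow_one, Nat.card_zpowers, hy']
    let P1 : Sylow p G := Sylow.ofCard (zpowers x) c1
    let P2 : Sylow p G := Sylow.ofCard (zpowers (y : G)) c2
    obtain ⟨g, hg⟩ := MulAction.exists_smul_eq G P2 P1
    have hxP : x ∈ (P1 : Subgroup G) := mem_zpowers x
    have hxP' : x ∈ ((g • P2 : Sylow p G) : Subgroup G) := by rw [hg]; exact hxP
    rw [Cfsg.Agent.Lib.helper23.mem_smul_sylow_iff] at hxP'
    have h2 : g⁻¹ * x * g ∈ N := by
      have : (P2 : Subgroup G) ≤ N := by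
        show zpowers (y : G) ≤ N
        rw [zpowers_le]
        exact y.2
      exact this hxP'
    have h3 : g * (g⁻¹ * x * g) * g⁻¹ ∈ N := hN.conj_mem _ h2 g
    have e : g * (g⁻¹ * x * g) * g⁻¹ = x := by group
    rwa [e] at h3
  · left
    rw [eq_bot_iff, ← hZ]
    intro n hn
    rw [mem_center_iff]
    have htop : (⊤ : Subgroup G) ≤ centralizer ({n} : Set G) := by
      rw [← hgen, closure_le]
      intro x hx
      rw [Set.mem_ofPred_eq] at hx
      have hq' : ∀ q k, q.Prime → 0 < k → q ^ k ∣ Nat.card N → ¬ (q ^ k ≡ 1 [MOD p]) := by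
        intro q k hqp hk hdv
        apply hq q k hqp hk
        have h1 : q ^ k ∣ p * m := by
          rw [← hcard]
          exact dvd_trans hdv (Subgroup.card_subgroup_dvd_card N)
        have hqne : q ≠ p := by
          rintro rfl
          exact hpN (dvd_trans (dvd_pow_self q (by omega)) hdv)
        have hcopq : (q ^ k).Coprime p :=
          Nat.Coprime.pow_left _ ((Nat.coprime_primes hqp hp.out).2 hqne)
        exact hcopq.dvd_of_dvd_mul_left h1
      have := centralizes_of_isolated_prime p N x hx hpN hq' hn
      rw [SetLike.mem_coe, mem_centralizer_iff]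
      intro y hy
      rw [Set.mem_singleton_iff] at hy
      subst hy
      rw [mem_centralizer_iff] at this
      exact (this x (mem_zpowers x)).symm
    intro g
    have := htop (mem_top g)
    rw [mem_centralizer_iff] at this
    exact (this n rfl).symm

end Cfsg.Agent.Lib.helper4
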