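import Mathlib
import Cfsg.Agent.Lib.helper4.J3Defs

set_option autoImplicit false

/-! Kernel checks for the triple cover of the third Janko group: the tables of the seven
generators and of the two scalars agree with the matrices. -/

namespace Cfsg.Agent.Lib.helper4

open Cfsg.Agent.Lib.Lead.F4

set_option maxRecDepth 10000000 in
theorem j3Tab_chk : ktabChkL (j3Moves.take 7) j3TabsF = true := by decide +kernel

set_option maxRecDepth 10000000 in
theorem j3Tw_chk : ktabChk (kscal .w) j3Tw = true := by decide +kernel

set_option maxRecDepth 10000000 in
theorem j3Tv_chk : ktabChk (kscal .v) j3Tv = true := by decide +kernel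

end Cfsg.Agent.Lib.helper4
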