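import Mathlib
import Cfsg.Prelude.Def_Spor_J3
import Cfsg.Agent.Lib.helper4.J3Defs

set_option autoImplicit false

/-! Products of matrices given by their rows, and all generating matrices of the triple cover of
the third Janko group (over the concrete field with four elements) as products of seven of them. -/

namespace Cfsg.Agent.Lib.helper4

open Cfsg.Agent.Lib.Lead.F4 Cfsg.Spor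

/-- a column of a matrix -/
def kcol (B : KMat) (f : KVec → F4c) : KVec :=
  ⟨f B.r0, f B.r1, f B.r2, f B.r3, f B.r4, f B.r5, f B.r6, f B.r7, f B.r8⟩

/-- the transposed matrix -/
def ktr (B : KMat) : KMat :=
  ⟨kcol B KVec.c0, kcol B KVec.c1, kcol B KVec.c2, kcol B KVec.c3, kcol B KVec.c4, kcol B KVec.c5,
    kcol B KVec.c6, kcol B KVec.c7, kcol B KVec.c8⟩

theorem ktr_row (B : KMat) : ∀ i, (ktr B).row i = KVec.ofFun (fun j => (B.row j).toFun i) := by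
  apply f9_cases <;> rfl

theorem kdecM_ktr (B : KMat) : kdecM (ktr B) = (kdecM B).transpose := by
  ext i j
  show ((ktr B).row i).toFun j = _
  rw [ktr_row, KVec.toFun_ofFun]
  rfl

theorem kdot_dot (a b : KVec) : kdot a b = a.toFun ⬝ᵥ b.toFun := kdot_eq a b

theorem kdot_ktr (B : KMat) (r v : KVec) : kdot (kmv (ktr B) r) v = kdot r (kmv B v) := by
  rw [kdot_dot, kdot_dot, kmv_toFun, kmv_toFun, kdecM_ktr, Matrix.mulVec_transpose,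
    Matrix.dotProduct_mulVec]

/-- the product of two matrices -/
def kmm (A B : KMat) : KMat :=
  ⟨kmv (ktr B) A.r0, kmv (ktr B) A.r1, kmv (ktr B) A.r2, kmv (ktr B) A.r3, kmv (ktr B) A.r4,
    kmv (ktr B) A.r5, kmv (ktr B) A.r6, kmv (ktr B) A.r7, kmv (ktr B) A.r8⟩

theorem kmv_kmm (A B : KMat) (v : KVec) : kmv (kmm A B) v = kmv A (kmv B v) := by
  apply KVec.ext <;> exact kdot_ktr B _ v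

/-- the identity matrix -/
def kone : KMat := kscal .o

theorem kmv_kone (v : KVec) : kmv kone v = v := by
  unfold kone
  rw [kmv_kscal]
  exact ksmul_one v

/-- the seven generators -/
def j3Gen7 : List KMat := j3Moves.take 7

/-- the product of the generators of given positions -/
def kword : List ℕ → KMat
  | [] => kone
  | k :: w => kmm (j3Gen7.getD k kone) (kword w)

/-- the words for the matrices `A_Z` -/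
def j3WordA : List (List ℕ) :=
  [[], [1], [1, 1], [0], [0, 1], [0, 1, 1], [0, 0], [0, 0, 1], [0, 0, 1, 1]]

/-- the words for the matrices `E_Z` -/
def j3WordE : List (List ℕ) :=
  [[2], [0, 3, 3, 2, 3], [0, 4, 4, 2, 4], [1, 1, 3, 2, 3, 3], [2, 3, 0, 3, 3], [1, 2, 3, 0, 3, 3],
    [1, 4, 4, 2, 4], [2, 4, 1, 4, 4], [4, 2, 4, 1, 4]]

/-- the words for the matrices `D_Z` -/
def j3WordD : List (List ℕ) :=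
  [[], [4], [0, 4, 4], [3], [1, 2, 4, 3], [4, 1, 3, 4], [1, 1, 3, 3], [0, 3, 4, 3, 0],
    [4, 1, 3, 3, 4]]

/-- the words for the matrices `B_Z` -/
def j3WordB : List (List ℕ) :=
  [[], [5, 5, 5, 5, 5, 5], [5, 5], [], [5], [5, 5, 5], [5, 5, 5, 5], [5, 5, 5, 5, 5, 5, 5],
    [5, 5, 5, 5, 5]]

/-- the words for the matrices `C_Z` -/
def j3WordC : List (List ℕ) :=
  [[], [5, 5, 5, 5, 5, 5, 6], [5, 5, 6], [6], [5, 6], [5, 5, 5, 6], [5, 5, 5, 5, 6],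
    [5, 5, 5, 5, 5, 5, 5, 6], [5, 5, 5, 5, 5, 6]]

/-- the word of an index -/
def j3WordAt (L : List (List ℕ)) (Z : F9) : List ℕ := L.getD (3 * Z.1.val + Z.2.val) []

/-- the matrices `A_Z` (the identity in place of the first one if `Z` must be nonzero) -/
def j3MatA : List KMat := [
  ⟨⟨.o, .z, .z, .z, .z, .z, .z, .z, .z⟩,
    ⟨.z, .o, .z, .z, .z, .z, .z, .z, .z⟩,
    ⟨.z, .z, .o, .z, .z, .z, .z, .z, .z⟩,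
    ⟨.z, .z, .z, .o, .z, .z, .z, .z, .z⟩,
    ⟨.z, .z, .z, .z, .o, .z, .z, .z, .z⟩,
    ⟨.z, .z, .z, .z, .z, .o, .z, .z, .z⟩,
    ⟨.z, .z, .z, .z, .z, .z, .o, .z, .z⟩,
    ⟨.z, .z, .z, .z, .z, .z, .z, .o, .z⟩,
    ⟨.z, .z, .z, .z, .z, .z, .z, .z, .o⟩⟩,
  ⟨⟨.o, .z, .z, .z, .z, .z, .z, .z, .z⟩,
    ⟨.z, .w, .z, .z, .z, .z, .z, .z, .z⟩,
    ⟨.z, .z, .v, .z, .z, .z, .z, .z, .z⟩,
    ⟨.z, .z, .z, .o, .z, .z, .z, .z, .z⟩,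
    ⟨.z, .z, .z, .z, .w, .z, .z, .z, .z⟩,
    ⟨.z, .z, .z, .z, .z, .v, .z, .z, .z⟩,
    ⟨.z, .z, .z, .z, .z, .z, .o, .z, .z⟩,
    ⟨.z, .z, .z, .z, .z, .z, .z, .w, .z⟩,
    ⟨.z, .z, .z, .z, .z, .z, .z, .z, .v⟩⟩,
  ⟨⟨.o, .z, .z, .z, .z, .z, .z, .z, .z⟩,
    ⟨.z, .v, .z, .z, .z, .z, .z, .z, .z⟩,
    ⟨.z, .z, .w, .z, .z, .z, .z, .z, .z⟩,
    ⟨.z, .z, .z, .o, .z, .z, .z, .z, .z⟩,
    ⟨.z, .z, .z, .z, .v, .z, .z, .z, .z⟩,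
    ⟨.z, .z, .z, .z, .z, .w, .z, .z, .z⟩,
    ⟨.z, .z, .z, .z, .z, .z, .o, .z, .z⟩,
    ⟨.z, .z, .z, .z, .z, .z, .z, .v, .z⟩,
    ⟨.z, .z, .z, .z, .z, .z, .z, .z, .w⟩⟩,
  ⟨⟨.o, .z, .z, .z, .z, .z, .z, .z, .z⟩,
    ⟨.z, .o, .z, .z, .z, .z, .z, .z, .z⟩,
    ⟨.z, .z, .o, .z, .z, .z, .z, .z, .z⟩,
    ⟨.z, .z, .z, .w, .z, .z, .z, .z, .z⟩,
    ⟨.z, .z, .z, .z, .w, .z, .z, .z, .z⟩,
    ⟨.z, .z, .z, .z, .z, .w, .z, .z, .z⟩,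
    ⟨.z, .z, .z, .z, .z, .z, .v, .z, .z⟩,
    ⟨.z, .z, .z, .z, .z, .z, .z, .v, .z⟩,
    ⟨.z, .z, .z, .z, .z, .z, .z, .z, .v⟩⟩,
  ⟨⟨.o, .z, .z, .z, .z, .z, .z, .z, .z⟩,
    ⟨.z, .w, .z, .z, .z, .z, .z, .z, .z⟩,
    ⟨.z, .z, .v, .z, .z, .z, .z, .z, .z⟩,
    ⟨.z, .z, .z, .w, .z, .z, .z, .z, .z⟩,
    ⟨.z, .z, .z, .z, .v, .z, .z, .z, .z⟩,
    ⟨.z, .z, .z, .z, .z, .o, .z, .z, .z⟩,
    ⟨.z, .z, .z, .z, .z, .z, .v, .z, .z⟩,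
    ⟨.z, .z, .z, .z, .z, .z, .z, .o, .z⟩,
    ⟨.z, .z, .z, .z, .z, .z, .z, .z, .w⟩⟩,
  ⟨⟨.o, .z, .z, .z, .z, .z, .z, .z, .z⟩,
    ⟨.z, .v, .z, .z, .z, .z, .z, .z, .z⟩,
    ⟨.z, .z, .w, .z, .z, .z, .z, .z, .z⟩,
    ⟨.z, .z, .z, .w, .z, .z, .z, .z, .z⟩,
    ⟨.z, .z, .z, .z, .o, .z, .z, .z, .z⟩,
    ⟨.z, .z, .z, .z, .z, .v, .z, .z, .z⟩,
    ⟨.z, .z, .z, .z, .z, .z, .v, .z, .z⟩,
    ⟨.z, .z, .z, .z, .z, .z, .z, .w, .z⟩,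
    ⟨.z, .z, .z, .z, .z, .z, .z, .z, .o⟩⟩,
  ⟨⟨.o, .z, .z, .z, .z, .z, .z, .z, .z⟩,
    ⟨.z, .o, .z, .z, .z, .z, .z, .z, .z⟩,
    ⟨.z, .z, .o, .z, .z, .z, .z, .z, .z⟩,
    ⟨.z, .z, .z, .v, .z, .z, .z, .z, .z⟩,
    ⟨.z, .z, .z, .z, .v, .z, .z, .z, .z⟩,
    ⟨.z, .z, .z, .z, .z, .v, .z, .z, .z⟩,
    ⟨.z, .z, .z, .z, .z, .z, .w, .z, .z⟩,
    ⟨.z, .z, .z, .z, .z, .z, .z, .w, .z⟩,
    ⟨.z, .z, .z, .z, .z, .z, .z, .z, .w⟩⟩,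
  ⟨⟨.o, .z, .z, .z, .z, .z, .z, .z, .z⟩,
    ⟨.z, .w, .z, .z, .z, .z, .z, .z, .z⟩,
    ⟨.z, .z, .v, .z, .z, .z, .z, .z, .z⟩,
    ⟨.z, .z, .z, .v, .z, .z, .z, .z, .z⟩,
    ⟨.z, .z, .z, .z, .o, .z, .z, .z, .z⟩,
    ⟨.z, .z, .z, .z, .z, .w, .z, .z, .z⟩,
    ⟨.z, .z, .z, .z, .z, .z, .w, .z, .z⟩,
    ⟨.z, .z, .z, .z, .z, .z, .z, .v, .z⟩,
    ⟨.z, .z, .z, .z, .z, .z, .z, .z, .o⟩⟩,
  ⟨⟨.o, .z, .z, .z, .z, .z, .z, .z, .z⟩,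
    ⟨.z, .v, .z, .z, .z, .z, .z, .z, .z⟩,
    ⟨.z, .z, .w, .z, .z, .z, .z, .z, .z⟩,
    ⟨.z, .z, .z, .v, .z, .z, .z, .z, .z⟩,
    ⟨.z, .z, .z, .z, .w, .z, .z, .z, .z⟩,
    ⟨.z, .z, .z, .z, .z, .o, .z, .z, .z⟩,
    ⟨.z, .z, .z, .z, .z, .z, .w, .z, .z⟩,
    ⟨.z, .z, .z, .z, .z, .z, .z, .o, .z⟩,
    ⟨.z, .z, .z, .z, .z, .z, .z, .z, .v⟩⟩]

/-- the matrices `E_Z` (the identity in place of the first one if `Z` must be nonzero) -/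
def j3MatE : List KMat := [
  ⟨⟨.o, .z, .z, .z, .z, .z, .z, .z, .z⟩,
    ⟨.z, .w, .z, .z, .z, .z, .z, .z, .z⟩,
    ⟨.z, .z, .w, .z, .z, .z, .z, .z, .z⟩,
    ⟨.z, .z, .z, .w, .z, .z, .z, .z, .z⟩,
    ⟨.z, .z, .z, .z, .v, .z, .z, .z, .z⟩,
    ⟨.z, .z, .z, .z, .z, .v, .z, .z, .z⟩,
    ⟨.z, .z, .z, .z, .z, .z, .w, .z, .z⟩,
    ⟨.z, .z, .z, .z, .z, .z, .z, .v, .z⟩,
    ⟨.z, .z, .z, .z, .z, .z, .z, .z, .v⟩⟩,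
  ⟨⟨.w, .z, .z, .z, .z, .z, .z, .z, .z⟩,
    ⟨.z, .o, .z, .z, .z, .z, .z, .z, .z⟩,
    ⟨.z, .z, .w, .z, .z, .z, .z, .z, .z⟩,
    ⟨.z, .z, .z, .v, .z, .z, .z, .z, .z⟩,
    ⟨.z, .z, .z, .z, .w, .z, .z, .z, .z⟩,
    ⟨.z, .z, .z, .z, .z, .v, .z, .z, .z⟩,
    ⟨.z, .z, .z, .z, .z, .z, .v, .z, .z⟩,
    ⟨.z, .z, .z, .z, .z, .z, .z, .w, .z⟩,
    ⟨.z, .z, .z, .z, .z, .z, .z, .z, .v⟩⟩,
  ⟨⟨.w, .z, .z, .z, .z, .z, .z, .z, .z⟩,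
    ⟨.z, .w, .z, .z, .z, .z, .z, .z, .z⟩,
    ⟨.z, .z, .o, .z, .z, .z, .z, .z, .z⟩,
    ⟨.z, .z, .z, .v, .z, .z, .z, .z, .z⟩,
    ⟨.z, .z, .z, .z, .v, .z, .z, .z, .z⟩,
    ⟨.z, .z, .z, .z, .z, .w, .z, .z, .z⟩,
    ⟨.z, .z, .z, .z, .z, .z, .v, .z, .z⟩,
    ⟨.z, .z, .z, .z, .z, .z, .z, .v, .z⟩,
    ⟨.z, .z, .z, .z, .z, .z, .z, .z, .w⟩⟩,
  ⟨⟨.w, .z, .z, .z, .z, .z, .z, .z, .z⟩,
    ⟨.z, .v, .z, .z, .z, .z, .z, .z, .z⟩,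
    ⟨.z, .z, .v, .z, .z, .z, .z, .z, .z⟩,
    ⟨.z, .z, .z, .o, .z, .z, .z, .z, .z⟩,
    ⟨.z, .z, .z, .z, .w, .z, .z, .z, .z⟩,
    ⟨.z, .z, .z, .z, .z, .w, .z, .z, .z⟩,
    ⟨.z, .z, .z, .z, .z, .z, .w, .z, .z⟩,
    ⟨.z, .z, .z, .z, .z, .z, .z, .v, .z⟩,
    ⟨.z, .z, .z, .z, .z, .z, .z, .z, .v⟩⟩,
  ⟨⟨.v, .z, .z, .z, .z, .z, .z, .z, .z⟩,
    ⟨.z, .w, .z, .z, .z, .z, .z, .z, .z⟩,
    ⟨.z, .z, .v, .z, .z, .z, .z, .z, .z⟩,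
    ⟨.z, .z, .z, .w, .z, .z, .z, .z, .z⟩,
    ⟨.z, .z, .z, .z, .o, .z, .z, .z, .z⟩,
    ⟨.z, .z, .z, .z, .z, .w, .z, .z, .z⟩,
    ⟨.z, .z, .z, .z, .z, .z, .v, .z, .z⟩,
    ⟨.z, .z, .z, .z, .z, .z, .z, .w, .z⟩,
    ⟨.z, .z, .z, .z, .z, .z, .z, .z, .v⟩⟩,
  ⟨⟨.v, .z, .z, .z, .z, .z, .z, .z, .z⟩,
    ⟨.z, .v, .z, .z, .z, .z, .z, .z, .z⟩,
    ⟨.z, .z, .w, .z, .z, .z, .z, .z, .z⟩,
    ⟨.z, .z, .z, .w, .z, .z, .z, .z, .z⟩,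
    ⟨.z, .z, .z, .z, .w, .z, .z, .z, .z⟩,
    ⟨.z, .z, .z, .z, .z, .o, .z, .z, .z⟩,
    ⟨.z, .z, .z, .z, .z, .z, .v, .z, .z⟩,
    ⟨.z, .z, .z, .z, .z, .z, .z, .v, .z⟩,
    ⟨.z, .z, .z, .z, .z, .z, .z, .z, .w⟩⟩,
  ⟨⟨.w, .z, .z, .z, .z, .z, .z, .z, .z⟩,
    ⟨.z, .v, .z, .z, .z, .z, .z, .z, .z⟩,
    ⟨.z, .z, .v, .z, .z, .z, .z, .z, .z⟩,
    ⟨.z, .z, .z, .w, .z, .z, .z, .z, .z⟩,
    ⟨.z, .z, .z, .z, .v, .z, .z, .z, .z⟩,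
    ⟨.z, .z, .z, .z, .z, .v, .z, .z, .z⟩,
    ⟨.z, .z, .z, .z, .z, .z, .o, .z, .z⟩,
    ⟨.z, .z, .z, .z, .z, .z, .z, .w, .z⟩,
    ⟨.z, .z, .z, .z, .z, .z, .z, .z, .w⟩⟩,
  ⟨⟨.v, .z, .z, .z, .z, .z, .z, .z, .z⟩,
    ⟨.z, .w, .z, .z, .z, .z, .z, .z, .z⟩,
    ⟨.z, .z, .v, .z, .z, .z, .z, .z, .z⟩,
    ⟨.z, .z, .z, .v, .z, .z, .z, .z, .z⟩,
    ⟨.z, .z, .z, .z, .w, .z, .z, .z, .z⟩,
    ⟨.z, .z, .z, .z, .z, .v, .z, .z, .z⟩,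
    ⟨.z, .z, .z, .z, .z, .z, .w, .z, .z⟩,
    ⟨.z, .z, .z, .z, .z, .z, .z, .o, .z⟩,
    ⟨.z, .z, .z, .z, .z, .z, .z, .z, .w⟩⟩,
  ⟨⟨.v, .z, .z, .z, .z, .z, .z, .z, .z⟩,
    ⟨.z, .v, .z, .z, .z, .z, .z, .z, .z⟩,
    ⟨.z, .z, .w, .z, .z, .z, .z, .z, .z⟩,
    ⟨.z, .z, .z, .v, .z, .z, .z, .z, .z⟩,
    ⟨.z, .z, .z, .z, .v, .z, .z, .z, .z⟩,
    ⟨.z, .z, .z, .z, .z, .w, .z, .z, .z⟩,
    ⟨.z, .z, .z, .z, .z, .z, .w, .z, .z⟩,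
    ⟨.z, .z, .z, .z, .z, .z, .z, .w, .z⟩,
    ⟨.z, .z, .z, .z, .z, .z, .z, .z, .o⟩⟩]

/-- the matrices `D_Z` (the identity in place of the first one if `Z` must be nonzero) -/
def j3MatD : List KMat := [
  ⟨⟨.o, .z, .z, .z, .z, .z, .z, .z, .z⟩,
    ⟨.z, .o, .z, .z, .z, .z, .z, .z, .z⟩,
    ⟨.z, .z, .o, .z, .z, .z, .z, .z, .z⟩,
    ⟨.z, .z, .z, .o, .z, .z, .z, .z, .z⟩,
    ⟨.z, .z, .z, .z, .o, .z, .z, .z, .z⟩,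
    ⟨.z, .z, .z, .z, .z, .o, .z, .z, .z⟩,
    ⟨.z, .z, .z, .z, .z, .z, .o, .z, .z⟩,
    ⟨.z, .z, .z, .z, .z, .z, .z, .o, .z⟩,
    ⟨.z, .z, .z, .z, .z, .z, .z, .z, .o⟩⟩,
  ⟨⟨.z, .z, .o, .z, .z, .z, .z, .z, .z⟩,
    ⟨.o, .z, .z, .z, .z, .z, .z, .z, .z⟩,
    ⟨.z, .o, .z, .z, .z, .z, .z, .z, .z⟩,
    ⟨.z, .z, .z, .z, .z, .o, .z, .z, .z⟩,
    ⟨.z, .z, .z, .o, .z, .z, .z, .z, .z⟩,
    ⟨.z, .z, .z, .z, .v, .z, .z, .z, .z⟩,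
    ⟨.z, .z, .z, .z, .z, .z, .z, .z, .o⟩,
    ⟨.z, .z, .z, .z, .z, .z, .o, .z, .z⟩,
    ⟨.z, .z, .z, .z, .z, .z, .z, .w, .z⟩⟩,
  ⟨⟨.z, .o, .z, .z, .z, .z, .z, .z, .z⟩,
    ⟨.z, .z, .o, .z, .z, .z, .z, .z, .z⟩,
    ⟨.o, .z, .z, .z, .z, .z, .z, .z, .z⟩,
    ⟨.z, .z, .z, .z, .o, .z, .z, .z, .z⟩,
    ⟨.z, .z, .z, .z, .z, .w, .z, .z, .z⟩,
    ⟨.z, .z, .z, .o, .z, .z, .z, .z, .z⟩,
    ⟨.z, .z, .z, .z, .z, .z, .z, .o, .z⟩,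
    ⟨.z, .z, .z, .z, .z, .z, .z, .z, .v⟩,
    ⟨.z, .z, .z, .z, .z, .z, .o, .z, .z⟩⟩,
  ⟨⟨.z, .z, .z, .z, .z, .z, .o, .z, .z⟩,
    ⟨.z, .z, .z, .z, .z, .z, .z, .o, .z⟩,
    ⟨.z, .z, .z, .z, .z, .z, .z, .z, .o⟩,
    ⟨.o, .z, .z, .z, .z, .z, .z, .z, .z⟩,
    ⟨.z, .o, .z, .z, .z, .z, .z, .z, .z⟩,
    ⟨.z, .z, .o, .z, .z, .z, .z, .z, .z⟩,
    ⟨.z, .z, .z, .o, .z, .z, .z, .z, .z⟩,
    ⟨.z, .z, .z, .z, .w, .z, .z, .z, .z⟩,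
    ⟨.z, .z, .z, .z, .z, .v, .z, .z, .z⟩⟩,
  ⟨⟨.z, .z, .z, .z, .z, .z, .z, .z, .o⟩,
    ⟨.z, .z, .z, .z, .z, .z, .v, .z, .z⟩,
    ⟨.z, .z, .z, .z, .z, .z, .z, .o, .z⟩,
    ⟨.z, .z, .w, .z, .z, .z, .z, .z, .z⟩,
    ⟨.o, .z, .z, .z, .z, .z, .z, .z, .z⟩,
    ⟨.z, .o, .z, .z, .z, .z, .z, .z, .z⟩,
    ⟨.z, .z, .z, .z, .z, .o, .z, .z, .z⟩,
    ⟨.z, .z, .z, .o, .z, .z, .z, .z, .z⟩,
    ⟨.z, .z, .z, .z, .o, .z, .z, .z, .z⟩⟩,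
  ⟨⟨.z, .z, .z, .z, .z, .z, .z, .o, .z⟩,
    ⟨.z, .z, .z, .z, .z, .z, .z, .z, .o⟩,
    ⟨.z, .z, .z, .z, .z, .z, .w, .z, .z⟩,
    ⟨.z, .v, .z, .z, .z, .z, .z, .z, .z⟩,
    ⟨.z, .z, .o, .z, .z, .z, .z, .z, .z⟩,
    ⟨.o, .z, .z, .z, .z, .z, .z, .z, .z⟩,
    ⟨.z, .z, .z, .z, .o, .z, .z, .z, .z⟩,
    ⟨.z, .z, .z, .z, .z, .o, .z, .z, .z⟩,
    ⟨.z, .z, .z, .o, .z, .z, .z, .z, .z⟩⟩,
  ⟨⟨.z, .z, .z, .o, .z, .z, .z, .z, .z⟩,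
    ⟨.z, .z, .z, .z, .o, .z, .z, .z, .z⟩,
    ⟨.z, .z, .z, .z, .z, .o, .z, .z, .z⟩,
    ⟨.z, .z, .z, .z, .z, .z, .o, .z, .z⟩,
    ⟨.z, .z, .z, .z, .z, .z, .z, .v, .z⟩,
    ⟨.z, .z, .z, .z, .z, .z, .z, .z, .w⟩,
    ⟨.o, .z, .z, .z, .z, .z, .z, .z, .z⟩,
    ⟨.z, .o, .z, .z, .z, .z, .z, .z, .z⟩,
    ⟨.z, .z, .o, .z, .z, .z, .z, .z, .z⟩⟩,
  ⟨⟨.z, .z, .z, .z, .z, .o, .z, .z, .z⟩,
    ⟨.z, .z, .z, .w, .z, .z, .z, .z, .z⟩,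
    ⟨.z, .z, .z, .z, .o, .z, .z, .z, .z⟩,
    ⟨.z, .z, .z, .z, .z, .z, .z, .z, .o⟩,
    ⟨.z, .z, .z, .z, .z, .z, .o, .z, .z⟩,
    ⟨.z, .z, .z, .z, .z, .z, .z, .o, .z⟩,
    ⟨.z, .z, .v, .z, .z, .z, .z, .z, .z⟩,
    ⟨.o, .z, .z, .z, .z, .z, .z, .z, .z⟩,
    ⟨.z, .o, .z, .z, .z, .z, .z, .z, .z⟩⟩,
  ⟨⟨.z, .z, .z, .z, .o, .z, .z, .z, .z⟩,
    ⟨.z, .z, .z, .z, .z, .o, .z, .z, .z⟩,
    ⟨.z, .z, .z, .v, .z, .z, .z, .z, .z⟩,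
    ⟨.z, .z, .z, .z, .z, .z, .z, .o, .z⟩,
    ⟨.z, .z, .z, .z, .z, .z, .z, .z, .o⟩,
    ⟨.z, .z, .z, .z, .z, .z, .o, .z, .z⟩,
    ⟨.z, .w, .z, .z, .z, .z, .z, .z, .z⟩,
    ⟨.z, .z, .o, .z, .z, .z, .z, .z, .z⟩,
    ⟨.o, .z, .z, .z, .z, .z, .z, .z, .z⟩⟩]

/-- the matrices `B_Z` (the identity in place of the first one if `Z` must be nonzero) -/
def j3MatB : List KMat := [
  ⟨⟨.o, .z, .z, .z, .z, .z, .z, .z, .z⟩,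
    ⟨.z, .o, .z, .z, .z, .z, .z, .z, .z⟩,
    ⟨.z, .z, .o, .z, .z, .z, .z, .z, .z⟩,
    ⟨.z, .z, .z, .o, .z, .z, .z, .z, .z⟩,
    ⟨.z, .z, .z, .z, .o, .z, .z, .z, .z⟩,
    ⟨.z, .z, .z, .z, .z, .o, .z, .z, .z⟩,
    ⟨.z, .z, .z, .z, .z, .z, .o, .z, .z⟩,
    ⟨.z, .z, .z, .z, .z, .z, .z, .o, .z⟩,
    ⟨.z, .z, .z, .z, .z, .z, .z, .z, .o⟩⟩,
  ⟨⟨.o, .z, .z, .z, .z, .z, .z, .z, .z⟩,
    ⟨.z, .z, .z, .o, .z, .z, .z, .z, .z⟩,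
    ⟨.z, .z, .z, .z, .z, .z, .o, .z, .z⟩,
    ⟨.z, .z, .o, .z, .z, .z, .z, .z, .z⟩,
    ⟨.z, .z, .z, .z, .z, .o, .z, .z, .z⟩,
    ⟨.z, .z, .z, .z, .z, .z, .z, .z, .o⟩,
    ⟨.z, .o, .z, .z, .z, .z, .z, .z, .z⟩,
    ⟨.z, .z, .z, .z, .o, .z, .z, .z, .z⟩,
    ⟨.z, .z, .z, .z, .z, .z, .z, .o, .z⟩⟩,
  ⟨⟨.o, .z, .z, .z, .z, .z, .z, .z, .z⟩,
    ⟨.z, .z, .z, .z, .z, .z, .o, .z, .z⟩,
    ⟨.z, .z, .z, .o, .z, .z, .z, .z, .z⟩,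
    ⟨.z, .o, .z, .z, .z, .z, .z, .z, .z⟩,
    ⟨.z, .z, .z, .z, .z, .z, .z, .o, .z⟩,
    ⟨.z, .z, .z, .z, .o, .z, .z, .z, .z⟩,
    ⟨.z, .z, .o, .z, .z, .z, .z, .z, .z⟩,
    ⟨.z, .z, .z, .z, .z, .z, .z, .z, .o⟩,
    ⟨.z, .z, .z, .z, .z, .o, .z, .z, .z⟩⟩,
  ⟨⟨.o, .z, .z, .z, .z, .z, .z, .z, .z⟩,
    ⟨.z, .o, .z, .z, .z, .z, .z, .z, .z⟩,
    ⟨.z, .z, .o, .z, .z, .z, .z, .z, .z⟩,
    ⟨.z, .z, .z, .o, .z, .z, .z, .z, .z⟩,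
    ⟨.z, .z, .z, .z, .o, .z, .z, .z, .z⟩,
    ⟨.z, .z, .z, .z, .z, .o, .z, .z, .z⟩,
    ⟨.z, .z, .z, .z, .z, .z, .o, .z, .z⟩,
    ⟨.z, .z, .z, .z, .z, .z, .z, .o, .z⟩,
    ⟨.z, .z, .z, .z, .z, .z, .z, .z, .o⟩⟩,
  ⟨⟨.o, .z, .z, .z, .z, .z, .z, .z, .z⟩,
    ⟨.z, .z, .z, .z, .z, .z, .z, .z, .o⟩,
    ⟨.z, .z, .z, .z, .o, .z, .z, .z, .z⟩,
    ⟨.z, .z, .z, .z, .z, .z, .z, .o, .z⟩,
    ⟨.z, .z, .z, .o, .z, .z, .z, .z, .z⟩,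
    ⟨.z, .z, .o, .z, .z, .z, .z, .z, .z⟩,
    ⟨.z, .z, .z, .z, .z, .o, .z, .z, .z⟩,
    ⟨.z, .o, .z, .z, .z, .z, .z, .z, .z⟩,
    ⟨.z, .z, .z, .z, .z, .z, .o, .z, .z⟩⟩,
  ⟨⟨.o, .z, .z, .z, .z, .z, .z, .z, .z⟩,
    ⟨.z, .z, .z, .z, .z, .o, .z, .z, .z⟩,
    ⟨.z, .z, .z, .z, .z, .z, .z, .o, .z⟩,
    ⟨.z, .z, .z, .z, .z, .z, .z, .z, .o⟩,
    ⟨.z, .o, .z, .z, .z, .z, .z, .z, .z⟩,
    ⟨.z, .z, .z, .o, .z, .z, .z, .z, .z⟩,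
    ⟨.z, .z, .z, .z, .o, .z, .z, .z, .z⟩,
    ⟨.z, .z, .z, .z, .z, .z, .o, .z, .z⟩,
    ⟨.z, .z, .o, .z, .z, .z, .z, .z, .z⟩⟩,
  ⟨⟨.o, .z, .z, .z, .z, .z, .z, .z, .z⟩,
    ⟨.z, .z, .o, .z, .z, .z, .z, .z, .z⟩,
    ⟨.z, .o, .z, .z, .z, .z, .z, .z, .z⟩,
    ⟨.z, .z, .z, .z, .z, .z, .o, .z, .z⟩,
    ⟨.z, .z, .z, .z, .z, .z, .z, .z, .o⟩,
    ⟨.z, .z, .z, .z, .z, .z, .z, .o, .z⟩,
    ⟨.z, .z, .z, .o, .z, .z, .z, .z, .z⟩,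
    ⟨.z, .z, .z, .z, .z, .o, .z, .z, .z⟩,
    ⟨.z, .z, .z, .z, .o, .z, .z, .z, .z⟩⟩,
  ⟨⟨.o, .z, .z, .z, .z, .z, .z, .z, .z⟩,
    ⟨.z, .z, .z, .z, .z, .z, .z, .o, .z⟩,
    ⟨.z, .z, .z, .z, .z, .o, .z, .z, .z⟩,
    ⟨.z, .z, .z, .z, .o, .z, .z, .z, .z⟩,
    ⟨.z, .z, .o, .z, .z, .z, .z, .z, .z⟩,
    ⟨.z, .z, .z, .z, .z, .z, .o, .z, .z⟩,
    ⟨.z, .z, .z, .z, .z, .z, .z, .z, .o⟩,
    ⟨.z, .z, .z, .o, .z, .z, .z, .z, .z⟩,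
    ⟨.z, .o, .z, .z, .z, .z, .z, .z, .z⟩⟩,
  ⟨⟨.o, .z, .z, .z, .z, .z, .z, .z, .z⟩,
    ⟨.z, .z, .z, .z, .o, .z, .z, .z, .z⟩,
    ⟨.z, .z, .z, .z, .z, .z, .z, .z, .o⟩,
    ⟨.z, .z, .z, .z, .z, .o, .z, .z, .z⟩,
    ⟨.z, .z, .z, .z, .z, .z, .o, .z, .z⟩,
    ⟨.z, .o, .z, .z, .z, .z, .z, .z, .z⟩,
    ⟨.z, .z, .z, .z, .z, .z, .z, .o, .z⟩,
    ⟨.z, .z, .o, .z, .z, .z, .z, .z, .z⟩,
    ⟨.z, .z, .z, .o, .z, .z, .z, .z, .z⟩⟩]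

/-- the matrices `C_Z` (the identity in place of the first one if `Z` must be nonzero) -/
def j3MatC : List KMat := [
  ⟨⟨.o, .z, .z, .z, .z, .z, .z, .z, .z⟩,
    ⟨.z, .o, .z, .z, .z, .z, .z, .z, .z⟩,
    ⟨.z, .z, .o, .z, .z, .z, .z, .z, .z⟩,
    ⟨.z, .z, .z, .o, .z, .z, .z, .z, .z⟩,
    ⟨.z, .z, .z, .z, .o, .z, .z, .z, .z⟩,
    ⟨.z, .z, .z, .z, .z, .o, .z, .z, .z⟩,
    ⟨.z, .z, .z, .z, .z, .z, .o, .z, .z⟩,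
    ⟨.z, .z, .z, .z, .z, .z, .z, .o, .z⟩,
    ⟨.z, .z, .z, .z, .z, .z, .z, .z, .o⟩⟩,
  ⟨⟨.o, .z, .z, .z, .z, .z, .z, .z, .z⟩,
    ⟨.z, .o, .o, .z, .z, .z, .o, .z, .z⟩,
    ⟨.z, .o, .o, .o, .z, .z, .z, .z, .z⟩,
    ⟨.z, .z, .o, .o, .z, .z, .o, .z, .z⟩,
    ⟨.z, .z, .z, .z, .o, .o, .z, .o, .z⟩,
    ⟨.z, .z, .z, .z, .o, .z, .z, .o, .o⟩,
    ⟨.z, .o, .z, .o, .z, .z, .o, .z, .z⟩,
    ⟨.z, .z, .z, .z, .o, .o, .z, .z, .o⟩,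
    ⟨.z, .z, .z, .z, .z, .o, .z, .o, .o⟩⟩,
  ⟨⟨.o, .z, .z, .z, .z, .z, .z, .z, .z⟩,
    ⟨.z, .o, .o, .o, .z, .z, .z, .z, .z⟩,
    ⟨.z, .o, .o, .z, .z, .z, .o, .z, .z⟩,
    ⟨.z, .o, .z, .o, .z, .z, .o, .z, .z⟩,
    ⟨.z, .z, .z, .z, .z, .o, .z, .o, .o⟩,
    ⟨.z, .z, .z, .z, .o, .o, .z, .z, .o⟩,
    ⟨.z, .z, .o, .o, .z, .z, .o, .z, .z⟩,
    ⟨.z, .z, .z, .z, .o, .z, .z, .o, .o⟩,
    ⟨.z, .z, .z, .z, .o, .o, .z, .o, .z⟩⟩,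
  ⟨⟨.o, .z, .z, .z, .z, .z, .z, .z, .z⟩,
    ⟨.z, .o, .z, .o, .z, .z, .o, .z, .z⟩,
    ⟨.z, .z, .o, .o, .z, .z, .o, .z, .z⟩,
    ⟨.z, .o, .o, .z, .z, .z, .o, .z, .z⟩,
    ⟨.z, .z, .z, .z, .o, .o, .z, .z, .o⟩,
    ⟨.z, .z, .z, .z, .o, .o, .z, .o, .z⟩,
    ⟨.z, .o, .o, .o, .z, .z, .z, .z, .z⟩,
    ⟨.z, .z, .z, .z, .z, .o, .z, .o, .o⟩,
    ⟨.z, .z, .z, .z, .o, .z, .z, .o, .o⟩⟩,
  ⟨⟨.o, .z, .z, .z, .z, .z, .z, .z, .z⟩,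
    ⟨.z, .z, .z, .z, .o, .z, .z, .o, .o⟩,
    ⟨.z, .z, .z, .z, .o, .o, .z, .z, .o⟩,
    ⟨.z, .z, .z, .z, .z, .o, .z, .o, .o⟩,
    ⟨.z, .o, .o, .z, .z, .z, .o, .z, .z⟩,
    ⟨.z, .z, .o, .o, .z, .z, .o, .z, .z⟩,
    ⟨.z, .z, .z, .z, .o, .o, .z, .o, .z⟩,
    ⟨.z, .o, .z, .o, .z, .z, .o, .z, .z⟩,
    ⟨.z, .o, .o, .o, .z, .z, .z, .z, .z⟩⟩,
  ⟨⟨.o, .z, .z, .z, .z, .z, .z, .z, .z⟩,
    ⟨.z, .z, .z, .z, .o, .o, .z, .o, .z⟩,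
    ⟨.z, .z, .z, .z, .z, .o, .z, .o, .o⟩,
    ⟨.z, .z, .z, .z, .o, .z, .z, .o, .o⟩,
    ⟨.z, .o, .z, .o, .z, .z, .o, .z, .z⟩,
    ⟨.z, .o, .o, .z, .z, .z, .o, .z, .z⟩,
    ⟨.z, .z, .z, .z, .o, .o, .z, .z, .o⟩,
    ⟨.z, .o, .o, .o, .z, .z, .z, .z, .z⟩,
    ⟨.z, .z, .o, .o, .z, .z, .o, .z, .z⟩⟩,
  ⟨⟨.o, .z, .z, .z, .z, .z, .z, .z, .z⟩,
    ⟨.z, .z, .o, .o, .z, .z, .o, .z, .z⟩,
    ⟨.z, .o, .z, .o, .z, .z, .o, .z, .z⟩,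
    ⟨.z, .o, .o, .o, .z, .z, .z, .z, .z⟩,
    ⟨.z, .z, .z, .z, .o, .z, .z, .o, .o⟩,
    ⟨.z, .z, .z, .z, .z, .o, .z, .o, .o⟩,
    ⟨.z, .o, .o, .z, .z, .z, .o, .z, .z⟩,
    ⟨.z, .z, .z, .z, .o, .o, .z, .o, .z⟩,
    ⟨.z, .z, .z, .z, .o, .o, .z, .z, .o⟩⟩,
  ⟨⟨.o, .z, .z, .z, .z, .z, .z, .z, .z⟩,
    ⟨.z, .z, .z, .z, .z, .o, .z, .o, .o⟩,
    ⟨.z, .z, .z, .z, .o, .o, .z, .o, .z⟩,
    ⟨.z, .z, .z, .z, .o, .o, .z, .z, .o⟩,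
    ⟨.z, .z, .o, .o, .z, .z, .o, .z, .z⟩,
    ⟨.z, .o, .o, .o, .z, .z, .z, .z, .z⟩,
    ⟨.z, .z, .z, .z, .o, .z, .z, .o, .o⟩,
    ⟨.z, .o, .o, .z, .z, .z, .o, .z, .z⟩,
    ⟨.z, .o, .z, .o, .z, .z, .o, .z, .z⟩⟩,
  ⟨⟨.o, .z, .z, .z, .z, .z, .z, .z, .z⟩,
    ⟨.z, .z, .z, .z, .o, .o, .z, .z, .o⟩,
    ⟨.z, .z, .z, .z, .o, .z, .z, .o, .o⟩,
    ⟨.z, .z, .z, .z, .o, .o, .z, .o, .z⟩,
    ⟨.z, .o, .o, .o, .z, .z, .z, .z, .z⟩,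
    ⟨.z, .o, .z, .o, .z, .z, .o, .z, .z⟩,
    ⟨.z, .z, .z, .z, .z, .o, .z, .o, .o⟩,
    ⟨.z, .z, .o, .o, .z, .z, .o, .z, .z⟩,
    ⟨.z, .o, .o, .z, .z, .z, .o, .z, .z⟩⟩]

/-- the matrix of an index -/
def j3MatAt (L : List KMat) (Z : F9) : KMat := L.getD (3 * Z.1.val + Z.2.val) kone

/-- a test on all nine indices -/
def kallF9 (g : F9 → Bool) : Bool :=
  g (0, 0) && (g (0, 1) && (g (0, 2) && (g (1, 0) && (g (1, 1) && (g (1, 2) && (g (2, 0) &&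
    (g (2, 1) && g (2, 2))))))))

theorem kallF9_spec (g : F9 → Bool) (h : kallF9 g = true) : ∀ z, g z = true := by
  unfold kallF9 at h
  simp only [Bool.and_eq_true] at h
  obtain ⟨h0, h1, h2, h3, h4, h5, h6, h7, h8⟩ := h
  exact f9_cases _ h0 h1 h2 h3 h4 h5 h6 h7 h8

theorem j3A_mat_chk : (kallF9 fun Z => kallF9 fun i => kallF9 fun j =>
    decide (j3A F4c .w Z i j = kdecM (j3MatAt j3MatA Z) i j)) = true := by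
  decide +kernel

theorem j3E_mat_chk : (kallF9 fun Z => kallF9 fun i => kallF9 fun j =>
    decide (j3E F4c .w Z i j = kdecM (j3MatAt j3MatE Z) i j)) = true := by
  decide +kernel

theorem j3D_mat_chk : (kallF9 fun Z => kallF9 fun i => kallF9 fun j =>
    decide (j3D F4c .w Z i j = kdecM (j3MatAt j3MatD Z) i j)) = true := by
  decide +kernel

theorem j3B_mat_chk : (kallF9 fun Z => decide (Z = 0) || (kallF9 fun i => kallF9 fun j =>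
    decide (j3B F4c Z i j = kdecM (j3MatAt j3MatB Z) i j))) = true := by
  decide +kernel

theorem j3C_mat_chk : (kallF9 fun Z => decide (Z = 0) || (kallF9 fun i => kallF9 fun j =>
    decide (j3C F4c Z i j = kdecM (j3MatAt j3MatC Z) i j))) = true := by
  decide +kernel

theorem j3A_word_chk :
    (kallF9 fun Z => decide (kword (j3WordAt j3WordA Z) = j3MatAt j3MatA Z)) = true := by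
  decide +kernel

theorem j3E_word_chk :
    (kallF9 fun Z => decide (kword (j3WordAt j3WordE Z) = j3MatAt j3MatE Z)) = true := by
  decide +kernel

theorem j3D_word_chk :
    (kallF9 fun Z => decide (kword (j3WordAt j3WordD Z) = j3MatAt j3MatD Z)) = true := by
  decide +kernel

theorem j3B_word_chk :
    (kallF9 fun Z => decide (kword (j3WordAt j3WordB Z) = j3MatAt j3MatB Z)) = true := by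
  decide +kernel

theorem j3C_word_chk :
    (kallF9 fun Z => decide (kword (j3WordAt j3WordC Z) = j3MatAt j3MatC Z)) = true := by
  decide +kernel

theorem j3_mat_aux (P : F9 → Matrix F9 F9 F4c) (L : List KMat)
    (h : (kallF9 fun Z => kallF9 fun i => kallF9 fun j =>
      decide (P Z i j = kdecM (j3MatAt L Z) i j)) = true) (Z : F9) :
    P Z = kdecM (j3MatAt L Z) := by
  ext i j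
  exact of_decide_eq_true (kallF9_spec _ (kallF9_spec _ (kallF9_spec _ h Z) i) j)

theorem j3_mat_aux' (P : F9 → Matrix F9 F9 F4c) (L : List KMat)
    (h : (kallF9 fun Z => decide (Z = 0) || (kallF9 fun i => kallF9 fun j =>
      decide (P Z i j = kdecM (j3MatAt L Z) i j))) = true) (Z : F9) (hZ : Z ≠ 0) :
    P Z = kdecM (j3MatAt L Z) := by
  have h1 := kallF9_spec _ h Z
  rw [Bool.or_eq_true, decide_eq_true_eq] at h1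
  rcases h1 with h1 | h1
  · exact absurd h1 hZ
  · ext i j
    exact of_decide_eq_true (kallF9_spec _ (kallF9_spec _ h1 i) j)

theorem j3_word_aux (W : List (List ℕ)) (L : List KMat)
    (h : (kallF9 fun Z => decide (kword (j3WordAt W Z) = j3MatAt L Z)) = true) (Z : F9) :
    kword (j3WordAt W Z) = j3MatAt L Z :=
  of_decide_eq_true (kallF9_spec _ h Z)

theorem j3A_word (Z : F9) : j3A F4c .w Z = kdecM (kword (j3WordAt j3WordA Z)) := by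
  rw [j3_word_aux _ _ j3A_word_chk]
  exact j3_mat_aux _ _ j3A_mat_chk Z

theorem j3E_word (Z : F9) : j3E F4c .w Z = kdecM (kword (j3WordAt j3WordE Z)) := by
  rw [j3_word_aux _ _ j3E_word_chk]
  exact j3_mat_aux _ _ j3E_mat_chk Z

theorem j3D_word (Z : F9) : j3D F4c .w Z = kdecM (kword (j3WordAt j3WordD Z)) := by
  rw [j3_word_aux _ _ j3D_word_chk]
  exact j3_mat_aux _ _ j3D_mat_chk Z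

theorem j3B_word (Z : F9) (hZ : Z ≠ 0) : j3B F4c Z = kdecM (kword (j3WordAt j3WordB Z)) := by
  rw [j3_word_aux _ _ j3B_word_chk]
  exact j3_mat_aux' _ _ j3B_mat_chk Z hZ

theorem j3C_word (Z : F9) (hZ : Z ≠ 0) : j3C F4c Z = kdecM (kword (j3WordAt j3WordC Z)) := by
  rw [j3_word_aux _ _ j3C_word_chk]
  exact j3_mat_aux' _ _ j3C_mat_chk Z hZ

end Cfsg.Agent.Lib.helper4
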