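import Mathlib
import Cfsg.Agent.Lib.helper4.J3Defs

set_option autoImplicit false

/-! What the checks on lists of lines prove, with the relation to the group left abstract. -/

namespace Cfsg.Agent.Lib.helper4

open Cfsg.Agent.Lib.Lead.F4

/-- the numbers of the entries -/
def kkeys (es : List ℕ) : List ℕ := es.map fun e => e / 16

theorem kkeys_append (a b : List ℕ) : kkeys (a ++ b) = kkeys a ++ kkeys b := List.map_append

/-- what is known about the set of the numbers met so far -/
structure KReached (R : ℕ → Prop) (B : ℕ) (keys : List ℕ) : Prop where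
  mem : ∀ y, kmem B y = true ↔ y ∈ keys
  nodup : keys.Nodup
  good : ∀ y ∈ keys, y < 262144 ∧ kfirstN 9 y = 1 ∧ R y

theorem kreach_cons (e : ℕ) (es : List ℕ) (B : ℕ) :
    kreach (e :: es) B =
      if kmem B (e / 16) = false ∧ kfirstN 9 (e / 16) = 1 ∧ e / 16 < 262144 ∧
          kmem B (kstepN (j3TabsB.getD (e % 16) (0, 0)) (e / 16)) = true ∧
          kstepN (j3TabsF.getD (e % 16) (0, 0)) (kstepN (j3TabsB.getD (e % 16) (0, 0)) (e / 16))
            = e / 16 then
        kreach es (kins B (e / 16))
      else none := by
  rw [kreach]
  simp only [kforceNat_eq, kforceP_eq]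
  show (match kmem B (e / 16) with
    | true => none
    | false =>
      match Nat.beq (kfirstN 9 (e / 16)) 1 && Nat.ble (e / 16) 262143 with
      | false => none
      | true =>
        match kmem B (kstepN (j3TabsB.getD (e % 16) (0, 0)) (e / 16)) with
        | false => none
        | true =>
          match Nat.beq (kstepN (j3TabsF.getD (e % 16) (0, 0))
              (kstepN (j3TabsB.getD (e % 16) (0, 0)) (e / 16))) (e / 16) with
          | false => none
          | true => kreach es (kins B (e / 16))) = _
  cases h1 : kmem B (e / 16)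
  · cases h2 : Nat.beq (kfirstN 9 (e / 16)) 1
    · have : ¬ kfirstN 9 (e / 16) = 1 := fun h => by
        rw [h] at h2; exact absurd h2 (by decide)
      rw [if_neg (fun hc => this hc.2.1)]
      rfl
    · have h2' : kfirstN 9 (e / 16) = 1 := Nat.eq_of_beq_eq_true h2
      cases h3 : Nat.ble (e / 16) 262143
      · have : ¬ e / 16 < 262144 := fun h => by
          have : Nat.ble (e / 16) 262143 = true := Nat.ble_eq_true_of_le (by omega)
          rw [this] at h3; exact absurd h3 (by decide)
        rw [if_neg (fun hc => this hc.2.2.1)]
        rfl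
      · have h3' : e / 16 < 262144 := by
          have := Nat.le_of_ble_eq_true h3
          omega
        cases h4 : kmem B (kstepN (j3TabsB.getD (e % 16) (0, 0)) (e / 16))
        · rw [if_neg (fun hc => absurd hc.2.2.2.1 (by decide))]
          rfl
        · cases h5 : Nat.beq (kstepN (j3TabsF.getD (e % 16) (0, 0))
              (kstepN (j3TabsB.getD (e % 16) (0, 0)) (e / 16))) (e / 16)
          · have : ¬ kstepN (j3TabsF.getD (e % 16) (0, 0))
                (kstepN (j3TabsB.getD (e % 16) (0, 0)) (e / 16)) = e / 16 := fun h => by
              rw [h, Nat.beq_refl] at h5; exact absurd h5 (by decide)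
            rw [if_neg (fun hc => this hc.2.2.2.2)]
            rfl
          · have h5' := Nat.eq_of_beq_eq_true h5
            rw [if_pos ⟨rfl, h2', h3', rfl, h5'⟩]
            rfl
  · rw [if_neg (fun hc => absurd hc.1 (by decide))]

theorem kreach_sound (R : ℕ → Prop)
    (hstep : ∀ k p, p < 262144 → R p → kstepN (j3TabsF.getD k (0, 0)) p < 262144 →
      kfirstN 9 (kstepN (j3TabsF.getD k (0, 0)) p) = 1 → R (kstepN (j3TabsF.getD k (0, 0)) p)) :
    ∀ (es : List ℕ) (B B' : ℕ) (keys : List ℕ), KReached R B keys → kreach es B = some B' →
      KReached R B' (keys ++ kkeys es) := by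
  intro es
  induction es with
  | nil =>
    intro B B' keys h he
    rw [kreach, Option.some.injEq] at he
    subst he
    simpa [kkeys] using h
  | cons e es ih =>
    intro B B' keys h he
    rw [kreach_cons] at he
    split_ifs at he with hc
    obtain ⟨h1, h2, h3, h4, h5⟩ := hc
    have hx : e / 16 ∉ keys := fun hm => by
      rw [(h.mem _).2 hm] at h1
      exact absurd h1 (by decide)
    have hp := (h.mem _).1 h4
    obtain ⟨hp1, -, hp3⟩ := h.good _ hp
    have hR : R (e / 16) := by
      have := hstep (e % 16) _ hp1 hp3 (by rw [h5]; exact h3) (by rw [h5]; exact h2)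
      rwa [h5] at this
    have h' : KReached R (kins B (e / 16)) (keys ++ [e / 16]) := by
      refine ⟨fun y => ?_, ?_, ?_⟩
      · rw [kmem_kins, Bool.or_eq_true, decide_eq_true_eq, h.mem, List.mem_append,
          List.mem_singleton]
        tauto
      · rw [List.nodup_append]
        refine ⟨h.nodup, List.nodup_singleton _, ?_⟩
        intro a ha b hb
        rw [List.mem_singleton] at hb
        subst hb
        intro hab
        exact hx (hab ▸ ha)
      · intro y hy
        rw [List.mem_append, List.mem_singleton] at hy
        rcases hy with hy | hy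
        · exact h.good y hy
        · subst hy
          exact ⟨h3, h2, hR⟩
    have := ih _ _ _ h' he
    rw [List.append_assoc] at this
    exact this

theorem kreachAll_sound (R : ℕ → Prop)
    (hstep : ∀ k p, p < 262144 → R p → kstepN (j3TabsF.getD k (0, 0)) p < 262144 →
      kfirstN 9 (kstepN (j3TabsF.getD k (0, 0)) p) = 1 → R (kstepN (j3TabsF.getD k (0, 0)) p))
    (base : ℕ) (hbase : R base) (es : List ℕ) (B' : ℕ) (he : kreachAll base es = some B') :
    KReached R B' (kkeys es) := by
  unfold kreachAll at he
  cases es with
  | nil => exact absurd he (by simp)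
  | cons e rest =>
    simp only at he
    split at he
    · rename_i hc
      rw [Bool.and_eq_true, Bool.and_eq_true] at hc
      obtain ⟨h1, h2, h3⟩ := hc
      have h1' : e = 16 * base := Nat.eq_of_beq_eq_true h1
      have h2' : kfirstN 9 base = 1 := Nat.eq_of_beq_eq_true h2
      have h3' : base < 262144 := by
        have := Nat.le_of_ble_eq_true h3
        omega
      have h0 : KReached R (kins 0 base) [base] := by
        refine ⟨fun y => ?_, List.nodup_singleton _, ?_⟩
        · rw [kmem_kins, kmem_zero, Bool.or_false, decide_eq_true_eq, List.mem_singleton]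
        · intro y hy
          rw [List.mem_singleton] at hy
          subst hy
          exact ⟨h3', h2', hbase⟩
      have := kreach_sound R hstep rest _ _ _ h0 he
      have hk : kkeys (e :: rest) = [base] ++ kkeys rest := by
        show (e / 16) :: kkeys rest = _
        rw [h1']
        simp
      rw [hk]
      exact this
    · exact absurd he (by simp)

theorem kclosed_sound (B : ℕ) (es : List ℕ) (h : kclosed B es = true) :
    ∀ x ∈ kkeys es, ∀ T ∈ j3TabsF, kmem B (kstepN T x) = true := by
  unfold kclosed at h
  rw [List.all_eq_true] at h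
  intro x hx T hT
  unfold kkeys at hx
  rw [List.mem_map] at hx
  obtain ⟨e, he, rfl⟩ := hx
  have := h e he
  rw [kforceNat_eq, List.all_eq_true] at this
  exact this T hT

theorem kall1_spec (g : F4c → Bool) (h : kall1 g = true) : ∀ a, g a = true := by
  unfold kall1 at h
  simp only [Bool.and_eq_true] at h
  intro a
  cases a
  · exact h.1
  · exact h.2.1
  · exact h.2.2.1
  · exact h.2.2.2

theorem kall7_spec (a0 a1 : F4c) (f : KVec → Bool) (h : kall7 a0 a1 f = true) :
    ∀ a2 a3 a4 a5 a6 a7 a8, f ⟨a0, a1, a2, a3, a4, a5, a6, a7, a8⟩ = true := by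
  intro a2 a3 a4 a5 a6 a7 a8
  exact kall1_spec _ (kall1_spec _ (kall1_spec _ (kall1_spec _ (kall1_spec _ (kall1_spec _
    (kall1_spec _ h a2) a3) a4) a5) a6) a7) a8

end Cfsg.Agent.Lib.helper4
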