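import Mathlib
import Cfsg.Agent.Lib.helper4.J3Sound
import Cfsg.Agent.Lib.helper4.J3Gen
import Cfsg.Agent.Lib.helper4.J3ChkT

set_option autoImplicit false

/-! Steps on the numbers of lines and the seven generators, over the concrete field with four
elements. -/

namespace Cfsg.Agent.Lib.helper4

open Cfsg.Agent.Lib.Lead.F4 Cfsg.Spor

theorem ktabChkL_getD : ∀ (Ms : List KMat) (Ts : List (ℕ × ℕ)), ktabChkL Ms Ts = true →
    ∀ k, k < Ms.length → ktabChk (Ms.getD k kone) (Ts.getD k (0, 0)) = true := by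
  intro Ms
  induction Ms with
  | nil => intro Ts _ k hk; exact absurd hk (by simp)
  | cons M Ms ih =>
    intro Ts h k hk
    cases Ts with
    | nil => exact absurd h (by simp [ktabChkL])
    | cons T Ts =>
      rw [ktabChkL, Bool.and_eq_true] at h
      cases k with
      | zero => exact h.1
      | succ k =>
        have hk' : k < Ms.length := by simpa using hk
        simpa using ih Ts h.2 k hk'

theorem kmv_ksmul (M : KMat) (c : F4c) (v : KVec) : kmv M (ksmul c v) = ksmul c (kmv M v) := by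
  apply KVec.toFun_injective
  rw [kmv_toFun, ksmul_toFun, ksmul_toFun, kmv_toFun, Matrix.mulVec_smul]

theorem kstepN_eq (T : ℕ × ℕ) (x : ℕ) : kstepN T x = knormN j3Tw j3Tv (kapp T x) := by
  unfold kstepN
  rw [kforceNat_eq]

theorem kstep_spec (M : KMat) (T : ℕ × ℕ) (h : ktabChk M T = true) (x : ℕ) (hx : x < 262144)
    (hy : kfirstN 9 (kstepN T x) = 1) :
    ∃ c : F4c, c ≠ 0 ∧ kmv M (kvecOfKey x) = ksmul c (kvecOfKey (kstepN T x)) := by
  have e1 : kstepN T x = kkey (knorm (kmv M (kvecOfKey x))) := by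
    rw [kstepN_eq, kapp_eq M T h x hx, knormN_kkey _ _ j3Tw_chk j3Tv_chk]
  rw [e1] at hy ⊢
  rw [kvecOfKey_kkey]
  rw [kfirstN_kkey] at hy
  set v := kmv M (kvecOfKey x) with hv
  by_cases h0 : kfirst v = 0
  · exfalso
    rw [knorm_eq, if_pos h0, ksmul_one, h0] at hy
    exact absurd hy (by decide)
  · refine ⟨kfirst v, h0, ?_⟩
    rw [knorm_eq, if_neg h0, ksmul_ksmul, mul_inv_cancel₀ h0, ksmul_one]

theorem kapp_zero (x : ℕ) : kapp (0, 0) x = 0 := by
  unfold kapp klook
  show Nat.xor ((0 >>> (18 * (x % 256))) &&& 262143) ((0 >>> (18 * (x / 256))) &&& 262143) = 0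
  rw [Nat.zero_shiftRight, Nat.zero_shiftRight, Nat.zero_and]
  rfl

theorem kstepN_zero (x : ℕ) : kstepN (0, 0) x = 0 := by
  rw [kstepN_eq, kapp_zero]
  rfl

theorem j3Gen7_length : j3Gen7.length = 7 := by
  unfold j3Gen7
  rw [List.length_take]
  rfl

theorem j3TabsF_length : j3TabsF.length = 7 := by
  unfold j3TabsF
  rw [List.length_take]
  decide +kernel

theorem j3Tab_getD (k : ℕ) (hk : k < 7) :
    ktabChk (j3Gen7.getD k kone) (j3TabsF.getD k (0, 0)) = true :=
  ktabChkL_getD j3Gen7 _ j3Tab_chk k (by rw [j3Gen7_length]; exact hk)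

/-- the step of a generator, in terms of vectors -/
theorem j3Step_spec (k x : ℕ) (hx : x < 262144)
    (hy : kfirstN 9 (kstepN (j3TabsF.getD k (0, 0)) x) = 1) :
    k < 7 ∧ ∃ c : F4c, c ≠ 0 ∧ kmv (j3Gen7.getD k kone) (kvecOfKey x) =
      ksmul c (kvecOfKey (kstepN (j3TabsF.getD k (0, 0)) x)) := by
  by_cases hk : k < 7
  · exact ⟨hk, kstep_spec _ _ (j3Tab_getD k hk) x hx hy⟩
  · exfalso
    rw [List.getD_eq_default _ _ (by rw [j3TabsF_length]; omega), kstepN_zero] at hy
    exact absurd hy (by decide)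

/-- a matrix maps the lines of the given numbers to such lines -/
def KPres (keys : List ℕ) (M : KMat) : Prop :=
  ∀ x ∈ keys, ∃ y ∈ keys, ∃ c : F4c, c ≠ 0 ∧ kmv M (kvecOfKey x) = ksmul c (kvecOfKey y)

theorem kpres_kone (keys : List ℕ) : KPres keys kone := by
  intro x hx
  exact ⟨x, hx, 1, one_ne_zero, by rw [kmv_kone, ksmul_one]⟩

theorem kpres_kmm (keys : List ℕ) (A B : KMat) (hA : KPres keys A) (hB : KPres keys B) :
    KPres keys (kmm A B) := by
  intro x hx
  obtain ⟨y, hy, c, hc, e1⟩ := hB x hx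
  obtain ⟨z, hz, d, hd, e2⟩ := hA y hy
  refine ⟨z, hz, c * d, mul_ne_zero hc hd, ?_⟩
  rw [kmv_kmm, e1, kmv_ksmul, e2, ksmul_ksmul]

theorem kpres_kword (keys : List ℕ) (h : ∀ k, k < 7 → KPres keys (j3Gen7.getD k kone)) :
    ∀ w, KPres keys (kword w) := by
  intro w
  induction w with
  | nil => exact kpres_kone keys
  | cons k w ih =>
    show KPres keys (kmm (j3Gen7.getD k kone) (kword w))
    apply kpres_kmm _ _ _ _ ih
    by_cases hk : k < 7
    · exact h k hk
    · rw [List.getD_eq_default _ _ (by rw [j3Gen7_length]; omega)]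
      exact kpres_kone keys

/-- closure under the seven generators, from the check -/
theorem kpres_of_closed (R : ℕ → Prop) (B : ℕ) (keys : List ℕ) (hB : KReached R B keys)
    (hcl : ∀ x ∈ keys, ∀ T ∈ j3TabsF, kmem B (kstepN T x) = true) :
    ∀ w, KPres keys (kword w) := by
  apply kpres_kword
  intro k hk x hx
  have hT : j3TabsF.getD k (0, 0) ∈ j3TabsF := by
    rw [List.getD_eq_getElem _ _ (by rw [j3TabsF_length]; exact hk)]
    exact List.getElem_mem _
  have hy := (hB.mem _).1 (hcl x hx _ hT)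
  obtain ⟨-, hy2, -⟩ := hB.good _ hy
  obtain ⟨-, c, hc, e⟩ := j3Step_spec k x (hB.good x hx).1 hy2
  exact ⟨_, hy, c, hc, e⟩

end Cfsg.Agent.Lib.helper4
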