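import Mathlib
import Cfsg.Agent.Lib.helper4.J3Step

set_option autoImplicit false

/-! Matrices of size nine over the field with four elements as numbers: the nine columns, each
the number of a vector, in base `4 ^ 9`. Products with the generators (through their tables) and
general products, for kernel checks. -/

namespace Cfsg.Agent.Lib.helper4

open Cfsg.Agent.Lib.Lead.F4 Cfsg.Spor

/-- packing nine columns -/
def cpack (c0 c1 c2 c3 c4 c5 c6 c7 c8 : ℕ) : ℕ :=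
  Nat.add c0 (Nat.mul 262144 (Nat.add c1 (Nat.mul 262144 (Nat.add c2 (Nat.mul 262144
    (Nat.add c3 (Nat.mul 262144 (Nat.add c4 (Nat.mul 262144 (Nat.add c5 (Nat.mul 262144
      (Nat.add c6 (Nat.mul 262144 (Nat.add c7 (Nat.mul 262144 c8)))))))))))))))

/-- the column of position `j` -/
def ccol (C j : ℕ) : ℕ := Nat.mod (Nat.div C (Nat.pow 262144 j)) 262144

theorem ccol_lt (C j : ℕ) : ccol C j < 262144 := Nat.mod_lt _ (by norm_num)

theorem cpack_eq (c0 c1 c2 c3 c4 c5 c6 c7 c8 : ℕ) : cpack c0 c1 c2 c3 c4 c5 c6 c7 c8 =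
    c0 + 262144 * (c1 + 262144 * (c2 + 262144 * (c3 + 262144 * (c4 + 262144 * (c5 + 262144 *
      (c6 + 262144 * (c7 + 262144 * c8))))))) := rfl

theorem ccol_eq (C j : ℕ) : ccol C j = C / 262144 ^ j % 262144 := rfl

theorem ccol_cpack (c0 c1 c2 c3 c4 c5 c6 c7 c8 : ℕ) (h0 : c0 < 262144) (h1 : c1 < 262144)
    (h2 : c2 < 262144) (h3 : c3 < 262144) (h4 : c4 < 262144) (h5 : c5 < 262144)
    (h6 : c6 < 262144) (h7 : c7 < 262144) (h8 : c8 < 262144) :
    ccol (cpack c0 c1 c2 c3 c4 c5 c6 c7 c8) 0 = c0 ∧ ccol (cpack c0 c1 c2 c3 c4 c5 c6 c7 c8) 1 = c1 ∧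
    ccol (cpack c0 c1 c2 c3 c4 c5 c6 c7 c8) 2 = c2 ∧ ccol (cpack c0 c1 c2 c3 c4 c5 c6 c7 c8) 3 = c3 ∧
    ccol (cpack c0 c1 c2 c3 c4 c5 c6 c7 c8) 4 = c4 ∧ ccol (cpack c0 c1 c2 c3 c4 c5 c6 c7 c8) 5 = c5 ∧
    ccol (cpack c0 c1 c2 c3 c4 c5 c6 c7 c8) 6 = c6 ∧ ccol (cpack c0 c1 c2 c3 c4 c5 c6 c7 c8) 7 = c7 ∧
    ccol (cpack c0 c1 c2 c3 c4 c5 c6 c7 c8) 8 = c8 := by
  simp only [ccol_eq, cpack_eq]
  norm_num
  refine ⟨?_, ?_, ?_, ?_, ?_, ?_, ?_, ?_, ?_⟩ <;> omega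

/-- applying a function to the nine columns -/
def cmap (f : ℕ → ℕ) (C : ℕ) : ℕ :=
  cpack (f (ccol C 0)) (f (ccol C 1)) (f (ccol C 2)) (f (ccol C 3)) (f (ccol C 4)) (f (ccol C 5))
    (f (ccol C 6)) (f (ccol C 7)) (f (ccol C 8))

theorem ccol_cmap (f : ℕ → ℕ) (hf : ∀ x, x < 262144 → f x < 262144) (C j : ℕ) (hj : j < 9) :
    ccol (cmap f C) j = f (ccol C j) := by
  obtain ⟨e0, e1, e2, e3, e4, e5, e6, e7, e8⟩ := ccol_cpack (f (ccol C 0)) (f (ccol C 1))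
    (f (ccol C 2)) (f (ccol C 3)) (f (ccol C 4)) (f (ccol C 5)) (f (ccol C 6)) (f (ccol C 7))
    (f (ccol C 8)) (hf _ (ccol_lt _ _)) (hf _ (ccol_lt _ _)) (hf _ (ccol_lt _ _))
    (hf _ (ccol_lt _ _)) (hf _ (ccol_lt _ _)) (hf _ (ccol_lt _ _)) (hf _ (ccol_lt _ _))
    (hf _ (ccol_lt _ _)) (hf _ (ccol_lt _ _))
  unfold cmap
  interval_cases j
  · exact e0
  · exact e1
  · exact e2
  · exact e3
  · exact e4
  · exact e5
  · exact e6
  · exact e7
  · exact e8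

/-- the code of the identity -/
def cid : ℕ := cpack 1 4 16 64 256 1024 4096 16384 65536

/-- the product of a generator, given by its tables, and a matrix -/
def cmulT (T : ℕ × ℕ) (C : ℕ) : ℕ := cmap (kapp T) C

/-- a multiple of the vector of a number -/
def cscal (d a : ℕ) : ℕ :=
  match d with
  | 0 => 0
  | 1 => a
  | 2 => kapp j3Tw a
  | _ => kapp j3Tv a

/-- the digit of position `i` in base four -/
def cdig (x i : ℕ) : ℕ := Nat.mod (Nat.div x (Nat.pow 4 i)) 4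

/-- the image of the vector of a number under the matrix of a code -/
def capp (A x : ℕ) : ℕ :=
  Nat.xor (cscal (cdig x 0) (ccol A 0)) (Nat.xor (cscal (cdig x 1) (ccol A 1))
    (Nat.xor (cscal (cdig x 2) (ccol A 2)) (Nat.xor (cscal (cdig x 3) (ccol A 3))
      (Nat.xor (cscal (cdig x 4) (ccol A 4)) (Nat.xor (cscal (cdig x 5) (ccol A 5))
        (Nat.xor (cscal (cdig x 6) (ccol A 6)) (Nat.xor (cscal (cdig x 7) (ccol A 7))
          (cscal (cdig x 8) (ccol A 8)))))))))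

/-- the product of two matrices -/
def cmul (A B : ℕ) : ℕ := cmap (capp A) B

/-- the position of an index -/
def kidx (z : F9) : ℕ := 3 * z.1.val + z.2.val

/-- the matrix of a code -/
def cdec (C : ℕ) : Matrix F9 F9 F4c := Matrix.of fun i j => (kvecOfKey (ccol C (kidx j))).toFun i

theorem kvecOfKey_xor (a b : ℕ) (ha : a < 262144) (hb : b < 262144) :
    kvecOfKey (Nat.xor a b) = kadd (kvecOfKey a) (kvecOfKey b) := by
  have := kkey_kadd (kvecOfKey a) (kvecOfKey b)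
  rw [kkey_kvecOfKey a ha, kkey_kvecOfKey b hb] at this
  rw [← this, kvecOfKey_kkey]

theorem xor_lt_key (a b : ℕ) (ha : a < 262144) (hb : b < 262144) : Nat.xor a b < 262144 :=
  Nat.xor_lt_two_pow (n := 18) ha hb

theorem kapp_scal_w (a : ℕ) (ha : a < 262144) : kapp j3Tw a = kkey (ksmul .w (kvecOfKey a)) := by
  rw [kapp_eq _ _ j3Tw_chk a ha, kmv_kscal]

theorem kapp_scal_v (a : ℕ) (ha : a < 262144) : kapp j3Tv a = kkey (ksmul .v (kvecOfKey a)) := by
  rw [kapp_eq _ _ j3Tv_chk a ha, kmv_kscal]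

theorem cscal_spec (d a : ℕ) (hd : d < 4) (ha : a < 262144) :
    cscal d a < 262144 ∧ kvecOfKey (cscal d a) = ksmul (kofNat d) (kvecOfKey a) := by
  interval_cases d
  · refine ⟨by show 0 < 262144; norm_num, ?_⟩
    show kvecOfKey 0 = ksmul .z (kvecOfKey a)
    have h0 : kvecOfKey 0 = kzero := by decide
    rw [h0]
    apply KVec.toFun_injective
    rw [ksmul_toFun, kzero_toFun]
    exact (zero_smul _ _).symm
  · refine ⟨ha, ?_⟩
    show kvecOfKey a = ksmul .o (kvecOfKey a)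
    exact (ksmul_one _).symm
  · show kapp j3Tw a < 262144 ∧ kvecOfKey (kapp j3Tw a) = ksmul .w (kvecOfKey a)
    rw [kapp_scal_w a ha, kvecOfKey_kkey]
    exact ⟨kkey_lt _, rfl⟩
  · show kapp j3Tv a < 262144 ∧ kvecOfKey (kapp j3Tv a) = ksmul .v (kvecOfKey a)
    rw [kapp_scal_v a ha, kvecOfKey_kkey]
    exact ⟨kkey_lt _, rfl⟩

theorem cdig_lt (x i : ℕ) : cdig x i < 4 := Nat.mod_lt _ (by norm_num)

theorem kvecOfKey_cdig (x : ℕ) : kvecOfKey x =
    ⟨kofNat (cdig x 0), kofNat (cdig x 1), kofNat (cdig x 2), kofNat (cdig x 3), kofNat (cdig x 4),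
      kofNat (cdig x 5), kofNat (cdig x 6), kofNat (cdig x 7), kofNat (cdig x 8)⟩ := by
  rw [kvecOfKey_eq]
  have e : ∀ i, cdig x i = x / 4 ^ i % 4 := fun _ => rfl
  simp only [e]
  norm_num

theorem capp_spec (A x : ℕ) : capp A x < 262144 ∧ kvecOfKey (capp A x) =
    kadd (ksmul (kofNat (cdig x 0)) (kvecOfKey (ccol A 0)))
    (kadd (ksmul (kofNat (cdig x 1)) (kvecOfKey (ccol A 1)))
    (kadd (ksmul (kofNat (cdig x 2)) (kvecOfKey (ccol A 2)))
    (kadd (ksmul (kofNat (cdig x 3)) (kvecOfKey (ccol A 3)))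
    (kadd (ksmul (kofNat (cdig x 4)) (kvecOfKey (ccol A 4)))
    (kadd (ksmul (kofNat (cdig x 5)) (kvecOfKey (ccol A 5)))
    (kadd (ksmul (kofNat (cdig x 6)) (kvecOfKey (ccol A 6)))
    (kadd (ksmul (kofNat (cdig x 7)) (kvecOfKey (ccol A 7)))
      (ksmul (kofNat (cdig x 8)) (kvecOfKey (ccol A 8)))))))))) := by
  obtain ⟨l0, s0⟩ := cscal_spec (cdig x 0) (ccol A 0) (cdig_lt _ _) (ccol_lt _ _)
  obtain ⟨l1, s1⟩ := cscal_spec (cdig x 1) (ccol A 1) (cdig_lt _ _) (ccol_lt _ _)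
  obtain ⟨l2, s2⟩ := cscal_spec (cdig x 2) (ccol A 2) (cdig_lt _ _) (ccol_lt _ _)
  obtain ⟨l3, s3⟩ := cscal_spec (cdig x 3) (ccol A 3) (cdig_lt _ _) (ccol_lt _ _)
  obtain ⟨l4, s4⟩ := cscal_spec (cdig x 4) (ccol A 4) (cdig_lt _ _) (ccol_lt _ _)
  obtain ⟨l5, s5⟩ := cscal_spec (cdig x 5) (ccol A 5) (cdig_lt _ _) (ccol_lt _ _)
  obtain ⟨l6, s6⟩ := cscal_spec (cdig x 6) (ccol A 6) (cdig_lt _ _) (ccol_lt _ _)
  obtain ⟨l7, s7⟩ := cscal_spec (cdig x 7) (ccol A 7) (cdig_lt _ _) (ccol_lt _ _)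
  obtain ⟨l8, s8⟩ := cscal_spec (cdig x 8) (ccol A 8) (cdig_lt _ _) (ccol_lt _ _)
  have m7 := xor_lt_key _ _ l7 l8
  have m6 := xor_lt_key _ _ l6 m7
  have m5 := xor_lt_key _ _ l5 m6
  have m4 := xor_lt_key _ _ l4 m5
  have m3 := xor_lt_key _ _ l3 m4
  have m2 := xor_lt_key _ _ l2 m3
  have m1 := xor_lt_key _ _ l1 m2
  have m0 := xor_lt_key _ _ l0 m1
  refine ⟨m0, ?_⟩
  unfold capp
  rw [kvecOfKey_xor _ _ l0 m1, kvecOfKey_xor _ _ l1 m2, kvecOfKey_xor _ _ l2 m3,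
    kvecOfKey_xor _ _ l3 m4, kvecOfKey_xor _ _ l4 m5, kvecOfKey_xor _ _ l5 m6,
    kvecOfKey_xor _ _ l6 m7, kvecOfKey_xor _ _ l7 l8, s0, s1, s2, s3, s4, s5, s6, s7, s8]

/-- the number computed by `capp` is that of the image of the vector under the matrix -/
theorem cdec_mulVec (A x : ℕ) :
    (cdec A).mulVec (kvecOfKey x).toFun = (kvecOfKey (capp A x)).toFun := by
  rw [(capp_spec A x).2]
  funext i
  simp only [Matrix.mulVec, dotProduct, cdec, Matrix.of_apply]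
  rw [sum_f9]
  simp only [kadd_toFun, ksmul_toFun, Pi.add_apply, Pi.smul_apply, smul_eq_mul]
  have hx := kvecOfKey_cdig x
  have e0 : (kvecOfKey x).toFun (0, 0) = kofNat (cdig x 0) := by rw [hx]; rfl
  have e1 : (kvecOfKey x).toFun (0, 1) = kofNat (cdig x 1) := by rw [hx]; rfl
  have e2 : (kvecOfKey x).toFun (0, 2) = kofNat (cdig x 2) := by rw [hx]; rfl
  have e3 : (kvecOfKey x).toFun (1, 0) = kofNat (cdig x 3) := by rw [hx]; rfl
  have e4 : (kvecOfKey x).toFun (1, 1) = kofNat (cdig x 4) := by rw [hx]; rfl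
  have e5 : (kvecOfKey x).toFun (1, 2) = kofNat (cdig x 5) := by rw [hx]; rfl
  have e6 : (kvecOfKey x).toFun (2, 0) = kofNat (cdig x 6) := by rw [hx]; rfl
  have e7 : (kvecOfKey x).toFun (2, 1) = kofNat (cdig x 7) := by rw [hx]; rfl
  have e8 : (kvecOfKey x).toFun (2, 2) = kofNat (cdig x 8) := by rw [hx]; rfl
  rw [e0, e1, e2, e3, e4, e5, e6, e7, e8]
  have k0 : kidx (0, 0) = 0 := by decide
  have k1 : kidx (0, 1) = 1 := by decide
  have k2 : kidx (0, 2) = 2 := by decide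
  have k3 : kidx (1, 0) = 3 := by decide
  have k4 : kidx (1, 1) = 4 := by decide
  have k5 : kidx (1, 2) = 5 := by decide
  have k6 : kidx (2, 0) = 6 := by decide
  have k7 : kidx (2, 1) = 7 := by decide
  have k8 : kidx (2, 2) = 8 := by decide
  rw [k0, k1, k2, k3, k4, k5, k6, k7, k8]
  ring

theorem kidx_lt (z : F9) : kidx z < 9 := by
  revert z
  apply f9_cases <;> decide

/-- the columns of the matrix of a code -/
theorem cdec_col (C : ℕ) (j : F9) :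
    (fun i => cdec C i j) = (kvecOfKey (ccol C (kidx j))).toFun := rfl

/-- matrices of codes with the same columns are equal -/
theorem cdec_congr (A B : ℕ) (h : ∀ j, j < 9 → ccol A j = ccol B j) : cdec A = cdec B := by
  ext i j
  show (kvecOfKey (ccol A (kidx j))).toFun i = (kvecOfKey (ccol B (kidx j))).toFun i
  rw [h _ (kidx_lt j)]

theorem cdec_cmul (A B : ℕ) : cdec (cmul A B) = cdec A * cdec B := by
  ext i j
  show (kvecOfKey (ccol (cmul A B) (kidx j))).toFun i = _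
  unfold cmul
  rw [ccol_cmap _ (fun x _ => (capp_spec A x).1) _ _ (kidx_lt j), ← cdec_mulVec]
  simp only [Matrix.mulVec, dotProduct, Matrix.mul_apply]
  rfl

theorem cdec_cmulT (M : KMat) (T : ℕ × ℕ) (h : ktabChk M T = true) (C : ℕ) :
    cdec (cmulT T C) = kdecM M * cdec C := by
  have hlt : ∀ x, x < 262144 → kapp T x < 262144 := by
    intro x hx
    rw [kapp_eq M T h x hx]
    exact kkey_lt _
  ext i j
  show (kvecOfKey (ccol (cmulT T C) (kidx j))).toFun i = _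
  unfold cmulT
  rw [ccol_cmap _ hlt _ _ (kidx_lt j), kapp_eq M T h _ (ccol_lt _ _), kvecOfKey_kkey, kmv_toFun]
  simp only [Matrix.mulVec, dotProduct, Matrix.mul_apply]
  rfl

theorem cdec_cid : cdec cid = 1 := by
  have h : ∀ j, j < 9 → ccol cid j = 4 ^ j := by decide
  have hv : ∀ j : F9, kvecOfKey (4 ^ kidx j) =
      KVec.ofFun (fun i => if i = j then F4c.o else F4c.z) := by
    apply f9_cases <;> decide
  ext i j
  show (kvecOfKey (ccol cid (kidx j))).toFun i = _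
  rw [h _ (kidx_lt j), hv j, KVec.toFun_ofFun, Matrix.one_apply]
  rfl

end Cfsg.Agent.Lib.helper4
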