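import Mathlib
import Cfsg.Agent.Lib.helper4.J3Defs
import Cfsg.Agent.Lib.helper4.J3DataA
import Cfsg.Agent.Lib.helper4.J3SetA

set_option autoImplicit false

/-! Kernel checks for the orbit of the first coordinate line under the triple cover of the third
Janko group: all listed lines are reached from the first one. -/

namespace Cfsg.Agent.Lib.helper4

set_option maxRecDepth 10000000 in
theorem j3ReachA0_chk : kreachAll 1 (kunpackAll j3OrbA0) = some j3SetA0 := by decide +kernel

set_option maxRecDepth 10000000 in
theorem j3ReachA1_chk : kreach (kunpackAll j3OrbA1) j3SetA0 = some j3SetA1 := by decide +kernel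

set_option maxRecDepth 10000000 in
theorem j3ReachA2_chk : kreach (kunpackAll j3OrbA2) j3SetA1 = some j3SetA2 := by decide +kernel

set_option maxRecDepth 10000000 in
theorem j3ReachA3_chk : kreach (kunpackAll j3OrbA3) j3SetA2 = some j3SetA3 := by decide +kernel

set_option maxRecDepth 10000000 in
theorem j3LenA_chk :
    (kunpackAll j3OrbA0 ++ kunpackAll j3OrbA1 ++ kunpackAll j3OrbA2 ++ kunpackAll j3OrbA3).length
      = 23256 := by decide +kernel

end Cfsg.Agent.Lib.helper4
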