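import Mathlib
import Cfsg.Agent.Lib.helper4.J3Defs
import Cfsg.Agent.Lib.helper4.J3DataB
import Cfsg.Agent.Lib.helper4.J3SetB

set_option autoImplicit false

/-! Kernel checks for the isotropic lines under the triple cover of the third Janko group: all
listed lines are reached from the first one. -/

namespace Cfsg.Agent.Lib.helper4

set_option maxRecDepth 10000000 in
theorem j3ReachB0_chk : kreachAll 4160 (kunpackAll j3OrbB0) = some j3SetB0 := by decide +kernel

set_option maxRecDepth 10000000 in
theorem j3ReachB1_chk : kreach (kunpackAll j3OrbB1) j3SetB0 = some j3SetB1 := by decide +kernel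

set_option maxRecDepth 10000000 in
theorem j3ReachB2_chk : kreach (kunpackAll j3OrbB2) j3SetB1 = some j3SetB2 := by decide +kernel

set_option maxRecDepth 10000000 in
theorem j3ReachB3_chk : kreach (kunpackAll j3OrbB3) j3SetB2 = some j3SetB3 := by decide +kernel

end Cfsg.Agent.Lib.helper4
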