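import Mathlib
import Cfsg.Agent.Lib.helper4.J3Defs
import Cfsg.Agent.Lib.helper4.J3DataA
import Cfsg.Agent.Lib.helper4.J3SetA

set_option autoImplicit false

/-! Kernel checks for the orbit of the first coordinate line under the triple cover of the third
Janko group: the set of lines is closed under the seven generators. -/

namespace Cfsg.Agent.Lib.helper4

set_option maxRecDepth 10000000 in
theorem j3ClosedA0_chk : kclosed j3SetA3 (kunpackAll j3OrbA0) = true := by decide +kernel

set_option maxRecDepth 10000000 in
theorem j3ClosedA1_chk : kclosed j3SetA3 (kunpackAll j3OrbA1) = true := by decide +kernel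

set_option maxRecDepth 10000000 in
theorem j3ClosedA2_chk : kclosed j3SetA3 (kunpackAll j3OrbA2) = true := by decide +kernel

set_option maxRecDepth 10000000 in
theorem j3ClosedA3_chk : kclosed j3SetA3 (kunpackAll j3OrbA3) = true := by decide +kernel

end Cfsg.Agent.Lib.helper4
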