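import Mathlib
import Cfsg.Agent.Lib.helper4.J3Defs
import Cfsg.Agent.Lib.helper4.J3SetB

set_option autoImplicit false

/-! Kernel checks for the isotropic lines under the triple cover of the third Janko group: every
vector with first nonzero entry one and sum of cubes zero is in the set. -/

namespace Cfsg.Agent.Lib.helper4

open Cfsg.Agent.Lib.Lead.F4

set_option maxRecDepth 10000000 in
theorem j3IsoZ_chk : kall1 (fun a1 => kall7 .z a1 (j3IsoF j3SetB3)) = true := by decide +kernel

set_option maxRecDepth 10000000 in
theorem j3IsoOZ_chk : kall7 .o .z (j3IsoF j3SetB3) = true := by decide +kernel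

set_option maxRecDepth 10000000 in
theorem j3IsoOO_chk : kall7 .o .o (j3IsoF j3SetB3) = true := by decide +kernel

set_option maxRecDepth 10000000 in
theorem j3IsoOW_chk : kall7 .o .w (j3IsoF j3SetB3) = true := by decide +kernel

set_option maxRecDepth 10000000 in
theorem j3IsoOV_chk : kall7 .o .v (j3IsoF j3SetB3) = true := by decide +kernel

end Cfsg.Agent.Lib.helper4
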