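import Mathlib
import Cfsg.Prelude.Def_Spor_J3
import Cfsg.Agent.Lib.helper4.J3Step

set_option autoImplicit false

/-! From the concrete field with four elements to any field with four elements: vectors,
matrices, and the generating matrices of the triple cover of the third Janko group. -/

namespace Cfsg.Agent.Lib.helper4

open Cfsg.Agent.Lib.Lead.F4 Cfsg.Spor Matrix
open scoped MatrixGroups

theorem kdecM_ext (M N : Matrix F9 F9 F4c) (h : ∀ v : KVec, M *ᵥ v.toFun = N *ᵥ v.toFun) :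
    M = N := by
  apply Matrix.mulVec_injective
  funext w
  rw [← KVec.toFun_ofFun w]
  exact h _

theorem kdecM_kmm (A B : KMat) : kdecM (kmm A B) = kdecM A * kdecM B := by
  apply kdecM_ext
  intro v
  rw [← kmv_toFun, kmv_kmm, kmv_toFun, kmv_toFun, Matrix.mulVec_mulVec]

theorem kdecM_kone : kdecM kone = 1 := by
  apply kdecM_ext
  intro v
  rw [← kmv_toFun, kmv_kone, Matrix.one_mulVec]

section maps
variable {F : Type} [Field F] (φ : F4c →+* F)

/-- the vector over `F` -/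
def kvF (v : KVec) : F9 → F := fun z => φ (v.toFun z)

/-- the matrix over `F` -/
def kmF (M : KMat) : Matrix F9 F9 F := (kdecM M).map φ

theorem kmF_mulVec (M : KMat) (v : KVec) : kmF φ M *ᵥ kvF φ v = kvF φ (kmv M v) := by
  funext z
  show ((kdecM M).map φ *ᵥ (φ ∘ v.toFun)) z = φ ((kmv M v).toFun z)
  rw [kmv_toFun, RingHom.map_mulVec]

theorem kvF_ksmul (c : F4c) (v : KVec) : kvF φ (ksmul c v) = φ c • kvF φ v := by
  funext z
  show φ ((ksmul c v).toFun z) = φ c * φ (v.toFun z)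
  rw [ksmul_toFun, Pi.smul_apply, smul_eq_mul, map_mul]

theorem kvF_injective : Function.Injective (kvF φ) := by
  intro a b h
  apply KVec.toFun_injective
  funext z
  exact φ.injective (congrFun h z)

theorem kvF_surjective (hφ : Function.Surjective φ) : Function.Surjective (kvF φ) := by
  intro f
  choose g hg using hφ
  refine ⟨KVec.ofFun (fun z => g (f z)), ?_⟩
  funext z
  show φ ((KVec.ofFun _).toFun z) = f z
  rw [KVec.toFun_ofFun, hg]

theorem kvF_kzero : kvF φ kzero = 0 := by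
  funext z
  show φ (kzero.toFun z) = 0
  rw [kzero_toFun, Pi.zero_apply, map_zero]

theorem kmF_kmm (A B : KMat) : kmF φ (kmm A B) = kmF φ A * kmF φ B := by
  unfold kmF
  rw [kdecM_kmm, Matrix.map_mul]

theorem kmF_kone : kmF φ kone = 1 := by
  unfold kmF
  rw [kdecM_kone, Matrix.map_one _ (map_zero φ) (map_one φ)]

/-- the invertible matrix over `F` of a matrix with a given inverse -/
def kunitF (A B : KMat) (h1 : kmm A B = kone) (h2 : kmm B A = kone) : GL F9 F :=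
  ⟨kmF φ A, kmF φ B, by rw [← kmF_kmm, h1, kmF_kone], by rw [← kmF_kmm, h2, kmF_kone]⟩

end maps

section gens
variable {F : Type} [Field F] (ω : F) (h2 : (2 : F) = 0) (hω : ω * ω = ω + 1)

theorem toFHom_w : toFHom ω h2 hω F4c.w = ω := rfl

theorem omegaPow_map (n : ZMod 3) : toFHom ω h2 hω (omegaPow F4c .w n) = omegaPow F ω n := by
  unfold omegaPow
  rw [map_pow, toFHom_w]

theorem j3A_map (Z : F9) : (j3A F4c .w Z).map (toFHom ω h2 hω) = j3A F ω Z := by
  unfold j3A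
  rw [Matrix.diagonal_map (map_zero _)]
  congr 1
  funext z
  exact omegaPow_map ω h2 hω _

theorem j3E_map (Z : F9) : (j3E F4c .w Z).map (toFHom ω h2 hω) = j3E F ω Z := by
  unfold j3E
  rw [Matrix.diagonal_map (map_zero _)]
  congr 1
  funext z
  exact omegaPow_map ω h2 hω _

theorem j3Lam_map (Z z : F9) : toFHom ω h2 hω (j3Lam F4c .w Z z) = j3Lam F ω Z z := by
  unfold j3Lam
  split_ifs
  · exact map_one _
  · exact toFHom_w ω h2 hω
  · rw [map_pow, toFHom_w]
  · exact map_one _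

theorem j3D_map (Z : F9) : (j3D F4c .w Z).map (toFHom ω h2 hω) = j3D F ω Z := by
  ext i j
  simp only [j3D, Matrix.map_apply, Matrix.of_apply]
  split_ifs
  · exact j3Lam_map ω h2 hω Z j
  · exact map_zero _

theorem j3B_map (Z : F9) : (j3B F4c Z).map (toFHom ω h2 hω) = j3B F Z := by
  ext i j
  simp only [j3B, Matrix.map_apply, Matrix.of_apply]
  split_ifs
  · exact map_one _
  · exact map_zero _

theorem j3C_map (Z : F9) : (j3C F4c Z).map (toFHom ω h2 hω) = j3C F Z := by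
  ext i j
  simp only [j3C, Matrix.map_apply, Matrix.of_apply]
  split_ifs <;> first | exact map_one _ | exact map_zero _

/-- every generating matrix is a product of the seven generators -/
theorem j3Gens_word (M : Matrix F9 F9 F) (hM : M ∈ j3Gens F ω) :
    ∃ w, M = kmF (toFHom ω h2 hω) (kword w) := by
  rcases hM with (((⟨Z, rfl⟩ | ⟨Z, rfl⟩) | ⟨Z, rfl⟩) | ⟨Z, hZ, rfl⟩) | ⟨Z, hZ, rfl⟩
  · exact ⟨_, by rw [← j3A_map ω h2 hω, j3A_word]; rfl⟩
  · exact ⟨_, by rw [← j3E_map ω h2 hω, j3E_word]; rfl⟩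
  · exact ⟨_, by rw [← j3D_map ω h2 hω, j3D_word]; rfl⟩
  · exact ⟨_, by rw [← j3B_map ω h2 hω, j3B_word Z hZ]; rfl⟩
  · exact ⟨_, by rw [← j3C_map ω h2 hω, j3C_word Z hZ]; rfl⟩

theorem j3Inv_chk : ∀ k, k < 7 →
    kmm (j3Gen7.getD k kone) (j3Moves.getD (k + 7) kone) = kone ∧
      kmm (j3Moves.getD (k + 7) kone) (j3Gen7.getD k kone) = kone := by
  decide +kernel

theorem j3Gen7_mat_chk :
    j3Gen7 = [j3MatAt j3MatA (1, 0), j3MatAt j3MatA (0, 1), j3MatAt j3MatE (0, 0),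
      j3MatAt j3MatD (1, 0), j3MatAt j3MatD (0, 1), j3MatAt j3MatB (1, 1),
      j3MatAt j3MatC (1, 0)] := by
  decide +kernel

theorem j3Gen7_gens (k : ℕ) (hk : k < 7) :
    kmF (toFHom ω h2 hω) (j3Gen7.getD k kone) ∈ j3Gens F ω := by
  rw [j3Gen7_mat_chk]
  unfold kmF
  have hB : ((1, 1) : F9) ≠ 0 := by decide
  have hC : ((1, 0) : F9) ≠ 0 := by decide
  interval_cases k
  · show (kdecM (j3MatAt j3MatA (1, 0))).map _ ∈ _
    rw [← j3_mat_aux _ _ j3A_mat_chk, j3A_map]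
    exact Or.inl (Or.inl (Or.inl (Or.inl ⟨_, rfl⟩)))
  · show (kdecM (j3MatAt j3MatA (0, 1))).map _ ∈ _
    rw [← j3_mat_aux _ _ j3A_mat_chk, j3A_map]
    exact Or.inl (Or.inl (Or.inl (Or.inl ⟨_, rfl⟩)))
  · show (kdecM (j3MatAt j3MatE (0, 0))).map _ ∈ _
    rw [← j3_mat_aux _ _ j3E_mat_chk, j3E_map]
    exact Or.inl (Or.inl (Or.inl (Or.inr ⟨_, rfl⟩)))
  · show (kdecM (j3MatAt j3MatD (1, 0))).map _ ∈ _
    rw [← j3_mat_aux _ _ j3D_mat_chk, j3D_map]
    exact Or.inl (Or.inl (Or.inr ⟨_, rfl⟩))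
  · show (kdecM (j3MatAt j3MatD (0, 1))).map _ ∈ _
    rw [← j3_mat_aux _ _ j3D_mat_chk, j3D_map]
    exact Or.inl (Or.inl (Or.inr ⟨_, rfl⟩))
  · show (kdecM (j3MatAt j3MatB (1, 1))).map _ ∈ _
    rw [← j3_mat_aux' _ _ j3B_mat_chk _ hB, j3B_map]
    exact Or.inl (Or.inr ⟨_, hB, rfl⟩)
  · show (kdecM (j3MatAt j3MatC (1, 0))).map _ ∈ _
    rw [← j3_mat_aux' _ _ j3C_mat_chk _ hC, j3C_map]
    exact Or.inr ⟨_, hC, rfl⟩

/-- the seven generators are in the group -/
theorem j3Gen7_mem (k : ℕ) (hk : k < 7) :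
    ∃ m ∈ threeJ3 F ω, (m : Matrix F9 F9 F) = kmF (toFHom ω h2 hω) (j3Gen7.getD k kone) :=
  ⟨kunitF (toFHom ω h2 hω) _ _ (j3Inv_chk k hk).1 (j3Inv_chk k hk).2,
    Subgroup.subset_closure (j3Gen7_gens ω h2 hω k hk), rfl⟩

end gens

end Cfsg.Agent.Lib.helper4
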