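import Mathlib
import Cfsg.Prelude.Def_Spor_J3
import Cfsg.Agent.Lib.helper4.J3Map
import Cfsg.Agent.Lib.helper4.J3ChkA
import Cfsg.Agent.Lib.helper4.J3ChkB
import Cfsg.Agent.Lib.helper4.J3ChkC
import Cfsg.Agent.Lib.helper4.J3ChkI

set_option autoImplicit false

/-! The two sets of lines for the triple cover of the third Janko group: what the kernel checks
give, with the relation to the group still abstract. -/

namespace Cfsg.Agent.Lib.helper4

open Cfsg.Agent.Lib.Lead.F4 Cfsg.Spor Matrix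

/-- the numbers of the lines of the orbit of the first coordinate line -/
def j3KeysA : List ℕ :=
  kkeys (kunpackAll j3OrbA0) ++ kkeys (kunpackAll j3OrbA1) ++ kkeys (kunpackAll j3OrbA2) ++
    kkeys (kunpackAll j3OrbA3)

/-- the numbers of the isotropic lines -/
def j3KeysB : List ℕ :=
  kkeys (kunpackAll j3OrbB0) ++ kkeys (kunpackAll j3OrbB1) ++ kkeys (kunpackAll j3OrbB2) ++
    kkeys (kunpackAll j3OrbB3)

theorem j3ReachedA (R : ℕ → Prop)
    (hstep : ∀ k p, p < 262144 → R p → kstepN (j3TabsF.getD k (0, 0)) p < 262144 →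
      kfirstN 9 (kstepN (j3TabsF.getD k (0, 0)) p) = 1 → R (kstepN (j3TabsF.getD k (0, 0)) p))
    (hbase : R 1) : KReached R j3SetA3 j3KeysA := by
  have h0 := kreachAll_sound R hstep 1 hbase _ _ j3ReachA0_chk
  have h1 := kreach_sound R hstep _ _ _ _ h0 j3ReachA1_chk
  have h2 := kreach_sound R hstep _ _ _ _ h1 j3ReachA2_chk
  exact kreach_sound R hstep _ _ _ _ h2 j3ReachA3_chk

theorem j3ReachedB (R : ℕ → Prop)
    (hstep : ∀ k p, p < 262144 → R p → kstepN (j3TabsF.getD k (0, 0)) p < 262144 →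
      kfirstN 9 (kstepN (j3TabsF.getD k (0, 0)) p) = 1 → R (kstepN (j3TabsF.getD k (0, 0)) p))
    (hbase : R 4160) : KReached R j3SetB3 j3KeysB := by
  have h0 := kreachAll_sound R hstep 4160 hbase _ _ j3ReachB0_chk
  have h1 := kreach_sound R hstep _ _ _ _ h0 j3ReachB1_chk
  have h2 := kreach_sound R hstep _ _ _ _ h1 j3ReachB2_chk
  exact kreach_sound R hstep _ _ _ _ h2 j3ReachB3_chk

theorem j3KeysA_length : j3KeysA.length = 23256 := by
  have := j3LenA_chk
  unfold j3KeysA kkeys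
  simp only [List.length_append, List.length_map] at this ⊢
  exact this

theorem j3KeysA_closed (x : ℕ) (hx : x ∈ j3KeysA) (T : ℕ × ℕ) (hT : T ∈ j3TabsF) :
    kmem j3SetA3 (kstepN T x) = true := by
  unfold j3KeysA at hx
  simp only [List.mem_append] at hx
  rcases hx with ((hx | hx) | hx) | hx
  · exact kclosed_sound _ _ j3ClosedA0_chk x hx T hT
  · exact kclosed_sound _ _ j3ClosedA1_chk x hx T hT
  · exact kclosed_sound _ _ j3ClosedA2_chk x hx T hT
  · exact kclosed_sound _ _ j3ClosedA3_chk x hx T hT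

/-- the set of lines is closed under all products of the seven generators -/
theorem j3KeysA_pres (w : List ℕ) : KPres j3KeysA (kword w) :=
  kpres_of_closed (fun _ => True) j3SetA3 j3KeysA
    (j3ReachedA _ (fun _ _ _ _ _ _ => trivial) trivial) j3KeysA_closed w

/-- every vector with first nonzero entry one and sum of cubes zero is listed -/
theorem j3Iso_all (v : KVec) (h1 : kfirst v = .o) (h2 : kiso v = .z) :
    kmem j3SetB3 (kkey v) = true := by
  have key : j3IsoF j3SetB3 v = true → kmem j3SetB3 (kkey v) = true := by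
    intro h
    unfold j3IsoF at h
    rw [h1, h2] at h
    exact h
  apply key
  obtain ⟨a0, a1, a2, a3, a4, a5, a6, a7, a8⟩ := v
  cases a0
  · exact kall7_spec _ _ _ (kall1_spec _ j3IsoZ_chk a1) a2 a3 a4 a5 a6 a7 a8
  · cases a1
    · exact kall7_spec _ _ _ j3IsoOZ_chk a2 a3 a4 a5 a6 a7 a8
    · exact kall7_spec _ _ _ j3IsoOO_chk a2 a3 a4 a5 a6 a7 a8
    · exact kall7_spec _ _ _ j3IsoOW_chk a2 a3 a4 a5 a6 a7 a8
    · exact kall7_spec _ _ _ j3IsoOV_chk a2 a3 a4 a5 a6 a7 a8
  · change F4c.w = F4c.o at h1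
    cases h1
  · change F4c.v = F4c.o at h1
    cases h1

theorem kcube_eq (a : F4c) : kcube a = a ^ 3 := by
  cases a <;> rfl

theorem kiso_eq (v : KVec) : kiso v = ∑ z, (v.toFun z) ^ 3 := by
  rw [sum_f9]
  unfold kiso
  simp only [kcube_eq]
  show _ = v.c0 ^ 3 + v.c1 ^ 3 + v.c2 ^ 3 + v.c3 ^ 3 + v.c4 ^ 3 + v.c5 ^ 3 + v.c6 ^ 3 + v.c7 ^ 3 +
    v.c8 ^ 3
  have e : ∀ a b : F4c, F4c.add a b = a + b := fun _ _ => rfl
  simp only [e]
  ring

end Cfsg.Agent.Lib.helper4
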