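import Mathlib
import Cfsg.Prelude.Def_Spor_J3
import Cfsg.Agent.Lib.helper4.J3Orb

set_option autoImplicit false

/-! The orbits of the triple cover of the third Janko group on the lines of its space of
dimension nine over a field with four elements. -/

namespace Cfsg.Agent.Lib.helper4

open Cfsg.Agent.Lib.Lead.F4 Cfsg.Spor Matrix
open scoped MatrixGroups

section
variable {F : Type} [Field F] (ω : F) (h2 : (2 : F) = 0) (hω : ω * ω = ω + 1)

/-- the vector over `F` of a number -/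
def kuF (x : ℕ) : F9 → F := kvF (toFHom ω h2 hω) (kvecOfKey x)

/-- the line of a number is the image under the group of the line of the base -/
def KReachF (base x : ℕ) : Prop :=
  ∃ g ∈ threeJ3 F ω, ∃ c : F, c ≠ 0 ∧
    (g : Matrix F9 F9 F) *ᵥ kuF ω h2 hω base = c • kuF ω h2 hω x

theorem kreachF_base (base : ℕ) : KReachF ω h2 hω base base :=
  ⟨1, one_mem _, 1, one_ne_zero, by rw [Units.val_one, Matrix.one_mulVec, one_smul]⟩

theorem kreachF_step (base : ℕ) : ∀ k p, p < 262144 → KReachF ω h2 hω base p →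
    kstepN (j3TabsF.getD k (0, 0)) p < 262144 →
    kfirstN 9 (kstepN (j3TabsF.getD k (0, 0)) p) = 1 →
    KReachF ω h2 hω base (kstepN (j3TabsF.getD k (0, 0)) p) := by
  rintro k p hp ⟨g, hg, c, hc, e⟩ - hy
  obtain ⟨hk, d, hd, e2⟩ := j3Step_spec k p hp hy
  obtain ⟨m, hm, em⟩ := j3Gen7_mem ω h2 hω k hk
  refine ⟨m * g, mul_mem hm hg, c * toFHom ω h2 hω d,
    mul_ne_zero hc ((map_ne_zero _).2 hd), ?_⟩
  rw [Units.val_mul, ← Matrix.mulVec_mulVec, e, Matrix.mulVec_smul, em]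
  unfold kuF
  rw [kmF_mulVec, e2, kvF_ksmul, smul_smul]

theorem kuF_ne_zero (x : ℕ) (hx : kfirstN 9 x = 1) (hx' : x < 262144) : kuF ω h2 hω x ≠ 0 := by
  intro h
  unfold kuF at h
  rw [← kvF_kzero (toFHom ω h2 hω)] at h
  have h' := kvF_injective _ h
  rw [← kkey_kvecOfKey x hx', h', kfirstN_kkey] at hx
  exact absurd hx (by decide)

/-- lines of different numbers are different -/
theorem kuF_line_inj (hs : Function.Surjective (toFHom ω h2 hω)) (x y : ℕ)
    (hx : kfirstN 9 x = 1) (hx' : x < 262144) (hy : kfirstN 9 y = 1) (hy' : y < 262144)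
    (h : F ∙ kuF ω h2 hω x = F ∙ kuF ω h2 hω y) : x = y := by
  have hm : kuF ω h2 hω x ∈ F ∙ kuF ω h2 hω y := by
    rw [← h]
    exact Submodule.mem_span_singleton_self _
  rw [Submodule.mem_span_singleton] at hm
  obtain ⟨c, hc⟩ := hm
  obtain ⟨d, rfl⟩ := hs c
  unfold kuF at hc
  rw [← kvF_ksmul] at hc
  have e := kvF_injective _ hc
  have hd : d ≠ 0 := by
    rintro rfl
    have : ksmul 0 (kvecOfKey y) = kzero := by
      apply KVec.toFun_injective
      rw [ksmul_toFun, zero_smul, kzero_toFun]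
    rw [this] at e
    rw [← kkey_kvecOfKey x hx', ← e, kfirstN_kkey] at hx
    exact absurd hx (by decide)
  have f1 : kfirst (kvecOfKey x) = 1 := by
    have := kfirstN_kkey (kvecOfKey x)
    rw [kkey_kvecOfKey x hx', hx] at this
    have h3 : ktoNat (kfirst (kvecOfKey x)) = ktoNat 1 := this.symm
    rw [← kofNat_ktoNat (kfirst (kvecOfKey x)), h3, kofNat_ktoNat]
  have f2 : kfirst (kvecOfKey y) = 1 := by
    have := kfirstN_kkey (kvecOfKey y)
    rw [kkey_kvecOfKey y hy', hy] at this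
    have h3 : ktoNat (kfirst (kvecOfKey y)) = ktoNat 1 := this.symm
    rw [← kofNat_ktoNat (kfirst (kvecOfKey y)), h3, kofNat_ktoNat]
  have f3 := kfirst_ksmul d (kvecOfKey y) hd
  rw [e, f1, f2, mul_one] at f3
  rw [← f3, ksmul_one] at e
  rw [← kkey_kvecOfKey x hx', ← kkey_kvecOfKey y hy', e]

theorem kuF_one : kuF ω h2 hω 1 = Pi.single (0 : F9) (1 : F) := by
  have e : kvecOfKey 1 = ⟨.o, .z, .z, .z, .z, .z, .z, .z, .z⟩ := by decide
  unfold kuF
  rw [e]
  funext z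
  revert z
  apply f9_cases
  · show toFHom ω h2 hω F4c.o = _
    rw [show ((0 : ZMod 3), (0 : ZMod 3)) = (0 : F9) from rfl, Pi.single_eq_same]
    exact map_one _
  all_goals
    show toFHom ω h2 hω F4c.z = _
    rw [Pi.single_eq_of_ne (by decide)]
    exact map_zero _

end

section
variable {F : Type} [Field F] [Fintype F] (ω : F) (h2 : (2 : F) = 0) (hω : ω * ω = ω + 1)

omit [Fintype F] in
/-- every element of the group maps the listed lines to listed lines -/
theorem j3PresF_aux (g : GL F9 F)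
    (hg : g ∈ Submonoid.closure {g : GL F9 F | (g : Matrix F9 F9 F) ∈ j3Gens F ω}) :
    ∀ x ∈ j3KeysA, ∃ y ∈ j3KeysA, ∃ c : F, c ≠ 0 ∧
      (g : Matrix F9 F9 F) *ᵥ kuF ω h2 hω x = c • kuF ω h2 hω y := by
  induction hg using Submonoid.closure_induction with
  | mem g hg =>
    obtain ⟨w, hw⟩ := j3Gens_word ω h2 hω _ hg
    intro x hx
    obtain ⟨y, hy, c, hc, e⟩ := j3KeysA_pres w x hx
    refine ⟨y, hy, toFHom ω h2 hω c, (map_ne_zero _).2 hc, ?_⟩
    unfold kuF
    rw [hw, kmF_mulVec, e, kvF_ksmul]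
  | one =>
    intro x hx
    exact ⟨x, hx, 1, one_ne_zero, by rw [Units.val_one, Matrix.one_mulVec, one_smul]⟩
  | mul a b _ _ ha hb =>
    intro x hx
    obtain ⟨y, hy, c, hc, e1⟩ := hb x hx
    obtain ⟨z, hz, d, hd, e2⟩ := ha y hy
    refine ⟨z, hz, c * d, mul_ne_zero hc hd, ?_⟩
    rw [Units.val_mul, ← Matrix.mulVec_mulVec, e1, Matrix.mulVec_smul, e2, smul_smul]

theorem j3PresF (g : GL F9 F) (hg : g ∈ threeJ3 F ω) :
    ∀ x ∈ j3KeysA, ∃ y ∈ j3KeysA, ∃ c : F, c ≠ 0 ∧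
      (g : Matrix F9 F9 F) *ᵥ kuF ω h2 hω x = c • kuF ω h2 hω y := by
  classical
  have hg' : g ∈ (threeJ3 F ω).toSubmonoid := hg
  unfold threeJ3 at hg'
  rw [Subgroup.closure_toSubmonoid_of_finite] at hg'
  exact j3PresF_aux ω h2 hω g hg'

theorem toFHom_surjective (hF : Fintype.card F = 4) :
    Function.Surjective (toFHom ω h2 hω) := by
  have hc : Fintype.card F4c = Fintype.card F := by rw [hF]; rfl
  exact ((Fintype.bijective_iff_injective_and_card _).2 ⟨(toFHom ω h2 hω).injective, hc⟩).2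

/-- the first part: the number of images of the first coordinate line -/
theorem j3_lines_card (h2 : (2 : F) = 0) (hω : ω * ω = ω + 1) (hF : Fintype.card F = 4) :
    {L : Submodule F (F9 → F) | ∃ g ∈ threeJ3 F ω,
      L = F ∙ ((g : Matrix F9 F9 F) *ᵥ (Pi.single (0 : F9) (1 : F) : F9 → F))}.ncard = 23256 := by
  classical
  have hs := toFHom_surjective ω h2 hω hF
  have hR := j3ReachedA (KReachF ω h2 hω 1) (kreachF_step ω h2 hω 1) (kreachF_base ω h2 hω 1)
  have h1 : (1 : ℕ) ∈ j3KeysA := (hR.mem 1).1 (by decide +kernel)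
  have hset : {L : Submodule F (F9 → F) | ∃ g ∈ threeJ3 F ω,
      L = F ∙ ((g : Matrix F9 F9 F) *ᵥ (Pi.single (0 : F9) (1 : F) : F9 → F))} =
      ↑(j3KeysA.toFinset.image fun x => F ∙ kuF ω h2 hω x) := by
    ext L
    simp only [Set.mem_ofPred_eq, Finset.coe_image, Set.mem_image, Finset.mem_coe,
      List.mem_toFinset]
    constructor
    · rintro ⟨g, hg, rfl⟩
      obtain ⟨y, hy, c, hc, e⟩ := j3PresF ω h2 hω g hg 1 h1
      refine ⟨y, hy, ?_⟩
      rw [← kuF_one ω h2 hω, e, Submodule.span_singleton_smul_eq (IsUnit.mk0 c hc)]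
    · rintro ⟨y, hy, rfl⟩
      obtain ⟨-, -, g, hg, c, hc, e⟩ := hR.good y hy
      refine ⟨g, hg, ?_⟩
      rw [← kuF_one ω h2 hω, e, Submodule.span_singleton_smul_eq (IsUnit.mk0 c hc)]
  rw [hset, Set.ncard_coe_finset, Finset.card_image_of_injOn,
    List.toFinset_card_of_nodup hR.nodup, j3KeysA_length]
  intro x hx y hy hxy
  rw [Finset.mem_coe, List.mem_toFinset] at hx hy
  obtain ⟨hx1, hx2, -⟩ := hR.good x hx
  obtain ⟨hy1, hy2, -⟩ := hR.good y hy
  exact kuF_line_inj ω h2 hω hs x y hx2 hx1 hy2 hy1 hxy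

/-- every nonzero vector with sum of cubes zero is a multiple of a listed one -/
theorem j3_iso_listed (hF : Fintype.card F = 4) (v : F9 → F) (hv : v ≠ 0)
    (hiso : ∑ z, (v z) ^ 3 = 0) :
    ∃ x ∈ j3KeysB, ∃ c : F, c ≠ 0 ∧ v = c • kuF ω h2 hω x := by
  have hs := toFHom_surjective ω h2 hω hF
  have hR := j3ReachedB (KReachF ω h2 hω 4160) (kreachF_step ω h2 hω 4160)
    (kreachF_base ω h2 hω 4160)
  obtain ⟨t, rfl⟩ := kvF_surjective _ hs v
  have ht : kfirst t ≠ 0 := by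
    intro h
    rw [kfirst_eq_zero] at h
    rw [h, kvF_kzero] at hv
    exact hv rfl
  have hn : knorm t = ksmul (kfirst t)⁻¹ t := by rw [knorm_eq, if_neg ht]
  have hn1 : kfirst (knorm t) = .o := by
    rw [hn, kfirst_ksmul _ _ (inv_ne_zero ht), inv_mul_cancel₀ ht]
    rfl
  have ht' : t = ksmul (kfirst t) (knorm t) := by
    rw [hn, ksmul_ksmul, mul_inv_cancel₀ ht, ksmul_one]
  have hc0 : toFHom ω h2 hω (kfirst t) ≠ 0 := (map_ne_zero _).2 ht
  have hn2 : kiso (knorm t) = .z := by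
    apply (toFHom ω h2 hω).injective
    rw [kiso_eq, map_sum]
    show _ = toFHom ω h2 hω 0
    rw [map_zero]
    have e : ∀ z, kvF (toFHom ω h2 hω) t z =
        toFHom ω h2 hω (kfirst t) * toFHom ω h2 hω ((knorm t).toFun z) := by
      intro z
      conv_lhs => rw [ht', kvF_ksmul]
      rfl
    simp only [e, mul_pow, ← Finset.mul_sum] at hiso
    rcases mul_eq_zero.1 hiso with h | h
    · exact absurd (pow_eq_zero_iff (by norm_num) |>.1 h) hc0
    · simpa only [map_pow] using h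
  have hmem := (hR.mem _).1 (j3Iso_all _ hn1 hn2)
  refine ⟨kkey (knorm t), hmem, toFHom ω h2 hω (kfirst t), hc0, ?_⟩
  unfold kuF
  rw [kvecOfKey_kkey, ← kvF_ksmul, ← ht']

/-- the second part: one orbit on the isotropic lines -/
theorem j3_iso_trans (h2 : (2 : F) = 0) (hω : ω * ω = ω + 1) (hF : Fintype.card F = 4)
    (v w : F9 → F) (hv : v ≠ 0) (hw : w ≠ 0)
    (hv3 : ∑ z, (v z) ^ 3 = 0) (hw3 : ∑ z, (w z) ^ 3 = 0) :
    ∃ g ∈ threeJ3 F ω, ∃ c : F, c ≠ 0 ∧ (g : Matrix F9 F9 F) *ᵥ v = c • w := by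
  have hR := j3ReachedB (KReachF ω h2 hω 4160) (kreachF_step ω h2 hω 4160)
    (kreachF_base ω h2 hω 4160)
  obtain ⟨x, hx, a, ha, rfl⟩ := j3_iso_listed ω h2 hω hF v hv hv3
  obtain ⟨y, hy, b, hb, rfl⟩ := j3_iso_listed ω h2 hω hF w hw hw3
  obtain ⟨-, -, g1, hg1, c1, hc1, e1⟩ := hR.good x hx
  obtain ⟨-, -, g2, hg2, c2, hc2, e2⟩ := hR.good y hy
  refine ⟨g2 * g1⁻¹, mul_mem hg2 (inv_mem hg1), a * c1⁻¹ * c2 * b⁻¹,
    mul_ne_zero (mul_ne_zero (mul_ne_zero ha (inv_ne_zero hc1)) hc2) (inv_ne_zero hb), ?_⟩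
  have e3 : ((g1⁻¹ : GL F9 F) : Matrix F9 F9 F) *ᵥ kuF ω h2 hω x =
      c1⁻¹ • kuF ω h2 hω 4160 := by
    have : kuF ω h2 hω x = c1⁻¹ • ((g1 : Matrix F9 F9 F) *ᵥ kuF ω h2 hω 4160) := by
      rw [e1, smul_smul, inv_mul_cancel₀ hc1, one_smul]
    rw [this, Matrix.mulVec_smul, Matrix.mulVec_mulVec, ← Units.val_mul, inv_mul_cancel,
      Units.val_one, Matrix.one_mulVec]
  rw [Units.val_mul, ← Matrix.mulVec_mulVec, Matrix.mulVec_smul, e3, Matrix.mulVec_smul,
    Matrix.mulVec_smul, e2, smul_smul, smul_smul, smul_smul]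
  congr 1
  field_simp

end

end Cfsg.Agent.Lib.helper4
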