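import Mathlib
import Cfsg.Prelude.Def_Spor_J3
import Cfsg.Agent.Lib.helper4.J3Main
import Cfsg.Agent.Lib.helper4.J3Code

set_option autoImplicit false

/-! Sixteen letters for the triple cover of the third Janko group: the seven generators, the
scalar `ω`, and their inverses; their tables; the matrices over a field with four elements of
codes, and the invertible matrices of words. -/

namespace Cfsg.Agent.Lib.helper4

open Cfsg.Agent.Lib.Lead.F4 Cfsg.Spor Matrix
open scoped MatrixGroups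

/-- the matrices of the sixteen letters -/
def j3Mat16 : List KMat := j3Gen7 ++ [kscal .w] ++ j3Moves.drop 7 ++ [kscal .v]

/-- the tables of the sixteen letters -/
def j3Tab16 : List (ℕ × ℕ) := j3TabsF ++ [j3Tw] ++ j3TabsB ++ [j3Tv]

theorem j3Mat16_length : j3Mat16.length = 16 := by decide +kernel

set_option maxRecDepth 10000000 in
theorem j3Tab16_chk : ktabChkL j3Mat16 j3Tab16 = true := by decide +kernel

theorem j3Inv16_chk : ∀ k, k < 8 →
    kmm (j3Mat16.getD k kone) (j3Mat16.getD (k + 8) kone) = kone ∧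
      kmm (j3Mat16.getD (k + 8) kone) (j3Mat16.getD k kone) = kone := by
  decide +kernel

theorem j3Tab16_getD (l : ℕ) (hl : l < 16) :
    ktabChk (j3Mat16.getD l kone) (j3Tab16.getD l (0, 0)) = true :=
  ktabChkL_getD j3Mat16 _ j3Tab16_chk l (by rw [j3Mat16_length]; exact hl)

section
variable {F : Type} [Field F] (ω : F) (h2 : (2 : F) = 0) (hω : ω * ω = ω + 1)

/-- the matrix over `F` of a code -/
def cmF (C : ℕ) : Matrix F9 F9 F := (cdec C).map (toFHom ω h2 hω)

theorem cmF_cmul (A B : ℕ) : cmF ω h2 hω (cmul A B) = cmF ω h2 hω A * cmF ω h2 hω B := by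
  unfold cmF
  rw [cdec_cmul, Matrix.map_mul]

theorem cmF_cid : cmF ω h2 hω cid = 1 := by
  unfold cmF
  rw [cdec_cid, Matrix.map_one _ (map_zero _) (map_one _)]

theorem cmF_cmulT (M : KMat) (T : ℕ × ℕ) (h : ktabChk M T = true) (C : ℕ) :
    cmF ω h2 hω (cmulT T C) = kmF (toFHom ω h2 hω) M * cmF ω h2 hω C := by
  unfold cmF kmF
  rw [cdec_cmulT M T h, Matrix.map_mul]

theorem cmF_capp (C x : ℕ) : cmF ω h2 hω C *ᵥ kuF ω h2 hω x = kuF ω h2 hω (capp C x) := by
  funext z
  show ((cdec C).map (toFHom ω h2 hω) *ᵥ (toFHom ω h2 hω ∘ (kvecOfKey x).toFun)) z =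
    toFHom ω h2 hω ((kvecOfKey (capp C x)).toFun z)
  rw [← cdec_mulVec, RingHom.map_mulVec]

theorem cmF_congr (A B : ℕ) (h : ∀ j, j < 9 → ccol A j = ccol B j) :
    cmF ω h2 hω A = cmF ω h2 hω B := by
  unfold cmF
  rw [cdec_congr A B h]

/-- the first eight letters as invertible matrices -/
noncomputable def j3G (k : ℕ) : GL F9 F :=
  if h : k < 8 then kunitF (toFHom ω h2 hω) _ _ (j3Inv16_chk k h).1 (j3Inv16_chk k h).2 else 1

/-- the sixteen letters as invertible matrices -/
noncomputable def j3L (l : ℕ) : GL F9 F := if l < 8 then j3G ω h2 hω l else (j3G ω h2 hω (l - 8))⁻¹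

theorem j3G_val (k : ℕ) (hk : k < 8) :
    (j3G ω h2 hω k : Matrix F9 F9 F) = kmF (toFHom ω h2 hω) (j3Mat16.getD k kone) := by
  unfold j3G
  rw [dif_pos hk]
  rfl

theorem j3G_inv_val (k : ℕ) (hk : k < 8) :
    ((j3G ω h2 hω k)⁻¹ : GL F9 F).1 = kmF (toFHom ω h2 hω) (j3Mat16.getD (k + 8) kone) := by
  unfold j3G
  rw [dif_pos hk]
  rfl

theorem j3L_val (l : ℕ) (hl : l < 16) :
    (j3L ω h2 hω l : Matrix F9 F9 F) = kmF (toFHom ω h2 hω) (j3Mat16.getD l kone) := by
  unfold j3L
  by_cases h : l < 8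
  · rw [if_pos h, j3G_val ω h2 hω l h]
  · rw [if_neg h, j3G_inv_val ω h2 hω (l - 8) (by omega)]
    congr 2
    omega

theorem j3L_inv (k : ℕ) (hk : k < 8) : j3L ω h2 hω (k + 8) = (j3L ω h2 hω k)⁻¹ := by
  unfold j3L
  rw [if_pos hk, if_neg (by omega)]
  congr 2

/-- a code and an invertible matrix with the same matrix -/
def CRep (C : ℕ) (g : GL F9 F) : Prop := (g : Matrix F9 F9 F) = cmF ω h2 hω C

theorem crep_one : CRep ω h2 hω cid 1 := by
  unfold CRep
  rw [cmF_cid]
  rfl

theorem crep_cmul (A B : ℕ) (a b : GL F9 F) (ha : CRep ω h2 hω A a) (hb : CRep ω h2 hω B b) :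
    CRep ω h2 hω (cmul A B) (a * b) := by
  unfold CRep at *
  rw [cmF_cmul, Units.val_mul, ha, hb]

theorem crep_cmulT (l : ℕ) (hl : l < 16) (C : ℕ) (g : GL F9 F) (hg : CRep ω h2 hω C g) :
    CRep ω h2 hω (cmulT (j3Tab16.getD l (0, 0)) C) (j3L ω h2 hω l * g) := by
  unfold CRep at *
  rw [cmF_cmulT ω h2 hω _ _ (j3Tab16_getD l hl), Units.val_mul, hg, j3L_val ω h2 hω l hl]

theorem crep_eq (C : ℕ) (a b : GL F9 F) (ha : CRep ω h2 hω C a) (hb : CRep ω h2 hω C b) :
    a = b := by
  apply Units.ext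
  rw [ha, hb]

theorem crep_mulVec (C : ℕ) (g : GL F9 F) (hg : CRep ω h2 hω C g) (x : ℕ) :
    (g : Matrix F9 F9 F) *ᵥ kuF ω h2 hω x = kuF ω h2 hω (capp C x) := by
  rw [hg, cmF_capp]

/-- the code of a word -/
def cword : List ℕ → ℕ
  | [] => cid
  | l :: w => cmulT (j3Tab16.getD l (0, 0)) (cword w)

/-- the invertible matrix of a word -/
noncomputable def gword : List ℕ → GL F9 F
  | [] => 1
  | l :: w => j3L ω h2 hω l * gword w

theorem crep_word (w : List ℕ) (h : ∀ l ∈ w, l < 16) :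
    CRep ω h2 hω (cword w) (gword ω h2 hω w) := by
  induction w with
  | nil => exact crep_one ω h2 hω
  | cons l w ih =>
    exact crep_cmulT ω h2 hω l (h l (by simp)) _ _ (ih fun k hk => h k (by simp [hk]))

theorem gword_append (a b : List ℕ) :
    gword ω h2 hω (a ++ b) = gword ω h2 hω a * gword ω h2 hω b := by
  induction a with
  | nil => simp [gword]
  | cons l a ih => simp [gword, ih, mul_assoc]

theorem gword_mem (H : Subgroup (GL F9 F)) (hH : ∀ k, k < 8 → j3G ω h2 hω k ∈ H) (w : List ℕ) :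
    gword ω h2 hω w ∈ H := by
  induction w with
  | nil => exact H.one_mem
  | cons l w ih =>
    refine H.mul_mem ?_ ih
    unfold j3L
    by_cases h : l < 8
    · rw [if_pos h]
      exact hH l h
    · rw [if_neg h]
      apply H.inv_mem
      by_cases h' : l - 8 < 8
      · exact hH _ h'
      · unfold j3G
        rw [dif_neg h']
        exact H.one_mem

end

end Cfsg.Agent.Lib.helper4
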