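import Mathlib
import Cfsg.Agent.Lib.helper4.J3Let
import Cfsg.Agent.Lib.helper4.J3LowData

set_option autoImplicit false

/-! The subgroup of order 6480 of the triple cover of the third Janko group, generated by the
scalar `ω` and the generators `A₁`, `A_i`, `E₀`, `B_{1+i}`, `C₁`: it acts regularly on the orbit of
a vector, and its elements are listed by their codes. Definitions for the kernel checks. -/

namespace Cfsg.Agent.Lib.helper4

/-- the number of the vector with a regular orbit -/
def j3V : ℕ := 22531

/-- the letters of the generators of the subgroup -/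
def j3K2 : List ℕ := [7, 0, 1, 2, 5, 6]

/-- entry `i` of sixteen tables, by `i % 16` and `i / 16` -/
def ktab16 (Ts : List ℕ) (bits mask i : ℕ) : ℕ :=
  Nat.land (Nat.shiftRight (Ts.getD (Nat.mod i 16) 0) (Nat.mul bits (Nat.div i 16))) mask

/-- the position, plus one, of a number in the orbit (zero when it is not there) -/
def idxLook (y : ℕ) : ℕ := ktab16 j3IDX 13 8191 y

/-- the code of the element of a position -/
def uLook (i : ℕ) : ℕ := ktab16 j3UT 162 5846006549323611672814739330865132078623730171903 i

/-- the entry of the table of earlier elements -/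
def parLook (i : ℕ) : ℕ := Nat.land (Nat.shiftRight j3PAR (Nat.mul 17 i)) 131071

/-- the test that a code is listed -/
def sift2 (r : ℕ) : Bool :=
  kforceNat (capp r j3V) fun y => kforceNat (idxLook y) fun i1 =>
    match Nat.beq i1 0 || Nat.blt 6480 i1 with
    | true => false
    | false => Nat.beq (uLook (Nat.pred i1)) r

/-- the product of a letter and a code -/
def cletter (l C : ℕ) : ℕ := kforceNat C fun C' => cmulT (j3Tab16.getD l (0, 0)) C'

/-- the checks on the element of position `i` -/
def l2Chk (i : ℕ) : Bool :=
  kforceNat (uLook i) fun u =>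
    Nat.beq (idxLook (capp u j3V)) (Nat.succ i) &&
    ((match i with
      | 0 => Nat.beq u cid
      | _ => kforceNat (parLook i) fun e =>
        Nat.blt (Nat.div e 16) i && ((j3K2.any fun l => Nat.beq l (Nat.mod e 16)) &&
          Nat.beq (cletter (Nat.mod e 16) (uLook (Nat.div e 16))) u)) &&
    j3K2.all fun l => kforceNat (cletter l u) fun r => sift2 r)

/-- a test on `n` numbers from `i` on -/
def krangeAll (f : ℕ → Bool) : ℕ → ℕ → Bool
  | 0, _ => true
  | n + 1, i => f i && kforceNat (Nat.succ i) fun i' => krangeAll f n i'

theorem krangeAll_spec (f : ℕ → Bool) : ∀ n i, krangeAll f n i = true →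
    ∀ j, i ≤ j → j < i + n → f j = true := by
  intro n
  induction n with
  | zero => intro i _ j h1 h2; omega
  | succ n ih =>
    intro i h j h1 h2
    rw [krangeAll, kforceNat_eq, Bool.and_eq_true] at h
    rcases Nat.eq_or_lt_of_le h1 with rfl | h3
    · exact h.1
    · exact ih _ h.2 j h3 (by omega)

end Cfsg.Agent.Lib.helper4
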