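import Mathlib
import Cfsg.Agent.Lib.helper4.J3Low
import Cfsg.Agent.Lib.helper4.J3TopData

set_option autoImplicit false

/-! The check for the first step of the chain of stabilisers of the triple cover of the third
Janko group: for each line of the orbit of the first coordinate line an element bringing the
first coordinate line to it, as a product of generators read from a table; for the generators
`D₁`, `B_{1+i}`, `C₁` the resulting elements fixing the first coordinate line are in the list of
the subgroup of order 6480. Definitions for the kernel checks. -/

namespace Cfsg.Agent.Lib.helper4

/-- the entry of the table for a line -/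
def jletAux : List ℕ → ℕ → ℕ
  | [], _ => 0
  | T :: Ts, x =>
    match Nat.mod x 4 with
    | 0 => kforceNat (Nat.div x 4) fun x' => jletAux Ts x'
    | 1 => Nat.land (Nat.shiftRight T (Nat.mul 4 (Nat.div x 4))) 15
    | _ => 0

/-- the entry of the table for a line -/
def jlet (x : ℕ) : ℕ := jletAux j3LT x

/-- the code of the element for a line, with a bound on the number of steps -/
def cU : ℕ → ℕ → ℕ
  | 0, _ => cid
  | f + 1, x =>
    match Nat.beq x 1 with
    | true => cid
    | false => kforceNat (jlet x) fun e =>
      match Nat.beq e 0 || Nat.ble 8 e with
      | true => cid
      | false => kforceNat (Nat.pred e) fun k =>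
        cletter k (cU f (kstepN (j3Tab16.getD (Nat.add k 8) (0, 0)) x))

/-- the code of the product of the inverse of the element for a line and a given code -/
def cup : ℕ → ℕ → ℕ → Option ℕ
  | 0, _, _ => none
  | f + 1, x, g =>
    match Nat.beq x 1 with
    | true => some g
    | false => kforceNat (jlet x) fun e =>
      match Nat.beq e 0 || Nat.ble 8 e with
      | true => none
      | false => kforceNat (Nat.add (Nat.pred e) 8) fun l =>
        kforceNat (cletter l g) fun g' =>
          kforceNat (kstepN (j3Tab16.getD l (0, 0)) x) fun x' => cup f x' g'

/-- the letters of the three generators -/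
def j3K1 : List ℕ := [3, 5, 6]

/-- the check for a line -/
def nodeChk (x : ℕ) : Bool :=
  kforceNat (cU 12 x) fun U =>
    Nat.beq (knormN j3Tw j3Tv (ccol U 0)) x &&
    j3K1.all fun s => kforceNat (cletter s U) fun g =>
      kforceNat (knormN j3Tw j3Tv (ccol g 0)) fun y =>
        kmem j3SetA3 y && (match cup 12 y g with
          | none => false
          | some r => sift2 r)

/-- the check for all lines in a list of packed entries -/
def j3NodeAll (P : List ℕ) : Bool :=
  (kunpackAll P).all fun e => kforceNat (Nat.div e 16) fun x => nodeChk x

end Cfsg.Agent.Lib.helper4
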