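import Mathlib
import Cfsg.Agent.Lib.helper4.J3Top

set_option autoImplicit false

/-! Kernel check for the first step of the chain of stabilisers of the triple cover of the third
Janko group: part 10 of list 2. -/

namespace Cfsg.Agent.Lib.helper4

set_option maxRecDepth 10000000 in
theorem j3TopChk2x10 : j3NodeAll ((j3OrbA2.drop 70).take 7) = true := by
  decide +kernel

end Cfsg.Agent.Lib.helper4
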