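import Mathlib
import Cfsg.Agent.Lib.helper4.J3TopChk0x0
import Cfsg.Agent.Lib.helper4.J3TopChk0x1
import Cfsg.Agent.Lib.helper4.J3TopChk0x2
import Cfsg.Agent.Lib.helper4.J3TopChk0x3
import Cfsg.Agent.Lib.helper4.J3TopChk0x4
import Cfsg.Agent.Lib.helper4.J3TopChk0x5
import Cfsg.Agent.Lib.helper4.J3TopChk0x6
import Cfsg.Agent.Lib.helper4.J3TopChk0x7
import Cfsg.Agent.Lib.helper4.J3TopChk0x8
import Cfsg.Agent.Lib.helper4.J3TopChk0x9
import Cfsg.Agent.Lib.helper4.J3TopChk0x10
import Cfsg.Agent.Lib.helper4.J3TopChk0x11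
import Cfsg.Agent.Lib.helper4.J3TopChk0x12
import Cfsg.Agent.Lib.helper4.J3TopChk1x0
import Cfsg.Agent.Lib.helper4.J3TopChk1x1
import Cfsg.Agent.Lib.helper4.J3TopChk1x2
import Cfsg.Agent.Lib.helper4.J3TopChk1x3
import Cfsg.Agent.Lib.helper4.J3TopChk1x4
import Cfsg.Agent.Lib.helper4.J3TopChk1x5
import Cfsg.Agent.Lib.helper4.J3TopChk1x6
import Cfsg.Agent.Lib.helper4.J3TopChk1x7
import Cfsg.Agent.Lib.helper4.J3TopChk1x8
import Cfsg.Agent.Lib.helper4.J3TopChk1x9
import Cfsg.Agent.Lib.helper4.J3TopChk1x10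
import Cfsg.Agent.Lib.helper4.J3TopChk1x11
import Cfsg.Agent.Lib.helper4.J3TopChk1x12
import Cfsg.Agent.Lib.helper4.J3TopChk2x0
import Cfsg.Agent.Lib.helper4.J3TopChk2x1
import Cfsg.Agent.Lib.helper4.J3TopChk2x2
import Cfsg.Agent.Lib.helper4.J3TopChk2x3
import Cfsg.Agent.Lib.helper4.J3TopChk2x4
import Cfsg.Agent.Lib.helper4.J3TopChk2x5
import Cfsg.Agent.Lib.helper4.J3TopChk2x6
import Cfsg.Agent.Lib.helper4.J3TopChk2x7
import Cfsg.Agent.Lib.helper4.J3TopChk2x8
import Cfsg.Agent.Lib.helper4.J3TopChk2x9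
import Cfsg.Agent.Lib.helper4.J3TopChk2x10
import Cfsg.Agent.Lib.helper4.J3TopChk2x11
import Cfsg.Agent.Lib.helper4.J3TopChk2x12
import Cfsg.Agent.Lib.helper4.J3TopChk3x0
import Cfsg.Agent.Lib.helper4.J3TopChk3x1
import Cfsg.Agent.Lib.helper4.J3TopChk3x2
import Cfsg.Agent.Lib.helper4.J3TopChk3x3
import Cfsg.Agent.Lib.helper4.J3TopChk3x4
import Cfsg.Agent.Lib.helper4.J3TopChk3x5
import Cfsg.Agent.Lib.helper4.J3TopChk3x6
import Cfsg.Agent.Lib.helper4.J3TopChk3x7
import Cfsg.Agent.Lib.helper4.J3TopChk3x8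
import Cfsg.Agent.Lib.helper4.J3TopChk3x9
import Cfsg.Agent.Lib.helper4.J3TopChk3x10
import Cfsg.Agent.Lib.helper4.J3TopChk3x11
import Cfsg.Agent.Lib.helper4.J3TopChk3x12

set_option autoImplicit false

/-! The kernel checks for the first step of the chain of stabilisers of the triple cover of the
third Janko group, put together: the check holds for every line of the orbit. -/

namespace Cfsg.Agent.Lib.helper4

theorem mem_kunpackAll (e : ℕ) : ∀ P : List ℕ, e ∈ kunpackAll P ↔ ∃ p ∈ P, e ∈ kunpack 64 p := by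
  intro P
  induction P with
  | nil => simp [kunpackAll]
  | cons p P ih =>
    rw [kunpackAll, List.mem_append, ih]
    simp

theorem mem_chunk {α : Type} (L : List α) (n : ℕ) (hn : 0 < n) (p : α) (hp : p ∈ L) :
    ∃ k, n * k < L.length ∧ p ∈ (L.drop (n * k)).take n := by
  obtain ⟨i, hi, rfl⟩ := List.getElem_of_mem hp
  have hdm := Nat.div_add_mod i n
  have hmod := Nat.mod_lt i hn
  refine ⟨i / n, by omega, ?_⟩
  rw [List.mem_iff_getElem]
  refine ⟨i % n, ?_, ?_⟩
  · rw [List.length_take, List.length_drop]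
    omega
  · rw [List.getElem_take, List.getElem_drop]
    congr 1

theorem j3NodeAll_spec (P : List ℕ) (h : j3NodeAll P = true) (p : ℕ) (hp : p ∈ P) (e : ℕ)
    (he : e ∈ kunpack 64 p) : nodeChk (e / 16) = true := by
  unfold j3NodeAll at h
  rw [List.all_eq_true] at h
  have := h e ((mem_kunpackAll e P).2 ⟨p, hp, he⟩)
  rw [kforceNat_eq] at this
  exact this

theorem nodeChk_list (L : List ℕ) (hlen : L.length = 91)
    (h : ∀ k, k < 13 → j3NodeAll ((L.drop (7 * k)).take 7) = true) :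
    ∀ x ∈ kkeys (kunpackAll L), nodeChk x = true := by
  intro x hx
  unfold kkeys at hx
  rw [List.mem_map] at hx
  obtain ⟨e, he, rfl⟩ := hx
  obtain ⟨p, hp, hep⟩ := (mem_kunpackAll e L).1 he
  obtain ⟨k, hk, hpk⟩ := mem_chunk L 7 (by norm_num) p hp
  exact j3NodeAll_spec _ (h k (by omega)) p hpk e hep

theorem j3OrbA_length : j3OrbA0.length = 91 ∧ j3OrbA1.length = 91 ∧ j3OrbA2.length = 91 ∧
    j3OrbA3.length = 91 := by
  decide +kernel

/-- the check holds for every line of the orbit -/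
theorem nodeChk_all : ∀ x ∈ j3KeysA, nodeChk x = true := by
  intro x hx
  unfold j3KeysA at hx
  simp only [List.mem_append] at hx
  rcases hx with ((hx | hx) | hx) | hx
  · refine nodeChk_list _ j3OrbA_length.1 ?_ x hx
    intro k hk
    interval_cases k
    · exact j3TopChk0x0
    · exact j3TopChk0x1
    · exact j3TopChk0x2
    · exact j3TopChk0x3
    · exact j3TopChk0x4
    · exact j3TopChk0x5
    · exact j3TopChk0x6
    · exact j3TopChk0x7
    · exact j3TopChk0x8
    · exact j3TopChk0x9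
    · exact j3TopChk0x10
    · exact j3TopChk0x11
    · exact j3TopChk0x12
  · refine nodeChk_list _ j3OrbA_length.2.1 ?_ x hx
    intro k hk
    interval_cases k
    · exact j3TopChk1x0
    · exact j3TopChk1x1
    · exact j3TopChk1x2
    · exact j3TopChk1x3
    · exact j3TopChk1x4
    · exact j3TopChk1x5
    · exact j3TopChk1x6
    · exact j3TopChk1x7
    · exact j3TopChk1x8
    · exact j3TopChk1x9
    · exact j3TopChk1x10
    · exact j3TopChk1x11
    · exact j3TopChk1x12
  · refine nodeChk_list _ j3OrbA_length.2.2.1 ?_ x hx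
    intro k hk
    interval_cases k
    · exact j3TopChk2x0
    · exact j3TopChk2x1
    · exact j3TopChk2x2
    · exact j3TopChk2x3
    · exact j3TopChk2x4
    · exact j3TopChk2x5
    · exact j3TopChk2x6
    · exact j3TopChk2x7
    · exact j3TopChk2x8
    · exact j3TopChk2x9
    · exact j3TopChk2x10
    · exact j3TopChk2x11
    · exact j3TopChk2x12
  · refine nodeChk_list _ j3OrbA_length.2.2.2 ?_ x hx
    intro k hk
    interval_cases k
    · exact j3TopChk3x0
    · exact j3TopChk3x1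
    · exact j3TopChk3x2
    · exact j3TopChk3x3
    · exact j3TopChk3x4
    · exact j3TopChk3x5
    · exact j3TopChk3x6
    · exact j3TopChk3x7
    · exact j3TopChk3x8
    · exact j3TopChk3x9
    · exact j3TopChk3x10
    · exact j3TopChk3x11
    · exact j3TopChk3x12

end Cfsg.Agent.Lib.helper4
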