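import Mathlib
import Cfsg.Agent.Lib.helper4.J3LowChk0
import Cfsg.Agent.Lib.helper4.J3LowChk1
import Cfsg.Agent.Lib.helper4.J3LowChk2
import Cfsg.Agent.Lib.helper4.J3LowChk3
import Cfsg.Agent.Lib.helper4.SchreierStep

set_option autoImplicit false

/-! The subgroup of order 6480 of the triple cover of the third Janko group: what the kernel
checks give. -/

namespace Cfsg.Agent.Lib.helper4

open Cfsg.Agent.Lib.Lead.F4 Cfsg.Spor Matrix
open scoped MatrixGroups

theorem sift2_sound (r : ℕ) (h : sift2 r = true) : ∃ i, i < 6480 ∧ uLook i = r := by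
  unfold sift2 at h
  rw [kforceNat_eq, kforceNat_eq] at h
  generalize idxLook (capp r j3V) = i1 at h
  cases hc : (Nat.beq i1 0 || Nat.blt 6480 i1)
  · rw [hc] at h
    rw [Bool.or_eq_false_iff] at hc
    have h0 : i1 ≠ 0 := by
      rintro rfl
      exact absurd hc.1 (by decide)
    have h1 : i1 ≤ 6480 := by
      by_contra hlt
      have : Nat.blt 6480 i1 = true := by
        show Nat.ble 6481 i1 = true
        exact Nat.ble_eq_true_of_le (by omega)
      rw [this] at hc
      exact absurd hc.2 (by decide)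
    refine ⟨Nat.pred i1, ?_, Nat.eq_of_beq_eq_true h⟩
    have : Nat.pred i1 = i1 - 1 := rfl
    omega
  · rw [hc] at h
    exact absurd h Bool.false_ne_true

theorem l2Chk_all (i : ℕ) (hi : i < 6480) : l2Chk i = true := by
  by_cases h0 : i < 1620
  · exact krangeAll_spec _ _ _ j3LowChk0 i (by omega) (by omega)
  by_cases h1 : i < 3240
  · exact krangeAll_spec _ _ _ j3LowChk1 i (by omega) (by omega)
  by_cases h3 : i < 4860
  · exact krangeAll_spec _ _ _ j3LowChk2 i (by omega) (by omega)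
  · exact krangeAll_spec _ _ _ j3LowChk3 i (by omega) (by omega)

theorem cletter_eq (l C : ℕ) : cletter l C = cmulT (j3Tab16.getD l (0, 0)) C := by
  unfold cletter
  rw [kforceNat_eq]

theorem l2Chk_idx (i : ℕ) (hi : i < 6480) : idxLook (capp (uLook i) j3V) = i + 1 := by
  have h := l2Chk_all i hi
  unfold l2Chk at h
  rw [kforceNat_eq, Bool.and_eq_true] at h
  exact Nat.eq_of_beq_eq_true h.1

theorem l2Chk_zero : uLook 0 = cid := by
  have h := l2Chk_all 0 (by norm_num)
  unfold l2Chk at h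
  rw [kforceNat_eq, Bool.and_eq_true, Bool.and_eq_true] at h
  exact Nat.eq_of_beq_eq_true h.2.1

theorem l2Chk_par (i : ℕ) (hi : i < 6480) (h0 : i ≠ 0) :
    ∃ p, p < i ∧ ∃ l ∈ j3K2, cletter l (uLook p) = uLook i := by
  have h := l2Chk_all i hi
  unfold l2Chk at h
  rw [kforceNat_eq, Bool.and_eq_true, Bool.and_eq_true] at h
  have h1 := h.2.1
  obtain ⟨j, rfl⟩ := Nat.exists_eq_succ_of_ne_zero h0
  simp only [kforceNat_eq, Bool.and_eq_true, List.any_eq_true] at h1
  obtain ⟨hp, ⟨l, hl, hle⟩, he⟩ := h1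
  refine ⟨parLook (j + 1) / 16, ?_, l, hl, ?_⟩
  · have := Nat.le_of_ble_eq_true hp
    exact this
  · rw [Nat.eq_of_beq_eq_true hle]
    exact Nat.eq_of_beq_eq_true he

theorem l2Chk_sift (i : ℕ) (hi : i < 6480) (l : ℕ) (hl : l ∈ j3K2) :
    sift2 (cletter l (uLook i)) = true := by
  have h := l2Chk_all i hi
  unfold l2Chk at h
  rw [kforceNat_eq, Bool.and_eq_true, Bool.and_eq_true, List.all_eq_true] at h
  have := h.2.2 l hl
  rw [kforceNat_eq] at this
  exact this

theorem j3K2_lt (l : ℕ) (hl : l ∈ j3K2) : l < 8 := by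
  revert l
  decide

section
variable {F : Type} [Field F] (ω : F) (h2 : (2 : F) = 0) (hω : ω * ω = ω + 1)

/-- the subgroup of order 6480 -/
def j3LowGrp : Subgroup (GL F9 F) :=
  Subgroup.closure {g | ∃ l ∈ j3K2, g = j3G ω h2 hω l}

theorem j3L_of_lt (l : ℕ) (hl : l < 8) : j3L ω h2 hω l = j3G ω h2 hω l := by
  unfold j3L
  rw [if_pos hl]

theorem crep_cletter (l : ℕ) (hl : l < 16) (C : ℕ) (g : GL F9 F) (hg : CRep ω h2 hω C g) :
    CRep ω h2 hω (cletter l C) (j3L ω h2 hω l * g) := by
  rw [cletter_eq]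
  exact crep_cmulT ω h2 hω l hl C g hg

/-- every listed code is the code of an element of the subgroup -/
theorem j3Low_rep (i : ℕ) (hi : i < 6480) :
    ∃ g ∈ j3LowGrp ω h2 hω, CRep ω h2 hω (uLook i) g := by
  induction i using Nat.strong_induction_on with
  | _ i ih =>
    by_cases h0 : i = 0
    · subst h0
      rw [l2Chk_zero]
      exact ⟨1, Subgroup.one_mem _, crep_one ω h2 hω⟩
    · obtain ⟨p, hp, l, hl, e⟩ := l2Chk_par i hi h0
      obtain ⟨g, hg, hr⟩ := ih p hp (by omega)
      have hl8 := j3K2_lt l hl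
      refine ⟨j3L ω h2 hω l * g, Subgroup.mul_mem _ ?_ hg, ?_⟩
      · rw [j3L_of_lt ω h2 hω l hl8]
        exact Subgroup.subset_closure ⟨l, hl, rfl⟩
      · rw [← e]
        exact crep_cletter ω h2 hω l (by omega) _ _ hr

/-- a code passing the test is the code of an element of the subgroup -/
theorem j3Low_of_sift (r : ℕ) (h : sift2 r = true) (g : GL F9 F) (hg : CRep ω h2 hω r g) :
    g ∈ j3LowGrp ω h2 hω := by
  obtain ⟨i, hi, e⟩ := sift2_sound r h
  obtain ⟨g', hg', hr⟩ := j3Low_rep ω h2 hω i hi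
  rw [e] at hr
  rw [crep_eq ω h2 hω r g g' hg hr]
  exact hg'

theorem kuF_key_inj (x y : ℕ) (hx : x < 262144) (hy : y < 262144)
    (h : kuF ω h2 hω x = kuF ω h2 hω y) : x = y := by
  have := kvF_injective _ h
  rw [← kkey_kvecOfKey x hx, ← kkey_kvecOfKey y hy, this]

end

section
variable {F : Type} [Field F] [Fintype F] (ω : F) (h2 : (2 : F) = 0) (hω : ω * ω = ω + 1)

/-- the order of the subgroup -/
theorem j3Low_card : Nat.card (j3LowGrp ω h2 hω) = 6480 := by
  classical
  -- the elements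
  have hrep := j3Low_rep ω h2 hω
  choose! gOf hgOf hgRep using hrep
  let wOf : ℕ → ℕ := fun i => capp (uLook i) j3V
  have hwlt : ∀ i, wOf i < 262144 := fun i => (capp_spec _ _).1
  have hwinj : ∀ i, i < 6480 → ∀ j, j < 6480 → wOf i = wOf j → i = j := by
    intro i hi j hj h
    have e1 := l2Chk_idx i hi
    have e2 := l2Chk_idx j hj
    have : idxLook (wOf i) = idxLook (wOf j) := by rw [h]
    change idxLook (capp (uLook i) j3V) = idxLook (capp (uLook j) j3V) at this
    omega
  let pt : ℕ → (F9 → F) := fun i => kuF ω h2 hω (wOf i)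
  have hptinj : ∀ i, i < 6480 → ∀ j, j < 6480 → pt i = pt j → i = j := by
    intro i hi j hj h
    exact hwinj i hi j hj (kuF_key_inj ω h2 hω _ _ (hwlt i) (hwlt j) h)
  let O : Finset (F9 → F) := (Finset.range 6480).image pt
  have hOcard : O.card = 6480 := by
    rw [Finset.card_image_of_injOn, Finset.card_range]
    intro i hi j hj h
    rw [Finset.coe_range, Set.mem_Iio] at hi hj
    exact hptinj i hi j hj h
  let act : GL F9 F → (F9 → F) → (F9 → F) := fun g v => (g : Matrix F9 F9 F) *ᵥ v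
  have hact : ∀ i, i < 6480 → act (gOf i) (kuF ω h2 hω j3V) = pt i := by
    intro i hi
    exact crep_mulVec ω h2 hω _ _ (hgRep i hi) j3V
  have hg0 : gOf 0 = 1 := by
    have := hgRep 0 (by norm_num)
    rw [l2Chk_zero] at this
    exact crep_eq ω h2 hω _ _ _ this (crep_one ω h2 hω)
  have hb : kuF ω h2 hω j3V = pt 0 := by
    rw [← hact 0 (by norm_num), hg0]
    show _ = (1 : Matrix F9 F9 F) *ᵥ _
    rw [Matrix.one_mulVec]
  let u : (F9 → F) → GL F9 F := fun v =>
    if h : ∃ i, i < 6480 ∧ v = pt i then gOf (Classical.choose h) else 1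
  have hu : ∀ i, i < 6480 → u (pt i) = gOf i := by
    intro i hi
    have h : ∃ j, j < 6480 ∧ pt i = pt j := ⟨i, hi, rfl⟩
    show (if h : ∃ j, j < 6480 ∧ pt i = pt j then gOf (Classical.choose h) else 1) = gOf i
    rw [dif_pos h]
    have := Classical.choose_spec h
    rw [← hptinj i hi _ this.1 this.2]
  have key := ss_step act
    (fun v => by show (1 : Matrix F9 F9 F) *ᵥ v = v; rw [Matrix.one_mulVec])
    (fun g h v => by
      show ((g * h : GL F9 F) : Matrix F9 F9 F) *ᵥ v = _
      rw [Units.val_mul, ← Matrix.mulVec_mulVec])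
    {g | ∃ l ∈ j3K2, g = j3G ω h2 hω l} ⊥ (kuF ω h2 hω j3V) O u
    (by rw [hb]; exact Finset.mem_image_of_mem _ (Finset.mem_range.2 (by norm_num)))
    (by rw [hb, hu 0 (by norm_num), hg0])
    (by
      intro z hz
      obtain ⟨i, hi, rfl⟩ := Finset.mem_image.1 hz
      rw [Finset.mem_range] at hi
      rw [hu i hi]
      exact hact i hi)
    bot_le
    (by
      intro k hk
      rw [Subgroup.mem_bot] at hk
      rw [hk]
      show (1 : Matrix F9 F9 F) *ᵥ _ = _
      rw [Matrix.one_mulVec])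
    (by
      intro z hz
      obtain ⟨i, hi, rfl⟩ := Finset.mem_image.1 hz
      rw [Finset.mem_range] at hi
      rw [hu i hi]
      exact hgOf i hi)
    (by
      rintro s ⟨l, hl, rfl⟩ z hz
      obtain ⟨i, hi, rfl⟩ := Finset.mem_image.1 hz
      rw [Finset.mem_range] at hi
      have hl8 := j3K2_lt l hl
      obtain ⟨i', hi', e⟩ := sift2_sound _ (l2Chk_sift i hi l hl)
      have hr : CRep ω h2 hω (uLook i') (j3G ω h2 hω l * gOf i) := by
        rw [e, ← j3L_of_lt ω h2 hω l hl8]
        exact crep_cletter ω h2 hω l (by omega) _ _ (hgRep i hi)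
      have hprod : j3G ω h2 hω l * gOf i = gOf i' := crep_eq ω h2 hω _ _ _ hr (hgRep i' hi')
      have hz' : act (j3G ω h2 hω l) (pt i) = pt i' := by
        rw [← hact i hi, ← hact i' hi', ← hprod]
        show _ = ((j3G ω h2 hω l * gOf i : GL F9 F) : Matrix F9 F9 F) *ᵥ _
        rw [Units.val_mul, ← Matrix.mulVec_mulVec]
      rw [hz']
      refine ⟨Finset.mem_image_of_mem _ (Finset.mem_range.2 hi'), ?_⟩
      rw [hu i hi, hu i' hi', ← hprod, Subgroup.mem_bot]
      group)
  have := key.2.2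
  rw [hOcard, Subgroup.card_bot, mul_one] at this
  exact this

end

end Cfsg.Agent.Lib.helper4
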