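import Mathlib
import Cfsg.Agent.Lib.helper4.J3Top
import Cfsg.Agent.Lib.helper4.J3LowSound

set_option autoImplicit false

/-! The first step of the chain of stabilisers of the triple cover of the third Janko group:
the elements of the group behind the codes of the check. -/

namespace Cfsg.Agent.Lib.helper4

open Cfsg.Agent.Lib.Lead.F4 Cfsg.Spor Matrix
open scoped MatrixGroups

theorem cU_zero (x : ℕ) : cU 0 x = cid := rfl

theorem cU_succ (f x : ℕ) : cU (f + 1) x =
    if x = 1 then cid else if jlet x = 0 ∨ 8 ≤ jlet x then cid else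
      cletter (jlet x - 1) (cU f (kstepN (j3Tab16.getD (jlet x - 1 + 8) (0, 0)) x)) := by
  rw [cU]
  cases hb : Nat.beq x 1
  · have hx : x ≠ 1 := Nat.ne_of_beq_eq_false hb
    rw [if_neg hx, kforceNat_eq]
    cases hc : (Nat.beq (jlet x) 0 || Nat.ble 8 (jlet x))
    · rw [Bool.or_eq_false_iff] at hc
      have h1 : jlet x ≠ 0 := Nat.ne_of_beq_eq_false hc.1
      have h2 : ¬ 8 ≤ jlet x := fun h => by
        rw [Nat.ble_eq_true_of_le h] at hc
        exact absurd hc.2 (by decide)
      rw [if_neg (by tauto)]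
      show kforceNat (Nat.pred (jlet x)) _ = _
      rw [kforceNat_eq]
      rfl
    · rw [Bool.or_eq_true] at hc
      have : jlet x = 0 ∨ 8 ≤ jlet x := by
        rcases hc with h | h
        · exact Or.inl (Nat.eq_of_beq_eq_true h)
        · exact Or.inr (Nat.le_of_ble_eq_true h)
      rw [if_pos this]
  · have hx : x = 1 := Nat.eq_of_beq_eq_true hb
    rw [if_pos hx]

theorem cup_zero (x g : ℕ) : cup 0 x g = none := rfl

theorem cup_succ (f x g : ℕ) : cup (f + 1) x g =
    if x = 1 then some g else if jlet x = 0 ∨ 8 ≤ jlet x then none else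
      cup f (kstepN (j3Tab16.getD (jlet x - 1 + 8) (0, 0)) x) (cletter (jlet x - 1 + 8) g) := by
  rw [cup]
  cases hb : Nat.beq x 1
  · have hx : x ≠ 1 := Nat.ne_of_beq_eq_false hb
    rw [if_neg hx, kforceNat_eq]
    cases hc : (Nat.beq (jlet x) 0 || Nat.ble 8 (jlet x))
    · rw [Bool.or_eq_false_iff] at hc
      have h1 : jlet x ≠ 0 := Nat.ne_of_beq_eq_false hc.1
      have h2 : ¬ 8 ≤ jlet x := fun h => by
        rw [Nat.ble_eq_true_of_le h] at hc
        exact absurd hc.2 (by decide)
      rw [if_neg (by tauto)]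
      show kforceNat (Nat.add (Nat.pred (jlet x)) 8) _ = _
      rw [kforceNat_eq, kforceNat_eq, kforceNat_eq]
      rfl
    · rw [Bool.or_eq_true] at hc
      have : jlet x = 0 ∨ 8 ≤ jlet x := by
        rcases hc with h | h
        · exact Or.inl (Nat.eq_of_beq_eq_true h)
        · exact Or.inr (Nat.le_of_ble_eq_true h)
      rw [if_pos this]
  · have hx : x = 1 := Nat.eq_of_beq_eq_true hb
    rw [if_pos hx]

section
variable {F : Type} [Field F] (ω : F) (h2 : (2 : F) = 0) (hω : ω * ω = ω + 1)

/-- the element of the group for a line, with a bound on the number of steps -/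
noncomputable def j3gU : ℕ → ℕ → GL F9 F
  | 0, _ => 1
  | f + 1, x =>
    if x = 1 then 1 else if jlet x = 0 ∨ 8 ≤ jlet x then 1 else
      j3L ω h2 hω (jlet x - 1) * j3gU f (kstepN (j3Tab16.getD (jlet x - 1 + 8) (0, 0)) x)

theorem crep_cU (f x : ℕ) : CRep ω h2 hω (cU f x) (j3gU ω h2 hω f x) := by
  induction f generalizing x with
  | zero => exact crep_one ω h2 hω
  | succ f ih =>
    rw [cU_succ, j3gU]
    by_cases hx : x = 1
    · rw [if_pos hx, if_pos hx]
      exact crep_one ω h2 hω
    · rw [if_neg hx, if_neg hx]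
      by_cases hc : jlet x = 0 ∨ 8 ≤ jlet x
      · rw [if_pos hc, if_pos hc]
        exact crep_one ω h2 hω
      · rw [if_neg hc, if_neg hc]
        exact crep_cletter ω h2 hω _ (by omega) _ _ (ih _)

theorem j3gU_one (f : ℕ) : j3gU ω h2 hω f 1 = 1 := by
  cases f with
  | zero => rfl
  | succ f => rw [j3gU, if_pos rfl]

theorem j3gU_mem (H : Subgroup (GL F9 F)) (hH : ∀ k, k < 8 → j3G ω h2 hω k ∈ H) (f x : ℕ) :
    j3gU ω h2 hω f x ∈ H := by
  induction f generalizing x with
  | zero => exact H.one_mem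
  | succ f ih =>
    rw [j3gU]
    split_ifs with hx hc
    · exact H.one_mem
    · exact H.one_mem
    · refine H.mul_mem ?_ (ih _)
      rw [j3L_of_lt ω h2 hω _ (by omega)]
      exact hH _ (by omega)

theorem crep_cup (f : ℕ) : ∀ (x g r : ℕ) (h : GL F9 F), cup f x g = some r → CRep ω h2 hω g h →
    CRep ω h2 hω r ((j3gU ω h2 hω f x)⁻¹ * h) := by
  induction f with
  | zero =>
    intro x g r h hc
    rw [cup_zero] at hc
    exact absurd hc (by simp)
  | succ f ih =>
    intro x g r h hc hg
    rw [cup_succ] at hc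
    rw [j3gU]
    by_cases hx : x = 1
    · rw [if_pos hx] at hc ⊢
      rw [inv_one, one_mul]
      cases hc
      exact hg
    · rw [if_neg hx] at hc ⊢
      by_cases hl : jlet x = 0 ∨ 8 ≤ jlet x
      · rw [if_pos hl] at hc
        exact absurd hc (by simp)
      · rw [if_neg hl] at hc ⊢
        have hk : jlet x - 1 < 8 := by omega
        have h1 := crep_cletter ω h2 hω (jlet x - 1 + 8) (by omega) g h hg
        rw [j3L_inv ω h2 hω _ hk] at h1
        have := ih _ _ r _ hc h1
        rw [_root_.mul_inv_rev, mul_assoc]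
        exact this

end

end Cfsg.Agent.Lib.helper4
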