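import Mathlib
import Cfsg.Agent.Lib.helper4.J3TopAll
import Cfsg.Agent.Lib.helper4.J3TopDefs

set_option autoImplicit false

/-! The first step of the chain of stabilisers of the triple cover of the third Janko group:
the order of the group. -/

namespace Cfsg.Agent.Lib.helper4

open Cfsg.Agent.Lib.Lead.F4 Cfsg.Spor Matrix
open scoped MatrixGroups

theorem knorm_spec (a : ℕ) (ha : a < 262144) (hy : kfirstN 9 (knormN j3Tw j3Tv a) = 1) :
    ∃ c : F4c, c ≠ 0 ∧ kvecOfKey a = ksmul c (kvecOfKey (knormN j3Tw j3Tv a)) := by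
  have e1 : knormN j3Tw j3Tv a = kkey (knorm (kvecOfKey a)) := by
    rw [← knormN_kkey _ _ j3Tw_chk j3Tv_chk, kkey_kvecOfKey a ha]
  rw [e1] at hy ⊢
  rw [kvecOfKey_kkey]
  rw [kfirstN_kkey] at hy
  set v := kvecOfKey a with hv
  by_cases h0 : kfirst v = 0
  · exfalso
    rw [knorm_eq, if_pos h0, ksmul_one, h0] at hy
    exact absurd hy (by decide)
  · exact ⟨kfirst v, h0, by
      rw [knorm_eq, if_neg h0, ksmul_ksmul, mul_inv_cancel₀ h0, ksmul_one]⟩

theorem capp_one (C : ℕ) : capp C 1 = ccol C 0 := by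
  have h0 : cdig 1 0 = 1 := by decide
  have h1 : cdig 1 1 = 0 := by decide
  have h2 : cdig 1 2 = 0 := by decide
  have h3 : cdig 1 3 = 0 := by decide
  have h4 : cdig 1 4 = 0 := by decide
  have h5 : cdig 1 5 = 0 := by decide
  have h6 : cdig 1 6 = 0 := by decide
  have h7 : cdig 1 7 = 0 := by decide
  have h8 : cdig 1 8 = 0 := by decide
  unfold capp
  rw [h0, h1, h2, h3, h4, h5, h6, h7, h8]
  have c0 : ∀ a, cscal 0 a = 0 := fun _ => rfl
  have c1 : ∀ a, cscal 1 a = a := fun _ => rfl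
  have z : Nat.xor 0 0 = 0 := rfl
  simp only [c0, c1, z]
  exact Nat.xor_zero _

theorem nodeChk_fst (x : ℕ) (h : nodeChk x = true) :
    knormN j3Tw j3Tv (ccol (cU 12 x) 0) = x := by
  unfold nodeChk at h
  rw [kforceNat_eq, Bool.and_eq_true] at h
  exact Nat.eq_of_beq_eq_true h.1

theorem nodeChk_snd (x : ℕ) (h : nodeChk x = true) (s : ℕ) (hs : s ∈ j3K1) :
    kmem j3SetA3 (knormN j3Tw j3Tv (ccol (cletter s (cU 12 x)) 0)) = true ∧
      ∃ r, cup 12 (knormN j3Tw j3Tv (ccol (cletter s (cU 12 x)) 0)) (cletter s (cU 12 x)) = some r ∧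
        sift2 r = true := by
  unfold nodeChk at h
  rw [kforceNat_eq, Bool.and_eq_true, List.all_eq_true] at h
  have := h.2 s hs
  rw [kforceNat_eq, kforceNat_eq, Bool.and_eq_true] at this
  refine ⟨this.1, ?_⟩
  have h2 := this.2
  cases hc : cup 12 (knormN j3Tw j3Tv (ccol (cletter s (cU 12 x)) 0)) (cletter s (cU 12 x)) with
  | none =>
    rw [hc] at h2
    exact absurd h2 Bool.false_ne_true
  | some r =>
    rw [hc] at h2
    exact ⟨r, rfl, h2⟩

theorem j3Words_chk : cword [5, 5, 3, 3, 3, 13, 13] = cword [0] ∧ cword [3, 3, 3] = cword [1] ∧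
    cword [3, 5, 3, 3, 13, 13, 11, 11, 5, 11, 11] = cword [2] ∧
    cword [5, 5, 11, 13, 13] = cword [4] ∧ cword [0, 3, 8, 11] = cword [7] := by
  decide +kernel

theorem j3K2_fix_chk : ∀ l ∈ j3K2, knormN j3Tw j3Tv (ccol (cword [l]) 0) = 1 := by
  decide +kernel

theorem j3K1_lt (l : ℕ) (hl : l ∈ j3K1) : l < 8 := by
  revert l
  decide

section
variable {F : Type} [Field F] (ω : F) (h2 : (2 : F) = 0) (hω : ω * ω = ω + 1)

/-- the line of a number -/
def kline (x : ℕ) : Submodule F (F9 → F) := F ∙ kuF ω h2 hω x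

/-- the action on subspaces -/
def lact (g : GL F9 F) (L : Submodule F (F9 → F)) : Submodule F (F9 → F) :=
  L.map (Matrix.toLin' (g : Matrix F9 F9 F))

theorem lact_one (L : Submodule F (F9 → F)) : lact 1 L = L := by
  unfold lact
  rw [Units.val_one, Matrix.toLin'_one]
  exact Submodule.map_id L

theorem lact_mul (g h : GL F9 F) (L : Submodule F (F9 → F)) :
    lact (g * h) L = lact g (lact h L) := by
  unfold lact
  rw [Units.val_mul, Matrix.toLin'_mul, Submodule.map_comp]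

theorem lact_span (g : GL F9 F) (v : F9 → F) :
    lact g (F ∙ v) = F ∙ ((g : Matrix F9 F9 F) *ᵥ v) := by
  unfold lact
  rw [Submodule.map_span, Set.image_singleton, Matrix.toLin'_apply]

theorem kline_norm (a : ℕ) (ha : a < 262144) (hy : kfirstN 9 (knormN j3Tw j3Tv a) = 1) :
    F ∙ kuF ω h2 hω a = kline ω h2 hω (knormN j3Tw j3Tv a) := by
  obtain ⟨c, hc, e⟩ := knorm_spec a ha hy
  unfold kline kuF
  rw [e, kvF_ksmul, Submodule.span_singleton_smul_eq (IsUnit.mk0 _ ((map_ne_zero _).2 hc))]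

theorem lact_crep (C : ℕ) (g : GL F9 F) (hg : CRep ω h2 hω C g)
    (hy : kfirstN 9 (knormN j3Tw j3Tv (ccol C 0)) = 1) :
    lact g (kline ω h2 hω 1) = kline ω h2 hω (knormN j3Tw j3Tv (ccol C 0)) := by
  unfold kline
  rw [lact_span, crep_mulVec ω h2 hω C g hg, capp_one]
  exact kline_norm ω h2 hω _ (ccol_lt _ _) hy

theorem gword_mem' (H : Subgroup (GL F9 F)) (w : List ℕ) (hw : ∀ l ∈ w, j3L ω h2 hω l ∈ H) :
    gword ω h2 hω w ∈ H := by
  induction w with
  | nil => exact H.one_mem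
  | cons l w ih =>
    exact H.mul_mem (hw l (by simp)) (ih fun k hk => hw k (by simp [hk]))

theorem gword_eq_of_code (w1 w2 : List ℕ) (h : cword w1 = cword w2) (h1 : ∀ l ∈ w1, l < 16)
    (h2' : ∀ l ∈ w2, l < 16) : gword ω h2 hω w1 = gword ω h2 hω w2 := by
  have e1 := crep_word ω h2 hω w1 h1
  have e2 := crep_word ω h2 hω w2 h2'
  rw [h] at e1
  exact crep_eq ω h2 hω _ _ _ e1 e2

theorem gword_single (k : ℕ) (hk : k < 8) : gword ω h2 hω [k] = j3G ω h2 hω k := by
  show j3L ω h2 hω k * 1 = _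
  rw [mul_one, j3L_of_lt ω h2 hω k hk]

/-- the group generated by three of the generators -/
def j3TopGrp : Subgroup (GL F9 F) :=
  Subgroup.closure {g | ∃ l ∈ j3K1, g = j3G ω h2 hω l}

theorem j3G_mem_top (k : ℕ) (hk : k < 8) : j3G ω h2 hω k ∈ j3TopGrp ω h2 hω := by
  have m3 : j3L ω h2 hω 3 ∈ j3TopGrp ω h2 hω := by
    rw [j3L_of_lt ω h2 hω 3 (by norm_num)]
    exact Subgroup.subset_closure ⟨3, by decide, rfl⟩
  have m5 : j3L ω h2 hω 5 ∈ j3TopGrp ω h2 hω := by
    rw [j3L_of_lt ω h2 hω 5 (by norm_num)]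
    exact Subgroup.subset_closure ⟨5, by decide, rfl⟩
  have m6 : j3L ω h2 hω 6 ∈ j3TopGrp ω h2 hω := by
    rw [j3L_of_lt ω h2 hω 6 (by norm_num)]
    exact Subgroup.subset_closure ⟨6, by decide, rfl⟩
  have m11 : j3L ω h2 hω 11 ∈ j3TopGrp ω h2 hω := by
    rw [j3L_inv ω h2 hω 3 (by norm_num)]
    exact Subgroup.inv_mem _ m3
  have m13 : j3L ω h2 hω 13 ∈ j3TopGrp ω h2 hω := by
    rw [j3L_inv ω h2 hω 5 (by norm_num)]
    exact Subgroup.inv_mem _ m5
  have m14 : j3L ω h2 hω 14 ∈ j3TopGrp ω h2 hω := by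
    rw [j3L_inv ω h2 hω 6 (by norm_num)]
    exact Subgroup.inv_mem _ m6
  have hw : ∀ w : List ℕ, (∀ l ∈ w, l = 3 ∨ l = 5 ∨ l = 6 ∨ l = 11 ∨ l = 13 ∨ l = 14) →
      gword ω h2 hω w ∈ j3TopGrp ω h2 hω := by
    intro w h
    apply gword_mem'
    intro l hl
    rcases h l hl with rfl | rfl | rfl | rfl | rfl | rfl
    · exact m3
    · exact m5
    · exact m6
    · exact m11
    · exact m13
    · exact m14
  have m0 : j3G ω h2 hω 0 ∈ j3TopGrp ω h2 hω := by
    rw [← gword_single ω h2 hω 0 (by norm_num),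
      ← gword_eq_of_code ω h2 hω _ _ j3Words_chk.1 (by decide) (by decide)]
    exact hw _ (by decide)
  have hk' : k = 0 ∨ k = 1 ∨ k = 2 ∨ k = 3 ∨ k = 4 ∨ k = 5 ∨ k = 6 ∨ k = 7 := by omega
  rcases hk' with rfl | rfl | rfl | rfl | rfl | rfl | rfl | rfl
  · exact m0
  · rw [← gword_single ω h2 hω 1 (by norm_num),
      ← gword_eq_of_code ω h2 hω _ _ j3Words_chk.2.1 (by decide) (by decide)]
    exact hw _ (by decide)
  · rw [← gword_single ω h2 hω 2 (by norm_num),
      ← gword_eq_of_code ω h2 hω _ _ j3Words_chk.2.2.1 (by decide) (by decide)]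
    exact hw _ (by decide)
  · rw [← j3L_of_lt ω h2 hω 3 (by norm_num)]
    exact m3
  · rw [← gword_single ω h2 hω 4 (by norm_num),
      ← gword_eq_of_code ω h2 hω _ _ j3Words_chk.2.2.2.1 (by decide) (by decide)]
    exact hw _ (by decide)
  · rw [← j3L_of_lt ω h2 hω 5 (by norm_num)]
    exact m5
  · rw [← j3L_of_lt ω h2 hω 6 (by norm_num)]
    exact m6
  · rw [← gword_single ω h2 hω 7 (by norm_num),
      ← gword_eq_of_code ω h2 hω _ _ j3Words_chk.2.2.2.2 (by decide) (by decide)]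
    apply gword_mem'
    intro l hl
    have hl' : l = 0 ∨ l = 3 ∨ l = 8 ∨ l = 11 := by
      revert l
      decide
    rcases hl' with rfl | rfl | rfl | rfl
    · rw [j3L_of_lt ω h2 hω 0 (by norm_num)]
      exact m0
    · exact m3
    · rw [j3L_inv ω h2 hω 0 (by norm_num), j3L_of_lt ω h2 hω 0 (by norm_num)]
      exact Subgroup.inv_mem _ m0
    · exact m11

theorem j3Low_le_top : j3LowGrp ω h2 hω ≤ j3TopGrp ω h2 hω := by
  unfold j3LowGrp
  rw [Subgroup.closure_le]
  rintro g ⟨l, hl, rfl⟩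
  exact j3G_mem_top ω h2 hω l (j3K2_lt l hl)

theorem j3Low_fix (k : GL F9 F) (hk : k ∈ j3LowGrp ω h2 hω) :
    lact k (kline ω h2 hω 1) = kline ω h2 hω 1 := by
  unfold j3LowGrp at hk
  induction hk using Subgroup.closure_induction with
  | mem g hg =>
    obtain ⟨l, hl, rfl⟩ := hg
    have hl8 := j3K2_lt l hl
    have hr := crep_word ω h2 hω [l] (by intro k hk; rw [List.mem_singleton] at hk; omega)
    rw [gword_single ω h2 hω l hl8] at hr
    have h1 := j3K2_fix_chk l hl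
    have := lact_crep ω h2 hω _ _ hr (by rw [h1]; decide)
    rw [h1] at this
    exact this
  | one => exact lact_one _
  | mul a b _ _ ha hb => rw [lact_mul, hb, ha]
  | inv a _ ha =>
    have : lact a⁻¹ (lact a (kline ω h2 hω 1)) = kline ω h2 hω 1 := by
      rw [← lact_mul, inv_mul_cancel, lact_one]
    rw [ha] at this
    exact this

end

end Cfsg.Agent.Lib.helper4
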