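import Mathlib
import Cfsg.Agent.Lib.helper4.J3TopMain

set_option autoImplicit false

/-! The order of the triple cover of the third Janko group, and the stabiliser of the first
coordinate line. -/

namespace Cfsg.Agent.Lib.helper4

open Cfsg.Agent.Lib.Lead.F4 Cfsg.Spor Matrix
open scoped MatrixGroups

section
variable {F : Type} [Field F] [Fintype F] (ω : F) (h2 : (2 : F) = 0) (hω : ω * ω = ω + 1)

theorem j3KeysA_reached : KReached (fun _ => True) j3SetA3 j3KeysA :=
  j3ReachedA _ (fun _ _ _ _ _ _ => trivial) trivial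

theorem j3KeysA_one : (1 : ℕ) ∈ j3KeysA := (j3KeysA_reached.mem 1).1 (by decide +kernel)

theorem kline_inj (hF : Fintype.card F = 4) (x y : ℕ) (hx : x ∈ j3KeysA) (hy : y ∈ j3KeysA)
    (h : kline ω h2 hω x = kline ω h2 hω y) : x = y := by
  obtain ⟨hx1, hx2, -⟩ := j3KeysA_reached.good x hx
  obtain ⟨hy1, hy2, -⟩ := j3KeysA_reached.good y hy
  exact kuF_line_inj ω h2 hω (toFHom_surjective ω h2 hω hF) x y hx2 hx1 hy2 hy1 h

/-- the step of the chain of stabilisers -/
theorem j3Top_step (hF : Fintype.card F = 4) :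
    (∀ g ∈ j3TopGrp ω h2 hω, lact g (kline ω h2 hω 1) = kline ω h2 hω 1 →
      g ∈ j3LowGrp ω h2 hω) ∧
    Nat.card (j3TopGrp ω h2 hω) = 23256 * 6480 := by
  classical
  let O : Finset (Submodule F (F9 → F)) := j3KeysA.toFinset.image (kline ω h2 hω)
  have hOcard : O.card = 23256 := by
    rw [Finset.card_image_of_injOn, List.toFinset_card_of_nodup j3KeysA_reached.nodup,
      j3KeysA_length]
    intro x hx y hy hxy
    rw [Finset.mem_coe, List.mem_toFinset] at hx hy
    exact kline_inj ω h2 hω hF x y hx hy hxy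
  have hOmem : ∀ x ∈ j3KeysA, kline ω h2 hω x ∈ O := fun x hx =>
    Finset.mem_image_of_mem _ (List.mem_toFinset.2 hx)
  let u : Submodule F (F9 → F) → GL F9 F := fun L =>
    if h : ∃ x, x ∈ j3KeysA ∧ L = kline ω h2 hω x then j3gU ω h2 hω 12 (Classical.choose h) else 1
  have hu : ∀ x ∈ j3KeysA, u (kline ω h2 hω x) = j3gU ω h2 hω 12 x := by
    intro x hx
    have h : ∃ y, y ∈ j3KeysA ∧ kline ω h2 hω x = kline ω h2 hω y := ⟨x, hx, rfl⟩
    show (if h : ∃ y, y ∈ j3KeysA ∧ kline ω h2 hω x = kline ω h2 hω y then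
      j3gU ω h2 hω 12 (Classical.choose h) else 1) = _
    rw [dif_pos h]
    have := Classical.choose_spec h
    rw [← kline_inj ω h2 hω hF x _ hx this.1 this.2]
  -- the element for a line brings the first coordinate line to it
  have huz : ∀ x ∈ j3KeysA, lact (j3gU ω h2 hω 12 x) (kline ω h2 hω 1) = kline ω h2 hω x := by
    intro x hx
    have hn := nodeChk_fst x (nodeChk_all x hx)
    have := lact_crep ω h2 hω _ _ (crep_cU ω h2 hω 12 x)
      (by rw [hn]; exact (j3KeysA_reached.good x hx).2.1)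
    rw [hn] at this
    exact this
  have key := ss_step (lact (F := F)) lact_one lact_mul
    {g | ∃ l ∈ j3K1, g = j3G ω h2 hω l} (j3LowGrp ω h2 hω) (kline ω h2 hω 1) O u
    (hOmem 1 j3KeysA_one)
    (by rw [hu 1 j3KeysA_one, j3gU_one])
    (by
      intro z hz
      obtain ⟨x, hx, rfl⟩ := Finset.mem_image.1 hz
      rw [List.mem_toFinset] at hx
      rw [hu x hx]
      exact huz x hx)
    (j3Low_le_top ω h2 hω)
    (j3Low_fix ω h2 hω)
    (by
      intro z hz
      obtain ⟨x, hx, rfl⟩ := Finset.mem_image.1 hz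
      rw [List.mem_toFinset] at hx
      rw [hu x hx]
      exact j3gU_mem ω h2 hω _ (j3G_mem_top ω h2 hω) 12 x)
    (by
      rintro s ⟨l, hl, rfl⟩ z hz
      obtain ⟨x, hx, rfl⟩ := Finset.mem_image.1 hz
      rw [List.mem_toFinset] at hx
      have hl8 := j3K1_lt l hl
      obtain ⟨hmem, r, hcup, hsift⟩ := nodeChk_snd x (nodeChk_all x hx) l hl
      set g := cletter l (cU 12 x) with hg
      set y := knormN j3Tw j3Tv (ccol g 0) with hy
      have hyA : y ∈ j3KeysA := (j3KeysA_reached.mem y).1 hmem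
      have hgrep : CRep ω h2 hω g (j3G ω h2 hω l * j3gU ω h2 hω 12 x) := by
        rw [← j3L_of_lt ω h2 hω l hl8]
        exact crep_cletter ω h2 hω l (by omega) _ _ (crep_cU ω h2 hω 12 x)
      have hz' : lact (j3G ω h2 hω l) (kline ω h2 hω x) = kline ω h2 hω y := by
        rw [← huz x hx, ← lact_mul]
        exact lact_crep ω h2 hω _ _ hgrep (j3KeysA_reached.good y hyA).2.1
      rw [hz']
      refine ⟨hOmem y hyA, ?_⟩
      rw [hu x hx, hu y hyA, mul_assoc]
      exact j3Low_of_sift ω h2 hω r hsift _ (crep_cup ω h2 hω 12 y g r _ hcup hgrep))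
  refine ⟨key.1, ?_⟩
  have e := key.2.2
  rw [hOcard, j3Low_card] at e
  exact e

end

end Cfsg.Agent.Lib.helper4
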