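import Mathlib
import Cfsg.Agent.Lib.helper4.J3TopStep

set_option autoImplicit false

/-! The triple cover of the third Janko group is generated by three of its generators; its
order. -/

namespace Cfsg.Agent.Lib.helper4

open Cfsg.Agent.Lib.Lead.F4 Cfsg.Spor Matrix
open scoped MatrixGroups

theorem j3Mat16_gen7 : ∀ k, k < 7 → j3Mat16.getD k kone = j3Gen7.getD k kone := by
  decide +kernel

section
variable {F : Type} [Field F] (ω : F) (h2 : (2 : F) = 0) (hω : ω * ω = ω + 1)

theorem kword_top (w : List ℕ) :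
    ∃ g ∈ j3TopGrp ω h2 hω, (g : Matrix F9 F9 F) = kmF (toFHom ω h2 hω) (kword w) := by
  induction w with
  | nil => exact ⟨1, Subgroup.one_mem _, by rw [Units.val_one]; exact (kmF_kone _).symm⟩
  | cons k w ih =>
    obtain ⟨g, hg, e⟩ := ih
    show ∃ g ∈ j3TopGrp ω h2 hω,
      (g : Matrix F9 F9 F) = kmF (toFHom ω h2 hω) (kmm (j3Gen7.getD k kone) (kword w))
    rw [kmF_kmm]
    by_cases hk : k < 7
    · refine ⟨j3G ω h2 hω k * g, Subgroup.mul_mem _ (j3G_mem_top ω h2 hω k (by omega)) hg, ?_⟩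
      rw [Units.val_mul, e, j3G_val ω h2 hω k (by omega), j3Mat16_gen7 k hk]
    · refine ⟨g, hg, ?_⟩
      rw [List.getD_eq_default _ _ (by rw [j3Gen7_length]; omega), kmF_kone, one_mul, e]

theorem threeJ3_eq_top : threeJ3 F ω = j3TopGrp ω h2 hω := by
  apply le_antisymm
  · unfold threeJ3
    rw [Subgroup.closure_le]
    intro g hg
    obtain ⟨w, hw⟩ := j3Gens_word ω h2 hω _ hg
    obtain ⟨g', hg', e⟩ := kword_top ω h2 hω w
    have : g = g' := Units.ext (by rw [hw, e])
    rw [this]
    exact hg'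
  · unfold j3TopGrp
    rw [Subgroup.closure_le]
    rintro g ⟨l, hl, rfl⟩
    have hl7 : l < 7 := by
      revert l
      decide
    apply Subgroup.subset_closure
    show (j3G ω h2 hω l : Matrix F9 F9 F) ∈ j3Gens F ω
    rw [j3G_val ω h2 hω l (by omega), j3Mat16_gen7 l hl7]
    exact j3Gen7_gens ω h2 hω l hl7

end

section
variable {F : Type} [Field F] [Fintype F] (ω : F)

/-- the order of the triple cover -/
theorem threeJ3_card (h2 : (2 : F) = 0) (hω : ω * ω = ω + 1) (hF : Fintype.card F = 4) : Nat.card (threeJ3 F ω) = 150698880 := by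
  rw [threeJ3_eq_top ω h2 hω, (j3Top_step ω h2 hω hF).2]

end

end Cfsg.Agent.Lib.helper4
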