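import Mathlib
import Cfsg.Agent.Lib.helper4.J3TopEq

set_option autoImplicit false

/-! Kernel checks for the centre of the triple cover of the third Janko group: every line of the
orbit of the first coordinate line, other than this line, is moved by one of five generators
fixing the first coordinate line. -/

namespace Cfsg.Agent.Lib.helper4

/-- the five generators -/
def j3K5 : List ℕ := [0, 1, 2, 5, 6]

/-- every line of the list, other than the first coordinate line, is moved -/
def j3MovedAll (P : List ℕ) : Bool :=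
  (kunpackAll P).all fun e => kforceNat (Nat.div e 16) fun x =>
    Nat.beq x 1 || (j3K5.any fun l => !(Nat.beq (kstepN (j3TabsF.getD l (0, 0)) x) x))

set_option maxRecDepth 10000000 in
theorem j3Moved0_chk : j3MovedAll j3OrbA0 = true := by decide +kernel

set_option maxRecDepth 10000000 in
theorem j3Moved1_chk : j3MovedAll j3OrbA1 = true := by decide +kernel

set_option maxRecDepth 10000000 in
theorem j3Moved2_chk : j3MovedAll j3OrbA2 = true := by decide +kernel

set_option maxRecDepth 10000000 in
theorem j3Moved3_chk : j3MovedAll j3OrbA3 = true := by decide +kernel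

theorem j3Fix1_chk : ∀ l ∈ j3K5, kstepN (j3TabsF.getD l (0, 0)) 1 = 1 := by decide +kernel

theorem j3Coord_chk : (∀ j, j < 9 → kmem j3SetA3 (4 ^ j) = true) ∧ kmem j3SetA3 87381 = true := by
  decide +kernel

theorem j3MovedAll_spec (P : List ℕ) (h : j3MovedAll P = true) (x : ℕ)
    (hx : x ∈ kkeys (kunpackAll P)) (hx1 : x ≠ 1) :
    ∃ l ∈ j3K5, kstepN (j3TabsF.getD l (0, 0)) x ≠ x := by
  unfold j3MovedAll at h
  rw [List.all_eq_true] at h
  unfold kkeys at hx
  rw [List.mem_map] at hx
  obtain ⟨e, he, rfl⟩ := hx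
  have := h e he
  rw [kforceNat_eq, Bool.or_eq_true, List.any_eq_true] at this
  rcases this with h1 | ⟨l, hl, h2⟩
  · exact absurd (Nat.eq_of_beq_eq_true h1) hx1
  · refine ⟨l, hl, fun heq => ?_⟩
    change (!(Nat.beq (kstepN (j3TabsF.getD l (0, 0)) (e / 16)) (e / 16))) = true at h2
    rw [heq, Nat.beq_refl] at h2
    exact absurd h2 (by decide)

theorem j3Moved_all (x : ℕ) (hx : x ∈ j3KeysA) (hx1 : x ≠ 1) :
    ∃ l ∈ j3K5, kstepN (j3TabsF.getD l (0, 0)) x ≠ x := by
  unfold j3KeysA at hx
  simp only [List.mem_append] at hx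
  rcases hx with ((hx | hx) | hx) | hx
  · exact j3MovedAll_spec _ j3Moved0_chk x hx hx1
  · exact j3MovedAll_spec _ j3Moved1_chk x hx hx1
  · exact j3MovedAll_spec _ j3Moved2_chk x hx hx1
  · exact j3MovedAll_spec _ j3Moved3_chk x hx hx1

end Cfsg.Agent.Lib.helper4
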