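import Mathlib
import Cfsg.Agent.Lib.helper4.J3CenChk

set_option autoImplicit false

/-! An element of the triple cover of the third Janko group commuting with the whole group up to
scalars is a scalar. -/

namespace Cfsg.Agent.Lib.helper4

open Cfsg.Agent.Lib.Lead.F4 Cfsg.Spor Matrix
open scoped MatrixGroups

theorem kvecOfKey_pow (j : F9) : kvecOfKey (4 ^ kidx j) =
    KVec.ofFun (fun i => if i = j then F4c.o else F4c.z) := by
  revert j
  apply f9_cases <;> decide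

theorem kvecOfKey_ones : kvecOfKey 87381 = KVec.ofFun (fun _ => F4c.o) := by decide

theorem j3K5_lt (l : ℕ) (hl : l ∈ j3K5) : l < 7 := by
  revert l
  decide

section
variable {F : Type} [Field F] (ω : F) (h2 : (2 : F) = 0) (hω : ω * ω = ω + 1)

theorem kuF_pow (j : F9) : kuF ω h2 hω (4 ^ kidx j) = Pi.single j (1 : F) := by
  unfold kuF
  rw [kvecOfKey_pow]
  funext z
  show toFHom ω h2 hω ((KVec.ofFun _).toFun z) = _
  rw [KVec.toFun_ofFun, Pi.single_apply]
  split_ifs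
  · exact map_one _
  · exact map_zero _

theorem kuF_ones : kuF ω h2 hω 87381 = fun _ => (1 : F) := by
  unfold kuF
  rw [kvecOfKey_ones]
  funext z
  show toFHom ω h2 hω ((KVec.ofFun _).toFun z) = _
  rw [KVec.toFun_ofFun]
  exact map_one _

/-- the image of a line of the orbit under a generator -/
theorem j3Gen_step (l : ℕ) (hl : l < 7) (x : ℕ) (hx : x ∈ j3KeysA) :
    kstepN (j3TabsF.getD l (0, 0)) x ∈ j3KeysA ∧ ∃ d : F, d ≠ 0 ∧
      (j3G ω h2 hω l : Matrix F9 F9 F) *ᵥ kuF ω h2 hω x =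
        d • kuF ω h2 hω (kstepN (j3TabsF.getD l (0, 0)) x) := by
  have hT : j3TabsF.getD l (0, 0) ∈ j3TabsF := by
    rw [List.getD_eq_getElem _ _ (by rw [j3TabsF_length]; exact hl)]
    exact List.getElem_mem _
  have hy := (j3KeysA_reached.mem _).1 (j3KeysA_closed x hx _ hT)
  refine ⟨hy, ?_⟩
  obtain ⟨-, c, hc, e⟩ := j3Step_spec l x (j3KeysA_reached.good x hx).1
    (j3KeysA_reached.good _ hy).2.1
  refine ⟨toFHom ω h2 hω c, (map_ne_zero _).2 hc, ?_⟩
  rw [j3G_val ω h2 hω l (by omega), j3Mat16_gen7 l hl]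
  unfold kuF
  rw [kmF_mulVec, e, kvF_ksmul]

end

section
variable {F : Type} [Field F] [Fintype F] (ω : F)

omit [Fintype F] in
theorem span_eq_of_smul_eq (v w : F9 → F) (a b : F) (ha : a ≠ 0) (hb : b ≠ 0)
    (h : a • v = b • w) : F ∙ v = F ∙ w := by
  rw [← Submodule.span_singleton_smul_eq (IsUnit.mk0 a ha) v, h,
    Submodule.span_singleton_smul_eq (IsUnit.mk0 b hb) w]

/-- an element commuting with the group up to scalars is a scalar -/
theorem j3_scalar_of_comm (h2 : (2 : F) = 0) (hω : ω * ω = ω + 1)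
    (hF : Fintype.card F = 4) (c : GL F9 F) (hc : c ∈ threeJ3 F ω)
    (hcomm : ∀ g ∈ threeJ3 F ω, ∃ z : F, z ≠ 0 ∧
      ((c * g : GL F9 F) : Matrix F9 F9 F) = z • ((g * c : GL F9 F) : Matrix F9 F9 F)) :
    ∃ μ : F, μ ≠ 0 ∧ (c : Matrix F9 F9 F) = μ • (1 : Matrix F9 F9 F) := by
  classical
  have hs := toFHom_surjective ω h2 hω hF
  -- the image of the first coordinate line
  obtain ⟨x, hx, a, ha, e1⟩ := j3PresF ω h2 hω c hc 1 j3KeysA_one
  have hx1 : x = 1 := by
    by_contra hne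
    obtain ⟨l, hl, hmv⟩ := j3Moved_all x hx hne
    have hl7 := j3K5_lt l hl
    have hm : j3G ω h2 hω l ∈ threeJ3 F ω := by
      rw [threeJ3_eq_top ω h2 hω]
      exact j3G_mem_top ω h2 hω l (by omega)
    obtain ⟨z, hz, ez⟩ := hcomm _ hm
    obtain ⟨-, b, hb, eb⟩ := j3Gen_step ω h2 hω l hl7 1 j3KeysA_one
    rw [j3Fix1_chk l hl] at eb
    obtain ⟨hy, d, hd, ed⟩ := j3Gen_step ω h2 hω l hl7 x hx
    have k1 : ((c * j3G ω h2 hω l : GL F9 F) : Matrix F9 F9 F) *ᵥ kuF ω h2 hω 1 =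
        (b * a) • kuF ω h2 hω x := by
      rw [Units.val_mul, ← Matrix.mulVec_mulVec, eb, Matrix.mulVec_smul, e1, smul_smul]
    have k2 : ((c * j3G ω h2 hω l : GL F9 F) : Matrix F9 F9 F) *ᵥ kuF ω h2 hω 1 =
        (z * a * d) • kuF ω h2 hω (kstepN (j3TabsF.getD l (0, 0)) x) := by
      rw [ez, Matrix.smul_mulVec, Units.val_mul, ← Matrix.mulVec_mulVec, e1,
        Matrix.mulVec_smul, ed, smul_smul, smul_smul]
    rw [k1] at k2
    have hline := span_eq_of_smul_eq _ _ _ _ (mul_ne_zero hb ha)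
      (mul_ne_zero (mul_ne_zero hz ha) hd) k2
    obtain ⟨hx1', hx2', -⟩ := j3KeysA_reached.good x hx
    obtain ⟨hy1', hy2', -⟩ := j3KeysA_reached.good _ hy
    exact hmv (kuF_line_inj ω h2 hω hs _ _ hx2' hx1' hy2' hy1' hline).symm
  rw [hx1] at e1
  -- all lines of the orbit
  have hR := j3ReachedA (KReachF ω h2 hω 1) (kreachF_step ω h2 hω 1) (kreachF_base ω h2 hω 1)
  have hall : ∀ y ∈ j3KeysA, ∃ a' : F, a' ≠ 0 ∧
      (c : Matrix F9 F9 F) *ᵥ kuF ω h2 hω y = a' • kuF ω h2 hω y := by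
    intro y hy
    obtain ⟨-, -, g, hg, t, ht, eg⟩ := hR.good y hy
    obtain ⟨z, hz, ez⟩ := hcomm g hg
    refine ⟨z * a, mul_ne_zero hz ha, ?_⟩
    have k1 : ((c * g : GL F9 F) : Matrix F9 F9 F) *ᵥ kuF ω h2 hω 1 =
        t • ((c : Matrix F9 F9 F) *ᵥ kuF ω h2 hω y) := by
      rw [Units.val_mul, ← Matrix.mulVec_mulVec, eg, Matrix.mulVec_smul]
    have k2 : ((c * g : GL F9 F) : Matrix F9 F9 F) *ᵥ kuF ω h2 hω 1 =
        t • ((z * a) • kuF ω h2 hω y) := by
      rw [ez, Matrix.smul_mulVec, Units.val_mul, ← Matrix.mulVec_mulVec, e1,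
        Matrix.mulVec_smul, eg, smul_smul, smul_smul, smul_smul]
      congr 1
      ring
    rw [k1] at k2
    have := congrArg (fun v => t⁻¹ • v) k2
    simpa only [smul_smul, inv_mul_cancel₀ ht, one_smul, inv_mul_cancel_left₀ ht] using this
  -- the coordinate lines
  have hcoord : ∀ j : F9, ∃ aj : F, ∀ i, (c : Matrix F9 F9 F) i j = if i = j then aj else 0 := by
    intro j
    have hmem : 4 ^ kidx j ∈ j3KeysA :=
      (j3KeysA_reached.mem _).1 (j3Coord_chk.1 _ (kidx_lt j))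
    obtain ⟨aj, -, e⟩ := hall _ hmem
    rw [kuF_pow, Matrix.mulVec_single_one] at e
    refine ⟨aj, fun i => ?_⟩
    have := congrFun e i
    rw [Matrix.col_apply, Pi.smul_apply, Pi.single_apply, smul_eq_mul] at this
    rw [this]
    split_ifs <;> simp
  choose dg hdg using hcoord
  obtain ⟨μ, hμ, e⟩ := hall 87381 ((j3KeysA_reached.mem _).1 j3Coord_chk.2)
  rw [kuF_ones] at e
  have hd : ∀ i, dg i = μ := by
    intro i
    have := congrFun e i
    rw [Matrix.mulVec, dotProduct, Pi.smul_apply, smul_eq_mul, mul_one] at this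
    rw [← this]
    simp only [mul_one, hdg]
    rw [Finset.sum_ite_eq]
    simp
  refine ⟨μ, hμ, ?_⟩
  ext i j
  rw [hdg, Matrix.smul_apply, Matrix.one_apply, hd, smul_eq_mul]
  split_ifs <;> simp

end

end Cfsg.Agent.Lib.helper4
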