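import Mathlib
import Cfsg.Agent.Lib.helper4.J3Cen

set_option autoImplicit false

/-! Elements of order nineteen modulo scalars in the triple cover of the third Janko group:
each of the three generators is a product of two of them. -/

namespace Cfsg.Agent.Lib.helper4

open Cfsg.Agent.Lib.Lead.F4 Cfsg.Spor Matrix
open scoped MatrixGroups

/-- the code of the square -/
def csq (C : ℕ) : ℕ := kforceNat C fun C' => cmul C' C'

/-- the code of the nineteenth power -/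
def cpow19 (C : ℕ) : ℕ :=
  kforceNat (csq C) fun c2 => kforceNat (csq c2) fun c4 => kforceNat (csq c4) fun c8 =>
    kforceNat (csq c8) fun c16 => kforceNat (cmul c2 C) fun c3 => cmul c16 c3

/-- the nineteenth power is a scalar and the first coordinate line is moved -/
def cgood19 (C : ℕ) : Bool :=
  (kforceNat (cpow19 C) fun P =>
    (Nat.beq P cid || (Nat.beq P (cword [7]) || Nat.beq P (cword [15])))) &&
  (kforceNat (knormN j3Tw j3Tv (ccol C 0)) fun y => Nat.beq (kfirstN 9 y) 1 && !(Nat.beq y 1))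

/-- the words of the certificates: a generator, and two words with product this generator -/
def j3Cert : List (ℕ × List ℕ × List ℕ) := [
  (3, [3, 6, 11, 14, 13, 11, 13, 11, 3, 14], [6, 11, 3, 5, 3, 5, 6, 3, 14]),
  (5, [5, 11, 6, 3, 14, 13, 11, 13, 11, 11, 14, 3], [11, 6, 3, 3, 5, 3, 5, 6, 11, 14, 3]),
  (6, [6, 11, 13, 14, 13, 11, 13, 11, 5, 3], [11, 13, 3, 5, 3, 5, 6, 5, 3])]

theorem j3Cert_chk : ∀ c ∈ j3Cert, c.1 ∈ j3K1 ∧ (∀ l ∈ c.2.1, l < 16) ∧ (∀ l ∈ c.2.2, l < 16) ∧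
    cword (c.2.1 ++ c.2.2) = cword [c.1] ∧ cgood19 (cword c.2.1) = true ∧
      cgood19 (cword c.2.2) = true := by
  decide +kernel

theorem j3Cert_all : ∀ l ∈ j3K1, ∃ c ∈ j3Cert, c.1 = l := by decide

theorem j3Mat16_scal : j3Mat16.getD 7 kone = kscal .w ∧ j3Mat16.getD 15 kone = kscal .v := by
  decide +kernel

theorem kdecM_kscal (c : F4c) : kdecM (kscal c) = c • (1 : Matrix F9 F9 F4c) := by
  apply kdecM_ext
  intro v
  rw [← kmv_toFun, kmv_kscal, ksmul_toFun, Matrix.smul_mulVec, Matrix.one_mulVec]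

section
variable {F : Type} [Field F] (ω : F) (h2 : (2 : F) = 0) (hω : ω * ω = ω + 1)

theorem kmF_kscal (c : F4c) :
    kmF (toFHom ω h2 hω) (kscal c) = toFHom ω h2 hω c • (1 : Matrix F9 F9 F) := by
  unfold kmF
  rw [kdecM_kscal]
  ext i j
  rw [Matrix.map_apply, Matrix.smul_apply, Matrix.smul_apply, Matrix.one_apply, Matrix.one_apply]
  split_ifs
  · rw [smul_eq_mul, smul_eq_mul, mul_one, mul_one]
  · rw [smul_zero, smul_zero, map_zero]

theorem crep_pow19 (C : ℕ) (g : GL F9 F) (h : CRep ω h2 hω C g) :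
    CRep ω h2 hω (cpow19 C) (g ^ 19) := by
  unfold cpow19 csq
  simp only [kforceNat_eq]
  have e2 := crep_cmul ω h2 hω _ _ _ _ h h
  have e4 := crep_cmul ω h2 hω _ _ _ _ e2 e2
  have e8 := crep_cmul ω h2 hω _ _ _ _ e4 e4
  have e16 := crep_cmul ω h2 hω _ _ _ _ e8 e8
  have e3 := crep_cmul ω h2 hω _ _ _ _ e2 h
  have e19 := crep_cmul ω h2 hω _ _ _ _ e16 e3
  have p2 : g * g = g ^ 2 := (pow_two g).symm
  have p4 : g ^ 2 * g ^ 2 = g ^ 4 := (pow_add g 2 2).symm
  have p8 : g ^ 4 * g ^ 4 = g ^ 8 := (pow_add g 4 4).symm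
  have p16 : g ^ 8 * g ^ 8 = g ^ 16 := (pow_add g 8 8).symm
  have p3 : g ^ 2 * g = g ^ 3 := (pow_succ g 2).symm
  have p19 : g ^ 16 * g ^ 3 = g ^ 19 := (pow_add g 16 3).symm
  rw [p2, p4, p8, p16, p3, p19] at e19
  exact e19

/-- the matrix of a code whose nineteenth power is a scalar -/
theorem cgood19_pow (C : ℕ) (hC : cgood19 C = true) (g : GL F9 F) (h : CRep ω h2 hω C g) :
    ∃ μ : F, μ ≠ 0 ∧ ((g ^ 19 : GL F9 F) : Matrix F9 F9 F) = μ • (1 : Matrix F9 F9 F) := by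
  unfold cgood19 at hC
  rw [Bool.and_eq_true, kforceNat_eq, Bool.or_eq_true, Bool.or_eq_true] at hC
  have hr := crep_pow19 ω h2 hω C g h
  unfold CRep at hr
  rw [hr]
  rcases hC.1 with h1 | h1 | h1
  · rw [Nat.eq_of_beq_eq_true h1, cmF_cid]
    exact ⟨1, one_ne_zero, (one_smul _ _).symm⟩
  · rw [Nat.eq_of_beq_eq_true h1]
    show ∃ μ : F, μ ≠ 0 ∧ cmF ω h2 hω (cmulT (j3Tab16.getD 7 (0, 0)) cid) = _
    rw [cmF_cmulT ω h2 hω _ _ (j3Tab16_getD 7 (by norm_num)), cmF_cid, mul_one, j3Mat16_scal.1,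
      kmF_kscal]
    exact ⟨_, (map_ne_zero _).2 (by decide), rfl⟩
  · rw [Nat.eq_of_beq_eq_true h1]
    show ∃ μ : F, μ ≠ 0 ∧ cmF ω h2 hω (cmulT (j3Tab16.getD 15 (0, 0)) cid) = _
    rw [cmF_cmulT ω h2 hω _ _ (j3Tab16_getD 15 (by norm_num)), cmF_cid, mul_one, j3Mat16_scal.2,
      kmF_kscal]
    exact ⟨_, (map_ne_zero _).2 (by decide), rfl⟩

end

section
variable {F : Type} [Field F] [Fintype F] (ω : F)

/-- the matrix of a code moving the first coordinate line is not a scalar -/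
theorem cgood19_ne (h2 : (2 : F) = 0) (hω : ω * ω = ω + 1) (hF : Fintype.card F = 4)
    (C : ℕ) (hC : cgood19 C = true) (g : GL F9 F) (h : CRep ω h2 hω C g) (μ : F) (hμ : μ ≠ 0) :
    (g : Matrix F9 F9 F) ≠ μ • (1 : Matrix F9 F9 F) := by
  intro hg
  unfold cgood19 at hC
  rw [Bool.and_eq_true, kforceNat_eq, kforceNat_eq, Bool.and_eq_true] at hC
  have hy1 : kfirstN 9 (knormN j3Tw j3Tv (ccol C 0)) = 1 := Nat.eq_of_beq_eq_true hC.2.1
  have hy2 : knormN j3Tw j3Tv (ccol C 0) ≠ 1 := by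
    intro he
    have := hC.2.2
    rw [he] at this
    exact absurd this (by decide)
  have e1 := crep_mulVec ω h2 hω C g h 1
  rw [capp_one, hg, Matrix.smul_mulVec, Matrix.one_mulVec] at e1
  have hline : F ∙ kuF ω h2 hω 1 = F ∙ kuF ω h2 hω (ccol C 0) := by
    rw [← e1, Submodule.span_singleton_smul_eq (IsUnit.mk0 μ hμ)]
  rw [kline_norm ω h2 hω _ (ccol_lt _ _) hy1] at hline
  have hlt : knormN j3Tw j3Tv (ccol C 0) < 262144 := by
    have e : knormN j3Tw j3Tv (ccol C 0) = kkey (knorm (kvecOfKey (ccol C 0))) := by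
      rw [← knormN_kkey _ _ j3Tw_chk j3Tv_chk, kkey_kvecOfKey _ (ccol_lt _ _)]
    rw [e]
    exact kkey_lt _
  exact hy2 (kuF_line_inj ω h2 hω (toFHom_surjective ω h2 hω hF) _ _ (by decide) (by norm_num)
    hy1 hlt hline).symm

end

end Cfsg.Agent.Lib.helper4
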