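import Mathlib
import Cfsg.Agent.Lib.helper4.J3Ord
import Cfsg.Agent.Lib.helper4.IsolatedPrime

set_option autoImplicit false

/-! The centre of the triple cover of the third Janko group, and the simplicity and the order of
the quotient by the centre. -/

namespace Cfsg.Agent.Lib.helper4

open Cfsg.Agent.Lib.Lead.F4 Cfsg.Spor Matrix
open scoped MatrixGroups

theorem closure_subtype_top {A : Type*} [Group A] (H : Subgroup A) (S : Set A)
    (h : H = Subgroup.closure S) : Subgroup.closure {x : H | (x : A) ∈ S} = ⊤ := by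
  subst h
  exact Subgroup.closure_closure_coe_preimage

section
variable {F : Type} [Field F] [Fintype F] (ω : F)

omit [Fintype F] in
/-- scalars are central -/
theorem j3_scalar_central (c : threeJ3 F ω) (μ : F)
    (h : ((c : GL F9 F) : Matrix F9 F9 F) = μ • (1 : Matrix F9 F9 F)) :
    c ∈ Subgroup.center (threeJ3 F ω) := by
  rw [Subgroup.mem_center_iff]
  intro g
  apply Subtype.ext
  apply Units.ext
  rw [Subgroup.coe_mul, Subgroup.coe_mul, Units.val_mul, Units.val_mul, h, Matrix.mul_smul,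
    Matrix.smul_mul, mul_one, one_mul]

/-- central elements are scalars -/
theorem j3_central_scalar (h2 : (2 : F) = 0) (hω : ω * ω = ω + 1) (hF : Fintype.card F = 4)
    (c : threeJ3 F ω) (hc : c ∈ Subgroup.center (threeJ3 F ω)) :
    ∃ μ : F, μ ≠ 0 ∧ ((c : GL F9 F) : Matrix F9 F9 F) = μ • (1 : Matrix F9 F9 F) := by
  apply j3_scalar_of_comm ω h2 hω hF c.1 c.2
  intro g hg
  refine ⟨1, one_ne_zero, ?_⟩
  rw [one_smul]
  have h1 := Subgroup.mem_center_iff.1 hc ⟨g, hg⟩
  have h3 := congrArg (fun x : threeJ3 F ω => ((x : GL F9 F) : Matrix F9 F9 F)) h1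
  exact h3.symm

omit [Fintype F] in
theorem j3G_mem (h2 : (2 : F) = 0) (hω : ω * ω = ω + 1) (k : ℕ) (hk : k < 8) :
    j3G ω h2 hω k ∈ threeJ3 F ω := by
  rw [threeJ3_eq_top ω h2 hω]
  exact j3G_mem_top ω h2 hω k hk

omit [Fintype F] in
theorem j3G7_val (h2 : (2 : F) = 0) (hω : ω * ω = ω + 1) :
    (j3G ω h2 hω 7 : Matrix F9 F9 F) = ω • (1 : Matrix F9 F9 F) := by
  rw [j3G_val ω h2 hω 7 (by norm_num), j3Mat16_scal.1, kmF_kscal]
  rfl

/-- the centre is generated by the scalar `ω` -/
theorem j3_center_eq (h2 : (2 : F) = 0) (hω : ω * ω = ω + 1) (hF : Fintype.card F = 4) :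
    Subgroup.center (threeJ3 F ω) =
      Subgroup.zpowers (⟨j3G ω h2 hω 7, j3G_mem ω h2 hω 7 (by norm_num)⟩ : threeJ3 F ω) := by
  set zw : threeJ3 F ω := ⟨j3G ω h2 hω 7, j3G_mem ω h2 hω 7 (by norm_num)⟩ with hzw
  have hzv : ((zw : GL F9 F) : Matrix F9 F9 F) = ω • (1 : Matrix F9 F9 F) := j3G7_val ω h2 hω
  apply le_antisymm
  · intro c hc
    obtain ⟨μ, hμ, e⟩ := j3_central_scalar ω h2 hω hF c hc
    obtain ⟨t, rfl⟩ := toFHom_surjective ω h2 hω hF μ
    cases t
    · exact absurd (map_zero _) hμ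
    · have : c = 1 := by
        apply Subtype.ext
        apply Units.ext
        rw [e]
        show (1 : F) • (1 : Matrix F9 F9 F) = 1
        rw [one_smul]
      rw [this]
      exact Subgroup.one_mem _
    · have : c = zw := by
        apply Subtype.ext
        apply Units.ext
        rw [e, hzv]
        rfl
      rw [this]
      exact Subgroup.mem_zpowers _
    · have : c = zw ^ 2 := by
        apply Subtype.ext
        apply Units.ext
        rw [e, Subgroup.coe_pow, Units.val_pow_eq_pow_val, hzv, pow_two, Matrix.smul_mul,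
          Matrix.mul_smul, mul_one, smul_smul, hω]
        rfl
      rw [this]
      exact Subgroup.pow_mem _ (Subgroup.mem_zpowers _) 2
  · rw [Subgroup.zpowers_le]
    exact j3_scalar_central ω zw ω hzv

/-- the order of the centre -/
theorem j3_center_card (h2 : (2 : F) = 0) (hω : ω * ω = ω + 1) (hF : Fintype.card F = 4) :
    Nat.card (Subgroup.center (threeJ3 F ω)) = 3 := by
  rw [j3_center_eq ω h2 hω hF, Nat.card_zpowers]
  have : Fact (Nat.Prime 3) := ⟨Nat.prime_three⟩
  apply orderOf_eq_prime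
  · apply Subtype.ext
    apply Units.ext
    rw [Subgroup.coe_pow, Units.val_pow_eq_pow_val]
    show (j3G ω h2 hω 7 : Matrix F9 F9 F) ^ 3 = 1
    rw [j3G7_val ω h2 hω, smul_pow, one_pow]
    have : ω ^ 3 = 1 := by linear_combination (ω + 1) * hω + ω * h2
    rw [this, one_smul]
  · intro h
    have h1 := congrArg (fun x : threeJ3 F ω => ((x : GL F9 F) : Matrix F9 F9 F) (0, 0) (0, 0)) h
    change (j3G ω h2 hω 7 : Matrix F9 F9 F) (0, 0) (0, 0) = (1 : Matrix F9 F9 F) (0, 0) (0, 0) at h1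
    rw [j3G7_val ω h2 hω, Matrix.smul_apply, Matrix.one_apply_eq, smul_eq_mul, mul_one] at h1
    rw [h1] at hω
    have : (1 : F) = 0 := by linear_combination (-1 : F) * hω
    exact one_ne_zero this

/-- the order of the quotient -/
theorem j3_quot_card (h2 : (2 : F) = 0) (hω : ω * ω = ω + 1) (hF : Fintype.card F = 4) :
    Nat.card (J3 F ω) = 50232960 := by
  have h := Subgroup.card_eq_card_quotient_mul_card_subgroup (Subgroup.center (threeJ3 F ω))
  rw [threeJ3_card ω h2 hω hF, j3_center_card ω h2 hω hF] at h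
  unfold J3
  omega

/-- the centre of the quotient is trivial -/
theorem j3_quot_center (h2 : (2 : F) = 0) (hω : ω * ω = ω + 1) (hF : Fintype.card F = 4) :
    Subgroup.center (J3 F ω) = ⊥ := by
  rw [eq_bot_iff]
  intro x hx
  obtain ⟨c, rfl⟩ := QuotientGroup.mk_surjective x
  rw [Subgroup.mem_bot, QuotientGroup.eq_one_iff]
  obtain ⟨μ, hμ, e⟩ := j3_scalar_of_comm ω h2 hω hF c.1 c.2 (by
    intro g hg
    have h1 := Subgroup.mem_center_iff.1 hx (QuotientGroup.mk ⟨g, hg⟩)
    rw [← QuotientGroup.mk_mul, ← QuotientGroup.mk_mul, QuotientGroup.eq] at h1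
    obtain ⟨ν, hν, e⟩ := j3_central_scalar ω h2 hω hF _ h1
    refine ⟨ν, hν, ?_⟩
    have h3 : (c : GL F9 F) * g = (g * (c : GL F9 F)) * ((g * (c : GL F9 F))⁻¹ * ((c : GL F9 F) * g)) := by
      group
    have e' : (((g * (c : GL F9 F))⁻¹ * ((c : GL F9 F) * g) : GL F9 F) : Matrix F9 F9 F) =
        ν • (1 : Matrix F9 F9 F) := e
    rw [h3, Units.val_mul (g * (c : GL F9 F)), e', Matrix.mul_smul, mul_one])
  exact j3_scalar_central ω c μ e

/-- an element whose code passes the test has order nineteen in the quotient -/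
theorem j3_ord19 (h2 : (2 : F) = 0) (hω : ω * ω = ω + 1) (hF : Fintype.card F = 4)
    (C : ℕ) (hC : cgood19 C = true) (g : threeJ3 F ω) (h : CRep ω h2 hω C g.1) :
    orderOf (QuotientGroup.mk g : J3 F ω) = 19 := by
  have : Fact (Nat.Prime 19) := ⟨by norm_num⟩
  apply orderOf_eq_prime
  · rw [← QuotientGroup.mk_pow, QuotientGroup.eq_one_iff]
    obtain ⟨μ, hμ, e⟩ := cgood19_pow ω h2 hω C hC g.1 h
    exact j3_scalar_central ω (g ^ 19) μ (by rw [Subgroup.coe_pow]; exact e)
  · intro h1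
    rw [QuotientGroup.eq_one_iff] at h1
    obtain ⟨μ, hμ, e⟩ := j3_central_scalar ω h2 hω hF g h1
    exact cgood19_ne ω h2 hω hF C hC g.1 h μ hμ e

/-- the quotient is generated by its elements of order nineteen -/
theorem j3_quot_gen (h2 : (2 : F) = 0) (hω : ω * ω = ω + 1) (hF : Fintype.card F = 4) :
    Subgroup.closure {x : J3 F ω | orderOf x = 19} = ⊤ := by
  rw [eq_top_iff]
  rintro x -
  obtain ⟨g, rfl⟩ := QuotientGroup.mk_surjective x
  have hg : g ∈ Subgroup.closure {x : threeJ3 F ω |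
      (x : GL F9 F) ∈ {g : GL F9 F | ∃ l ∈ j3K1, g = j3G ω h2 hω l}} := by
    rw [closure_subtype_top _ _ (threeJ3_eq_top ω h2 hω)]
    trivial
  induction hg using Subgroup.closure_induction with
  | mem s hs =>
    obtain ⟨l, hl, e⟩ := hs
    obtain ⟨c, hc, rfl⟩ := j3Cert_all l hl
    obtain ⟨-, hw1, hw2, hprod, hg1, hg2⟩ := j3Cert_chk c hc
    have hmem : ∀ w, gword ω h2 hω w ∈ threeJ3 F ω := fun w =>
      gword_mem ω h2 hω _ (j3G_mem ω h2 hω) w
    have hs' : s = (⟨gword ω h2 hω c.2.1, hmem _⟩ : threeJ3 F ω) * ⟨gword ω h2 hω c.2.2, hmem _⟩ := by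
      apply Subtype.ext
      rw [Subgroup.coe_mul]
      show (s : GL F9 F) = gword ω h2 hω c.2.1 * gword ω h2 hω c.2.2
      rw [e, ← gword_append, ← gword_single ω h2 hω c.1 (j3K1_lt _ hl)]
      exact (gword_eq_of_code ω h2 hω _ _ hprod (by
        intro k hk
        rcases List.mem_append.1 hk with h | h
        · exact hw1 k h
        · exact hw2 k h) (by
        intro k hk
        rw [List.mem_singleton] at hk
        rw [hk]
        exact lt_trans (j3K1_lt _ hl) (by norm_num))).symm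
    rw [hs', QuotientGroup.mk_mul]
    apply Subgroup.mul_mem
    · exact Subgroup.subset_closure
        (j3_ord19 ω h2 hω hF _ hg1 _ (crep_word ω h2 hω _ hw1))
    · exact Subgroup.subset_closure
        (j3_ord19 ω h2 hω hF _ hg2 _ (crep_word ω h2 hω _ hw2))
  | one => exact Subgroup.one_mem _
  | mul a b _ _ ha hb =>
    rw [QuotientGroup.mk_mul]
    exact Subgroup.mul_mem _ ha hb
  | inv a _ ha =>
    rw [QuotientGroup.mk_inv]
    exact Subgroup.inv_mem _ ha

theorem j3_arith (q k : ℕ) (hq : q.Prime) (hk : 0 < k) (hdvd : q ^ k ∣ 2643840) :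
    ¬ (q ^ k ≡ 1 [MOD 19]) := by
  have hqd : q ∣ 2643840 := dvd_trans (dvd_pow_self q hk.ne') hdvd
  have hfac : (2643840 : ℕ) = 2 ^ 7 * 3 ^ 5 * 5 * 17 := by norm_num
  have hq4 : q = 2 ∨ q = 3 ∨ q = 5 ∨ q = 17 := by
    rw [hfac] at hqd
    rcases hq.dvd_mul.1 hqd with h | h
    · rcases hq.dvd_mul.1 h with h | h
      · rcases hq.dvd_mul.1 h with h | h
        · exact Or.inl ((Nat.prime_dvd_prime_iff_eq hq Nat.prime_two).1 (hq.dvd_of_dvd_pow h))
        · exact Or.inr (Or.inl
            ((Nat.prime_dvd_prime_iff_eq hq Nat.prime_three).1 (hq.dvd_of_dvd_pow h)))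
      · exact Or.inr (Or.inr (Or.inl
          ((Nat.prime_dvd_prime_iff_eq hq Nat.prime_five).1 h)))
    · exact Or.inr (Or.inr (Or.inr ((Nat.prime_dvd_prime_iff_eq hq (by norm_num)).1 h)))
  rcases hq4 with rfl | rfl | rfl | rfl
  · have hk7 : k ≤ 7 := by
      by_contra hlt
      have : 2 ^ 8 ∣ 2643840 := dvd_trans (Nat.pow_dvd_pow 2 (by omega)) hdvd
      exact absurd this (by norm_num)
    interval_cases k <;> decide
  · have hk5 : k ≤ 5 := by
      by_contra hlt
      have : 3 ^ 6 ∣ 2643840 := dvd_trans (Nat.pow_dvd_pow 3 (by omega)) hdvd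
      exact absurd this (by norm_num)
    interval_cases k <;> decide
  · have hk1 : k ≤ 1 := by
      by_contra hlt
      have : 5 ^ 2 ∣ 2643840 := dvd_trans (Nat.pow_dvd_pow 5 (by omega)) hdvd
      exact absurd this (by norm_num)
    interval_cases k <;> decide
  · have hk1 : k ≤ 1 := by
      by_contra hlt
      have : 17 ^ 2 ∣ 2643840 := dvd_trans (Nat.pow_dvd_pow 17 (by omega)) hdvd
      exact absurd this (by norm_num)
    interval_cases k <;> decide

/-- the quotient is simple -/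
theorem j3_simple (h2 : (2 : F) = 0) (hω : ω * ω = ω + 1) (hF : Fintype.card F = 4) :
    IsSimpleGroup (J3 F ω) := by
  have : Fact (Nat.Prime 19) := ⟨by norm_num⟩
  exact isSimpleGroup_of_isolated_prime 19 2643840
    (by rw [j3_quot_card ω h2 hω hF]) (by norm_num) (j3_quot_gen ω h2 hω hF)
    (j3_quot_center ω h2 hω hF) j3_arith

end

end Cfsg.Agent.Lib.helper4
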