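import Mathlib
import Cfsg.Agent.Lib.helper4.J3Final

set_option autoImplicit false

/-! Codes of matrices: different codes give different matrices; finite sets of elements closed
under products are subgroups. -/

namespace Cfsg.Agent.Lib.helper4

open Cfsg.Agent.Lib.Lead.F4 Cfsg.Spor Matrix
open scoped MatrixGroups

theorem kidx_surj (k : ℕ) (hk : k < 9) : ∃ z : F9, kidx z = k := by
  interval_cases k
  · exact ⟨(0, 0), rfl⟩
  · exact ⟨(0, 1), rfl⟩
  · exact ⟨(0, 2), rfl⟩
  · exact ⟨(1, 0), rfl⟩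
  · exact ⟨(1, 1), rfl⟩
  · exact ⟨(1, 2), rfl⟩
  · exact ⟨(2, 0), rfl⟩
  · exact ⟨(2, 1), rfl⟩
  · exact ⟨(2, 2), rfl⟩

theorem ccol_inj (A B : ℕ) (hA : A < 262144 ^ 9) (hB : B < 262144 ^ 9)
    (h : ∀ k, k < 9 → ccol A k = ccol B k) : A = B := by
  have e0 := h 0 (by norm_num)
  have e1 := h 1 (by norm_num)
  have e2 := h 2 (by norm_num)
  have e3 := h 3 (by norm_num)
  have e4 := h 4 (by norm_num)
  have e5 := h 5 (by norm_num)
  have e6 := h 6 (by norm_num)
  have e7 := h 7 (by norm_num)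
  have e8 := h 8 (by norm_num)
  simp only [ccol_eq] at e0 e1 e2 e3 e4 e5 e6 e7 e8
  norm_num at e0 e1 e2 e3 e4 e5 e6 e7 e8 hA hB
  omega

theorem cdec_inj (A B : ℕ) (hA : A < 262144 ^ 9) (hB : B < 262144 ^ 9) (h : cdec A = cdec B) :
    A = B := by
  apply ccol_inj A B hA hB
  intro k hk
  obtain ⟨z, rfl⟩ := kidx_surj k hk
  have h1 : kvecOfKey (ccol A (kidx z)) = kvecOfKey (ccol B (kidx z)) := by
    apply KVec.toFun_injective
    funext i
    have := congrFun (congrFun h i) z
    exact this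
  rw [← kkey_kvecOfKey _ (ccol_lt A (kidx z)), ← kkey_kvecOfKey _ (ccol_lt B (kidx z)), h1]

section
variable {F : Type} [Field F] (ω : F) (h2 : (2 : F) = 0) (hω : ω * ω = ω + 1)

theorem cmF_inj (A B : ℕ) (hA : A < 262144 ^ 9) (hB : B < 262144 ^ 9)
    (h : cmF ω h2 hω A = cmF ω h2 hω B) : A = B := by
  apply cdec_inj A B hA hB
  unfold cmF at h
  exact Matrix.map_injective (toFHom ω h2 hω).injective h

/-- the code of an element is unique -/
theorem crep_inj (A B : ℕ) (hA : A < 262144 ^ 9) (hB : B < 262144 ^ 9) (g : GL F9 F)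
    (ha : CRep ω h2 hω A g) (hb : CRep ω h2 hω B g) : A = B := by
  apply cmF_inj ω h2 hω A B hA hB
  rw [← ha, ← hb]

end

/-- a finite set closed under products and containing one is a subgroup -/
def finSubgroup {G : Type*} [Group G] [Finite G] (S : Set G) (h1 : (1 : G) ∈ S)
    (hm : ∀ a ∈ S, ∀ b ∈ S, a * b ∈ S) : Subgroup G where
  carrier := S
  mul_mem' := fun ha hb => hm _ ha _ hb
  one_mem' := h1
  inv_mem' := by
    intro a ha
    have hp : ∀ n : ℕ, a ^ n ∈ S := by
      intro n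
      induction n with
      | zero => rw [pow_zero]; exact h1
      | succ n ih => rw [pow_succ]; exact hm _ ih _ ha
    have : a⁻¹ = a ^ (orderOf a - 1) := by
      apply inv_eq_of_mul_eq_one_right
      rw [← pow_succ', Nat.sub_add_cancel (orderOf_pos a), pow_orderOf_eq_one]
    rw [this]
    exact hp _

theorem mem_finSubgroup {G : Type*} [Group G] [Finite G] (S : Set G) (h1 : (1 : G) ∈ S)
    (hm : ∀ a ∈ S, ∀ b ∈ S, a * b ∈ S) (g : G) : g ∈ finSubgroup S h1 hm ↔ g ∈ S := Iff.rfl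

end Cfsg.Agent.Lib.helper4
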