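import Mathlib
import Cfsg.Prelude.Def_Spor_J3
import Cfsg.Agent.Lib.Lead.F4c

set_option autoImplicit false

/-! The third Janko group over any field with four elements, in any universe, is a central
quotient of the triple cover over the concrete field with four elements. -/

namespace Cfsg.Agent.Lib.helper4

open Cfsg.Agent.Lib.Lead.F4 Cfsg.Spor Matrix
open scoped MatrixGroups

section
universe u
variable {F : Type u} [Field F] [Fintype F] (ω : F) (h2 : (2 : F) = 0) (hω : ω * ω = ω + 1)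

theorem toFHom_bij (hF : Fintype.card F = 4) : Function.Bijective (toFHom ω h2 hω) := by
  have hc : Fintype.card F4c = Fintype.card F := by rw [hF]; rfl
  exact (Fintype.bijective_iff_injective_and_card _).2 ⟨(toFHom ω h2 hω).injective, hc⟩

/-- the isomorphism of fields -/
noncomputable def jiE (hF : Fintype.card F = 4) : F4c ≃+* F :=
  RingEquiv.ofBijective (toFHom ω h2 hω) (toFHom_bij ω h2 hω hF)

theorem jiE_w (hF : Fintype.card F = 4) : jiE ω h2 hω hF F4c.w = ω := rfl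

theorem jiE_omegaPow (hF : Fintype.card F = 4) (n : ZMod 3) :
    jiE ω h2 hω hF (omegaPow F4c F4c.w n) = omegaPow F ω n := by
  unfold omegaPow
  rw [map_pow, jiE_w]

theorem jiE_A (hF : Fintype.card F = 4) (Z : F9) :
    (j3A F4c F4c.w Z).map (jiE ω h2 hω hF) = j3A F ω Z := by
  unfold j3A
  rw [Matrix.diagonal_map (map_zero _)]
  congr 1
  funext z
  exact jiE_omegaPow ω h2 hω hF _

theorem jiE_E (hF : Fintype.card F = 4) (Z : F9) :
    (j3E F4c F4c.w Z).map (jiE ω h2 hω hF) = j3E F ω Z := by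
  unfold j3E
  rw [Matrix.diagonal_map (map_zero _)]
  congr 1
  funext z
  exact jiE_omegaPow ω h2 hω hF _

theorem jiE_Lam (hF : Fintype.card F = 4) (Z z : F9) :
    jiE ω h2 hω hF (j3Lam F4c F4c.w Z z) = j3Lam F ω Z z := by
  unfold j3Lam
  split_ifs
  · exact map_one _
  · exact jiE_w ω h2 hω hF
  · rw [map_pow, jiE_w]
  · exact map_one _

theorem jiE_D (hF : Fintype.card F = 4) (Z : F9) :
    (j3D F4c F4c.w Z).map (jiE ω h2 hω hF) = j3D F ω Z := by
  ext i j
  unfold j3D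
  rw [Matrix.map_apply, Matrix.of_apply, Matrix.of_apply]
  split_ifs
  · exact jiE_Lam ω h2 hω hF _ _
  · exact map_zero _

theorem jiE_B (hF : Fintype.card F = 4) (Z : F9) :
    (j3B F4c Z).map (jiE ω h2 hω hF) = j3B F Z := by
  ext i j
  unfold j3B
  rw [Matrix.map_apply, Matrix.of_apply, Matrix.of_apply]
  split_ifs
  · exact map_one _
  · exact map_zero _

theorem jiE_C (hF : Fintype.card F = 4) (Z : F9) :
    (j3C F4c Z).map (jiE ω h2 hω hF) = j3C F Z := by
  ext i j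
  unfold j3C
  rw [Matrix.map_apply, Matrix.of_apply, Matrix.of_apply]
  split_ifs
  · exact map_one _
  · exact map_zero _
  · exact map_one _
  · exact map_zero _

/-- the generators correspond -/
theorem jiE_gens (hF : Fintype.card F = 4) (M : Matrix F9 F9 F4c) :
    M ∈ j3Gens F4c F4c.w ↔ M.map (jiE ω h2 hω hF) ∈ j3Gens F ω := by
  have hinj : Function.Injective (fun M : Matrix F9 F9 F4c => M.map (jiE ω h2 hω hF)) :=
    Matrix.map_injective (jiE ω h2 hω hF).injective
  unfold j3Gens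
  simp only [Set.mem_union, Set.mem_range, Set.mem_setOf_eq]
  constructor
  · rintro ((((⟨Z, rfl⟩ | ⟨Z, rfl⟩) | ⟨Z, rfl⟩) | ⟨Z, hZ, rfl⟩) | ⟨Z, hZ, rfl⟩)
    · exact Or.inl (Or.inl (Or.inl (Or.inl ⟨Z, (jiE_A ω h2 hω hF Z).symm⟩)))
    · exact Or.inl (Or.inl (Or.inl (Or.inr ⟨Z, (jiE_E ω h2 hω hF Z).symm⟩)))
    · exact Or.inl (Or.inl (Or.inr ⟨Z, (jiE_D ω h2 hω hF Z).symm⟩))
    · exact Or.inl (Or.inr ⟨Z, hZ, jiE_B ω h2 hω hF Z⟩)
    · exact Or.inr ⟨Z, hZ, jiE_C ω h2 hω hF Z⟩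
  · rintro ((((⟨Z, h⟩ | ⟨Z, h⟩) | ⟨Z, h⟩) | ⟨Z, hZ, h⟩) | ⟨Z, hZ, h⟩)
    · exact Or.inl (Or.inl (Or.inl (Or.inl ⟨Z, hinj (by
        show (j3A F4c F4c.w Z).map _ = M.map _
        rw [jiE_A, h])⟩)))
    · exact Or.inl (Or.inl (Or.inl (Or.inr ⟨Z, hinj (by
        show (j3E F4c F4c.w Z).map _ = M.map _
        rw [jiE_E, h])⟩)))
    · exact Or.inl (Or.inl (Or.inr ⟨Z, hinj (by
        show (j3D F4c F4c.w Z).map _ = M.map _
        rw [jiE_D, h])⟩))
    · exact Or.inl (Or.inr ⟨Z, hZ, hinj (by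
        show M.map _ = (j3B F4c Z).map _
        rw [jiE_B, h])⟩)
    · exact Or.inr ⟨Z, hZ, hinj (by
        show M.map _ = (j3C F4c Z).map _
        rw [jiE_C, h])⟩

/-- the isomorphism of general linear groups -/
noncomputable def jiGL (hF : Fintype.card F = 4) : GL F9 F4c ≃* GL F9 F :=
  Units.mapEquiv (RingEquiv.mapMatrix (jiE ω h2 hω hF)).toMulEquiv

theorem jiGL_val (hF : Fintype.card F = 4) (g : GL F9 F4c) :
    ((jiGL ω h2 hω hF g : GL F9 F) : Matrix F9 F9 F) =
      (g : Matrix F9 F9 F4c).map (jiE ω h2 hω hF) := rfl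

/-- the triple covers correspond -/
theorem jiGL_three (hF : Fintype.card F = 4) :
    (threeJ3 F4c F4c.w).map (jiGL ω h2 hω hF).toMonoidHom = threeJ3 F ω := by
  unfold threeJ3
  rw [MonoidHom.map_closure]
  congr 1
  ext g
  constructor
  · rintro ⟨g0, hg0, rfl⟩
    rw [Set.mem_setOf_eq] at hg0 ⊢
    exact (jiE_gens ω h2 hω hF _).1 hg0
  · intro hg
    rw [Set.mem_setOf_eq] at hg
    refine ⟨(jiGL ω h2 hω hF).symm g, ?_, (jiGL ω h2 hω hF).apply_symm_apply g⟩
    rw [Set.mem_setOf_eq, jiE_gens ω h2 hω hF, ← jiGL_val]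
    rw [MulEquiv.apply_symm_apply]
    exact hg

/-- the isomorphism of triple covers -/
noncomputable def jiThree (hF : Fintype.card F = 4) : threeJ3 F4c F4c.w ≃* threeJ3 F ω :=
  ((jiGL ω h2 hω hF).subgroupMap (threeJ3 F4c F4c.w)).trans
    (MulEquiv.subgroupCongr (jiGL_three ω h2 hω hF))

/-- the third Janko group as a quotient of the concrete triple cover -/
noncomputable def jiΨ (hF : Fintype.card F = 4) : threeJ3 F4c F4c.w →* J3 F ω :=
  (QuotientGroup.mk' (Subgroup.center (threeJ3 F ω))).comp (jiThree ω h2 hω hF).toMonoidHom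

theorem jiΨ_surj (hF : Fintype.card F = 4) : Function.Surjective (jiΨ ω h2 hω hF) := by
  unfold jiΨ
  intro y
  obtain ⟨x, rfl⟩ := QuotientGroup.mk'_surjective _ y
  obtain ⟨x0, rfl⟩ := (jiThree ω h2 hω hF).surjective x
  exact ⟨x0, rfl⟩

theorem jiΨ_ker (hF : Fintype.card F = 4) :
    (jiΨ ω h2 hω hF).ker = Subgroup.center (threeJ3 F4c F4c.w) := by
  ext x
  unfold jiΨ
  rw [MonoidHom.mem_ker, MonoidHom.comp_apply, QuotientGroup.mk'_apply,
    QuotientGroup.eq_one_iff, Subgroup.mem_center_iff, Subgroup.mem_center_iff]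
  constructor
  · intro h g
    have := h (jiThree ω h2 hω hF g)
    apply (jiThree ω h2 hω hF).injective
    rw [map_mul, map_mul]
    exact this
  · intro h g'
    obtain ⟨g, rfl⟩ := (jiThree ω h2 hω hF).surjective g'
    have := h g
    show (jiThree ω h2 hω hF) g * (jiThree ω h2 hω hF) x =
      (jiThree ω h2 hω hF) x * (jiThree ω h2 hω hF) g
    rw [← map_mul, ← map_mul, this]

end

end Cfsg.Agent.Lib.helper4
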