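import Mathlib
import Cfsg.Prelude.Def_Sporadic_a
import Cfsg.Agent.Lib.helper4.M23Gen

set_option autoImplicit false

namespace Cfsg.Agent.Lib.helper4

open Cfsg Cfsg.Agent.Lib.helper3

/-! ### Generation certificates by straight-line programs -/

/-- The transversal certificate for the levels `lo, …, n - 1` of a stabiliser chain. -/
def certGen (tabs pos : List (List ℕ)) (base orb : List ℕ) (lo n : ℕ) : Bool :=
  (List.range n).all fun i => (List.range 24).all fun q =>
    Nat.blt i lo || !(orb.getD i 0).testBit q ||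
      ((((tabs.getD ((pos.getD i []).getD q 0) []).length == 24) &&
        ((tabs.getD ((pos.getD i []).getD q 0) []).getD (base.getD i 0) 0 == q)) &&
        (List.range i).all fun j =>
          (tabs.getD ((pos.getD i []).getD q 0) []).getD (base.getD j 0) 0 == base.getD j 0)

theorem level_of_certGen (H : Subgroup (Equiv.Perm GolayPt)) (acc0 : List (List ℕ))
    (hacc : ∀ L ∈ acc0, RealIn H L) (prog : List (ℕ × ℕ)) (n0 : ℕ) (pos : List (List ℕ))
    (base orb : List ℕ) (lo n : ℕ) (hbase : ∀ j < n, base.getD j 0 < 24)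
    (hc : certGen (evalSLP prog n0 acc0) pos base orb lo n = true) :
    ∀ i < n, lo ≤ i → ∀ q < 24, (orb.getD i 0).testBit q = true →
      ∃ u ∈ H, (∀ j < i, u (gpt (base.getD j 0)) = gpt (base.getD j 0)) ∧
        u (gpt (base.getD i 0)) = gpt q := by
  intro i hi hlo q hq h
  unfold certGen at hc
  rw [List.all_eq_true] at hc
  have h1 := hc i (List.mem_range.2 hi)
  rw [List.all_eq_true] at h1
  have h2 := h1 q (List.mem_range.2 hq)
  rw [h] at h2
  have hb : Nat.blt i lo = false := by
    rw [← Bool.not_eq_true, Nat.blt_eq]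
    omega
  rw [hb] at h2
  simp only [Bool.not_true, Bool.false_or, Bool.and_eq_true, beq_iff_eq, List.all_eq_true,
    List.mem_range] at h2
  obtain ⟨⟨hlen, hq'⟩, hfix⟩ := h2
  set k := (pos.getD i []).getD q 0 with hk
  set L := (evalSLP prog n0 acc0).getD k [] with hL
  have hmem : L ∈ evalSLP prog n0 acc0 := by
    by_cases hk' : k < (evalSLP prog n0 acc0).length
    · rw [hL, List.getD_eq_getElem _ _ hk']
      exact List.getElem_mem hk'
    · exfalso
      rw [hL, List.getD_eq_default _ _ (by omega)] at hlen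
      simp at hlen
  obtain ⟨-, -, g, hg, hgf⟩ := realIn_evalSLP H prog n0 _ hacc L hmem
  refine ⟨g, hg, ?_, ?_⟩
  · intro j hj
    rw [hgf, tblFun_gpt (hbase j (by omega))]
    exact congrArg gpt (hfix j hj)
  · rw [hgf, tblFun_gpt (hbase i hi)]
    exact congrArg gpt hq'

theorem Kfix_le_of_level (H : Subgroup (Equiv.Perm GolayPt)) (hH : H ≤ M24) (lo : ℕ)
    (hlevel : ∀ i < 7, lo ≤ i → ∀ q < 24, (m24Orb.getD i 0).testBit q = true →
      ∃ u ∈ H, (∀ j < i, u (bpt j) = bpt j) ∧ u (bpt i) = gpt q) :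
    ∀ k : ℕ, k ≤ 7 - lo → ∀ g ∈ Kfix (7 - k), g ∈ H := by
  intro k
  induction k with
  | zero =>
    intro _ g hg
    rw [Nat.sub_zero, Kfix_seven, Subgroup.mem_bot] at hg
    rw [hg]
    exact H.one_mem
  | succ k ih =>
    intro hk g hg
    set i := 7 - (k + 1) with hi
    have hi7 : i < 7 := by omega
    have hilo : lo ≤ i := by omega
    have hsucc : 7 - k = i + 1 := by omega
    have horb : (g (bpt i)) ∈ MulAction.orbit (Kfix i) (bpt i) :=
      ⟨⟨g, hg⟩, rfl⟩
    rw [orbit_Kfix hi7, Finset.mem_coe, mem_gset] at horb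
    obtain ⟨u, hu, hufix, humap⟩ := hlevel i hi7 hilo _ (gidx_lt _) horb
    rw [gpt_gidx] at humap
    have huK : u ∈ Kfix i := mem_Kfix.mpr ⟨hH hu, hufix⟩
    have hnext : u⁻¹ * g ∈ Kfix (i + 1) := by
      rw [mem_Kfix_succ]
      refine ⟨(Kfix i).mul_mem ((Kfix i).inv_mem huK) hg, ?_⟩
      rw [Equiv.Perm.mul_apply, Equiv.Perm.inv_eq_iff_eq, humap]
    rw [← hsucc] at hnext
    have := ih (by omega) _ hnext
    have hgu : g = u * (u⁻¹ * g) := by group
    rw [hgu]
    exact H.mul_mem hu this

theorem realIn_tblOf (H : Subgroup (Equiv.Perm GolayPt)) {g : Equiv.Perm GolayPt} (hg : g ∈ H) :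
    RealIn H (tblOf g) :=
  ⟨tblOf_length g, tblOf_lt g, g, hg, fun p => by
    rw [← tblFun_bridge (tblOf_lt g), tblFun_tblOf]⟩

/-- Conjugating a generated subgroup by an involution. -/
theorem conj_closure_invol {t : Equiv.Perm GolayPt} (ht : t * t = 1)
    (S : Set (Equiv.Perm GolayPt)) :
    ∀ y ∈ Subgroup.closure ((fun s => t * s * t) '' S), t * y * t ∈ Subgroup.closure S := by
  have hinv : t⁻¹ = t := inv_eq_of_mul_eq_one_left ht
  intro y hy
  induction hy using Subgroup.closure_induction with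
  | mem x hx =>
    obtain ⟨s, hs, rfl⟩ := hx
    have e : t * (t * s * t) * t = (t * t) * s * (t * t) := by group
    rw [e, ht, one_mul, mul_one]
    exact Subgroup.subset_closure hs
  | one =>
    rw [mul_one, ht]
    exact Subgroup.one_mem _
  | mul x y _ _ ihx ihy =>
    have e : t * (x * y) * t = (t * x * t) * (t * y * t) := by
      have : (t * x * t) * (t * y * t) = t * x * (t * t) * y * t := by group
      rw [this, ht, mul_one]
      group
    rw [e]
    exact Subgroup.mul_mem _ ihx ihy
  | inv x _ ihx =>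
    have e : t * x⁻¹ * t = (t * x * t)⁻¹ := by
      rw [mul_inv_rev, mul_inv_rev, hinv, mul_assoc]
    rw [e]
    exact Subgroup.inv_mem _ ihx

/-- **Generation certificate**: an element of the group of the code whose conjugate under the
involution with table `T` fixes the first `lo` base points lies in the subgroup generated by the
permutations with the tables `gensL`. -/
theorem mem_closure_of_cert (T : List ℕ) (hT : Cfsg.Agent.Lib.Helper12.Golay.okK T = true)
    (hTT : compTbl T T = List.range 24) (gensL : List (List ℕ))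
    (hgens : ∀ L ∈ gensL, Cfsg.Agent.Lib.Helper12.Golay.okK L = true) (prog : List (ℕ × ℕ)) (n0 : ℕ) (pos : List (List ℕ))
    (lo : ℕ)
    (hcert : certGen (evalSLP prog n0 ((gensL.map fun L => compTbl (compTbl T L) T).reverse))
      pos m24Base m24Orb lo 7 = true)
    {x : Equiv.Perm GolayPt} (hx : x ∈ M24)
    (hfix : ∀ j < lo, (fperm T * x * fperm T) (bpt j) = bpt j) :
    x ∈ Subgroup.closure {g | ∃ L ∈ gensL, g = fperm L} := by
  have hvT := Cfsg.Agent.Lib.Helper12.Golay.okK_valid hT
  have htt : fperm T * fperm T = 1 := by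
    apply tblOf_injective
    rw [tblOf_mul, tblOf_fperm hvT, hTT, tblOf_one]
  set S : Set (Equiv.Perm GolayPt) := {g | ∃ L ∈ gensL, g = fperm L} with hS
  set H' := Subgroup.closure ((fun s => fperm T * s * fperm T) '' S) with hH'
  have hH'le : H' ≤ M24 := by
    rw [hH', Subgroup.closure_le]
    rintro _ ⟨s, ⟨L, hL, rfl⟩, rfl⟩
    exact M24.mul_mem (M24.mul_mem (fperm_mem hT) (fperm_mem (hgens L hL))) (fperm_mem hT)
  have hacc : ∀ L' ∈ (gensL.map fun L => compTbl (compTbl T L) T).reverse, RealIn H' L' := by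
    intro L' hL'
    rw [List.mem_reverse, List.mem_map] at hL'
    obtain ⟨L, hL, rfl⟩ := hL'
    have hvL := Cfsg.Agent.Lib.Helper12.Golay.okK_valid (hgens L hL)
    have e : compTbl (compTbl T L) T = tblOf (fperm T * fperm L * fperm T) := by
      rw [tblOf_mul, tblOf_mul, tblOf_fperm hvT, tblOf_fperm hvL]
    rw [e]
    apply realIn_tblOf
    exact Subgroup.subset_closure ⟨fperm L, ⟨L, hL, rfl⟩, rfl⟩
  have hlevel := level_of_certGen H' _ hacc prog n0 pos m24Base m24Orb lo 7
    (fun j _ => bIdx_lt j) hcert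
  have hK : fperm T * x * fperm T ∈ Kfix lo :=
    mem_Kfix.mpr ⟨M24.mul_mem (M24.mul_mem (fperm_mem hT) hx) (fperm_mem hT), hfix⟩
  have hlo : lo ≤ 7 ∨ 7 < lo := le_or_gt lo 7
  have h1 : fperm T * x * fperm T ∈ H' := by
    rcases hlo with hlo | hlo
    · have := Kfix_le_of_level H' hH'le lo hlevel (7 - lo) le_rfl (fperm T * x * fperm T)
      rw [Nat.sub_sub_self hlo] at this
      exact this hK
    · have h7 : fperm T * x * fperm T ∈ Kfix 7 := by
        rw [mem_Kfix] at hK ⊢
        exact ⟨hK.1, fun j hj => hK.2 j (by omega)⟩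
      rw [Kfix_seven, Subgroup.mem_bot] at h7
      rw [h7]
      exact H'.one_mem
  have h2 := conj_closure_invol htt S _ h1
  have e : fperm T * (fperm T * x * fperm T) * fperm T =
      (fperm T * fperm T) * x * (fperm T * fperm T) := by group
  rw [e, htt, one_mul, mul_one] at h2
  exact h2

end Cfsg.Agent.Lib.helper4
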