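import Mathlib
import Cfsg.Prelude.Def_Sporadic_a
import Cfsg.Prelude.Def_SporadicCombinatorics
import Cfsg.Prelude.Def_KGroupFacts
import Cfsg.Agent.Lib.helper4.OutM24B

set_option autoImplicit false

namespace Cfsg.Agent.Lib.helper4

open Cfsg
open scoped Pointwise
open Cfsg.Agent.Lib.Helper12.Golay

/-- **Every automorphism of the group of the length-24 code is inner.** -/
theorem aut24_inner (α : MulAut ↥M24) : ∃ g : ↥M24, α = MulAut.conj g := by
  haveI := finite_M24_sub
  obtain ⟨g, k, hA, hU⟩ := aut24_normalize α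
  set β : MulAut ↥M24 := MulAut.conj g * α with hβ
  obtain ⟨i, hi⟩ := image_of_rel β hU gW 10 gW_gU
  obtain ⟨l, hl⟩ := image_of_rel β hU gC 3 gC_gU
  have tA : tau (β gA) = Apows23.getD (k % 23) [] := by rw [hA, tau_gA_pow]
  have tW : tau (β gW) = compTbl tW24 (Upows11.getD (i % 11) []) := by
    rw [hi, tau_mul, tau_gW, tau_gU_pow]
  have tC : tau (β gC) = compTbl tC24 (Upows11.getD (l % 11) []) := by
    rw [hl, tau_mul, tau_gC, tau_gU_pow]
  have hk0 : k % 23 ≠ 0 := by
    intro h0
    apply gA_ne_one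
    have h1 : β gA = 1 := by
      apply tau_injective
      rw [tA, h0, tau_one, out24_basic.2.2.2.2.1]
      rfl
    have : β gA = β 1 := by rw [h1, map_one]
    exact β.injective this
  have hrel := relOK24_hom β.toMonoidHom
  have e0 : ∀ x, (β.toMonoidHom) x = β x := fun _ => rfl
  rw [e0, e0, e0, tA, tW, tC] at hrel
  have hc := cand24_check
  simp only [List.all_eq_true, List.mem_range] at hc
  have h5 := hc (k % 23) (Nat.mod_lt _ (by norm_num)) (i % 11) (Nat.mod_lt _ (by norm_num))
    (l % 11) (Nat.mod_lt _ (by norm_num))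
  rw [forceList_eq, forceList_eq, hrel] at h5
  simp only [Bool.not_true, Bool.or_false, Bool.or_eq_true, natBeq_iff, List.any_eq_true,
    List.mem_range, Bool.and_eq_true, beq_iff_eq] at h5
  rcases h5 with h5 | ⟨m, hm, ⟨e1, e2⟩, e3⟩
  · exact absurd h5 hk0
  have tUm : tau (gU ^ m) = Upows11.getD m [] := by rw [tau_gU_pow, Nat.mod_eq_of_lt hm]
  have hγA : β gA = MulAut.conj (gU ^ m) gA := by
    rw [MulAut.conj_apply, eq_mul_inv_iff_mul_eq]
    apply tau_injective
    rw [tau_mul, tau_mul, tA, tUm, tau_gA]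
    exact e1.symm
  have hγW : β gW = MulAut.conj (gU ^ m) gW := by
    rw [MulAut.conj_apply, eq_mul_inv_iff_mul_eq]
    apply tau_injective
    rw [tau_mul, tau_mul, tW, tUm, tau_gW]
    exact e2.symm
  have hγC : β gC = MulAut.conj (gU ^ m) gC := by
    rw [MulAut.conj_apply, eq_mul_inv_iff_mul_eq]
    apply tau_injective
    rw [tau_mul, tau_mul, tC, tUm, tau_gC]
    exact e3.symm
  have hβγ : β = MulAut.conj (gU ^ m) := aut_ext24 β _ hγA hγW hγC
  refine ⟨g⁻¹ * gU ^ m, ?_⟩
  rw [map_mul, ← hβγ, hβ, ← mul_assoc, map_inv, inv_mul_cancel, one_mul]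

/-- The outer automorphism group of the group of the length-24 code is trivial. -/
theorem out24_card : Nat.card (Cfsg.Out ↥M24) = 1 := by
  have h : Cfsg.Inn ↥M24 = ⊤ := by
    rw [eq_top_iff]
    intro α _
    obtain ⟨g, hg⟩ := aut24_inner α
    exact ⟨g, hg.symm⟩
  show (Cfsg.Inn ↥M24).index = 1
  rw [h, Subgroup.index_top]

end Cfsg.Agent.Lib.helper4
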