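import Mathlib
import Cfsg.Prelude.Def_Sporadic_a
import Cfsg.Prelude.Def_Spor_Mathieu
import Cfsg.Prelude.Def_KGroupFacts
import Cfsg.Agent.Lib.helper4.M23Gen
import Cfsg.Agent.Lib.helper4.OutM24C
import Cfsg.Agent.Lib.helper4.M24Stab

set_option autoImplicit false

namespace Cfsg.Agent.Lib.helper4

open Cfsg
open scoped Pointwise
open Cfsg.Agent.Lib.Helper12.Golay

/-! ### Every automorphism of the point stabiliser in the group of the length-24 code is inner -/

/-- Membership in a cyclic subgroup can be tested after an injective homomorphism. -/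
theorem zpowers_of_map {H G : Type*} [Group H] [Group G] (ι : H →* G)
    (hι : Function.Injective ι) {x y : H} (h : ι y ∈ Subgroup.zpowers (ι x)) :
    y ∈ Subgroup.zpowers x := by
  obtain ⟨k, hk⟩ := Subgroup.mem_zpowers_iff.mp h
  rw [← map_zpow] at hk
  rw [← hι hk]
  exact Subgroup.zpow_mem_zpowers x k

theorem map_mem_zpowers {H G : Type*} [Group H] [Group G] (ι : H →* G) {x y : H}
    (h : y ∈ Subgroup.zpowers x) : ι y ∈ Subgroup.zpowers (ι x) := by
  obtain ⟨k, hk⟩ := Subgroup.mem_zpowers_iff.mp h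
  rw [← hk, map_zpow]
  exact Subgroup.zpow_mem_zpowers _ k

/-- An element conjugating `u` like `y` does differs from `y` by a power of `u`, when `u`
generates its own centraliser. -/
theorem image_of_rel_gen {G : Type*} [Group G] [Finite G] (u : G)
    (hcent : ∀ x : G, x * u = u * x → x ∈ Subgroup.zpowers u)
    (β : MulAut G) (hβU : β u = u) (y : G) (e : ℕ)
    (hy : y * u = u ^ e * y) : ∃ i : ℕ, β y = y * u ^ i := by
  have h1 : β y * u = u ^ e * β y := by
    have := congrArg β hy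
    rwa [map_mul, map_mul, map_pow, hβU] at this
  have h2 : (y⁻¹ * β y) * u = u * (y⁻¹ * β y) := by
    have e1 : y⁻¹ * u ^ e = u * y⁻¹ := by
      rw [inv_mul_eq_iff_eq_mul, ← mul_assoc, hy, mul_inv_cancel_right]
    rw [mul_assoc, h1, ← mul_assoc, e1, mul_assoc]
  obtain ⟨i, hi⟩ := exists_pow_of_mem_zpowers (hcent _ h2)
  exact ⟨i, by rw [hi, mul_inv_cancel_left]⟩

/-- The inclusion of the point stabiliser. -/
def inc23 : ↥Cfsg.Spor.M23 →* ↥M24 := Subgroup.inclusion inf_le_left

theorem inc23_injective : Function.Injective inc23 := Subgroup.inclusion_injective _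

theorem fperm_fix_none {L : List ℕ} (hv : ValidT L) (h : L.getD 23 0 = 23) :
    fperm L none = none := by
  rw [fperm_apply hv]
  unfold tblFun
  have : idx (none : GolayPt) = 23 := rfl
  rw [this, h]
  rfl

theorem mem_SporM23 {L : List ℕ} (hok : okK L = true) (h : L.getD 23 0 = 23) :
    fperm L ∈ Cfsg.Spor.M23 := by
  refine Subgroup.mem_inf.mpr ⟨fperm_mem hok, ?_⟩
  rw [MulAction.mem_stabilizer_iff, Equiv.Perm.smul_def]
  exact fperm_fix_none (okK_valid hok) h

/-- The element `t ↦ t + 1`. -/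
noncomputable def hA : ↥Cfsg.Spor.M23 := ⟨fperm tA24, mem_SporM23 out24_basic.1 (by decide)⟩
/-- The element `t ↦ 2 t`. -/
noncomputable def hU : ↥Cfsg.Spor.M23 := ⟨fperm tU24, mem_SporM23 out24_basic.2.1 (by decide)⟩
/-- The cube twist. -/
noncomputable def hC : ↥Cfsg.Spor.M23 :=
  ⟨fperm tC24, mem_SporM23 out24_basic.2.2.2.1 (by decide)⟩

theorem inc23_hA : inc23 hA = gA := rfl
theorem inc23_hU : inc23 hU = gU := rfl
theorem inc23_hC : inc23 hC = gC := rfl

theorem card_SporM23 : Nat.card ↥Cfsg.Spor.M23 = 10200960 := by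
  have h : (MulAction.stabilizer ↥M24 (none : GolayPt)).map M24.subtype = Cfsg.Spor.M23 := by
    ext x
    rw [Subgroup.mem_map]
    constructor
    · rintro ⟨y, hy, rfl⟩
      refine Subgroup.mem_inf.mpr ⟨y.2, ?_⟩
      rw [MulAction.mem_stabilizer_iff] at hy ⊢
      exact hy
    · intro hx
      obtain ⟨h1, h2⟩ := Subgroup.mem_inf.mp hx
      refine ⟨⟨x, h1⟩, ?_, rfl⟩
      rw [MulAction.mem_stabilizer_iff] at h2 ⊢
      exact h2
  rw [← h, Subgroup.card_map_of_injective M24.subtype_injective, card_M23]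

theorem factorization_M23_23 : (Nat.card ↥Cfsg.Spor.M23).factorization 23 = 1 := by
  rw [card_SporM23]
  have h : 10200960 = 23 * 443520 := by norm_num
  rw [h, Nat.factorization_mul (by norm_num) (by norm_num), Finsupp.add_apply,
    Nat.Prime.factorization_self (by norm_num), Nat.factorization_eq_zero_of_not_dvd (by norm_num)]

theorem orderOf_hA : orderOf hA = 23 := by
  rw [← orderOf_injective inc23 inc23_injective, inc23_hA, orderOf_gA]

theorem norm23 (n : ↥Cfsg.Spor.M23) (h1 : n * hA * n⁻¹ ∈ Subgroup.zpowers hA)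
    (h2 : n ∉ Subgroup.zpowers hA) :
    ∃ m : ℕ, hA ^ m * n * (hA ^ m)⁻¹ ∈ Subgroup.zpowers hU := by
  have h1' : inc23 n * gA * (inc23 n)⁻¹ ∈ Subgroup.zpowers gA := by
    have := map_mem_zpowers inc23 h1
    rwa [map_mul, map_mul, map_inv, inc23_hA] at this
  have h2' : inc23 n ∉ Subgroup.zpowers gA := by
    intro h
    apply h2
    apply zpowers_of_map inc23 inc23_injective
    rwa [inc23_hA]
  obtain ⟨m, hm⟩ := norm24 (inc23 n) h1' h2'
  refine ⟨m, zpowers_of_map inc23 inc23_injective ?_⟩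
  rw [map_mul, map_mul, map_inv, map_pow, inc23_hA, inc23_hU]
  exact hm

theorem cent23 (x : ↥Cfsg.Spor.M23) (h : x * hU = hU * x) : x ∈ Subgroup.zpowers hU := by
  apply zpowers_of_map inc23 inc23_injective
  rw [inc23_hU]
  apply cent24
  have := congrArg inc23 h
  rwa [map_mul, map_mul, inc23_hU] at this

theorem hU_not_mem : hU ∉ Subgroup.zpowers hA := by
  intro h
  apply gU_not_mem
  have := map_mem_zpowers inc23 h
  rwa [inc23_hA, inc23_hU] at this

theorem hU_hA : hU * hA * hU⁻¹ = hA ^ 2 := by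
  apply inc23_injective
  rw [map_mul, map_mul, map_inv, map_pow, inc23_hA, inc23_hU]
  exact gU_gA

theorem hC_hU : hC * hU = hU ^ 3 * hC := by
  apply inc23_injective
  rw [map_mul, map_mul, map_pow, inc23_hC, inc23_hU]
  exact gC_gU

theorem rigid23 (j k : ℕ) (hk : hA ^ k ≠ 1) (hj : hU ^ j ≠ 1)
    (h : hU ^ j * hA ^ k * (hU ^ j)⁻¹ = (hA ^ k) ^ 2) : hU ^ j = hU := by
  apply inc23_injective
  rw [map_pow, inc23_hU]
  apply rigid24 j k
  · intro h0
    apply hk
    apply inc23_injective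
    rw [map_pow, inc23_hA, h0, map_one]
  · intro h0
    apply hj
    apply inc23_injective
    rw [map_pow, inc23_hU, h0, map_one]
  · have := congrArg inc23 h
    rwa [map_mul, map_mul, map_inv, map_pow, map_pow, map_pow, inc23_hA, inc23_hU] at this

/-- Up to an inner automorphism, an automorphism maps `hA` to a power and fixes `hU`. -/
theorem aut23_normalize (α : MulAut ↥Cfsg.Spor.M23) :
    ∃ (g : ↥Cfsg.Spor.M23) (k : ℕ),
      (MulAut.conj g * α) hA = hA ^ k ∧ (MulAut.conj g * α) hU = hU := by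
  haveI : Fact (Nat.Prime 23) := ⟨by norm_num⟩
  exact aut_normalize 23 hA hU 2 orderOf_hA factorization_M23_23 norm23 hU_not_mem hU_hA rigid23 α

/-- The table of an element of the point stabiliser. -/
def tau23 (x : ↥Cfsg.Spor.M23) : List ℕ := tau (inc23 x)

theorem tau23_mul (x y : ↥Cfsg.Spor.M23) : tau23 (x * y) = compTbl (tau23 x) (tau23 y) := by
  unfold tau23
  rw [map_mul, tau_mul]

theorem tau23_one : tau23 1 = List.range 24 := by
  unfold tau23
  rw [map_one, tau_one]

theorem tau23_injective : Function.Injective tau23 :=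
  fun _ _ h => inc23_injective (tau_injective h)

theorem tau23_pow (x : ↥Cfsg.Spor.M23) (n : ℕ) : tau23 (x ^ n) = powT (tau23 x) n :=
  powT_of_hom tau23 tau23_mul tau23_one x n

theorem tau23_hA_pow (i : ℕ) : tau23 (hA ^ i) = Apows23.getD (i % 23) [] := by
  unfold tau23
  rw [map_pow, inc23_hA, tau_gA_pow]

theorem tau23_hU_pow (i : ℕ) : tau23 (hU ^ i) = Upows11.getD (i % 11) [] := by
  unfold tau23
  rw [map_pow, inc23_hU, tau_gU_pow]

theorem tau23_hA : tau23 hA = tA24 := tau_gA
theorem tau23_hU : tau23 hU = tU24 := tau_gU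
theorem tau23_hC : tau23 hC = tC24 := tau_gC

/-- The relator tested on candidate images of the generators. -/
def relOK23 (A C : List ℕ) : Bool := isIdT (powT (compTbl A (compTbl C C)) 5)

set_option maxRecDepth 1000000 in
theorem cand23_check : (relOK23 tA24 tC24 && (List.range 23).all fun k => (List.range 11).all fun l =>
      forceList (compTbl tC24 (Upows11.getD l [])) fun C' =>
        Nat.beq k 0 || !relOK23 (Apows23.getD k []) C' ||
          (List.range 11).any fun m =>
            (compTbl (Upows11.getD m []) tA24 == compTbl (Apows23.getD k []) (Upows11.getD m [])) &&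
            (compTbl (Upows11.getD m []) tC24 == compTbl C' (Upows11.getD m []))) = true := by
  decide +kernel

theorem relOK23_hom (β : ↥Cfsg.Spor.M23 →* ↥Cfsg.Spor.M23) :
    relOK23 (tau23 (β hA)) (tau23 (β hC)) = true := by
  have h0 := cand23_check
  rw [Bool.and_eq_true] at h0
  have r1 := h0.1
  unfold relOK23 at r1 ⊢
  unfold isIdT at r1 ⊢
  rw [beq_iff_eq] at r1 ⊢
  have h1 : (hA * (hC * hC)) ^ 5 = 1 := by
    apply tau23_injective
    rw [tau23_pow, tau23_mul, tau23_mul, tau23_hA, tau23_hC, r1, tau23_one]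
  have h2 := congrArg β h1
  rw [map_pow, map_mul, map_mul, map_one] at h2
  rw [← tau23_mul, ← tau23_mul, ← tau23_pow, h2, tau23_one]

/-- Two automorphisms agreeing on the three generators are equal. -/
theorem aut_ext23 (β γ : MulAut ↥Cfsg.Spor.M23) (hA' : β hA = γ hA) (hU' : β hU = γ hU)
    (hC' : β hC = γ hC) : β = γ := by
  have key : ∀ y : Equiv.Perm GolayPt, y ∈ H23 →
      ∃ hy : y ∈ Cfsg.Spor.M23, β ⟨y, hy⟩ = γ ⟨y, hy⟩ := by
    intro y hy
    unfold H23 at hy
    induction hy using Subgroup.closure_induction with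
    | mem x hx =>
      rcases hx with rfl | rfl | rfl
      · exact ⟨hA.2, hA'⟩
      · exact ⟨hU.2, hU'⟩
      · exact ⟨hC.2, hC'⟩
    | one =>
      refine ⟨Cfsg.Spor.M23.one_mem, ?_⟩
      have : (⟨1, Cfsg.Spor.M23.one_mem⟩ : ↥Cfsg.Spor.M23) = 1 := rfl
      rw [this, map_one, map_one]
    | mul x y _ _ ihx ihy =>
      obtain ⟨hx, ex⟩ := ihx
      obtain ⟨hy, ey⟩ := ihy
      refine ⟨Cfsg.Spor.M23.mul_mem hx hy, ?_⟩
      have : (⟨x * y, Cfsg.Spor.M23.mul_mem hx hy⟩ : ↥Cfsg.Spor.M23) = ⟨x, hx⟩ * ⟨y, hy⟩ := rfl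
      rw [this, map_mul, map_mul, ex, ey]
    | inv x _ ihx =>
      obtain ⟨hx, ex⟩ := ihx
      refine ⟨Cfsg.Spor.M23.inv_mem hx, ?_⟩
      have : (⟨x⁻¹, Cfsg.Spor.M23.inv_mem hx⟩ : ↥Cfsg.Spor.M23) =
          (⟨x, hx⟩ : ↥Cfsg.Spor.M23)⁻¹ := rfl
      rw [this, map_inv, map_inv, ex]
  apply MulEquiv.ext
  intro x
  obtain ⟨hx, e⟩ := key x.1 (M23_le_H23 x.2)
  exact e

theorem hA_ne_one : hA ≠ 1 := by
  intro h
  apply gA_ne_one
  rw [← inc23_hA, h, map_one]

/-- **Every automorphism of the point stabiliser is inner.** -/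
theorem aut23_inner (α : MulAut ↥Cfsg.Spor.M23) : ∃ g : ↥Cfsg.Spor.M23, α = MulAut.conj g := by
  obtain ⟨g, k, hA', hU'⟩ := aut23_normalize α
  set β : MulAut ↥Cfsg.Spor.M23 := MulAut.conj g * α with hβ
  obtain ⟨l, hl⟩ := image_of_rel_gen hU cent23 β hU' hC 3 hC_hU
  have tA : tau23 (β hA) = Apows23.getD (k % 23) [] := by rw [hA', tau23_hA_pow]
  have tC : tau23 (β hC) = compTbl tC24 (Upows11.getD (l % 11) []) := by
    rw [hl, tau23_mul, tau23_hC, tau23_hU_pow]
  have hk0 : k % 23 ≠ 0 := by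
    intro h0
    apply hA_ne_one
    have h1 : β hA = 1 := by
      apply tau23_injective
      rw [tA, h0, tau23_one, out24_basic.2.2.2.2.1]
      rfl
    have : β hA = β 1 := by rw [h1, map_one]
    exact β.injective this
  have hrel := relOK23_hom β.toMonoidHom
  have e0 : ∀ x, (β.toMonoidHom) x = β x := fun _ => rfl
  rw [e0, e0, tA, tC] at hrel
  have hc := cand23_check
  rw [Bool.and_eq_true] at hc
  have hc2 := hc.2
  simp only [List.all_eq_true, List.mem_range] at hc2
  have h5 := hc2 (k % 23) (Nat.mod_lt _ (by norm_num)) (l % 11) (Nat.mod_lt _ (by norm_num))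
  rw [forceList_eq, hrel] at h5
  simp only [Bool.not_true, Bool.or_false, Bool.or_eq_true, natBeq_iff, List.any_eq_true,
    List.mem_range, Bool.and_eq_true, beq_iff_eq] at h5
  rcases h5 with h5 | ⟨m, hm, e1, e3⟩
  · exact absurd h5 hk0
  have tUm : tau23 (hU ^ m) = Upows11.getD m [] := by rw [tau23_hU_pow, Nat.mod_eq_of_lt hm]
  have hγA : β hA = MulAut.conj (hU ^ m) hA := by
    rw [MulAut.conj_apply, eq_mul_inv_iff_mul_eq]
    apply tau23_injective
    rw [tau23_mul, tau23_mul, tA, tUm, tau23_hA]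
    exact e1.symm
  have hγC : β hC = MulAut.conj (hU ^ m) hC := by
    rw [MulAut.conj_apply, eq_mul_inv_iff_mul_eq]
    apply tau23_injective
    rw [tau23_mul, tau23_mul, tC, tUm, tau23_hC]
    exact e3.symm
  have hγU : β hU = MulAut.conj (hU ^ m) hU := by
    rw [MulAut.conj_apply, hU', ← pow_succ, pow_succ', mul_inv_cancel_right]
  have hβγ : β = MulAut.conj (hU ^ m) := aut_ext23 β _ hγA hγU hγC
  refine ⟨g⁻¹ * hU ^ m, ?_⟩
  rw [map_mul, ← hβγ, hβ, ← mul_assoc, map_inv, inv_mul_cancel, one_mul]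

/-- The outer automorphism group of the point stabiliser is trivial. -/
theorem out23_card : Nat.card (Cfsg.Out ↥Cfsg.Spor.M23) = 1 := by
  have h : Cfsg.Inn ↥Cfsg.Spor.M23 = ⊤ := by
    rw [eq_top_iff]
    intro α _
    obtain ⟨g, hg⟩ := aut23_inner α
    exact ⟨g, hg.symm⟩
  show (Cfsg.Inn ↥Cfsg.Spor.M23).index = 1
  rw [h, Subgroup.index_top]

end Cfsg.Agent.Lib.helper4
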