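import Mathlib
import Cfsg.Prelude.Def_Sporadic_a
import Cfsg.Prelude.Def_Spor_Mathieu
import Cfsg.Prelude.Def_KGroupFacts
import Cfsg.Agent.Lib.helper4.OutMatCov0
import Cfsg.Agent.Lib.helper4.OutMatCov3
import Cfsg.Agent.Lib.helper4.OutM23

set_option autoImplicit false

namespace Cfsg.Agent.Lib.helper4

open Cfsg
open scoped Pointwise
open Cfsg.Agent.Lib.Helper12.Golay

/-! ### The normaliser of `⟨gU⟩` and the centraliser of `gC` in the group of the code -/

theorem gC_pow : gC ^ 5 = 1 := by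
  apply tau_injective
  rw [tau_pow, tau_gC, outmat_basic.2.1, tau_one]

theorem gC_ne_one : gC ≠ 1 := by
  intro h
  apply outmat_basic.2.2.1
  rw [← tau_gC, h, tau_one]

theorem orderOf_gC : orderOf gC = 5 := by
  haveI : Fact (Nat.Prime 5) := ⟨by norm_num⟩
  exact orderOf_eq_prime gC_pow gC_ne_one

theorem tau_gC_pow (i : ℕ) : tau (gC ^ i) = Cpows5.getD (i % 5) [] := by
  have h : gC ^ i = gC ^ (i % 5) := by
    rw [← orderOf_gC]
    exact (pow_mod_orderOf gC i).symm
  have hlt : i % 5 < 5 := Nat.mod_lt _ (by norm_num)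
  rw [h, tau_pow, tau_gC, outmat_basic.1,
    List.getD_eq_getElem _ _ (by simpa using hlt), List.getElem_map, List.getElem_range]

theorem mem_Cpows5 {T : List ℕ} (h : T ∈ Cpows5) : ∃ i : ℕ, T = tau (gC ^ i) := by
  rw [outmat_basic.1, List.mem_map] at h
  obtain ⟨i, -, rfl⟩ := h
  exact ⟨i, by rw [tau_pow, tau_gC]⟩

theorem gW_sq : gW * gW = 1 := by
  apply tau_injective
  rw [tau_mul, tau_gW, outmat_basic.2.2.2.1, tau_one]

theorem gW_gC : gW * gC = gC * gW := by
  apply tau_injective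
  rw [tau_mul, tau_mul, tau_gW, tau_gC]
  exact outmat_basic.2.2.2.2.1

theorem gW_ne_one : gW ≠ 1 := by
  intro h
  apply outmat_basic.2.2.2.2.2.2.2.2.2.2.2
  rw [← tau_gW, h, tau_one]

theorem gU_pow_mod (i : ℕ) : gU ^ i = gU ^ (i % 11) := by
  rw [← orderOf_gU]
  exact (pow_mod_orderOf gU i).symm

theorem gC_pow_mod (i : ℕ) : gC ^ i = gC ^ (i % 5) := by
  rw [← orderOf_gC]
  exact (pow_mod_orderOf gC i).symm

theorem gW_pow_mod (i : ℕ) : gW ^ i = gW ^ (i % 2) := by
  conv_lhs => rw [← Nat.div_add_mod i 2]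
  rw [pow_add, pow_mul, pow_two, gW_sq, one_pow, one_mul]

/-- The normaliser of `⟨gU⟩` is generated by `gW`, `gC` and `gU`. -/
theorem normU24 (n : ↥M24) (h : n * gU * n⁻¹ ∈ Subgroup.zpowers gU) :
    ∃ (ε j i : ℕ), n = gW ^ ε * gC ^ j * gU ^ i := by
  haveI := finite_M24_sub
  obtain ⟨s0, hs0⟩ := exists_pow_of_mem_zpowers h
  set s := s0 % 11 with hs
  have hslt : s < 11 := Nat.mod_lt _ (by norm_num)
  have hs0' : gU ^ s = n * gU * n⁻¹ := by rw [hs, ← gU_pow_mod, hs0]
  have hsne : s ≠ 0 := by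
    intro h0
    rw [h0, pow_zero] at hs0'
    apply gU_ne_one
    have : gU = n⁻¹ * (n * gU * n⁻¹) * n := by group
    rw [this, ← hs0']
    group
  have hc := normU_check
  rw [List.all_eq_true] at hc
  have h1 := hc s (List.mem_range.mpr hslt)
  simp only [Bool.or_eq_true, natBeq_iff, List.any_eq_true, List.mem_range] at h1
  rcases h1 with h1 | ⟨ε, -, j, -, h1⟩
  · exact absurd h1 hsne
  rw [forceList_eq, eqL_iff] at h1
  obtain ⟨y, hy⟩ : ∃ y : ↥M24, y = gW ^ ε * gC ^ j := ⟨_, rfl⟩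
  have hty : tau y = compTbl (powT tW24 ε) (powT tC24 j) := by
    rw [hy, tau_mul, tau_pow, tau_pow, tau_gW, tau_gC]
  have hyU : y * gU = gU ^ s * y := by
    apply tau_injective
    rw [tau_mul, tau_mul, hty, tau_gU, tau_gU_pow, Nat.mod_eq_of_lt hslt]
    exact h1
  have hnU : n * gU = gU ^ s * n := by rw [hs0']; group
  have hyinv : y⁻¹ * gU ^ s = gU * y⁻¹ := by
    rw [inv_mul_eq_iff_eq_mul, ← mul_assoc, hyU, mul_inv_cancel_right]
  have hz : (y⁻¹ * n) * gU = gU * (y⁻¹ * n) := by
    rw [mul_assoc, hnU, ← mul_assoc, hyinv, mul_assoc]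
  obtain ⟨i, hi⟩ := exists_pow_of_mem_zpowers (cent24 _ hz)
  refine ⟨ε, j, i, ?_⟩
  rw [← hy, hi, mul_inv_cancel_left]

theorem tblOf_getD_inj (g : Equiv.Perm GolayPt) {i j : ℕ} (hi : i < 24) (hj : j < 24)
    (h : (tblOf g).getD i 0 = (tblOf g).getD j 0) : i = j := by
  rw [tblOf_getD g hi, tblOf_getD g hj] at h
  exact pt_injOn hi hj (g.injective (idx_injective h))

theorem commC_iff (T : List ℕ) : commC T = true ↔
    ∀ i < 24, T.getD (tC24.getD i 0) 0 = tC24.getD (T.getD i 0) 0 := by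
  unfold commC
  rw [List.all_eq_true]
  constructor
  · intro h i hi
    exact natBeq_iff.mp (h i (List.mem_range.mpr hi))
  · intro h i hi
    exact natBeq_iff.mpr (h i (List.mem_range.mp hi))

theorem tC24_lt : ∀ x < 24, tC24.getD x 0 < 24 := by decide

theorem commCHK_eq (H K : List ℕ) : commCHK H K = commC (compTbl H K) := by
  unfold commCHK commC
  rw [Bool.eq_iff_iff, List.all_eq_true, List.all_eq_true]
  constructor
  · intro h i hi
    have hi' := List.mem_range.mp hi
    rw [compTbl_getD _ _ (tC24_lt i hi'), compTbl_getD _ _ hi']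
    exact h i hi
  · intro h i hi
    have hi' := List.mem_range.mp hi
    have := h i hi
    rwa [compTbl_getD _ _ (tC24_lt i hi'), compTbl_getD _ _ hi'] at this

/-- The elements commuting with the cube twist that map `0` to `f`, from a cover table. -/
theorem cent_of_cov (f : ℕ) (tab : List (List ℕ)) (hok : cCovOK f tab = true)
    {g : Equiv.Perm GolayPt} (hg : g ∈ M24) (hcomm : commC (tblOf g) = true)
    (hf : (tblOf g).getD 0 0 = f) : tblOf g ∈ C60 := by
  set T := tblOf g with hT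
  have hint := (commC_iff T).mp hcomm
  obtain ⟨-, -, -, -, -, -, -, c0, c12, c8, c14, -⟩ := outmat_basic
  have hTlt : ∀ i, T.getD i 0 < 24 := fun i => getD_lt_of_valid (tblOf_lt g) i
  have h16 : T.getD 16 0 = tC24.getD (tC24.getD (T.getD 12 0) 0) 0 := by
    have h1 := hint 12 (by norm_num)
    have h2 := hint 8 (by norm_num)
    rw [c12] at h1
    rw [c8, h1] at h2
    exact h2
  have h17 : T.getD 17 0 = tC24.getD (T.getD 14 0) 0 := by
    have h1 := hint 14 (by norm_num)
    rw [c14] at h1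
    exact h1
  have hne : ∀ i < 24, ∀ j < 24, i ≠ j → Nat.beq (T.getD i 0) (T.getD j 0) = false := by
    intro i hi j hj hij
    rw [← Bool.not_eq_true, natBeq_iff]
    exact fun h => hij (tblOf_getD_inj g hi hj h)
  unfold cCovOK at hok
  simp only [List.all_eq_true, List.mem_range] at hok
  have h5 := hok (T.getD 12 0) (hTlt 12) (T.getD 14 0) (hTlt 14)
  rw [forceList_eq, ← h16, ← h17, ← hf] at h5
  have hd : distinct5 (T.getD 0 0) (T.getD 12 0) (T.getD 14 0) (T.getD 16 0) (T.getD 17 0) = true := by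
    unfold distinct5
    rw [hne 0 (by norm_num) 12 (by norm_num) (by norm_num),
      hne 0 (by norm_num) 14 (by norm_num) (by norm_num),
      hne 0 (by norm_num) 16 (by norm_num) (by norm_num),
      hne 0 (by norm_num) 17 (by norm_num) (by norm_num),
      hne 12 (by norm_num) 14 (by norm_num) (by norm_num),
      hne 12 (by norm_num) 16 (by norm_num) (by norm_num),
      hne 12 (by norm_num) 17 (by norm_num) (by norm_num),
      hne 14 (by norm_num) 16 (by norm_num) (by norm_num),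
      hne 14 (by norm_num) 17 (by norm_num) (by norm_num),
      hne 16 (by norm_num) 17 (by norm_num) (by norm_num)]
    rfl
  rw [hd] at h5
  simp only [Bool.not_true, Bool.false_or, Bool.and_eq_true, natBeq_iff, List.all_eq_true] at h5
  obtain ⟨⟨⟨⟨⟨⟨hokH, e0⟩, e12⟩, e14⟩, e16⟩, e17⟩, hK⟩ := h5
  set H := tab.getD (T.getD 12 0 * 24 + T.getD 14 0) [] with hH
  obtain ⟨K, hKm, e⟩ := enum5 hg hokH (by
    intro j hj
    have : g (pt (b5 j)) = pt (T.getD (b5 j) 0) := by
      rw [hT, tblOf_getD _ (b5_lt j), pt_idx]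
    rw [this]
    interval_cases j
    · show pt (T.getD 0 0) = pt (H.getD 0 0)
      rw [e0]
    · show pt (T.getD 12 0) = pt (H.getD 12 0)
      rw [e12]
    · show pt (T.getD 14 0) = pt (H.getD 14 0)
      rw [e14]
    · show pt (T.getD 16 0) = pt (H.getD 16 0)
      rw [e16]
    · show pt (T.getD 17 0) = pt (H.getD 17 0)
      rw [e17])
  have h7 := hK K hKm
  rw [commCHK_eq, ← e, hcomm] at h7
  simpa using h7

/-- The elements commuting with the cube twist, among those mapping `0` to `0` or `3`. -/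
theorem cent24C (x : ↥M24) (h : x * gC = gC * x)
    (h0 : (tau x).getD 0 0 = 0 ∨ (tau x).getD 0 0 = 3) : tau x ∈ C60 := by
  have hint := intertwine_tau h
  rw [tau_gC] at hint
  have hcomm : commC (tau x) = true := (commC_iff _).mpr hint
  rcases h0 with h0 | h0
  · exact cent_of_cov 0 cCov0 cCov0_ok x.2 hcomm h0
  · exact cent_of_cov 3 cCov3 cCov3_ok x.2 hcomm h0

end Cfsg.Agent.Lib.helper4
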