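import Mathlib
import Cfsg.Prelude.Def_Sporadic_a
import Cfsg.Prelude.Def_Spor_Mathieu
import Cfsg.Prelude.Def_KGroupFacts
import Cfsg.Agent.Lib.helper4.OutMat

set_option autoImplicit false

namespace Cfsg.Agent.Lib.helper4

open Cfsg
open scoped Pointwise
open Cfsg.Agent.Lib.Helper12.Golay

/-! ### Automorphisms of subgroups of the group of the code containing `gU` and `gC` -/

section Sub

variable {G : Subgroup (Equiv.Perm GolayPt)}

/-- The table of an element of a subgroup of the symmetric group. -/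
def tauS (x : ↥G) : List ℕ := tblOf (x : Equiv.Perm GolayPt)

theorem tauS_mul (x y : ↥G) : tauS (x * y) = compTbl (tauS x) (tauS y) := tblOf_mul _ _

theorem tauS_one : tauS (1 : ↥G) = List.range 24 := tblOf_one

theorem tauS_injective : Function.Injective (tauS (G := G)) :=
  fun _ _ h => Subtype.ext (tblOf_injective h)

theorem tauS_pow (x : ↥G) (n : ℕ) : tauS (x ^ n) = powT (tauS x) n :=
  powT_of_hom tauS tauS_mul tauS_one x n

/-- The inclusion into the group of the code. -/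
def incS (hG : G ≤ M24) : ↥G →* ↥M24 := Subgroup.inclusion hG

theorem incS_injective (hG : G ≤ M24) : Function.Injective (incS hG) :=
  Subgroup.inclusion_injective _

theorem tau_incS (hG : G ≤ M24) (x : ↥G) : tau (incS hG x) = tauS x := rfl

/-- The element of the subgroup with a given table. -/
noncomputable def mkS (L : List ℕ) (h : fperm L ∈ G) : ↥G := ⟨fperm L, h⟩

theorem tauS_mkS {L : List ℕ} (hv : ValidT L) (h : fperm L ∈ G) : tauS (mkS L h) = L :=
  tblOf_fperm hv

theorem incS_mkU (hG : G ≤ M24) (hu : fperm tU24 ∈ G) : incS hG (mkS tU24 hu) = gU := rfl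

theorem incS_mkC (hG : G ≤ M24) (hc : fperm tC24 ∈ G) : incS hG (mkS tC24 hc) = gC := rfl

theorem coe_gW : ((gW : ↥M24) : Equiv.Perm GolayPt) = fperm tW24 := rfl
theorem coe_gC : ((gC : ↥M24) : Equiv.Perm GolayPt) = fperm tC24 := rfl
theorem coe_gU : ((gU : ↥M24) : Equiv.Perm GolayPt) = fperm tU24 := rfl

theorem orderOf_mkU (hG : G ≤ M24) (hu : fperm tU24 ∈ G) : orderOf (mkS tU24 hu) = 11 := by
  rw [← orderOf_injective (incS hG) (incS_injective hG), incS_mkU, orderOf_gU]

theorem normS (hG : G ≤ M24) (hu : fperm tU24 ∈ G) (hc : fperm tC24 ∈ G) (hw : fperm tW24 ∉ G)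
    (n : ↥G) (h1 : n * mkS tU24 hu * n⁻¹ ∈ Subgroup.zpowers (mkS tU24 hu))
    (h2 : n ∉ Subgroup.zpowers (mkS tU24 hu)) :
    ∃ m : ℕ, mkS tU24 hu ^ m * n * (mkS tU24 hu ^ m)⁻¹ ∈ Subgroup.zpowers (mkS tC24 hc) := by
  haveI := finite_M24_sub
  have h1' : incS hG n * gU * (incS hG n)⁻¹ ∈ Subgroup.zpowers gU := by
    have := map_mem_zpowers (incS hG) h1
    rwa [map_mul, map_mul, map_inv, incS_mkU] at this
  obtain ⟨ε, j, i, hn⟩ := normU24 (incS hG n) h1'
  rw [gW_pow_mod ε] at hn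
  have hε : ε % 2 = 0 := by
    by_contra hne
    have h1 : ε % 2 = 1 := by omega
    rw [h1, pow_one] at hn
    apply hw
    have e : (fperm tW24 : Equiv.Perm GolayPt) =
        (n : Equiv.Perm GolayPt) * (fperm tC24 ^ j * fperm tU24 ^ i)⁻¹ := by
      have := congrArg (Subtype.val : ↥M24 → Equiv.Perm GolayPt) hn
      rw [Subgroup.coe_mul, Subgroup.coe_mul, Subgroup.coe_pow, Subgroup.coe_pow, coe_gW, coe_gC,
        coe_gU] at this
      have h3 : ((incS hG n : ↥M24) : Equiv.Perm GolayPt) = (n : Equiv.Perm GolayPt) := rfl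
      rw [h3] at this
      rw [this]
      group
    rw [e]
    exact G.mul_mem n.2 (G.inv_mem (G.mul_mem (G.pow_mem hc j) (G.pow_mem hu i)))
  rw [hε, pow_zero, one_mul, gC_pow_mod j, gU_pow_mod i] at hn
  have hj : j % 5 ≠ 0 := by
    intro h0
    rw [h0, pow_zero, one_mul] at hn
    apply h2
    apply zpowers_of_map (incS hG) (incS_injective hG)
    rw [hn, incS_mkU]
    exact Subgroup.pow_mem _ (Subgroup.mem_zpowers gU) _
  have hc5 := frob_check
  simp only [List.all_eq_true, List.mem_range] at hc5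
  have h5 := hc5 (j % 5) (Nat.mod_lt _ (by norm_num)) (i % 11) (Nat.mod_lt _ (by norm_num))
  simp only [Bool.or_eq_true, natBeq_iff, List.any_eq_true, List.mem_range,
    List.contains_iff_mem] at h5
  rcases h5 with h5 | ⟨m, hm, h5⟩
  · exact absurd h5 hj
  obtain ⟨l, hl⟩ := mem_Cpows5 h5
  refine ⟨m, zpowers_of_map (incS hG) (incS_injective hG) ?_⟩
  rw [map_mul, map_mul, map_inv, map_pow, incS_mkU, incS_mkC, hn]
  have hinv : (gU ^ m)⁻¹ = gU ^ (11 - m) := by
    rw [inv_eq_iff_mul_eq_one, ← pow_add, Nat.add_sub_cancel' hm.le, gU_pow]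
  have e : gU ^ m * gC ^ (j % 5) * gU ^ (i % 11) * (gU ^ m)⁻¹ = gC ^ l := by
    apply tau_injective
    rw [hinv, tau_mul, tau_mul, tau_mul, tau_gU_pow m, tau_gU_pow (11 - m), tau_gU_pow (i % 11),
      tau_gC_pow (j % 5), Nat.mod_eq_of_lt hm, Nat.mod_mod, Nat.mod_mod, ← hl]
  rw [← mul_assoc (gU ^ m), e]
  exact Subgroup.pow_mem _ (Subgroup.mem_zpowers gC) l

end Sub

end Cfsg.Agent.Lib.helper4
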