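import Mathlib
import Cfsg.Prelude.Def_Sporadic_a
import Cfsg.Prelude.Def_Spor_Mathieu
import Cfsg.Prelude.Def_KGroupFacts
import Cfsg.Agent.Lib.helper4.OutMatB

set_option autoImplicit false

namespace Cfsg.Agent.Lib.helper4

open Cfsg
open scoped Pointwise
open Cfsg.Agent.Lib.Helper12.Golay

section Sub

variable {G : Subgroup (Equiv.Perm GolayPt)}

theorem mkC_not_mem (hG : G ≤ M24) (hu : fperm tU24 ∈ G) (hc : fperm tC24 ∈ G) :
    mkS tC24 hc ∉ Subgroup.zpowers (mkS tU24 hu) := by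
  haveI := finite_M24_sub
  intro h
  have h1 := map_mem_zpowers (incS hG) h
  rw [incS_mkU, incS_mkC] at h1
  obtain ⟨k, hk⟩ := exists_pow_of_mem_zpowers h1
  have h2 : tC24 ∈ Upows11 := by
    rw [← tau_gC, ← hk, tau_gU_pow k, out24_basic.2.2.2.2.2.1]
    have hlt : k % 11 < 11 := Nat.mod_lt _ (by norm_num)
    rw [List.getD_eq_getElem _ _ (by simpa using hlt)]
    exact List.getElem_mem _
  rw [← List.contains_iff_mem, outmat_basic.2.2.2.2.2.1] at h2
  exact Bool.false_ne_true h2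

theorem mkC_mkU (hG : G ≤ M24) (hu : fperm tU24 ∈ G) (hc : fperm tC24 ∈ G) :
    mkS tC24 hc * mkS tU24 hu * (mkS tC24 hc)⁻¹ = mkS tU24 hu ^ 3 := by
  apply incS_injective hG
  rw [map_mul, map_mul, map_inv, map_pow, incS_mkU, incS_mkC, mul_inv_eq_iff_eq_mul]
  exact gC_gU

theorem rigidS (hG : G ≤ M24) (hu : fperm tU24 ∈ G) (hc : fperm tC24 ∈ G) (j k : ℕ)
    (hk : mkS tU24 hu ^ k ≠ 1) (_hj : mkS tC24 hc ^ j ≠ 1)
    (h : mkS tC24 hc ^ j * mkS tU24 hu ^ k * (mkS tC24 hc ^ j)⁻¹ = (mkS tU24 hu ^ k) ^ 3) :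
    mkS tC24 hc ^ j = mkS tC24 hc := by
  apply incS_injective hG
  rw [map_pow, incS_mkC]
  have h' : gC ^ j * gU ^ k = (gU ^ k) ^ 3 * gC ^ j := by
    have := congrArg (incS hG) h
    rw [map_mul, map_mul, map_inv, map_pow, map_pow, map_pow, incS_mkU, incS_mkC,
      mul_inv_eq_iff_eq_mul] at this
    exact this
  have hk0 : k % 11 ≠ 0 := by
    intro h0
    apply hk
    apply incS_injective hG
    rw [map_pow, incS_mkU, map_one, gU_pow_mod, h0, pow_zero]
  have ht := congrArg tau h'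
  rw [tau_mul, tau_mul, tau_gC_pow j, tau_pow (gU ^ k) 3, tau_gU_pow k] at ht
  have hc5 := rigidC_check
  simp only [List.all_eq_true, List.mem_range] at hc5
  have h5 := hc5 (j % 5) (Nat.mod_lt _ (by norm_num)) (k % 11) (Nat.mod_lt _ (by norm_num))
  rw [Bool.or_eq_true, Bool.or_eq_true, natBeq_iff, natBeq_iff, Bool.not_eq_true',
    ← Bool.not_eq_true, eqL_iff] at h5
  rcases h5 with (h5 | h5) | h5
  · exact absurd h5 hk0
  · exact absurd ht h5
  · rw [gC_pow_mod, h5, pow_one]

/-- Up to an inner automorphism, an automorphism maps `gU` to a power and fixes `gC`. -/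
theorem autS_normalize (hG : G ≤ M24) (hu : fperm tU24 ∈ G) (hc : fperm tC24 ∈ G)
    (hw : fperm tW24 ∉ G) (hfac : (Nat.card ↥G).factorization 11 = 1) (α : MulAut ↥G) :
    ∃ (g : ↥G) (k : ℕ), (MulAut.conj g * α) (mkS tU24 hu) = mkS tU24 hu ^ k ∧
      (MulAut.conj g * α) (mkS tC24 hc) = mkS tC24 hc := by
  haveI : Fact (Nat.Prime 11) := ⟨by norm_num⟩
  exact aut_normalize 11 (mkS tU24 hu) (mkS tC24 hc) 3 (orderOf_mkU hG hu) hfac
    (normS hG hu hc hw) (mkC_not_mem hG hu hc) (mkC_mkU hG hu hc) (rigidS hG hu hc) α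

/-! ### Relators -/

/-- The table of a word in the given tables. -/
def evalW (tabs : List (List ℕ)) (w : List ℕ) : List ℕ :=
  w.foldr (fun i acc => compTbl (tabs.getD i (List.range 24)) acc) (List.range 24)

/-- The relators hold for the given tables. -/
def relsOK (rels : List (List ℕ × ℕ)) (tabs : List (List ℕ)) : Bool :=
  rels.all fun r => isIdT (powT (evalW tabs r.1) r.2)

/-- The value of a word in the given elements. -/
def evalG {M : Type*} [Monoid M] (gs : List M) (w : List ℕ) : M :=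
  w.foldr (fun i acc => gs.getD i 1 * acc) 1

theorem tauS_evalG (gs : List ↥G) (w : List ℕ) :
    tauS (evalG gs w) = evalW (gs.map tauS) w := by
  induction w with
  | nil => exact tauS_one
  | cons i w ih =>
    show tauS (gs.getD i 1 * evalG gs w) = compTbl ((gs.map tauS).getD i (List.range 24)) _
    rw [tauS_mul, ih, ← tauS_one (G := G), List.getD_map]
    rfl

theorem map_evalG (β : ↥G →* ↥G) (gs : List ↥G) (w : List ℕ) :
    β (evalG gs w) = evalG (gs.map β) w := by
  induction w with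
  | nil => exact map_one β
  | cons i w ih =>
    show β (gs.getD i 1 * evalG gs w) = (gs.map β).getD i 1 * evalG (gs.map β) w
    rw [map_mul, ih, ← map_one β, List.getD_map, map_one]

theorem relsOK_hom (rels : List (List ℕ × ℕ)) (gs : List ↥G)
    (h : relsOK rels (gs.map tauS) = true) (β : ↥G →* ↥G) :
    relsOK rels ((gs.map β).map tauS) = true := by
  unfold relsOK at h ⊢
  rw [List.all_eq_true] at h ⊢
  intro r hr
  have h1 := h r hr
  unfold isIdT at h1 ⊢
  rw [beq_iff_eq] at h1 ⊢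
  rw [← tauS_evalG, ← tauS_pow] at h1 ⊢
  have h2 : evalG gs r.1 ^ r.2 = 1 := tauS_injective (by rw [h1, tauS_one])
  rw [← map_evalG, ← map_pow, h2, map_one, tauS_one]

end Sub

end Cfsg.Agent.Lib.helper4
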