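import Mathlib
import Cfsg.Prelude.Def_Sporadic_a
import Cfsg.Prelude.Def_Spor_Mathieu
import Cfsg.Prelude.Def_KGroupFacts
import Cfsg.Agent.Lib.helper4.OutMatC

set_option autoImplicit false

namespace Cfsg.Agent.Lib.helper4

open Cfsg
open scoped Pointwise
open Cfsg.Agent.Lib.Helper12.Golay

section Sub

variable {G : Subgroup (Equiv.Perm GolayPt)}

/-- The survivor test: every candidate image of the generators satisfying the relators is
realised by conjugation with an element `gW ^ ε * gC ^ m`. -/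
def survCheck (inG : List ℕ → Bool) (X : List ℕ) (rels : List (List ℕ × ℕ)) (E : ℕ) : Bool :=
  !isIdT X && relsOK rels [tU24, tC24, X] &&
  (List.range 11).all fun k => C60.all fun Z =>
    forceList (compTbl X Z) fun X' =>
      Nat.beq k 0 || !inG Z || isIdT X' || !relsOK rels [Upows11.getD k [], tC24, X'] ||
        (List.range E).any fun ε => (List.range 5).any fun m =>
          forceList (compTbl (powT tW24 ε) (powT tC24 m)) fun Y =>
            eqL (compTbl Y tU24) (compTbl (Upows11.getD k []) Y) && eqL (compTbl Y X) (compTbl X' Y)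

theorem tblOf_pow (g : Equiv.Perm GolayPt) (n : ℕ) : tblOf (g ^ n) = powT (tblOf g) n :=
  powT_of_hom tblOf tblOf_mul tblOf_one g n

theorem validT_U24 : ValidT tU24 := okK_valid out24_basic.2.1
theorem validT_C24 : ValidT tC24 := okK_valid out24_basic.2.2.2.1

theorem fpermW_fpermC : fperm tW24 * fperm tC24 = fperm tC24 * fperm tW24 := by
  have := congrArg (Subtype.val : ↥M24 → Equiv.Perm GolayPt) gW_gC
  exact this

/-- **Automorphisms from the survivor test.** -/
theorem aut_of_survCheck (hG : G ≤ M24) (hu : fperm tU24 ∈ G) (hc : fperm tC24 ∈ G)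
    (hw : fperm tW24 ∉ G) (hfac : (Nat.card ↥G).factorization 11 = 1)
    (h0 : ∀ g ∈ G, g * fperm tC24 = fperm tC24 * g →
      (tblOf g).getD 0 0 = 0 ∨ (tblOf g).getD 0 0 = 3)
    (inG : List ℕ → Bool) (hinG : ∀ g ∈ G, inG (tblOf g) = true)
    (X : List ℕ) (hXok : okK X = true) (hX : fperm X ∈ G) (e : ℕ)
    (hXC : compTbl X tC24 = compTbl (powT tC24 e) X)
    (rels : List (List ℕ × ℕ)) (E : ℕ) (hsurv : survCheck inG X rels E = true)
    (hgen : G ≤ Subgroup.closure {fperm tU24, fperm tC24, fperm X})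
    (α : MulAut ↥G) :
    ∃ (g : ↥G) (ε : ℕ), ε < E ∧ ∀ y : ↥G,
      ((α y : ↥G) : Equiv.Perm GolayPt) =
        ((g : Equiv.Perm GolayPt) * fperm tW24 ^ ε) * (y : Equiv.Perm GolayPt) *
          ((g : Equiv.Perm GolayPt) * fperm tW24 ^ ε)⁻¹ := by
  obtain ⟨g, k, hU', hC'⟩ := autS_normalize hG hu hc hw hfac α
  obtain ⟨β, hβ⟩ : ∃ β : MulAut ↥G, β = MulAut.conj g * α := ⟨_, rfl⟩
  rw [← hβ] at hU' hC'
  have hvX := okK_valid hXok
  obtain ⟨uS, huS⟩ : ∃ uS : ↥G, uS = mkS tU24 hu := ⟨_, rfl⟩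
  obtain ⟨cS, hcS⟩ : ∃ cS : ↥G, cS = mkS tC24 hc := ⟨_, rfl⟩
  obtain ⟨xS, hxS⟩ : ∃ xS : ↥G, xS = mkS X hX := ⟨_, rfl⟩
  rw [← huS] at hU'
  rw [← hcS] at hC'
  have tU : tauS uS = tU24 := by rw [huS]; exact tauS_mkS validT_U24 hu
  have tC : tauS cS = tC24 := by rw [hcS]; exact tauS_mkS validT_C24 hc
  have tX : tauS xS = X := by rw [hxS]; exact tauS_mkS hvX hX
  have hxc : xS * cS = cS ^ e * xS := by
    apply tauS_injective
    rw [tauS_mul, tauS_mul, tauS_pow, tC, tX, hXC]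
  have hβxc : β xS * cS = cS ^ e * β xS := by
    have := congrArg β hxc
    rwa [map_mul, map_mul, map_pow, hC'] at this
  obtain ⟨z, hz⟩ : ∃ z : ↥G, z = xS⁻¹ * β xS := ⟨_, rfl⟩
  have hzc : z * cS = cS * z := by
    have e1 : xS⁻¹ * cS ^ e = cS * xS⁻¹ := by
      rw [inv_mul_eq_iff_eq_mul, ← mul_assoc, hxc, mul_inv_cancel_right]
    rw [hz, mul_assoc, hβxc, ← mul_assoc, e1, mul_assoc]
  have hzC60 : tauS z ∈ C60 := by
    have h1 : incS hG z * gC = gC * incS hG z := by
      have := congrArg (incS hG) hzc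
      rwa [map_mul, map_mul, hcS, incS_mkC] at this
    have h2 : (z : Equiv.Perm GolayPt) * fperm tC24 = fperm tC24 * (z : Equiv.Perm GolayPt) := by
      have := congrArg (Subtype.val : ↥M24 → Equiv.Perm GolayPt) h1
      exact this
    exact cent24C (incS hG z) h1 (h0 z.1 z.2 h2)
  have hβx : β xS = xS * z := by rw [hz, mul_inv_cancel_left]
  have tX' : tauS (β xS) = compTbl X (tauS z) := by rw [hβx, tauS_mul, tX]
  have hU'' : incS hG (β uS) = gU ^ k := by rw [hU', map_pow, huS, incS_mkU]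
  have tU' : tauS (β uS) = Upows11.getD (k % 11) [] := by
    rw [← tau_incS hG, hU'', tau_gU_pow]
  have tC' : tauS (β cS) = tC24 := by rw [hC', tC]
  -- unpack the test
  unfold survCheck at hsurv
  rw [Bool.and_eq_true, Bool.and_eq_true] at hsurv
  obtain ⟨⟨hXne, hrel0⟩, hsurv⟩ := hsurv
  have hrelβ := relsOK_hom rels [uS, cS, xS] (by
    rw [List.map_cons, List.map_cons, List.map_cons, List.map_nil, tU, tC, tX]
    exact hrel0) β.toMonoidHom
  simp only [List.map_cons, List.map_nil] at hrelβ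
  have e0 : ∀ x, (β.toMonoidHom) x = β x := fun _ => rfl
  rw [e0, e0, e0, tU', tC', tX'] at hrelβ
  simp only [List.all_eq_true, List.mem_range] at hsurv
  have h5 := hsurv (k % 11) (Nat.mod_lt _ (by norm_num)) (tauS z) hzC60
  have hinz : inG (tauS z) = true := hinG z.1 z.2
  rw [forceList_eq, hrelβ, hinz] at h5
  have hk0 : k % 11 ≠ 0 := by
    intro h0'
    have h1 : β uS = 1 := by
      apply incS_injective hG
      rw [hU'', gU_pow_mod, h0', pow_zero, map_one]
    have h2 : uS = 1 := β.injective (by rw [h1, map_one])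
    have h3 := orderOf_mkU hG hu
    rw [← huS, h2, orderOf_one] at h3
    omega
  have hX'ne : isIdT (compTbl X (tauS z)) = false := by
    rw [← Bool.not_eq_true]
    intro h1
    unfold isIdT at h1
    rw [beq_iff_eq, ← tX', ← tauS_one (G := G)] at h1
    have h2 : xS = 1 := β.injective (by rw [tauS_injective h1, map_one])
    rw [h2, tauS_one] at tX
    rw [← tX] at hXne
    simp [isIdT] at hXne
  rw [hX'ne] at h5
  simp only [Bool.not_true, Bool.or_false, Bool.or_eq_true, natBeq_iff, List.any_eq_true,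
    List.mem_range] at h5
  rcases h5 with h5 | ⟨ε, hε, m, -, h5⟩
  · exact absurd h5 hk0
  rw [forceList_eq, Bool.and_eq_true, eqL_iff, eqL_iff] at h5
  obtain ⟨e1, e2⟩ := h5
  -- the conjugating permutation
  obtain ⟨t, ht⟩ : ∃ t : Equiv.Perm GolayPt, t = fperm tW24 ^ ε * fperm tC24 ^ m := ⟨_, rfl⟩
  have tt : tblOf t = compTbl (powT tW24 ε) (powT tC24 m) := by
    rw [ht, tblOf_mul, tblOf_pow, tblOf_pow, tblOf_fperm validT_W24, tblOf_fperm validT_C24]
  have hconj : ∀ (s : ↥G) (s' : Equiv.Perm GolayPt), t * (s : Equiv.Perm GolayPt) = s' * t →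
      s' = t * (s : Equiv.Perm GolayPt) * t⁻¹ := by
    intro s s' h
    rw [h, mul_inv_cancel_right]
  have cU : ((β uS : ↥G) : Equiv.Perm GolayPt) = t * (uS : Equiv.Perm GolayPt) * t⁻¹ := by
    apply hconj
    apply tblOf_injective
    have a1 : tblOf (uS : Equiv.Perm GolayPt) = tU24 := tU
    have a2 : tblOf ((β uS : ↥G) : Equiv.Perm GolayPt) = Upows11.getD (k % 11) [] := tU'
    rw [tblOf_mul, tblOf_mul, tt, a1, a2]
    exact e1
  have cX : ((β xS : ↥G) : Equiv.Perm GolayPt) = t * (xS : Equiv.Perm GolayPt) * t⁻¹ := by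
    apply hconj
    apply tblOf_injective
    have a1 : tblOf (xS : Equiv.Perm GolayPt) = X := tX
    have a2 : tblOf ((β xS : ↥G) : Equiv.Perm GolayPt) = compTbl X (tauS z) := tX'
    rw [tblOf_mul, tblOf_mul, tt, a1, a2]
    exact e2
  have htc : t * fperm tC24 = fperm tC24 * t := by
    have h1 : Commute (fperm tW24) (fperm tC24) := fpermW_fpermC
    have h2 : Commute (fperm tW24 ^ ε * fperm tC24 ^ m) (fperm tC24) :=
      (h1.pow_left ε).mul_left ((Commute.refl _).pow_left m)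
    rw [ht]
    exact h2
  have cC : ((β cS : ↥G) : Equiv.Perm GolayPt) = t * (cS : Equiv.Perm GolayPt) * t⁻¹ := by
    apply hconj
    rw [hC', hcS]
    exact htc
  -- all elements
  have key : ∀ y : Equiv.Perm GolayPt, y ∈ Subgroup.closure {fperm tU24, fperm tC24, fperm X} →
      ∃ hy : y ∈ G, ((β ⟨y, hy⟩ : ↥G) : Equiv.Perm GolayPt) = t * y * t⁻¹ := by
    intro y hy
    induction hy using Subgroup.closure_induction with
    | mem x hx =>
      rcases hx with rfl | rfl | rfl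
      · refine ⟨hu, ?_⟩
        have : (⟨fperm tU24, hu⟩ : ↥G) = uS := by rw [huS]; rfl
        rw [this, cU, huS]; rfl
      · refine ⟨hc, ?_⟩
        have : (⟨fperm tC24, hc⟩ : ↥G) = cS := by rw [hcS]; rfl
        rw [this, cC, hcS]; rfl
      · refine ⟨hX, ?_⟩
        have : (⟨fperm X, hX⟩ : ↥G) = xS := by rw [hxS]; rfl
        rw [this, cX, hxS]; rfl
    | one =>
      refine ⟨G.one_mem, ?_⟩
      have : (⟨1, G.one_mem⟩ : ↥G) = 1 := rfl
      rw [this, map_one, mul_one, mul_inv_cancel]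
      rfl
    | mul x y _ _ ihx ihy =>
      obtain ⟨hx, ex⟩ := ihx
      obtain ⟨hy, ey⟩ := ihy
      refine ⟨G.mul_mem hx hy, ?_⟩
      have : (⟨x * y, G.mul_mem hx hy⟩ : ↥G) = ⟨x, hx⟩ * ⟨y, hy⟩ := rfl
      rw [this, map_mul, Subgroup.coe_mul, ex, ey]
      group
    | inv x _ ihx =>
      obtain ⟨hx, ex⟩ := ihx
      refine ⟨G.inv_mem hx, ?_⟩
      have : (⟨x⁻¹, G.inv_mem hx⟩ : ↥G) = (⟨x, hx⟩ : ↥G)⁻¹ := rfl
      rw [this, map_inv, Subgroup.coe_inv, ex]
      group
  refine ⟨g⁻¹ * cS ^ m, ε, hε, ?_⟩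
  intro y
  obtain ⟨hy, ey⟩ := key y.1 (hgen y.2)
  have hαβ : α y = g⁻¹ * β y * g := by
    rw [hβ, MulAut.mul_apply, MulAut.conj_apply]
    group
  have hcm : fperm tW24 ^ ε * fperm tC24 ^ m = fperm tC24 ^ m * fperm tW24 ^ ε := by
    have h1 : Commute (fperm tW24) (fperm tC24) := fpermW_fpermC
    exact (h1.pow_pow ε m)
  have hcoe : ((g⁻¹ * cS ^ m : ↥G) : Equiv.Perm GolayPt) * fperm tW24 ^ ε =
      (g : Equiv.Perm GolayPt)⁻¹ * t := by
    rw [Subgroup.coe_mul, Subgroup.coe_inv, Subgroup.coe_pow, hcS, ht, hcm, mul_assoc]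
    rfl
  have hy' : (⟨y.1, hy⟩ : ↥G) = y := rfl
  rw [hy'] at ey
  rw [hαβ, Subgroup.coe_mul, Subgroup.coe_mul, Subgroup.coe_inv, ey, hcoe]
  group

end Sub

end Cfsg.Agent.Lib.helper4
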