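import Mathlib
import Cfsg.Prelude.Def_Sporadic_a
import Cfsg.Prelude.Def_SporadicCombinatorics
import Cfsg.Agent.Lib.helper4.OutMatD
import Cfsg.Agent.Lib.helper4.GenCert

set_option autoImplicit false

namespace Cfsg.Agent.Lib.helper4

open Cfsg
open scoped Pointwise
open Cfsg.Agent.Lib.Helper12.Golay

/-! ### The stabiliser of the dodecad of squares and of one of its points: data -/

/-- The bitmask of the dodecad of squares. -/
def dSq : ℕ := 340831

/-- The involution of the dodecad stabiliser commuting with `tC24`. -/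
def Z12 : List ℕ := [3,12,13,0,16,19,9,11,18,6,17,7,1,2,20,23,4,10,8,5,14,22,21,15]

/-- An element of order four normalising `⟨tC24⟩`, fixing the dodecad of squares and `0`. -/
def X11 : List ℕ := [0,1,18,3,6,11,2,14,16,13,19,20,12,8,10,23,9,5,4,7,17,22,21,15]

/-- Base points in the dodecad. -/
def base12 : List ℕ := [0, 1, 2, 3, 4]
/-- The orbits of the stabiliser chain of the dodecad stabiliser. -/
def orb12 : List ℕ := [340831,340830,340828,340824,340816]
/-- Base points in the dodecad, without `0`. -/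
def base11 : List ℕ := [1, 2, 3, 4]
/-- The orbits of the stabiliser chain of the stabiliser of the dodecad and `0`. -/
def orb11 : List ℕ := [340830,340828,340824,340816]

/-- straight-line program: entry `(a, b)` appends the composite of tables `a` and `b` -/
def g12Prog : List (ℕ × ℕ) := [(0, 0),
  (0, 3),
  (3, 3),
  (5, 5),
  (4, 6),
  (0, 2),
  (0, 8),
  (1, 8),
  (2, 8),
  (1, 9),
  (0, 10),
  (1, 10),
  (0, 12),
  (0, 13),
  (2, 13),
  (2, 0),
  (18, 0),
  (18, 1),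
  (19, 0),
  (19, 1),
  (19, 2),
  (20, 2),
  (21, 2),
  (22, 0),
  (1, 1),
  (2, 27),
  (0, 28),
  (0, 29),
  (26, 30),
  (1, 2),
  (0, 1),
  (1, 12),
  (1, 19),
  (0, 35),
  (25, 36),
  (25, 8),
  (33, 31),
  (37, 31),
  (1, 31),
  (31, 33),
  (37, 37),
  (31, 37),
  (33, 37),
  (33, 38),
  (33, 1),
  (33, 27),
  (37, 48),
  (45, 49),
  (1, 38),
  (31, 51),
  (37, 38),
  (47, 53),
  (31, 47),
  (1, 55),
  (33, 47),
  (37, 57),
  (31, 58),
  (1, 59),
  (38, 48),
  (1, 61),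
  (38, 62),
  (37, 63),
  (38, 64),
  (38, 38),
  (37, 66),
  (37, 67),
  (33, 68),
  (33, 69),
  (33, 70),
  (31, 71),
  (31, 72),
  (50, 50),
  (60, 50),
  (65, 50),
  (54, 54),
  (60, 54),
  (73, 65),
  (50, 60),
  (54, 50),
  (54, 65),
  (74, 73),
  (81, 50),
  (73, 73),
  (65, 85),
  (60, 86),
  (65, 87),
  (60, 88),
  (50, 73),
  (73, 90),
  (65, 91),
  (54, 92),
  (65, 77),
  (65, 94),
  (50, 95),
  (50, 96),
  (60, 73),
  (60, 98),
  (60, 99),
  (73, 100),
  (65, 101),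
  (73, 102),
  (65, 103),
  (82, 104),
  (65, 75),
  (50, 106),
  (54, 107),
  (73, 75),
  (65, 109),
  (60, 110),
  (65, 111),
  (60, 112),
  (65, 98),
  (74, 114),
  (89, 89),
  (89, 93),
  (105, 93),
  (93, 105),
  (108, 105),
  (89, 108),
  (93, 108),
  (89, 111),
  (108, 123),
  (89, 124),
  (117, 125),
  (93, 93),
  (93, 127),
  (108, 89),
  (108, 129),
  (115, 130),
  (115, 93),
  (105, 111),
  (108, 133),
  (108, 93),
  (115, 135),
  (93, 136),
  (93, 102),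
  (105, 115),
  (93, 139),
  (115, 140),
  (108, 111),
  (108, 118),
  (108, 122),
  (89, 119),
  (93, 145),
  (108, 127),
  (93, 147),
  (115, 89),
  (89, 149),
  (89, 150),
  (89, 122),
  (152, 126),
  (126, 137)]

/-- positions of the transversal elements, one list per level -/
def g12Pos : List (List ℕ) := [[147, 144, 141, 152, 138, 0, 146, 0, 142, 143, 0, 0, 145, 137, 0, 0, 139, 0, 140, 0, 0, 0, 0, 0],
  [0, 147, 123, 117, 111, 0, 113, 0, 112, 114, 0, 0, 115, 121, 0, 0, 116, 0, 153, 0, 0, 0, 0, 0],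
  [0, 0, 147, 76, 79, 0, 77, 0, 78, 75, 0, 0, 100, 80, 0, 0, 89, 0, 104, 0, 0, 0, 0, 0],
  [0, 0, 0, 147, 37, 0, 35, 0, 36, 38, 0, 0, 61, 34, 0, 0, 65, 0, 49, 0, 0, 0, 0, 0],
  [0, 0, 0, 0, 147, 0, 2, 0, 16, 0, 0, 0, 8, 17, 0, 0, 28, 0, 1, 0, 0, 0, 0, 0]]

/-- straight-line program: entry `(a, b)` appends the composite of tables `a` and `b` -/
def g11Prog : List (ℕ × ℕ) := [(0, 0),
  (0, 3),
  (3, 3),
  (5, 5),
  (4, 6),
  (1, 0),
  (0, 1),
  (0, 8),
  (0, 9),
  (1, 9),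
  (1, 1),
  (1, 2),
  (9, 1),
  (14, 1),
  (10, 0),
  (2, 13),
  (0, 18),
  (0, 19),
  (2, 14),
  (0, 21),
  (17, 22),
  (0, 2),
  (0, 24),
  (1, 25),
  (1, 26),
  (1, 27),
  (2, 3),
  (1, 29),
  (0, 30),
  (13, 31),
  (2, 24),
  (2, 33),
  (14, 34),
  (20, 20),
  (23, 20),
  (20, 23),
  (23, 23),
  (28, 36),
  (23, 37),
  (28, 23),
  (35, 35),
  (35, 43),
  (32, 44),
  (32, 45),
  (35, 36),
  (23, 47),
  (28, 48),
  (37, 49),
  (35, 32),
  (20, 51),
  (35, 52),
  (28, 53),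
  (2, 54),
  (23, 35),
  (20, 56),
  (35, 57),
  (35, 58),
  (23, 59),
  (28, 60),
  (20, 61),
  (35, 62),
  (42, 63),
  (32, 48),
  (35, 65),
  (32, 66),
  (28, 67),
  (36, 68),
  (55, 46),
  (69, 46),
  (46, 50),
  (46, 55),
  (46, 69),
  (55, 50),
  (55, 73),
  (55, 76),
  (50, 77),
  (50, 78),
  (50, 79),
  (46, 80),
  (71, 81),
  (69, 69),
  (64, 83),
  (55, 84),
  (55, 80),
  (75, 86),
  (64, 55),
  (50, 50),
  (64, 89),
  (55, 69),
  (55, 91),
  (55, 92),
  (69, 83),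
  (64, 70),
  (69, 70),
  (64, 92),
  (46, 51),
  (69, 55),
  (46, 99),
  (46, 71),
  (75, 101),
  (64, 95),
  (55, 70),
  (87, 82)]

/-- positions of the transversal elements, one list per level -/
def g11Pos : List (List ℕ) := [[0, 98, 105, 94, 102, 0, 97, 0, 101, 93, 0, 0, 95, 96, 0, 0, 100, 0, 104, 0, 0, 0, 0, 0],
  [0, 0, 98, 77, 85, 0, 65, 0, 69, 68, 0, 0, 82, 67, 0, 0, 64, 0, 66, 0, 0, 0, 0, 0],
  [0, 0, 0, 98, 34, 0, 35, 0, 32, 55, 0, 0, 50, 36, 0, 0, 33, 0, 59, 0, 0, 0, 0, 0],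
  [0, 0, 0, 0, 98, 0, 1, 0, 54, 25, 0, 0, 18, 23, 0, 0, 3, 0, 0, 0, 0, 0, 0, 0]]

/-- Table test for membership in the dodecad stabiliser. -/
def inG12 (T : List ℕ) : Bool := Nat.beq (actK T dSq) dSq

/-- Table test for membership in the stabiliser of the dodecad and `0`. -/
def inG11 (T : List ℕ) : Bool := Nat.beq (actK T dSq) dSq && Nat.beq (T.getD 0 0) 0

set_option maxRecDepth 1000000 in
theorem out12_basic : okK Z12 = true ∧ okK X11 = true ∧
    compTbl Z12 tC24 = compTbl (powT tC24 1) Z12 ∧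
    compTbl X11 tC24 = compTbl (powT tC24 2) X11 ∧
    actK tU24 dSq = dSq ∧ actK tC24 dSq = dSq ∧ actK Z12 dSq = dSq ∧ actK X11 dSq = dSq ∧
    actK tW24 dSq = 16777215 - dSq ∧ actT tW24 dSq = 16777215 - dSq ∧ X11.getD 0 0 = 0 ∧
    tU24.getD 0 0 = 0 ∧ tC24.getD 0 0 = 0 ∧ tW24.getD 0 0 = 23 ∧ dSq < 2 ^ 24 ∧
    (∀ v ∈ [0, 3, 15, 23], dSq.testBit v = true → v = 0 ∨ v = 3) ∧ dSq.testBit 0 = true := by
  decide +kernel

set_option maxRecDepth 1000000 in
theorem cert12 : certGen (evalSLP g12Prog 3 [Z12, tC24, tU24]) g12Pos base12 orb12 0 5 = true := by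
  decide +kernel

set_option maxRecDepth 1000000 in
theorem cert11 : certGen (evalSLP g11Prog 3 [X11, tC24, tU24]) g11Pos base11 orb11 0 4 = true := by
  decide +kernel

theorem horb12' : ∀ i < 5, ∀ q < 24, dSq.testBit q = true → (∀ j < i, q ≠ base12.getD j 0) →
    (orb12.getD i 0).testBit q = true := by decide

theorem horb11' : ∀ i < 4, ∀ q < 24, (dSq - 1).testBit q = true →
    (∀ j < i, q ≠ base11.getD j 0) → (orb11.getD i 0).testBit q = true := by decide

set_option maxRecDepth 1000000 in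
theorem surv12 : survCheck inG12 Z12 [([2, 2], 1)] 2 = true := by
  decide +kernel

set_option maxRecDepth 1000000 in
theorem surv11 : survCheck inG11 X11 [([0, 2, 2, 2], 3)] 1 = true := by
  decide +kernel

end Cfsg.Agent.Lib.helper4
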