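import Mathlib
import Cfsg.Prelude.Def_Sporadic_a
import Cfsg.Prelude.Def_SporadicCombinatorics
import Cfsg.Agent.Lib.helper4.OutMatD
import Cfsg.Agent.Lib.helper4.GenCert

set_option autoImplicit false

namespace Cfsg.Agent.Lib.helper4

open Cfsg
open scoped Pointwise
open Cfsg.Agent.Lib.Helper12.Golay

/-! ### The two-point stabiliser: data -/

/-- An element of order four normalising `⟨tC24⟩` and fixing `∞` and `0`. -/
def X22 : List ℕ := [0,1,18,15,6,13,2,8,10,7,9,14,21,20,17,3,5,19,4,11,16,12,22,23]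

/-- An involution fixing `0` and exchanging `∞` and `12`. -/
def T22 : List ℕ := [0,14,2,16,8,9,6,7,4,5,10,19,23,13,1,18,3,21,15,11,20,17,22,12]

/-- straight-line program: entry `(a, b)` appends the composite of tables `a` and `b` -/
def g22Prog : List (ℕ × ℕ) := [(0, 0),
  (0, 3),
  (3, 3),
  (5, 5),
  (4, 6),
  (1, 0),
  (0, 1),
  (0, 8),
  (0, 9),
  (1, 9),
  (2, 9),
  (2, 4),
  (2, 10),
  (2, 11),
  (2, 12),
  (0, 13),
  (2, 5),
  (0, 15),
  (0, 17),
  (0, 18),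
  (1, 20),
  (0, 2),
  (1, 1),
  (1, 2),
  (9, 1),
  (9, 2),
  (24, 0),
  (24, 1),
  (8, 2),
  (26, 1),
  (10, 0),
  (10, 2),
  (29, 0),
  (30, 0),
  (30, 1),
  (35, 0),
  (2, 25),
  (0, 37),
  (2, 26),
  (0, 41),
  (33, 42),
  (0, 24),
  (1, 44),
  (1, 45),
  (1, 46),
  (2, 3),
  (1, 48),
  (0, 49),
  (25, 50),
  (2, 24),
  (2, 52),
  (26, 53),
  (40, 40),
  (43, 40),
  (47, 40),
  (51, 40),
  (54, 40),
  (40, 43),
  (43, 43),
  (51, 43),
  (54, 43),
  (43, 47),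
  (47, 47),
  (51, 47),
  (43, 54),
  (40, 56),
  (43, 56),
  (47, 58),
  (40, 47),
  (43, 51),
  (51, 51),
  (71, 43),
  (71, 47),
  (56, 40),
  (54, 54),
  (54, 77),
  (51, 78),
  (72, 79),
  (54, 55),
  (43, 81),
  (47, 82),
  (74, 83),
  (54, 51),
  (40, 85),
  (54, 86),
  (47, 87),
  (59, 88),
  (40, 67),
  (54, 90),
  (54, 91),
  (43, 92),
  (47, 93),
  (40, 94),
  (54, 95),
  (54, 96),
  (51, 82),
  (54, 98),
  (51, 99),
  (47, 100),
  (47, 101),
  (80, 80),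
  (84, 80),
  (102, 80),
  (84, 84),
  (89, 84),
  (80, 89),
  (84, 89),
  (97, 89),
  (89, 103),
  (97, 103),
  (80, 104),
  (84, 104),
  (84, 105),
  (80, 106),
  (89, 106),
  (102, 108),
  (80, 97),
  (80, 102),
  (84, 97),
  (84, 102),
  (103, 80),
  (108, 80),
  (108, 84),
  (108, 89),
  (120, 84),
  (104, 89),
  (97, 97),
  (89, 129),
  (89, 130),
  (84, 131),
  (84, 132),
  (84, 133),
  (80, 134),
  (97, 135),
  (102, 102),
  (97, 137),
  (89, 138),
  (97, 139),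
  (89, 140),
  (124, 141),
  (102, 120),
  (97, 143),
  (106, 144),
  (97, 106),
  (97, 146),
  (80, 147),
  (80, 148),
  (104, 149),
  (89, 102),
  (89, 151),
  (89, 152),
  (102, 153),
  (97, 154),
  (97, 142),
  (89, 80),
  (97, 157),
  (80, 158),
  (119, 159),
  (136, 136),
  (142, 136),
  (150, 136),
  (160, 136),
  (136, 145),
  (145, 145),
  (142, 161),
  (150, 161),
  (150, 162),
  (142, 165),
  (136, 150),
  (142, 145),
  (145, 150),
  (165, 142),
  (172, 150),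
  (145, 136),
  (150, 165),
  (145, 177),
  (150, 178),
  (145, 179),
  (136, 180),
  (150, 181),
  (160, 145),
  (150, 166),
  (136, 184),
  (150, 145),
  (150, 142),
  (145, 174),
  (160, 188),
  (136, 176),
  (136, 182),
  (136, 186),
  (136, 166),
  (142, 166),
  (160, 167),
  (150, 195),
  (150, 160),
  (145, 167),
  (142, 189),
  (150, 189)]

/-- positions of the transversal elements, one list per level -/
def g22Pos : List (List ℕ) := [[0, 0, 0, 0, 0, 0, 0, 0, 0, 0, 0, 0, 0, 0, 0, 0, 0, 0, 0, 0, 0, 0, 0, 0],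
  [0, 0, 0, 0, 0, 0, 0, 0, 0, 0, 0, 0, 0, 0, 0, 0, 0, 0, 0, 0, 0, 0, 0, 0],
  [0, 179, 200, 195, 196, 188, 192, 183, 197, 181, 186, 180, 0, 191, 193, 199, 189, 185, 184, 178, 187, 182, 177, 190],
  [0, 160, 130, 138, 134, 132, 139, 135, 142, 131, 145, 153, 0, 157, 0, 133, 193, 136, 140, 143, 144, 137, 141, 146],
  [0, 85, 116, 86, 83, 111, 87, 92, 90, 120, 91, 94, 0, 84, 0, 89, 0, 193, 97, 82, 96, 88, 93, 95],
  [0, 193, 39, 38, 32, 58, 37, 55, 36, 30, 35, 31, 0, 50, 0, 33, 0, 0, 0, 34, 40, 64, 0, 0],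
  [0, 0, 0, 0, 0, 0, 0, 0, 0, 0, 0, 0, 0, 0, 0, 0, 0, 0, 193, 0, 0, 0, 11, 20]]

/-- Table test for membership in the two-point stabiliser. -/
def inG22 (T : List ℕ) : Bool := Nat.beq (T.getD 23 0) 23 && Nat.beq (T.getD 0 0) 0

set_option maxRecDepth 1000000 in
theorem out22_basic : okK X22 = true ∧ okK T22 = true ∧ compTbl T22 T22 = List.range 24 ∧
    compTbl X22 tC24 = compTbl (powT tC24 2) X22 ∧ X22.getD 23 0 = 23 ∧ X22.getD 0 0 = 0 ∧
    T22.getD 0 0 = 0 ∧ T22.getD 23 0 = 12 ∧ T22.getD 12 0 = 23 ∧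
    tU24.getD 23 0 = 23 ∧ tU24.getD 0 0 = 0 ∧ tC24.getD 23 0 = 23 ∧ tC24.getD 0 0 = 0 ∧
    tW24.getD 23 0 = 0 ∧ tW24.getD 0 0 = 23 := by
  decide +kernel

set_option maxRecDepth 1000000 in
theorem cert22 : certGen (evalSLP g22Prog 3
    (([tU24, tC24, X22].map fun L => compTbl (compTbl T22 L) T22).reverse))
    g22Pos Cfsg.Agent.Lib.helper3.m24Base Cfsg.Agent.Lib.helper3.m24Orb 2 7 = true := by
  decide +kernel

set_option maxRecDepth 1000000 in
theorem surv22 : survCheck inG22 X22 [([0, 2, 2, 0, 2, 2, 1], 2)] 2 = true := by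
  decide +kernel

end Cfsg.Agent.Lib.helper4
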