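import Mathlib
import Cfsg.Prelude.Def_Sporadic_a
import Cfsg.Prelude.Def_Spor_Mathieu
import Cfsg.Prelude.Def_KGroupFacts
import Cfsg.Agent.Lib.helper4.OutMatD

set_option autoImplicit false

namespace Cfsg.Agent.Lib.helper4

open Cfsg
open scoped Pointwise
open Cfsg.Agent.Lib.Helper12.Golay

section Sub

variable {G : Subgroup (Equiv.Perm GolayPt)}

/-- All automorphisms are inner: the outer automorphism group is trivial. -/
theorem out_card_one_of
    (hall : ∀ α : MulAut ↥G, ∃ (g : ↥G) (ε : ℕ), ε < 1 ∧ ∀ y : ↥G,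
      ((α y : ↥G) : Equiv.Perm GolayPt) =
        ((g : Equiv.Perm GolayPt) * fperm tW24 ^ ε) * (y : Equiv.Perm GolayPt) *
          ((g : Equiv.Perm GolayPt) * fperm tW24 ^ ε)⁻¹) :
    Nat.card (Cfsg.Out ↥G) = 1 := by
  have h : Cfsg.Inn ↥G = ⊤ := by
    rw [eq_top_iff]
    intro α _
    obtain ⟨g, ε, hε, hα⟩ := hall α
    have hε0 : ε = 0 := by omega
    subst hε0
    refine ⟨g, ?_⟩
    apply MulEquiv.ext
    intro y
    apply Subtype.ext
    rw [hα y, pow_zero, mul_one, MulAut.conj_apply]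
    rfl
  show (Cfsg.Inn ↥G).index = 1
  rw [h, Subgroup.index_top]

/-- Conjugation by `t ↦ -1 / t` on a subgroup that it normalises. -/
noncomputable def sigmaW (hwG : ∀ g ∈ G, fperm tW24 * g * fperm tW24 ∈ G) : MulAut ↥G where
  toFun y := ⟨fperm tW24 * y.1 * fperm tW24, hwG y.1 y.2⟩
  invFun y := ⟨fperm tW24 * y.1 * fperm tW24, hwG y.1 y.2⟩
  left_inv y := by
    apply Subtype.ext
    show fperm tW24 * (fperm tW24 * y.1 * fperm tW24) * fperm tW24 = y.1
    have e : fperm tW24 * (fperm tW24 * y.1 * fperm tW24) * fperm tW24 =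
        (fperm tW24 * fperm tW24) * y.1 * (fperm tW24 * fperm tW24) := by group
    rw [e, fpermW_sq, one_mul, mul_one]
  right_inv y := by
    apply Subtype.ext
    show fperm tW24 * (fperm tW24 * y.1 * fperm tW24) * fperm tW24 = y.1
    have e : fperm tW24 * (fperm tW24 * y.1 * fperm tW24) * fperm tW24 =
        (fperm tW24 * fperm tW24) * y.1 * (fperm tW24 * fperm tW24) := by group
    rw [e, fpermW_sq, one_mul, mul_one]
  map_mul' a b := by
    apply Subtype.ext
    show fperm tW24 * (a.1 * b.1) * fperm tW24 =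
      (fperm tW24 * a.1 * fperm tW24) * (fperm tW24 * b.1 * fperm tW24)
    have e : (fperm tW24 * a.1 * fperm tW24) * (fperm tW24 * b.1 * fperm tW24) =
        fperm tW24 * a.1 * (fperm tW24 * fperm tW24) * b.1 * fperm tW24 := by group
    rw [e, fpermW_sq, mul_one]
    group

theorem sigmaW_apply (hwG : ∀ g ∈ G, fperm tW24 * g * fperm tW24 ∈ G) (y : ↥G) :
    ((sigmaW hwG y : ↥G) : Equiv.Perm GolayPt) = fperm tW24 * y.1 * fperm tW24 := rfl

theorem sigmaW_sq (hwG : ∀ g ∈ G, fperm tW24 * g * fperm tW24 ∈ G) :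
    sigmaW hwG * sigmaW hwG = 1 := by
  apply MulEquiv.ext
  intro y
  exact (sigmaW hwG).left_inv y

theorem sigmaW_not_inner (hG : G ≤ M24) (hu : fperm tU24 ∈ G) (hw : fperm tW24 ∉ G)
    (hwG : ∀ g ∈ G, fperm tW24 * g * fperm tW24 ∈ G) : sigmaW hwG ∉ Cfsg.Inn ↥G := by
  haveI := finite_M24_sub
  rintro ⟨g, hg⟩
  have h1 := congrArg (fun f : MulAut ↥G => ((f (mkS tU24 hu) : ↥G) : Equiv.Perm GolayPt)) hg
  simp only [MulAut.conj_apply, sigmaW_apply] at h1
  have h2 : (g : Equiv.Perm GolayPt) * fperm tU24 * (g : Equiv.Perm GolayPt)⁻¹ =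
      fperm tW24 * fperm tU24 * fperm tW24 := h1
  -- the element `w * g` centralises `gU`
  set z : ↥M24 := gW * incS hG g with hz
  have hzU : z * gU = gU * z := by
    apply Subtype.ext
    show fperm tW24 * (g : Equiv.Perm GolayPt) * fperm tU24 =
      fperm tU24 * (fperm tW24 * (g : Equiv.Perm GolayPt))
    have e1 : (g : Equiv.Perm GolayPt) * fperm tU24 =
        fperm tW24 * fperm tU24 * fperm tW24 * (g : Equiv.Perm GolayPt) := by
      rw [← h2]
      group
    rw [mul_assoc, e1]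
    have e2 : fperm tW24 * (fperm tW24 * fperm tU24 * fperm tW24 * (g : Equiv.Perm GolayPt)) =
        (fperm tW24 * fperm tW24) * fperm tU24 * (fperm tW24 * (g : Equiv.Perm GolayPt)) := by
      group
    rw [e2, fpermW_sq, one_mul]
  obtain ⟨i, hi⟩ := exists_pow_of_mem_zpowers (cent24 z hzU)
  apply hw
  have e3 : (fperm tW24 : Equiv.Perm GolayPt) = fperm tU24 ^ i * (g : Equiv.Perm GolayPt)⁻¹ := by
    have := congrArg (Subtype.val : ↥M24 → Equiv.Perm GolayPt) hi
    rw [Subgroup.coe_pow, coe_gU, hz, Subgroup.coe_mul, coe_gW] at this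
    have h3 : ((incS hG g : ↥M24) : Equiv.Perm GolayPt) = (g : Equiv.Perm GolayPt) := rfl
    rw [h3] at this
    rw [this]
    group
  rw [e3]
  exact G.mul_mem (G.pow_mem hu i) (G.inv_mem g.2)

/-- All automorphisms are inner or inner times conjugation by `t ↦ -1 / t`: the outer
automorphism group has order two. -/
theorem out_card_two_of (hG : G ≤ M24) (hu : fperm tU24 ∈ G) (hw : fperm tW24 ∉ G)
    (hwG : ∀ g ∈ G, fperm tW24 * g * fperm tW24 ∈ G)
    (hall : ∀ α : MulAut ↥G, ∃ (g : ↥G) (ε : ℕ), ε < 2 ∧ ∀ y : ↥G,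
      ((α y : ↥G) : Equiv.Perm GolayPt) =
        ((g : Equiv.Perm GolayPt) * fperm tW24 ^ ε) * (y : Equiv.Perm GolayPt) *
          ((g : Equiv.Perm GolayPt) * fperm tW24 ^ ε)⁻¹) :
    Nat.card (Cfsg.Out ↥G) = 2 := by
  show (Cfsg.Inn ↥G).index = 2
  rw [Subgroup.index_eq_two_iff_exists_notMem_and]
  refine ⟨sigmaW hwG, sigmaW_not_inner hG hu hw hwG, ?_⟩
  intro α
  obtain ⟨g, ε, hε, hα⟩ := hall α
  have hε' : ε = 0 ∨ ε = 1 := by omega
  rcases hε' with rfl | rfl
  · right
    refine ⟨g, ?_⟩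
    apply MulEquiv.ext
    intro y
    apply Subtype.ext
    rw [hα y, pow_zero, mul_one, MulAut.conj_apply]
    rfl
  · left
    refine ⟨g, ?_⟩
    have h1 : α = MulAut.conj g * sigmaW hwG := by
      apply MulEquiv.ext
      intro y
      apply Subtype.ext
      rw [hα y, pow_one, MulAut.mul_apply, MulAut.conj_apply, Subgroup.coe_mul, Subgroup.coe_mul,
        sigmaW_apply, mul_inv_rev, fpermW_inv, Subgroup.coe_inv]
      group
    rw [h1, mul_assoc, sigmaW_sq, mul_one]

end Sub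

end Cfsg.Agent.Lib.helper4
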