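import Mathlib
import Cfsg.Prelude.Def_Sporadic_a
import Cfsg.Prelude.Def_Spor_Mathieu
import Cfsg.Prelude.Def_KGroupFacts
import Cfsg.Agent.Lib.helper4.OutM22Data
import Cfsg.Agent.Lib.helper4.OutMatE

set_option autoImplicit false

namespace Cfsg.Agent.Lib.helper4

open Cfsg
open scoped Pointwise
open Cfsg.Agent.Lib.Helper12.Golay

/-! ### The outer automorphism group of the two-point stabiliser has order two -/

theorem mem_SporM22 {g : Equiv.Perm GolayPt} :
    g ∈ Cfsg.Spor.M22 ↔ g ∈ M24 ∧ g none = none ∧ g (some 0) = some 0 := by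
  unfold Cfsg.Spor.M22 Cfsg.Spor.M23
  constructor
  · intro h
    obtain ⟨h1, h2⟩ := Subgroup.mem_inf.mp h
    obtain ⟨h3, h4⟩ := Subgroup.mem_inf.mp h1
    exact ⟨h3, MulAction.mem_stabilizer_iff.mp h4, MulAction.mem_stabilizer_iff.mp h2⟩
  · rintro ⟨h1, h2, h3⟩
    exact Subgroup.mem_inf.mpr ⟨Subgroup.mem_inf.mpr ⟨h1, MulAction.mem_stabilizer_iff.mpr h2⟩,
      MulAction.mem_stabilizer_iff.mpr h3⟩

theorem fperm_at {L : List ℕ} (hv : ValidT L) {i : ℕ} (hi : i < 24) :
    fperm L (pt i) = pt (L.getD i 0) := by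
  rw [fperm_apply hv]
  unfold tblFun
  rw [idx_pt hi]

theorem pt_23 : pt 23 = (none : GolayPt) := by decide
theorem pt_0 : pt 0 = (some 0 : GolayPt) := by decide

theorem fperm_mem_M22 {L : List ℕ} (hok : okK L = true) (h23 : L.getD 23 0 = 23)
    (h0 : L.getD 0 0 = 0) : fperm L ∈ Cfsg.Spor.M22 := by
  rw [mem_SporM22]
  have hv := okK_valid hok
  refine ⟨fperm_mem hok, ?_, ?_⟩
  · rw [← pt_23, fperm_at hv (by norm_num), h23]
  · rw [← pt_0, fperm_at hv (by norm_num), h0]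

theorem M22_le : Cfsg.Spor.M22 ≤ M24 := fun _ hg => (mem_SporM22.mp hg).1

theorem hu22 : fperm tU24 ∈ Cfsg.Spor.M22 :=
  fperm_mem_M22 out24_basic.2.1 out22_basic.2.2.2.2.2.2.2.2.2.1 out22_basic.2.2.2.2.2.2.2.2.2.2.1

theorem hc22 : fperm tC24 ∈ Cfsg.Spor.M22 :=
  fperm_mem_M22 out24_basic.2.2.2.1 out22_basic.2.2.2.2.2.2.2.2.2.2.2.1
    out22_basic.2.2.2.2.2.2.2.2.2.2.2.2.1

theorem hX22 : fperm X22 ∈ Cfsg.Spor.M22 :=
  fperm_mem_M22 out22_basic.1 out22_basic.2.2.2.2.1 out22_basic.2.2.2.2.2.1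

theorem hw22 : fperm tW24 ∉ Cfsg.Spor.M22 := by
  intro h
  have h1 := (mem_SporM22.mp h).2.1
  rw [← pt_23, fperm_at validT_W24 (by norm_num), out22_basic.2.2.2.2.2.2.2.2.2.2.2.2.2.1] at h1
  exact absurd h1 (by decide)

theorem tblOf_M22 {g : Equiv.Perm GolayPt} (hg : g ∈ Cfsg.Spor.M22) :
    (tblOf g).getD 23 0 = 23 ∧ (tblOf g).getD 0 0 = 0 := by
  obtain ⟨-, h23, h0⟩ := mem_SporM22.mp hg
  constructor
  · rw [tblOf_getD g (by norm_num), pt_23, h23]
    rfl
  · rw [tblOf_getD g (by norm_num), pt_0, h0]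
    rfl

theorem card_SporM22 : Nat.card ↥Cfsg.Spor.M22 = 443520 := by
  have h : (MulAction.stabilizer ↥M24 (none : GolayPt) ⊓
      MulAction.stabilizer ↥M24 (some 0 : GolayPt)).map M24.subtype = Cfsg.Spor.M22 := by
    ext x
    rw [Subgroup.mem_map, mem_SporM22]
    constructor
    · rintro ⟨y, hy, rfl⟩
      rw [Subgroup.mem_inf, MulAction.mem_stabilizer_iff, MulAction.mem_stabilizer_iff] at hy
      exact ⟨y.2, hy.1, hy.2⟩
    · rintro ⟨h1, h2, h3⟩
      refine ⟨⟨x, h1⟩, ?_, rfl⟩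
      rw [Subgroup.mem_inf, MulAction.mem_stabilizer_iff, MulAction.mem_stabilizer_iff]
      exact ⟨h2, h3⟩
  rw [← h, Subgroup.card_map_of_injective M24.subtype_injective,
    card_M22 none (some 0) (by decide)]

theorem factorization_M22_11 : (Nat.card ↥Cfsg.Spor.M22).factorization 11 = 1 := by
  rw [card_SporM22]
  have h : 443520 = 11 * 40320 := by norm_num
  rw [h, Nat.factorization_mul (by norm_num) (by norm_num), Finsupp.add_apply,
    Nat.Prime.factorization_self (by norm_num), Nat.factorization_eq_zero_of_not_dvd (by norm_num)]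

theorem gen22 : Cfsg.Spor.M22 ≤ Subgroup.closure {fperm tU24, fperm tC24, fperm X22} := by
  intro x hx
  obtain ⟨hx24, hx23, hx0⟩ := mem_SporM22.mp hx
  have hvT := okK_valid out22_basic.2.1
  have h := mem_closure_of_cert T22 out22_basic.2.1 out22_basic.2.2.1 [tU24, tC24, X22] (by
      intro L hL
      simp only [List.mem_cons, List.not_mem_nil, or_false] at hL
      rcases hL with rfl | rfl | rfl
      · exact out24_basic.2.1
      · exact out24_basic.2.2.2.1
      · exact out22_basic.1) g22Prog 3 g22Pos 2 cert22 hx24 (by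
      intro j hj
      have hj' : j = 0 ∨ j = 1 := by omega
      rcases hj' with rfl | rfl
      · have hb : Cfsg.Agent.Lib.helper3.bpt 0 = pt 0 := by decide
        rw [hb, Equiv.Perm.mul_apply, Equiv.Perm.mul_apply, fperm_at hvT (by norm_num),
          out22_basic.2.2.2.2.2.2.1, pt_0, hx0, ← pt_0, fperm_at hvT (by norm_num),
          out22_basic.2.2.2.2.2.2.1]
      · have hb : Cfsg.Agent.Lib.helper3.bpt 1 = pt 12 := by decide
        rw [hb, Equiv.Perm.mul_apply, Equiv.Perm.mul_apply, fperm_at hvT (by norm_num),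
          out22_basic.2.2.2.2.2.2.2.2.1, pt_23, hx23, ← pt_23, fperm_at hvT (by norm_num),
          out22_basic.2.2.2.2.2.2.2.1])
  refine Subgroup.closure_mono ?_ h
  rintro g ⟨L, hL, rfl⟩
  simp only [List.mem_cons, List.not_mem_nil, or_false] at hL
  rcases hL with rfl | rfl | rfl <;> simp

theorem hwG22 : ∀ g ∈ Cfsg.Spor.M22, fperm tW24 * g * fperm tW24 ∈ Cfsg.Spor.M22 := by
  intro g hg
  obtain ⟨h24, h23, h0⟩ := mem_SporM22.mp hg
  rw [mem_SporM22]
  have w23 : fperm tW24 none = some 0 := by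
    rw [← pt_23, fperm_at validT_W24 (by norm_num), out22_basic.2.2.2.2.2.2.2.2.2.2.2.2.2.1, pt_0]
  have w0 : fperm tW24 (some 0) = none := by
    rw [← pt_0, fperm_at validT_W24 (by norm_num), out22_basic.2.2.2.2.2.2.2.2.2.2.2.2.2.2, pt_23]
  refine ⟨M24.mul_mem (M24.mul_mem fpermW_mem h24) fpermW_mem, ?_, ?_⟩
  · rw [Equiv.Perm.mul_apply, Equiv.Perm.mul_apply, w23, h0, w0]
  · rw [Equiv.Perm.mul_apply, Equiv.Perm.mul_apply, w0, h23, w23]

/-- **The outer automorphism group of the two-point stabiliser has order two.** -/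
theorem out22_card : Nat.card (Cfsg.Out ↥Cfsg.Spor.M22) = 2 := by
  apply out_card_two_of M22_le hu22 hw22 hwG22
  intro α
  exact aut_of_survCheck M22_le hu22 hc22 hw22 factorization_M22_11
    (fun g hg _ => Or.inl (tblOf_M22 hg).2) inG22 (by
      intro g hg
      obtain ⟨h23, h0⟩ := tblOf_M22 hg
      unfold inG22
      rw [h23, h0]
      rfl) X22 out22_basic.1 hX22 2 out22_basic.2.2.2.1 _ 2 surv22 gen22 α

end Cfsg.Agent.Lib.helper4
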