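import Mathlib
import Cfsg.Prelude.Def_Sporadic_a
import Cfsg.Prelude.Def_Spor_Mathieu
import Cfsg.Prelude.Def_KGroupFacts
import Cfsg.Agent.Lib.helper4.OutM12Data
import Cfsg.Agent.Lib.helper4.OutMatE
import Cfsg.Agent.Lib.helper4.OutM22
import Cfsg.Agent.Lib.helper4.M12Sharp

set_option autoImplicit false

namespace Cfsg.Agent.Lib.helper4

open Cfsg
open scoped Pointwise
open Cfsg.Agent.Lib.Helper12.Golay

/-! ### The outer automorphism group of the stabiliser of the dodecad of squares -/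

theorem sqDod_eq_fs : Cfsg.Spor.squareDodecad = fs dSq := by
  unfold Cfsg.Spor.squareDodecad
  have h1 : qrWord 0 = wd dSq := by
    funext p
    rw [qrWord_eq]
    rfl
  rw [h1, support₂_wd]

theorem sqDod_mem_dodecads : Cfsg.Spor.squareDodecad ∈ Cfsg.dodecads := by
  rw [sqDod_eq_fs, fs_mem_dodecads_iff (by decide)]
  decide +kernel

theorem dSq_lt : dSq < 2 ^ 24 := out12_basic.2.2.2.2.2.2.2.2.2.2.2.2.2.2.1

theorem mem_SporM12 {g : Equiv.Perm GolayPt} :
    g ∈ Cfsg.Spor.M12 ↔ g ∈ M24 ∧ actK (tblOf g) dSq = dSq := by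
  unfold Cfsg.Spor.M12
  rw [Subgroup.mem_inf, ← fixes_iff_actK g dSq_lt, ← sqDod_eq_fs]
  exact Iff.rfl

theorem fperm_mem_M12 {L : List ℕ} (hok : okK L = true) (h : actK L dSq = dSq) :
    fperm L ∈ Cfsg.Spor.M12 := by
  rw [mem_SporM12, tblOf_fperm (okK_valid hok)]
  exact ⟨fperm_mem hok, h⟩

theorem M12_le : Cfsg.Spor.M12 ≤ M24 := fun _ hg => (mem_SporM12.mp hg).1

theorem hu12 : fperm tU24 ∈ Cfsg.Spor.M12 :=
  fperm_mem_M12 out24_basic.2.1 out12_basic.2.2.2.2.1

theorem hc12 : fperm tC24 ∈ Cfsg.Spor.M12 :=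
  fperm_mem_M12 out24_basic.2.2.2.1 out12_basic.2.2.2.2.2.1

theorem hZ12 : fperm Z12 ∈ Cfsg.Spor.M12 :=
  fperm_mem_M12 out12_basic.1 out12_basic.2.2.2.2.2.2.1

theorem hw12 : fperm tW24 ∉ Cfsg.Spor.M12 := by
  intro h
  have h1 := (mem_SporM12.mp h).2
  rw [tblOf_fperm validT_W24, out12_basic.2.2.2.2.2.2.2.2.1] at h1
  revert h1
  decide

theorem smul_mem_sqDod {g : Equiv.Perm GolayPt} (hg : g ∈ Cfsg.Spor.M12) {p : GolayPt}
    (hp : p ∈ fs dSq) : g p ∈ fs dSq := by
  have h1 : g • fs dSq = fs dSq := by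
    rw [fixes_iff_actK g dSq_lt]
    exact (mem_SporM12.mp hg).2
  have h2 : g • p ∈ g • fs dSq := Finset.smul_mem_smul_finset hp
  rw [h1] at h2
  exact h2

theorem card_SporM12 : Nat.card ↥Cfsg.Spor.M12 = 95040 := by
  have h : (MulAction.stabilizer ↥M24 Cfsg.Spor.squareDodecad).map M24.subtype =
      Cfsg.Spor.M12 := by
    ext x
    rw [Subgroup.mem_map]
    unfold Cfsg.Spor.M12
    constructor
    · rintro ⟨y, hy, rfl⟩
      refine Subgroup.mem_inf.mpr ⟨y.2, ?_⟩
      rw [MulAction.mem_stabilizer_iff] at hy ⊢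
      exact hy
    · intro hx
      obtain ⟨h1, h2⟩ := Subgroup.mem_inf.mp hx
      refine ⟨⟨x, h1⟩, ?_, rfl⟩
      rw [MulAction.mem_stabilizer_iff] at h2 ⊢
      exact h2
  rw [← h, Subgroup.card_map_of_injective M24.subtype_injective,
    card_M12 _ sqDod_mem_dodecads]

theorem factorization_M12_11 : (Nat.card ↥Cfsg.Spor.M12).factorization 11 = 1 := by
  rw [card_SporM12]
  have h : 95040 = 11 * 8640 := by norm_num
  rw [h, Nat.factorization_mul (by norm_num) (by norm_num), Finsupp.add_apply,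
    Nat.Prime.factorization_self (by norm_num), Nat.factorization_eq_zero_of_not_dvd (by norm_num)]

/-- Two elements of the dodecad stabiliser agreeing on the preimages of five points of the
dodecad are equal. -/
theorem eq_of_agree5 {g h : Equiv.Perm GolayPt} (hg : g ∈ Cfsg.Spor.M12)
    (hh : h ∈ Cfsg.Spor.M12)
    (hag : ∀ j < 5, h (g⁻¹ (Cfsg.Agent.Lib.helper3.gpt (base12.getD j 0))) =
      Cfsg.Agent.Lib.helper3.gpt (base12.getD j 0)) : g = h := by
  have hbmem : ∀ j < 5, Cfsg.Agent.Lib.helper3.gpt (base12.getD j 0) ∈ fs dSq := by decide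
  have hbinj : ∀ j < 5, ∀ k < 5, Cfsg.Agent.Lib.helper3.gpt (base12.getD j 0) =
      Cfsg.Agent.Lib.helper3.gpt (base12.getD k 0) → j = k := by decide
  let y : Fin 5 ↪ GolayPt := ⟨fun j => Cfsg.Agent.Lib.helper3.gpt (base12.getD j 0), by
    intro a b hab
    exact Fin.ext (hbinj a.1 a.2 b.1 b.2 hab)⟩
  let x : Fin 5 ↪ GolayPt := ⟨fun j => g⁻¹ (y j), by
    intro a b hab
    exact y.injective (g⁻¹.injective hab)⟩
  have hginv : g⁻¹ ∈ Cfsg.Spor.M12 := Cfsg.Spor.M12.inv_mem hg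
  have hx : ∀ i, x i ∈ Cfsg.Spor.squareDodecad := by
    intro i
    rw [sqDod_eq_fs]
    exact smul_mem_sqDod hginv (hbmem i.1 i.2)
  have hy : ∀ i, y i ∈ Cfsg.Spor.squareDodecad := by
    intro i
    rw [sqDod_eq_fs]
    exact hbmem i.1 i.2
  obtain ⟨g0, -, huniq⟩ := sharp_five _ sqDod_mem_dodecads x y hx hy
  have mk : ∀ k : Equiv.Perm GolayPt, k ∈ Cfsg.Spor.M12 →
      ∃ k' : MulAction.stabilizer M24 Cfsg.Spor.squareDodecad,
        ((k' : M24) : Equiv.Perm GolayPt) = k := by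
    intro k hk
    obtain ⟨h1, h2⟩ := Subgroup.mem_inf.mp hk
    refine ⟨⟨⟨k, h1⟩, ?_⟩, rfl⟩
    rw [MulAction.mem_stabilizer_iff] at h2 ⊢
    exact h2
  obtain ⟨g', hg'⟩ := mk g hg
  obtain ⟨h', hh'⟩ := mk h hh
  have e1 := huniq g' (by
    intro i
    rw [hg']
    show g (g⁻¹ (y i)) = y i
    rw [← Equiv.Perm.mul_apply, mul_inv_cancel, Equiv.Perm.one_apply])
  have e2 := huniq h' (by
    intro i
    rw [hh']
    exact hag i.1 i.2)
  rw [← hg', ← hh', e1, e2]

theorem realIn_fperm' (H : Subgroup (Equiv.Perm GolayPt)) {L : List ℕ} (hok : okK L = true)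
    (h : fperm L ∈ H) : RealIn H L := realIn_fperm H (okK_valid hok) h

theorem gen12 : Cfsg.Spor.M12 ≤ Subgroup.closure {fperm tU24, fperm tC24, fperm Z12} := by
  intro g hg
  set H := Subgroup.closure ({fperm tU24, fperm tC24, fperm Z12} : Set (Equiv.Perm GolayPt))
    with hH
  have hHle : H ≤ Cfsg.Spor.M12 := by
    rw [hH, Subgroup.closure_le]
    intro k hk
    rcases hk with rfl | rfl | rfl
    · exact hu12
    · exact hc12
    · exact hZ12
  have hacc : ∀ L ∈ [Z12, tC24, tU24], RealIn H L := by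
    intro L hL
    simp only [List.mem_cons, List.not_mem_nil, or_false] at hL
    rcases hL with rfl | rfl | rfl
    · exact realIn_fperm' H out12_basic.1 (Subgroup.subset_closure (by simp))
    · exact realIn_fperm' H out24_basic.2.2.2.1 (Subgroup.subset_closure (by simp))
    · exact realIn_fperm' H out24_basic.2.1 (Subgroup.subset_closure (by simp))
  have hbase : ∀ j < 5, base12.getD j 0 < 24 := by decide
  have hlevel := level_of_certGen H _ hacc g12Prog 3 g12Pos base12 orb12 0 5 hbase cert12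
  have hA : ∀ k ∈ H, ∀ p, dSq.testBit (Cfsg.Agent.Lib.helper3.gidx p) = true →
      dSq.testBit (Cfsg.Agent.Lib.helper3.gidx (k p)) = true := by
    intro k hk p hp
    rw [gidx_eq_idx_all] at hp ⊢
    rw [← mem_fs] at hp ⊢
    exact smul_mem_sqDod (hHle hk) hp
  have hginv : g⁻¹ ∈ Cfsg.Spor.M12 := Cfsg.Spor.M12.inv_mem hg
  have hbmem : ∀ j < 5, Cfsg.Agent.Lib.helper3.gpt (base12.getD j 0) ∈ fs dSq := by decide
  have hbinj : ∀ j < 5, ∀ k < 5, Cfsg.Agent.Lib.helper3.gpt (base12.getD j 0) =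
      Cfsg.Agent.Lib.helper3.gpt (base12.getD k 0) → j = k := by decide
  obtain ⟨h, hh, hhx⟩ := reach_gen H dSq hA base12 orb12 5
    (fun i hi q hq ho => hlevel i hi (Nat.zero_le i) q hq ho) horb12' hbase 5 le_rfl
    (fun j => g⁻¹ (Cfsg.Agent.Lib.helper3.gpt (base12.getD j 0))) (by
      intro j hj
      rw [gidx_eq_idx_all, ← mem_fs]
      exact smul_mem_sqDod hginv (hbmem j hj)) (by
      intro j hj k hk hjk
      exact hbinj j hj k hk (g⁻¹.injective hjk))
  rw [eq_of_agree5 hg (hHle hh) hhx]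
  exact hh

theorem hwG12 : ∀ g ∈ Cfsg.Spor.M12, fperm tW24 * g * fperm tW24 ∈ Cfsg.Spor.M12 := by
  intro g hg
  have h24 := M12_le hg
  have hgd : g • fs dSq = fs dSq := by
    rw [fixes_iff_actK g dSq_lt]
    exact (mem_SporM12.mp hg).2
  have hw : fperm tW24 • fs dSq = fs (16777215 - dSq) := by
    have h1 : fperm tW24 = (fperm tW24)⁻¹ := fpermW_inv.symm
    have h2 : (fperm tW24)⁻¹ = permT tW24 := by
      unfold fperm
      rw [inv_inv]
    rw [h1, h2, permT_smul_fs validT_W24 dSq_lt, out12_basic.2.2.2.2.2.2.2.2.2.1]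
  have hcompl : fs (16777215 - dSq) = Finset.univ \ fs dSq := by
    ext p
    rw [Finset.mem_sdiff, mem_fs, mem_fs]
    have : ∀ i < 24, ((16777215 - dSq).testBit i = true ↔ ¬ dSq.testBit i = true) := by decide
    simpa using this (idx p) (idx_lt p)
  have hw' : fperm tW24 • (Finset.univ \ fs dSq) = fs dSq := by
    rw [← hcompl, ← hw, smul_smul, fpermW_sq, one_smul]
  have hgc : g • (Finset.univ \ fs dSq) = Finset.univ \ fs dSq := by
    rw [Finset.smul_finset_sdiff, Finset.smul_finset_univ, hgd]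
  unfold Cfsg.Spor.M12
  refine Subgroup.mem_inf.mpr ⟨M24.mul_mem (M24.mul_mem fpermW_mem h24) fpermW_mem, ?_⟩
  rw [MulAction.mem_stabilizer_iff, sqDod_eq_fs, mul_smul, mul_smul, hw, hcompl, hgc, hw']

theorem tblOf_zero_M12 {g : Equiv.Perm GolayPt} (hg : g ∈ Cfsg.Spor.M12)
    (hc : g * fperm tC24 = fperm tC24 * g) :
    (tblOf g).getD 0 0 = 0 ∨ (tblOf g).getD 0 0 = 3 := by
  have hint := intertwine_of_mul hc
  rw [tblOf_fperm validT_C24] at hint
  have h1 := hint 0 (by norm_num)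
  rw [outmat_basic.2.2.2.2.2.2.2.1] at h1
  have hlt : (tblOf g).getD 0 0 < 24 := getD_lt_of_valid (tblOf_lt g) 0
  have h2 := outmat_basic.2.2.2.2.2.2.1 _ (List.mem_range.mpr hlt) h1.symm
  apply out12_basic.2.2.2.2.2.2.2.2.2.2.2.2.2.2.2.1 _ h2
  have h3 : g (pt 0) ∈ fs dSq := smul_mem_sqDod hg (by
    rw [mem_fs, idx_pt (by norm_num)]
    exact out12_basic.2.2.2.2.2.2.2.2.2.2.2.2.2.2.2.2)
  rw [mem_fs] at h3
  rw [tblOf_getD g (by norm_num)]
  exact h3

/-- **The outer automorphism group of the stabiliser of the dodecad of squares has order two.** -/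
theorem out12_card : Nat.card (Cfsg.Out ↥Cfsg.Spor.M12) = 2 := by
  apply out_card_two_of M12_le hu12 hw12 hwG12
  intro α
  exact aut_of_survCheck M12_le hu12 hc12 hw12 factorization_M12_11
    (fun g hg hc => tblOf_zero_M12 hg hc) inG12 (by
      intro g hg
      unfold inG12
      rw [(mem_SporM12.mp hg).2]
      exact natBeq_iff.mpr rfl) Z12 out12_basic.1 hZ12 1 out12_basic.2.2.1 _ 2 surv12 gen12 α

end Cfsg.Agent.Lib.helper4
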