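import Cfsg.Agent.Lib.helper7.SAP.Defs
import Cfsg.Agent.Lib.helper4.SAPCAR3

/-!
# SAP SM3 (`pres_A4`): `A_4 = ⟨x, y | x^3, y^3, (x y)^2⟩`.
-/

namespace Cfsg.Agent.Lib.helper7.SAP

open Equiv

universe u v

/-- Carmichael's bound for a generating family. -/
theorem sapsm3_card_le {G : Type u} [Group G] {ι : Type v} [Finite ι] (x : ι → G) (h : CarRel x)
    (hgen : Subgroup.closure (Set.range x) = ⊤) :
    Finite G ∧ 2 * Nat.card G ≤ (Nat.card ι + 2).factorial := by
  obtain ⟨hfin, hle⟩ := car_card_le x h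
  rw [hgen] at hfin hle
  have e : (⊤ : Subgroup G) ≃ G := Subgroup.topEquiv.toEquiv
  refine ⟨Finite.of_equiv _ e, ?_⟩
  rw [← Nat.card_congr e]
  exact hle

theorem sapsm3_swap_sq {G : Type*} [Group G] (a b : G) (h : (a * b) ^ 2 = 1) :
    (b * a) ^ 2 = 1 := by
  have h1 := sapcar2_aba a b h
  rw [sq, ← mul_assoc, mul_assoc b, mul_assoc b, h1, mul_inv_cancel]

/-- the two generating 3-cycles of `A_4` -/
def sapsm3_a : alternatingGroup (Fin 4) :=
  ⟨swap 0 2 * swap 2 3, Equiv.Perm.mem_alternatingGroup.2 (by decide)⟩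

/-- the two generating 3-cycles of `A_4` -/
def sapsm3_b : alternatingGroup (Fin 4) :=
  ⟨swap 1 2 * swap 2 3, Equiv.Perm.mem_alternatingGroup.2 (by decide)⟩

theorem sapsm3_all : ∀ σ : alternatingGroup (Fin 4), σ ∈
    ([1, sapsm3_a, sapsm3_a * sapsm3_a, sapsm3_b, sapsm3_b * sapsm3_b,
      sapsm3_a * sapsm3_b, sapsm3_b * sapsm3_a,
      sapsm3_a * sapsm3_a * sapsm3_b, sapsm3_a * sapsm3_b * sapsm3_b,
      sapsm3_b * sapsm3_a * sapsm3_a, sapsm3_b * sapsm3_b * sapsm3_a,
      sapsm3_a * sapsm3_b * sapsm3_b * sapsm3_a] : List (alternatingGroup (Fin 4))) := by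
  decide +kernel

theorem sapsm3_card_A4 : Nat.card (alternatingGroup (Fin 4)) = 12 := by
  have h := two_mul_card_alternatingGroup (α := Fin 4)
  rw [Fintype.card_perm, Fintype.card_fin] at h
  rw [Nat.card_eq_fintype_card]
  have : (4 : ℕ).factorial = 24 := by decide
  omega

/-- the relators of `A_4` -/
def sapsm3_rels : Finset (FreeGroup (Fin 2)) :=
  {FreeGroup.of 0 ^ 3, FreeGroup.of 1 ^ 3, (FreeGroup.of 0 * FreeGroup.of 1) ^ 2}

theorem sapsm3_rel_hom : ∀ r ∈ (↑sapsm3_rels : Set (FreeGroup (Fin 2))),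
    FreeGroup.lift ![sapsm3_a, sapsm3_b] r = 1 := by
  intro r hr
  rw [Finset.mem_coe, sapsm3_rels, Finset.mem_insert, Finset.mem_insert, Finset.mem_singleton] at hr
  rcases hr with rfl | rfl | rfl
  · rw [map_pow, FreeGroup.lift_apply_of]
    change sapsm3_a ^ 3 = 1
    decide +kernel
  · rw [map_pow, FreeGroup.lift_apply_of]
    change sapsm3_b ^ 3 = 1
    decide +kernel
  · rw [map_pow, map_mul, FreeGroup.lift_apply_of, FreeGroup.lift_apply_of]
    change (sapsm3_a * sapsm3_b) ^ 2 = 1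
    decide +kernel

theorem sapsm3_carRel :
    CarRel (PresentedGroup.of : Fin 2 → PresentedGroup (↑sapsm3_rels : Set (FreeGroup (Fin 2)))) := by
  have h0 : (PresentedGroup.of (rels := (↑sapsm3_rels : Set (FreeGroup (Fin 2)))) 0) ^ 3 = 1 := by
    have : PresentedGroup.mk (↑sapsm3_rels : Set (FreeGroup (Fin 2))) (FreeGroup.of 0 ^ 3) = 1 :=
      PresentedGroup.one_of_mem (by simp [sapsm3_rels])
    rwa [map_pow] at this
  have h1 : (PresentedGroup.of (rels := (↑sapsm3_rels : Set (FreeGroup (Fin 2)))) 1) ^ 3 = 1 := by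
    have : PresentedGroup.mk (↑sapsm3_rels : Set (FreeGroup (Fin 2))) (FreeGroup.of 1 ^ 3) = 1 :=
      PresentedGroup.one_of_mem (by simp [sapsm3_rels])
    rwa [map_pow] at this
  have h01 : (PresentedGroup.of (rels := (↑sapsm3_rels : Set (FreeGroup (Fin 2)))) 0 *
      PresentedGroup.of 1) ^ 2 = 1 := by
    have : PresentedGroup.mk (↑sapsm3_rels : Set (FreeGroup (Fin 2)))
        ((FreeGroup.of 0 * FreeGroup.of 1) ^ 2) = 1 :=
      PresentedGroup.one_of_mem (by simp [sapsm3_rels])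
    rwa [map_pow, map_mul] at this
  refine ⟨?_, ?_⟩
  · intro i
    fin_cases i
    · exact h0
    · exact h1
  · intro i j hij
    fin_cases i <;> fin_cases j
    · exact absurd rfl hij
    · exact h01
    · exact sapsm3_swap_sq _ _ h01
    · exact absurd rfl hij

/-- SM3 [M]: `A_4 = ⟨x, y | x^3, y^3, (x y)^2⟩` (CAR3 with `ι = Fin 2`, ALT3). -/
theorem pres_A4 : ∃ rels : Finset (FreeGroup (Fin 2)), rels.card ≤ 3 ∧
    Nonempty (PresentedGroup (↑rels : Set (FreeGroup (Fin 2))) ≃* alternatingGroup (Fin 4)) := by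
  refine ⟨sapsm3_rels, Finset.card_le_three, ?_⟩
  obtain ⟨hfin, hle⟩ := sapsm3_card_le _ sapsm3_carRel (PresentedGroup.closure_range_of _)
  rw [Nat.card_fin] at hle
  have hle' : Nat.card (PresentedGroup (↑sapsm3_rels : Set (FreeGroup (Fin 2)))) ≤ 12 := by
    have : (2 + 2 : ℕ).factorial = 24 := by decide
    omega
  set F : PresentedGroup (↑sapsm3_rels : Set (FreeGroup (Fin 2))) →* alternatingGroup (Fin 4) :=
    PresentedGroup.toGroup sapsm3_rel_hom with hF
  have ha : sapsm3_a ∈ F.range := ⟨PresentedGroup.of 0, by rw [hF, PresentedGroup.toGroup.of]; rfl⟩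
  have hb : sapsm3_b ∈ F.range := ⟨PresentedGroup.of 1, by rw [hF, PresentedGroup.toGroup.of]; rfl⟩
  have hsurj : Function.Surjective F := by
    intro σ
    have hσ := sapsm3_all σ
    have : σ ∈ F.range := by
      simp only [List.mem_cons, List.not_mem_nil, or_false] at hσ
      rcases hσ with rfl | rfl | rfl | rfl | rfl | rfl | rfl | rfl | rfl | rfl | rfl | rfl
      all_goals
        repeat (first | exact ha | exact hb | exact one_mem _ | apply mul_mem)
    exact this
  have hbij : Function.Bijective F :=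
    hsurj.bijective_of_nat_card_le (by rw [sapsm3_card_A4]; exact hle')
  exact ⟨MulEquiv.ofBijective F hbij⟩

end Cfsg.Agent.Lib.helper7.SAP
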