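import Cfsg.Agent.Lib.helper7.SAP.Defs
import Cfsg.Agent.Lib.helper4.SAPSM3

/-!
# SAP SM2 (`pres_S3`): `S_3 = ⟨z, t | z^3, t^2, (z t)^2⟩`.
-/

namespace Cfsg.Agent.Lib.helper7.SAP

open Equiv

universe u v

/-- A group generated by `z`, `t` with `z^3 = t^2 = (z t)^2 = 1` has at most 6 elements. -/
theorem sapsm2_card_le {G : Type u} [Group G] (z t : G) (hz : z ^ 3 = 1) (ht : t ^ 2 = 1)
    (hzt : (z * t) ^ 2 = 1) (hgen : Subgroup.closure ({z, t} : Set G) = ⊤) :
    Finite G ∧ Nat.card G ≤ 6 := by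
  have hzi : z⁻¹ = z * z := by rw [sapcar2_inv z hz, sq]
  have hti : t⁻¹ = t := by rw [inv_eq_iff_mul_eq_one, ← sq, ht]
  have htz : t * z = z ^ 2 * t := by
    have h := sapcar2_self_inv t z (sapsm3_swap_sq z t hzt)
    rw [mul_inv_rev, hti, sapcar2_inv z hz] at h
    exact h.symm
  have key : ∀ g : G, ∃ i : ℕ, g = z ^ i ∨ g = z ^ i * t := by
    have stepz : ∀ g : G, (∃ i : ℕ, g = z ^ i ∨ g = z ^ i * t) →
        ∃ i : ℕ, g * z = z ^ i ∨ g * z = z ^ i * t := by
      rintro g ⟨i, rfl | rfl⟩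
      · exact ⟨i + 1, Or.inl (pow_succ z i).symm⟩
      · refine ⟨i + 2, Or.inr ?_⟩
        rw [mul_assoc, htz, ← mul_assoc, ← pow_add]
    have stept : ∀ g : G, (∃ i : ℕ, g = z ^ i ∨ g = z ^ i * t) →
        ∃ i : ℕ, g * t = z ^ i ∨ g * t = z ^ i * t := by
      rintro g ⟨i, rfl | rfl⟩
      · exact ⟨i, Or.inr rfl⟩
      · refine ⟨i, Or.inl ?_⟩
        rw [mul_assoc, ← sq, ht, mul_one]
    intro g
    have hg : g ∈ Subgroup.closure ({z, t} : Set G) := by rw [hgen]; trivial
    induction hg using Subgroup.closure_induction_right with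
    | one => exact ⟨0, Or.inl (pow_zero z).symm⟩
    | mul_right g y hg hy ih =>
      rcases hy with rfl | rfl
      · exact stepz g ih
      · exact stept g ih
    | mul_inv_cancel g y hg hy ih =>
      rcases hy with rfl | rfl
      · rw [hzi, ← mul_assoc]
        exact stepz _ (stepz g ih)
      · rw [hti]
        exact stept g ih
  have hsurj : Function.Surjective (fun ij : Fin 3 × Fin 2 => z ^ (ij.1 : ℕ) * t ^ (ij.2 : ℕ)) := by
    intro g
    obtain ⟨i, hi | hi⟩ := key g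
    · refine ⟨(⟨i % 3, Nat.mod_lt _ (by norm_num)⟩, 0), ?_⟩
      change z ^ (i % 3) * t ^ 0 = g
      rw [pow_zero, mul_one, hi, pow_eq_pow_mod i hz]
    · refine ⟨(⟨i % 3, Nat.mod_lt _ (by norm_num)⟩, 1), ?_⟩
      change z ^ (i % 3) * t ^ 1 = g
      rw [pow_one, hi, pow_eq_pow_mod i hz]
  have hfin : Finite G := Finite.of_surjective _ hsurj
  refine ⟨hfin, ?_⟩
  have := Nat.card_le_card_of_surjective _ hsurj
  rwa [Nat.card_prod, Nat.card_fin, Nat.card_fin] at this

/-- generators of `S_3` -/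
def sapsm2_a : Perm (Fin 3) := swap 0 1 * swap 1 2

/-- generators of `S_3` -/
def sapsm2_b : Perm (Fin 3) := swap 0 1

theorem sapsm2_all : ∀ σ : Perm (Fin 3), σ ∈
    ([1, sapsm2_a, sapsm2_a * sapsm2_a, sapsm2_b, sapsm2_a * sapsm2_b,
      sapsm2_a * sapsm2_a * sapsm2_b] : List (Perm (Fin 3))) := by
  decide +kernel

/-- the relators of `S_3` -/
def sapsm2_rels : Finset (FreeGroup (Fin 2)) :=
  {FreeGroup.of 0 ^ 3, FreeGroup.of 1 ^ 2, (FreeGroup.of 0 * FreeGroup.of 1) ^ 2}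

theorem sapsm2_rel_hom : ∀ r ∈ (↑sapsm2_rels : Set (FreeGroup (Fin 2))),
    FreeGroup.lift ![sapsm2_a, sapsm2_b] r = 1 := by
  intro r hr
  rw [Finset.mem_coe, sapsm2_rels, Finset.mem_insert, Finset.mem_insert, Finset.mem_singleton] at hr
  rcases hr with rfl | rfl | rfl
  · rw [map_pow, FreeGroup.lift_apply_of]
    change sapsm2_a ^ 3 = 1
    decide +kernel
  · rw [map_pow, FreeGroup.lift_apply_of]
    change sapsm2_b ^ 2 = 1
    decide +kernel
  · rw [map_pow, map_mul, FreeGroup.lift_apply_of, FreeGroup.lift_apply_of]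
    change (sapsm2_a * sapsm2_b) ^ 2 = 1
    decide +kernel

/-- SM2 [M]: `S_3 = ⟨z, t | z^3, t^2, (z t)^2⟩`. -/
theorem pres_S3 : ∃ rels : Finset (FreeGroup (Fin 2)), rels.card ≤ 3 ∧
    Nonempty (PresentedGroup (↑rels : Set (FreeGroup (Fin 2))) ≃* Perm (Fin 3)) := by
  refine ⟨sapsm2_rels, Finset.card_le_three, ?_⟩
  have h0 : (PresentedGroup.of (rels := (↑sapsm2_rels : Set (FreeGroup (Fin 2)))) 0) ^ 3 = 1 := by
    have : PresentedGroup.mk (↑sapsm2_rels : Set (FreeGroup (Fin 2))) (FreeGroup.of 0 ^ 3) = 1 :=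
      PresentedGroup.one_of_mem (by simp [sapsm2_rels])
    rwa [map_pow] at this
  have h1 : (PresentedGroup.of (rels := (↑sapsm2_rels : Set (FreeGroup (Fin 2)))) 1) ^ 2 = 1 := by
    have : PresentedGroup.mk (↑sapsm2_rels : Set (FreeGroup (Fin 2))) (FreeGroup.of 1 ^ 2) = 1 :=
      PresentedGroup.one_of_mem (by simp [sapsm2_rels])
    rwa [map_pow] at this
  have h01 : (PresentedGroup.of (rels := (↑sapsm2_rels : Set (FreeGroup (Fin 2)))) 0 *
      PresentedGroup.of 1) ^ 2 = 1 := by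
    have : PresentedGroup.mk (↑sapsm2_rels : Set (FreeGroup (Fin 2)))
        ((FreeGroup.of 0 * FreeGroup.of 1) ^ 2) = 1 :=
      PresentedGroup.one_of_mem (by simp [sapsm2_rels])
    rwa [map_pow, map_mul] at this
  have hgen : Subgroup.closure ({PresentedGroup.of (rels := (↑sapsm2_rels : Set (FreeGroup (Fin 2)))) 0,
      PresentedGroup.of 1} : Set (PresentedGroup (↑sapsm2_rels : Set (FreeGroup (Fin 2))))) = ⊤ := by
    rw [← PresentedGroup.closure_range_of]
    congr 1
    ext g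
    constructor
    · rintro (rfl | rfl)
      · exact ⟨0, rfl⟩
      · exact ⟨1, rfl⟩
    · rintro ⟨i, rfl⟩
      fin_cases i
      · exact Or.inl rfl
      · exact Or.inr rfl
  obtain ⟨hfin, hle⟩ := sapsm2_card_le _ _ h0 h1 h01 hgen
  set F : PresentedGroup (↑sapsm2_rels : Set (FreeGroup (Fin 2))) →* Perm (Fin 3) :=
    PresentedGroup.toGroup sapsm2_rel_hom with hF
  have ha : sapsm2_a ∈ F.range := ⟨PresentedGroup.of 0, by rw [hF, PresentedGroup.toGroup.of]; rfl⟩
  have hb : sapsm2_b ∈ F.range := ⟨PresentedGroup.of 1, by rw [hF, PresentedGroup.toGroup.of]; rfl⟩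
  have hsurj : Function.Surjective F := by
    intro σ
    have hσ := sapsm2_all σ
    have : σ ∈ F.range := by
      simp only [List.mem_cons, List.not_mem_nil, or_false] at hσ
      rcases hσ with rfl | rfl | rfl | rfl | rfl | rfl
      all_goals
        repeat (first | exact ha | exact hb | exact one_mem _ | apply mul_mem)
    exact this
  have hcard : Nat.card (Perm (Fin 3)) = 6 := by
    rw [Nat.card_eq_fintype_card, Fintype.card_perm, Fintype.card_fin]
    decide
  have hbij : Function.Bijective F :=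
    hsurj.bijective_of_nat_card_le (by rw [hcard]; exact hle)
  exact ⟨MulEquiv.ofBijective F hbij⟩

end Cfsg.Agent.Lib.helper7.SAP
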