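import Mathlib
import Cfsg.Agent.Lib.Helper19.ORE.Defs
import Cfsg.Agent.Lib.Helper19.OREC23h19
import Cfsg.Agent.Lib.Helper13.OREB2
import Cfsg.Agent.Lib.helper8.OREC3
import Cfsg.Agent.Lib.helper4.OREC4core

/-!
# ORE row C4 (`cyc_flex`), verbatim: a cyclic `g` of determinant 1 in dimension `≥ 3` is flexible.

One-term wrapper of `orec4_core` on C2 (`orec2_h19_cyc_piece`, the spare copy of `cyc_piece`),
B2 (`block_lu`) and C3 (`line_sol`).
-/

set_option autoImplicit false

namespace Cfsg.Agent.Lib.Helper19.ORE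

open Polynomial Module

universe u v

section
variable {F : Type u} [Field F]

theorem cyc_flex [Fintype F] {V : Type v} [AddCommGroup V] [Module F V] [FiniteDimensional F V]
    (g : V ≃ₗ[F] V) (hg : IsCyc g) (h3 : 3 ≤ finrank F V) (hdet : LinearEquiv.det g = 1) :
    Flex g :=
  orec4_core g hg h3 hdet
    (fun d hd hV => orec2_h19_cyc_piece g hg d hd hV)
    (fun hs => block_lu hs)
    (fun g₂ h1 hd a e => line_sol g₂ h1 hd a e)

end

end Cfsg.Agent.Lib.Helper19.ORE
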