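import Mathlib
import Cfsg.Agent.Lib.helper6.P4T.Defs

/-! P4T row TR3 (`rho12M_diag`), helper4. -/

set_option autoImplicit false

namespace Cfsg.Agent.Lib.helper23.P4S

open Matrix
open scoped Kronecker

/-- the symmetric square of `diag(b, b⁻¹)` -/
theorem p4ttr3_sym2M_diag {K : Type*} [Field K] (b : K) (hb : b ≠ 0) :
    sym2M (Matrix.diagonal ![b, b⁻¹]) = Matrix.diagonal ![b * b, 1, b⁻¹ * b⁻¹] := by
  ext i j
  fin_cases i <;> fin_cases j <;> simp [sym2M, hb]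

/-- TR3 [S-M]: `sym2M (diagonal ![b, b⁻¹]) = diagonal ![b * b, 1, b⁻¹ * b⁻¹]` (entrywise; the middle entry is `b * b⁻¹ + 0 = 1`), `Matrix.diagonal_map`, `Matrix.diagonal_kronecker_diagonal`, `frq_apply`,
`3 ^ (n + 1) = 3 * 3 ^ n`; `![b, b⁻¹] j ^ q` by `fin_cases`. -/
theorem rho12M_diag {K : Type} [Field K] [CharP K 3] (n : ℕ) (b : K) (hb : b ≠ 0) :
    rho12M (frq K 3 n) (frq K 3 (n + 1)) (Matrix.diagonal ![b, b⁻¹]) = Matrix.diagonal (wt12 b (3 ^ n)) := by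
  unfold rho12M
  rw [p4ttr3_sym2M_diag b hb, Matrix.diagonal_map (map_zero _), Matrix.diagonal_map (map_zero _),
    Matrix.diagonal_kronecker_diagonal, Matrix.diagonal_kronecker_diagonal]
  congr 1
  funext j
  unfold wt12
  rw [frq_apply, frq_apply, pow_succ' 3 n]

end Cfsg.Agent.Lib.helper23.P4S
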