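import Mathlib
import Cfsg.Agent.Lib.helper6.P4T.Defs
import Cfsg.Agent.Lib.helper4.P4TTR3

/-! P4T row TR4 (`rho12M_conj`), helper4.  The contents of TR1 / TR2 are reproved here under own names. -/

set_option autoImplicit false

namespace Cfsg.Agent.Lib.helper23.P4S

open Matrix
open scoped Kronecker

/-- the content of TR1 -/
theorem p4ttr4_sym2M_map {R S : Type*} [CommRing R] [CommRing S] (f : R →+* S) (A : Matrix (Fin 2) (Fin 2) R) :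
    (sym2M A).map f = sym2M (A.map f) := by
  ext i j
  fin_cases i <;> fin_cases j <;> simp [sym2M, map_mul, map_add, map_ofNat]

/-- the content of TR2 -/
theorem p4ttr4_map {R S : Type*} [CommRing R] [CommRing S] (f : R →+* S) (φ₁ φ₂ : R →+* R) (ψ₁ ψ₂ : S →+* S)
    (hf₁ : ∀ x, f (φ₁ x) = ψ₁ (f x)) (hf₂ : ∀ x, f (φ₂ x) = ψ₂ (f x)) (A : Matrix (Fin 2) (Fin 2) R) :
    (rho12M φ₁ φ₂ A).map f = rho12M ψ₁ ψ₂ (A.map f) := by
  unfold rho12M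
  rw [← p4ttr4_sym2M_map]
  ext ⟨i0, i1, i2⟩ ⟨j0, j1, j2⟩
  simp [Matrix.kroneckerMap_apply, hf₁, hf₂]

/-- TR4 [M] (cites TR2, TR3): as helper23's SL2 `rho2M_conj`: TR2 with `f = algebraMap E K`, `ψᵢ = frq K 3 _` (`map_pow`), `rho12M_mul`, TR3; `Q = rho12M ψ₁ ψ₂ P`, `Q⁻¹ = rho12M ψ₁ ψ₂ P⁻¹`
(`rho12M_mul`, `rho12M_one`, `Matrix.inv_eq_right_inv`; `P * P⁻¹ = 1` from `IsUnit P.det`: `Matrix.mul_nonsing_inv`), `IsUnit Q.det` from `Q * rho12M ψ₁ ψ₂ P⁻¹ = 1` (`Matrix.isUnit_det_of_right_inverse`). -/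
theorem rho12M_conj {E K : Type} [Field E] [Field K] [Algebra E K] [CharP E 3] [CharP K 3] (n : ℕ)
    (A : Matrix (Fin 2) (Fin 2) E) (b : K) (hb : b ≠ 0) (P : Matrix (Fin 2) (Fin 2) K) (hP : IsUnit P.det)
    (h : A.map (algebraMap E K) = P * Matrix.diagonal ![b, b⁻¹] * P⁻¹) :
    ∃ Q : Matrix (Fin 3 × (Fin 2 × Fin 2)) (Fin 3 × (Fin 2 × Fin 2)) K, IsUnit Q.det ∧
      (rho12M (frq E 3 n) (frq E 3 (n + 1)) A).map (algebraMap E K) =
        Q * Matrix.diagonal (wt12 b (3 ^ n)) * Q⁻¹ := by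
  have hf : ∀ (m : ℕ) (x : E), algebraMap E K (frq E 3 m x) = frq K 3 m (algebraMap E K x) := by
    intro m x
    rw [frq_apply, frq_apply, map_pow]
  have h1 := p4ttr4_map (algebraMap E K) (frq E 3 n) (frq E 3 (n + 1)) (frq K 3 n) (frq K 3 (n + 1))
    (hf n) (hf (n + 1)) A
  have hinv : rho12M (frq K 3 n) (frq K 3 (n + 1)) P * rho12M (frq K 3 n) (frq K 3 (n + 1)) P⁻¹ = 1 := by
    rw [← rho12M_mul, Matrix.mul_nonsing_inv P hP, rho12M_one]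
  refine ⟨rho12M (frq K 3 n) (frq K 3 (n + 1)) P, Matrix.isUnit_det_of_right_inverse hinv, ?_⟩
  rw [Matrix.inv_eq_right_inv hinv, h1, h, rho12M_mul, rho12M_mul, rho12M_diag n b hb]

end Cfsg.Agent.Lib.helper23.P4S
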