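import Cfsg.Agent.Lib.Helper28.TOO.Defs

/-!
# Project TOO (S5681), row WG3: far pair (helper4)
-/

set_option autoImplicit false
set_option linter.unusedVariables false
set_option linter.unusedSectionVars false

namespace Cfsg.Agent.Lib.Helper28.TOO

open Matrix
open scoped Kronecker
open Cfsg.Agent.Lib.helper7.TP Cfsg.Agent.Lib.Helper21.TS

section generic

variable {ι : Type*} [Fintype ι] [DecidableEq ι] {F : Type*} [Field F] {J : Matrix ι ι F}

/-- WG3 [M]. far pair: a singular `s` non-orthogonal to both `w₁` and `w₂`. -/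
theorem w1_far_pair (h2 : (2 : F) ≠ 0) (hJ : Jᵀ = J) (hdet : J.det ≠ 0) (w₁ w₂ : ι → F)
    (h11 : bf J w₁ w₁ = 0) (h12 : bf J w₁ w₂ = 0)
    (hind : ∀ c₁ c₂ : F, c₁ • w₁ + c₂ • w₂ = 0 → c₁ = 0 ∧ c₂ = 0) :
    ∃ s : ι → F, bf J s s = 0 ∧ bf J s w₁ ≠ 0 ∧ bf J s w₂ ≠ 0 := by
  have hw1 : w₁ ≠ 0 := by
    intro h
    have h' := (hind 1 0 (by rw [h, smul_zero, zero_smul, add_zero])).1
    exact one_ne_zero h'
  have hw2 : w₂ ≠ 0 := by
    intro h
    have h' := (hind 0 1 (by rw [h, smul_zero, zero_smul, add_zero])).2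
    exact one_ne_zero h'
  obtain ⟨x₁, hx₁⟩ := bf_nondeg' hdet hw1
  obtain ⟨x₂, hx₂⟩ := bf_nondeg' hdet hw2
  have key : ∃ x, bf J x w₁ ≠ 0 ∧ bf J x w₂ ≠ 0 := by
    by_cases ha : bf J x₁ w₂ = 0
    · by_cases hb : bf J x₂ w₁ = 0
      · refine ⟨x₁ + x₂, ?_, ?_⟩
        · rw [bf_add_left, hb, add_zero]; exact hx₁
        · rw [bf_add_left, ha, zero_add]; exact hx₂
      · exact ⟨x₂, hb, hx₂⟩
    · exact ⟨x₁, hx₁, ha⟩
  obtain ⟨x, hα, hβ⟩ := key
  refine ⟨x - (bf J x x / (2 * bf J x w₁)) • w₁, ?_, ?_, ?_⟩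
  · simp only [bf_sub_left, bf_sub_right, bf_smul_left, bf_smul_right, h11, bf_symm hJ w₁ x]
    field_simp
    ring
  · rw [bf_sub_left, bf_smul_left, h11, mul_zero, sub_zero]; exact hα
  · rw [bf_sub_left, bf_smul_left, h12, mul_zero, sub_zero]; exact hβ

end generic

end Cfsg.Agent.Lib.Helper28.TOO
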