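import Mathlib
import Cfsg.Prelude.Def_SporadicB
import Cfsg.Agent.S0269

set_option autoImplicit false

namespace Cfsg.Agent.Lib.helper4

open Matrix Cfsg.Agent.Lib.helper6 Cfsg.Agent.S0269

theorem exists_vecMulVec_of_rank_one {ι F : Type*} [Fintype ι] [DecidableEq ι] [Field F]
    (M : Matrix ι ι F) (h : M.rank = 1) :
    ∃ u w : ι → F, u ≠ 0 ∧ M = Matrix.vecMulVec u w := by
  have hr : Module.finrank F (LinearMap.range M.mulVecLin) = 1 := h
  obtain ⟨⟨u, hu⟩, hu0, hgen⟩ := finrank_eq_one_iff'.mp hr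
  choose c hc using fun j => hgen ⟨M *ᵥ Pi.single j 1, ⟨Pi.single j 1, rfl⟩⟩
  refine ⟨u, c, ?_, ?_⟩
  · intro h0
    apply hu0
    exact Subtype.ext h0
  · ext i j
    have h1 := congrArg (fun y : LinearMap.range M.mulVecLin => (y : ι → F) i) (hc j)
    simp only [SetLike.mk_smul_mk, Pi.smul_apply, smul_eq_mul, Matrix.mulVec_single_one,
      Matrix.col_apply] at h1
    rw [Matrix.vecMulVec_apply, ← h1, mul_comm]


section

variable {n : ℕ}

theorem zmod2_eq_one {a : ZMod 2} (h : a ≠ 0) : a = 1 := by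
  revert a
  decide

theorem zmod2_cases (a : ZMod 2) : a = 0 ∨ a = 1 := by
  revert a
  decide

theorem tau_sq (v : Fin n ⊕ Fin n → ZMod 2) : τ v (1 : ZMod 2) * τ v 1 = 1 := by
  rw [τ_add]
  have : (1 : ZMod 2) + 1 = 0 := by decide
  rw [this, τ_zero]

theorem tau_mulVec_one (v x : Fin n ⊕ Fin n → ZMod 2) :
    ((τ v (1 : ZMod 2) : Matrix.symplecticGroup (Fin n) (ZMod 2)) :
      Matrix (Fin n ⊕ Fin n) (Fin n ⊕ Fin n) (ZMod 2)) *ᵥ x =
      x + (Cfsg.sympForm n (ZMod 2) x v) • v := by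
  rw [τ_mulVec, one_mul]

theorem tau_sub_one (v : Fin n ⊕ Fin n → ZMod 2) :
    ((τ v (1 : ZMod 2) : Matrix.symplecticGroup (Fin n) (ZMod 2)) :
      Matrix (Fin n ⊕ Fin n) (Fin n ⊕ Fin n) (ZMod 2)) - 1 =
      Matrix.vecMulVec v (Matrix.J (Fin n) (ZMod 2) *ᵥ v) := by
  show (1 + (1 : ZMod 2) • Matrix.vecMulVec v (Matrix.J (Fin n) (ZMod 2) *ᵥ v)) - 1 = _
  rw [one_smul, add_sub_cancel_left]

theorem sub_one_mulVec (g : Matrix.symplecticGroup (Fin n) (ZMod 2))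
    (x : Fin n ⊕ Fin n → ZMod 2) :
    ((g : Matrix (Fin n ⊕ Fin n) (Fin n ⊕ Fin n) (ZMod 2)) - 1) *ᵥ x =
      (g : Matrix (Fin n ⊕ Fin n) (Fin n ⊕ Fin n) (ZMod 2)) *ᵥ x - x := by
  rw [Matrix.sub_mulVec, Matrix.one_mulVec]

theorem rank_tau_sub_one (v : Fin n ⊕ Fin n → ZMod 2) (hv : v ≠ 0) :
    (((τ v (1 : ZMod 2) : Matrix.symplecticGroup (Fin n) (ZMod 2)) :
      Matrix (Fin n ⊕ Fin n) (Fin n ⊕ Fin n) (ZMod 2)) - 1).rank = 1 := by
  have hle : (((τ v (1 : ZMod 2) : Matrix.symplecticGroup (Fin n) (ZMod 2)) :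
      Matrix (Fin n ⊕ Fin n) (Fin n ⊕ Fin n) (ZMod 2)) - 1).rank ≤ 1 := by
    rw [tau_sub_one]
    exact Matrix.rank_vecMulVec_le _ _
  by_contra hne
  have h0 : (((τ v (1 : ZMod 2) : Matrix.symplecticGroup (Fin n) (ZMod 2)) :
      Matrix (Fin n ⊕ Fin n) (Fin n ⊕ Fin n) (ZMod 2)) - 1).rank = 0 := by omega
  have hbot : LinearMap.range (((τ v (1 : ZMod 2) : Matrix.symplecticGroup (Fin n) (ZMod 2)) :
      Matrix (Fin n ⊕ Fin n) (Fin n ⊕ Fin n) (ZMod 2)) - 1).mulVecLin = ⊥ :=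
    Submodule.finrank_eq_zero.mp h0
  obtain ⟨x, hx⟩ := sympForm_nondeg n v hv
  have hx' : Cfsg.sympForm n (ZMod 2) x v ≠ 0 := by
    rw [sympForm_swap]
    exact neg_ne_zero.mpr hx
  have hmem : (((τ v (1 : ZMod 2) : Matrix.symplecticGroup (Fin n) (ZMod 2)) :
      Matrix (Fin n ⊕ Fin n) (Fin n ⊕ Fin n) (ZMod 2)) - 1) *ᵥ x ∈
      LinearMap.range (((τ v (1 : ZMod 2) : Matrix.symplecticGroup (Fin n) (ZMod 2)) :
      Matrix (Fin n ⊕ Fin n) (Fin n ⊕ Fin n) (ZMod 2)) - 1).mulVecLin := ⟨x, rfl⟩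
  rw [hbot, Submodule.mem_bot, sub_one_mulVec, tau_mulVec_one, add_sub_cancel_left,
    zmod2_eq_one hx', one_smul] at hmem
  exact hv hmem

/-- an element `g` of `Sp(2n, 2)` with `g - 1` of rank one is a transvection -/
theorem eq_tau_of_rank_one (g : Matrix.symplecticGroup (Fin n) (ZMod 2))
    (hg : ((g : Matrix (Fin n ⊕ Fin n) (Fin n ⊕ Fin n) (ZMod 2)) - 1).rank = 1) :
    ∃ v : Fin n ⊕ Fin n → ZMod 2, v ≠ 0 ∧ g = τ v 1 := by
  obtain ⟨u, w, hu, hM⟩ := exists_vecMulVec_of_rank_one _ hg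
  have hgx : ∀ x, (g : Matrix (Fin n ⊕ Fin n) (Fin n ⊕ Fin n) (ZMod 2)) *ᵥ x =
      x + (w ⬝ᵥ x) • u := by
    intro x
    have h1 := sub_one_mulVec g x
    rw [hM, Matrix.vecMulVec_mulVec, op_smul_eq_smul] at h1
    rw [h1]
    abel
  have hsymp := (mem_symplecticGroup_iff_sympForm n _).mp g.2
  have key : ∀ x y, (w ⬝ᵥ y) * Cfsg.sympForm n (ZMod 2) x u =
      (w ⬝ᵥ x) * Cfsg.sympForm n (ZMod 2) y u := by
    intro x y
    have h1 := hsymp x y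
    rw [hgx, hgx, sympForm_add_left, sympForm_add_right, sympForm_add_right, sympForm_smul_left,
      sympForm_smul_right, sympForm_smul_left, sympForm_smul_right, sympForm_self,
      sympForm_swap n u y] at h1
    have h2 : (w ⬝ᵥ y) * Cfsg.sympForm n (ZMod 2) x u -
        (w ⬝ᵥ x) * Cfsg.sympForm n (ZMod 2) y u = 0 := by
      linear_combination h1
    exact sub_eq_zero.mp h2
  obtain ⟨y0, hy0⟩ := sympForm_nondeg n u hu
  have hy0' : Cfsg.sympForm n (ZMod 2) y0 u = 1 := by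
    apply zmod2_eq_one
    rw [sympForm_swap]
    exact neg_ne_zero.mpr hy0
  have hφ : ∀ x, (w ⬝ᵥ x) = (w ⬝ᵥ y0) * Cfsg.sympForm n (ZMod 2) x u := by
    intro x
    have := key x y0
    rw [hy0', mul_one] at this
    exact this.symm
  have hw0 : w ⬝ᵥ y0 = 1 := by
    apply zmod2_eq_one
    intro h0
    have hφ0 : ∀ x, w ⬝ᵥ x = 0 := by
      intro x
      rw [hφ x, h0, zero_mul]
    have hw : w = 0 := by
      funext j
      have := hφ0 (Pi.single j 1)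
      simpa using this
    rw [hw] at hM
    rw [hM] at hg
    simp at hg
  refine ⟨u, hu, ?_⟩
  apply sp_ext
  intro x
  rw [hgx, tau_mulVec_one, hφ x, hw0, one_mul]

theorem mem_D_iff (g : Matrix.symplecticGroup (Fin n) (ZMod 2)) :
    ((g : Matrix (Fin n ⊕ Fin n) (Fin n ⊕ Fin n) (ZMod 2)) - 1).rank = 1 ↔
      ∃ v : Fin n ⊕ Fin n → ZMod 2, v ≠ 0 ∧ g = τ v 1 := by
  constructor
  · exact eq_tau_of_rank_one g
  · rintro ⟨v, hv, rfl⟩
    exact rank_tau_sub_one v hv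


theorem tau_ne_one' (v : Fin n ⊕ Fin n → ZMod 2) (hv : v ≠ 0) : τ v (1 : ZMod 2) ≠ 1 := by
  intro h
  have h1 := rank_tau_sub_one v hv
  rw [h] at h1
  simp at h1

theorem orderOf_tau (v : Fin n ⊕ Fin n → ZMod 2) (hv : v ≠ 0) : orderOf (τ v (1 : ZMod 2)) = 2 := by
  apply orderOf_eq_prime
  · rw [pow_two]
    exact tau_sq v
  · exact tau_ne_one' v hv

/-- conjugation formula -/
theorem tau_conj (g : Matrix.symplecticGroup (Fin n) (ZMod 2)) (v : Fin n ⊕ Fin n → ZMod 2) :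
    g * τ v (1 : ZMod 2) * g⁻¹ =
      τ ((g : Matrix (Fin n ⊕ Fin n) (Fin n ⊕ Fin n) (ZMod 2)) *ᵥ v) 1 := by
  rw [conj_τ, mul_assoc, mul_inv_cancel, mul_one]

theorem tau_comm_of_orth (u v : Fin n ⊕ Fin n → ZMod 2)
    (h : Cfsg.sympForm n (ZMod 2) v u = 0) :
    τ u (1 : ZMod 2) * τ v 1 = τ v 1 * τ u 1 := by
  have h1 := conj_τ (τ u (1 : ZMod 2)) v 1
  rw [tau_mulVec_one, h, zero_smul, add_zero] at h1
  exact h1

theorem tau_braid (u v : Fin n ⊕ Fin n → ZMod 2)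
    (h : Cfsg.sympForm n (ZMod 2) v u = 1) :
    τ u (1 : ZMod 2) * τ v 1 * τ u 1 = τ (v + u) 1 := by
  have h1 := conj_τ (τ u (1 : ZMod 2)) v 1
  rw [tau_mulVec_one, h, one_smul] at h1
  rw [h1, mul_assoc, tau_sq, mul_one]

theorem tau_prod (u v : Fin n ⊕ Fin n → ZMod 2) :
    (τ u (1 : ZMod 2) * τ v 1) ^ 2 = 1 ∨ (τ u (1 : ZMod 2) * τ v 1) ^ 3 = 1 := by
  rcases zmod2_cases (Cfsg.sympForm n (ZMod 2) v u) with h | h
  · left
    have hc := tau_comm_of_orth u v h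
    calc (τ u (1 : ZMod 2) * τ v 1) ^ 2 = τ u 1 * (τ v 1 * τ u 1) * τ v 1 := by
          rw [pow_two]; group
      _ = τ u 1 * (τ u 1 * τ v 1) * τ v 1 := by rw [hc]
      _ = (τ u 1 * τ u 1) * (τ v 1 * τ v 1) := by group
      _ = 1 := by rw [tau_sq, tau_sq, one_mul]
  · right
    have h' : Cfsg.sympForm n (ZMod 2) u v = 1 := by
      rw [sympForm_swap, h]
      decide
    have b1 := tau_braid u v h
    have b2 := tau_braid v u h'
    rw [add_comm] at b2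
    calc (τ u (1 : ZMod 2) * τ v 1) ^ 3 = (τ u 1 * τ v 1 * τ u 1) * (τ v 1 * τ u 1 * τ v 1) := by
          rw [pow_succ, pow_two]; group
      _ = 1 := by rw [b1, b2, tau_sq]

theorem exists_ne_zero_vec (hn : 1 ≤ n) : ∃ v : Fin n ⊕ Fin n → ZMod 2, v ≠ 0 := by
  refine ⟨Pi.single (Sum.inl ⟨0, hn⟩) 1, ?_⟩
  intro h
  have := congrFun h (Sum.inl ⟨0, hn⟩)
  simp at this

theorem symp_three_transposition (hn : 1 ≤ n) :
    Cfsg.IsThreeTranspositionClass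
      {g : Matrix.symplecticGroup (Fin n) (ZMod 2) |
        ((g : Matrix (Fin n ⊕ Fin n) (Fin n ⊕ Fin n) (ZMod 2)) - 1).rank = 1} := by
  refine ⟨⟨?_, ?_⟩, ?_, ?_⟩
  · intro d hd
    obtain ⟨v, hv, rfl⟩ := (mem_D_iff d).mp hd
    exact orderOf_tau v hv
  · intro d hd e he
    obtain ⟨u, hu, rfl⟩ := (mem_D_iff d).mp hd
    obtain ⟨v, hv, rfl⟩ := (mem_D_iff e).mp he
    exact tau_prod u v
  · obtain ⟨v0, hv0⟩ := exists_ne_zero_vec hn
    refine ⟨τ v0 1, (mem_D_iff _).mpr ⟨v0, hv0, rfl⟩, ?_⟩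
    ext g
    show _ ↔ IsConj (τ v0 1) g
    rw [Set.mem_ofPred_eq, mem_D_iff, isConj_iff]
    constructor
    · rintro ⟨v, hv, rfl⟩
      obtain ⟨A, -, hA⟩ := Cfsg.Agent.S0766.trans_vec n v0 v hv0 hv
      refine ⟨A, ?_⟩
      rw [tau_conj]
      have hA' : (A : Matrix (Fin n ⊕ Fin n) (Fin n ⊕ Fin n) (ZMod 2)) *ᵥ v0 = v := hA
      rw [hA']
    · rintro ⟨c, rfl⟩
      refine ⟨(c : Matrix (Fin n ⊕ Fin n) (Fin n ⊕ Fin n) (ZMod 2)) *ᵥ v0, ?_, tau_conj c v0⟩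
      intro h0
      apply hv0
      have h1 : ((c⁻¹ * c : Matrix.symplecticGroup (Fin n) (ZMod 2)) :
          Matrix (Fin n ⊕ Fin n) (Fin n ⊕ Fin n) (ZMod 2)) *ᵥ v0 = 0 := by
        rw [mmv, h0, Matrix.mulVec_zero]
      rw [inv_mul_cancel, one_mv] at h1
      exact h1
  · rw [eq_top_iff, ← Cfsg.Agent.S0765.result n, Subgroup.closure_le]
    rintro A ⟨w, c, hA⟩
    have hA' : A = τ w c := Subtype.ext hA
    by_cases hw : w = 0
    · have : A = 1 := by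
        rw [hA', hw, ← zero_smul (ZMod 2) (0 : Fin n ⊕ Fin n → ZMod 2), τ_smul, zero_mul, zero_mul,
          τ_zero]
      rw [this]
      exact Subgroup.one_mem _
    · rcases zmod2_cases c with rfl | rfl
      · rw [hA', τ_zero]
        exact Subgroup.one_mem _
      · apply Subgroup.subset_closure
        rw [Set.mem_ofPred_eq, mem_D_iff]
        exact ⟨w, hw, hA'⟩

end

end Cfsg.Agent.Lib.helper4
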