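import Mathlib
import Cfsg.Prelude.Def_ChevStructure
import Cfsg.Prelude.Def_ChevG2
import Cfsg.Agent.Lib.helper14.G2T.Basic
import Cfsg.Agent.Lib.helper8.ChevFix1

/-!
# G2T row D3 (`order_sigma`): the order of a lift of the Singer element.
-/

set_option autoImplicit false

namespace Cfsg.Agent.Lib.helper14.G2T

open Cfsg.Lie Cfsg.Lie.ChevalleyDatum Cfsg.Agent.Lib.helper8 Matrix

universe u v

section A

variable {E : Type u} [Field E]

/-- the `W`-block of `Phi A` is `A` (own copy of the first part of A8). -/
theorem g2td3_Phi_W (A : Matrix (Fin 3) (Fin 3) E) (i j : Fin 3) :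
    Phi A (wI i) (wI j) = A i j := by
  fin_cases i <;> fin_cases j <;>
    simp [Phi, ofMod, actMod, toMod, wI, eI, hI, Pi.single_apply, Matrix.mulVec, dotProduct,
      Fin.sum_univ_three, Fin.ext_iff]

/-- `PhiGL` is injective (own copy of A9). -/
theorem g2td3_PhiGL_injective : Function.Injective (PhiGL (E := E)) := by
  intro A B h
  apply Subtype.ext
  ext i j
  have h1 := congrArg (fun g : GL chevG2.Idx E => (g : Matrix chevG2.Idx chevG2.Idx E) (wI i) (wI j)) h
  simp only [PhiGL_val, g2td3_Phi_W] at h1
  exact h1

end A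

section D

variable {F : Type u} [Field F] {E : Type v} [Field E] [Algebra F E]

theorem g2td3_map_injective :
    Function.Injective (Matrix.SpecialLinearGroup.map (n := Fin 3) (algebraMap F E)) := by
  intro A B h
  apply Subtype.ext
  ext i j
  have h1 := congrArg (fun g : Matrix.SpecialLinearGroup (Fin 3) E =>
    (g : Matrix (Fin 3) (Fin 3) E) i j) h
  simp only [Matrix.SpecialLinearGroup.map_apply_coe, RingHom.mapMatrix_apply,
    Matrix.map_apply] at h1
  exact (algebraMap F E).injective h1

theorem g2td3_order_s (b : Module.Basis (Fin 3) F E) (lam : E)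
    (s : Matrix.SpecialLinearGroup (Fin 3) F)
    (hs : (s : Matrix (Fin 3) (Fin 3) F) = Algebra.leftMulMatrix b lam) :
    orderOf s = orderOf lam := by
  rw [orderOf_eq_orderOf_iff]
  intro n
  have h1 : s ^ n = 1 ↔ ((s ^ n : Matrix.SpecialLinearGroup (Fin 3) F) :
      Matrix (Fin 3) (Fin 3) F) = 1 := by
    constructor
    · intro h
      rw [h]
      rfl
    · intro h
      apply Subtype.ext
      rw [h]
      rfl
  rw [h1, Matrix.SpecialLinearGroup.coe_pow, hs, ← map_pow]
  constructor
  · intro h
    apply Algebra.leftMulMatrix_injective b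
    rw [h, map_one]
  · intro h
    rw [h, map_one]

end D

section D'

variable {F : Type u} [Field F] [Fintype F] {E : Type v} [Field E] [Fintype E] [Algebra F E]

/-- D3 [S-M]. The order of a lift of the Singer element. -/
theorem order_sigma (b : Module.Basis (Fin 3) F E) (lam : E)
    (s : Matrix.SpecialLinearGroup (Fin 3) F)
    (hs : (s : Matrix (Fin 3) (Fin 3) F) = Algebra.leftMulMatrix b lam)
    (σ : GL chevG2.Idx F)
    (hσ : h8Psi chevG2 (algebraMap F E) σ =
      PhiGL (Matrix.SpecialLinearGroup.map (algebraMap F E) s)) :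
    orderOf σ = orderOf lam := by
  rw [← orderOf_injective (h8Psi chevG2 (algebraMap F E)) (h8Psi_injective chevG2 _) σ, hσ,
    orderOf_injective PhiGL g2td3_PhiGL_injective,
    orderOf_injective (Matrix.SpecialLinearGroup.map (algebraMap F E)) g2td3_map_injective]
  exact g2td3_order_s b lam s hs

end D'

end Cfsg.Agent.Lib.helper14.G2T
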