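import Mathlib
import Cfsg.Prelude.Def_ChevStructure
import Cfsg.Prelude.Def_ChevG2
import Cfsg.Agent.Lib.helper14.G2T.Basic
import Cfsg.Agent.Lib.helper8.ChevFix1

/-!
# G2T row F1 (`g2t_main`), core: the cyclic subgroup generated by a lift of the Singer element is
self-centralising.  The statements of C4 (`exists_lam`), D2 (`singer`), D1 (`exists_lift`),
D3 (`order_sigma`), D9 (`cent_sigma`) at a cubic extension `E / F` are hypotheses.
-/

set_option autoImplicit false

namespace Cfsg.Agent.Lib.helper14.G2T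

open Cfsg.Lie Cfsg.Lie.ChevalleyDatum Cfsg.Agent.Lib.helper8 Matrix

universe u v

/-- **F1 core**. -/
theorem g2tf1_core {F : Type u} [Field F] [Fintype F] {E : Type v} [Field E] [Fintype E]
    [Algebra F E] (q : ℕ) (hF : Fintype.card F = q) (b : Module.Basis (Fin 3) F E)
    (hC4 : ∃ lam : E, orderOf lam = Fintype.card F ^ 2 + Fintype.card F + 1)
    (hD2 : ∀ lam : E, orderOf lam = Fintype.card F ^ 2 + Fintype.card F + 1 →
      ∃ (s : Matrix.SpecialLinearGroup (Fin 3) F) (P : Matrix.SpecialLinearGroup (Fin 3) E) (d : E),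
        (s : Matrix (Fin 3) (Fin 3) F) = Algebra.leftMulMatrix b lam ∧ d ≠ 0 ∧
        (P : Matrix (Fin 3) (Fin 3) E) = Matrix.diagonal ![d, 1, 1] * moore b (Fintype.card F) ∧
        (P : Matrix (Fin 3) (Fin 3) E) * (s : Matrix (Fin 3) (Fin 3) F).map (algebraMap F E) =
          Matrix.diagonal (lamD lam (Fintype.card F)) * (P : Matrix (Fin 3) (Fin 3) E))
    (hD1 : ∀ A : Matrix.SpecialLinearGroup (Fin 3) F,
      ∃ g : GL chevG2.Idx F, g ∈ chevG2.group F ∧
        h8Psi chevG2 (algebraMap F E) g =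
          PhiGL (Matrix.SpecialLinearGroup.map (algebraMap F E) A))
    (hD3 : ∀ (lam : E) (s : Matrix.SpecialLinearGroup (Fin 3) F),
      (s : Matrix (Fin 3) (Fin 3) F) = Algebra.leftMulMatrix b lam →
      ∀ σ : GL chevG2.Idx F,
        h8Psi chevG2 (algebraMap F E) σ =
          PhiGL (Matrix.SpecialLinearGroup.map (algebraMap F E) s) →
        orderOf σ = orderOf lam)
    (hD9 : ∀ lam : E, orderOf lam = Fintype.card F ^ 2 + Fintype.card F + 1 →
      ∀ (s : Matrix.SpecialLinearGroup (Fin 3) F) (P : Matrix.SpecialLinearGroup (Fin 3) E) (d : E),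
        d ≠ 0 →
        (P : Matrix (Fin 3) (Fin 3) E) = Matrix.diagonal ![d, 1, 1] * moore b (Fintype.card F) →
        (P : Matrix (Fin 3) (Fin 3) E) * (s : Matrix (Fin 3) (Fin 3) F).map (algebraMap F E) =
          Matrix.diagonal (lamD lam (Fintype.card F)) * (P : Matrix (Fin 3) (Fin 3) E) →
        ∀ σ : GL chevG2.Idx F,
          h8Psi chevG2 (algebraMap F E) σ =
            PhiGL (Matrix.SpecialLinearGroup.map (algebraMap F E) s) →
          ∀ g : GL chevG2.Idx F, g ∈ chevG2.group F → g * σ = σ * g → ∃ i : ℕ, g = σ ^ i) :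
    ∃ H : Subgroup ↥(Cfsg.Lie.chevG2.group F), IsCyclic ↥H ∧ Nat.card ↥H = q ^ 2 + q + 1 ∧
      Subgroup.centralizer (H : Set ↥(Cfsg.Lie.chevG2.group F)) = H := by
  obtain ⟨lam, hlam⟩ := hC4
  obtain ⟨s, P, d, hs, hd, hP, hPs⟩ := hD2 lam hlam
  obtain ⟨σ, hσmem, hσ⟩ := hD1 s
  have hord : orderOf σ = q ^ 2 + q + 1 := by
    rw [hD3 lam s hs σ hσ, hlam, hF]
  set σ' : ↥(chevG2.group F) := ⟨σ, hσmem⟩ with hσ'
  refine ⟨Subgroup.zpowers σ', inferInstance, ?_, ?_⟩
  · rw [Nat.card_zpowers, ← hord, hσ', Subgroup.orderOf_mk]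
  · ext x
    constructor
    · intro hx
      rw [Subgroup.mem_centralizer_iff] at hx
      have h1 : σ' * x = x * σ' := hx σ' (Subgroup.mem_zpowers σ')
      have h2 : (x : GL chevG2.Idx F) * σ = σ * (x : GL chevG2.Idx F) := by
        have := congrArg (fun y : ↥(chevG2.group F) => (y : GL chevG2.Idx F)) h1
        simpa [hσ'] using this.symm
      obtain ⟨i, hi⟩ := hD9 lam hlam s P d hd hP hPs σ hσ x x.2 h2
      rw [Subgroup.mem_zpowers_iff]
      refine ⟨(i : ℤ), ?_⟩
      apply Subtype.ext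
      rw [zpow_natCast, Subgroup.coe_pow, hi]
    · intro hx
      rw [Subgroup.mem_zpowers_iff] at hx
      obtain ⟨k, rfl⟩ := hx
      rw [Subgroup.mem_centralizer_iff]
      intro h hh
      rw [SetLike.mem_coe, Subgroup.mem_zpowers_iff] at hh
      obtain ⟨l, rfl⟩ := hh
      exact (Commute.zpow_zpow_self σ' l k).eq

end Cfsg.Agent.Lib.helper14.G2T
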