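import Mathlib
import Cfsg.Prelude.Def_KGroupFacts
import Cfsg.Agent.Lib.helper4.J3CSyl

set_option autoImplicit false

/-! A finite group generated by an element `c` of order 19, a Sylow subgroup, and an involution
`a`, in which the pairs with the order pattern of `(c, a)` and of `(c⁻¹, a)` form one orbit each
under the powers of `c`, and an automorphism inverting `c` that is not inner: the outer
automorphism group has order two. -/

namespace Cfsg.Agent.Lib.helper4

theorem mod19_cases (k : ℕ) (h0 : 0 < k) (h1 : k < 19) :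
    ∃ j : ℕ, 4 ^ j * k % 19 = 1 ∨ 4 ^ j * k % 19 = 18 := by
  interval_cases k
  · exact ⟨0, Or.inl (by norm_num)⟩
  · exact ⟨4, Or.inr (by norm_num)⟩
  · exact ⟨7, Or.inr (by norm_num)⟩
  · exact ⟨8, Or.inl (by norm_num)⟩
  · exact ⟨1, Or.inl (by norm_num)⟩
  · exact ⟨2, Or.inl (by norm_num)⟩
  · exact ⟨6, Or.inl (by norm_num)⟩
  · exact ⟨3, Or.inr (by norm_num)⟩
  · exact ⟨5, Or.inl (by norm_num)⟩
  · exact ⟨5, Or.inr (by norm_num)⟩
  · exact ⟨3, Or.inl (by norm_num)⟩
  · exact ⟨6, Or.inr (by norm_num)⟩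
  · exact ⟨2, Or.inr (by norm_num)⟩
  · exact ⟨1, Or.inr (by norm_num)⟩
  · exact ⟨8, Or.inr (by norm_num)⟩
  · exact ⟨7, Or.inl (by norm_num)⟩
  · exact ⟨4, Or.inl (by norm_num)⟩
  · exact ⟨0, Or.inr (by norm_num)⟩

theorem pow_conj_pow {G : Type*} [Group G] (u c : G) (hu : u * c * u⁻¹ = c ^ 4) (j : ℕ) :
    u ^ j * c * (u ^ j)⁻¹ = c ^ 4 ^ j := by
  induction j with
  | zero => simp
  | succ j ih =>
    have e : u ^ (j + 1) * c * (u ^ (j + 1))⁻¹ = u * (u ^ j * c * (u ^ j)⁻¹) * u⁻¹ := by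
      rw [pow_succ']
      group
    rw [e, ih]
    have h2 : u * c ^ 4 ^ j * u⁻¹ = (u * c * u⁻¹) ^ 4 ^ j := by
      rw [conj_pow]
    rw [h2, hu, ← pow_mul, pow_succ, mul_comm]

theorem conj_pow_pow {G : Type*} [Group G] (u c : G) (hu : u * c * u⁻¹ = c ^ 4) (j k : ℕ) :
    u ^ j * c ^ k * (u ^ j)⁻¹ = c ^ (4 ^ j * k) := by
  have := pow_conj_pow u c hu j
  rw [← conj_pow, this, ← pow_mul]

/-- an automorphism is determined by its values on a generating pair -/
theorem aut_eq_of_gen {G : Type*} [Group G] (c a : G) (hgen : Subgroup.closure {c, a} = ⊤)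
    (α β : MulAut G) (hc : α c = β c) (ha : α a = β a) : α = β := by
  apply MulEquiv.ext
  intro x
  have hx : x ∈ Subgroup.closure ({c, a} : Set G) := by rw [hgen]; exact Subgroup.mem_top x
  induction hx using Subgroup.closure_induction with
  | mem s hs =>
    rcases hs with rfl | hs
    · exact hc
    · rw [Set.mem_singleton_iff] at hs
      rw [hs]
      exact ha
  | one => rw [map_one, map_one]
  | mul x y _ _ hx hy => rw [map_mul, map_mul, hx, hy]
  | inv x _ hx => rw [map_inv, map_inv, hx]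

theorem out_card_two {G : Type*} [Group G] [Finite G] (c a u a2 : G) (σ : MulAut G)
    (hfac : (Nat.card G).factorization 19 = 1) (hc : orderOf c = 19)
    (hu : u * c * u⁻¹ = c ^ 4) (hgen : Subgroup.closure {c, a} = ⊤) (ha : orderOf a = 2)
    (hP1 : (c * a) ^ 3 = 1) (hP2 : (c * a * c⁻¹ * a) ^ 17 = 1)
    (hEp : ∀ x : G, orderOf x = 2 → (c * x) ^ 3 = 1 → (c * x * c⁻¹ * x) ^ 17 = 1 →
      ∃ j : ℕ, x = c ^ j * a * (c ^ j)⁻¹)
    (hEm : ∀ x : G, orderOf x = 2 → (c⁻¹ * x) ^ 3 = 1 → (c⁻¹ * x * c * x) ^ 17 = 1 →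
      ∃ j : ℕ, x = c ^ j * a2 * (c ^ j)⁻¹)
    (hσc : σ c = c⁻¹) (hσa : σ a = a2) (hσ : σ ∉ Cfsg.Inn G) :
    Nat.card (Cfsg.Out G) = 2 := by
  classical
  have : Fact (Nat.Prime 19) := ⟨by norm_num⟩
  have hc19 : c ^ 19 = 1 := by rw [← hc, pow_orderOf_eq_one]
  have hc18 : c ^ 18 = c⁻¹ := by
    apply eq_inv_of_mul_eq_one_left
    rw [← pow_succ, hc19]
  have hcmod : ∀ n : ℕ, c ^ n = c ^ (n % 19) := by
    intro n
    rw [← hc, pow_mod_orderOf]
  -- step 1 and 2: after an inner automorphism, `c` goes to `c` or to `c⁻¹`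
  have step : ∀ α : MulAut G, ∃ g : G, g * α c * g⁻¹ = c ∨ g * α c * g⁻¹ = c⁻¹ := by
    intro α
    have hαc : orderOf (α c) = 19 := by rw [MulEquiv.orderOf_eq, hc]
    obtain ⟨g, hg⟩ := conj_into_subgroup 19 (Subgroup.zpowers c) 1 hfac
      (by rw [Nat.card_zpowers, hc]; norm_num) (α c) hαc
    rw [mem_zpowers_iff_mem_range_orderOf, Finset.mem_image] at hg
    obtain ⟨k, hk, hck⟩ := hg
    rw [Finset.mem_range, hc] at hk
    have hk0 : 0 < k := by
      rcases Nat.eq_zero_or_pos k with h | h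
      · exfalso
        rw [h, pow_zero] at hck
        have : α c = 1 := by
          calc α c = g * (g⁻¹ * α c * g) * g⁻¹ := by group
            _ = 1 := by rw [← hck]; group
        rw [this, orderOf_one] at hαc
        norm_num at hαc
      · exact h
    obtain ⟨j, hj⟩ := mod19_cases k hk0 hk
    refine ⟨u ^ j * g⁻¹, ?_⟩
    have e : u ^ j * g⁻¹ * α c * (u ^ j * g⁻¹)⁻¹ = u ^ j * (g⁻¹ * α c * g) * (u ^ j)⁻¹ := by
      group
    rw [e, ← hck, conj_pow_pow u c hu j k, hcmod]
    rcases hj with h | h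
    · left; rw [h, pow_one]
    · right; rw [h, hc18]
  -- step 3: every automorphism is inner or inner times `σ`
  have key : ∀ α : MulAut G, α ∈ Cfsg.Inn G ∨ ∃ ι ∈ Cfsg.Inn G, α = ι * σ := by
    intro α
    obtain ⟨g, hg⟩ := step α
    set β : MulAut G := MulAut.conj g * α with hβ
    have hβc : β c = g * α c * g⁻¹ := by
      rw [hβ, MulAut.mul_apply, MulAut.conj_apply]
    have hx2 : orderOf (β a) = 2 := by rw [MulEquiv.orderOf_eq, ha]
    rcases hg with hg | hg
    · -- `β c = c`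
      have hβc' : β c = c := by rw [hβc, hg]
      have h1 : (c * β a) ^ 3 = 1 := by
        have := congrArg β hP1
        rw [map_pow, map_mul, hβc', map_one] at this
        exact this
      have h3 : (c * β a * c⁻¹ * β a) ^ 17 = 1 := by
        have := congrArg β hP2
        rw [map_pow, map_mul, map_mul, map_mul, map_inv, hβc', map_one] at this
        exact this
      obtain ⟨j, hj⟩ := hEp (β a) hx2 h1 h3
      left
      set γ : MulAut G := MulAut.conj (c ^ j)⁻¹ * β with hγ
      have hγ1 : γ = 1 := by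
        apply aut_eq_of_gen c a hgen
        · rw [hγ, MulAut.mul_apply, MulAut.conj_apply, hβc', MulAut.one_apply]
          group
        · rw [hγ, MulAut.mul_apply, MulAut.conj_apply, hj, MulAut.one_apply]
          group
      have hα : α = (MulAut.conj ((c ^ j)⁻¹ * g))⁻¹ := by
        apply eq_inv_of_mul_eq_one_right
        rw [map_mul, mul_assoc, ← hβ, ← hγ, hγ1]
      rw [hα]
      exact Subgroup.inv_mem _ ⟨_, rfl⟩
    · -- `β c = c⁻¹`
      have hβc' : β c = c⁻¹ := by rw [hβc, hg]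
      have h1 : (c⁻¹ * β a) ^ 3 = 1 := by
        have := congrArg β hP1
        rw [map_pow, map_mul, hβc', map_one] at this
        exact this
      have h3 : (c⁻¹ * β a * c * β a) ^ 17 = 1 := by
        have := congrArg β hP2
        rw [map_pow, map_mul, map_mul, map_mul, map_inv, hβc', map_one, inv_inv] at this
        exact this
      obtain ⟨j, hj⟩ := hEm (β a) hx2 h1 h3
      right
      set γ : MulAut G := MulAut.conj (c ^ j)⁻¹ * β with hγ
      have hγσ : γ = σ := by
        apply aut_eq_of_gen c a hgen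
        · rw [hγ, MulAut.mul_apply, MulAut.conj_apply, hβc', hσc]
          group
        · rw [hγ, MulAut.mul_apply, MulAut.conj_apply, hj, hσa]
          group
      refine ⟨(MulAut.conj ((c ^ j)⁻¹ * g))⁻¹, Subgroup.inv_mem _ ⟨_, rfl⟩, ?_⟩
      rw [eq_inv_mul_iff_mul_eq, map_mul, mul_assoc, ← hβ, ← hγ, hγσ]
  -- step 4: the count
  rw [Nat.card_eq_two_iff]
  refine ⟨((1 : MulAut G) : Cfsg.Out G), ((σ : MulAut G) : Cfsg.Out G), ?_, ?_⟩
  · intro h
    rw [QuotientGroup.eq, inv_one, one_mul] at h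
    exact hσ h
  · apply Set.eq_univ_of_forall
    intro q
    obtain ⟨α, rfl⟩ := QuotientGroup.mk_surjective q
    rcases key α with h | ⟨ι, hι, h⟩
    · left
      symm
      rw [QuotientGroup.eq, inv_one, one_mul]
      exact h
    · right
      rw [Set.mem_singleton_iff]
      symm
      rw [QuotientGroup.eq, h]
      have : σ⁻¹ * (ι * σ) = σ⁻¹ * ι * σ := by group
      rw [this]
      exact (Cfsg.innNormal G).conj_mem' ι hι σ

end Cfsg.Agent.Lib.helper4
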