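import Mathlib
import Cfsg.Prelude.Def_KGroupFacts

set_option autoImplicit false

namespace Cfsg.Agent.Lib.helper4

universe u v

/-- isomorphic groups have outer automorphism groups of the same order -/
theorem out_card_congr_equiv {G : Type u} {H : Type v} [Group G] [Group H] (e : G ≃* H) :
    Nat.card (Cfsg.Out G) = Nat.card (Cfsg.Out H) := by
  have hmem : ∀ α : MulAut G, α ∈ Cfsg.Inn G ↔ MulAut.congr e α ∈ Cfsg.Inn H := by
    intro α
    constructor
    · rintro ⟨g, rfl⟩
      refine ⟨e g, ?_⟩
      ext x
      simp [MulAut.conj_apply, MulAut.congr]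
    · rintro ⟨h, hh⟩
      refine ⟨e.symm h, ?_⟩
      ext x
      have := congrArg (fun β : MulAut H => e.symm (β (e x))) hh
      simp [MulAut.conj_apply, MulAut.congr] at this
      simp [MulAut.conj_apply, this]
  have hmap : (Cfsg.Inn G).map (MulAut.congr e : MulAut G ≃* MulAut H).toMonoidHom = Cfsg.Inn H := by
    ext β
    constructor
    · rintro ⟨α, hα, rfl⟩
      exact (hmem α).1 hα
    · intro hβ
      refine ⟨(MulAut.congr e).symm β, ?_, ?_⟩
      · rw [SetLike.mem_coe, hmem]
        have : (MulAut.congr e) ((MulAut.congr e).symm β) = β := MulEquiv.apply_symm_apply _ _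
        rw [this]
        exact hβ
      · exact MulEquiv.apply_symm_apply _ _
  exact Nat.card_congr (QuotientGroup.congr (Cfsg.Inn G) (Cfsg.Inn H) (MulAut.congr e) hmap).toEquiv

end Cfsg.Agent.Lib.helper4
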