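import Cfsg.Agent.Lib.helper4.SQDUO7core
import Cfsg.Agent.Lib.Helper18.SQDUF
import Cfsg.Agent.Lib.Helper22.SQDUO6core
import Cfsg.Agent.Lib.helper15.SQDUE1
import Cfsg.Agent.Lib.Helper25.SQDUE2

/-!
# SQD row UO7 (`suOdd_le_range`), verbatim: the core fed with UF2 and UO6 (the latter through
helper22's `sqduo6_core` on the landed UE1 `mem_su_iff`, UE2 `pev_gram`).
-/

set_option autoImplicit false

namespace Cfsg.Agent.Lib.helper14.SQD

open Cfsg Cfsg.Lie Matrix

universe u v

section UO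
variable {F : Type} [Field F] [Fintype F] [CharP F 2] (e : ℕ) {k : ℕ}

/-- UO7 [M-H]. -/
theorem suOdd_le_range (hF : Fintype.card F = (2 ^ e) ^ 2) (a : F) (ha : a ^ 2 ^ e + a = 1) :
    suOddGrp (k := k) (frobE F e) ≤ (psiO (k := k) (F := F) (2 ^ e) a).range :=
  sqduo7_core e a (fun x => frobE_frobE e hF x)
    (fun w => sqduo6_core e (fun n g => mem_su_iff e n g) (fun a ha => pev_gram e a ha) a ha w)

end UO

end Cfsg.Agent.Lib.helper14.SQD
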