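import Mathlib
import Cfsg.Prelude.Def_KGroupFacts
import Cfsg.Agent.Lib.helper4.J3OAbs

set_option autoImplicit false

/-! A finite group generated by an element `c` of order 11 generating a Sylow subgroup, whose
normaliser induces the squares on it, and an element `a`, in which the elements with the pattern
of `a` relative to `c` form one orbit under the powers of `c`, likewise for `c⁻¹`, and an
automorphism inverting `c` that is not inner: the outer automorphism group has order two. -/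

namespace Cfsg.Agent.Lib.helper4

theorem mod11_cases (k : ℕ) (h0 : 0 < k) (h1 : k < 11) :
    ∃ j : ℕ, 3 ^ j * k % 11 = 1 ∨ 3 ^ j * k % 11 = 10 := by
  interval_cases k
  · exact ⟨0, Or.inl (by norm_num)⟩
  · exact ⟨3, Or.inr (by norm_num)⟩
  · exact ⟨4, Or.inl (by norm_num)⟩
  · exact ⟨1, Or.inl (by norm_num)⟩
  · exact ⟨2, Or.inl (by norm_num)⟩
  · exact ⟨2, Or.inr (by norm_num)⟩
  · exact ⟨1, Or.inr (by norm_num)⟩
  · exact ⟨4, Or.inr (by norm_num)⟩
  · exact ⟨3, Or.inl (by norm_num)⟩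
  · exact ⟨0, Or.inr (by norm_num)⟩

theorem pow_conj_pow3' {G : Type*} [Group G] (u c : G) (hu : u * c * u⁻¹ = c ^ 3) (j : ℕ) :
    u ^ j * c * (u ^ j)⁻¹ = c ^ 3 ^ j := by
  induction j with
  | zero => simp
  | succ j ih =>
    have e : u ^ (j + 1) * c * (u ^ (j + 1))⁻¹ = u * (u ^ j * c * (u ^ j)⁻¹) * u⁻¹ := by
      rw [pow_succ']
      group
    rw [e, ih]
    have h2 : u * c ^ 3 ^ j * u⁻¹ = (u * c * u⁻¹) ^ 3 ^ j := by
      rw [conj_pow]
    rw [h2, hu, ← pow_mul, pow_succ, mul_comm]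

theorem conj_pow_pow3' {G : Type*} [Group G] (u c : G) (hu : u * c * u⁻¹ = c ^ 3) (j k : ℕ) :
    u ^ j * c ^ k * (u ^ j)⁻¹ = c ^ (3 ^ j * k) := by
  have := pow_conj_pow3' u c hu j
  rw [← conj_pow, this, ← pow_mul]

/-- after an inner automorphism, an automorphism sends `c` to `c` or to its inverse -/
theorem out_step_eleven {G : Type*} [Group G] [Finite G] (c u : G)
    (hfac : (Nat.card G).factorization 11 = 1) (hc : orderOf c = 11)
    (hu : u * c * u⁻¹ = c ^ 3) (α : MulAut G) :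
    ∃ g : G, g * α c * g⁻¹ = c ∨ g * α c * g⁻¹ = c⁻¹ := by
  classical
  have : Fact (Nat.Prime 11) := ⟨by norm_num⟩
  have hc11 : c ^ 11 = 1 := by rw [← hc, pow_orderOf_eq_one]
  have hc10 : c ^ 10 = c⁻¹ := by
    apply eq_inv_of_mul_eq_one_left
    rw [← pow_succ, hc11]
  have hcmod : ∀ n : ℕ, c ^ n = c ^ (n % 11) := by
    intro n
    rw [← hc, pow_mod_orderOf]
  have hαc : orderOf (α c) = 11 := by rw [MulEquiv.orderOf_eq, hc]
  obtain ⟨g, hg⟩ := conj_into_subgroup 11 (Subgroup.zpowers c) 1 hfac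
    (by rw [Nat.card_zpowers, hc]; norm_num) (α c) hαc
  rw [mem_zpowers_iff_mem_range_orderOf, Finset.mem_image] at hg
  obtain ⟨k, hk, hck⟩ := hg
  rw [Finset.mem_range, hc] at hk
  have hk0 : 0 < k := by
    rcases Nat.eq_zero_or_pos k with h | h
    · exfalso
      rw [h, pow_zero] at hck
      have : α c = 1 := by
        calc α c = g * (g⁻¹ * α c * g) * g⁻¹ := by group
          _ = 1 := by rw [← hck]; group
      rw [this, orderOf_one] at hαc
      norm_num at hαc
    · exact h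
  obtain ⟨j, hj⟩ := mod11_cases k hk0 hk
  refine ⟨u ^ j * g⁻¹, ?_⟩
  have e : u ^ j * g⁻¹ * α c * (u ^ j * g⁻¹)⁻¹ = u ^ j * (g⁻¹ * α c * g) * (u ^ j)⁻¹ := by
    group
  rw [e, ← hck, conj_pow_pow3' u c hu j k, hcmod]
  rcases hj with h | h
  · left; rw [h, pow_one]
  · right; rw [h, hc10]

/-- the count of outer automorphisms from a pattern preserved by automorphisms -/
theorem out_card_two_pat {G : Type*} [Group G] [Finite G] (c a a2 : G) (σ : MulAut G)
    (Pat : G → G → Prop)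
    (hPat : ∀ (α : MulAut G) (x y : G), Pat x y → Pat (α x) (α y))
    (hstep : ∀ α : MulAut G, ∃ g : G, g * α c * g⁻¹ = c ∨ g * α c * g⁻¹ = c⁻¹)
    (hgen : Subgroup.closure {c, a} = ⊤) (hP : Pat c a)
    (hEp : ∀ x : G, Pat c x → ∃ j : ℕ, x = c ^ j * a * (c ^ j)⁻¹)
    (hEm : ∀ x : G, Pat c⁻¹ x → ∃ j : ℕ, x = c ^ j * a2 * (c ^ j)⁻¹)
    (hσc : σ c = c⁻¹) (hσa : σ a = a2) (hσ : σ ∉ Cfsg.Inn G) :
    Nat.card (Cfsg.Out G) = 2 := by
  classical
  have key : ∀ α : MulAut G, α ∈ Cfsg.Inn G ∨ ∃ ι ∈ Cfsg.Inn G, α = ι * σ := by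
    intro α
    obtain ⟨g, hg⟩ := hstep α
    set β : MulAut G := MulAut.conj g * α with hβ
    have hβc : β c = g * α c * g⁻¹ := by
      rw [hβ, MulAut.mul_apply, MulAut.conj_apply]
    have hPβ : Pat (β c) (β a) := hPat β c a hP
    rcases hg with hg | hg
    · have hβc' : β c = c := by rw [hβc, hg]
      rw [hβc'] at hPβ
      obtain ⟨j, hj⟩ := hEp (β a) hPβ
      left
      set γ : MulAut G := MulAut.conj (c ^ j)⁻¹ * β with hγ
      have hγ1 : γ = 1 := by
        apply aut_eq_of_gen c a hgen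
        · rw [hγ, MulAut.mul_apply, MulAut.conj_apply, hβc', MulAut.one_apply]
          group
        · rw [hγ, MulAut.mul_apply, MulAut.conj_apply, hj, MulAut.one_apply]
          group
      have hα : α = (MulAut.conj ((c ^ j)⁻¹ * g))⁻¹ := by
        apply eq_inv_of_mul_eq_one_right
        rw [map_mul, mul_assoc, ← hβ, ← hγ, hγ1]
      rw [hα]
      exact Subgroup.inv_mem _ ⟨_, rfl⟩
    · have hβc' : β c = c⁻¹ := by rw [hβc, hg]
      rw [hβc'] at hPβ
      obtain ⟨j, hj⟩ := hEm (β a) hPβ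
      right
      set γ : MulAut G := MulAut.conj (c ^ j)⁻¹ * β with hγ
      have hγσ : γ = σ := by
        apply aut_eq_of_gen c a hgen
        · rw [hγ, MulAut.mul_apply, MulAut.conj_apply, hβc', hσc]
          group
        · rw [hγ, MulAut.mul_apply, MulAut.conj_apply, hj, hσa]
          group
      refine ⟨(MulAut.conj ((c ^ j)⁻¹ * g))⁻¹, Subgroup.inv_mem _ ⟨_, rfl⟩, ?_⟩
      rw [eq_inv_mul_iff_mul_eq, map_mul, mul_assoc, ← hβ, ← hγ, hγσ]
  rw [Nat.card_eq_two_iff]
  refine ⟨((1 : MulAut G) : Cfsg.Out G), ((σ : MulAut G) : Cfsg.Out G), ?_, ?_⟩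
  · intro h
    rw [QuotientGroup.eq, inv_one, one_mul] at h
    exact hσ h
  · apply Set.eq_univ_of_forall
    intro q
    obtain ⟨α, rfl⟩ := QuotientGroup.mk_surjective q
    rcases key α with h | ⟨ι, hι, h⟩
    · left
      symm
      rw [QuotientGroup.eq, inv_one, one_mul]
      exact h
    · right
      rw [Set.mem_singleton_iff]
      symm
      rw [QuotientGroup.eq, h]
      have : σ⁻¹ * (ι * σ) = σ⁻¹ * ι * σ := by group
      rw [this]
      exact (Cfsg.innNormal G).conj_mem' ι hι σ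

end Cfsg.Agent.Lib.helper4
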