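import Mathlib
import Cfsg.Agent.Lib.helper8.RSM.Defs

/-! RSM row E5 (`proj_ker`), helper4. -/

set_option autoImplicit false

namespace Cfsg.Agent.Lib.helper8.RSM

universe u v w

variable {G : Type u} [Group G] {K : Type v} [Field K] [Fintype K] {m : ℕ}
variable {Γ : Type w} [Group Γ] {σ : Γ →* G}

theorem rsme5_avg_zero {Γ : Type w} [Group Γ] (H0 : Γ) (w : Γ) : avg H0 0 w = 1 := by
  simp [avg]

theorem rsme5_avg_succ {Γ : Type w} [Group Γ] (H0 : Γ) (n : ℕ) (w : Γ) :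
    avg H0 (n + 1) w = avg H0 n w * (H0 ^ n * w * (H0 ^ n)⁻¹) := by
  unfold avg
  rw [List.range_succ, List.map_append, List.prod_append]
  simp

/-- the average of a central element -/
theorem rsme5_avg_central {Γ : Type w} [Group Γ] (H0 : Γ) (κ : Γ) (hc : ∀ g : Γ, g * κ = κ * g)
    (n : ℕ) : avg H0 n κ = κ ^ n := by
  induction n with
  | zero => rw [rsme5_avg_zero, pow_zero]
  | succ n ih =>
    rw [rsme5_avg_succ, ih, hc (H0 ^ n), mul_assoc, mul_inv_cancel, mul_one, pow_succ]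

/-- E5 [S]. `avg H0 n κ = κ ^ n` for central `κ`; `κ ^ (q - 1) = κ⁻¹` as `κ³ = 1`, `3 ∣ q`. -/
theorem proj_ker (hcen : σ.ker ≤ Subgroup.center Γ) (h3 : ∀ κ ∈ σ.ker, κ ^ 3 = 1) (H0 : Γ) (κ : Γ)
    (hκ : κ ∈ σ.ker) : proj H0 m κ = κ := by
  have hc : ∀ g : Γ, g * κ = κ * g := fun g => Subgroup.mem_center_iff.mp (hcen hκ) g
  unfold proj
  rw [rsme5_avg_central H0 κ hc]
  have h1 : κ ^ (3 ^ (2 * m + 1) - 1) * κ = 1 := by
    rw [← pow_succ, Nat.sub_add_cancel (Nat.one_le_pow _ _ (by norm_num)), pow_succ 3 (2 * m),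
      pow_mul', h3 κ hκ, one_pow]
  exact inv_eq_of_mul_eq_one_right h1

end Cfsg.Agent.Lib.helper8.RSM
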