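import Mathlib
import Cfsg.Agent.Lib.helper15.SLnCyc
import Cfsg.Agent.S2402
import Cfsg.Agent.S2403

/-!
# SLN F8a / F8 (Helper1 skeleton) = P11 / P12 (helper17 skeleton): generic core.
The signed `(n+1)`-cycle matrix of S2402 / S2403 has determinant one, and `PSL_{n+1}(F)` is
generated by two elements.
-/

set_option autoImplicit false

namespace Cfsg.Agent.Lib.helper4

open Matrix Cfsg.Agent.Lib.helper15.SLnCyc

universe u

section
variable {K : Type u} [Field K]

theorem slnf8_wMat_eq (n : ℕ) :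
    wMat n K = Matrix.diagonal (cc n K) * (finRotate (n + 1)).permMatrix K := by
  ext i j
  rw [wMat_apply, Matrix.diagonal_mul]
  simp only [Equiv.Perm.permMatrix, PEquiv.toMatrix_apply, Equiv.toPEquiv_apply, Option.mem_def,
    Option.some.injEq, finRotate_succ_apply]
  by_cases h : j = i + 1
  · rw [if_pos h, if_pos h.symm, mul_one]
  · rw [if_neg h, if_neg (fun h' => h h'.symm), mul_zero]

theorem slnf8_prod_cc (n : ℕ) : ∏ i : Fin (n + 1), cc n K i = (-1) ^ n := by
  rw [Fin.prod_univ_castSucc]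
  have h1 : ∀ i : Fin n, cc n K (Fin.castSucc i) = 1 := by
    intro i
    unfold cc
    rw [if_neg]
    simp only [Fin.val_castSucc]
    exact Nat.ne_of_lt i.2
  have h2 : cc n K (Fin.last n) = (-1) ^ n := by
    unfold cc
    rw [if_pos (Fin.val_last n)]
  rw [Finset.prod_congr rfl (fun i _ => h1 i), Finset.prod_const_one, one_mul, h2]

theorem slnf8_det_wMat (n : ℕ) : (wMat n K).det = 1 := by
  rw [slnf8_wMat_eq, Matrix.det_mul, Matrix.det_diagonal, Matrix.det_permutation, slnf8_prod_cc,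
    sign_finRotate]
  simp only [Nat.add_sub_cancel, Units.val_pow_eq_pow_val, Units.val_neg, Units.val_one,
    Int.cast_pow, Int.cast_neg, Int.cast_one]
  rw [← mul_pow]
  simp

/-- the signed `(n+1)`-cycle as an element of `SL_{n+1}(K)` -/
theorem slnf8_exists_w (n : ℕ) :
    ∃ w : Matrix.SpecialLinearGroup (Fin (n + 1)) K,
      (w : Matrix (Fin (n + 1)) (Fin (n + 1)) K) =
        Matrix.of (fun i j => if j.val = i.val + 1 then 1
          else if i.val = n ∧ j.val = 0 then (-1) ^ n else 0) :=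
  ⟨⟨wMat n K, slnf8_det_wMat n⟩, rfl⟩

/-- the diagonal matrix `diag(k, k⁻¹, 1, …, 1)` of S2402 has determinant one -/
theorem slnf8_det_diag (n : ℕ) (hn : 1 ≤ n) (k : Kˣ) :
    (Matrix.diagonal (fun i : Fin (n + 1) => if i.val = 0 then (k : K)
      else if i.val = 1 then ((k⁻¹ : Kˣ) : K) else 1)).det = 1 := by
  obtain ⟨m, rfl⟩ : ∃ m, n = m + 1 := ⟨n - 1, by omega⟩
  rw [Matrix.det_diagonal, Fin.prod_univ_succ, Fin.prod_univ_succ]
  have h0 : ((0 : Fin (m + 1 + 1)).val = 0) := rfl
  have h1 : ((Fin.succ (0 : Fin (m + 1))).val = 1) := rfl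
  rw [if_pos h0, if_neg (by rw [h1]; norm_num), if_pos h1]
  have h2 : ∀ i : Fin m, (if (Fin.succ (Fin.succ i)).val = 0 then (k : K)
      else if (Fin.succ (Fin.succ i)).val = 1 then ((k⁻¹ : Kˣ) : K) else 1) = 1 := by
    intro i
    have : (Fin.succ (Fin.succ i)).val = i.val + 2 := by simp
    rw [if_neg (by omega), if_neg (by omega)]
  rw [Finset.prod_congr rfl (fun i _ => h2 i), Finset.prod_const_one, mul_one]
  exact Units.mul_inv k

end

/-- generators of a group modulo a normal subgroup generate the quotient -/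
theorem slnf8_quot_gen {G : Type*} [Group G] (N : Subgroup G) [N.Normal] (g1 g2 : G)
    (h : Subgroup.closure ({g1, g2} : Set G) ⊔ N = ⊤) :
    Subgroup.closure ({(QuotientGroup.mk' N) g1, (QuotientGroup.mk' N) g2} : Set (G ⧸ N)) = ⊤ := by
  have h1 : Subgroup.map (QuotientGroup.mk' N) (Subgroup.closure ({g1, g2} : Set G) ⊔ N) = ⊤ := by
    rw [h, ← MonoidHom.range_eq_map, MonoidHom.range_eq_top]
    exact QuotientGroup.mk'_surjective N
  have h2 : Subgroup.map (QuotientGroup.mk' N) N = ⊥ := by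
    rw [Subgroup.map_eq_bot_iff, QuotientGroup.ker_mk']
  rw [Subgroup.map_sup, h2, sup_bot_eq, MonoidHom.map_closure, Set.image_pair] at h1
  exact h1

/-- `PSL_{n+1}(F)` is generated by two elements. -/
theorem slnf8_two_gen {F : Type u} [Field F] [Fintype F] (n : ℕ) (hn : 1 ≤ n) :
    ∃ a b : Matrix.ProjectiveSpecialLinearGroup (Fin (n + 1)) F,
      Subgroup.closure ({a, b} : Set (Matrix.ProjectiveSpecialLinearGroup (Fin (n + 1)) F)) = ⊤ := by
  classical
  have h01 : (0 : Fin (n + 1)) ≠ 1 := by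
    intro h
    rw [eq_comm, Fin.one_eq_zero_iff] at h
    omega
  obtain ⟨w, hw⟩ := slnf8_exists_w (K := F) n
  set x : Matrix.SpecialLinearGroup (Fin (n + 1)) F :=
    Matrix.SpecialLinearGroup.transvection h01 1 with hx
  have hxc : (x : Matrix (Fin (n + 1)) (Fin (n + 1)) F) =
      Matrix.transvection (0 : Fin (n + 1)) (1 : Fin (n + 1)) 1 := rfl
  by_cases hK : 3 < Fintype.card F
  · obtain ⟨k, hk⟩ := IsCyclic.exists_generator (α := Fˣ)
    set hd : Matrix.SpecialLinearGroup (Fin (n + 1)) F :=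
      ⟨_, slnf8_det_diag n hn k⟩ with hhd
    have := Cfsg.Agent.S2402.result hK n hn k hk hd x w rfl hxc hw
    exact ⟨_, _, slnf8_quot_gen _ hd (x * w) this⟩
  · have := Cfsg.Agent.S2403.result (by omega) n hn x w hxc hw
    exact ⟨_, _, slnf8_quot_gen _ x w this⟩

end Cfsg.Agent.Lib.helper4
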