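import Mathlib
import Cfsg.Agent.Lib.helper17.SLN.Defs
import Cfsg.Agent.Lib.helper4.SLNF8core

/-!
# SLN (helper17 skeleton) P11 (`exists_cyc_w`) and P12 (`psl_two_gen`), verbatim.
-/

set_option autoImplicit false

namespace Cfsg.Agent.Lib.helper17.SLN

open Cfsg.Agent.Lib.helper17.SLP
open Cfsg.Agent.Lib.helper7.St

universe u v w v'

section P

variable {F : Type u} [Field F] {ι : Type w} [Fintype ι] [DecidableEq ι]

/-- P11 [M]  The monomial matrix of S2402/S2403 has determinant 1. -/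
theorem exists_cyc_w (n : ℕ) :
    ∃ w : Matrix.SpecialLinearGroup (Fin (n + 1)) F,
      (w : Matrix (Fin (n + 1)) (Fin (n + 1)) F) =
        Matrix.of (fun i j => if j.val = i.val + 1 then 1 else if i.val = n ∧ j.val = 0 then (-1) ^ n else 0) :=
  Cfsg.Agent.Lib.helper4.slnf8_exists_w n

/-- P12 [M]  `PSL_{n+1}(F)` is generated by two elements (S2402, S2403). -/
theorem psl_two_gen [Fintype F] (n : ℕ) (hn : 1 ≤ n) :
    ∃ a b : Matrix.ProjectiveSpecialLinearGroup (Fin (n + 1)) F,
      Subgroup.closure ({a, b} : Set (Matrix.ProjectiveSpecialLinearGroup (Fin (n + 1)) F)) = ⊤ :=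
  Cfsg.Agent.Lib.helper4.slnf8_two_gen n hn

end P

end Cfsg.Agent.Lib.helper17.SLN
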