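import Cfsg.Agent.Lib.helper4.SLPFIN2core
import Cfsg.Agent.Lib.Helper26.SLPX1core
import Cfsg.Agent.Lib.Helper28.SLPXQ
import Cfsg.Agent.Lib.helper2.SLPXR
import Cfsg.Agent.Lib.Helper28.SLPM34h28
import Cfsg.Agent.Lib.Helper20.SLPC1
import Cfsg.Agent.Lib.Helper20.SLPN2
import Cfsg.Agent.Lib.Helper25.SLPN3
import Cfsg.Agent.Lib.Helper20.SLPF4
import Cfsg.Agent.Lib.helper7.SLPP1
import Cfsg.Agent.Lib.helper7.SLPM6
import Cfsg.Agent.Lib.helper2.SLPM1
import Cfsg.Agent.Lib.helper15.SLPM5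

/-!
# SLP row FIN2 (`psl_odd`), verbatim: the core fed with the landed rows
X1 (= Helper26 core on XQ of Helper28 and XR of helper2), C1, N2, N3, P1, M1,
M3/M4 (spares of Helper28), M5, M6, F4.
-/

set_option autoImplicit false

namespace Cfsg.Agent.Lib.helper17.SLP

open Polynomial

universe u v

/-- FIN2 -/
theorem psl_odd {F : Type u} [Field F] [Fintype F] (h2 : (2 : F) ≠ 0) :
    ∃ rels : Finset (FreeGroup (Fin 3)), rels.card ≤ 9 ∧
      Nonempty (PresentedGroup (↑rels : Set (FreeGroup (Fin 3))) ≃*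
        Matrix.ProjectiveSpecialLinearGroup (Fin 2) F) := by
  obtain ⟨p, hpchar⟩ := CharP.exists F
  haveI : CharP F p := hpchar
  haveI : Fact p.Prime := ⟨CharP.char_is_prime F p⟩
  have hp : p ≠ 2 := by
    rintro rfl
    apply h2
    have := CharP.cast_eq_zero F 2
    exact_mod_cast this
  exact slpfin2_core h2
    (fun ζ hζ => slpx1_core p hp ζ (fun hq => ascheme_Q p hq ζ hζ)
      (fun hq => ascheme_R p hp hq ζ hζ))
    (fun G _ ζ hζ u h w N hN0 hgen x hadd hconj hx1 hN hwh hw2 hK1 hK2 =>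
      card_le_of_struct ζ hζ u h w N hN0 hgen x hadd hconj hx1 hN hwh hw2 hK1 hK2)
    (fun G _ h w m hw2 hbr => n_dihedral h w m hw2 hbr)
    (fun G _ lam x h w m hadd hconj hneg hwh hw2 hK1 =>
      n_psl_even lam x h w m hadd hconj hneg hwh hw2 hK1)
    (fun L a b c hgen hrel hcard => pres_of_card L a b c hgen hrel hcard)
    (fun s => wM_hM s) wM_sq hM_neg_one_mem_center slpm3_h28_relK1_M
    (fun s => slpm3_h28_relK2_M s) (fun ζ hζ => slpm4_h28_closure_M ζ hζ)
    (fun s m => braid_M s m) (card_PSL2_odd h2) (fun ζ hζ => zeta_pow_half h2 ζ hζ)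

end Cfsg.Agent.Lib.helper17.SLP
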