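import Mathlib
import Cfsg.Agent.Lib.helper2.MI2.Defs

/-!
# Project MI2 (S2142, designer helper2), row O1 (`card_Q0_zero`) (helper4), VERBATIM.
The hyperbolic quadric `Σ x_i y_i = 0` over `ZMod 2` has `2^(2m-1) + 2^(m-1)` points.
-/

set_option autoImplicit false
set_option linter.unusedVariables false
set_option linter.unusedSectionVars false

namespace Cfsg.Agent.Lib.helper2.MI2

open Matrix

variable {m : ℕ}

/-- the kernel of a nonzero functional `a ⬝ᵥ ·` on `(ZMod 2)^(n+1)` has `2^n` elements -/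
theorem mi2o1_card_ker {n : ℕ} (a : Fin (n + 1) → ZMod 2) (ha : a ≠ 0) :
    (Finset.univ.filter (fun b : Fin (n + 1) → ZMod 2 => a ⬝ᵥ b = 0)).card = 2 ^ n := by
  classical
  obtain ⟨i, hi⟩ : ∃ i, a i ≠ 0 := by
    by_contra h
    push_neg at h
    exact ha (funext h)
  have hi1 : a i = 1 := (z2_ne_zero _).1 hi
  have hsum := Finset.card_filter_add_card_filter_not
    (s := (Finset.univ : Finset (Fin (n + 1) → ZMod 2))) (fun b => a ⬝ᵥ b = 0)
  have hcard : (Finset.univ : Finset (Fin (n + 1) → ZMod 2)).card = 2 ^ (n + 1) := by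
    rw [Finset.card_univ, Fintype.card_fun, ZMod.card, Fintype.card_fin]
  have hss : (Pi.single i (1 : ZMod 2) + Pi.single i 1 : Fin (n + 1) → ZMod 2) = 0 := by
    rw [← Pi.single_add]
    have : (1 : ZMod 2) + 1 = 0 := by decide
    rw [this, Pi.single_zero]
  have hbij : (Finset.univ.filter (fun b : Fin (n + 1) → ZMod 2 => a ⬝ᵥ b = 0)).card =
      (Finset.univ.filter (fun b : Fin (n + 1) → ZMod 2 => ¬ a ⬝ᵥ b = 0)).card := by
    apply Finset.card_bij (fun b _ => b + Pi.single i 1)
    · intro b hb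
      simp only [Finset.mem_filter, Finset.mem_univ, true_and] at hb ⊢
      rw [dotProduct_add, hb, dotProduct_single, hi1]
      decide
    · intro b _ b' _ h
      exact add_right_cancel h
    · intro b hb
      simp only [Finset.mem_filter, Finset.mem_univ, true_and] at hb ⊢
      refine ⟨b + Pi.single i 1, ?_, ?_⟩
      · rw [dotProduct_add, dotProduct_single, hi1, mul_one, (z2_ne_zero _).1 hb]
        decide
      · rw [add_assoc, hss, add_zero]
  rw [hcard, ← hbij, pow_succ] at hsum
  omega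

/-- **O1** [M-H] The hyperbolic quadric `Σ x_i y_i = 0` has `2^(2m-1) + 2^(m-1)` points.
Recipe: `V m ≃ (Fin m → ZMod 2) × (Fin m → ZMod 2)` (`Equiv.sumArrowEquivProdArrow`), `Q0 = x ⬝ᵥ y`; for `x = 0` all
`2^m` vectors `y` qualify, for `x ≠ 0` exactly `2^(m-1)` (kernel of a nonzero functional; translate by `Pi.single i 1` with
`x i = 1`).  Total `2^m + (2^m - 1) 2^(m-1)`.  Or induction on `m` (`N_{m+1} = 2 N_m + 4^m`). -/
theorem card_Q0_zero (hm : 1 ≤ m) :
    Nat.card {x : V m | Q0 x = 0} = 2 ^ (2 * m - 1) + 2 ^ (m - 1) := by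
  classical
  obtain ⟨n, rfl⟩ : ∃ n, m = n + 1 := ⟨m - 1, by omega⟩
  have e1 : 2 * (n + 1) - 1 = 2 * n + 1 := by omega
  have e2 : n + 1 - 1 = n := by omega
  rw [e1, e2]
  have key : (Finset.univ.filter (fun x : V (n + 1) => Q0 x = 0)).card = 2 ^ (2 * n + 1) + 2 ^ n := by
    rw [Finset.card_filter]
    rw [← (Equiv.sumArrowEquivProdArrow (Fin (n + 1)) (Fin (n + 1)) (ZMod 2)).symm.sum_comp]
    rw [Fintype.sum_prod_type]
    have hQ : ∀ a b : Fin (n + 1) → ZMod 2,
        Q0 ((Equiv.sumArrowEquivProdArrow (Fin (n + 1)) (Fin (n + 1)) (ZMod 2)).symm (a, b)) = a ⬝ᵥ b :=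
      fun a b => rfl
    simp only [hQ]
    have inner : ∀ a : Fin (n + 1) → ZMod 2,
        (∑ b : Fin (n + 1) → ZMod 2, if a ⬝ᵥ b = 0 then 1 else 0) = 2 ^ n + if a = 0 then 2 ^ n else 0 := by
      intro a
      rw [← Finset.card_filter]
      by_cases ha : a = 0
      · subst ha
        simp only [zero_dotProduct, Finset.filter_true_of_mem, if_true, Finset.card_univ, Fintype.card_fun,
          ZMod.card, Fintype.card_fin, implies_true]
        ring
      · rw [mi2o1_card_ker a ha, if_neg ha, add_zero]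
    simp only [inner]
    rw [Finset.sum_add_distrib, Finset.sum_const, Finset.sum_ite_eq', if_pos (Finset.mem_univ _),
      Finset.card_univ, Fintype.card_fun, ZMod.card, Fintype.card_fin, smul_eq_mul, ← pow_add]
    congr 2
    omega
  rw [← key, Nat.card_eq_fintype_card]
  exact Fintype.card_subtype _

end Cfsg.Agent.Lib.helper2.MI2
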