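import Mathlib
import Cfsg.Agent.Lib.helper2.MI2.Defs
import Cfsg.Agent.S0765

/-!
# Project MI2 (S2142, designer helper2), row Z1 (`eq_top_of_trans_of_tv`) (helper4), VERBATIM.
A subgroup of `Sp_{2m}(2)` that is transitive on the nonzero vectors and contains a transvection is everything (on S0765).
-/

set_option autoImplicit false
set_option linter.unusedVariables false
set_option linter.unusedSectionVars false

namespace Cfsg.Agent.Lib.helper2.MI2

open Matrix

variable {m : ℕ}

/-- **Z1** [S-M] `import Cfsg.Agent.S0765`: `Cfsg.Agent.S0765.result (F := ZMod 2) m` says that the closure of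
`{A | ∃ w c, A.1 = sympTransvection m w c}` is `⊤`; each generator is `tvc w c ∈ {1, tv w}` (`tvc_eq`, `Subtype.ext`),
and `tv w = h * tv v * h⁻¹` for `h ∈ H` with `act h v = w` (`conj_tv`), `tv 0 = 1`. -/
theorem eq_top_of_trans_of_tv (H : Subgroup (G m))
    (htr : ∀ x y : V m, x ≠ 0 → y ≠ 0 → ∃ h ∈ H, act h x = y) {v : V m} (hv : v ≠ 0) (htv : tv v ∈ H) :
    H = ⊤ := by
  have hall : ∀ w : V m, tv w ∈ H := by
    intro w
    by_cases hw : w = 0
    · subst hw; rw [tv_zero]; exact H.one_mem
    · obtain ⟨h, hh, hhv⟩ := htr v w hv hw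
      rw [← hhv, ← conj_tv]
      exact H.mul_mem (H.mul_mem hh htv) (H.inv_mem hh)
  rw [eq_top_iff, ← Cfsg.Agent.S0765.result (F := ZMod 2) m, Subgroup.closure_le]
  rintro A ⟨w, c, hA⟩
  have hAe : A = tvc w c := Subtype.ext hA
  rw [hAe, tvc_eq]
  split_ifs
  · exact H.one_mem
  · exact hall w

end Cfsg.Agent.Lib.helper2.MI2
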