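import Mathlib
import Cfsg.Prelude.Def_GeometricClasses
import Cfsg.Agent.Lib.Lead.SPU.Defs

set_option autoImplicit false
set_option linter.unusedVariables false
set_option linter.unusedSectionVars false

/-!
# Project SPU (S5665), piece STEP3B : `step3b` (singular centres from non-singular ones)

Self-contained (own copies `spustep3b_*` of the few BASIC identities needed).
-/

namespace Cfsg.Agent.Lib.Lead.SPU

open Matrix Cfsg.Agent.S5646 Cfsg.Agent.S5647 Cfsg.Agent.Lib.Helper28.SpPair Cfsg.Agent.Lib.helper6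

variable {m : ℕ} {F : Type*} [Field F] {j j1 : Matrix (Fin m ⊕ Fin m) (Fin m ⊕ Fin m) F} {c0 : F}
  {M : Subgroup (Matrix.GeneralLinearGroup (Fin m ⊕ Fin m) F)}

theorem spustep3b_jj (hJ : JS j c0) (x : Fin m ⊕ Fin m → F) : j *ᵥ (j *ᵥ x) = c0 • x := by
  rw [Matrix.mulVec_mulVec, hJ.sq, Matrix.smul_mulVec, Matrix.one_mulVec]

theorem spustep3b_B_symm (hJ : JS j c0) (x y : Fin m ⊕ Fin m → F) :
    Cfsg.sympForm m F x (j *ᵥ y) = Cfsg.sympForm m F y (j *ᵥ x) := by
  have h := hJ.adj x y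
  rw [sympForm_swap m (j *ᵥ x) y] at h
  exact (neg_injective h).symm

theorem spustep3b_Qj_add (hJ : JS j c0) (x y : Fin m ⊕ Fin m → F) :
    Qj j (x + y) = Qj j x + Qj j y + 2 * Cfsg.sympForm m F x (j *ᵥ y) := by
  unfold Qj
  rw [Matrix.mulVec_add, sympForm_add_left, sympForm_add_right, sympForm_add_right,
    spustep3b_B_symm hJ y x]
  ring

theorem spustep3b_Qj_neg (x : Fin m ⊕ Fin m → F) : Qj j (-x) = Qj j x := by
  unfold Qj
  rw [Matrix.mulVec_neg, sympForm_neg_left, sympForm_neg_right, neg_neg]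

theorem spustep3b_Qj_jx (hJ : JS j c0) (x : Fin m ⊕ Fin m → F) :
    Qj j (j *ᵥ x) = -(c0 * Qj j x) := by
  unfold Qj
  rw [spustep3b_jj hJ, sympForm_smul_right, sympForm_swap m (j *ᵥ x) x]
  ring

/-- STEP3B [M] : singular centres from non-singular ones (no group elements needed).
(`x ≠ 0` singular : `y1` with `f (y1, x) = 1`; `y0 := y1 + t j x` has `f (y0, x) = 1`, `Qj y0 = Qj y1 + 2 t c0 ≠ 0` for a suitable `t`;
`y := s y0` with `s ≠ 0`, `s Qj y0 ≠ 2 B (x, y0)` : `Qj (x - y) = s (s Qj y0 - 2 B (x, y0)) ≠ 0`; `x = y + (x - y)`, `f (y, x - y) = s ≠ 0` : `XX_add`.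
`x = 0` : `XX_zero`.) -/
theorem step3b (hJ : JS j c0) (hM : M ≤ Cfsg.spGL m F)
    (h : ∀ x : Fin m ⊕ Fin m → F, Qj j x ≠ 0 → XX M x) : ∀ x : Fin m ⊕ Fin m → F, XX M x := by
  intro x
  by_cases hx0 : x = 0
  · rw [hx0]
    exact XX_zero M
  by_cases hQx : Qj j x = 0
  swap
  · exact h x hQx
  have hc0 : c0 ≠ 0 := by
    intro hc
    exact hJ.nsq 0 (by rw [hc, mul_zero])
  obtain ⟨y1, hy1⟩ := sympForm_nondeg m x hx0
  have ha : Cfsg.sympForm m F y1 x ≠ 0 := by
    rw [sympForm_swap m y1 x]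
    exact neg_ne_zero.2 hy1
  have hjxx : Cfsg.sympForm m F (j *ᵥ x) x = 0 := by
    rw [sympForm_swap m (j *ᵥ x) x]
    have h0 : Cfsg.sympForm m F x (j *ᵥ x) = 0 := hQx
    rw [h0, neg_zero]
  obtain ⟨y0, hy0a, hy0Q⟩ : ∃ y0, Cfsg.sympForm m F y0 x ≠ 0 ∧ Qj j y0 ≠ 0 := by
    by_cases hQ1 : Qj j y1 = 0
    · refine ⟨y1 + j *ᵥ x, ?_, ?_⟩
      · rw [sympForm_add_left, hjxx, add_zero]
        exact ha
      · rw [spustep3b_Qj_add hJ, hQ1, spustep3b_Qj_jx hJ, hQx, spustep3b_jj hJ, sympForm_smul_right]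
        have e : (0 : F) + -(c0 * 0) + 2 * (c0 * Cfsg.sympForm m F y1 x) =
            2 * (c0 * Cfsg.sympForm m F y1 x) := by ring
        rw [e]
        exact mul_ne_zero hJ.two (mul_ne_zero hc0 ha)
    · exact ⟨y1, ha, hQ1⟩
  have hyy : Cfsg.sympForm m F y0 y0 = 0 := sympForm_self m y0
  by_cases hs : Qj j (x - y0) = 0
  swap
  · have hne : Cfsg.sympForm m F y0 (x - y0) ≠ 0 := by
      rw [sympForm_sub_right, hyy, sub_zero]
      exact hy0a
    have h5 := XX_add M hM y0 (x - y0) (h y0 hy0Q) (h _ hs) hne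
    have e : y0 + (x - y0) = x := by abel
    rw [e] at h5
    exact h5
  · have h1 : Qj j (x - y0) = Qj j y0 - 2 * Cfsg.sympForm m F x (j *ᵥ y0) := by
      rw [sub_eq_add_neg, spustep3b_Qj_add hJ, hQx, spustep3b_Qj_neg, Matrix.mulVec_neg,
        sympForm_neg_right]
      ring
    have h2 : Qj j (x + y0) = Qj j y0 + 2 * Cfsg.sympForm m F x (j *ᵥ y0) := by
      rw [spustep3b_Qj_add hJ, hQx]
      ring
    have h3 : Qj j (x + y0) ≠ 0 := by
      intro h0
      apply hy0Q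
      have h4 : (2 : F) * Qj j y0 = 0 := by
        rw [h1] at hs
        rw [h2] at h0
        linear_combination hs + h0
      rcases mul_eq_zero.1 h4 with h5 | h5
      · exact absurd h5 hJ.two
      · exact h5
    have hny : Qj j (-y0) ≠ 0 := by
      rw [spustep3b_Qj_neg]
      exact hy0Q
    have hne : Cfsg.sympForm m F (-y0) (x + y0) ≠ 0 := by
      rw [sympForm_neg_left, sympForm_add_right, hyy, add_zero]
      exact neg_ne_zero.2 hy0a
    have h5 := XX_add M hM (-y0) (x + y0) (h _ hny) (h _ h3) hne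
    have e : -y0 + (x + y0) = x := by abel
    rw [e] at h5
    exact h5

end Cfsg.Agent.Lib.Lead.SPU
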