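import Cfsg.Agent.Lib.helper7.TO.Basic

/-!
# Project TO, piece G2 (core): all Siegel elements of two perpendicular pure tensors, from those of `A`-type,
by three commutator steps.  The statements of the pieces used (SGALG1, 3, 5, 6, G1, SYMP1 for `f₂`) are bundled in
the structure `tog2_Hyp C M`; the verbatim `sgPure_all` feeds the landed pieces into it.
-/

set_option autoImplicit false

namespace Cfsg.Agent.Lib.helper7.TO

open Matrix Cfsg.Agent.Lib.helper7.TP Cfsg.Agent.Lib.Helper28.SympAbs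
open scoped Kronecker

variable {a b : ℕ} {F : Type*} [Field F]

/-- the statements of the pieces SGALG1 (`ex`), SGALG3 (`mul`), SGALG5 (`comm`), SGALG6 (`iff`), G1 (`g1`), SYMP1 for
`f₂` (`symp`), for a fixed context `C` and subgroup `M`. -/
structure tog2_Hyp (C : Ctx a b F) (M : Subgroup (Matrix.GeneralLinearGroup (Fin a × Fin b) F)) : Prop where
  ex : ∀ (p v : Fin a × Fin b → F) (c : F), C.q p = 0 → C.q v = 0 → C.f p v = 0 →
    ∃ t : Matrix.GeneralLinearGroup (Fin a × Fin b) F, t ∈ C.G ∧ C.IsSgV t p v c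
  mul : ∀ (p v v' : Fin a × Fin b → F), C.q p = 0 → C.f p v = 0 → C.f p v' = 0 →
    ∀ t t' : Matrix.GeneralLinearGroup (Fin a × Fin b) F, C.IsSgQ t p v → C.IsSgQ t' p v' →
      C.IsSgQ (t * t') p (v + v')
  comm : ∀ (h t : Matrix.GeneralLinearGroup (Fin a × Fin b) F) (u v z w : Fin a × Fin b → F) (c : F),
    h ∈ C.G → C.q u = 0 → C.q w = 0 → C.f u v = 0 → C.f z u = 0 → C.f w u = 0 → C.f w v = 0 →
    C.f z w = -1 → C.IsSgV h v z 1 → C.IsSgV t u w c → C.IsSgV (h * t * h⁻¹ * t⁻¹) u v c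
  iff : ∀ (t : Matrix.GeneralLinearGroup (Fin a × Fin b) F) (p v : Fin a × Fin b → F) (c : F),
    C.q v = 0 → (C.IsSgV t p v c ↔ C.IsSgQ t p (c • v))
  g1 : ∀ (u : Fin a → F) (w z : Fin b → F) (c : F), C.f₂ w z = 0 →
    ∀ t : Matrix.GeneralLinearGroup (Fin a × Fin b) F, C.IsSgV t (ten u w) (ten u z) c → t ∈ M
  symp : ∀ w w' : Fin b → F, ∃ z z' : Fin b → F,
    C.f₂ z w = 0 ∧ C.f₂ z w' = 0 ∧ C.f₂ z' w = 0 ∧ C.f₂ z' w' = 0 ∧ C.f₂ z z' = 1

theorem tog2_sgv_unique (C : Ctx a b F) {t t' : Matrix.GeneralLinearGroup (Fin a × Fin b) F}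
    {p v : Fin a × Fin b → F} {c : F} (ht : C.IsSgV t p v c) (ht' : C.IsSgV t' p v c) : t = t' := by
  apply Units.ext
  rw [Matrix.ext_iff_mulVec]
  intro x
  rw [ht x, ht' x]

theorem tog2_sgv_zero (C : Ctx a b F) {t : Matrix.GeneralLinearGroup (Fin a × Fin b) F}
    {v : Fin a × Fin b → F} {c : F} (ht : C.IsSgV t 0 v c) : t = 1 := by
  apply Units.ext
  rw [Matrix.ext_iff_mulVec]
  intro x
  rw [ht x, Units.val_one, Matrix.one_mulVec]
  unfold Ctx.sgv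
  rw [C.f_zero_left, zero_smul, smul_zero, sub_zero, smul_zero, add_zero]

/-- Step 1: `f₁ u u' ≠ 0`, `w ⊥ w'`. -/
theorem tog2_step1 (C : Ctx a b F) (M : Subgroup (Matrix.GeneralLinearGroup (Fin a × Fin b) F))
    (H : tog2_Hyp C M) (u u' : Fin a → F) (w w' : Fin b → F) (c : F) (h1 : C.f₁ u u' ≠ 0)
    (h2 : C.f₂ w w' = 0) (t : Matrix.GeneralLinearGroup (Fin a × Fin b) F)
    (ht : C.IsSgV t (ten u w) (ten u' w') c) : t ∈ M := by
  obtain ⟨z, z', hzw, hzw', hz'w, hz'w', hzz'⟩ := H.symp w w'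
  have hu'u : C.f₁ u' u ≠ 0 := by
    rw [C.hf₁.skew]
    exact neg_ne_zero.2 h1
  obtain ⟨lam, hlam⟩ : ∃ lam : F, C.f₁ u' u * lam = 1 := ⟨(C.f₁ u' u)⁻¹, mul_inv_cancel₀ hu'u⟩
  have hw'z' : C.f₂ w' (lam • z') = 0 := by
    rw [C.hf₂.bilinear.smul_right, C.hf₂.skew, hz'w', neg_zero, mul_zero]
  have hwz : C.f₂ w z = 0 := by rw [C.hf₂.skew, hzw, neg_zero]
  obtain ⟨h, hhG, hh⟩ := H.ex (ten u' w') (ten u' (lam • z')) 1 (C.q_ten _ _) (C.q_ten _ _)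
    (by rw [C.f_ten, C.hf₁.alternating, zero_mul])
  obtain ⟨t₀, _, ht₀⟩ := H.ex (ten u w) (ten u z) c (C.q_ten _ _) (C.q_ten _ _)
    (by rw [C.f_ten, C.hf₁.alternating, zero_mul])
  have hhM : h ∈ M := H.g1 u' w' (lam • z') 1 hw'z' h hh
  have ht₀M : t₀ ∈ M := H.g1 u w z c hwz t₀ ht₀
  have hcomm := H.comm h t₀ (ten u w) (ten u' w') (ten u' (lam • z')) (ten u z) c hhG
    (C.q_ten _ _) (C.q_ten _ _)
    (by rw [C.f_ten, h2, mul_zero])
    (by rw [C.f_ten, C.hf₂.bilinear.smul_left, hz'w, mul_zero, mul_zero])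
    (by rw [C.f_ten, C.hf₁.alternating, zero_mul])
    (by rw [C.f_ten, hzw', mul_zero])
    (by
      rw [C.f_ten, C.hf₂.bilinear.smul_left, C.hf₂.skew z' z, hzz']
      linear_combination (-1 : F) * hlam)
    hh ht₀
  rw [tog2_sgv_unique C ht hcomm]
  exact M.mul_mem (M.mul_mem (M.mul_mem hhM ht₀M) (M.inv_mem hhM)) (M.inv_mem ht₀M)

/-- Step 2: `w ⊥ w'`, any `x`. -/
theorem tog2_step2 (C : Ctx a b F) (M : Subgroup (Matrix.GeneralLinearGroup (Fin a × Fin b) F))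
    (H : tog2_Hyp C M) (u x : Fin a → F) (w w' : Fin b → F) (c : F)
    (h2 : C.f₂ w w' = 0) (t : Matrix.GeneralLinearGroup (Fin a × Fin b) F)
    (ht : C.IsSgV t (ten u w) (ten x w') c) : t ∈ M := by
  by_cases hu : u = 0
  · rw [hu, ten_zero_left] at ht
    rw [tog2_sgv_zero C ht]
    exact M.one_mem
  by_cases h1 : C.f₁ u x = 0
  swap
  · exact tog2_step1 C M H u x w w' c h1 h2 t ht
  obtain ⟨x₀, hx₀⟩ := (C.hf₁.nondegenerate u hu).2
  have h1' : C.f₁ u (x - x₀) ≠ 0 := by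
    rw [f_sub_right C.hf₁, h1, zero_sub]
    exact neg_ne_zero.2 hx₀
  have hP : C.q (ten u w) = 0 := C.q_ten _ _
  have hperp : ∀ x' : Fin a → F, C.f (ten u w) (c • ten x' w') = 0 := by
    intro x'
    rw [C.hf.smul_right, C.f_ten, h2, mul_zero, mul_zero]
  obtain ⟨t₁, _, ht₁⟩ := H.ex (ten u w) (ten (x - x₀) w') c hP (C.q_ten _ _)
    (by rw [C.f_ten, h2, mul_zero])
  obtain ⟨t₂, _, ht₂⟩ := H.ex (ten u w) (ten x₀ w') c hP (C.q_ten _ _)
    (by rw [C.f_ten, h2, mul_zero])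
  have ht₁M := tog2_step1 C M H u (x - x₀) w w' c h1' h2 t₁ ht₁
  have ht₂M := tog2_step1 C M H u x₀ w w' c hx₀ h2 t₂ ht₂
  have hq₁ := (H.iff t₁ _ _ c (C.q_ten _ _)).1 ht₁
  have hq₂ := (H.iff t₂ _ _ c (C.q_ten _ _)).1 ht₂
  have hq := H.mul _ _ _ hP (hperp _) (hperp _) t₁ t₂ hq₁ hq₂
  have e : c • ten (x - x₀) w' + c • ten x₀ w' = c • ten x w' := by
    rw [← smul_add, ← ten_add_left, sub_add_cancel]
  rw [e] at hq
  have hq' := (H.iff (t₁ * t₂) _ _ c (C.q_ten _ _)).2 hq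
  rw [tog2_sgv_unique C ht hq']
  exact M.mul_mem ht₁M ht₂M

/-- core of `sgPure_all`. -/
theorem tog2_core (C : Ctx a b F) (ha : 2 ≤ a)
    (M : Subgroup (Matrix.GeneralLinearGroup (Fin a × Fin b) F)) (H : tog2_Hyp C M)
    (u u' : Fin a → F) (w w' : Fin b → F) (c : F) (hperp : C.f₁ u u' * C.f₂ w w' = 0)
    (t : Matrix.GeneralLinearGroup (Fin a × Fin b) F)
    (ht : C.IsSgV t (ten u w) (ten u' w') c) : t ∈ M := by
  by_cases h2 : C.f₂ w w' = 0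
  · exact tog2_step2 C M H u u' w w' c h2 t ht
  have h1 : C.f₁ u u' = 0 := by
    rcases mul_eq_zero.1 hperp with h | h
    · exact h
    · exact absurd h h2
  have hu₁ : (Pi.single (⟨0, by omega⟩ : Fin a) (1 : F) : Fin a → F) ≠ 0 := by
    intro h
    have h3 := congrFun h ⟨0, by omega⟩
    simp at h3
  obtain ⟨x₁, hx₁⟩ := (C.hf₁.nondegenerate _ hu₁).1
  generalize (Pi.single (⟨0, by omega⟩ : Fin a) (1 : F) : Fin a → F) = u₁ at hx₁
  obtain ⟨lam, hlam⟩ : ∃ lam : F, C.f₁ x₁ u₁ * lam = 1 := ⟨(C.f₁ x₁ u₁)⁻¹, mul_inv_cancel₀ hx₁⟩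
  obtain ⟨z, z', hzw, hzw', hz'w, hz'w', hzz'⟩ := H.symp w w'
  have hw'z' : C.f₂ w' (lam • z') = 0 := by
    rw [C.hf₂.bilinear.smul_right, C.hf₂.skew, hz'w', neg_zero, mul_zero]
  have hwz : C.f₂ w z = 0 := by rw [C.hf₂.skew, hzw, neg_zero]
  obtain ⟨h, hhG, hh⟩ := H.ex (ten u' w') (ten x₁ (lam • z')) 1 (C.q_ten _ _) (C.q_ten _ _)
    (by rw [C.f_ten, hw'z', mul_zero])
  obtain ⟨t₀, _, ht₀⟩ := H.ex (ten u w) (ten u₁ z) c (C.q_ten _ _) (C.q_ten _ _)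
    (by rw [C.f_ten, hwz, mul_zero])
  have hhM : h ∈ M := tog2_step2 C M H u' x₁ w' (lam • z') 1 hw'z' h hh
  have ht₀M : t₀ ∈ M := tog2_step2 C M H u u₁ w z c hwz t₀ ht₀
  have hcomm := H.comm h t₀ (ten u w) (ten u' w') (ten x₁ (lam • z')) (ten u₁ z) c hhG
    (C.q_ten _ _) (C.q_ten _ _)
    (by rw [C.f_ten, h1, zero_mul])
    (by rw [C.f_ten, C.hf₂.bilinear.smul_left, hz'w, mul_zero, mul_zero])
    (by rw [C.f_ten, hzw, mul_zero])
    (by rw [C.f_ten, hzw', mul_zero])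
    (by
      rw [C.f_ten, C.hf₂.bilinear.smul_left, C.hf₂.skew z' z, hzz']
      linear_combination (-1 : F) * hlam)
    hh ht₀
  rw [tog2_sgv_unique C ht hcomm]
  exact M.mul_mem (M.mul_mem (M.mul_mem hhM ht₀M) (M.inv_mem hhM)) (M.inv_mem ht₀M)

end Cfsg.Agent.Lib.helper7.TO
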