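import Cfsg.Agent.Lib.helper7.TO.Basic
import Cfsg.Agent.Lib.helper4.TOG2core

/-!
# Project TO, piece G3 (core): the whole radical `Q_p` of a pure singular point `p = u ⊗ w`: every generalised Siegel
element `sgq (p, v)`, `v ⊥ p`, is in `M`.  Same hypothesis bundle `tog2_Hyp C M` as the core of G2.
-/

set_option autoImplicit false

namespace Cfsg.Agent.Lib.helper7.TO

open Matrix Cfsg.Agent.Lib.helper7.TP Cfsg.Agent.Lib.Helper28.SympAbs
open scoped Kronecker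

variable {a b : ℕ} {F : Type*} [Field F]

theorem tog3_sgq_unique (C : Ctx a b F) {t t' : Matrix.GeneralLinearGroup (Fin a × Fin b) F}
    {p v : Fin a × Fin b → F} (ht : C.IsSgQ t p v) (ht' : C.IsSgQ t' p v) : t = t' := by
  apply Units.ext
  rw [Matrix.ext_iff_mulVec]
  intro x
  rw [ht x, ht' x]

theorem tog3_sgq_zero (C : Ctx a b F) {t : Matrix.GeneralLinearGroup (Fin a × Fin b) F}
    {v : Fin a × Fin b → F} (ht : C.IsSgQ t 0 v) : t = 1 := by
  apply Units.ext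
  rw [Matrix.ext_iff_mulVec]
  intro x
  rw [ht x, Units.val_one, Matrix.one_mulVec, C.f_zero_left, zero_smul, smul_zero, smul_zero, add_zero,
    sub_zero, sub_zero]

theorem tog3_one (C : Ctx a b F) (p : Fin a × Fin b → F) :
    C.IsSgQ (1 : Matrix.GeneralLinearGroup (Fin a × Fin b) F) p 0 := by
  intro x
  rw [Units.val_one, Matrix.one_mulVec, smul_zero, C.f_zero_left, zero_smul, C.q_zero, zero_mul, zero_smul,
    add_zero, sub_zero, sub_zero]

theorem tog3_ten_sum_right {ι : Type*} (u : Fin a → F) (s : Finset ι) (g : ι → Fin b → F) :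
    ten u (∑ i ∈ s, g i) = ∑ i ∈ s, ten u (g i) := by
  funext p
  simp [ten, Finset.sum_apply, Finset.mul_sum]

/-- a sum of pure tensors perpendicular to `p = u ⊗ w` -/
theorem tog3_sum (C : Ctx a b F) (M : Subgroup (Matrix.GeneralLinearGroup (Fin a × Fin b) F))
    (H : tog2_Hyp C M)
    (hG2 : ∀ (u u' : Fin a → F) (w w' : Fin b → F) (c : F), C.f₁ u u' * C.f₂ w w' = 0 →
      ∀ t : Matrix.GeneralLinearGroup (Fin a × Fin b) F, C.IsSgV t (ten u w) (ten u' w') c → t ∈ M)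
    (u : Fin a → F) (w : Fin b → F) {ι : Type*} (s : Finset ι) (X : ι → Fin a → F)
    (Y : ι → Fin b → F) (hXY : ∀ k ∈ s, C.f₁ u (X k) * C.f₂ w (Y k) = 0) :
    ∃ t' ∈ M, C.IsSgQ t' (ten u w) (∑ k ∈ s, ten (X k) (Y k)) := by
  classical
  induction s using Finset.induction_on with
  | empty => exact ⟨1, M.one_mem, by rw [Finset.sum_empty]; exact tog3_one C _⟩
  | insert k s hk ih =>
    obtain ⟨t', ht'M, ht'⟩ := ih (fun j hj => hXY j (Finset.mem_insert_of_mem hj))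
    have hk0 := hXY k (Finset.mem_insert_self k s)
    obtain ⟨t₁, _, ht₁⟩ := H.ex (ten u w) (ten (X k) (Y k)) 1 (C.q_ten _ _) (C.q_ten _ _)
      (by rw [C.f_ten]; exact hk0)
    have ht₁M := hG2 u (X k) w (Y k) 1 hk0 t₁ ht₁
    have hq₁ := (H.iff t₁ _ _ 1 (C.q_ten _ _)).1 ht₁
    rw [one_smul] at hq₁
    refine ⟨t₁ * t', M.mul_mem ht₁M ht'M, ?_⟩
    rw [Finset.sum_insert hk]
    exact H.mul _ _ _ (C.q_ten _ _) (by rw [C.f_ten]; exact hk0)
      (by
        rw [C.f_sum_right]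
        exact Finset.sum_eq_zero (fun j hj => by
          rw [C.f_ten]
          exact hXY j (Finset.mem_insert_of_mem hj)))
      t₁ t' hq₁ ht'

/-- core of `sgQ_pure`. -/
theorem tog3_core (C : Ctx a b F) (ha : 2 ≤ a)
    (M : Subgroup (Matrix.GeneralLinearGroup (Fin a × Fin b) F)) (H : tog2_Hyp C M)
    (u : Fin a → F) (w : Fin b → F) (v : Fin a × Fin b → F) (hv : C.f (ten u w) v = 0)
    (t : Matrix.GeneralLinearGroup (Fin a × Fin b) F) (ht : C.IsSgQ t (ten u w) v) : t ∈ M := by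
  have hG2 : ∀ (u u' : Fin a → F) (w w' : Fin b → F) (c : F), C.f₁ u u' * C.f₂ w w' = 0 →
      ∀ t : Matrix.GeneralLinearGroup (Fin a × Fin b) F, C.IsSgV t (ten u w) (ten u' w') c → t ∈ M :=
    fun u u' w w' c hperp t ht => tog2_core C ha M H u u' w w' c hperp t ht
  by_cases hu : u = 0
  · rw [hu, ten_zero_left] at ht
    rw [tog3_sgq_zero C ht]
    exact M.one_mem
  -- a basis vector not perpendicular to `u`
  obtain ⟨i₀, hi₀⟩ : ∃ i : Fin a, C.f₁ u (Pi.single i 1) ≠ 0 := by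
    by_contra hcon
    push Not at hcon
    obtain ⟨x, hx⟩ := (C.hf₁.nondegenerate u hu).2
    apply hx
    have hrho : rho C.f₁ u = 0 := by
      funext i
      show C.f₁ (Pi.single i 1) u = 0
      rw [C.hf₁.skew, hcon i, neg_zero]
    rw [C.hf₁.skew, f_eq_dot C.hf₁, hrho, zero_dotProduct, neg_zero]
  obtain ⟨ν, hν⟩ : ∃ ν : F, C.f₁ u (Pi.single i₀ 1) * ν = 1 :=
    ⟨(C.f₁ u (Pi.single i₀ 1))⁻¹, mul_inv_cancel₀ hi₀⟩
  obtain ⟨Y, hY⟩ : ∃ Y : Fin a → Fin b → F, v = ∑ i : Fin a, ten (Pi.single i (1 : F)) (Y i) :=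
    ⟨fun i j => v (i, j), eq_sum_ten v⟩
  -- the decomposition of `v`
  have hX : ∀ i : Fin a, C.f₁ u (Pi.single i (1 : F)
      - (C.f₁ u (Pi.single i 1) * ν) • (Pi.single i₀ (1 : F) : Fin a → F)) = 0 := by
    intro i
    rw [f_sub_right C.hf₁, C.hf₁.bilinear.smul_right]
    linear_combination (-(C.f₁ u (Pi.single i 1))) * hν
  have hdec : v = ∑ i : Fin a, ten (Pi.single i (1 : F)
      - (C.f₁ u (Pi.single i 1) * ν) • (Pi.single i₀ (1 : F) : Fin a → F)) (Y i)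
      + ten (Pi.single i₀ (1 : F)) (∑ i : Fin a, (C.f₁ u (Pi.single i 1) * ν) • Y i) := by
    rw [tog3_ten_sum_right, ← Finset.sum_add_distrib]
    conv_lhs => rw [hY]
    refine Finset.sum_congr rfl (fun i _ => ?_)
    rw [ten_sub_left, ten_smul_left, ten_smul_right, sub_add_cancel]
  have hsum0 : C.f (ten u w) (∑ i : Fin a, ten (Pi.single i (1 : F)
      - (C.f₁ u (Pi.single i 1) * ν) • (Pi.single i₀ (1 : F) : Fin a → F)) (Y i)) = 0 := by
    rw [C.f_sum_right]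
    exact Finset.sum_eq_zero (fun i _ => by rw [C.f_ten, hX i, zero_mul])
  have hy : C.f₂ w (∑ i : Fin a, (C.f₁ u (Pi.single i 1) * ν) • Y i) = 0 := by
    have h3 := hv
    rw [hdec, C.hf.add_right, hsum0, zero_add, C.f_ten] at h3
    rcases mul_eq_zero.1 h3 with h | h
    · exact absurd h hi₀
    · exact h
  generalize (∑ i : Fin a, (C.f₁ u (Pi.single i 1) * ν) • Y i) = y at hdec hy
  obtain ⟨t₁, ht₁M, ht₁⟩ := tog3_sum C M H hG2 u w Finset.univ
    (fun i : Fin a => Pi.single i (1 : F)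
      - (C.f₁ u (Pi.single i 1) * ν) • (Pi.single i₀ (1 : F) : Fin a → F)) Y
    (fun i _ => by rw [hX i, zero_mul])
  have hperp₂ : C.f₁ u (Pi.single i₀ 1) * C.f₂ w y = 0 := by rw [hy, mul_zero]
  obtain ⟨t₂, _, ht₂⟩ := H.ex (ten u w) (ten (Pi.single i₀ (1 : F)) y) 1 (C.q_ten _ _) (C.q_ten _ _)
    (by rw [C.f_ten]; exact hperp₂)
  have ht₂M := hG2 u (Pi.single i₀ 1) w y 1 hperp₂ t₂ ht₂
  have hq₂ := (H.iff t₂ _ _ 1 (C.q_ten _ _)).1 ht₂
  rw [one_smul] at hq₂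
  have hq := H.mul _ _ _ (C.q_ten _ _) hsum0 (by rw [C.f_ten]; exact hperp₂) t₁ t₂ ht₁ hq₂
  rw [← hdec] at hq
  rw [tog3_sgq_unique C ht hq]
  exact M.mul_mem ht₁M ht₂M

end Cfsg.Agent.Lib.helper7.TO
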