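import Mathlib
import Cfsg.Agent.Lib.helper7.CEC.Defs
import Cfsg.Agent.Lib.helper7.CEC.Defs2
import Cfsg.Agent.Lib.Helper24.STCI1
import Cfsg.Agent.Lib.Helper24.STCB1
import Cfsg.Agent.Lib.helper4.CECL10

/-!
# Project CEC (S2092, designer helper7), rows Z2 (`t1_of_t7`) and Z3 (`W3_map`) (helper4), VERBATIM.
On helper7's `Ce` library, `Helper24.STCI1` / `STCB1` and `helper4.CECL10` (`cecl10_Zl_map`, `cecl10_ne_of_ab`); waits for nothing.
-/

set_option autoImplicit false

namespace Cfsg.Agent.Lib.helper7.CEC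

open Cfsg.Agent.Lib.helper15.St2 Cfsg.Agent.Lib.helper7.Ce Cfsg.Agent.Lib.helper3.STC

section Z

variable {K : Type*} [Field K] {ι : Type*} {Γ G : Type*} [Group Γ] [Group G] {S : SysC K ι G} {σ : Γ →* G}

/-- Z2 [M]  the same short root, from the long roots (any characteristic; replaces `t1_steinberg` for `q = 3, 4`). -/
theorem t1_of_t7 (h : IsCE σ)
    (h5 : ∀ a d : ι ⊕ ι, ab a ≠ ab d → ∀ t u : K, CL σ (S.x a (ng a) t) (S.x a d u))
    (h2' : ∀ a : ι ⊕ ι, ∀ t u : K, CL σ (S.x a (ng a) t) (S.x a (ng a) u))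
    (h7 : ∀ a c : ι ⊕ ι, ab a ≠ ab c → ∀ t u : K, CL σ (S.x a (ng a) t) (S.x c (ng c) u)) :
    ∀ a b : ι ⊕ ι, ab a ≠ ab b → ∀ t u : K, CL σ (S.x a b t) (S.x a b u) := by
  intro a b hab t u
  obtain ⟨h1, h2⟩ := cecl10_ne_of_ab hab
  have hnba : ng b ≠ ng a := fun e => h1 (ng_inj.1 e).symm
  have hnba' : ng b ≠ ng (ng a) := by
    rw [ng_ng]
    exact fun e => h2 e.symm
  -- the long root `(ng b, b)` against the short root `(a, b)`
  have hLS : ∀ c s : K, CL σ (S.x (ng b) b c) (S.x a b s) := by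
    intro c s
    have := h5 (ng b) (ng a) (by rw [ab_ng, ab_ng]; exact fun e => hab e.symm) c (-(sg a * sg b * s))
    rw [ng_ng, ← S.sym a b h1 s] at this
    exact this
  have hLL : ∀ c c' : K, CL σ (S.x (ng b) b c) (S.x (ng b) b c') := by
    intro c c'
    have := h2' (ng b) c c'
    rwa [ng_ng] at this
  have hAL : ∀ c : K, CL σ (S.x a (ng a) t) (S.x (ng b) b c) := by
    intro c
    have := h7 a (ng b) (by rwa [ab_ng]) t c
    rwa [ng_ng] at this
  have hls : cm (S.x a (ng a) t) (S.x (ng a) b 1) = S.x a b t * S.x (ng b) b (sg a * sg b * t) := by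
    have := S.ls a b h1 h2 t 1
    rw [mul_one, one_pow, mul_one] at this
    exact this
  have hwA : S.x a b u * S.x a (ng a) t = S.x a (ng a) t * S.x a b u :=
    S.comm a b a (ng a) h1 (ne_ng a) h1.symm (ne_ng a) (by rw [ng_ng]; exact h1.symm) (ne_ng a) u t
  have hcjB : cj (S.x a b u) (S.x (ng a) b 1) =
      S.x (ng b) b (2 * (-(sg a * sg b * u)) * 1) * S.x (ng a) b 1 := by
    have := S.cj_ssl hnba hnba' (-(sg a * sg b * u)) 1
    rw [ng_ng, ← S.sym a b h1 u] at this
    exact this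
  -- Milnor-type step
  have hM : CL σ (cm (S.x a (ng a) t) (S.x (ng a) b 1)) (S.x a b u) := by
    set A' := lf h (S.x a (ng a) t) with hA'
    set B' := lf h (S.x (ng a) b 1) with hB'
    set w' := lf h (S.x a b u) with hw'
    set C' := lf h (S.x (ng b) b (2 * (-(sg a * sg b * u)) * 1)) with hC'
    have e1 : σ (cj w' A') = σ A' := by
      rw [map_cj, map_lf, map_lf]
      unfold cj
      rw [hwA, mul_inv_cancel_right]
    have e2 : σ (cj w' B') = σ (C' * B') := by
      rw [map_cj, map_mul, map_lf, map_lf, map_lf]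
      exact hcjB
    have e3 : cj w' (cm A' B') = cm A' (C' * B') := by
      rw [cj_cm]
      exact h.cm_congr e1 e2
    have e4 : cm A' C' = 1 := cm_eq_one_iff.2 (hAL _ A' C' (map_lf h _) (map_lf h _))
    have hcl : CL σ (cm (S.x a (ng a) t) (S.x (ng a) b 1)) (S.x (ng b) b (2 * (-(sg a * sg b * u)) * 1)) := by
      rw [hls]
      exact h.CL_mul_left (hLS _ _).symm (hLL _ _)
    have e5 : C' * cm A' B' * C'⁻¹ = cm A' B' := by
      have := hcl (cm A' B') C' (by rw [map_cm, map_lf, map_lf]) (map_lf h _)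
      rw [← this, mul_inv_cancel_right]
    have e6 : cj w' (cm A' B') = cm A' B' := by
      rw [e3, cm_mul_right, e4, one_mul, e5]
    have e7 : w' * cm A' B' = cm A' B' * w' := mul_eq_of_cj e6
    exact h.CL_of_lift' (by rw [map_cm, map_lf, map_lf]) (map_lf h _) e7.symm
  have hx : S.x a b t = cm (S.x a (ng a) t) (S.x (ng a) b 1) * S.x (ng b) b (-(sg a * sg b * t)) := by
    rw [hls, S.x_neg, mul_inv_cancel_right]
  rw [hx]
  exact h.CL_mul_left hM (hLS _ u)

/-- Z3 [S-M]  `Zl_map` twice; `x a b _` and `x (ng b) b _` commute (`S.comm`); `S.add`, `x_zero`, and `-t - t = t` from `h3`. -/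
theorem W3_map (h : IsCE σ) (h3 : (3 : K) = 0) {a b : ι ⊕ ι} (hab : ab a ≠ ab b) (t : K) :
    σ (W3 S h a b t) = S.x a b t := by
  obtain ⟨h1, h2⟩ := cecl10_ne_of_ab hab
  have hc : ∀ s r : K, S.x a b s * S.x (ng b) b r = S.x (ng b) b r * S.x a b s :=
    S.comm a b (ng b) b h1 (ng_ne b) (ne_ng b) h1 (ne_ng b) (by rw [ng_ng]; exact h1)
  unfold W3
  rw [map_mul, cecl10_Zl_map h hab, cecl10_Zl_map h hab]
  have e : ∀ p q p' q' : K, S.x a b p * S.x (ng b) b q * (S.x a b p' * S.x (ng b) b q') =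
      S.x a b (p + p') * S.x (ng b) b (q + q') := by
    intro p q p' q'
    calc S.x a b p * S.x (ng b) b q * (S.x a b p' * S.x (ng b) b q')
        = S.x a b p * (S.x (ng b) b q * S.x a b p') * S.x (ng b) b q' := by group
      _ = S.x a b p * (S.x a b p' * S.x (ng b) b q) * S.x (ng b) b q' := by rw [hc]
      _ = (S.x a b p * S.x a b p') * (S.x (ng b) b q * S.x (ng b) b q') := by group
      _ = S.x a b (p + p') * S.x (ng b) b (q + q') := by rw [S.add a b h1, S.add (ng b) b (ng_ne b)]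
  rw [e]
  have e1 : -t * 1 + t * -1 = t := by linear_combination (-t) * h3
  have e2 : sg a * sg b * -t * 1 ^ 2 + sg a * sg b * t * (-1) ^ 2 = (0 : K) := by ring
  rw [e1, e2, S.x_zero, mul_one]

end Z

end Cfsg.Agent.Lib.helper7.CEC
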