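import Mathlib
import Cfsg.Agent.Lib.Helper1.MinNormal

set_option autoImplicit false

namespace Cfsg.Agent.Lib.helper4

open Subgroup

section core

variable {G : Type*} [Group G]

theorem normal_of_normalizer_sup {K A B : Subgroup G} (hA : A ≤ Subgroup.normalizer (K : Set G))
    (hB : B ≤ Subgroup.normalizer (K : Set G)) (h : A ⊔ B = ⊤) : K.Normal := by
  rw [← Subgroup.normalizer_eq_top_iff, eq_top_iff, ← h]
  exact sup_le hA hB

theorem le_normalizer_of_comm {K M : Subgroup G} (hM : IsMulCommutative M) (hK : K ≤ M) :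
    M ≤ Subgroup.normalizer (K : Set G) := by
  intro m hm
  rw [Subgroup.mem_normalizer_iff]
  intro k
  have hcomm := (Cfsg.Agent.Lib.Helper1.isMulCommutative_subgroup_iff M).mp hM
  constructor
  · intro hk
    have : m * k * m⁻¹ = k := by
      rw [hcomm m hm k (hK hk)]
      group
    rw [this]; exact hk
  · intro hk
    have hk' : m * k * m⁻¹ ∈ M := hK hk
    have hkM : k ∈ M := by
      have := M.mul_mem (M.mul_mem (M.inv_mem hm) hk') hm
      convert this using 1
      group
    have : m * k * m⁻¹ = k := by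
      rw [hcomm m hm k hkM]
      group
    rw [this] at hk; exact hk

/-- a core-free maximal subgroup and a minimal normal subgroup: `M ⊔ U = ⊤`. -/
theorem sup_eq_top_of_corefree (U : Subgroup G) (hU : IsCoatom U) (hcore : U.normalCore = ⊥)
    (M : Subgroup G) [hMn : M.Normal] (hM : M ≠ ⊥) : M ⊔ U = ⊤ := by
  by_contra hne
  have hle : M ≤ U := by
    have h1 : U ≤ M ⊔ U := le_sup_right
    rcases eq_or_lt_of_le h1 with h | h
    · rw [h]; exact le_sup_left
    · exact absurd (hU.2 _ h) hne
  have : M ≤ U.normalCore := Subgroup.normal_le_normalCore.mpr hle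
  rw [hcore] at this
  exact hM (le_bot_iff.mp this)

/-- `U ⊓ C_G(M) = ⊥`. -/
theorem inf_centralizer_eq_bot (U : Subgroup G) (hU : IsCoatom U) (hcore : U.normalCore = ⊥)
    (M : Subgroup G) [hMn : M.Normal] (hM : M ≠ ⊥) :
    U ⊓ Subgroup.centralizer (M : Set G) = ⊥ := by
  have hsup := sup_eq_top_of_corefree U hU hcore M hM
  haveI hCn : (Subgroup.centralizer (M : Set G)).Normal := Subgroup.normal_centralizer (H := M)
  have hD : (U ⊓ Subgroup.centralizer (M : Set G)).Normal := by
    apply normal_of_normalizer_sup (A := M) (B := U) _ _ hsup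
    · intro m hm
      rw [Subgroup.mem_normalizer_iff]
      intro d
      have key : ∀ d ∈ Subgroup.centralizer (M : Set G), m * d * m⁻¹ = d := by
        intro d hd
        have := (Subgroup.mem_centralizer_iff.mp hd) m hm
        rw [this]; group
      constructor
      · intro hd
        rw [key d hd.2]; exact hd
      · intro hd
        have hdC : d ∈ Subgroup.centralizer (M : Set G) := by
          have := hCn.conj_mem _ hd.2 m⁻¹
          convert this using 1
          group
        rw [key d hdC] at hd; exact hd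
    · intro u hu
      rw [Subgroup.mem_normalizer_iff]
      intro d
      constructor
      · intro hd
        exact ⟨U.mul_mem (U.mul_mem hu hd.1) (U.inv_mem hu), hCn.conj_mem _ hd.2 u⟩
      · intro hd
        have h1 : d = u⁻¹ * (u * d * u⁻¹) * u⁻¹⁻¹ := by group
        rw [h1]
        exact ⟨U.mul_mem (U.mul_mem (U.inv_mem hu) hd.1) (U.inv_mem (U.inv_mem hu)),
          hCn.conj_mem _ hd.2 u⁻¹⟩
  have : U ⊓ Subgroup.centralizer (M : Set G) ≤ U.normalCore :=
    Subgroup.normal_le_normalCore.mpr inf_le_left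
  rw [hcore] at this
  exact le_bot_iff.mp this

/-- subgroups of an abelian minimal normal subgroup normalized by `U` are trivial. -/
theorem eq_bot_or_eq_of_normalized (U : Subgroup G) (hU : IsCoatom U) (hcore : U.normalCore = ⊥)
    (M : Subgroup G) [hMn : M.Normal] (hM : M ≠ ⊥) (hMc : IsMulCommutative M)
    (hmin : ∀ K : Subgroup G, K.Normal → K ≤ M → K = ⊥ ∨ K = M)
    (K : Subgroup G) (hKM : K ≤ M) (hKU : U ≤ Subgroup.normalizer (K : Set G)) :
    K = ⊥ ∨ K = M := by
  have hsup := sup_eq_top_of_corefree U hU hcore M hM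
  have hKn : K.Normal := normal_of_normalizer_sup (le_normalizer_of_comm hMc hKM) hKU hsup
  exact hmin K hKn hKM

theorem inf_eq_bot_of_corefree (U : Subgroup G) (hU : IsCoatom U) (hcore : U.normalCore = ⊥)
    (M : Subgroup G) [hMn : M.Normal] (hM : M ≠ ⊥) (hMc : IsMulCommutative M)
    (hmin : ∀ K : Subgroup G, K.Normal → K ≤ M → K = ⊥ ∨ K = M) : M ⊓ U = ⊥ := by
  have hsup := sup_eq_top_of_corefree U hU hcore M hM
  have h1 : U ≤ Subgroup.normalizer ((M ⊓ U : Subgroup G) : Set G) := by
    intro u hu
    rw [Subgroup.mem_normalizer_iff]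
    intro d
    constructor
    · intro hd
      exact ⟨hMn.conj_mem _ hd.1 u, U.mul_mem (U.mul_mem hu hd.2) (U.inv_mem hu)⟩
    · intro hd
      have h1 : d = u⁻¹ * (u * d * u⁻¹) * u⁻¹⁻¹ := by group
      rw [h1]
      exact ⟨hMn.conj_mem _ hd.1 u⁻¹,
        U.mul_mem (U.mul_mem (U.inv_mem hu) hd.2) (U.inv_mem (U.inv_mem hu))⟩
  rcases eq_bot_or_eq_of_normalized U hU hcore M hM hMc hmin (M ⊓ U) inf_le_left h1 with h | h
  · exact h
  · exfalso
    have hle : M ≤ U := by rw [← h]; exact inf_le_right
    have : M ≤ U.normalCore := Subgroup.normal_le_normalCore.mpr hle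
    rw [hcore] at this
    exact hM (le_bot_iff.mp this)

theorem isComplement'_of_corefree (U : Subgroup G) (hU : IsCoatom U) (hcore : U.normalCore = ⊥)
    (M : Subgroup G) [hMn : M.Normal] (hM : M ≠ ⊥) (hMc : IsMulCommutative M)
    (hmin : ∀ K : Subgroup G, K.Normal → K ≤ M → K = ⊥ ∨ K = M) :
    Subgroup.IsComplement' M U := by
  apply Subgroup.isComplement'_of_disjoint_and_mul_eq_univ
  · rw [disjoint_iff]
    exact inf_eq_bot_of_corefree U hU hcore M hM hMc hmin
  · rw [← Subgroup.normal_mul, sup_eq_top_of_corefree U hU hcore M hM]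
    rfl

end core

end Cfsg.Agent.Lib.helper4
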