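import Mathlib
import Cfsg.Agent.Lib.Helper20.Wielandt

set_option autoImplicit false

namespace Cfsg.Agent.Lib.helper4

open Subgroup
open Pointwise

universe u

theorem conj_smul_eq_map' {G : Type*} [Group G] (g : G) (H : Subgroup G) :
    MulAut.conj g • H = H.map (MulAut.conj g).toMonoidHom := rfl

theorem conj_smul_sSup_le {G : Type*} [Group G] (T : Set (Subgroup G)) (g : G)
    (h : ∀ U ∈ T, MulAut.conj g • U ∈ T) : MulAut.conj g • sSup T ≤ sSup T := by
  rw [conj_smul_eq_map', (Subgroup.gc_map_comap _).l_sSup]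
  refine iSup₂_le fun U hU => ?_
  exact le_sSup (h U hU)

theorem normal_sSup_of_conj_closed {G : Type*} [Group G] (T : Set (Subgroup G))
    (h : ∀ U ∈ T, ∀ g : G, MulAut.conj g • U ∈ T) : (sSup T).Normal := by
  constructor
  intro n hn g
  have h1 := conj_smul_sSup_le T g (fun U hU => h U hU g)
  apply h1
  have h2 := Subgroup.smul_mem_pointwise_smul n (MulAut.conj g) (sSup T) hn
  rwa [MulAut.smul_def, MulAut.conj_apply] at h2

theorem map_subtype_conj_smul {G : Type*} [Group G] (N : Subgroup G) (V : Subgroup N) (g : N) :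
    (MulAut.conj g • V).map N.subtype = MulAut.conj (g : G) • (V.map N.subtype) := by
  rw [conj_smul_eq_map', conj_smul_eq_map', Subgroup.map_map, Subgroup.map_map]
  congr 1

theorem map_subtype_sSup {G : Type*} [Group G] (N : Subgroup G) (S₀ : Set (Subgroup G))
    (hle : ∀ U ∈ S₀, U ≤ N) :
    (sSup {V : Subgroup N | V.map N.subtype ∈ S₀}).map N.subtype = sSup S₀ := by
  rw [(Subgroup.gc_map_comap _).l_sSup]
  apply le_antisymm
  · refine iSup₂_le fun V hV => ?_
    exact le_sSup hV
  · refine sSup_le fun U hU => ?_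
    have h1 : (U.subgroupOf N).map N.subtype = U := Subgroup.map_subgroupOf_eq_of_le (hle U hU)
    have h2 : U.subgroupOf N ∈ {V : Subgroup N | V.map N.subtype ∈ S₀} := by
      show (U.subgroupOf N).map N.subtype ∈ S₀
      rw [h1]; exact hU
    calc U = (U.subgroupOf N).map N.subtype := h1.symm
      _ ≤ _ := le_iSup₂ (f := fun (V : Subgroup N) (_ : V ∈ {V : Subgroup N | V.map N.subtype ∈ S₀}) =>
          V.map N.subtype) (U.subgroupOf N) h2

theorem wielandt_family_aux (n : ℕ) : ∀ (G : Type u) [Group G] [Finite G], Nat.card G = n →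
    ∀ (S S₀ : Set (Subgroup G)), (∀ U ∈ S, U.IsSubnormal) →
    (∀ U ∈ S, ∀ g : G, MulAut.conj g • U ∈ S) → S₀ ⊂ S →
    ∃ X ∈ S, X ∉ S₀ ∧ X ≤ Subgroup.normalizer ((sSup S₀ : Subgroup G) : Set G) := by
  induction n using Nat.strong_induction_on with
  | _ n ih =>
  intro G _ _ hn S S₀ hS hconj h₀
  obtain ⟨X₀, hX₀S, hX₀⟩ := Set.exists_of_ssubset h₀
  by_cases htop : sSup S₀ = ⊤
  · refine ⟨X₀, hX₀S, hX₀, ?_⟩
    rw [htop]
    haveI : (⊤ : Subgroup G).Normal := inferInstance
    rw [Subgroup.normalizer_eq_top]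
    exact le_top
  · have hG₀sn : (sSup S₀).IsSubnormal :=
      Cfsg.Agent.Lib.Helper20.isSubnormal_sSup S₀ (fun H hH => hS H (h₀.subset hH))
    obtain ⟨N, hNn, hG₀N, hNtop⟩ := hG₀sn.exists_normal_and_le_and_lt_top_of_ne htop
    by_cases hS₁ : ∀ U ∈ S, U ≤ N → U ∈ S₀
    · have hcl : ∀ U ∈ S₀, ∀ g : G, MulAut.conj g • U ∈ S₀ := by
        intro U hU g
        apply hS₁ _ (hconj U (h₀.subset hU) g)
        have hUN : U ≤ N := (le_sSup hU).trans hG₀N
        rintro _ ⟨x, hx, rfl⟩
        exact hNn.conj_mem x (hUN hx) g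
      haveI : (sSup S₀).Normal := normal_sSup_of_conj_closed S₀ hcl
      refine ⟨X₀, hX₀S, hX₀, ?_⟩
      rw [Subgroup.normalizer_eq_top]
      exact le_top
    · push Not at hS₁
      obtain ⟨U₁, hU₁S, hU₁N, hU₁⟩ := hS₁
      have hcard : Nat.card N < n := by
        rw [← hn]
        refine lt_of_le_of_ne (Subgroup.card_le_card_group N) ?_
        intro h
        exact hNtop.ne ((Subgroup.card_eq_iff_eq_top N).mp h)
      have hle₀ : ∀ U ∈ S₀, U ≤ N := fun U hU => (le_sSup hU).trans hG₀N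
      obtain ⟨X', hX'S, hX'0, hX'n⟩ := ih (Nat.card N) hcard N rfl
        {V : Subgroup N | V.map N.subtype ∈ S} {V : Subgroup N | V.map N.subtype ∈ S₀}
        (by
          intro V hV
          have h := (hS _ hV).subgroupOf (K := N)
          rwa [Subgroup.subgroupOf, Subgroup.comap_map_eq_self_of_injective N.subtype_injective] at h)
        (by
          intro V hV g
          show (MulAut.conj g • V).map N.subtype ∈ S
          rw [map_subtype_conj_smul]
          exact hconj _ hV _)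
        (by
          rw [Set.ssubset_def]
          refine ⟨fun V hV => h₀.subset hV, fun hrev => ?_⟩
          have h1 : (U₁.subgroupOf N).map N.subtype = U₁ := Subgroup.map_subgroupOf_eq_of_le hU₁N
          have h2 : U₁.subgroupOf N ∈ {V : Subgroup N | V.map N.subtype ∈ S} := by
            show (U₁.subgroupOf N).map N.subtype ∈ S
            rw [h1]; exact hU₁S
          have h3 := hrev h2
          change (U₁.subgroupOf N).map N.subtype ∈ S₀ at h3
          rw [h1] at h3
          exact hU₁ h3)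
      refine ⟨X'.map N.subtype, hX'S, hX'0, ?_⟩
      apply Cfsg.Agent.Lib.Helper20.le_normalizer_of_conj_mem'
      rintro _ ⟨k', hk', rfl⟩ y hy
      rw [← map_subtype_sSup N S₀ hle₀] at hy ⊢
      obtain ⟨y', hy', rfl⟩ := hy
      have := Cfsg.Agent.Lib.Helper20.conj_mem_of_le_normalizer' hX'n hk' hy'
      exact ⟨_, this, rfl⟩

theorem wielandt_family {G : Type u} [Group G] [Finite G] (S S₀ : Set (Subgroup G))
    (hS : ∀ U ∈ S, U.IsSubnormal) (hconj : ∀ U ∈ S, ∀ g : G, MulAut.conj g • U ∈ S)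
    (h₀ : S₀ ⊂ S) :
    ∃ X ∈ S, X ∉ S₀ ∧ X ≤ Subgroup.normalizer ((sSup S₀ : Subgroup G) : Set G) :=
  wielandt_family_aux _ G rfl S S₀ hS hconj h₀

end Cfsg.Agent.Lib.helper4
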