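import Mathlib
import Cfsg.Agent.Lib.helper4.PrimSolv
import Cfsg.Agent.Lib.helper4.WielandtFamily
import Cfsg.Agent.Lib.Helper1.Nilp

set_option autoImplicit false

namespace Cfsg.Agent.Lib.helper4

open Subgroup
open Pointwise

universe u

section

variable {G : Type u} [Group G]

theorem normalizer_conj_smul (H : Subgroup G) (x : G) :
    Subgroup.normalizer ((MulAut.conj x • H : Subgroup G) : Set G)
      = MulAut.conj x • Subgroup.normalizer (H : Set G) := by
  rw [conj_smul_eq_map', conj_smul_eq_map']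
  exact (Subgroup.map_equiv_normalizer_eq H (MulAut.conj x)).symm

/-- `N_G(U ∩ L) = U` for `U` core-free maximal and `L` normal with `U ∩ L ≠ 1`. -/
theorem normalizer_inf_eq_of_corefree (U : Subgroup G) (hU : IsCoatom U)
    (hcore : U.normalCore = ⊥) (L : Subgroup G) [hLn : L.Normal] (hne : U ⊓ L ≠ ⊥) :
    Subgroup.normalizer ((U ⊓ L : Subgroup G) : Set G) = U := by
  have h1 : U ≤ Subgroup.normalizer ((U ⊓ L : Subgroup G) : Set G) := by
    intro u hu
    rw [Subgroup.mem_normalizer_iff]
    intro d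
    constructor
    · intro hd
      exact ⟨U.mul_mem (U.mul_mem hu hd.1) (U.inv_mem hu), hLn.conj_mem _ hd.2 u⟩
    · intro hd
      have h1 : d = u⁻¹ * (u * d * u⁻¹) * u⁻¹⁻¹ := by group
      rw [h1]
      exact ⟨U.mul_mem (U.mul_mem (U.inv_mem hu) hd.1) (U.inv_mem (U.inv_mem hu)),
        hLn.conj_mem _ hd.2 u⁻¹⟩
  rcases eq_or_lt_of_le h1 with h | h
  · exact h.symm
  · exfalso
    have htop := hU.2 _ h
    have hn : (U ⊓ L).Normal := Subgroup.normalizer_eq_top_iff.mp htop
    have : U ⊓ L ≤ U.normalCore := Subgroup.normal_le_normalCore.mpr inf_le_left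
    rw [hcore] at this
    exact hne (le_bot_iff.mp this)

end

theorem corefree_max_conj {G : Type u} [Group G] [Finite G] [Group.IsSolvable G]
    (U V : Subgroup G) (hU : IsCoatom U) (hV : IsCoatom V) (hUc : U.normalCore = ⊥)
    (hVc : V.normalCore = ⊥) : ∃ g : G, MulAut.conj g • U = V := by
  classical
  haveI : Nontrivial G := by
    haveI : Nontrivial (Subgroup G) := ⟨⟨U, ⊤, hU.1⟩⟩
    exact Subgroup.nontrivial_iff.mp inferInstance
  obtain ⟨N, hNn, hNne, hNmin⟩ := Cfsg.Agent.Lib.Helper1.exists_minimal_normal (G := G)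
  obtain ⟨hNc, p, hp, hNexp⟩ := Cfsg.Agent.Lib.Helper1.minimal_normal_of_solvable N hNne hNmin
  have hNcomm := (Cfsg.Agent.Lib.Helper1.isMulCommutative_subgroup_iff N).mp hNc
  have hNU : N ⊓ U = ⊥ := inf_eq_bot_of_corefree U hU hUc N hNne hNc hNmin
  have hNV : N ⊓ V = ⊥ := inf_eq_bot_of_corefree V hV hVc N hNne hNc hNmin
  have hsupU : N ⊔ U = ⊤ := sup_eq_top_of_corefree U hU hUc N hNne
  have hsupV : N ⊔ V = ⊤ := sup_eq_top_of_corefree V hV hVc N hNne
  have hdecomp : ∀ (W : Subgroup G), N ⊔ W = ⊤ → ∀ g : G, ∃ n ∈ N, ∃ w ∈ W, g = n * w := by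
    intro W hW g
    have h1 : g ∈ (N ⊔ W : Subgroup G) := by rw [hW]; exact Subgroup.mem_top g
    rw [← SetLike.mem_coe, Subgroup.normal_mul] at h1
    obtain ⟨n, hn, w, hw, rfl⟩ := Set.mem_mul.mp h1
    exact ⟨n, hn, w, hw, rfl⟩
  -- C(N) ≤ N
  have hCN : Subgroup.centralizer (N : Set G) ≤ N := by
    intro c hc
    obtain ⟨n, hn, u, hu, rfl⟩ := hdecomp U hsupU c
    have hnC : n ∈ Subgroup.centralizer (N : Set G) := by
      rw [Subgroup.mem_centralizer_iff]
      intro m hm
      exact hNcomm m hm n hn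
    have hu' : u ∈ U ⊓ Subgroup.centralizer (N : Set G) := by
      refine ⟨hu, ?_⟩
      have : u = n⁻¹ * (n * u) := by group
      rw [this]
      exact Subgroup.mul_mem _ (Subgroup.inv_mem _ hnC) hc
    rw [inf_centralizer_eq_bot U hU hUc N hNne, Subgroup.mem_bot] at hu'
    rw [hu', mul_one]
    exact hn
  by_cases hNtop : N = ⊤
  · refine ⟨1, ?_⟩
    rw [hNtop, top_inf_eq] at hNU hNV
    rw [hNU, hNV, map_one, one_smul]
  · -- minimal normal subgroup of the quotient
    haveI : Nontrivial (G ⧸ N) := by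
      obtain ⟨g, hg⟩ : ∃ g, g ∉ N := by
        by_contra h
        push Not at h
        exact hNtop (eq_top_iff.mpr fun x _ => h x)
      exact ⟨⟨QuotientGroup.mk' N g, 1, fun h => hg ((QuotientGroup.eq_one_iff g).mp h)⟩⟩
    obtain ⟨Lb, hLbn, hLbne, hLbmin⟩ := Cfsg.Agent.Lib.Helper1.exists_minimal_normal (G := G ⧸ N)
    obtain ⟨-, r, hr, hLbexp⟩ :=
      Cfsg.Agent.Lib.Helper1.minimal_normal_of_solvable Lb hLbne hLbmin
    set L : Subgroup G := Lb.comap (QuotientGroup.mk' N) with hLdef
    haveI hLn : L.Normal := by rw [hLdef]; infer_instance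
    have hNL : N ≤ L := by
      intro n hn
      show QuotientGroup.mk' N n ∈ Lb
      rw [QuotientGroup.mk'_apply, (QuotientGroup.eq_one_iff n).mpr hn]
      exact Lb.one_mem
    have hLpow : ∀ x ∈ L, x ^ r ∈ N := by
      intro x hx
      have h1 : (QuotientGroup.mk' N x) ^ r = 1 := hLbexp _ hx
      rw [← map_pow, QuotientGroup.mk'_apply, QuotientGroup.eq_one_iff] at h1
      exact h1
    obtain ⟨l, hlL, hlN⟩ : ∃ l ∈ L, l ∉ N := by
      obtain ⟨y, hy⟩ := (Subgroup.ne_bot_iff_exists_ne_one (H := Lb)).mp hLbne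
      obtain ⟨x, hx⟩ := QuotientGroup.mk'_surjective N (y : G ⧸ N)
      refine ⟨x, ?_, ?_⟩
      · show QuotientGroup.mk' N x ∈ Lb
        rw [hx]; exact y.2
      · intro hxN
        apply hy
        apply Subtype.ext
        rw [← hx, QuotientGroup.mk'_apply, (QuotientGroup.eq_one_iff x).mpr hxN]
        rfl
    -- r ≠ p
    have hrp : r ≠ p := by
      intro hrp
      haveI : Fact p.Prime := ⟨hp⟩
      have hLp : IsPGroup p L := by
        intro x
        refine ⟨2, ?_⟩
        apply Subtype.ext
        rw [Subgroup.coe_pow, pow_two, pow_mul]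
        have := hNexp _ (hLpow x x.2)
        rw [hrp] at this
        exact this
      haveI : Group.IsNilpotent L := hLp.isNilpotent
      haveI : (N.subgroupOf L).Normal := inferInstance
      have hN'ne : N.subgroupOf L ≠ ⊥ := by
        intro h
        rw [Subgroup.subgroupOf_eq_bot, disjoint_iff, inf_eq_left.mpr hNL] at h
        exact hNne h
      have hz := Cfsg.Agent.Lib.Helper1.normal_inf_center_ne_bot (N.subgroupOf L) hN'ne
      obtain ⟨z, hz1⟩ := (Subgroup.ne_bot_iff_exists_ne_one).mp hz
      have hzN : ((z : L) : G) ∈ N := z.2.1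
      have hzC : ((z : L) : G) ∈ Subgroup.centralizer (L : Set G) := by
        rw [Subgroup.mem_centralizer_iff]
        intro y hy
        have := (Subgroup.mem_center_iff.mp z.2.2) ⟨y, hy⟩
        exact congrArg Subtype.val this
      haveI : (Subgroup.centralizer (L : Set G)).Normal := Subgroup.normal_centralizer (H := L)
      have hZn : (N ⊓ Subgroup.centralizer (L : Set G)).Normal := inferInstance
      have hZne : N ⊓ Subgroup.centralizer (L : Set G) ≠ ⊥ := by
        intro h
        have hmem : ((z : L) : G) ∈ N ⊓ Subgroup.centralizer (L : Set G) := ⟨hzN, hzC⟩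
        rw [h, Subgroup.mem_bot] at hmem
        apply hz1
        apply Subtype.ext
        apply Subtype.ext
        exact hmem
      rcases hNmin _ hZn inf_le_left with h | h
      · exact hZne h
      · have hNCL : N ≤ Subgroup.centralizer (L : Set G) := by rw [← h]; exact inf_le_right
        have hLCN : L ≤ Subgroup.centralizer (N : Set G) := by
          intro x hx
          rw [Subgroup.mem_centralizer_iff]
          intro n hn
          exact ((Subgroup.mem_centralizer_iff.mp (hNCL hn)) x hx).symm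
        exact hlN (hCN (hLCN hlL))
    haveI : Fact r.Prime := ⟨hr⟩
    -- Sylow subgroups of L
    have sylow_data : ∀ (W : Subgroup G), N ⊓ W = ⊥ → N ⊔ W = ⊤ →
        ∃ P : Sylow r L, (P : Subgroup L) = W.subgroupOf L := by
      intro W hNW hsupW
      have hpg : IsPGroup r (W.subgroupOf L) := by
        intro x
        refine ⟨1, ?_⟩
        rw [pow_one]
        apply Subtype.ext
        apply Subtype.ext
        have hxL : ((x : L) : G) ∈ L := (x : L).2
        have hxW : ((x : L) : G) ∈ W := x.2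
        have h1 : ((x : L) : G) ^ r ∈ N ⊓ W := ⟨hLpow _ hxL, W.pow_mem hxW r⟩
        rw [hNW, Subgroup.mem_bot] at h1
        simpa using h1
      have hcomp : Subgroup.IsComplement' (N.subgroupOf L) (W.subgroupOf L) := by
        apply Subgroup.isComplement'_of_disjoint_and_mul_eq_univ
        · rw [disjoint_iff, eq_bot_iff]
          intro y hy
          have h1 : (y : G) ∈ N ⊓ W := ⟨hy.1, hy.2⟩
          rw [hNW, Subgroup.mem_bot] at h1
          rw [Subgroup.mem_bot]
          exact Subtype.ext h1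
        · rw [Set.eq_univ_iff_forall]
          intro y
          obtain ⟨n, hn, w, hw, hy⟩ := hdecomp W hsupW (y : G)
          have hwL : w ∈ L := by
            have : w = n⁻¹ * (y : G) := by rw [hy]; group
            rw [this]
            exact L.mul_mem (L.inv_mem (hNL hn)) y.2
          refine Set.mem_mul.mpr ⟨⟨n, hNL hn⟩, hn, ⟨w, hwL⟩, hw, ?_⟩
          apply Subtype.ext
          exact hy.symm
      have hidx : ¬ r ∣ (W.subgroupOf L).index := by
        rw [hcomp.index_eq_card]
        have hNp : IsPGroup p (N.subgroupOf L) := by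
          intro x
          refine ⟨1, ?_⟩
          rw [pow_one]
          apply Subtype.ext
          apply Subtype.ext
          have := hNexp _ (x.2 : ((x : L) : G) ∈ N)
          simpa using this
        haveI : Fact p.Prime := ⟨hp⟩
        obtain ⟨a, ha⟩ := IsPGroup.iff_card.mp hNp
        rw [ha]
        intro hdvd
        have := (Nat.prime_dvd_prime_iff_eq hr hp).mp (hr.dvd_of_dvd_pow hdvd)
        exact hrp this
      exact ⟨hpg.toSylow hidx, rfl⟩
    obtain ⟨P₁, hP₁⟩ := sylow_data U hNU hsupU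
    obtain ⟨P₂, hP₂⟩ := sylow_data V hNV hsupV
    obtain ⟨x, hx⟩ := MulAction.exists_smul_eq L P₁ P₂
    have hx' : MulAut.conj x • (U.subgroupOf L) = V.subgroupOf L := by
      rw [← hP₁, ← hP₂, ← hx, Sylow.coe_subgroup_smul]
    have hconj : MulAut.conj (x : G) • (U ⊓ L) = V ⊓ L := by
      rw [← Subgroup.subgroupOf_map_subtype U L, ← Subgroup.subgroupOf_map_subtype V L,
        ← map_subtype_conj_smul, hx']
    -- U ⊓ L ≠ ⊥
    have hne : ∀ (W : Subgroup G), N ⊔ W = ⊤ → W ⊓ L ≠ ⊥ := by
      intro W hsupW h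
      obtain ⟨n, hn, w, hw, hl⟩ := hdecomp W hsupW l
      have hwL : w ∈ L := by
        have : w = n⁻¹ * l := by rw [hl]; group
        rw [this]
        exact L.mul_mem (L.inv_mem (hNL hn)) hlL
      have hmem : w ∈ W ⊓ L := ⟨hw, hwL⟩
      rw [h, Subgroup.mem_bot] at hmem
      apply hlN
      rw [hl, hmem, mul_one]
      exact hn
    refine ⟨(x : G), ?_⟩
    rw [← normalizer_inf_eq_of_corefree U hU hUc L (hne U hsupU),
      ← normalizer_conj_smul, hconj,
      normalizer_inf_eq_of_corefree V hV hVc L (hne V hsupV)]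

end Cfsg.Agent.Lib.helper4
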