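import Mathlib
import Cfsg.Prelude.Def_SolvableStructure
import Cfsg.Agent.Lib.Helper1.SylowSystem
import Cfsg.Agent.Lib.Helper1.Hall

set_option autoImplicit false

namespace Cfsg.Agent.Lib.helper4

open Cfsg Subgroup
open scoped Pointwise

theorem mem_normalizer_iff_smul {G : Type*} [Group G] (g : G) (H : Subgroup G) :
    g ∈ normalizer (H : Set G) ↔ MulAut.conj g • H = H :=
  mem_normalizer_iff_map_conj_eq

/-- subgroups of coprime index: every element is a product -/
theorem exists_mul_of_coprime_index {Γ : Type*} [Group Γ] [Finite Γ] (D E : Subgroup Γ)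
    (h : D.index.Coprime E.index) (x : Γ) : ∃ d ∈ D, ∃ y ∈ E, x = d * y := by
  have h1 := Cfsg.Agent.Lib.Helper1.index_inf_of_coprime D E h
  have h2 : (D ⊓ E).index = E.relIndex D * D.index := by
    rw [← Subgroup.inf_relIndex_left, inf_comm]
    exact (Subgroup.relIndex_mul_index inf_le_right).symm
  have h3 : E.relIndex D = E.index := by
    have hpos : 0 < D.index := Nat.pos_of_ne_zero Subgroup.index_ne_zero_of_finite
    have : E.relIndex D * D.index = E.index * D.index := by rw [← h2, h1, mul_comm]
    exact Nat.eq_of_mul_eq_mul_right hpos this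
  have hstab : MulAction.stabilizer D ((1 : Γ) : Γ ⧸ E) = E.subgroupOf D := by
    ext d
    rw [MulAction.mem_stabilizer_iff, Subgroup.mem_subgroupOf]
    change ((((d : Γ) * 1 : Γ)) : Γ ⧸ E) = ((1 : Γ) : Γ ⧸ E) ↔ _
    rw [mul_one, QuotientGroup.eq, mul_one, inv_mem_iff]
  have horb : MulAction.orbit D ((1 : Γ) : Γ ⧸ E) = Set.univ := by
    rw [Set.eq_univ_iff_ncard, ← MulAction.index_stabilizer, hstab]
    change E.relIndex D = _
    rw [h3, Subgroup.index_eq_card]
  have hx : ((x : Γ) : Γ ⧸ E) ∈ MulAction.orbit D ((1 : Γ) : Γ ⧸ E) := by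
    rw [horb]; exact Set.mem_univ _
  obtain ⟨d, hd⟩ := hx
  have hd' : ((((d : Γ) * 1 : Γ)) : Γ ⧸ E) = ((x : Γ) : Γ ⧸ E) := hd
  rw [mul_one, QuotientGroup.eq] at hd'
  exact ⟨d, d.2, _, hd', by rw [mul_inv_cancel_left]⟩

/-- index of a finite intersection of subgroups with pairwise coprime indices -/
theorem index_finset_inf_coprime {Γ ι : Type*} [Group Γ] [Finite Γ] [DecidableEq ι]
    (T : Finset ι) (H : ι → Subgroup Γ) (f : ι → ℕ)
    (hf : ∀ i ∈ T, (H i).index = f i)
    (hcop : ∀ i ∈ T, ∀ j ∈ T, i ≠ j → (f i).Coprime (f j)) :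
    (T.inf H).index = ∏ i ∈ T, f i := by
  induction T using Finset.induction_on with
  | empty => simp
  | insert q T hq ih =>
    have ih' := ih (fun i hi => hf i (Finset.mem_insert_of_mem hi))
      (fun i hi j hj hij => hcop i (Finset.mem_insert_of_mem hi) j (Finset.mem_insert_of_mem hj) hij)
    rw [Finset.inf_insert, Finset.prod_insert hq]
    have hc : (H q).index.Coprime (T.inf H).index := by
      rw [ih', hf q (Finset.mem_insert_self q T)]
      apply Nat.Coprime.prod_right
      intro j hj
      apply hcop q (Finset.mem_insert_self q T) j (Finset.mem_insert_of_mem hj)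
      rintro rfl
      exact hq hj
    rw [Cfsg.Agent.Lib.Helper1.index_inf_of_coprime _ _ hc, ih', hf q (Finset.mem_insert_self q T)]

theorem index_stabilizer_smul {Γ X : Type*} [Group Γ] [MulAction Γ X] (γ : Γ) (x : X) :
    (MulAction.stabilizer Γ (γ • x)).index = (MulAction.stabilizer Γ x).index := by
  rw [MulAction.index_stabilizer, MulAction.index_stabilizer, MulAction.orbit_smul]

/-- simultaneous transitivity for actions with pairwise coprime orbit lengths -/
theorem simul_orbit {Γ X ι : Type*} [Group Γ] [Finite Γ] [MulAction Γ X] [DecidableEq ι]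
    (T : Finset ι) (x y : ι → X) (f : ι → ℕ)
    (hf : ∀ i ∈ T, (MulAction.stabilizer Γ (x i)).index = f i)
    (hcop : ∀ i ∈ T, ∀ j ∈ T, i ≠ j → (f i).Coprime (f j))
    (hxy : ∀ i ∈ T, ∃ γ : Γ, γ • x i = y i) :
    ∃ γ : Γ, ∀ i ∈ T, γ • x i = y i := by
  induction T using Finset.induction_on with
  | empty => exact ⟨1, fun i hi => absurd hi (Finset.notMem_empty i)⟩
  | insert q T hq ih =>
    obtain ⟨γ₀, hγ₀⟩ := ih (fun i hi => hf i (Finset.mem_insert_of_mem hi))
      (fun i hi j hj hij => hcop i (Finset.mem_insert_of_mem hi) j (Finset.mem_insert_of_mem hj) hij)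
      (fun i hi => hxy i (Finset.mem_insert_of_mem hi))
    obtain ⟨γ₁, hγ₁⟩ := hxy q (Finset.mem_insert_self q T)
    set D : Subgroup Γ := T.inf (fun i => MulAction.stabilizer Γ (y i)) with hD
    set E : Subgroup Γ := MulAction.stabilizer Γ (γ₀ • x q) with hE
    have hDi : D.index = ∏ i ∈ T, f i := by
      apply index_finset_inf_coprime T _ f
      · intro i hi
        rw [← hγ₀ i hi, index_stabilizer_smul]
        exact hf i (Finset.mem_insert_of_mem hi)
      · exact fun i hi j hj hij =>
          hcop i (Finset.mem_insert_of_mem hi) j (Finset.mem_insert_of_mem hj) hij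
    have hEi : E.index = f q := by
      rw [hE, index_stabilizer_smul]
      exact hf q (Finset.mem_insert_self q T)
    have hc : D.index.Coprime E.index := by
      rw [hDi, hEi]
      apply Nat.Coprime.prod_left
      intro j hj
      apply hcop j (Finset.mem_insert_of_mem hj) q (Finset.mem_insert_self q T)
      rintro rfl
      exact hq hj
    obtain ⟨d, hd, e, he, hde⟩ := exists_mul_of_coprime_index D E hc (γ₁ * γ₀⁻¹)
    refine ⟨d * γ₀, ?_⟩
    intro i hi
    rcases Finset.mem_insert.mp hi with rfl | hi'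
    · have he' : e • (γ₀ • x i) = γ₀ • x i := MulAction.mem_stabilizer_iff.mp he
      have : γ₁ • x i = (d * e) • (γ₀ • x i) := by
        rw [← hde, ← mul_smul, inv_mul_cancel_right]
      rw [mul_smul, ← hγ₁, this, mul_smul, he']
    · rw [mul_smul, hγ₀ i hi']
      have : d ∈ MulAction.stabilizer Γ (y i) := by
        have := (Finset.inf_le hi' : D ≤ MulAction.stabilizer Γ (y i))
        exact this hd
      exact MulAction.mem_stabilizer_iff.mp this

end Cfsg.Agent.Lib.helper4
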