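import Mathlib
import Cfsg.Agent.Lib.helper4.HallSys
import Cfsg.Agent.Lib.helper8.SubgroupCard

set_option autoImplicit false

namespace Cfsg.Agent.Lib.helper4

open Cfsg Subgroup Cfsg.Agent.Lib.helper8
open scoped Pointwise

variable {G : Type*} [Group G]

theorem relIndex_dvd_index_of_normal_right [Finite G] (H N : Subgroup G) [N.Normal] :
    H.relIndex N ∣ H.index := by
  have e1 := h8_card_mul_relIndex (inf_le_left : H ⊓ N ≤ H)
  have e2 := h8_card_mul_relIndex (inf_le_right : H ⊓ N ≤ N)
  have e3 := h8_card_mul_relIndex (le_sup_right : N ≤ H ⊔ N)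
  have e4 := h8_card_mul_relIndex (le_sup_left : H ≤ H ⊔ N)
  rw [Subgroup.inf_relIndex_left] at e1
  rw [Subgroup.inf_relIndex_right] at e2
  rw [Subgroup.relIndex_sup_right] at e3
  have hpos : 0 < Nat.card H := Nat.card_pos
  have key : Nat.card H * H.relIndex (H ⊔ N) = Nat.card H * H.relIndex N := by
    rw [e4, ← e3, ← e2, ← e1]; ring
  have : H.relIndex (H ⊔ N) = H.relIndex N := Nat.eq_of_mul_eq_mul_left hpos key
  rw [← this]
  exact Subgroup.relIndex_dvd_index_of_le le_sup_left

/-- conjugation action of a subgroup on the subgroups of the ambient group -/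
@[reducible] def conjSubAction (N : Subgroup G) : MulAction N (Subgroup G) :=
  MulAction.compHom (Subgroup G) ((MulAut.conj : G →* MulAut G).comp N.subtype)

theorem conjSubAction_smul (N : Subgroup G) (n : N) (H : Subgroup G) :
    (conjSubAction N).smul n H = MulAut.conj (n : G) • H := rfl

theorem stabilizer_conj_index_dvd [Finite G] (N : Subgroup G) [N.Normal] (H : Subgroup G) :
    (@MulAction.stabilizer N (Subgroup G) _ (conjSubAction N) H).index ∣ H.index := by
  letI := conjSubAction N
  have hle : H.subgroupOf N ≤ MulAction.stabilizer N H := by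
    intro n hn
    rw [Subgroup.mem_subgroupOf] at hn
    rw [MulAction.mem_stabilizer_iff]
    exact Subgroup.conj_smul_eq_self_of_mem hn
  have h1 := Subgroup.index_dvd_of_le hle
  exact h1.trans (relIndex_dvd_index_of_normal_right H N)

theorem simul_conj [Finite G] (N : Subgroup G) [N.Normal] (K L : Nat.Primes → Subgroup G)
    (T : Finset Nat.Primes)
    (hidx : ∀ p ∈ T, ∃ a : ℕ, (K p).index = (p : ℕ) ^ a)
    (hconj : ∀ p ∈ T, ∃ n ∈ N, MulAut.conj n • K p = L p) :
    ∃ n ∈ N, ∀ p ∈ T, MulAut.conj n • K p = L p := by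
  letI := conjSubAction N
  have key := simul_orbit (Γ := N) (X := Subgroup G) T K L
    (fun p => (MulAction.stabilizer N (K p)).index) (fun _ _ => rfl) ?_ ?_
  · obtain ⟨n, hn⟩ := key
    exact ⟨(n : G), n.2, hn⟩
  · intro p hp q hq hpq
    obtain ⟨a, ha⟩ := hidx p hp
    obtain ⟨b, hb⟩ := hidx q hq
    have h1 := stabilizer_conj_index_dvd N (K p)
    have h2 := stabilizer_conj_index_dvd N (K q)
    rw [ha] at h1
    rw [hb] at h2
    have hc : ((p : ℕ) ^ a).Coprime ((q : ℕ) ^ b) := by
      apply Nat.Coprime.pow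
      rw [Nat.coprime_primes p.2 q.2]
      exact fun h => hpq (Subtype.ext h)
    exact Nat.Coprime.of_dvd h1 h2 hc
  · intro p hp
    obtain ⟨n, hn, h⟩ := hconj p hp
    exact ⟨⟨n, hn⟩, h⟩

end Cfsg.Agent.Lib.helper4
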