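import Mathlib
import Cfsg.Agent.Lib.helper4.HallSysB

set_option autoImplicit false

namespace Cfsg.Agent.Lib.helper4

open Cfsg Subgroup Cfsg.Agent.Lib.helper8
open scoped Pointwise

variable {G : Type*} [Group G]

/-- the primes dividing the group order, as a finset of `Nat.Primes` -/
noncomputable def primesOf (G : Type*) [Group G] : Finset Nat.Primes :=
  (Nat.card G).primeFactors.subtype Nat.Prime

theorem mem_primesOf [Finite G] (p : Nat.Primes) : p ∈ primesOf G ↔ (p : ℕ) ∣ Nat.card G := by
  have h : p ∈ primesOf G ↔ (p : ℕ) ∈ (Nat.card G).primeFactors :=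
    Finset.mem_subtype (p := Nat.Prime) (s := (Nat.card G).primeFactors) (a := p)
  rw [h, Nat.mem_primeFactors]
  constructor
  · exact fun h => h.2.1
  · exact fun h => ⟨p.2, h, Nat.card_pos.ne'⟩

theorem complementSystem_eq_top [Finite G] {K : Nat.Primes → Subgroup G}
    (hK : IsComplementSystem K) (p : Nat.Primes) (hp : p ∉ primesOf G) : K p = ⊤ := by
  rw [mem_primesOf] at hp
  have := hK p
  rw [Nat.factorization_eq_zero_of_not_dvd hp, pow_zero] at this
  exact Subgroup.index_eq_one.mp this

theorem complementSystem_card [Finite G] {K : Nat.Primes → Subgroup G}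
    (hK : IsComplementSystem K) (p : Nat.Primes) :
    Nat.card (K p) = Nat.card G / (p : ℕ) ^ (Nat.card G).factorization p ∧
      (Nat.card G / (p : ℕ) ^ (Nat.card G).factorization p) *
        (p : ℕ) ^ (Nat.card G).factorization p = Nat.card G ∧
      (Nat.card G / (p : ℕ) ^ (Nat.card G).factorization p).Coprime
        ((p : ℕ) ^ (Nat.card G).factorization p) := by
  have h1 := Subgroup.card_mul_index (K p)
  rw [hK p] at h1
  have hpos : 0 < (p : ℕ) ^ (Nat.card G).factorization p := Nat.pos_of_ne_zero (pow_ne_zero _ p.2.ne_zero)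
  have h2 : Nat.card (K p) = Nat.card G / (p : ℕ) ^ (Nat.card G).factorization p :=
    (Nat.div_eq_of_eq_mul_left hpos h1.symm).symm
  refine ⟨h2, ?_, ?_⟩
  · rw [← h2]; exact h1
  · apply Nat.Coprime.pow_right
    exact (Nat.coprime_ordCompl p.2 Nat.card_pos.ne').symm

theorem complement_systems_conj [Finite G] [Group.IsSolvable G] (K L : Nat.Primes → Subgroup G)
    (hK : IsComplementSystem K) (hL : IsComplementSystem L) :
    ∃ g : G, ∀ p : Nat.Primes, MulAut.conj g • K p = L p := by
  obtain ⟨n, -, hn⟩ := simul_conj (⊤ : Subgroup G) K L (primesOf G)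
    (fun p _ => ⟨_, hK p⟩) (by
      intro p _
      obtain ⟨hcK, hG, hcop⟩ := complementSystem_card hK p
      obtain ⟨hcL, -, -⟩ := complementSystem_card hL p
      obtain ⟨g, hg⟩ := Cfsg.Agent.Lib.Helper1.hall_conj _ _ hG.symm hcop (K p) (L p) hcK hcL
      exact ⟨g, Subgroup.mem_top g, hg⟩)
  refine ⟨n, fun p => ?_⟩
  by_cases hp : p ∈ primesOf G
  · exact hn p hp
  · rw [complementSystem_eq_top hK p hp, complementSystem_eq_top hL p hp]
    exact Subgroup.Normal.conj_smul_eq_self n ⊤

end Cfsg.Agent.Lib.helper4
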