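import Mathlib
import Cfsg.Agent.Lib.helper4.HallSysC

set_option autoImplicit false

namespace Cfsg.Agent.Lib.helper4

open Cfsg Subgroup Cfsg.Agent.Lib.helper8
open scoped Pointwise

variable {G : Type*} [Group G]

theorem mem_finset_inf {ι : Type*} (T : Finset ι) (H : ι → Subgroup G) (x : G) :
    x ∈ T.inf H ↔ ∀ i ∈ T, x ∈ H i := by
  rw [Finset.inf_eq_iInf]
  simp only [Subgroup.mem_iInf]

theorem relIndex_dvd_index_of_le_normalizer (H K : Subgroup G) (h : K ≤ normalizer (H : Set G)) :
    H.relIndex K ∣ H.index := by
  set M := normalizer (H : Set G) with hM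
  have hHM : H ≤ M := Subgroup.le_normalizer
  haveI : (H.subgroupOf M).Normal := (Subgroup.normal_subgroupOf_iff_le_normalizer hHM).mpr le_rfl
  have h1 : (H.subgroupOf M).relIndex (K.subgroupOf M) ∣ (H.subgroupOf M).index :=
    Subgroup.relIndex_dvd_index_of_normal _ _
  rw [Subgroup.relIndex_subgroupOf h] at h1
  exact h1.trans (Subgroup.relIndex_dvd_index_of_le hHM)

theorem systemNormalizer_le_normalizer (K : Nat.Primes → Subgroup G) (p : Nat.Primes) :
    systemNormalizer K ≤ normalizer (K p : Set G) := by
  unfold systemNormalizer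
  exact iInf_le _ p

/-- the Sylow subgroups attached to a complement system -/
noncomputable def sysSylow (K : Nat.Primes → Subgroup G) (p : Nat.Primes) : Subgroup G :=
  ((primesOf G).erase p).inf K

theorem systemNormalizer_le_normalizer_sysSylow (K : Nat.Primes → Subgroup G) (p : Nat.Primes) :
    systemNormalizer K ≤ normalizer (sysSylow K p : Set G) := by
  intro d hd
  rw [Subgroup.mem_normalizer_iff]
  intro x
  unfold sysSylow
  rw [mem_finset_inf, mem_finset_inf]
  constructor
  · intro h q hq
    have := systemNormalizer_le_normalizer K q hd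
    rw [Subgroup.mem_normalizer_iff] at this
    exact (this x).mp (h q hq)
  · intro h q hq
    have := systemNormalizer_le_normalizer K q hd
    rw [Subgroup.mem_normalizer_iff] at this
    exact (this x).mpr (h q hq)

theorem sysSylow_index [Finite G] {K : Nat.Primes → Subgroup G} (hK : IsComplementSystem K)
    (p : Nat.Primes) : ¬ (p : ℕ) ∣ (sysSylow K p).index := by
  unfold sysSylow
  rw [index_finset_inf_coprime ((primesOf G).erase p) K
    (fun q => (q : ℕ) ^ (Nat.card G).factorization q) (fun q _ => hK q) (by
      intro q _ r _ hqr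
      apply Nat.Coprime.pow
      rw [Nat.coprime_primes q.2 r.2]
      exact fun h => hqr (Subtype.ext h))]
  rw [← Nat.Prime.coprime_iff_not_dvd p.2]
  apply Nat.Coprime.prod_right
  intro q hq
  apply Nat.Coprime.pow_right
  rw [Nat.coprime_primes p.2 q.2]
  exact fun h => (Finset.ne_of_mem_erase hq) (Subtype.ext h.symm)

theorem sysSylow_isPGroup [Finite G] {K : Nat.Primes → Subgroup G} (hK : IsComplementSystem K)
    (p : Nat.Primes) : IsPGroup (p : ℕ) (sysSylow K p) := by
  have key : ∀ {d : ℕ}, d.Prime → d ∣ Nat.card (sysSylow K p) → d = (p : ℕ) := by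
    intro d hd hdvd
    by_contra hne
    let q : Nat.Primes := ⟨d, hd⟩
    have hqp : q ≠ p := fun h => hne (congrArg Subtype.val h)
    by_cases hq : q ∈ primesOf G
    · have hle : sysSylow K p ≤ K q := by
        unfold sysSylow
        exact Finset.inf_le (Finset.mem_erase.mpr ⟨hqp, hq⟩)
      have h1 := Subgroup.card_dvd_of_le hle
      obtain ⟨hc, -, hcop⟩ := complementSystem_card hK q
      rw [hc] at h1
      have h2 : d ∣ Nat.card G / (q : ℕ) ^ (Nat.card G).factorization q := hdvd.trans h1
      have h3 := Nat.coprime_ordCompl hd (Nat.card_pos (α := G)).ne'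
      exact (Nat.Prime.coprime_iff_not_dvd hd).mp h3 h2
    · rw [mem_primesOf] at hq
      exact hq (hdvd.trans (Subgroup.card_subgroup_dvd_card _))
  have := Nat.eq_prime_pow_of_unique_prime_dvd (Nat.card_pos (α := sysSylow K p)).ne' key
  exact IsPGroup.of_card this

theorem systemNormalizer_nilpotent [Finite G] (K : Nat.Primes → Subgroup G)
    (hK : IsComplementSystem K) : Group.IsNilpotent (systemNormalizer K) := by
  set D := systemNormalizer K with hD
  apply (Group.isNilpotent_of_finite_tfae (G := D)).out 3 0 |>.mp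
  intro p hp P
  let pp : Nat.Primes := ⟨p, hp.out⟩
  have hnorm := systemNormalizer_le_normalizer_sysSylow K pp
  have hPg : IsPGroup p ((sysSylow K pp).subgroupOf D) :=
    (sysSylow_isPGroup hK pp).comap_subtype
  have hidx : ¬ p ∣ ((sysSylow K pp).subgroupOf D).index := by
    intro h
    have h1 : (sysSylow K pp).relIndex D ∣ (sysSylow K pp).index :=
      relIndex_dvd_index_of_le_normalizer _ _ hnorm
    exact sysSylow_index hK pp (h.trans h1)
  have hN : ((sysSylow K pp).subgroupOf D).Normal := by
    constructor
    intro x hx d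
    rw [Subgroup.mem_subgroupOf] at hx ⊢
    have := hnorm d.2
    rw [Subgroup.mem_normalizer_iff] at this
    exact (this _).mp hx
  let P0 : Sylow p D := hPg.toSylow hidx
  have hP0 : (P0 : Subgroup D) = (sysSylow K pp).subgroupOf D := hPg.toSylow_coe hidx
  haveI : (P0 : Subgroup D).Normal := by rw [hP0]; exact hN
  obtain ⟨g, hg⟩ := MulAction.exists_smul_eq D P0 P
  rw [← hg, Sylow.smul_eq_of_normal]
  infer_instance

end Cfsg.Agent.Lib.helper4
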