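import Mathlib
import Cfsg.Agent.Lib.helper4.HallSysD
import Cfsg.Agent.S0001

set_option autoImplicit false

namespace Cfsg.Agent.Lib.helper4

open Cfsg Subgroup Cfsg.Agent.Lib.helper8
open scoped Pointwise

variable {G : Type*} [Group G]

theorem complementSystem_map [Finite G] (K : Nat.Primes → Subgroup G) (hK : IsComplementSystem K)
    (N : Subgroup G) [N.Normal] :
    IsComplementSystem (fun p => (K p).map (QuotientGroup.mk' N)) := by
  intro p
  change ((K p).map (QuotientGroup.mk' N)).index = _
  have hsurj : Function.Surjective (QuotientGroup.mk' N) := QuotientGroup.mk'_surjective N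
  rw [Subgroup.index_map, MonoidHom.range_eq_top_of_surjective _ hsurj, Subgroup.index_top,
    mul_one, QuotientGroup.ker_mk']
  set a := (K p ⊔ N).index with ha
  have h1 : a ∣ (p : ℕ) ^ (Nat.card G).factorization p := by
    rw [← hK p]
    exact Subgroup.index_dvd_of_le le_sup_left
  obtain ⟨j, -, hj⟩ := (Nat.dvd_prime_pow p.2).mp h1
  have h2 : N.relIndex (K p ⊔ N) * a = N.index := Subgroup.relIndex_mul_index le_sup_right
  rw [Subgroup.relIndex_sup_right] at h2
  have h3 : ¬ (p : ℕ) ∣ N.relIndex (K p) := by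
    intro h
    have h4 := h.trans (Subgroup.relIndex_dvd_card N (K p))
    obtain ⟨hc, -, hcop⟩ := complementSystem_card hK p
    rw [hc] at h4
    have h5 := Nat.coprime_ordCompl p.2 (Nat.card_pos (α := G)).ne'
    exact (Nat.Prime.coprime_iff_not_dvd p.2).mp h5 h4
  have hcardQ : Nat.card (G ⧸ N) = N.relIndex (K p) * (p : ℕ) ^ j := by
    rw [← Subgroup.index_eq_card, ← h2, hj]
  have hne : N.relIndex (K p) ≠ 0 := by
    intro h
    rw [h] at h3
    exact h3 (dvd_zero _)
  rw [hcardQ, Nat.factorization_mul hne (pow_ne_zero _ p.2.ne_zero), Finsupp.add_apply,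
    Nat.factorization_eq_zero_of_not_dvd h3, Nat.Prime.factorization_pow p.2, zero_add,
    Finsupp.single_eq_same, hj]

theorem exists_conj_mem_normal [Finite G] [Group.IsSolvable G] (K : Nat.Primes → Subgroup G)
    (hK : IsComplementSystem K) (N : Subgroup G) [N.Normal] (p : Nat.Primes) (x : G)
    (hx : x ∈ normalizer ((K p ⊔ N : Subgroup G) : Set G)) :
    ∃ n ∈ N, MulAut.conj n • K p = MulAut.conj x • K p := by
  set M := K p ⊔ N with hM
  have hKM : K p ≤ M := le_sup_left
  have hLM : MulAut.conj x • K p ≤ M := by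
    have h1 : MulAut.conj x • K p ≤ MulAut.conj x • M := Subgroup.pointwise_smul_le_pointwise_smul_iff.mpr hKM
    rw [(mem_normalizer_iff_smul x M).mp hx] at h1
    exact h1
  -- Hall conjugacy inside `M`
  obtain ⟨hcK, hG, hcop⟩ := complementSystem_card hK p
  have hcardM : Nat.card M = Nat.card (K p) * (K p).relIndex M := (h8_card_mul_relIndex hKM).symm
  have hrel : (K p).relIndex M ∣ (p : ℕ) ^ (Nat.card G).factorization p := by
    rw [← hK p]
    exact Subgroup.relIndex_dvd_index_of_le hKM
  have hcop' : (Nat.card (K p)).Coprime ((K p).relIndex M) := by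
    rw [hcK]
    exact Nat.Coprime.of_dvd_right hrel hcop
  have hA : Nat.card ((K p).subgroupOf M) = Nat.card (K p) := h8_card_subgroupOf hKM
  have hB : Nat.card ((MulAut.conj x • K p).subgroupOf M) = Nat.card (K p) := by
    rw [h8_card_subgroupOf hLM, Cfsg.Agent.S0001.card_conj]
  obtain ⟨y, hy⟩ := Cfsg.Agent.Lib.Helper1.hall_conj (G := M) _ _ hcardM hcop'
    ((K p).subgroupOf M) ((MulAut.conj x • K p).subgroupOf M) hA hB
  obtain ⟨g, hgM, hg⟩ := Cfsg.Agent.S0001.conj_of_subgroupOf (K p) (MulAut.conj x • K p) M hKM hLM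
    ⟨y, hy⟩
  -- write `g = n * k`
  have hgM' : g ∈ ((N ⊔ K p : Subgroup G) : Set G) := by
    rw [sup_comm]; exact hgM
  rw [Subgroup.normal_mul, Set.mem_mul] at hgM'
  obtain ⟨n, hn, k, hk, rfl⟩ := hgM'
  refine ⟨n, hn, ?_⟩
  rw [← hg, map_mul, mul_smul, Subgroup.conj_smul_eq_self_of_mem hk]

theorem systemNormalizer_map [Finite G] [Group.IsSolvable G] (K : Nat.Primes → Subgroup G)
    (hK : IsComplementSystem K) (N : Subgroup G) [N.Normal] :
    systemNormalizer (fun p => (K p).map (QuotientGroup.mk' N)) =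
      (systemNormalizer K).map (QuotientGroup.mk' N) := by
  have hsurj : Function.Surjective (QuotientGroup.mk' N) := QuotientGroup.mk'_surjective N
  apply le_antisymm
  · intro xb hxb
    obtain ⟨x, rfl⟩ := hsurj xb
    have hx : ∀ p : Nat.Primes, x ∈ normalizer ((K p ⊔ N : Subgroup G) : Set G) := by
      intro p
      have h1 : QuotientGroup.mk' N x ∈ normalizer (((K p).map (QuotientGroup.mk' N) : Subgroup (G ⧸ N)) : Set (G ⧸ N)) :=
        systemNormalizer_le_normalizer (fun p => (K p).map (QuotientGroup.mk' N)) p hxb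
      have h2 : x ∈ (normalizer (((K p).map (QuotientGroup.mk' N) : Subgroup (G ⧸ N)) : Set (G ⧸ N))).comap
          (QuotientGroup.mk' N) := h1
      rw [Subgroup.comap_normalizer_eq_of_surjective _ hsurj, Subgroup.comap_map_eq,
        QuotientGroup.ker_mk'] at h2
      exact h2
    obtain ⟨n, hn, hnx⟩ := simul_conj N K (fun p => MulAut.conj x • K p) (primesOf G)
      (fun p _ => ⟨_, hK p⟩) (fun p _ => exists_conj_mem_normal K hK N p x (hx p))
    refine ⟨n⁻¹ * x, ?_, ?_⟩
    · unfold systemNormalizer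
      rw [Subgroup.coe_iInf, Set.mem_iInter]
      intro p
      rw [SetLike.mem_coe, mem_normalizer_iff_smul]
      by_cases hp : p ∈ primesOf G
      · rw [map_mul, mul_smul, ← hnx p hp, ← mul_smul, ← map_mul, inv_mul_cancel, map_one, one_smul]
      · rw [complementSystem_eq_top hK p hp]
        exact Subgroup.Normal.conj_smul_eq_self _ ⊤
    · rw [map_mul, map_inv]
      have : QuotientGroup.mk' N n = 1 := (QuotientGroup.eq_one_iff n).mpr hn
      rw [this, inv_one, one_mul]
  · rintro _ ⟨d, hd, rfl⟩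
    unfold systemNormalizer
    rw [Subgroup.mem_iInf]
    intro p
    apply Subgroup.le_normalizer_map (QuotientGroup.mk' N)
    exact ⟨d, systemNormalizer_le_normalizer K p hd, rfl⟩

end Cfsg.Agent.Lib.helper4
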