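import Mathlib
import Cfsg.Agent.Lib.helper4.HallSysE

set_option autoImplicit false

namespace Cfsg.Agent.Lib.helper4

open Cfsg Subgroup Cfsg.Agent.Lib.helper8
open scoped Pointwise commutatorElement

variable {G : Type*} [Group G]

theorem normal_of_commutator_le' (H : Subgroup G) (h : commutator G ≤ H) : H.Normal := by
  constructor
  intro y hy x
  have h1 : ⁅x, y⁆ ∈ commutator G :=
    Subgroup.commutator_mem_commutator (Subgroup.mem_top x) (Subgroup.mem_top y)
  have h2 : x * y * x⁻¹ = ⁅x, y⁆ * y := by
    rw [commutatorElement_def]; group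
  rw [h2]
  exact H.mul_mem (h h1) hy

theorem systemNormalizer_normalClosure [Finite G] [Group.IsSolvable G]
    (K : Nat.Primes → Subgroup G) (hK : IsComplementSystem K) :
    Subgroup.normalClosure ((systemNormalizer K : Subgroup G) : Set G) = ⊤ := by
  set D := systemNormalizer K with hD
  set M := Subgroup.normalClosure (D : Set G) with hM
  by_contra hne
  haveI : Nontrivial (G ⧸ M) := by
    rw [← not_subsingleton_iff_nontrivial]
    intro hs
    exact hne (QuotientGroup.subgroup_eq_top_of_subsingleton M hs)
  have hlt := Group.IsSolvable.commutator_lt_top_of_nontrivial (G ⧸ M)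
  set R := (commutator (G ⧸ M)).comap (QuotientGroup.mk' M) with hR
  have hsurjM : Function.Surjective (QuotientGroup.mk' M) := QuotientGroup.mk'_surjective M
  have hRne : R ≠ ⊤ := by
    intro h
    have h1 : (commutator (G ⧸ M)).comap (QuotientGroup.mk' M) = (⊤ : Subgroup (G ⧸ M)).comap (QuotientGroup.mk' M) := by
      rw [Subgroup.comap_top]; exact h
    exact hlt.ne (Subgroup.comap_injective hsurjM h1)
  have hMR : M ≤ R := by
    intro m hm
    rw [hR, Subgroup.mem_comap]
    have : QuotientGroup.mk' M m = 1 := (QuotientGroup.eq_one_iff m).mpr hm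
    rw [this]
    exact Subgroup.one_mem _
  have hcomm : commutator G ≤ R := by
    rw [_root_.commutator_def, Subgroup.commutator_le]
    intro g₁ _ g₂ _
    rw [hR, Subgroup.mem_comap, map_commutatorElement]
    exact Subgroup.commutator_mem_commutator (Subgroup.mem_top _) (Subgroup.mem_top _)
  haveI hRn : R.Normal := normal_of_commutator_le' R hcomm
  have hsurj : Function.Surjective (QuotientGroup.mk' R) := QuotientGroup.mk'_surjective R
  have hmap := systemNormalizer_map K hK R
  have htop : systemNormalizer (fun p => (K p).map (QuotientGroup.mk' R)) = ⊤ := by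
    rw [eq_top_iff]
    intro xb _
    obtain ⟨x, rfl⟩ := hsurj xb
    unfold systemNormalizer
    rw [Subgroup.mem_iInf]
    intro p
    haveI : (K p ⊔ R).Normal := normal_of_commutator_le' _ (hcomm.trans le_sup_right)
    have h2 : x ∈ (normalizer (((K p).map (QuotientGroup.mk' R) : Subgroup (G ⧸ R)) : Set (G ⧸ R))).comap
        (QuotientGroup.mk' R) := by
      rw [Subgroup.comap_normalizer_eq_of_surjective _ hsurj, Subgroup.comap_map_eq,
        QuotientGroup.ker_mk', Subgroup.normalizer_eq_top]
      exact Subgroup.mem_top x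
    exact h2
  have hbot : (systemNormalizer K).map (QuotientGroup.mk' R) = ⊥ := by
    rw [eq_bot_iff]
    rintro _ ⟨d, hd, rfl⟩
    rw [Subgroup.mem_bot]
    apply (QuotientGroup.eq_one_iff d).mpr
    exact hMR (Subgroup.le_normalClosure hd)
  rw [htop, hbot] at hmap
  have hsub : Subsingleton (G ⧸ R) := by
    constructor
    intro a b
    have ha : a ∈ (⊤ : Subgroup (G ⧸ R)) := Subgroup.mem_top a
    have hb : b ∈ (⊤ : Subgroup (G ⧸ R)) := Subgroup.mem_top b
    rw [hmap, Subgroup.mem_bot] at ha hb
    rw [ha, hb]
  exact hRne (QuotientGroup.subgroup_eq_top_of_subsingleton R hsub)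

end Cfsg.Agent.Lib.helper4
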