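import Mathlib
import Cfsg.Prelude.Def_Transfer
import Cfsg.Agent.Lib.Helper21.XS2A
import Cfsg.Agent.Lib.Helper19.A5Pairs

set_option autoImplicit false
open scoped commutatorElement

/-! An involution centraliser of order 1920 with a normal subgroup of order 32 given by
element-level conditions, and a pair of elements generating a copy of the alternating group
of degree five: the shape of the centraliser. -/

namespace Cfsg.Agent.Lib.helper4

theorem card_alt5 : Nat.card (alternatingGroup (Fin 5)) = 60 := by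
  have h := two_mul_card_alternatingGroup (α := Fin 5)
  rw [Fintype.card_perm, Fintype.card_fin] at h
  rw [Nat.card_eq_fintype_card]
  have : Nat.factorial 5 = 120 := rfl
  omega

theorem cent_shape {G : Type*} [Group G] [Finite G] (t : G) (Q : Subgroup G)
    (hQC : Q ≤ Subgroup.centralizer {t})
    (hN : ∀ c ∈ Subgroup.centralizer ({t} : Set G), ∀ q ∈ Q, c * q * c⁻¹ ∈ Q)
    (htQ : t ∈ Q) (ht1 : t ≠ 1) (htt : t * t = 1)
    (hcen : ∀ q ∈ Q, (∀ r ∈ Q, q * r = r * q) → q = 1 ∨ q = t)
    (hcomm : ∀ q ∈ Q, ∀ r ∈ Q, q * r = r * q ∨ q * r = t * (r * q))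
    (hsq : ∀ q ∈ Q, q * q = 1 ∨ q * q = t)
    (hnab : ∃ q ∈ Q, ∃ r ∈ Q, q * r ≠ r * q)
    (hcardQ : Nat.card Q = 32)
    (hel : ∀ q ∈ Q, ∀ r ∈ Q, q * q = 1 → r * r = 1 → q * r = r * q →
      q = 1 ∨ q = t ∨ r = 1 ∨ r = t ∨ r = q ∨ r = q * t)
    (x y : G) (hx : x ∈ Subgroup.centralizer ({t} : Set G))
    (hy : y ∈ Subgroup.centralizer ({t} : Set G))
    (hx3 : x ^ 3 = 1) (hy5 : y ^ 5 = 1) (hxy : (x * y) ^ 2 = 1) (hx1 : x ≠ 1)
    (hcardC : Nat.card (Subgroup.centralizer ({t} : Set G)) = 1920) :
    ∃ (Q' : Subgroup ↥(Subgroup.centralizer ({t} : Set G))) (_ : Q'.Normal),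
      Cfsg.IsExtraspecial 2 Q' ∧ Nat.card Q' = 32 ∧
      (∀ E : Subgroup Q', Cfsg.IsElementaryAbelian 2 E → Nat.card E ≤ 2 ^ 2) ∧
      (∃ H : Subgroup ↥(Subgroup.centralizer ({t} : Set G)), Q'.IsComplement' H) ∧
      Nonempty (↥(Subgroup.centralizer ({t} : Set G)) ⧸ Q' ≃* ↥(alternatingGroup (Fin 5))) := by
  classical
  set C : Subgroup G := Subgroup.centralizer ({t} : Set G) with hC
  have hcomT : ∀ c ∈ C, c * t = t * c := by
    intro c hc
    exact ((Subgroup.mem_centralizer_iff.1 hc) t rfl).symm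
  let Q' : Subgroup C := Q.subgroupOf C
  have hQ'mem : ∀ c : C, c ∈ Q' ↔ (c : G) ∈ Q := fun c => Subgroup.mem_subgroupOf
  have hnorm : Q'.Normal := by
    refine ⟨fun n hn g => ?_⟩
    rw [hQ'mem] at hn ⊢
    exact hN g.1 g.2 n.1 hn
  have hcardQ' : Nat.card Q' = 32 := by
    rw [← hcardQ]
    exact Nat.card_congr (Subgroup.subgroupOfEquivOfLe hQC).toEquiv
  -- the element-level structure
  have htC : t ∈ C := hQC htQ
  let z' : Q' := ⟨⟨t, htC⟩, (hQ'mem _).2 htQ⟩
  have hval : ∀ a b : Q', a = b ↔ ((a : C) : G) = ((b : C) : G) := by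
    intro a b
    constructor
    · intro h; rw [h]
    · intro h; exact Subtype.ext (Subtype.ext h)
  have hvQ : ∀ a : Q', ((a : C) : G) ∈ Q := fun a => (hQ'mem _).1 a.2
  have hlift : ∀ q ∈ Q, ∃ a : Q', ((a : C) : G) = q := by
    intro q hq
    exact ⟨⟨⟨q, hQC hq⟩, (hQ'mem _).2 hq⟩, rfl⟩
  have hxs : Cfsg.Agent.Lib.Helper21.XS2 Q' z' := by
    refine ⟨?_, ?_, ?_, ?_, ?_, ?_, ?_⟩
    · intro h
      exact ht1 ((hval _ _).1 h)
    · exact (hval _ _).2 htt
    · intro g
      exact (hval _ _).2 (hcomT _ (hQC (hvQ g)))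
    · intro a ha
      rcases hcen _ (hvQ a) (by
        intro r hr
        obtain ⟨b, rfl⟩ := hlift r hr
        exact (hval _ _).1 (ha b)) with h | h
      · left; exact (hval _ _).2 h
      · right; exact (hval _ _).2 h
    · intro a b
      rcases hcomm _ (hvQ a) _ (hvQ b) with h | h
      · left
        rw [commutatorElement_eq_one_iff_mul_comm]
        exact (hval _ _).2 h
      · right
        rw [commutatorElement_def]
        have : a * b = z' * (b * a) := (hval _ _).2 h
        rw [this]
        group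
    · intro a
      rcases hsq _ (hvQ a) with h | h
      · left; rw [pow_two]; exact (hval _ _).2 h
      · right; rw [pow_two]; exact (hval _ _).2 h
    · obtain ⟨q, hq, r, hr, hne⟩ := hnab
      obtain ⟨a, rfl⟩ := hlift q hq
      obtain ⟨b, rfl⟩ := hlift r hr
      exact ⟨a, b, fun h => hne ((hval _ _).1 h)⟩
  have hext : Cfsg.IsExtraspecial 2 Q' := hxs.isExtraspecial
  -- elementary abelian subgroups
  have helem : ∀ E : Subgroup Q', Cfsg.IsElementaryAbelian 2 E → Nat.card E ≤ 2 ^ 2 := by
    intro E ⟨hEc, hE2⟩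
    have hEcomm : ∀ a ∈ E, ∀ b ∈ E, a * b = b * a := by
      intro a ha b hb
      have := hEc.is_comm.comm ⟨a, ha⟩ ⟨b, hb⟩
      exact congrArg Subtype.val this
    by_cases hA : ∀ a ∈ E, a = 1 ∨ a = z'
    · have hsub : (E : Set Q') ⊆ (({1, z'} : Finset Q') : Set Q') := by
        intro a ha
        rcases hA a ha with h | h
        · rw [h]; simp
        · rw [h]; simp
      calc Nat.card E = (E : Set Q').ncard := (Nat.card_coe_set_eq _)
        _ ≤ (({1, z'} : Finset Q') : Set Q').ncard := Set.ncard_le_ncard hsub (Finset.finite_toSet _)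
        _ = ({1, z'} : Finset Q').card := Set.ncard_coe_finset _
        _ ≤ 2 := Finset.card_le_two
        _ ≤ 2 ^ 2 := by norm_num
    · push Not at hA
      obtain ⟨a, ha, ha1, haz⟩ := hA
      have hsub : (E : Set Q') ⊆ (({1, z', a, a * z'} : Finset Q') : Set Q') := by
        intro b hb
        have haa : ((a : C) : G) * ((a : C) : G) = 1 := by
          have := hE2 a ha
          rw [pow_two] at this
          exact (hval _ _).1 this
        have hbb : ((b : C) : G) * ((b : C) : G) = 1 := by
          have := hE2 b hb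
          rw [pow_two] at this
          exact (hval _ _).1 this
        have hab : ((a : C) : G) * ((b : C) : G) = ((b : C) : G) * ((a : C) : G) :=
          (hval _ _).1 (hEcomm a ha b hb)
        rcases hel _ (hvQ a) _ (hvQ b) haa hbb hab with h | h | h | h | h | h
        · exact absurd ((hval a 1).2 h) ha1
        · exact absurd ((hval a z').2 h) haz
        · rw [(hval b 1).2 h]; simp
        · rw [(hval b z').2 h]; simp
        · rw [(hval b a).2 h]; simp
        · rw [(hval b (a * z')).2 h]; simp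
      calc Nat.card E = (E : Set Q').ncard := (Nat.card_coe_set_eq _)
        _ ≤ (({1, z', a, a * z'} : Finset Q') : Set Q').ncard :=
            Set.ncard_le_ncard hsub (Finset.finite_toSet _)
        _ = ({1, z', a, a * z'} : Finset Q').card := Set.ncard_coe_finset _
        _ ≤ 4 := Finset.card_le_four
        _ = 2 ^ 2 := by norm_num
  -- the copy of the alternating group
  obtain ⟨τ, hτinj, hτrange⟩ :=
    Cfsg.Agent.Lib.Helper19.A5Pairs.exists_hom_of_pair x y hx3 hy5 hxy hx1
  have hτC : ∀ k, τ k ∈ C := by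
    intro k
    have h1 : τ k ∈ τ.range := ⟨k, rfl⟩
    rw [hτrange] at h1
    refine (Subgroup.closure_le _).2 ?_ h1
    rintro w (rfl | hw)
    · exact hx
    · rw [Set.mem_singleton_iff] at hw
      rw [hw]
      exact hy
  let τ' : alternatingGroup (Fin 5) →* C := τ.codRestrict C hτC
  have hτ'inj : Function.Injective τ' := by
    intro a b hab
    apply hτinj
    exact congrArg Subtype.val hab
  -- the kernel of the map to the quotient
  have hNbot : Q'.comap τ' = ⊥ := by
    have hNn : (Q'.comap τ').Normal := hnorm.comap τ'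
    rcases hNn.eq_bot_or_eq_top with h | h
    · exact h
    · exfalso
      have hxr : x ∈ τ.range := by
        rw [hτrange]
        exact Subgroup.subset_closure (Set.mem_insert _ _)
      obtain ⟨k, hk⟩ := hxr
      have hkN : k ∈ Q'.comap τ' := by rw [h]; exact Subgroup.mem_top _
      rw [Subgroup.mem_comap, hQ'mem] at hkN
      have hxQ : x ∈ Q := by
        rw [← hk]
        exact hkN
      have h32 : x ^ 32 = 1 := by
        have := pow_card_eq_one' (G := Q) (x := ⟨x, hxQ⟩)
        rw [hcardQ] at this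
        exact congrArg Subtype.val this
      apply hx1
      calc x = (x ^ 3) ^ 11 * (x ^ 32)⁻¹ := by group
        _ = 1 := by rw [hx3, h32]; simp
  let H : Subgroup C := τ'.range
  have hcardH : Nat.card H = 60 := by
    rw [← card_alt5]
    exact (Nat.card_congr (MonoidHom.ofInjective hτ'inj).toEquiv).symm
  have hdisj : Disjoint Q' H := by
    rw [Subgroup.disjoint_def]
    intro c hcQ hcH
    obtain ⟨k, rfl⟩ := hcH
    have hk : k ∈ Q'.comap τ' := hcQ
    rw [hNbot, Subgroup.mem_bot] at hk
    rw [hk, map_one]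
  have hcompl : Q'.IsComplement' H := by
    apply Subgroup.isComplement'_of_card_mul_and_disjoint _ hdisj
    rw [hcardQ', hcardH, hcardC]
  -- the quotient
  let ρ : alternatingGroup (Fin 5) →* C ⧸ Q' := (QuotientGroup.mk' Q').comp τ'
  have hρinj : Function.Injective ρ := by
    rw [injective_iff_map_eq_one]
    intro k hk
    have : τ' k ∈ Q' := by
      rw [← QuotientGroup.eq_one_iff]
      exact hk
    have hk' : k ∈ Q'.comap τ' := this
    rw [hNbot, Subgroup.mem_bot] at hk'
    exact hk'
  have hcardq : Nat.card (C ⧸ Q') = 60 := by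
    have := Subgroup.card_eq_card_quotient_mul_card_subgroup Q'
    rw [hcardC, hcardQ'] at this
    omega
  have hρbij : Function.Bijective ρ := by
    rw [Nat.bijective_iff_injective_and_card]
    exact ⟨hρinj, by rw [card_alt5, hcardq]⟩
  exact ⟨Q', hnorm, hext, hcardQ', helem, ⟨H, hcompl⟩,
    ⟨(MulEquiv.ofBijective ρ hρbij).symm⟩⟩

end Cfsg.Agent.Lib.helper4
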