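import Mathlib
import Cfsg.Prelude.Def_KGroupFacts

set_option autoImplicit false

/-! A criterion for all automorphisms of a group generated by two elements to be inner, and
conjugacy of elements of prime order `p` in a finite group whose order is not divisible by
`p²`. -/

namespace Cfsg.Agent.Lib.helper4

/-- a word in two elements, by right multiplications: `0` stands for the first -/
def rigidWord {G : Type*} [Monoid G] (a b : G) : List ℕ → G → G
  | [], cur => cur
  | 0 :: rest, cur => rigidWord a b rest (cur * a)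
  | (_ + 1) :: rest, cur => rigidWord a b rest (cur * b)

theorem map_rigidWord {G H : Type*} [Monoid G] [Monoid H] (φ : G →* H) (a b : G) (w : List ℕ)
    (cur : G) : φ (rigidWord a b w cur) = rigidWord (φ a) (φ b) w (φ cur) := by
  induction w generalizing cur with
  | nil => rfl
  | cons g rest ih =>
    cases g with
    | zero => simp only [rigidWord]; rw [ih, map_mul]
    | succ n => simp only [rigidWord]; rw [ih, map_mul]

/-- if the group is generated by `x` and `y`, every automorphism maps `x` to a conjugate, and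
every automorphism fixing `x` maps `y` to a conjugate under the centraliser of `x`, then all
automorphisms are inner -/
theorem card_out_eq_one_of_rigid {G : Type*} [Group G] (x y : G)
    (hgen : ∀ N : Subgroup G, x ∈ N → y ∈ N → N = ⊤)
    (h1 : ∀ φ : MulAut G, ∃ g : G, φ x = g * x * g⁻¹)
    (h2 : ∀ φ : MulAut G, φ x = x → ∃ g : G, g * x * g⁻¹ = x ∧ φ y = g * y * g⁻¹) :
    Nat.card (Cfsg.Out G) = 1 := by
  have hInn : Cfsg.Inn G = ⊤ := by
    rw [eq_top_iff]
    intro φ _
    obtain ⟨g1, hg1⟩ := h1 φ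
    have e1 : ((MulAut.conj g1)⁻¹ * φ) x = x := by
      rw [MulAut.mul_apply, hg1, MulAut.conj_inv_apply]; group
    obtain ⟨g2, hg2x, hg2y⟩ := h2 _ e1
    have e2x : ((MulAut.conj g2)⁻¹ * ((MulAut.conj g1)⁻¹ * φ)) x = x := by
      rw [MulAut.mul_apply, e1, MulAut.conj_inv_apply]
      nth_rewrite 1 [← hg2x]
      group
    have e2y : ((MulAut.conj g2)⁻¹ * ((MulAut.conj g1)⁻¹ * φ)) y = y := by
      rw [MulAut.mul_apply, hg2y, MulAut.conj_inv_apply]; group
    have htop := hgen (MonoidHom.eqLocus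
      ((MulAut.conj g2)⁻¹ * ((MulAut.conj g1)⁻¹ * φ) : MulAut G).toMonoidHom (MonoidHom.id G))
      e2x e2y
    have hfix : (MulAut.conj g2)⁻¹ * ((MulAut.conj g1)⁻¹ * φ) = 1 := by
      apply MulEquiv.ext
      intro z
      have hz : z ∈ MonoidHom.eqLocus
        ((MulAut.conj g2)⁻¹ * ((MulAut.conj g1)⁻¹ * φ) : MulAut G).toMonoidHom
          (MonoidHom.id G) := by
        rw [htop]; exact Subgroup.mem_top z
      exact hz
    refine ⟨g1 * g2, ?_⟩
    rw [map_mul]
    calc MulAut.conj g1 * MulAut.conj g2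
        = MulAut.conj g1 * MulAut.conj g2 *
          ((MulAut.conj g2)⁻¹ * ((MulAut.conj g1)⁻¹ * φ)) := by rw [hfix, mul_one]
      _ = φ := by group
  show (Cfsg.Inn G).index = 1
  rw [hInn, Subgroup.index_top]

/-- Sylow's theorem for elements of prime order `p` when `p²` does not divide the order -/
theorem exists_conj_pow_of_orderOf_prime {G : Type*} [Group G] [Finite G] (p : ℕ)
    [hp : Fact p.Prime] (hp2 : ¬ p ^ 2 ∣ Nat.card G) (y z : G) (hy : orderOf y = p)
    (hz : orderOf z = p) : ∃ g : G, ∃ k : ℕ, z = g * y ^ k * g⁻¹ := by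
  have hcard : ∀ w : G, orderOf w = p → IsPGroup p (Subgroup.zpowers w) ∧
      ¬ p ∣ (Subgroup.zpowers w).index := by
    intro w hw
    have hc : Nat.card (Subgroup.zpowers w) = p := by rw [Nat.card_zpowers, hw]
    refine ⟨IsPGroup.of_card (n := 1) (by rw [hc, pow_one]), fun hdvd => hp2 ?_⟩
    rw [← Subgroup.card_mul_index (Subgroup.zpowers w), hc, pow_two]
    exact Nat.mul_dvd_mul_left p hdvd
  obtain ⟨hPy, hIy⟩ := hcard y hy
  obtain ⟨hPz, hIz⟩ := hcard z hz
  obtain ⟨g, hg⟩ := MulAction.exists_smul_eq G (hPy.toSylow hIy) (hPz.toSylow hIz)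
  have h1 : ((hPz.toSylow hIz : Sylow p G) : Subgroup G) = Subgroup.zpowers z := rfl
  have h2 : ((hPy.toSylow hIy : Sylow p G) : Subgroup G) = Subgroup.zpowers y := rfl
  have hzmem : z ∈ ((hPz.toSylow hIz : Sylow p G) : Subgroup G) := by
    rw [h1]; exact Subgroup.mem_zpowers z
  rw [← hg, Sylow.coe_subgroup_smul, Subgroup.mem_pointwise_smul_iff_inv_smul_mem, h2,
    MulAut.smul_def, ← map_inv, MulAut.conj_apply, inv_inv] at hzmem
  have hfin : IsOfFinOrder y := isOfFinOrder_of_finite y
  rw [← mem_powers_iff_mem_zpowers, Submonoid.mem_powers_iff] at hzmem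
  obtain ⟨k, hk⟩ := hzmem
  refine ⟨g, k, ?_⟩
  rw [hk]
  group

/-- conjugating by powers of an element that conjugates `x` to its `r`-th power -/
theorem conj_pow_of_conj_eq_pow {G : Type*} [Group G] (x n : G) (r : ℕ)
    (hn : n * x * n⁻¹ = x ^ r) (j : ℕ) : n ^ j * x * (n ^ j)⁻¹ = x ^ (r ^ j) := by
  induction j with
  | zero => simp
  | succ j ih =>
    calc n ^ (j + 1) * x * (n ^ (j + 1))⁻¹ = n * (n ^ j * x * (n ^ j)⁻¹) * n⁻¹ := by
          rw [pow_succ']; group
      _ = n * x ^ (r ^ j) * n⁻¹ := by rw [ih]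
      _ = (n * x * n⁻¹) ^ (r ^ j) := by rw [conj_pow]
      _ = x ^ (r ^ (j + 1)) := by rw [hn, ← pow_mul, pow_succ']

end Cfsg.Agent.Lib.helper4
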