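import Cfsg.Agent.Lib.helper23.TD4V.Defs

/-!
# TD4V row G8 (`absorb_left`): finite counting, pure group theory.

Extra: `td4vg8_absorb_right` = the statement of row G9 (`absorb_right`), by the mirrored counting.
-/

set_option autoImplicit false

namespace Cfsg.Agent.Lib.helper23.TD4V

open Cfsg.Lie Cfsg.Lie.ChevalleyDatum Matrix
open Cfsg.Agent.Lib.helper8 Cfsg.Agent.Lib.helper8.TD4
open Cfsg.Agent.Lib.helper23.P4V

universe u v

section G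

/-- **G8** [M] -/
theorem absorb_left {Γ : Type u} [Group Γ] (R : Subgroup Γ) [Finite R] (x : Γ)
    (hn : ∀ u ∈ R, x * u * x⁻¹ ∈ R) (hfix : ∀ u ∈ R, u * x = x * u → u = 1) (u : Γ) (hu : u ∈ R) :
    ∃ w ∈ R, w * x * w⁻¹ = u * x := by
  let f : R → R := fun w =>
    ⟨(w : Γ) * (x * (w : Γ)⁻¹ * x⁻¹), R.mul_mem w.2 (hn _ (R.inv_mem w.2))⟩
  have hinj : Function.Injective f := by
    intro w w' h
    have h1 : (w : Γ) * (x * (w : Γ)⁻¹ * x⁻¹) = (w' : Γ) * (x * (w' : Γ)⁻¹ * x⁻¹) :=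
      congrArg Subtype.val h
    have h3 : (w : Γ) * x * (w : Γ)⁻¹ = (w' : Γ) * x * (w' : Γ)⁻¹ := by
      have h2 := congrArg (· * x) h1
      simpa [mul_assoc] using h2
    have h2 : ((w' : Γ)⁻¹ * w) * x = x * ((w' : Γ)⁻¹ * w) := by
      calc ((w' : Γ)⁻¹ * w) * x = (w' : Γ)⁻¹ * ((w : Γ) * x * (w : Γ)⁻¹) * w := by group
        _ = (w' : Γ)⁻¹ * ((w' : Γ) * x * (w' : Γ)⁻¹) * w := by rw [h3]
        _ = x * ((w' : Γ)⁻¹ * w) := by group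
    have h4 := hfix _ (R.mul_mem (R.inv_mem w'.2) w.2) h2
    apply Subtype.ext
    exact (inv_mul_eq_one.1 h4).symm
  obtain ⟨w, hw⟩ := Finite.surjective_of_injective hinj ⟨u, hu⟩
  refine ⟨w, w.2, ?_⟩
  have h1 : (w : Γ) * (x * (w : Γ)⁻¹ * x⁻¹) = u := congrArg Subtype.val hw
  rw [← h1]; group

/-- the statement of **G9** (`absorb_right`), by the mirrored counting -/
theorem td4vg8_absorb_right {Γ : Type u} [Group Γ] (R : Subgroup Γ) [Finite R] (x : Γ)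
    (hn : ∀ u ∈ R, x⁻¹ * u * x ∈ R) (hfix : ∀ u ∈ R, u * x = x * u → u = 1) (u : Γ) (hu : u ∈ R) :
    ∃ w ∈ R, w * x * w⁻¹ = x * u := by
  let f : R → R := fun w =>
    ⟨(x⁻¹ * (w : Γ) * x) * (w : Γ)⁻¹, R.mul_mem (hn _ w.2) (R.inv_mem w.2)⟩
  have hinj : Function.Injective f := by
    intro w w' h
    have h1 : (x⁻¹ * (w : Γ) * x) * (w : Γ)⁻¹ = (x⁻¹ * (w' : Γ) * x) * (w' : Γ)⁻¹ :=
      congrArg Subtype.val h
    have h3 : (w : Γ) * x * (w : Γ)⁻¹ = (w' : Γ) * x * (w' : Γ)⁻¹ := by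
      have h2 := congrArg (x * ·) h1
      simpa [mul_assoc] using h2
    have h2 : ((w' : Γ)⁻¹ * w) * x = x * ((w' : Γ)⁻¹ * w) := by
      calc ((w' : Γ)⁻¹ * w) * x = (w' : Γ)⁻¹ * ((w : Γ) * x * (w : Γ)⁻¹) * w := by group
        _ = (w' : Γ)⁻¹ * ((w' : Γ) * x * (w' : Γ)⁻¹) * w := by rw [h3]
        _ = x * ((w' : Γ)⁻¹ * w) := by group
    have h4 := hfix _ (R.mul_mem (R.inv_mem w'.2) w.2) h2
    apply Subtype.ext
    exact (inv_mul_eq_one.1 h4).symm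
  obtain ⟨w, hw⟩ := Finite.surjective_of_injective hinj ⟨u, hu⟩
  refine ⟨w, w.2, ?_⟩
  have h1 : (x⁻¹ * (w : Γ) * x) * (w : Γ)⁻¹ = u := congrArg Subtype.val hw
  rw [← h1]; group

end G

end Cfsg.Agent.Lib.helper23.TD4V
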