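import Mathlib
import Cfsg.Agent.Lib.Helper18.PRL.Defs
import Cfsg.Agent.Lib.helper23.PRLCH1
import Cfsg.Agent.Lib.helper4.UE.Defs

/-!
# UE-KP, UE-A: the two-step centralizers `K_j` are proper; membership in `K_j` can be tested on a
single element of `Z_j ∖ Z_{j-1}`.
-/

set_option autoImplicit false

namespace Cfsg.Agent.Lib.helper4.UE

open Cfsg.Agent.Lib.Helper18.PRL
open scoped commutatorElement

universe u

section mc
variable {p : ℕ} [Fact p.Prime] {G : Type u} [Group G] [Finite G] {n : ℕ}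

/-- UE-KP: the two-step centralizers are proper subgroups. -/
theorem K_ne_top (h : MC p G n) (hn : 3 ≤ n) (j : ℕ) (hj : 2 ≤ j) (hj' : j ≤ n - 2) :
    K G j ≠ ⊤ := by
  have hpp := (Fact.out : p.Prime)
  intro htop
  have hall : ∀ x : G, TS G j x := fun x => by
    have : x ∈ K G j := by rw [htop]; exact Subgroup.mem_top x
    exact this
  have hle : Z G j ≤ Z G (j - 1) := by
    intro y hy
    have e : j - 1 = (j - 2) + 1 := by omega
    rw [e]
    exact Subgroup.mem_upperCentralSeries_succ_iff.2 fun x => hall x y hy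
  have h1 := Subgroup.card_le_of_le hle
  rw [card_Z h hn j hj', card_Z h hn (j - 1) (by omega)] at h1
  have := (Nat.pow_le_pow_iff_right hpp.one_lt).1 h1
  omega

/-- UE-A: it is enough to test one element of `Z_j ∖ Z_{j-1}`. -/
theorem ts_of_one (h : MC p G n) (hn : 3 ≤ n) (j : ℕ) (hj : 2 ≤ j) (hj' : j ≤ n - 2) (x g : G)
    (hg : g ∈ Z G j) (hg' : g ∉ Z G (j - 1)) (hc : ⁅g, x⁆ ∈ Z G (j - 2)) : TS G j x := by
  have hpp := (Fact.out : p.Prime)
  have hnorm : (Z G (j - 2)).Normal := inferInstance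
  let L : Subgroup G :=
    { carrier := {y | y ∈ Z G j ∧ ⁅y, x⁆ ∈ Z G (j - 2)}
      one_mem' := by
        refine ⟨one_mem _, ?_⟩
        have : ⁅(1 : G), x⁆ = 1 := by simp [commutatorElement_def]
        rw [this]; exact one_mem _
      mul_mem' := by
        rintro a b ⟨ha, ha'⟩ ⟨hb, hb'⟩
        refine ⟨mul_mem ha hb, ?_⟩
        have e : ⁅a * b, x⁆ = a * ⁅b, x⁆ * a⁻¹ * ⁅a, x⁆ := by
          simp only [commutatorElement_def]; group
        rw [e]
        exact mul_mem (hnorm.conj_mem _ hb' a) ha'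
      inv_mem' := by
        rintro a ⟨ha, ha'⟩
        refine ⟨inv_mem ha, ?_⟩
        have e : ⁅a⁻¹, x⁆ = a⁻¹ * (⁅a, x⁆)⁻¹ * a⁻¹⁻¹ := by
          simp only [commutatorElement_def]; group
        rw [e]
        exact hnorm.conj_mem _ (inv_mem ha') a⁻¹ }
  have hL2 : L ≤ Z G j := fun y hy => hy.1
  have hL1 : Z G (j - 1) ≤ L := by
    intro z hz
    refine ⟨Subgroup.upperCentralSeries_mono G (by omega) hz, ?_⟩
    have e : j - 1 = (j - 2) + 1 := by omega
    rw [e] at hz
    exact Subgroup.mem_upperCentralSeries_succ_iff.1 hz x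
  have hgL : g ∈ L := ⟨hg, hc⟩
  have hdvd : Nat.card L ∣ p ^ j := by
    rw [← card_Z h hn j hj']
    exact Subgroup.card_dvd_of_le hL2
  obtain ⟨k, hk, hcardL⟩ := (Nat.dvd_prime_pow hpp).1 hdvd
  have hkj : k = j := by
    by_contra hne
    have hk' : k ≤ j - 1 := by omega
    have hle : Nat.card L ≤ Nat.card (Z G (j - 1)) := by
      rw [hcardL, card_Z h hn (j - 1) (by omega)]
      exact Nat.pow_le_pow_right hpp.pos hk'
    have heq : Z G (j - 1) = L := Subgroup.eq_of_le_of_card_ge hL1 hle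
    exact hg' (heq ▸ hgL)
  have hLZ : L = Z G j := by
    apply Subgroup.eq_of_le_of_card_ge hL2
    rw [hcardL, hkj, card_Z h hn j hj']
  intro y hy
  have : y ∈ L := hLZ ▸ hy
  exact this.2

end mc

end Cfsg.Agent.Lib.helper4.UE
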