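import Mathlib
import Cfsg.Agent.Lib.Helper18.PRL.Defs
import Cfsg.Agent.Lib.helper4.MCPRHP
import Cfsg.Agent.Lib.Helper19.MCPCOMM
import Cfsg.Agent.Lib.Helper10.MCPPOW
import Cfsg.Agent.Lib.helper4.UE.Defs

/-!
# UE-D: `[u^p, x] ≡ [u, x]^p` modulo `Z_{i-p-1}` for `u ∈ Z_i` in a group of maximal class with a
uniform element (refined Hall-Petrescu with `Y k = Z_{i-k}`).
-/

set_option autoImplicit false

namespace Cfsg.Agent.Lib.helper4.UE

open Cfsg.Agent.Lib.Helper18.PRL Cfsg.Agent.Lib.helper4.MCP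
open scoped commutatorElement

universe u

/-- `[Z_{m+1}, G] ≤ Z_m`, elementwise, both orders. -/
theorem h4ued_comm_mem {X : Type*} [Group X] (m : ℕ) (z g : X) (hz : z ∈ Z X (m + 1)) :
    ⁅z, g⁆ ∈ Z X m ∧ ⁅g, z⁆ ∈ Z X m := by
  have h1 : ⁅z, g⁆ ∈ Z X m := by
    have := (Subgroup.mem_upperCentralSeries_succ_iff).1 hz g
    simpa [commutatorElement_def] using this
  refine ⟨h1, ?_⟩
  have : ⁅g, z⁆ = (⁅z, g⁆)⁻¹ := (commutatorElement_inv z g).symm
  rw [this]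
  exact inv_mem h1

/-- `[Z_m, G] ≤ Z_{m-1}`, elementwise, with natural subtraction. -/
theorem h4ued_comm_mem' {X : Type*} [Group X] (m : ℕ) (z g : X) (hz : z ∈ Z X m) :
    ⁅z, g⁆ ∈ Z X (m - 1) ∧ ⁅g, z⁆ ∈ Z X (m - 1) := by
  rcases m with _ | m
  · have hz1 : z = 1 := by
      have : z ∈ (⊥ : Subgroup X) := by simpa [Z] using hz
      simpa using this
    subst hz1
    simp [commutatorElement_def]
  · simpa using h4ued_comm_mem m z g hz

section mc
variable {p : ℕ} [Fact p.Prime] {G : Type u} [Group G] [Finite G] {n : ℕ}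

/-- UE-D: `[u^p, x] ≡ [u, x]^p` modulo `Z_{i-p-1}` for `u ∈ Z_i`. -/
theorem comm_pow_congr (h : MC p G n) (hn : 4 ≤ n) (s : G)
    (hs : Nat.card (Subgroup.centralizer ({s} : Set G)) ≤ p ^ 2) (i : ℕ) (hi : i ≤ n - 2)
    (u x : G) (hu : u ∈ Z G i) : ⁅u ^ p, x⁆ * (⁅u, x⁆ ^ p)⁻¹ ∈ Z G (i - p - 1) := by
  have hpp := (Fact.out : p.Prime)
  have hp2 := hpp.two_le
  set y : G := u⁻¹ with hy
  set c : G := ⁅u, x⁆ with hc
  have hyi : y ∈ Z G i := inv_mem hu
  have hyi' : y⁻¹ ∈ Z G i := by rw [hy, inv_inv]; exact hu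
  have hci : c ∈ Z G (i - 1) := (h4ued_comm_mem' i u x hu).1
  -- the conjugate of `y` by `x`
  have hconj : x * y * x⁻¹ = y * c := by
    rw [hy, hc, commutatorElement_def]; group
  have hconjp : x * y ^ p * x⁻¹ = (y * c) ^ p := by
    rw [← hconj, conj_pow]
  have hcomm : ⁅u ^ p, x⁆ = y⁻¹ ^ p * (y * c) ^ p := by
    rw [← hconjp, hy, inv_inv, commutatorElement_def, inv_pow]
    group
  -- refined Hall-Petrescu
  have hτ : ∀ k, ∀ z ∈ Z G (i - k), ⁅y⁻¹, z⁆ ∈ Z G (i - (k + 1)) := by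
    intro k z hz
    have := (h4ued_comm_mem' (i - k) z y⁻¹ hz).2
    have e : i - k - 1 = i - (k + 1) := by omega
    rwa [e] at this
  have hYY : ∀ a b, 1 ≤ a → 1 ≤ b → ⁅Z G (i - a), Z G (i - b)⁆ ≤ Z G (i - (a + b + 1)) := by
    intro a b ha hb
    refine le_trans (commutator_Z_le h (by omega) (i - a) (i - b) (by omega)) ?_
    exact Subgroup.upperCentralSeries_mono G (by omega)
  have hN2 : ∀ z ∈ Z G (i - 2), z ^ p ∈ Z G (i - p - 1) := by
    intro z hz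
    have h1 := (power_structure h hn s hs (i - 2) (by omega)).1 z hz
    exact Subgroup.upperCentralSeries_mono G (by omega) h1
  obtain ⟨w, hw, hrhp⟩ := rhp y (fun k => Z G (i - k)) (fun k => inferInstance)
    (fun k => Subgroup.upperCentralSeries_mono G (by omega)) hτ hYY p hpp (Z G (i - p - 1))
    (Subgroup.upperCentralSeries_mono G (by omega)) hN2 c hci
  -- the iterated commutator lies in `N`
  have hiter : ∀ k : ℕ, ((fun z => ⁅y⁻¹, z⁆)^[k] c) ∈ Z G (i - 1 - 2 * k) := by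
    intro k
    induction k with
    | zero => simpa using hci
    | succ k ih =>
      rw [Function.iterate_succ_apply']
      have h1 : ⁅y⁻¹, (fun z => ⁅y⁻¹, z⁆)^[k] c⁆ ∈ ⁅Z G i, Z G (i - 1 - 2 * k)⁆ :=
        Subgroup.commutator_mem_commutator hyi' ih
      have h2 := commutator_Z_le h (by omega) i (i - 1 - 2 * k) (by omega) h1
      exact Subgroup.upperCentralSeries_mono G (by omega) h2
  have ht : ((fun z => ⁅y⁻¹, z⁆)^[p - 1] c) ∈ Z G (i - p - 1) :=
    Subgroup.upperCentralSeries_mono G (by omega) (hiter (p - 1))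
  rw [hcomm, hrhp]
  have e : c ^ p * (fun z => ⁅y⁻¹, z⁆)^[p - 1] c * w * (c ^ p)⁻¹ =
      c ^ p * ((fun z => ⁅y⁻¹, z⁆)^[p - 1] c * w) * (c ^ p)⁻¹ := by group
  rw [e]
  exact (inferInstance : (Z G (i - p - 1)).Normal).conj_mem _ (mul_mem ht hw) _

end mc

end Cfsg.Agent.Lib.helper4.UE
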