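import Mathlib
import Cfsg.Agent.Lib.Helper18.PRL.Defs
import Cfsg.Agent.Lib.helper23.PRLCH1
import Cfsg.Agent.Lib.Helper10.MCPPOW
import Cfsg.Agent.Lib.helper4.UE.Defs
import Cfsg.Agent.Lib.helper4.UEA
import Cfsg.Agent.Lib.helper4.UED

/-!
# UE-PER, UE-RED: periodicity `K_i = K_{i-(p-1)}` of the two-step centralizers of a group of
maximal class with a uniform element; every `K_j` is one of `K_2, …, K_p`.
-/

set_option autoImplicit false

namespace Cfsg.Agent.Lib.helper4.UE

open Cfsg.Agent.Lib.Helper18.PRL Cfsg.Agent.Lib.helper4.MCP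
open scoped commutatorElement

universe u

section mc
variable {p : ℕ} [Fact p.Prime] {G : Type u} [Group G] [Finite G] {n : ℕ}

/-- `Z_i ∖ Z_{i-1}` is nonempty for `1 ≤ i ≤ n - 2`. -/
theorem h4ueper_exists (h : MC p G n) (hn : 3 ≤ n) (i : ℕ) (hi : 1 ≤ i) (hi' : i ≤ n - 2) :
    ∃ y ∈ Z G i, y ∉ Z G (i - 1) := by
  have hpp := (Fact.out : p.Prime)
  by_contra hcon
  have hle : Z G i ≤ Z G (i - 1) := fun y hy => by_contra fun hy' => hcon ⟨y, hy, hy'⟩
  have h1 := Subgroup.card_le_of_le hle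
  rw [card_Z h hn i hi', card_Z h hn (i - 1) (by omega)] at h1
  have := (Nat.pow_le_pow_iff_right hpp.one_lt).1 h1
  omega

/-- UE-PER: periodicity of the two-step centralizers. -/
theorem ts_periodic (h : MC p G n) (hn : 4 ≤ n) (s : G)
    (hs : Nat.card (Subgroup.centralizer ({s} : Set G)) ≤ p ^ 2) (i : ℕ) (hi : p + 1 ≤ i)
    (hi' : i ≤ n - 2) (x : G) : TS G i x ↔ TS G (i - (p - 1)) x := by
  have hpp := (Fact.out : p.Prime)
  have hp2 := hpp.two_le
  obtain ⟨y, hy, hy'⟩ := h4ueper_exists h (by omega) i (by omega) hi'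
  set c : G := ⁅y, x⁆ with hc
  have hci : c ∈ Z G (i - 1) := by
    have e : i = (i - 1) + 1 := by omega
    rw [e] at hy
    exact Subgroup.mem_upperCentralSeries_succ_iff.1 hy x
  -- (1)
  have h1 : TS G i x ↔ c ∈ Z G (i - 2) :=
    ⟨fun hts => hts y hy, fun hcm => ts_of_one h (by omega) i (by omega) hi' x y hy hy' hcm⟩
  -- (2)
  have h2 : c ∈ Z G (i - 2) ↔ c ^ p ∈ Z G (i - p - 1) := by
    constructor
    · intro hcm
      have := (power_structure h hn s hs (i - 2) (by omega)).1 c hcm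
      have e : i - 2 - (p - 1) = i - p - 1 := by omega
      rwa [e] at this
    · intro hcp
      by_contra hcm
      have e2 : i - 2 = i - 1 - 1 := by omega
      rw [e2] at hcm
      have := (power_structure h hn s hs (i - 1) (by omega)).2 (by omega) c hci hcm
      have e : i - 1 - p = i - p - 1 := by omega
      rw [e] at this
      exact this hcp
  -- (3)
  have h3 := comm_pow_congr h hn s hs i hi' y x hy
  have h3' : ⁅y ^ p, x⁆ ∈ Z G (i - p - 1) ↔ c ^ p ∈ Z G (i - p - 1) := by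
    constructor
    · intro hm
      have : c ^ p = (⁅y ^ p, x⁆ * (⁅y, x⁆ ^ p)⁻¹)⁻¹ * ⁅y ^ p, x⁆ := by rw [hc]; group
      rw [this]
      exact mul_mem (inv_mem h3) hm
    · intro hm
      have : ⁅y ^ p, x⁆ = (⁅y ^ p, x⁆ * (⁅y, x⁆ ^ p)⁻¹) * c ^ p := by rw [hc]; group
      rw [this]
      exact mul_mem h3 hm
  -- (4)
  have hyp1 : y ^ p ∈ Z G (i - (p - 1)) := (power_structure h hn s hs i hi').1 y hy
  have hyp2 : y ^ p ∉ Z G (i - (p - 1) - 1) := by
    have := (power_structure h hn s hs i hi').2 (by omega) y hy hy'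
    have e : i - (p - 1) - 1 = i - p := by omega
    rwa [e]
  have h4 : TS G (i - (p - 1)) x ↔ ⁅y ^ p, x⁆ ∈ Z G (i - p - 1) := by
    have e : i - (p - 1) - 2 = i - p - 1 := by omega
    constructor
    · intro hts
      have := hts (y ^ p) hyp1
      rwa [e] at this
    · intro hm
      refine ts_of_one h (by omega) (i - (p - 1)) (by omega) (by omega) x (y ^ p) hyp1 hyp2 ?_
      rwa [e]
  rw [h1, h2, ← h3', ← h4]

/-- UE-RED: every two-step centralizer is one of `K_2, …, K_p`. -/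
theorem ts_reduce (h : MC p G n) (hn : 4 ≤ n) (s : G)
    (hs : Nat.card (Subgroup.centralizer ({s} : Set G)) ≤ p ^ 2) (j : ℕ) (hj : 2 ≤ j)
    (hj' : j ≤ n - 2) : ∃ j' : ℕ, 2 ≤ j' ∧ j' ≤ p ∧ j' ≤ j ∧ ∀ x : G, TS G j x ↔ TS G j' x := by
  have hpp := (Fact.out : p.Prime)
  have hp2 := hpp.two_le
  induction j using Nat.strong_induction_on with
  | _ j ih =>
    rcases Nat.lt_or_ge p j with hjp | hjp
    · obtain ⟨j', h2, hp', hle, hiff⟩ := ih (j - (p - 1)) (by omega) (by omega) (by omega)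
      exact ⟨j', h2, hp', by omega, fun x =>
        (ts_periodic h hn s hs j (by omega) hj' x).trans (hiff x)⟩
    · exact ⟨j, hj, hjp, le_rfl, fun x => Iff.rfl⟩

end mc

end Cfsg.Agent.Lib.helper4.UE
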