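import Mathlib
import Cfsg.Prelude.Def_Sporadic_a
import Cfsg.Prelude.Def_SporadicCombinatorics
import Cfsg.Agent.Lib.helper4.M11PData

set_option autoImplicit false

namespace Cfsg.Agent.Lib.helper4

open Cfsg
open scoped Pointwise
open Cfsg.Agent.Lib.Helper12.Golay

set_option maxRecDepth 1000000 in
theorem LQ660_checks : (∀ p ∈ LQ660, okK p.2.1 = true ∧ fixL660 p.2.1 = true ∧
      p.2.2.1 < 11 ∧ p.2.2.2.1 < 11 ∧ p.2.2.2.2.1 < 11 ∧ p.2.2.2.2.2 < 11 ∧
      (p.2.2.1 * p.2.2.2.2.2 + 11 * 11 - p.2.2.2.1 * p.2.2.2.2.1) % 11 = 1 ∧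
      (!(Nat.beq p.2.2.2.1 0 && Nat.beq p.2.2.2.2.1 0 && Nat.beq p.2.2.1 p.2.2.2.2.2) ||
        Nat.beq p.1 (encT (List.range 24))) = true) ∧
    gA11 ∈ L660 ∧ gB11 ∈ L660 := by
  decide +kernel

set_option maxRecDepth 1000000 in
theorem LQ660_gens : (LQ660.all fun p => [gA11, gB11].all fun s =>
    match lookN (encT (compTbl p.2.1 s)) LQ660, lookN (encT s) LQ660 with
    | some r, some qs => r == mulQ11 p.2.2 qs || r == negQ11 (mulQ11 p.2.2 qs)
    | _, _ => false) = true := by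
  decide +kernel

end Cfsg.Agent.Lib.helper4
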