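import Mathlib
import Cfsg.Prelude.Def_Sporadic_a
import Cfsg.Prelude.Def_SporadicCombinatorics
import Cfsg.Agent.Lib.helper4.M11PDataB
import Cfsg.Agent.Lib.helper4.SextetKerB

set_option autoImplicit false

namespace Cfsg.Agent.Lib.helper4

open Cfsg
open scoped Pointwise
open Cfsg.Agent.Lib.Helper12.Golay

/-! ### A group listed by the 660 tables is `PSL(2, 11)` -/

theorem encT_cons (a : ℕ) (as : List ℕ) : encT (a :: as) = a + 32 * encT as := rfl

theorem encT_inj : ∀ (L1 L2 : List ℕ), L1.length = L2.length → (∀ x ∈ L1, x < 32) →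
    (∀ x ∈ L2, x < 32) → encT L1 = encT L2 → L1 = L2
  | [], [], _, _, _, _ => rfl
  | [], _ :: _, hl, _, _, _ => by simp at hl
  | _ :: _, [], hl, _, _, _ => by simp at hl
  | a :: as, b :: bs, hl, h1, h2, h => by
    rw [encT_cons, encT_cons] at h
    have ha := h1 a List.mem_cons_self
    have hb := h2 b List.mem_cons_self
    have hab : a = b ∧ encT as = encT bs := by omega
    rw [hab.1, encT_inj as bs (by simpa using hl) (fun x hx => h1 x (List.mem_cons_of_mem _ hx))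
      (fun x hx => h2 x (List.mem_cons_of_mem _ hx)) hab.2]

theorem encT_inj_valid {L1 L2 : List ℕ} (h1 : ValidT L1) (h2 : ValidT L2)
    (h : encT L1 = encT L2) : L1 = L2 :=
  encT_inj L1 L2 (h1.1.trans h2.1.symm) (fun x hx => lt_trans (h1.2.1 x hx) (by norm_num))
    (fun x hx => lt_trans (h2.2.1 x hx) (by norm_num)) h

theorem eqQ_iff {p q : ℕ × ℕ × ℕ × ℕ} : eqQ p q = true ↔ p = q := by
  obtain ⟨a, b, c, d⟩ := p
  obtain ⟨a', b', c', d'⟩ := q
  unfold eqQ
  simp only [Bool.and_eq_true, natBeq_iff, Prod.mk.injEq]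
  tauto

theorem nodupN_spec : ∀ {l : List ℕ}, nodupN l = true → l.Nodup
  | [], _ => List.nodup_nil
  | a :: as, h => by
    rw [nodupN, Bool.and_eq_true, Bool.not_eq_true', ← Bool.not_eq_true, memL_iff] at h
    exact List.nodup_cons.mpr ⟨h.1, nodupN_spec h.2⟩

theorem L660_valid {T : List ℕ} (hT : T ∈ L660) : ValidT T := by
  unfold L660 at hT
  rw [List.mem_map] at hT
  obtain ⟨p, hp, rfl⟩ := hT
  exact okK_valid (LQ660_checks.1 p hp).1

theorem L660_nodup : L660.Nodup := by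
  have h : (L660.map encT).Nodup := by
    have e : L660.map encT = K660 := by
      rw [← LQ660_codes.2.1]
      unfold L660
      rw [List.map_map]
      apply List.map_congr_left
      intro p hp
      exact (LQ660_codes.2.2.1 p hp).1
    rw [e]
    exact nodupN_spec LQ660_codes.2.2.2.1
  exact List.Nodup.of_map encT h

theorem L660_length : L660.length = 660 := by
  unfold L660
  rw [List.length_map]
  exact LQ660_codes.1

/-- Membership from the code. -/
theorem mem_L660_of_code {T : List ℕ} (hv : ValidT T) (h : memL (encT T) K660 = true) :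
    T ∈ L660 := by
  rw [memL_iff, ← LQ660_codes.2.1, List.mem_map] at h
  obtain ⟨p, hp, hpc⟩ := h
  have e1 := (LQ660_codes.2.2.1 p hp).1
  have hvp := okK_valid (LQ660_checks.1 p hp).1
  have : p.2.1 = T := encT_inj_valid hvp hv (by rw [e1, hpc])
  rw [← this]
  unfold L660
  exact List.mem_map.mpr ⟨p, hp, rfl⟩

/-- The quadruple attached to a table. -/
def qOf11 (T : List ℕ) : ℕ × ℕ × ℕ × ℕ := (lookN (encT T) LQ660).getD (1, 0, 0, 1)

theorem exists_LQ660 {T : List ℕ} (hT : T ∈ L660) :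
    ∃ p ∈ LQ660, p.2.1 = T ∧ lookN (encT T) LQ660 = some p.2.2 ∧ qOf11 T = p.2.2 := by
  unfold L660 at hT
  rw [List.mem_map] at hT
  obtain ⟨p, hp, rfl⟩ := hT
  obtain ⟨e1, e2⟩ := LQ660_codes.2.2.1 p hp
  refine ⟨p, hp, rfl, ?_, ?_⟩
  · rw [e1, e2]
  · unfold qOf11
    rw [e1, e2]
    rfl

/-! #### Matrices modulo 11 -/

/-- The matrix of a quadruple of entries. -/
def matQ11 (q : ℕ × ℕ × ℕ × ℕ) : Matrix (Fin 2) (Fin 2) (ZMod 11) :=
  !![(q.1 : ZMod 11), (q.2.1 : ZMod 11); (q.2.2.1 : ZMod 11), (q.2.2.2 : ZMod 11)]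

theorem matQ11_mulQ11 (p q : ℕ × ℕ × ℕ × ℕ) : matQ11 (mulQ11 p q) = matQ11 p * matQ11 q := by
  unfold matQ11 mulQ11
  rw [Matrix.mul_fin_two]
  simp only [ZMod.natCast_mod, Nat.cast_add, Nat.cast_mul]

theorem cast_neg11 {a : ℕ} (ha : a < 11) : (((11 - a) % 11 : ℕ) : ZMod 11) = -(a : ZMod 11) := by
  rw [ZMod.natCast_mod, Nat.cast_sub ha.le]
  have : ((11 : ℕ) : ZMod 11) = 0 := ZMod.natCast_self 11
  rw [this, zero_sub]

theorem matQ11_negQ11 {p : ℕ × ℕ × ℕ × ℕ}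
    (hp : p.1 < 11 ∧ p.2.1 < 11 ∧ p.2.2.1 < 11 ∧ p.2.2.2 < 11) :
    matQ11 (negQ11 p) = -matQ11 p := by
  unfold matQ11 negQ11
  simp only
  rw [cast_neg11 hp.1, cast_neg11 hp.2.1, cast_neg11 hp.2.2.1, cast_neg11 hp.2.2.2]
  ext i j
  fin_cases i <;> fin_cases j <;> simp

theorem det_matQ11 {p : ℕ × ℕ × ℕ × ℕ}
    (hp : p.1 < 11 ∧ p.2.1 < 11 ∧ p.2.2.1 < 11 ∧ p.2.2.2 < 11)
    (hd : (p.1 * p.2.2.2 + 11 * 11 - p.2.1 * p.2.2.1) % 11 = 1) : (matQ11 p).det = 1 := by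
  unfold matQ11
  rw [Matrix.det_fin_two_of]
  have hle : p.2.1 * p.2.2.1 ≤ p.1 * p.2.2.2 + 11 * 11 := by nlinarith [hp.2.1, hp.2.2.1]
  have h1 : (((p.1 * p.2.2.2 + 11 * 11 - p.2.1 * p.2.2.1 : ℕ)) : ZMod 11) = 1 := by
    rw [← ZMod.natCast_mod, hd, Nat.cast_one]
  rw [Nat.cast_sub hle] at h1
  push_cast at h1
  have e121 : (121 : ZMod 11) = 0 := by decide
  rw [e121, add_zero] at h1
  exact h1

end Cfsg.Agent.Lib.helper4
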