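import Mathlib
import Cfsg.Prelude.Def_Sporadic_a
import Cfsg.Prelude.Def_SporadicCombinatorics
import Cfsg.Agent.Lib.helper4.M11P

set_option autoImplicit false

namespace Cfsg.Agent.Lib.helper4

open Cfsg
open scoped Pointwise
open Cfsg.Agent.Lib.Helper12.Golay

/-! #### Elements of `SL(2, 11)` and `PSL(2, 11)` from quadruples -/

/-- Quadruples with entries below 11 and determinant 1. -/
def GoodQ (p : ℕ × ℕ × ℕ × ℕ) : Prop :=
  (p.1 < 11 ∧ p.2.1 < 11 ∧ p.2.2.1 < 11 ∧ p.2.2.2 < 11) ∧ (matQ11 p).det = 1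

/-- The element of the special linear group attached to a quadruple. -/
def slQ (q : ℕ × ℕ × ℕ × ℕ) : Matrix.SpecialLinearGroup (Fin 2) (ZMod 11) :=
  if h : (matQ11 q).det = 1 then (⟨matQ11 q, h⟩ : Matrix.SpecialLinearGroup (Fin 2) (ZMod 11))
  else 1

theorem slQ_eq {q : ℕ × ℕ × ℕ × ℕ} (h : (matQ11 q).det = 1) :
    slQ q = (⟨matQ11 q, h⟩ : Matrix.SpecialLinearGroup (Fin 2) (ZMod 11)) := dif_pos h

theorem slQ_val {q : ℕ × ℕ × ℕ × ℕ} (h : (matQ11 q).det = 1) :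
    (slQ q : Matrix (Fin 2) (Fin 2) (ZMod 11)) = matQ11 q := by
  rw [slQ_eq h]

theorem goodQ_mulQ11 {p q : ℕ × ℕ × ℕ × ℕ} (hp : GoodQ p) (hq : GoodQ q) :
    GoodQ (mulQ11 p q) := by
  refine ⟨⟨Nat.mod_lt _ (by norm_num), Nat.mod_lt _ (by norm_num), Nat.mod_lt _ (by norm_num),
    Nat.mod_lt _ (by norm_num)⟩, ?_⟩
  rw [matQ11_mulQ11, Matrix.det_mul, hp.2, hq.2, one_mul]

theorem slQ_mulQ11 {p q : ℕ × ℕ × ℕ × ℕ} (hp : GoodQ p) (hq : GoodQ q) :
    slQ (mulQ11 p q) = slQ p * slQ q := by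
  apply Subtype.ext
  rw [slQ_val (goodQ_mulQ11 hp hq).2, Matrix.SpecialLinearGroup.coe_mul, slQ_val hp.2,
    slQ_val hq.2, matQ11_mulQ11]

/-- The element of the projective special linear group attached to a quadruple. -/
def pslQ (q : ℕ × ℕ × ℕ × ℕ) :
    Matrix.ProjectiveSpecialLinearGroup (Fin 2) (ZMod 11) :=
  QuotientGroup.mk (slQ q)

theorem pslQ_mulQ11 {p q : ℕ × ℕ × ℕ × ℕ} (hp : GoodQ p) (hq : GoodQ q) :
    pslQ (mulQ11 p q) = pslQ p * pslQ q := by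
  unfold pslQ
  rw [slQ_mulQ11 hp hq]
  rfl

/-- The negative of the identity, as an element of the special linear group. -/
def negOneSL : Matrix.SpecialLinearGroup (Fin 2) (ZMod 11) :=
  ⟨-1, by rw [Matrix.det_neg, Matrix.det_one]; simp⟩

theorem negOneSL_mem_center :
    negOneSL ∈ Subgroup.center (Matrix.SpecialLinearGroup (Fin 2) (ZMod 11)) := by
  rw [Subgroup.mem_center_iff]
  intro g
  apply Subtype.ext
  rw [Matrix.SpecialLinearGroup.coe_mul, Matrix.SpecialLinearGroup.coe_mul]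
  show (g : Matrix (Fin 2) (Fin 2) (ZMod 11)) * (-1) = (-1) * (g : Matrix (Fin 2) (Fin 2) (ZMod 11))
  rw [Matrix.mul_neg, Matrix.neg_mul, mul_one, one_mul]

theorem goodQ_negQ11 {p : ℕ × ℕ × ℕ × ℕ} (hp : GoodQ p) : GoodQ (negQ11 p) := by
  refine ⟨⟨Nat.mod_lt _ (by norm_num), Nat.mod_lt _ (by norm_num), Nat.mod_lt _ (by norm_num),
    Nat.mod_lt _ (by norm_num)⟩, ?_⟩
  rw [matQ11_negQ11 hp.1, Matrix.det_neg, hp.2]
  simp

theorem pslQ_negQ11 {p : ℕ × ℕ × ℕ × ℕ} (hp : GoodQ p) : pslQ (negQ11 p) = pslQ p := by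
  unfold pslQ
  have e : slQ (negQ11 p) = slQ p * negOneSL := by
    apply Subtype.ext
    rw [slQ_val (goodQ_negQ11 hp).2, Matrix.SpecialLinearGroup.coe_mul, slQ_val hp.2,
      matQ11_negQ11 hp.1]
    show -matQ11 p = matQ11 p * (-1)
    rw [Matrix.mul_neg, mul_one]
  rw [e, QuotientGroup.mk_mul, (QuotientGroup.eq_one_iff negOneSL).mpr negOneSL_mem_center,
    mul_one]

theorem matQ11_one : matQ11 (1, 0, 0, 1) = 1 := by
  unfold matQ11
  simp [Matrix.one_fin_two]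

theorem pslQ_one : pslQ (1, 0, 0, 1) = 1 := by
  unfold pslQ
  have h : (matQ11 (1, 0, 0, 1)).det = 1 := by rw [matQ11_one, Matrix.det_one]
  have e : slQ (1, 0, 0, 1) = 1 := by
    apply Subtype.ext
    rw [slQ_val h, matQ11_one]
    rfl
  rw [e]
  rfl

theorem goodQ_of_mem {p : ℕ × List ℕ × (ℕ × ℕ × ℕ × ℕ)} (hp : p ∈ LQ660) : GoodQ p.2.2 := by
  obtain ⟨_, _, h1, h2, h3, h4, h5, _⟩ := LQ660_checks.1 p hp
  exact ⟨⟨h1, h2, h3, h4⟩, det_matQ11 ⟨h1, h2, h3, h4⟩ h5⟩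

theorem cast11_inj {a b : ℕ} (ha : a < 11) (hb : b < 11) (h : (a : ZMod 11) = (b : ZMod 11)) :
    a = b := by
  have h1 := (ZMod.natCast_eq_natCast_iff' a b 11).mp h
  rwa [Nat.mod_eq_of_lt ha, Nat.mod_eq_of_lt hb] at h1

/-- A quadruple giving the trivial element is scalar. -/
theorem scalar_of_pslQ_eq_one {p : ℕ × ℕ × ℕ × ℕ} (hp : GoodQ p) (h : pslQ p = 1) :
    p.2.1 = 0 ∧ p.2.2.1 = 0 ∧ p.1 = p.2.2.2 := by
  unfold pslQ at h
  rw [QuotientGroup.eq_one_iff, Matrix.SpecialLinearGroup.mem_center_iff] at h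
  obtain ⟨r, -, hr⟩ := h
  rw [slQ_val hp.2] at hr
  unfold matQ11 at hr
  have h00 := congrFun (congrFun hr 0) 0
  have h01 := congrFun (congrFun hr 0) 1
  have h10 := congrFun (congrFun hr 1) 0
  have h11 := congrFun (congrFun hr 1) 1
  simp only [Matrix.scalar_apply, Matrix.diagonal_apply_eq, Matrix.of_apply, Matrix.cons_val_zero,
    Matrix.cons_val_one, Matrix.cons_val', Matrix.cons_val_fin_one] at h00 h11
  rw [Matrix.scalar_apply, Matrix.diagonal_apply_ne _ (by decide)] at h01 h10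
  simp only [Matrix.of_apply, Matrix.cons_val_zero, Matrix.cons_val_one, Matrix.cons_val',
    Matrix.cons_val_fin_one] at h01 h10
  obtain ⟨⟨ha, hb, hc, hd⟩, -⟩ := hp
  refine ⟨cast11_inj hb (by norm_num) (by rw [← h01, Nat.cast_zero]),
    cast11_inj hc (by norm_num) (by rw [← h10, Nat.cast_zero]),
    cast11_inj ha hd (by rw [← h00, ← h11])⟩

end Cfsg.Agent.Lib.helper4
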