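import Mathlib
import Cfsg.Prelude.Def_Sporadic_a
import Cfsg.Prelude.Def_SporadicCombinatorics
import Cfsg.Agent.Lib.helper4.M11PB

set_option autoImplicit false

namespace Cfsg.Agent.Lib.helper4

open Cfsg
open scoped Pointwise
open Cfsg.Agent.Lib.Helper12.Golay

/-! #### The chain of products -/

theorem chain_induct (Kp : List ℕ → Prop) (all : List (List ℕ))
    (hstep : ∀ (P : List ℕ) (b : Bool), Kp P → Kp (compTbl P (if b then gA11 else gB11))) :
    ∀ (steps : List (ℕ × Bool)) (i : ℕ), (∀ k < i, Kp (all.getD k [])) →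
      chainStepsOK all i steps = true → ∀ k < i + steps.length, Kp (all.getD k [])
  | [], i, h, _ => by simpa using h
  | (j, b) :: rest, i, h, hc => by
    rw [chainStepsOK, Bool.and_eq_true, Bool.and_eq_true, beq_iff_eq] at hc
    obtain ⟨⟨hji, he⟩, hrest⟩ := hc
    have hji' : j < i := by
      have := hji
      rw [Nat.blt_eq] at this
      exact this
    have hi : Kp (all.getD i []) := by
      rw [← he]
      exact hstep _ b (h j hji')
    have h' : ∀ k < i + 1, Kp (all.getD k []) := by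
      intro k hk
      rcases Nat.lt_succ_iff_lt_or_eq.mp hk with hk' | hk'
      · exact h k hk'
      · rw [hk']
        exact hi
    intro k hk
    apply chain_induct Kp all hstep rest (i + 1) h' hrest k
    rw [List.length_cons] at hk
    omega

section AbstractPSL

variable {G : Type*} [Group G] (f : G → List ℕ)

/-- The candidate isomorphism. -/
def psiQ (g : G) : Matrix.ProjectiveSpecialLinearGroup (Fin 2) (ZMod 11) := pslQ (qOf11 (f g))

theorem psiQ_mul_gen (hmul : ∀ a b, f (a * b) = compTbl (f a) (f b)) (h1 : ∀ a, f a ∈ L660)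
    (g s : G) (hs : f s = gA11 ∨ f s = gB11) : psiQ f (g * s) = psiQ f g * psiQ f s := by
  obtain ⟨p, hp, hp1, -, hp3⟩ := exists_LQ660 (h1 g)
  obtain ⟨ps, hps, hps1, hps2, hps3⟩ := exists_LQ660 (h1 s)
  have hg := LQ660_gens
  rw [List.all_eq_true] at hg
  have h3 := hg p hp
  rw [List.all_eq_true] at h3
  have h4 := h3 (f s) (by
    rcases hs with hs | hs
    · rw [hs]; simp
    · rw [hs]; simp)
  rw [hp1, ← hmul, hps2] at h4
  unfold psiQ
  rw [hp3, hps3]
  have hgp := goodQ_of_mem hp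
  have hgs := goodQ_of_mem hps
  cases hl : lookN (encT (f (g * s))) LQ660 with
  | none => rw [hl] at h4; simp at h4
  | some r =>
    rw [hl] at h4
    simp only [Bool.or_eq_true, beq_iff_eq] at h4
    have hq : qOf11 (f (g * s)) = r := by
      unfold qOf11
      rw [hl]
      rfl
    rw [hq]
    rcases h4 with h4 | h4
    · rw [h4, pslQ_mulQ11 hgp hgs]
    · rw [h4, pslQ_negQ11 (goodQ_mulQ11 hgp hgs), pslQ_mulQ11 hgp hgs]

theorem psiQ_one (hone : f 1 = List.range 24) : psiQ f (1 : G) = 1 := by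
  unfold psiQ qOf11
  rw [hone, LQ660_codes.2.2.2.2]
  exact pslQ_one

theorem psiQ_mul (hf : Function.Injective f) (hmul : ∀ a b, f (a * b) = compTbl (f a) (f b))
    (hone : f 1 = List.range 24) (h1 : ∀ a, f a ∈ L660) (h2 : ∀ L ∈ L660, ∃ a, f a = L)
    (g h : G) : psiQ f (g * h) = psiQ f g * psiQ f h := by
  obtain ⟨sA, hsA⟩ := h2 gA11 LQ660_checks.2.1
  obtain ⟨sB, hsB⟩ := h2 gB11 LQ660_checks.2.2
  let Kp : List ℕ → Prop := fun T => (∃ h, f h = T) ∧
    ∀ h, f h = T → ∀ g, psiQ f (g * h) = psiQ f g * psiQ f h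
  have hstep : ∀ (P : List ℕ) (b : Bool), Kp P → Kp (compTbl P (if b then gA11 else gB11)) := by
    rintro P b ⟨⟨hP, hPf⟩, hK⟩
    obtain ⟨s, hs, hs'⟩ : ∃ s, f s = (if b then gA11 else gB11) ∧ (f s = gA11 ∨ f s = gB11) := by
      cases b
      · exact ⟨sB, by simpa using hsB, Or.inr hsB⟩
      · exact ⟨sA, by simpa using hsA, Or.inl hsA⟩
    have e : f (hP * s) = compTbl P (if b then gA11 else gB11) := by rw [hmul, hPf, hs]
    refine ⟨⟨hP * s, e⟩, ?_⟩
    intro h hh g
    have : h = hP * s := hf (hh.trans e.symm)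
    rw [this, ← mul_assoc, psiQ_mul_gen f hmul h1 (g * hP) s hs', hK hP hPf g,
      psiQ_mul_gen f hmul h1 hP s hs', mul_assoc]
  have hbase : ∀ k < 1, Kp (L660.getD k []) := by
    intro k hk
    have : k = 0 := by omega
    rw [this, steps659_checks.2.2]
    refine ⟨⟨1, hone⟩, ?_⟩
    intro h hh g
    have : h = 1 := hf (hh.trans hone.symm)
    rw [this, mul_one, psiQ_one f hone, mul_one]
  have hall := chain_induct Kp L660 hstep steps659 1 hbase steps659_checks.1
  rw [steps659_checks.2.1] at hall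
  obtain ⟨k, hk, hkh⟩ := List.mem_iff_getElem.mp (h1 h)
  have hk' : k < 1 + 659 := by rw [L660_length] at hk; omega
  have hKp := hall k hk'
  rw [List.getD_eq_getElem _ _ hk, hkh] at hKp
  exact hKp.2 h rfl g

theorem psiQ_injective (hf : Function.Injective f)
    (hmul : ∀ a b, f (a * b) = compTbl (f a) (f b))
    (hone : f 1 = List.range 24) (h1 : ∀ a, f a ∈ L660) (h2 : ∀ L ∈ L660, ∃ a, f a = L) :
    Function.Injective (psiQ f) := by
  have hker : ∀ g, psiQ f g = 1 → g = 1 := by
    intro g hg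
    obtain ⟨p, hp, hp1, -, hp3⟩ := exists_LQ660 (h1 g)
    unfold psiQ at hg
    rw [hp3] at hg
    obtain ⟨e1, e2, e3⟩ := scalar_of_pslQ_eq_one (goodQ_of_mem hp) hg
    have hc := (LQ660_checks.1 p hp).2.2.2.2.2.2.2
    rw [e1, e2, e3] at hc
    simp only [Nat.beq_refl, Bool.and_self, Bool.not_true, Bool.false_or, natBeq_iff] at hc
    have hv := L660_valid (h1 g)
    have hvid : ValidT (List.range 24) := by decide
    apply hf
    rw [hone]
    apply encT_inj_valid hv hvid
    rw [← hp1, (LQ660_codes.2.2.1 p hp).1, hc]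
  intro a b hab
  have h3 : psiQ f (a * b⁻¹) = 1 := by
    have h4 := psiQ_mul f hf hmul hone h1 h2 (a * b⁻¹) b
    rw [inv_mul_cancel_right, hab] at h4
    exact (mul_eq_right.mp h4.symm)
  exact mul_inv_eq_one.mp (hker _ h3)

theorem psiQ_surjective (h2 : ∀ L ∈ L660, ∃ a, f a = L) : Function.Surjective (psiQ f) := by
  intro x
  obtain ⟨A, rfl⟩ := QuotientGroup.mk_surjective x
  set a := (A.1 0 0).val with ha
  set b := (A.1 0 1).val with hb
  set c := (A.1 1 0).val with hc
  set d := (A.1 1 1).val with hd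
  have la : a < 11 := ZMod.val_lt _
  have lb : b < 11 := ZMod.val_lt _
  have lc : c < 11 := ZMod.val_lt _
  have ld : d < 11 := ZMod.val_lt _
  have hmat : matQ11 (a, b, c, d) = A.1 := by
    unfold matQ11
    simp only [ha, hb, hc, hd, ZMod.natCast_zmod_val]
    ext i j
    fin_cases i <;> fin_cases j <;> rfl
  have hgood : GoodQ (a, b, c, d) := ⟨⟨la, lb, lc, ld⟩, by rw [hmat]; exact A.2⟩
  have hdet : (a * d + 11 * 11 - b * c) % 11 = 1 := by
    have h := hgood.2
    unfold matQ11 at h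
    rw [Matrix.det_fin_two_of] at h
    have hle : b * c ≤ a * d + 11 * 11 := by nlinarith
    have h1 : (((a * d + 11 * 11 - b * c : ℕ)) : ZMod 11) = ((1 : ℕ) : ZMod 11) := by
      rw [Nat.cast_sub hle]
      push_cast
      have e121 : (121 : ZMod 11) = 0 := by decide
      rw [e121, add_zero]
      exact h
    have h3 := (ZMod.natCast_eq_natCast_iff' _ _ 11).mp h1
    rw [h3]
  have hs := LQ660_surj
  simp only [List.all_eq_true, List.mem_range] at hs
  have h5 := hs a la b lb c lc d ld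
  rw [Bool.or_eq_true, Bool.not_eq_true', ← Bool.not_eq_true, natBeq_iff] at h5
  rcases h5 with h5 | h5
  · exact absurd hdet h5
  rw [List.any_eq_true] at h5
  obtain ⟨p, hp, hpq⟩ := h5
  rw [Bool.or_eq_true, eqQ_iff, eqQ_iff] at hpq
  have hT : p.2.1 ∈ L660 := by
    unfold L660
    exact List.mem_map.mpr ⟨p, hp, rfl⟩
  obtain ⟨g, hg⟩ := h2 _ hT
  refine ⟨g, ?_⟩
  obtain ⟨p', hp', hp1', -, hp3'⟩ := exists_LQ660 hT
  have hpp : p'.2.2 = p.2.2 := by
    have e1 := (LQ660_codes.2.2.1 p hp)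
    have e2 := (LQ660_codes.2.2.1 p' hp')
    have : p'.1 = p.1 := by rw [← e1.1, ← e2.1, hp1']
    have h6 := e2.2
    rw [this, e1.2] at h6
    exact (Option.some.inj h6).symm
  unfold psiQ
  rw [hg, hp3', hpp]
  have hfin : pslQ (a, b, c, d) = QuotientGroup.mk A := by
    unfold pslQ
    congr 1
    apply Subtype.ext
    rw [slQ_val hgood.2, hmat]
  rcases hpq with hpq | hpq
  · rw [hpq, hfin]
  · rw [hpq, pslQ_negQ11 hgood, hfin]

/-- A group listed by the 660 tables is isomorphic to `PSL(2, 11)`. -/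
theorem psl211_of_L660 (hf : Function.Injective f)
    (hmul : ∀ a b, f (a * b) = compTbl (f a) (f b)) (hone : f 1 = List.range 24)
    (h1 : ∀ a, f a ∈ L660) (h2 : ∀ L ∈ L660, ∃ a, f a = L) :
    Nonempty (G ≃* Matrix.ProjectiveSpecialLinearGroup (Fin 2) (ZMod 11)) :=
  ⟨MulEquiv.ofBijective (MonoidHom.mk' (psiQ f) (psiQ_mul f hf hmul hone h1 h2))
    ⟨psiQ_injective f hf hmul hone h1 h2, psiQ_surjective f h2⟩⟩

end AbstractPSL

end Cfsg.Agent.Lib.helper4
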