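import Mathlib
import Cfsg.Prelude.Def_Sporadic_a
import Cfsg.Prelude.Def_SporadicCombinatorics
import Cfsg.Agent.Lib.helper4.M11PData

set_option autoImplicit false

namespace Cfsg.Agent.Lib.helper4

open Cfsg
open scoped Pointwise
open Cfsg.Agent.Lib.Helper12.Golay

set_option maxRecDepth 1000000 in
theorem L660_complete : (T110.all fun t => M72.all fun m =>
    forceList (compTbl t m) fun C => !Nat.beq (C.getD 2 0) 2 || memL (encT C) K660) = true := by
  decide +kernel

end Cfsg.Agent.Lib.helper4
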