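import Mathlib
import Cfsg.Prelude.Def_Sporadic_a
import Cfsg.Prelude.Def_SporadicCombinatorics
import Cfsg.Agent.Lib.helper4.M11PC
import Cfsg.Agent.Lib.helper4.M11PDataC
import Cfsg.Agent.Lib.helper4.M11C

set_option autoImplicit false

namespace Cfsg.Agent.Lib.helper4

open Cfsg MulAction
open scoped Pointwise
open Cfsg.Agent.Lib.Helper12.Golay

/-! ### The stabiliser of a dodecad, a point of it and a point outside it -/

/-- The elements fixing the standard dodecad, its point `0` and the outside point `2`. -/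
def G660 : Set (Equiv.Perm GolayPt) := {g | g ∈ G11 ∧ g (pt 2) = pt 2}

theorem tblOf_mem_L660 {g : Equiv.Perm GolayPt} (hg : g ∈ G660) : tblOf g ∈ L660 := by
  have h := forall_G11 _ L660_complete hg.1
  have e : Nat.beq ((tblOf g).getD 2 0) 2 = true := by
    rw [natBeq_iff, tblOf_getD g (by norm_num), hg.2, idx_pt (by norm_num)]
  rw [e] at h
  simp only [Bool.not_true, Bool.false_or] at h
  exact mem_L660_of_code (validT_tblOf g) h

theorem fperm_mem_G660 {L : List ℕ} (hL : L ∈ L660) : okK L = true ∧ fperm L ∈ G660 := by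
  unfold L660 at hL
  rw [List.mem_map] at hL
  obtain ⟨p, hp, rfl⟩ := hL
  obtain ⟨hok, hfix, -⟩ := LQ660_checks.1 p hp
  unfold fixL660 at hfix
  rw [Bool.and_eq_true, natBeq_iff] at hfix
  refine ⟨hok, fperm_mem_G11 hok hfix.1, ?_⟩
  rw [fperm_pt (okK_valid hok) (by norm_num), hfix.2]

/-- Moving the standard configuration to any other. -/
theorem exists_move660 (d : Finset GolayPt) (hd : d ∈ dodecads) (p q : GolayPt) (hp : p ∈ d)
    (hq : q ∉ d) : ∃ k : M24, k • fs dd9 = d ∧ k • pt 0 = p ∧ k • pt 2 = q := by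
  obtain ⟨_, _, _, b0, _⟩ := dd9_checks
  have hm : pt 0 ∈ fs dd9 := by
    rw [mem_fs, idx_pt (by norm_num)]
    exact b0
  have hn : pt 2 ∉ fs dd9 := by
    rw [mem_fs, idx_pt (by norm_num)]
    decide
  obtain ⟨k1, hk1⟩ := dflag1_out (fs dd9) fs_dd9_mem (pt 0) hm (pt 2) hn
  obtain ⟨k2, hk2⟩ := dflag1_out d hd p hp q hq
  have h : (k2 * k1⁻¹) • (((fs dd9, pt 0), pt 2) : Flag2) = ((d, p), q) := by
    rw [← hk1, mul_smul, inv_smul_smul, hk2]
  refine ⟨k2 * k1⁻¹, ?_⟩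
  simp only [Prod.smul_mk, Prod.mk.injEq] at h
  obtain ⟨⟨h1, h2⟩, h3⟩ := h
  exact ⟨h1, h2, h3⟩

/-- The subgroup fixing a dodecad, a point of it and a point outside it is listed by the 660
tables. -/
theorem m11_pt_tables (d : Finset GolayPt) (hd : d ∈ dodecads) (p q : GolayPt) (hp : p ∈ d)
    (hq : q ∉ d) :
    ∃ f : ↥(stabilizer M24 d ⊓ stabilizer M24 p ⊓ stabilizer M24 q) → List ℕ,
      Function.Injective f ∧ (∀ a b, f (a * b) = compTbl (f a) (f b)) ∧ f 1 = List.range 24 ∧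
      (∀ a, f a ∈ L660) ∧ ∀ L ∈ L660, ∃ a, f a = L := by
  obtain ⟨k, hkd, hkp, hkq⟩ := exists_move660 d hd p q hp hq
  refine ⟨fun a => tblOf ((k⁻¹ * a.1 * k : M24) : Equiv.Perm GolayPt), ?_, ?_, ?_, ?_, ?_⟩
  · intro a b hab
    have h1 := tblOf_injective hab
    have h2 : k⁻¹ * a.1 * k = k⁻¹ * b.1 * k := Subtype.ext h1
    apply Subtype.ext
    exact mul_left_cancel (mul_right_cancel h2)
  · intro a b
    show tblOf ((k⁻¹ * (a * b).1 * k : M24) : Equiv.Perm GolayPt) = _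
    rw [← tblOf_mul, ← Subgroup.coe_mul]
    congr 2
    rw [Subgroup.coe_mul]
    group
  · show tblOf ((k⁻¹ * (1 : ↥(stabilizer M24 d ⊓ stabilizer M24 p ⊓ stabilizer M24 q)).1 * k :
      M24) : Equiv.Perm GolayPt) = _
    rw [Subgroup.coe_one, mul_one, inv_mul_cancel, Subgroup.coe_one, tblOf_one]
  · intro a
    apply tblOf_mem_L660
    have ha := a.2
    rw [Subgroup.mem_inf, Subgroup.mem_inf] at ha
    obtain ⟨⟨ad, ap⟩, aq⟩ := ha
    rw [mem_stabilizer_iff] at ad ap aq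
    refine ⟨⟨(k⁻¹ * a.1 * k).2, ?_, ?_⟩, ?_⟩
    · show (k⁻¹ * a.1 * k) • fs dd9 = fs dd9
      rw [mul_smul, mul_smul, hkd, ad, ← hkd, inv_smul_smul]
    · show (k⁻¹ * a.1 * k) • pt 0 = pt 0
      rw [mul_smul, mul_smul, hkp, ap, ← hkp, inv_smul_smul]
    · show (k⁻¹ * a.1 * k) • pt 2 = pt 2
      rw [mul_smul, mul_smul, hkq, aq, ← hkq, inv_smul_smul]
  · intro L hL
    obtain ⟨hok, ⟨hM, hfd, hf0⟩, hf2⟩ := fperm_mem_G660 hL
    set F : M24 := ⟨fperm L, hM⟩ with hF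
    have Fd : F • fs dd9 = fs dd9 := hfd
    have F0 : F • pt 0 = pt 0 := hf0
    have F2 : F • pt 2 = pt 2 := hf2
    have hmem : k * F * k⁻¹ ∈ stabilizer M24 d ⊓ stabilizer M24 p ⊓ stabilizer M24 q := by
      rw [Subgroup.mem_inf, Subgroup.mem_inf]
      refine ⟨⟨?_, ?_⟩, ?_⟩
      · rw [mem_stabilizer_iff, mul_smul, mul_smul, ← hkd, inv_smul_smul, Fd]
      · rw [mem_stabilizer_iff, mul_smul, mul_smul, ← hkp, inv_smul_smul, F0]
      · rw [mem_stabilizer_iff, mul_smul, mul_smul, ← hkq, inv_smul_smul, F2]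
    refine ⟨⟨k * F * k⁻¹, hmem⟩, ?_⟩
    show tblOf ((k⁻¹ * (k * F * k⁻¹) * k : M24) : Equiv.Perm GolayPt) = L
    have e : k⁻¹ * (k * F * k⁻¹) * k = F := by group
    rw [e]
    exact tblOf_fperm (okK_valid hok)

/-- **A point stabiliser of the smallest Mathieu group on the complementary dodecad** is
isomorphic to `PSL(2, 11)`. -/
theorem m11_pt_main (d : Finset GolayPt) (hd : d ∈ dodecads) (p q : GolayPt) (hp : p ∈ d)
    (hq : q ∉ d) :
    Nonempty (↥(stabilizer M24 d ⊓ stabilizer M24 p ⊓ stabilizer M24 q) ≃*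
      Matrix.ProjectiveSpecialLinearGroup (Fin 2) (ZMod 11)) := by
  obtain ⟨f, hf, hmul, hone, h1, h2⟩ := m11_pt_tables d hd p q hp hq
  exact psl211_of_L660 f hf hmul hone h1 h2

end Cfsg.Agent.Lib.helper4
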