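import Mathlib
import Cfsg.Agent.Lib.helper4.ElemEnum

set_option autoImplicit false

/-! Polycyclic normal forms for explicit `2`-subgroups of the group of the length-24 code, given by
generator tables. -/

namespace Cfsg.Agent.Lib.helper4

open Cfsg Cfsg.Agent.Lib.Helper12.Golay

/-- inverse table -/
def invTab (T : List ℕ) : List ℕ := (List.range 24).map fun i => T.idxOf i

/-- the permutations whose tables are in a list -/
def fset (gs : List (List ℕ)) : Set (Equiv.Perm GolayPt) := {x | ∃ T ∈ gs, x = fperm T}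

/-- the subgroup generated by a list of tables -/
def tgrp (gs : List (List ℕ)) : Subgroup (Equiv.Perm GolayPt) := Subgroup.closure (fset gs)

/-- normal forms `g₁^{e₁} ⋯ g_k^{e_k}` -/
def nfList : List (List ℕ) → List (List ℕ)
  | [] => [List.range 24]
  | g :: rest => nfList rest ++ (nfList rest).map (compTbl g)

/-- the polycyclic relations, checked on tables -/
def pcOK : List (List ℕ) → Bool
  | [] => true
  | g :: rest => decide (ValidT g) && decide (ValidT (invTab g)) &&
      (compTbl g (invTab g) == List.range 24) &&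
      (nfList rest).contains (compTbl g g) &&
      rest.all (fun h => (nfList rest).contains (compTbl (invTab g) (compTbl h g))) &&
      pcOK rest

theorem tgrp_mono {g : List ℕ} {rest : List (List ℕ)} : tgrp rest ≤ tgrp (g :: rest) := by
  apply Subgroup.closure_mono
  rintro x ⟨T, hT, rfl⟩
  exact ⟨T, List.mem_cons_of_mem _ hT, rfl⟩

theorem fperm_mem_tgrp {g : List ℕ} {gs : List (List ℕ)} (h : g ∈ gs) : fperm g ∈ tgrp gs :=
  Subgroup.subset_closure ⟨g, h, rfl⟩

theorem pcOK_valid : ∀ {gs : List (List ℕ)}, pcOK gs = true → ∀ g ∈ gs, ValidT g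
  | [], _ => by simp
  | g :: rest, h => by
    unfold pcOK at h
    simp only [Bool.and_eq_true, decide_eq_true_eq] at h
    intro g' hg'
    rcases List.mem_cons.mp hg' with rfl | h'
    · exact h.1.1.1.1.1
    · exact pcOK_valid h.2 g' h'

/-- every normal form is the table of an element of the generated subgroup -/
theorem nf_sound : ∀ {gs : List (List ℕ)}, (∀ g ∈ gs, ValidT g) → ∀ T ∈ nfList gs,
    ∃ x ∈ tgrp gs, tblOf x = T
  | [], _, T, hT => by
    unfold nfList at hT
    rw [List.mem_singleton] at hT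
    exact ⟨1, Subgroup.one_mem _, by rw [tblOf_one, hT]⟩
  | g :: rest, hv, T, hT => by
    unfold nfList at hT
    have hvr : ∀ g' ∈ rest, ValidT g' := fun g' h' => hv g' (List.mem_cons_of_mem _ h')
    rcases List.mem_append.mp hT with h | h
    · obtain ⟨x, hx, e⟩ := nf_sound hvr T h
      exact ⟨x, tgrp_mono hx, e⟩
    · obtain ⟨T', hT', rfl⟩ := List.mem_map.mp h
      obtain ⟨x, hx, e⟩ := nf_sound hvr T' hT'
      refine ⟨fperm g * x, Subgroup.mul_mem _ (fperm_mem_tgrp List.mem_cons_self) (tgrp_mono hx), ?_⟩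
      rw [tblOf_mul, tblOf_fperm (hv g List.mem_cons_self), e]

/-- the relations read off from the table check -/
theorem pc_rel {g : List ℕ} {rest : List (List ℕ)} (h : pcOK (g :: rest) = true) :
    ValidT g ∧ fperm g * fperm g ∈ tgrp rest ∧
      (∀ T ∈ rest, (fperm g)⁻¹ * fperm T * fperm g ∈ tgrp rest) ∧ pcOK rest = true := by
  unfold pcOK at h
  simp only [Bool.and_eq_true, decide_eq_true_eq, beq_iff_eq, List.contains_iff_mem,
    List.all_eq_true] at h
  obtain ⟨⟨⟨⟨⟨hvg, hvi⟩, hinv⟩, hsq⟩, hconj⟩, hrest⟩ := h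
  have hvr : ∀ g' ∈ rest, ValidT g' := pcOK_valid hrest
  have hainv : fperm (invTab g) = (fperm g)⁻¹ := by
    apply eq_inv_of_mul_eq_one_right
    apply tblOf_injective
    rw [tblOf_mul, tblOf_fperm hvg, tblOf_fperm hvi, hinv, tblOf_one]
  refine ⟨hvg, ?_, ?_, hrest⟩
  · obtain ⟨y, hy, e⟩ := nf_sound hvr _ hsq
    have : fperm g * fperm g = y := by
      apply tblOf_injective
      rw [e, tblOf_mul, tblOf_fperm hvg]
    rw [this]; exact hy
  · intro T hT
    obtain ⟨y, hy, e⟩ := nf_sound hvr _ (hconj T hT)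
    have : (fperm g)⁻¹ * fperm T * fperm g = y := by
      apply tblOf_injective
      rw [e, mul_assoc, tblOf_mul, tblOf_mul, ← hainv, tblOf_fperm hvi, tblOf_fperm (hvr T hT),
        tblOf_fperm hvg]
    rw [this]; exact hy

/-- an element of the generated subgroup lies in the next term of the series or in its coset -/
theorem pc_dichotomy {g : List ℕ} {rest : List (List ℕ)} (h : pcOK (g :: rest) = true)
    {x : Equiv.Perm GolayPt} (hx : x ∈ tgrp (g :: rest)) :
    x ∈ tgrp rest ∨ (fperm g)⁻¹ * x ∈ tgrp rest := by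
  obtain ⟨-, hsqK, hcK, -⟩ := pc_rel h
  set a := fperm g with ha
  unfold tgrp at hx
  induction hx using Subgroup.closure_induction_left with
  | one => exact Or.inl (Subgroup.one_mem _)
  | mul_left s hs y _ ihy =>
    obtain ⟨T, hT, rfl⟩ := hs
    rcases List.mem_cons.mp hT with rfl | hT'
    · rcases ihy with h1 | h1
      · right
        rw [← ha, inv_mul_cancel_left]; exact h1
      · left
        have : fperm T * y = (a * a) * (a⁻¹ * y) := by rw [← ha]; group
        rw [this]; exact Subgroup.mul_mem _ hsqK h1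
    · rcases ihy with h1 | h1
      · left
        exact Subgroup.mul_mem _ (fperm_mem_tgrp hT') h1
      · right
        have : a⁻¹ * (fperm T * y) = (a⁻¹ * fperm T * a) * (a⁻¹ * y) := by group
        rw [this]; exact Subgroup.mul_mem _ (hcK T hT') h1
  | inv_mul_cancel s hs y _ ihy =>
    obtain ⟨T, hT, rfl⟩ := hs
    rcases List.mem_cons.mp hT with rfl | hT'
    · rcases ihy with h1 | h1
      · right
        have : a⁻¹ * ((fperm T)⁻¹ * y) = (a * a)⁻¹ * y := by rw [← ha]; group
        rw [this]; exact Subgroup.mul_mem _ (Subgroup.inv_mem _ hsqK) h1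
      · left
        rw [← ha]; exact h1
    · rcases ihy with h1 | h1
      · left
        exact Subgroup.mul_mem _ (Subgroup.inv_mem _ (fperm_mem_tgrp hT')) h1
      · right
        have : a⁻¹ * ((fperm T)⁻¹ * y) = (a⁻¹ * fperm T * a)⁻¹ * (a⁻¹ * y) := by group
        rw [this]; exact Subgroup.mul_mem _ (Subgroup.inv_mem _ (hcK T hT')) h1

/-- every element of the generated subgroup has its table among the normal forms -/
theorem nf_complete : ∀ {gs : List (List ℕ)}, pcOK gs = true → ∀ x ∈ tgrp gs, tblOf x ∈ nfList gs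
  | [], _, x, hx => by
    have : x = 1 := by
      have h0 : tgrp [] = ⊥ := by
        unfold tgrp
        rw [Subgroup.closure_eq_bot_iff]
        rintro y ⟨T, hT, -⟩
        simp at hT
      rw [h0, Subgroup.mem_bot] at hx
      exact hx
    rw [this, tblOf_one]
    simp [nfList]
  | g :: rest, h, x, hx => by
    obtain ⟨hvg, -, -, hrest⟩ := pc_rel h
    have ih := fun y hy => nf_complete hrest y hy
    unfold nfList
    rw [List.mem_append]
    rcases pc_dichotomy h hx with h1 | h1
    · exact Or.inl (ih x h1)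
    · right
      rw [List.mem_map]
      refine ⟨tblOf ((fperm g)⁻¹ * x), ih _ h1, ?_⟩
      rw [← tblOf_fperm hvg, ← tblOf_mul, tblOf_fperm hvg]
      congr 1
      group

/-- conjugation by the leading generator preserves the next term of the series -/
theorem pc_conj_mem {g : List ℕ} {rest : List (List ℕ)} (h : pcOK (g :: rest) = true)
    {y : Equiv.Perm GolayPt} (hy : y ∈ tgrp rest) : (fperm g)⁻¹ * y * fperm g ∈ tgrp rest := by
  obtain ⟨-, -, hcK, -⟩ := pc_rel h
  unfold tgrp at hy
  induction hy using Subgroup.closure_induction with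
  | mem x hx =>
    obtain ⟨T, hT, rfl⟩ := hx
    exact hcK T hT
  | one => simp [Subgroup.one_mem]
  | mul x y _ _ ihx ihy =>
    have : (fperm g)⁻¹ * (x * y) * fperm g =
        ((fperm g)⁻¹ * x * fperm g) * ((fperm g)⁻¹ * y * fperm g) := by group
    rw [this]; exact Subgroup.mul_mem _ ihx ihy
  | inv x _ ihx =>
    have : (fperm g)⁻¹ * x⁻¹ * fperm g = ((fperm g)⁻¹ * x * fperm g)⁻¹ := by group
    rw [this]; exact Subgroup.inv_mem _ ihx

/-- the generated subgroup has exponent dividing `2 ^ k` -/
theorem pc_pow : ∀ {gs : List (List ℕ)}, pcOK gs = true → ∀ x ∈ tgrp gs, x ^ (2 ^ gs.length) = 1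
  | [], _, x, hx => by
    have h0 : tgrp [] = ⊥ := by
      unfold tgrp
      rw [Subgroup.closure_eq_bot_iff]
      rintro y ⟨T, hT, -⟩
      simp at hT
    rw [h0, Subgroup.mem_bot] at hx
    rw [hx]; simp
  | g :: rest, h, x, hx => by
    obtain ⟨-, hsqK, -, hrest⟩ := pc_rel h
    have ih := fun y hy => pc_pow hrest y hy
    have hx2 : x * x ∈ tgrp rest := by
      rcases pc_dichotomy h hx with h1 | h1
      · exact Subgroup.mul_mem _ h1 h1
      · have h2 := pc_conj_mem h h1
        have : x * x = (fperm g * fperm g) * ((fperm g)⁻¹ * ((fperm g)⁻¹ * x) * fperm g) *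
            ((fperm g)⁻¹ * x) := by group
        rw [this]
        exact Subgroup.mul_mem _ (Subgroup.mul_mem _ hsqK h2) h1
    rw [List.length_cons, pow_succ, mul_comm, pow_mul, pow_two]
    exact ih _ hx2

theorem tgrp_isPGroup {gs : List (List ℕ)} (h : pcOK gs = true) : IsPGroup 2 (tgrp gs) := by
  intro x
  refine ⟨gs.length, ?_⟩
  apply Subtype.ext
  rw [Subgroup.coe_pow, pc_pow h x x.2]
  rfl

/-- the generated subgroup as the set of permutations with tables among the normal forms -/
theorem mem_tgrp_iff {gs : List (List ℕ)} (h : pcOK gs = true) (x : Equiv.Perm GolayPt) :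
    x ∈ tgrp gs ↔ tblOf x ∈ nfList gs := by
  refine ⟨nf_complete h x, fun hx => ?_⟩
  obtain ⟨y, hy, e⟩ := nf_sound (pcOK_valid h) _ hx
  rw [tblOf_injective e.symm]
  exact hy

end Cfsg.Agent.Lib.helper4
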