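import Mathlib
import Cfsg.Agent.Lib.helper4.FusPC
import Cfsg.Agent.Lib.helper4.OutM24
import Cfsg.Agent.Lib.Helper1.Nilp

set_option autoImplicit false

/-! Generic lemmas on explicit `2`-subgroups of the group of the length-24 code: inverse tables,
change of base for the enumeration by five points, the centre, and normaliser computations. -/

namespace Cfsg.Agent.Lib.helper4

open Cfsg Cfsg.Agent.Lib.Helper12.Golay

theorem tblOf_validT (g : Equiv.Perm GolayPt) : ValidT (tblOf g) := by
  refine ⟨tblOf_length g, tblOf_lt g, ?_⟩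
  unfold tblOf
  refine (List.nodup_map_iff_inj_on List.nodup_range).mpr ?_
  intro a ha b hb hab
  rw [List.mem_range] at ha hb
  exact pt_injOn ha hb (g.injective (idx_injective hab))

theorem fperm_tblOf (g : Equiv.Perm GolayPt) : fperm (tblOf g) = g :=
  tblOf_injective (tblOf_fperm (tblOf_validT g))

theorem invTab_length (T : List ℕ) : (invTab T).length = 24 := by simp [invTab]

theorem tblOf_inv (g : Equiv.Perm GolayPt) : tblOf g⁻¹ = invTab (tblOf g) := by
  apply list_ext_getD (tblOf_length _) (invTab_length _)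
  intro i hi
  rw [tblOf_getD _ hi]
  unfold invTab
  rw [List.getD_eq_getElem _ _ (by simpa using hi)]
  simp only [List.getElem_map, List.getElem_range]
  have hj : idx (g⁻¹ (pt i)) < (tblOf g).length := by rw [tblOf_length]; exact idx_lt _
  have h1 : (tblOf g)[idx (g⁻¹ (pt i))] = i := by
    have := tblOf_getD g (idx_lt (g⁻¹ (pt i)))
    rw [List.getD_eq_getElem _ _ hj] at this
    rw [this, pt_idx, Equiv.Perm.inv_def, Equiv.apply_symm_apply, idx_pt hi]
  have h2 := (tblOf_validT g).2.2.idxOf_getElem _ hj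
  rw [h1] at h2
  exact h2.symm

theorem tblOf_conj (g s : Equiv.Perm GolayPt) :
    tblOf (g * s * g⁻¹) = compTbl (compTbl (tblOf g) (tblOf s)) (invTab (tblOf g)) := by
  rw [tblOf_mul, tblOf_mul, tblOf_inv]

/-- point-level reading of a table -/
theorem apply_pt_eq (g : Equiv.Perm GolayPt) {i : ℕ} (hi : i < 24) :
    g (pt i) = pt ((tblOf g).getD i 0) := by
  rw [tblOf_getD g hi, pt_idx]

theorem tblOf_getD_lt (g : Equiv.Perm GolayPt) (i : ℕ) : (tblOf g).getD i 0 < 24 := by
  by_cases h : i < 24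
  · rw [tblOf_getD g h]; exact idx_lt _
  · rw [List.getD_eq_default _ _ (by rw [tblOf_length]; omega)]; norm_num

/-- candidate table for the enumeration with a moved base -/
def candT (H hh hi K : List ℕ) : List ℕ := compTbl (compTbl (compTbl H hh) K) hi

/-- Enumeration by five points with the base moved by `hh`. -/
theorem enumBase {g : Equiv.Perm GolayPt} (hg : g ∈ M24) {hh : List ℕ} (hhh : okK hh = true)
    {H : List ℕ} (hH : okK H = true)
    (hag : ∀ j < 5, g (pt (hh.getD (b5 j) 0)) = pt (H.getD (hh.getD (b5 j) 0) 0)) :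
    ∃ K ∈ K5L, tblOf g = candT H hh (invTab hh) K := by
  have hvh := okK_valid hhh
  have hvH := okK_valid hH
  have hmem : fperm H * fperm hh ∈ M24 := M24.mul_mem (fperm_mem hH) (fperm_mem hhh)
  have hok : okK (compTbl H hh) = true := by
    have := okK_tblOf hmem
    rwa [tblOf_mul, tblOf_fperm hvH, tblOf_fperm hvh] at this
  have hg2 : g * fperm hh ∈ M24 := M24.mul_mem hg (fperm_mem hhh)
  obtain ⟨K, hK, e⟩ := enum5 hg2 hok (by
    intro j hj
    rw [Equiv.Perm.mul_apply, fperm_apply hvh]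
    unfold tblFun
    rw [idx_pt (b5_lt j), hag j hj, compTbl_getD _ _ (b5_lt j)])
  refine ⟨K, hK, ?_⟩
  have : g = (g * fperm hh) * (fperm hh)⁻¹ := by group
  rw [this, tblOf_mul, e, tblOf_inv, tblOf_fperm hvh]
  rfl

/-- conjugation by `g` preserving a finite subgroup is a bijection of it -/
theorem conj_inv_mem_of_conj_mem {G : Type*} [Group G] (P : Subgroup G) [Finite P] {g : G}
    (h : ∀ s ∈ P, g * s * g⁻¹ ∈ P) : ∀ s ∈ P, g⁻¹ * s * g ∈ P := by
  have hle : P.map (MulAut.conj g).toMonoidHom ≤ P := by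
    rintro _ ⟨x, hx, rfl⟩
    exact h x hx
  have heq : P.map (MulAut.conj g).toMonoidHom = P := by
    refine Subgroup.eq_of_le_of_card_ge hle ?_
    rw [Subgroup.card_map_of_injective (MulAut.conj g).injective]
  intro s hs
  rw [← heq] at hs
  obtain ⟨x, hx, rfl⟩ := hs
  have : g⁻¹ * (MulAut.conj g).toMonoidHom x * g = x := by
    simp only [MulEquiv.coe_toMonoidHom, MulAut.conj_apply]
    group
  rw [this]; exact hx

/-! ### The centre -/

/-- every normal form other than `1` and `z` fails to commute with some generator -/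
def centerCheck (gs : List (List ℕ)) (z : List ℕ) : Bool :=
  (nfList gs).all fun T => T == List.range 24 || T == z ||
    gs.any (fun g => compTbl g T != compTbl T g)

theorem center_of_check {gs : List (List ℕ)} {z : List ℕ} (hpc : pcOK gs = true)
    (hc : centerCheck gs z = true) {x : Equiv.Perm GolayPt} (hx : x ∈ tgrp gs)
    (hcomm : ∀ y ∈ tgrp gs, x * y = y * x) : x = 1 ∨ x = fperm z := by
  have h1 := nf_complete hpc x hx
  unfold centerCheck at hc
  rw [List.all_eq_true] at hc
  have h2 := hc _ h1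
  simp only [Bool.or_eq_true, beq_iff_eq, List.any_eq_true, bne_iff_ne] at h2
  rcases h2 with (h2 | h2) | ⟨g, hg, h2⟩
  · left
    apply tblOf_injective
    rw [h2, tblOf_one]
  · right
    rw [← h2, fperm_tblOf]
  · exfalso
    apply h2
    have := hcomm _ (fperm_mem_tgrp hg)
    have e := congrArg tblOf this
    rw [tblOf_mul, tblOf_mul, tblOf_fperm (pcOK_valid hpc g hg)] at e
    exact e.symm

/-- `z` commutes with the generators -/
def centralCheck (gs : List (List ℕ)) (z : List ℕ) : Bool :=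
  (nfList gs).contains z && gs.all (fun g => compTbl g z == compTbl z g) &&
    (z != List.range 24)

theorem central_of_check {gs : List (List ℕ)} {z : List ℕ} (hpc : pcOK gs = true)
    (hc : centralCheck gs z = true) :
    fperm z ∈ tgrp gs ∧ fperm z ≠ 1 ∧ ∀ y ∈ tgrp gs, fperm z * y = y * fperm z := by
  unfold centralCheck at hc
  simp only [Bool.and_eq_true, List.contains_iff_mem, List.all_eq_true, beq_iff_eq,
    bne_iff_ne] at hc
  obtain ⟨⟨hz, hall⟩, hne⟩ := hc
  obtain ⟨zp, hzp, e⟩ := nf_sound (pcOK_valid hpc) _ hz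
  have hzz : fperm z = zp := by rw [← e, fperm_tblOf]
  have hvz : ValidT z := by rw [← e]; exact tblOf_validT _
  refine ⟨hzz ▸ hzp, ?_, ?_⟩
  · intro h
    apply hne
    rw [← tblOf_fperm hvz, h, tblOf_one]
  · intro y hy
    have : tgrp gs ≤ Subgroup.centralizer {fperm z} := by
      unfold tgrp
      rw [Subgroup.closure_le]
      rintro x ⟨T, hT, rfl⟩
      rw [SetLike.mem_coe, Subgroup.mem_centralizer_iff]
      intro w hw
      rw [Set.mem_singleton_iff] at hw
      subst hw
      apply tblOf_injective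
      rw [tblOf_mul, tblOf_mul, tblOf_fperm hvz, tblOf_fperm (pcOK_valid hpc T hT)]
      exact (hall T hT).symm
    have h2 := this hy
    rw [Subgroup.mem_centralizer_iff] at h2
    exact h2 _ rfl

/-- a nontrivial subgroup of the `2`-group normalised by it contains the central involution -/
theorem z_mem_of_normal {gs : List (List ℕ)} {z : List ℕ} (hpc : pcOK gs = true)
    (hc : centerCheck gs z = true) (T : Subgroup (Equiv.Perm GolayPt)) (hT : T ≤ tgrp gs)
    (hne : T ≠ ⊥) (hnorm : ∀ x ∈ T, ∀ s ∈ tgrp gs, s * x * s⁻¹ ∈ T) : fperm z ∈ T := by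
  have hP : IsPGroup 2 (tgrp gs) := tgrp_isPGroup hpc
  haveI : Group.IsNilpotent (tgrp gs) := hP.isNilpotent
  let N : Subgroup (tgrp gs) := T.subgroupOf (tgrp gs)
  haveI : N.Normal := by
    constructor
    intro n hn s
    rw [Subgroup.mem_subgroupOf] at hn ⊢
    simpa using hnorm _ hn _ s.2
  have hN : N ≠ ⊥ := by
    intro h
    apply hne
    rw [eq_bot_iff]
    intro x hx
    have : (⟨x, hT hx⟩ : tgrp gs) ∈ N := by
      show (⟨x, hT hx⟩ : tgrp gs) ∈ T.subgroupOf (tgrp gs)
      rw [Subgroup.mem_subgroupOf]; exact hx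
    rw [h, Subgroup.mem_bot] at this
    rw [Subgroup.mem_bot]
    exact congrArg Subtype.val this
  have h1 := Cfsg.Agent.Lib.Helper1.normal_inf_center_ne_bot N hN
  obtain ⟨⟨w, hw⟩, hw0⟩ := (Subgroup.ne_bot_iff_exists_ne_one).mp h1
  have hw1 : w ≠ 1 := fun h => hw0 (Subtype.ext h)
  obtain ⟨hwN, hwZ⟩ := Subgroup.mem_inf.mp hw
  have hwT : ((w : tgrp gs) : Equiv.Perm GolayPt) ∈ T := by
    have : (w : tgrp gs) ∈ T.subgroupOf (tgrp gs) := hwN
    rwa [Subgroup.mem_subgroupOf] at this
  have hcomm : ∀ y ∈ tgrp gs, ((w : tgrp gs) : Equiv.Perm GolayPt) * y = y * (w : tgrp gs) := by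
    intro y hy
    rw [Subgroup.mem_center_iff] at hwZ
    have := hwZ ⟨y, hy⟩
    exact (congrArg Subtype.val this).symm
  rcases center_of_check hpc hc (w : tgrp gs).2 hcomm with h | h
  · exfalso
    apply hw1
    apply Subtype.ext
    exact h
  · rw [← h]; exact hwT

/-- an element normalising the `2`-group centralises the central involution -/
theorem conj_z_of_normalizes {gs : List (List ℕ)} {z : List ℕ} (hpc : pcOK gs = true)
    (hc : centerCheck gs z = true) (hz : centralCheck gs z = true) {g : Equiv.Perm GolayPt}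
    (hg : ∀ s ∈ tgrp gs, g * s * g⁻¹ ∈ tgrp gs) : g * fperm z = fperm z * g := by
  obtain ⟨hzP, hz1, hzc⟩ := central_of_check hpc hz
  have hinv := conj_inv_mem_of_conj_mem (tgrp gs) hg
  have hw : g * fperm z * g⁻¹ ∈ tgrp gs := hg _ hzP
  have hcomm : ∀ y ∈ tgrp gs, (g * fperm z * g⁻¹) * y = y * (g * fperm z * g⁻¹) := by
    intro y hy
    have h1 := hzc _ (hinv y hy)
    have e1 : (g * fperm z * g⁻¹) * y = g * (fperm z * (g⁻¹ * y * g)) * g⁻¹ := by group
    have e2 : y * (g * fperm z * g⁻¹) = g * ((g⁻¹ * y * g) * fperm z) * g⁻¹ := by group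
    rw [e1, e2, h1]
  rcases center_of_check hpc hc hw hcomm with h | h
  · exfalso
    apply hz1
    have : fperm z = g⁻¹ * (g * fperm z * g⁻¹) * g := by group
    rw [this, h]; group
  · have : g * fperm z = (g * fperm z * g⁻¹) * g := by group
    rw [this, h]

/-! ### Reduction to a point stabiliser -/

theorem norm_wlog (Hgrp P : Subgroup (Equiv.Perm GolayPt)) (hPH : P ≤ Hgrp) (p0 : GolayPt)
    (F : Set GolayPt) (htr : ∀ q ∈ F, ∃ s ∈ P, s q = p0)
    (hF : ∀ g ∈ Hgrp, (∀ s ∈ P, g * s * g⁻¹ ∈ P) → g p0 ∈ F)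
    (hfix : ∀ g ∈ Hgrp, (∀ s ∈ P, g * s * g⁻¹ ∈ P) → g p0 = p0 → g ∈ P) :
    ∀ g ∈ Hgrp, (∀ s ∈ P, g * s * g⁻¹ ∈ P) → g ∈ P := by
  intro g hg hn
  obtain ⟨s, hs, hsq⟩ := htr _ (hF g hg hn)
  have h1 : s * g ∈ P := by
    apply hfix _ (Hgrp.mul_mem (hPH hs) hg)
    · intro t ht
      have : s * g * t * (s * g)⁻¹ = s * (g * t * g⁻¹) * s⁻¹ := by group
      rw [this]
      exact P.mul_mem (P.mul_mem hs (hn t ht)) (P.inv_mem hs)
    · rw [Equiv.Perm.mul_apply, hsq]
  have : g = s⁻¹ * (s * g) := by group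
  rw [this]
  exact P.mul_mem (P.inv_mem hs) h1

/-! ### The brute-force normaliser check -/

def normCheck (cov : List (List ℕ)) (hh hi : List ℕ) (pred : List ℕ → Bool)
    (gs NF : List (List ℕ)) : Bool :=
  cov.all fun H => K5L.all fun K =>
    forceList (candT H hh hi K) fun T => !pred T || NF.contains T ||
      gs.any (fun s => !NF.contains (compTbl (compTbl T s) (invTab T)))

theorem norm_of_check {gs cov : List (List ℕ)} {hh : List ℕ} {pred : List ℕ → Bool}
    (hpc : pcOK gs = true) (hhh : okK hh = true) (hcov : ∀ H ∈ cov, okK H = true)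
    (hcheck : normCheck cov hh (invTab hh) pred gs (nfList gs) = true)
    {g : Equiv.Perm GolayPt} (hg : g ∈ M24) (hnorm : ∀ s ∈ tgrp gs, g * s * g⁻¹ ∈ tgrp gs)
    (hpred : pred (tblOf g) = true)
    (hag : ∃ H ∈ cov, ∀ j < 5, g (pt (hh.getD (b5 j) 0)) = pt (H.getD (hh.getD (b5 j) 0) 0)) :
    g ∈ tgrp gs := by
  obtain ⟨H, hH, hagH⟩ := hag
  obtain ⟨K, hK, e⟩ := enumBase hg hhh (hcov H hH) hagH
  unfold normCheck at hcheck
  rw [List.all_eq_true] at hcheck
  have h1 := hcheck H hH
  rw [List.all_eq_true] at h1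
  have h2 := h1 K hK
  rw [forceList_eq, ← e, hpred] at h2
  simp only [Bool.not_true, Bool.false_or, Bool.or_eq_true, List.contains_iff_mem,
    List.any_eq_true, Bool.not_eq_true'] at h2
  rcases h2 with h2 | ⟨s, hs, h2⟩
  · exact (mem_tgrp_iff hpc g).mpr h2
  · exfalso
    have h3 := hnorm _ (fperm_mem_tgrp hs)
    have h4 := nf_complete hpc _ h3
    rw [tblOf_conj, tblOf_fperm (pcOK_valid hpc s hs)] at h4
    have : List.contains (nfList gs) (compTbl (compTbl (tblOf g) s) (invTab (tblOf g))) = true :=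
      List.contains_iff_mem.mpr h4
    rw [this] at h2
    exact Bool.noConfusion h2

end Cfsg.Agent.Lib.helper4
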