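import Mathlib
import Cfsg.Prelude.Def_Classical
import Cfsg.Agent.Lib.helper3.O9A.Defs

/-!
# Project O9A, row ZORD (`z_order`), verbatim from `helper3/O9A/Skel.lean.txt`.  (helper4)

In characteristic `p` odd: `(Z - 1)^(p^j) = Z^(p^j) - 1`; `(Z - 1)^(p^k) ≠ 0`, `(Z - 1)^(p^k + 2) = 0` and `p^k + 2 ≤ p^(k+1)` give a unit of order `p^(k+1)`.
-/

set_option autoImplicit false

namespace Cfsg.Agent.Lib.helper3.O9A

open Matrix

theorem z_order {ι : Type} [Fintype ι] [DecidableEq ι] {F : Type*} [Field F] (p : ℕ) [Fact p.Prime] [CharP F p] (hp : p ≠ 2) (k : ℕ)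
    (Z : Matrix ι ι F) (h1 : (Z - 1) ^ (p ^ k) ≠ 0) (h2 : (Z - 1) ^ (p ^ k + 2) = 0) :
    ∃ U : GL ι F, (U : Matrix ι ι F) = Z ∧ orderOf U = p ^ (k + 1) := by
  rcases isEmpty_or_nonempty ι with hι | hι
  · exact absurd (Subsingleton.elim _ _) h1
  have hpp : p.Prime := Fact.out
  have hp3 : 3 ≤ p := by
    have := hpp.two_le
    omega
  have key : ∀ j : ℕ, (Z - 1) ^ p ^ j = Z ^ p ^ j - 1 := by
    intro j
    have h := sub_pow_char_pow_of_commute (R := Matrix ι ι F) (p := p) (n := j) (Commute.one_right Z)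
    rw [one_pow] at h
    exact h
  have hle : p ^ k + 2 ≤ p ^ (k + 1) := by
    have h1k : 1 ≤ p ^ k := Nat.one_le_pow _ _ hpp.pos
    have : 3 * p ^ k ≤ p * p ^ k := Nat.mul_le_mul_right _ hp3
    rw [pow_succ']
    omega
  have hZ1 : Z ^ p ^ (k + 1) = 1 := by
    have h0 : (Z - 1) ^ p ^ (k + 1) = 0 := pow_eq_zero_of_le hle h2
    rw [key] at h0
    exact sub_eq_zero.mp h0
  have hZ2 : Z ^ p ^ k ≠ 1 := by
    intro h
    apply h1
    rw [key, h, sub_self]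
  have hpos : 1 ≤ p ^ (k + 1) := Nat.one_le_pow _ _ hpp.pos
  have hU1 : Z * Z ^ (p ^ (k + 1) - 1) = 1 := by
    rw [← pow_succ', Nat.sub_add_cancel hpos, hZ1]
  have hU2 : Z ^ (p ^ (k + 1) - 1) * Z = 1 := by
    rw [← pow_succ, Nat.sub_add_cancel hpos, hZ1]
  refine ⟨⟨Z, Z ^ (p ^ (k + 1) - 1), hU1, hU2⟩, rfl, ?_⟩
  apply orderOf_eq_prime_pow
  · intro h
    apply hZ2
    have h' := congrArg Units.val h
    rw [Units.val_pow_eq_pow_val, Units.val_one] at h'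
    exact h'
  · apply Units.ext
    rw [Units.val_pow_eq_pow_val, Units.val_one]
    exact hZ1

end Cfsg.Agent.Lib.helper3.O9A
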