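import Mathlib
import Cfsg.Prelude.Def_Classical
import Cfsg.Agent.Lib.helper3.O9A.Defs
import Cfsg.Agent.Lib.helper4.O9AZORD
import Cfsg.Agent.Lib.Helper25.S5972OMEGAODD
import Cfsg.Agent.Lib.helper15.S5972STDCTX
import Cfsg.Agent.Lib.Helper16.SpinE1
import Cfsg.Agent.Lib.Helper16.OA25

/-!
# Project O9A, row LIFT (`lift9`): the core, with the conclusion of HEART as a hypothesis.  (helper4)

`o9alift_pre`: the hypotheses of HEART for `y = toLin' Y`, `Y ∈ Ω₉(q)` of order prime to `p`.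
`o9alift_core`: from the unipotent isometry `z` of HEART to `X = Y * U ∈ Ω₉(q)` of order `p^(k+1) |Y|`.
-/

set_option autoImplicit false

namespace Cfsg.Agent.Lib.helper3.O9A

open Matrix Module

theorem o9alift_pre {F : Type*} [Field F] [Fintype F] (hodd : Odd (Fintype.card F)) (p : ℕ) [Fact p.Prime] [CharP F p]
    (Y : GL OI9 F) (hY : Y ∈ Om9 F) (hm : ¬ p ∣ orderOf Y) :
    (2 : F) ≠ 0 ∧ p ≠ 2 ∧
    (∀ v, Cfsg.Agent.Lib.Helper16.qfOdd 4 F (Matrix.toLin' (Y : Matrix OI9 OI9 F) v) =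
      Cfsg.Agent.Lib.Helper16.qfOdd 4 F v) ∧
    (Matrix.toLin' (Y : Matrix OI9 OI9 F)) ^ (orderOf Y) = 1 ∧ ((orderOf Y : ℕ) : F) ≠ 0 ∧
    LinearMap.det (Matrix.toLin' (Y : Matrix OI9 OI9 F)) = 1 ∧ Odd (finrank F (OI9 → F)) := by
  have h2 : (2 : F) ≠ 0 := Cfsg.Agent.Lib.helper15.S5972.s5972omegaodd_two_ne hodd
  refine ⟨h2, ?_, ?_, ?_, ?_, ?_, ?_⟩
  · intro hp
    apply h2
    have h := CharP.cast_eq_zero F p
    rw [hp] at h
    exact_mod_cast h
  · intro v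
    obtain ⟨γ, hγ, rfl⟩ := hY
    rw [Cfsg.Agent.Lib.Helper16.qfOdd_coe, Matrix.toLin'_apply]
    exact γ.2 v v
  · rw [Cfsg.Agent.Lib.helper15.S5972.s5972stdctx_pow, pow_orderOf_eq_one, Units.val_one, Matrix.toLin'_one]
    rfl
  · intro h
    exact hm ((CharP.cast_eq_zero_iff F p _).mp h)
  · obtain ⟨γ, hγ, rfl⟩ := hY
    rw [LinearMap.det_toLin']
    have h1 := Cfsg.Agent.Lib.Helper16.omega_le_ker (Cfsg.quadFormOdd 4 F)
      (Cfsg.Agent.Lib.Helper16.isoDet (Cfsg.quadFormOdd 4 F)) hγ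
    have h3 := congrArg Units.val (MonoidHom.mem_ker.mp h1)
    rw [Cfsg.Agent.Lib.Helper16.isoDet_coe, Units.val_one] at h3
    exact h3
  · rw [Module.finrank_fintype_fun_eq_card]
    have : Fintype.card OI9 = 9 := by simp
    rw [this]
    exact ⟨4, by norm_num⟩

theorem o9alift_core {F : Type*} [Field F] [Fintype F] (hodd : Odd (Fintype.card F)) (p : ℕ) [Fact p.Prime] [CharP F p]
    (Y : GL OI9 F) (hY : Y ∈ Om9 F) (k : ℕ) (hm : ¬ p ∣ orderOf Y)
    (hz : ∃ z : Module.End F (OI9 → F),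
      (∀ v, Cfsg.Agent.Lib.Helper16.qfOdd 4 F (z v) = Cfsg.Agent.Lib.Helper16.qfOdd 4 F v) ∧
      Commute (Matrix.toLin' (Y : Matrix OI9 OI9 F)) z ∧ (z - 1) ^ (p ^ k) ≠ 0 ∧ (z - 1) ^ (p ^ k + 2) = 0) :
    ∃ X ∈ Om9 F, orderOf X = p ^ (k + 1) * orderOf Y := by
  obtain ⟨h2, hp2, -, -, -, -, -⟩ := o9alift_pre hodd p Y hY hm
  obtain ⟨z, hzQ, hcomm, hz1, hz2⟩ := hz
  have hpp : p.Prime := Fact.out
  have hZpow : ∀ j : ℕ, ((LinearMap.toMatrixAlgEquiv' z : Matrix OI9 OI9 F) - 1) ^ j =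
      LinearMap.toMatrixAlgEquiv' ((z - 1) ^ j) := by
    intro j
    rw [map_pow, map_sub, map_one]
  have hZ1 : ((LinearMap.toMatrixAlgEquiv' z : Matrix OI9 OI9 F) - 1) ^ (p ^ k) ≠ 0 := by
    rw [hZpow]
    intro h
    apply hz1
    exact (map_eq_zero_iff _ (LinearMap.toMatrixAlgEquiv' (R := F) (n := OI9)).injective).mp h
  have hZ2 : ((LinearMap.toMatrixAlgEquiv' z : Matrix OI9 OI9 F) - 1) ^ (p ^ k + 2) = 0 := by
    rw [hZpow, hz2, map_zero]
  obtain ⟨U, hUZ, hUord⟩ := z_order p hp2 k (LinearMap.toMatrixAlgEquiv' z : Matrix OI9 OI9 F) hZ1 hZ2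
  · have hUz : Matrix.toLin' (U : Matrix OI9 OI9 F) = z := by
      rw [hUZ]
      exact Matrix.toLin'_toMatrix' z
    have hUiso : U ∈ Cfsg.isometryGroup F (Cfsg.quadFormOdd 4 F) := by
      intro v _
      change Cfsg.quadFormOdd 4 F ((U : Matrix OI9 OI9 F) *ᵥ v) = Cfsg.quadFormOdd 4 F v
      have h := hzQ v
      rw [Cfsg.Agent.Lib.Helper16.qfOdd_coe, ← hUz, Matrix.toLin'_apply] at h
      exact h
    have hUodd : Odd (orderOf U) := by
      rw [hUord]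
      exact (hpp.odd_of_ne_two hp2).pow
    have hUom : U ∈ Om9 F :=
      Cfsg.Agent.Lib.helper15.S5972.omega_of_odd hodd 4 (by norm_num) U hUiso hUodd
    have hYU : Commute Y U := by
      apply Units.ext
      apply Matrix.toLin'.injective
      rw [Units.val_mul, Units.val_mul, Matrix.toLin'_mul, Matrix.toLin'_mul, hUz]
      exact hcomm
    refine ⟨Y * U, mul_mem hY hUom, ?_⟩
    have hco : (orderOf Y).Coprime (orderOf U) := by
      rw [hUord]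
      exact ((Nat.Prime.coprime_iff_not_dvd hpp).mpr hm).symm.pow_right _
    rw [hYU.orderOf_mul_eq_mul_orderOf_of_coprime hco, hUord, mul_comm]

end Cfsg.Agent.Lib.helper3.O9A
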