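import Mathlib
import Cfsg.Prelude.Def_Sporadic_a
import Cfsg.Prelude.Def_SporadicCombinatorics
import Cfsg.Agent.Lib.helper4.CodedOrbitsB

set_option autoImplicit false

namespace Cfsg.Agent.Lib.helper4

open Cfsg MulAction
open scoped Pointwise
open Cfsg.Agent.Lib.Helper12.Golay

/-! ### Orbits of the stabiliser of the standard trio on octads and on sextets (data) -/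

def t12OctRep : Fin 3 → ℕ
  | ⟨0, _⟩ => 5279
  | ⟨1, _⟩ => 10558
  | ⟨2, _⟩ => 18147

def t12OctIns : Fin 3 → List ℕ
  | ⟨0, _⟩ => [1,2]
  | ⟨1, _⟩ => [1,1,1,2,1,1,1,2,1,1,1,0,2,1,1,1,0,2,1,1,1,2,2,1,1,1,2,1,1,1,2,1,0,0,0,2,1,1,1,2,1,1,1,0,2,1,1,1,2,1,1,1,2,1,1,1,0,0,2,1,2,1,1,1,2,1,1,1,2,1,0,2,1,1,1,0,2,1,1,1,0,0,2,1,1,1,0,0,0,2,1,2,1,1,1,0,0,0,0,0,0,0,0,0,0,0,0,0,0,0,0,0,0,0,0,0,0,0,0,0,0,0,0,0,0,0,0,0,0,0,0,0,0,0,0,0,0,0,0,0,0,0,0,0,0,0,0,0,0,0,0,0,2,1,0,0,0,0,0,0,2]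
  | ⟨2, _⟩ => [1,1,1,2,1,1,1,2,1,1,1,2,1,1,1,2,1,1,1,2,1,1,1,0,2,1,1,1,2,1,1,1,2,1,1,1,2,1,1,1,2,1,1,1,0,2,1,1,1,2,1,1,1,2,1,1,1,0,0,2,1,1,1,2,1,1,1,0,2,1,1,1,2,1,1,1,2,1,1,1,2,1,1,1,2,1,1,1,0,2,1,1,1,2,1,1,1,2,1,1,1,2,1,1,1,2,1,1,1,0,2,1,1,1,2,1,1,1,2,1,1,1,2,1,1,1,2,1,1,1,0,2,1,1,1,2,1,1,1,0,2,1,1,1,2,1,1,1,2,1,1,1,2,1,1,1,2,1,1,1,0,2,1,1,1,2,1,1,1,2,1,1,1,2,1,1,1,2,1,1,1,0,2,1,1,1,2,1,1,1,2,1,1,1,2,1,1,1,2,1,1,1,0,0,0,2,1,1,1,2,1,1,1,0,2,1,1,1,2,1,1,1,2,1,1,1,2,1,1,1,2,1,1,1,0,2,1,1,1,2,1,1,1,2,1,1,1,2,1,1,1,2,1,1,1,0,2,1,1,1,2,1,1,1,0,2,1,1,1,2,1,1,1,2,1,1,1,2,1,1,1,2,1,1,1,0,0,2,1,1,1,0,0,2,1,1,1,2,1,1,1,2,1,1,1,0,2,1,1,1,2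,1,1,1,2,1,1,1,2,1,1,1,2,1,1,1,0,2,1,1,1,2,1,1,1,2,1,1,1,0,0,2,1,1,1,0,2,1,1,1,0,0,2,1,1,1,2,1,1,1,2,1,1,1,0,0,0,0,0,0,0,2,1,1,1,0,2,1,1,1,0,2,1,1,1,0,2,1,1,1,2,1,1,1,2,1,1,1,2,1,1,1,0,0,0,0,0,2,1,1,1,2,1,1,1,2,1,1,1,0,2,1,1,1,0,2,1,1,1,2,1,1,1,0,0,2,1,1,1,2,1,1,1,0,0,2,1,1,1,2,1,1,1,2,1,1,1,0,2,1,1,1,2,1,1,1,0,2,1,1,1,0,0,0,2,1,1,1,2,1,1,1,0,0,2,1,1,1,0,2,1,1,1,0,0,2,1,1,1,2,1,1,1,2,1,1,1,0,2,1,1,1,2,1,1,1,2,1,1,1,2,1,1,1,0,2,1,1,1,0,2,1,1,1,2,1,1,1,0,2,1,1,1,0,0,0,0,0,2,1,1,1,2,1,1,1,0,0,0,0,0,0,0,0,0,0,0,0,0,2,1,1,1,2,1,1,1,2,1,1,1,0,0,0,0,0,0,2,1,1,1,0,0,0,2,1,1,1,2,1,1,1,0,2,1,1,1,0,0,0,2,1,1,1,2,1,1,1,0,2,1,1,1,2,1,1,1,2,1,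1,1,0,0,0,0,0,2,1,1,1,2,1,1,1,0,0,0,2,1,1,1,2,1,1,1,0,0,0,0,0,0,0,0,0,0,0,0,0,0,0,0,0,0,0,0,0,0,2,1,1,1,2,1,1,1,0,2,1,1,1,0,2,1,1,1,0,0,2,1,1,1,0,0,2,1,1,1,0,0,0,0,0,0,0,2,1,1,1,0,2,1,1,1,2,1,1,1,0,0,2,1,1,1,0,0,0,2,1,1,1,0,2,1,1,1,0,0,0,0,0,0,0,0,0,2,1,1,1,0,0,0,0,0,0,0,2,1,1,1,0,0,0,0,0,0,0,0,0,0,0,0,0,0,0,2,1,1,1,0,0,0,0,0,0,0,0,0,0,0,0,0,0,0,0,0,0,0,0,0,0,0,0,2,1,1,1,0,0,0,0,0,0,0,0,0,0,0,0,0,0,0,0,0,0,0,0,0,0,0,0,0,0,0,0,0,2,1,1,1,0,0,2,1,1,1,0,0,0,0,0,0,0,0,0,0,0,0,0,0,2,1,1,1,0,2,1,1,1,0,0,0,0,0,0,0,0,0,0,0,0,0,0,0,2,1,1,1,0,0,0,0,0,0,2,1,1,1,0,0,0,0,0,0,0,0,0,0,0,0,0,0,2,1,1,1,0,2,1,1,1,0,0,0,0,0,0,0,0,0,0,0,0,0,0,2,1,1,1,0,0,0,0,0,0,0,0,0,0,0,0,0,0,0,0,2,1,1,1,0,0,0,0,0,0,2,1,1,1,2,1,1,1,0,2,1,1,1,0,0,0,0,0,0,0,0,0,0,0,0,0,0,0,0,2,1,1,1]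

def t12OctN : Fin 3 → ℕ
  | ⟨0, _⟩ => 3
  | ⟨1, _⟩ => 84
  | ⟨2, _⟩ => 672

set_option maxRecDepth 1000000 in
theorem t12Oct_checks : (∀ i, isOctK (t12OctRep i) = true) ∧
    nodupBy (fun m => Nat.land m 4095) (List.flatten (List.ofFn fun i =>
      orbGen actK stabTGens (t12OctIns i) (t12OctRep i))) 0 = true ∧
    ∀ i, (orbGen actK stabTGens (t12OctIns i) (t12OctRep i)).length = t12OctN i := by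
  decide +kernel

def t12SextRep : Fin 4 → ℕ
  | ⟨0, _⟩ => 712
  | ⟨1, _⟩ => 102
  | ⟨2, _⟩ => 30
  | ⟨3, _⟩ => 15

def t12SextTet : Fin 4 → ℕ
  | ⟨0, _⟩ => 153
  | ⟨1, _⟩ => 1161
  | ⟨2, _⟩ => 3336
  | ⟨3, _⟩ => 1668

def t12SextIns : Fin 4 → List ℕ
  | ⟨0, _⟩ => [1,2,1,1,1,0,2]
  | ⟨1, _⟩ => [1,1,1,2,1,1,1,2,1,2,1,1,1,2,1,2,1,0,2,1,1,1,2,1,1,1,2,1,2,1,1,1,2,1,0,2,1,1,1,0,2,1,1,1,2,1,1,1,0,2,1,2,1,2,1,1,1,2,1,2,0,0,0,0,2,1,2,1,1,1,0,2,1,1,1,0,0,0,0,0,2,1,1,1,0,2,1,1,1,0,0,0,0,0,2,0,0,0,0,0,0,2,1,0,0,0,0,0,0,0,2,1,1,1,0,0,0,0,0,0,0,0,0,0,0,0,0,0,0,2,1]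
  | ⟨2, _⟩ => [1,1,1,2,1,1,1,2,1,1,1,2,1,1,1,2,1,1,1,2,1,1,1,0,2,1,2,1,1,1,0,2,1,1,1,2,1,1,1,2,1,1,1,2,1,1,1,0,2,1,2,1,1,1,0,2,1,1,1,2,1,1,1,2,1,1,1,2,1,1,1,2,1,1,1,0,2,1,1,1,2,1,1,1,2,1,1,1,2,1,1,1,2,1,1,1,0,2,1,1,1,2,1,1,1,2,1,1,1,0,2,1,1,1,0,2,1,2,1,1,1,2,1,1,1,2,1,1,1,0,2,1,1,1,2,1,1,1,2,1,1,1,0,2,1,1,1,2,1,1,1,2,1,2,1,1,1,2,1,1,1,0,2,1,1,1,0,2,1,1,1,2,1,1,1,0,2,1,1,1,0,2,1,1,1,0,2,1,1,1,2,1,1,1,0,0,2,2,1,1,1,0,0,2,1,1,1,0,0,0,0,0,0,0,0,0,0,0,2,1,1,1,0,0,2,1,1,1,0,0,0,2,1,1,1,0,0,0,2,1,1,1,2,1,1,1,0,0,0,0,0,2,1,1,1,2,1,1,1,2,1,2,1,1,1,2,1,1,1,0,2,1,1,1,2,1,1,1,2,1,1,1,0,2,1,1,1,2,1,1,1,0,2,1,2,1,1,1,0,2,1,1,1,0,2,1,0,2,1,1,1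,0,2,1,1,1,2,1,1,1,0,0,2,1,2,1,1,1,2,1,1,1,0,0,0,0,0,0,0,0,0,0,0,0,0,0,0,0,0,2,1,1,1,0,0,0,2,1,1,1,0,0,0,0,0,0,0,0,0,0,0,0,0,0,0,0,0,0,2,1,1,1,2,1,1,1,2,1,1,1,0,0,2,1,0,0,0,2,1,1,1,2,1,1,1,0,0,0,2,1,1,1,0,0,0,0,0,0,0,0,0,0,0,0,0,0,0,0,0,0,0,0,0,0,0,0,0,0,0,0,2,1,1,1,0,0,2,0,0,0,0,0,0,0,2,1,1,1,0,0,0,0,0,0,0,0,0,0,0,0,0,0,0,0,2,1,1,1,0,0,0,2,1,0,0,0,0,0,0,0,0,0,0,0,0,0,0,0,0,0,0,0,0,0,0,0,0,0,0,0,0,0,0,0,0,0,0,0,0,0,0,0,0,0,0,0,0,0,0,0,0,0,0,0,0,0,0,0,0,0,0,0,0,0,0,0,0,0,0,0,0,0,0,0,0,2,1,1,1,0,0,0,0,0,0,0,0,0,0,0,0,0,0,0,0,0,0,0,0,0,0,0,0,0,0,0,0,0,0,2,0,0,0,0,0,0,0,0,0,0,0,0,0,0,0,0,0,0,0,0,0,0,0,0,0,0,0,0,0,0,0,0,0,0,0,0,0,0,0,0,0,0,0,0,0,2]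
  | ⟨3, _⟩ => [1,1,1,2,1,1,1,2,1,1,1,2,1,1,1,2,1,1,1,2,1,1,1,0,2,1,1,1,2,1,1,1,2,1,1,1,2,1,1,1,2,1,1,1,0,2,1,1,1,2,1,1,1,2,1,1,1,2,1,1,1,2,1,1,1,0,0,2,1,1,1,2,1,1,1,2,1,1,1,2,1,1,1,2,1,1,1,0,2,1,1,1,2,1,1,1,2,1,1,1,0,2,1,1,1,2,1,1,1,2,1,1,1,2,1,1,1,2,1,1,1,0,2,1,1,1,2,1,1,1,2,1,1,1,2,1,1,1,2,1,1,1,0,2,1,1,1,2,1,1,1,2,1,1,1,2,1,1,1,2,1,1,1,0,2,1,1,1,0,0,2,1,1,1,2,1,1,1,2,1,1,1,2,1,1,1,2,1,1,1,0,2,1,1,1,0,0,2,1,1,1,2,1,1,1,2,1,1,1,2,1,1,1,2,1,1,1,0,2,1,1,1,2,1,1,1,2,1,1,1,2,1,1,1,2,1,1,1,0,2,1,1,1,2,1,1,1,2,1,1,1,2,1,1,1,2,1,1,1,0,2,1,1,1,2,1,1,1,2,1,1,1,2,1,1,1,2,1,1,1,0,0,2,1,1,1,2,1,1,1,0,0,2,1,1,1,2,1,1,1,2,1,1,1,2,1,1,1,2,1,1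,1,0,2,1,1,1,2,1,1,1,2,1,1,1,2,1,1,1,2,1,1,1,0,2,1,1,1,2,1,1,1,2,1,1,1,2,1,1,1,0,2,1,1,1,2,1,1,1,2,1,1,1,2,1,1,1,2,1,1,1,0,2,1,1,1,2,1,1,1,2,1,1,1,0,2,1,1,1,2,1,1,1,2,1,1,1,2,1,1,1,2,1,1,1,0,2,1,1,1,2,1,1,1,2,1,1,1,2,1,1,1,2,1,1,1,0,2,1,1,1,0,2,1,1,1,2,1,1,1,2,1,1,1,2,1,1,1,2,1,1,1,0,2,1,1,1,0,2,1,1,1,0,2,1,1,1,2,1,1,1,2,1,1,1,2,1,1,1,2,1,1,1,0,2,1,1,1,2,1,1,1,2,1,1,1,2,1,1,1,2,1,1,1,0,2,1,1,1,2,1,1,1,0,0,2,1,1,1,2,1,1,1,2,1,1,1,2,1,1,1,2,1,1,1,0,2,1,1,1,2,1,1,1,0,2,1,1,1,0,0,0,2,1,1,1,2,1,1,1,2,1,1,1,2,1,1,1,2,1,1,1,0,2,1,1,1,0,0,0,0,0,2,1,1,1,0,2,1,1,1,0,2,1,1,1,2,1,1,1,2,1,1,1,0,2,1,1,1,0,2,1,1,1,2,1,1,1,2,1,1,1,0,2,1,1,1,2,1,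1,1,2,1,1,1,2,1,1,1,2,1,1,1,0,2,1,1,1,2,1,1,1,0,2,1,1,1,2,1,1,1,2,1,1,1,0,2,1,1,1,0,2,1,1,1,2,1,1,1,0,0,2,1,1,1,2,1,1,1,2,1,1,1,0,2,1,1,1,0,2,1,1,1,2,1,1,1,0,0,2,1,1,1,2,1,1,1,2,1,1,1,0,2,1,1,1,2,1,1,1,2,1,1,1,0,0,2,1,1,1,0,0,2,1,1,1,2,1,1,1,0,2,1,1,1,0,2,1,1,1,2,1,1,1,0,2,1,1,1,0,2,1,1,1,2,1,1,1,2,1,1,1,0,0,2,1,1,1,2,1,1,1,0,2,1,1,1,0,0,0,2,1,1,1,0,2,1,1,1,0,2,1,1,1,2,1,1,1,2,1,1,1,0,0,0,2,1,1,1,0,2,1,1,1,0,2,1,1,1,2,1,1,1,2,1,1,1,0,2,1,1,1,2,1,1,1,2,1,1,1,0,2,1,1,1,2,1,1,1,0,0,2,1,1,1,2,1,1,1,2,1,1,1,0,2,1,1,1,2,1,1,1,2,1,1,1,0,0,2,1,1,1,2,1,1,1,2,1,1,1,0,0,0,0,0,2,1,1,1,2,1,1,1,2,1,1,1,0,2,1,1,1,0,0,0,0,0,0,0,0,0,2,1,1,1,2,1,1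,1,2,1,1,1,0,2,1,1,1,0,0,2,1,1,1,2,1,1,1,2,1,1,1,2,1,1,1,2,1,1,1,0,0,0,0,0,2,1,1,1,2,1,1,1,2,1,1,1,0,0,2,1,1,1,2,1,1,1,0,0,0,2,1,1,1,0,0,0,2,1,1,1,2,1,1,1,0,0,2,1,1,1,0,2,1,1,1,2,1,1,1,2,1,1,1,0,0,0,2,1,1,1,2,1,1,1,0,0,2,1,1,1,2,1,1,1,0,2,1,1,1,2,1,1,1,2,1,1,1,2,1,1,1,0,0,0,0,0,2,1,1,1,2,1,1,1,0,2,1,1,1,0,0,0,0,0,0,0,0,0,2,1,1,1,2,1,1,1,0,0,0,2,1,1,1,0,0,0,0,0,0,0,0,0,0,0,0,0,2,1,1,1,0,2,1,1,1,2,1,1,1,0,0,2,1,1,1,0,2,1,1,1,0,0,2,1,1,1,0,0,2,1,1,1,2,1,1,1,0,0,0,2,1,1,1,2,1,1,1,0,0,2,1,1,1,2,1,1,1,0,0,0,0,0,0,2,1,1,1,2,1,1,1,0,2,1,1,1,0,0,2,1,1,1,0,2,1,1,1,0,0,0,0,0,0,0,0,0,0,0,0,0,0,2,1,1,1,2,1,1,1,0,0,0,0,0,2,1,1,1,0,0,2,1,1,1,0,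0,0,0,0,0,0,0,2,1,1,1,0,0,0,0,0,0,0,0,2,1,1,1,2,1,1,1,0,2,1,1,1,0,2,1,1,1,2,1,1,1,2,1,1,1,0,0,0,0,0,0,0,0,0,0,2,1,1,1,0,0,0,0,0,0,0,0,0,0,0,2,1,1,1,0,0,0,2,1,1,1,2,1,1,1,0,0,0,0,0,0,0,0,0,0,0,0,0,0,0,0,2,1,1,1,0,0,0,0,0,0,0,2,1,1,1,0,0,0,0,0,2,1,1,1,2,1,1,1,0,0,0,0,0,0,0,0,0,0,0,2,1,1,1,0,0,2,1,1,1,0,2,1,1,1,2,1,1,1,0,0,0,0,0,0,0,2,1,1,1,0,0,0,0,0,0,0,0,0,0,0,0,0,0,2,1,1,1,0,2,1,1,1,2,1,1,1,0,2,1,1,1,2,1,1,1,0,0,0,0,0,0,0,0,0,0,0,0,0,0,0,0,0,2,1,1,1,0,0,0,0,0,0,0,0,0,0,0,0,0,0,0,2,1,1,1,0,0,0,0,0,2,1,1,1,0,0,0,0,0,0,0,0,0,0,0,0,0,0,2,1,1,1,0,0,0,0,0,0,0,0,0,0,0,2,1,1,1,0,0,0,0,0,0,0,0,0,0,2,1,1,1,2,1,1,1,2,1,1,1,0,2,1,1,1,2,1,1,1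,0,0,0,0,0,0,0,0,0,0,0,0,2,1,1,1,0,2,1,1,1,2,1,1,1,0,0,0,0,0,2,1,1,1,0,0,0,0,0,0,2,1,1,1,0,0,0,0,0,0,0,0,0,2,1,1,1,0,0,2,1,1,1,2,1,1,1,0,0,0,0,0,2,1,1,1,0,0,0,0,0,0,0,0,0,0,0,0,0,0,0,0,0,0,0,0,0,0,0,0,0,0,0,0,0,0,0,2,1,1,1,0,2,1,1,1,2,1,1,1,0,0,0,0,0,0,0,0,0,0,0,0,0,0,0,0,0,0,0,2,1,1,1,0,0,0,0,0,0,0,0,0,0,0,2,1,1,1,2,1,1,1,0,0,0,2,1,1,1,0,0,0,0,0,0,0,0,0,0,2,1,1,1,0,0,0,0,0,0,0,2,1,1,1,0,0,0,0,0,0,0,0,0,0,0,0,0,0,0,0,2,1,1,1,0,0,2,1,1,1,0,0,0,0,0,2,1,1,1,0,0,0,0,0,0,0,0,0,2,1,1,1,0,0,0,0,0,0,0,0,0,0,0,0,0,0,0,0,0,0,0,0,0,0,0,0,0,0,0,0,0,0,0,0,0,0,0,0,0,0,0,0,2,1,1,1,2,1,1,1,0,0,0,0,0,0,0,0,0,0,0,0,0,0,0,0,0,0,0,0,0,0,0,0,0,0,0,0,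0,0,0,0,0,0,0,0,0,0,0,0,0,0,0,0,0,0,2,1,1,1,0,0,2,1,1,1,0,0,0,0,0,0,0,0,0,0,0,0,2,1,1,1,0,0,0,0,0,0,0,0,0,2,1,1,1,0,0,0,0,0,0,0,0,0,0,0,0,0,0,0,0,0,0,0,0,0,0,0,0,0,0,0,0,0,0,0,0,0,0,0,0,0,0,0,0,0,2,1,1,1,0,0,0,0,0,0,0,0,0,0,0,0,2,1,1,1,0,0,0,0,0,0,0,0,0,0,0,0,0,0,0,0,0,0,0,0,0,0,2,1,1,1,0,0,0,0,0,0,0,0,0,0,0,0,0,0,0,0,0,0,0,0,0,0,0,0,0,0,0,0,0,0,0,0,0,0,0,0,0,0,0,0,0,0,0,0,0,0,0,0,0,0,0,0,0,0,0,0,0,0,0,0,0,0,0,0,0,0,0,0,0,0,0,0,0,0,0,0,0,0,0,0,0,0,0,0,0,0,0,0,0,0,0,0,0,0,0,0,0,0,0,0,0,0,0,0,0,0,0,0,0,0,0,0,0,0,0,0,0,0,2,1,1,1,0,0,0,0,0,0,0,0,0,0,0,0,0,0,0,0,0,2,1,1,1,0,0,0,0,0,2,1,1,1,0,0,0,0,0,0,0,0,0,0,0,0,0,0,0,2,1,1,1,0,0,0,0,0,0,0,0,0,0,0,0,0,0,0,0,0,0,0,0,0,0,0,0,0,0,0,0,0,0,0,0,0,0,0,0,0,0,0,0,0,0,0,0,0,0,0,0,0,0,0,0,0,0,0,0,0,0,0,0,0,0,0,0,0,0,0,0,0,0,0,0,0,0,0,0,0,0,0,0,0,0,0,0,0,0,0,0,0,0,0,0,0,0,0,0,0,0,0,0,0,0,0,0,0,0,0,0,0,0,0,0,0,0,0,0,0,0,0,0,0,0,0,0,0,0,2,1,1,1]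

def t12SextN : Fin 4 → ℕ
  | ⟨0, _⟩ => 7
  | ⟨1, _⟩ => 84
  | ⟨2, _⟩ => 336
  | ⟨3, _⟩ => 1344

set_option maxRecDepth 1000000 in
theorem t12Sext_checks : (∀ i, Nat.beq (popcF (t12SextTet i)) 4 = true ∧
      Nat.ble (Nat.succ (t12SextTet i)) 16777216 = true ∧
      Nat.beq (syn (t12SextTet i)) (t12SextRep i) = true) ∧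
    nodupBy id (List.flatten (List.ofFn fun i =>
      orbGen actS stabTGens (t12SextIns i) (t12SextRep i))) 0 = true ∧
    ∀ i, (orbGen actS stabTGens (t12SextIns i) (t12SextRep i)).length = t12SextN i := by
  decide +kernel

end Cfsg.Agent.Lib.helper4
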