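import Mathlib
import Cfsg.Prelude.Def_Sporadic_a
import Cfsg.Prelude.Def_SporadicCombinatorics
import Cfsg.Agent.Lib.helper4.TrioStabOrbits
import Cfsg.Agent.Lib.helper3.GolayCard
import Cfsg.Agent.Lib.Helper12.Maximal

set_option autoImplicit false

namespace Cfsg.Agent.Lib.helper4

open Cfsg MulAction
open scoped Pointwise
open Cfsg.Agent.Lib.Helper12.Golay

theorem orbit_T₀ : orbit M24 T₀ = trios := by
  ext X
  constructor
  · rintro ⟨g, rfl⟩
    exact Cfsg.Agent.S1557.smul_trios g T₀ T₀_mem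
  · intro hX
    obtain ⟨g, hg, rfl⟩ := trios_transitive X hX
    exact ⟨⟨g, hg⟩, rfl⟩

theorem card_stab_T₀ : Nat.card ↥(stabilizer M24 T₀) = 64512 := by
  have h2 := Subgroup.card_mul_index (stabilizer M24 T₀)
  rw [← Cfsg.Agent.Lib.Helper12.ncard_orbit_top, orbit_T₀, Cfsg.Agent.S1557.result.2,
    Cfsg.Agent.Lib.helper3.card_M24] at h2
  have h3 : 64512 * 3795 = 244823040 := by norm_num
  exact Nat.eq_of_mul_eq_mul_right (by norm_num : 0 < 3795) (h2.trans h3.symm)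

theorem stabTGens_mem : ∀ T ∈ stabTGens, ValidT T ∧
    ∃ h : permT T ∈ M24, (⟨permT T, h⟩ : M24) ∈ stabilizer M24 T₀ := by
  intro T hT
  obtain ⟨hv, hM, hS⟩ := stabTGens_ok T hT
  exact ⟨hv, hM, hS⟩

theorem t12_arith_oct : ∀ (I : Finset (Fin 3)) (i : Fin 3), i ∈ I →
    (∑ j ∈ I, t12OctN j) ∣ 64512 → I = {i} := by decide

theorem t12_arith_sext : ∀ (I : Finset (Fin 4)) (i : Fin 4), i ∈ I →
    (∑ j ∈ I, t12SextN j) ∣ 64512 → I = {i} := by decide

theorem trio_orbits_octads_sextets (T : Finset (Finset GolayPt)) (hT : T ∈ trios) :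
    (∃ X₁ ∈ octads, ∃ X₂ ∈ octads, ∃ X₃ ∈ octads,
      (orbit ↥(stabilizer M24 T) X₁).ncard = 3 ∧ (orbit ↥(stabilizer M24 T) X₂).ncard = 84 ∧
      (orbit ↥(stabilizer M24 T) X₃).ncard = 672 ∧
      octads = orbit ↥(stabilizer M24 T) X₁ ∪ orbit ↥(stabilizer M24 T) X₂ ∪
        orbit ↥(stabilizer M24 T) X₃) ∧
    (∃ Y₁ ∈ sextets, ∃ Y₂ ∈ sextets, ∃ Y₃ ∈ sextets, ∃ Y₄ ∈ sextets,
      (orbit ↥(stabilizer M24 T) Y₁).ncard = 7 ∧ (orbit ↥(stabilizer M24 T) Y₂).ncard = 84 ∧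
      (orbit ↥(stabilizer M24 T) Y₃).ncard = 336 ∧ (orbit ↥(stabilizer M24 T) Y₄).ncard = 1344 ∧
      sextets = orbit ↥(stabilizer M24 T) Y₁ ∪ orbit ↥(stabilizer M24 T) Y₂ ∪
        orbit ↥(stabilizer M24 T) Y₃ ∪ orbit ↥(stabilizer M24 T) Y₄) := by
  have hK := card_stab_T₀
  have hkT : ∃ k : M24, k • T₀ = T := by
    obtain ⟨k, hk, hkT⟩ := trios_transitive T hT
    exact ⟨⟨k, hk⟩, hkT⟩
  constructor
  · obtain ⟨h1, h2, h3⟩ := t12Oct_checks
    obtain ⟨hc, hF⟩ := octad_orbits (stabilizer M24 T₀) stabTGens stabTGens_mem t12OctIns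
      t12OctN (by rw [hK]; exact t12_arith_oct) t12OctRep h1 h2 h3 (by decide)
    have hmem : ∀ i, fs (t12OctRep i) ∈ octads := fun i => (isOctK_spec (h1 i)).2
    exact three_orbits_transport (M := M24) T₀ octads
      (fun g y hy => smul_mem_octads g.2 hy) _ _ _ (hmem 0) (hmem 1) (hmem 2)
      3 84 672 (hc 0) (hc 1) (hc 2) (fun y => by rw [hF y, exists_fin3]) T hkT
  · obtain ⟨h1, h2, h3⟩ := t12Sext_checks
    have hs : ∀ i, IsSext (t12SextRep i) := fun i => isSext_of_checks (h1 i)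
    obtain ⟨hc, hF⟩ := sextet_orbits (stabilizer M24 T₀) stabTGens stabTGens_mem t12SextIns
      t12SextN (by rw [hK]; exact t12_arith_sext) t12SextRep hs h2 h3 (by decide)
    have hmem : ∀ i, sextetOfSyn (t12SextRep i) ∈ sextets := fun i => sextetOfSyn_mem (hs i)
    exact four_orbits_transport (M := M24) T₀ sextets
      (fun g y hy => smul_sextets g.2 hy) _ _ _ _ (hmem 0) (hmem 1) (hmem 2) (hmem 3)
      7 84 336 1344 (hc 0) (hc 1) (hc 2) (hc 3) (fun y => by rw [hF y, exists_fin4]) T hkT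

end Cfsg.Agent.Lib.helper4
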