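import Mathlib
import Cfsg.Agent.Lib.helper8.A7R.Defs

/-! A7R row H3 (`Pn_all`), helper4: the Sylow 3-subgroups normalized by `j` are the `P_n`. -/

set_option autoImplicit false

namespace Cfsg.Agent.Lib.helper8.A7R

universe u

variable {G : Type u} [Group G]

/-- `conjS (a * b) H = conjS a H` for `b ∈ N(H)` -/
theorem a7rh3_conjS_mul (H : Subgroup G) (a b : G) (hb : b ∈ Nz H) : conjS (a * b) H = conjS a H := by
  ext x
  rw [mem_conjS, mem_conjS]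
  have h1 := (Subgroup.mem_normalizer_iff''.mp hb) (a⁻¹ * x * a)
  have h2 : (a * b)⁻¹ * x * (a * b) = b⁻¹ * (a⁻¹ * x * a) * b := by group
  rw [h2]
  exact h1.symm

/-- H3 [S]: the Sylow 3-subgroups normalized by `j` are the `P_n`, `n < 6` (`conjS (g^n k^e) P = conjS (g^n) P` as `k ∈ N(P)`). -/
theorem Pn_all {P : Sylow 3 G} {k t xj w : G} {V : Subgroup G} (hC : Ctx P k t) (hH : Hex k xj w V)
    (h1 : ∀ R : Sylow 3 G, k ^ 2 ∈ Nz (R : Subgroup G) → ∃ c ∈ Cz (k ^ 2), (R : Subgroup G) = conjS c (P : Subgroup G))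
    (h2 : ∀ c ∈ Cz (k ^ 2), ∃ n < 6, ∃ e : ℕ, c = (xj * w) ^ n * k ^ e)
    (R : Sylow 3 G) (hR : k ^ 2 ∈ Nz (R : Subgroup G)) : ∃ n < 6, (R : Subgroup G) = Pn P xj w n := by
  obtain ⟨c, hc, hRc⟩ := h1 R hR
  obtain ⟨n, hn, e, hce⟩ := h2 c hc
  refine ⟨n, hn, ?_⟩
  rw [hRc, hce]
  unfold Pn
  exact a7rh3_conjS_mul (P : Subgroup G) ((xj * w) ^ n) (k ^ e) (pow_mem hC.hk e)

end Cfsg.Agent.Lib.helper8.A7R
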