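import Mathlib
import Cfsg.Agent.Lib.helper8.A7R.Defs

/-! A7R row H4a (`t_choice`), helper4: the choice of `t` outside `V`. -/

set_option autoImplicit false

namespace Cfsg.Agent.Lib.helper8.A7R

universe u

variable {G : Type u} [Group G]

/-- an element of order 4 does not lie in a subgroup of exponent 2 -/
theorem a7rh4a_not_mem (V : Subgroup G) (hexp : ∀ v ∈ V, v ^ 2 = 1) (k : G) (hk4 : orderOf k = 4) :
    k ∉ V := by
  intro hk
  have h1 : orderOf k ∣ 2 := orderOf_dvd_of_pow_eq_one (hexp k hk)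
  rw [hk4] at h1
  omega

/-- H4a [S]: the choice of `t` outside `V`: if `t ∈ V` take `t k` (`t k ∈ V` would give `k ∈ V`, `k^2 = 1`); `ctx_change`. -/
theorem t_choice {P : Sylow 3 G} {k t xj w : G} {V : Subgroup G} (hC : Ctx P k t) (hH : Hex k xj w V)
    (hch : ∀ t' : G, t' ∈ Nz (Subgroup.zpowers k) → t' ∉ Subgroup.zpowers k → Ctx P k t') :
    ∃ t' : G, Ctx P k t' ∧ t' ∉ V := by
  by_cases ht : t ∈ V
  · have hkK : k ∈ Subgroup.zpowers k := Subgroup.mem_zpowers k
    have hkN : k ∈ Nz (Subgroup.zpowers k) := Subgroup.le_normalizer hkK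
    refine ⟨t * k, hch (t * k) (mul_mem hC.ht hkN) ?_, ?_⟩
    · intro h
      exact hC.htK ((Subgroup.mul_mem_cancel_right _ hkK).mp h)
    · intro h
      exact a7rh4a_not_mem V hH.V_exp k hC.hk4 ((Subgroup.mul_mem_cancel_left _ ht).mp h)
  · exact ⟨t, hC, ht⟩

end Cfsg.Agent.Lib.helper8.A7R
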