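import Mathlib
import Cfsg.Prelude.Def_GeometricClasses
import Cfsg.Agent.Lib.Helper27.ASC.Defs

/-!
# Project ASC, piece SIMPLE (core): a perfect minimal non-scalar `H`-normal subgroup `P` (all `H`-normal subgroups scalar
or absolutely irreducible) is simple non-abelian modulo scalars.

The statements of CLIFFC (`clifford_comm`) and SCHURA (`schur_comm_inv`, commutativity part) are hypotheses here.
-/

set_option autoImplicit false
set_option linter.unusedVariables false

namespace Cfsg.Agent.Lib.Helper27.ASC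

open Cfsg Cfsg.Geo
open scoped MatrixGroups Matrix

variable {n : ℕ} {F : Type*} [Field F]

/-- scalars are central in `GL` -/
theorem ascsimple_scalar_comm {z : GL (Fin n) F} (hz : z ∈ scalars (Fin n) F) (g : GL (Fin n) F) :
    z * g = g * z := by
  obtain ⟨c, hc⟩ := (mem_scalars_iff z).mp hz
  apply Units.ext
  rw [Units.val_mul, Units.val_mul, hc, Matrix.smul_mul, Matrix.mul_smul, Matrix.one_mul, Matrix.mul_one]

/-- conjugates of scalars are the same scalars -/
theorem ascsimple_scalar_conj {z : GL (Fin n) F} (hz : z ∈ scalars (Fin n) F) (g : GL (Fin n) F) :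
    g * z * g⁻¹ = z := by
  rw [← ascsimple_scalar_comm hz g, mul_inv_cancel_right]

/-- the subgroup of `P` of the elements commuting with `A` modulo scalars -/
def ascsimple_cent (P A : Subgroup (GL (Fin n) F)) : Subgroup (GL (Fin n) F) :=
  P ⊓ (Subgroup.centralizer ((A.map (QuotientGroup.mk' (scalars (Fin n) F)) :
    Subgroup (GL (Fin n) F ⧸ scalars (Fin n) F)) : Set (GL (Fin n) F ⧸ scalars (Fin n) F))).comap
      (QuotientGroup.mk' (scalars (Fin n) F))

theorem ascsimple_mem_cent {P A : Subgroup (GL (Fin n) F)} {x : GL (Fin n) F} :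
    x ∈ ascsimple_cent P A ↔ x ∈ P ∧ ∀ a ∈ A, x * a * x⁻¹ * a⁻¹ ∈ scalars (Fin n) F := by
  unfold ascsimple_cent
  rw [Subgroup.mem_inf, Subgroup.mem_comap, Subgroup.mem_centralizer_iff]
  constructor
  · rintro ⟨hxP, hx⟩
    refine ⟨hxP, fun a ha => ?_⟩
    have h1 := hx _ (Subgroup.mem_map_of_mem _ ha)
    rw [← QuotientGroup.eq_one_iff]
    have h2 : ((x * a * x⁻¹ * a⁻¹ : GL (Fin n) F) : GL (Fin n) F ⧸ scalars (Fin n) F) =
        (QuotientGroup.mk' (scalars (Fin n) F)) x * (QuotientGroup.mk' (scalars (Fin n) F)) a *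
          ((QuotientGroup.mk' (scalars (Fin n) F)) x)⁻¹ * ((QuotientGroup.mk' (scalars (Fin n) F)) a)⁻¹ := by
      simp
    rw [h2, ← h1]
    group
  · rintro ⟨hxP, hx⟩
    refine ⟨hxP, ?_⟩
    rintro _ ⟨a, ha, rfl⟩
    have h1 := hx a ha
    rw [← QuotientGroup.eq_one_iff] at h1
    have h2 : ((x * a * x⁻¹ * a⁻¹ : GL (Fin n) F) : GL (Fin n) F ⧸ scalars (Fin n) F) =
        (QuotientGroup.mk' (scalars (Fin n) F)) x * (QuotientGroup.mk' (scalars (Fin n) F)) a *
          ((QuotientGroup.mk' (scalars (Fin n) F)) x)⁻¹ * ((QuotientGroup.mk' (scalars (Fin n) F)) a)⁻¹ := by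
      simp
    rw [h2] at h1
    have h3 : (QuotientGroup.mk' (scalars (Fin n) F)) x * (QuotientGroup.mk' (scalars (Fin n) F)) a =
        (QuotientGroup.mk' (scalars (Fin n) F)) a * (QuotientGroup.mk' (scalars (Fin n) F)) x := by
      have := congrArg (fun t => t * (QuotientGroup.mk' (scalars (Fin n) F)) a *
        (QuotientGroup.mk' (scalars (Fin n) F)) x) h1
      simpa [mul_assoc] using this
    exact h3.symm


variable [Fintype F]

/-- GL-level core of SIMPLE: every subgroup between `P ⊓ scalars` and `P` normalised by `P` is scalar or `P`. -/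
theorem ascsimple_gl {r : ℕ} (hr : r.Prime) {H P : Subgroup (GL (Fin r) F)} (hD : AllNormalAbsIrr H)
    (hP : MinNonscalar P H) (hperf : ⁅P, P⁆ = P)
    (hCL : ∀ {H' N : Subgroup (GL (Fin r) F)}, Irr H' → NormalIn N H' → ¬ Irr N →
      ∀ x ∈ N, ∀ y ∈ N, x * y = y * x)
    (hSA : ∀ {N : Subgroup (GL (Fin r) F)}, Irr N →
      ∀ x ∈ centAlg N, ∀ y ∈ centAlg N, x * y = y * x) :
    ∀ M : Subgroup (GL (Fin r) F), NormalIn M P → P ⊓ scalars (Fin r) F ≤ M →
      M ≤ scalars (Fin r) F ∨ M = P := by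
  classical
  set Z : Subgroup (GL (Fin r) F) := scalars (Fin r) F with hZ
  have hPH : NormalIn P H := hP.1
  have hPns : ¬ P ≤ Z := hP.2.1
  have hmin := hP.2.2
  have hAbs : AbsIrr P := (hD P hPH).resolve_left hPns
  have hIrrP : Irr P := hAbs.1
  have hr0 : 0 < r := hr.pos
  have : NeZero r := ⟨hr0.ne'⟩
  -- Step 1 : the centre modulo scalars is scalar
  have hZc : ascsimple_cent P P ≤ Z := by
    have hN : NormalIn (ascsimple_cent P P) H := by
      refine ⟨fun x hx => hPH.1 (ascsimple_mem_cent.mp hx).1, fun k hk x hx => ?_⟩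
      obtain ⟨hxP, hx⟩ := ascsimple_mem_cent.mp hx
      refine ascsimple_mem_cent.mpr ⟨hPH.2 k hk x hxP, fun a ha => ?_⟩
      have ha' : k⁻¹ * a * k ∈ P := by
        have := hPH.2 k⁻¹ (H.inv_mem hk) a ha
        simpa using this
      have h1 := hx _ ha'
      have h2 : k * x * k⁻¹ * a * (k * x * k⁻¹)⁻¹ * a⁻¹ =
          k * (x * (k⁻¹ * a * k) * x⁻¹ * (k⁻¹ * a * k)⁻¹) * k⁻¹ := by group
      rw [h2, ascsimple_scalar_conj h1]
      exact h1
    rcases hmin _ hN inf_le_left with h | h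
    · exact h
    · exfalso
      apply hPns
      rw [← hperf, Subgroup.commutator_le]
      intro x hx y hy
      have hx' : x ∈ ascsimple_cent P P := by rw [h]; exact hx
      have := (ascsimple_mem_cent.mp hx').2 y hy
      rw [commutatorElement_def]
      exact this
  -- Step 2 : a minimal candidate
  let S : Set (Subgroup (GL (Fin r) F)) := {M | NormalIn M P ∧ P ⊓ Z ≤ M ∧ ¬ M ≤ Z}
  have hfin : Finite (Subgroup (GL (Fin r) F)) := inferInstance
  have hS : S.Nonempty :=
    ⟨P, ⟨le_refl P, fun h hh x hx => P.mul_mem (P.mul_mem hh hx) (P.inv_mem hh)⟩, inf_le_left, hPns⟩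
  obtain ⟨A, hA, hAmin⟩ := Set.Finite.exists_minimal (Set.toFinite S) hS
  obtain ⟨hAN, hAZ, hAns⟩ := hA
  have hAP : A ≤ P := hAN.1
  set B : Subgroup (GL (Fin r) F) := ascsimple_cent P A with hB
  have hBP : B ≤ P := inf_le_left
  -- Step 5 : conjugates of `A`
  have hconjP : ∀ h ∈ H, A.map (MulAut.conj h).toMonoidHom ≤ P := by
    rintro h hh _ ⟨a, ha, rfl⟩
    simp only [MulEquiv.coe_toMonoidHom, MulAut.conj_apply]
    exact hPH.2 h hh a (hAP ha)
  have hconjN : ∀ h ∈ H, ∀ y ∈ P, ∀ x ∈ A.map (MulAut.conj h).toMonoidHom,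
      y * x * y⁻¹ ∈ A.map (MulAut.conj h).toMonoidHom := by
    rintro h hh y hy _ ⟨a, ha, rfl⟩
    simp only [MulEquiv.coe_toMonoidHom, MulAut.conj_apply]
    have hy' : h⁻¹ * y * h ∈ P := by
      have := hPH.2 h⁻¹ (H.inv_mem hh) y hy
      simpa using this
    refine ⟨(h⁻¹ * y * h) * a * (h⁻¹ * y * h)⁻¹, hAN.2 _ hy' a ha, ?_⟩
    simp only [MulEquiv.coe_toMonoidHom, MulAut.conj_apply]
    group
  have hconjZ : ∀ h ∈ H, P ⊓ Z ≤ A.map (MulAut.conj h).toMonoidHom := by
    intro h hh z hz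
    refine ⟨z, hAZ hz, ?_⟩
    simp only [MulEquiv.coe_toMonoidHom, MulAut.conj_apply]
    exact ascsimple_scalar_conj hz.2 h
  have hconjB : ∀ h ∈ H, A.map (MulAut.conj h).toMonoidHom ≠ A →
      A.map (MulAut.conj h).toMonoidHom ≤ B := by
    intro h hh hne x hx
    have hxP : x ∈ P := hconjP h hh hx
    refine ascsimple_mem_cent.mpr ⟨hxP, fun a ha => ?_⟩
    have hc1 : x * a * x⁻¹ * a⁻¹ ∈ A := A.mul_mem (hAN.2 x hxP a ha) (A.inv_mem ha)
    have hc2 : x * a * x⁻¹ * a⁻¹ ∈ A.map (MulAut.conj h).toMonoidHom := by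
      have h1 : a * x⁻¹ * a⁻¹ ∈ A.map (MulAut.conj h).toMonoidHom :=
        hconjN h hh a (hAP ha) x⁻¹ (Subgroup.inv_mem _ hx)
      have h2 : x * a * x⁻¹ * a⁻¹ = x * (a * x⁻¹ * a⁻¹) := by group
      rw [h2]
      exact Subgroup.mul_mem _ hx h1
    by_contra hcon
    -- then `A ⊓ A^h` is a candidate
    have hI : A ⊓ A.map (MulAut.conj h).toMonoidHom ∈ S := by
      refine ⟨⟨inf_le_left.trans hAP, fun y hy m hm => ⟨hAN.2 y hy m hm.1, hconjN h hh y hy m hm.2⟩⟩,
        le_inf hAZ (hconjZ h hh), fun hle => hcon (hle ⟨hc1, hc2⟩)⟩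
    have hle : A ≤ A ⊓ A.map (MulAut.conj h).toMonoidHom := hAmin hI inf_le_left
    have hle' : A ≤ A.map (MulAut.conj h).toMonoidHom := hle.trans inf_le_right
    have hcard : Nat.card (A.map (MulAut.conj h).toMonoidHom) = Nat.card A :=
      Subgroup.card_map_of_injective (MulAut.conj h).injective
    exact hne (Subgroup.eq_of_le_of_card_ge hle' hcard.le).symm
  -- Step 6 : `P ≤ A ⊔ B`
  have hPAB : P ≤ A ⊔ B := by
    set J : Subgroup (GL (Fin r) F) := ⨆ h : H, A.map (MulAut.conj (h : GL (Fin r) F)).toMonoidHom with hJ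
    have hJP : J ≤ P := iSup_le fun h => hconjP h h.2
    have hAJ : A ≤ J := by
      have h1 : A.map (MulAut.conj ((1 : H) : GL (Fin r) F)).toMonoidHom ≤ J :=
        le_iSup (fun h : H => A.map (MulAut.conj (h : GL (Fin r) F)).toMonoidHom) 1
      intro a ha
      apply h1
      refine ⟨a, ha, ?_⟩
      simp
    have hJN : NormalIn J H := by
      refine ⟨hJP.trans hPH.1, fun k hk x hx => ?_⟩
      have hle : J ≤ J.comap (MulAut.conj k).toMonoidHom := by
        apply iSup_le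
        rintro ⟨h, hh⟩ _ ⟨a, ha, rfl⟩
        rw [Subgroup.mem_comap]
        have h1 : A.map (MulAut.conj ((⟨k * h, H.mul_mem hk hh⟩ : H) : GL (Fin r) F)).toMonoidHom ≤ J :=
          le_iSup (fun h : H => A.map (MulAut.conj (h : GL (Fin r) F)).toMonoidHom) ⟨k * h, H.mul_mem hk hh⟩
        apply h1
        refine ⟨a, ha, ?_⟩
        simp only [MulEquiv.coe_toMonoidHom, MulAut.conj_apply]
        group
      have := hle hx
      rw [Subgroup.mem_comap] at this
      simpa only [MulEquiv.coe_toMonoidHom, MulAut.conj_apply] using this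
    have hJeq : J = P := by
      rcases hmin J hJN hJP with h | h
      · exact absurd (hAJ.trans h) hAns
      · exact h
    rw [← hJeq]
    apply iSup_le
    rintro ⟨h, hh⟩
    by_cases heq : A.map (MulAut.conj h).toMonoidHom = A
    · rw [heq]; exact le_sup_left
    · exact (hconjB h hh heq).trans le_sup_right
  -- Step 7 : `⁅A, A⁆` is not scalar
  have hAA : ¬ ⁅A, A⁆ ≤ Z := by
    intro hle
    have hAB : A ≤ B := by
      intro x hx
      refine ascsimple_mem_cent.mpr ⟨hAP hx, fun a ha => ?_⟩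
      have := Subgroup.commutator_mem_commutator hx ha
      rw [commutatorElement_def] at this
      exact hle this
    have hPB : P ≤ B := hPAB.trans (sup_le hAB le_rfl)
    apply hAns
    refine le_trans ?_ hZc
    intro a ha
    refine ascsimple_mem_cent.mpr ⟨hAP ha, fun y hy => ?_⟩
    have h1 := (ascsimple_mem_cent.mp (hPB hy)).2 a ha
    have h2 : a * y * a⁻¹ * y⁻¹ = (y * a * y⁻¹ * a⁻¹)⁻¹ := by group
    rw [h2]
    exact Z.inv_mem h1
  -- Step 8 : `A = ⁅A, A⁆ ⊔ (P ⊓ Z)`
  have hAA' : A ≤ ⁅A, A⁆ ⊔ (P ⊓ Z) := by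
    have hcN : NormalIn ⁅A, A⁆ P := commutator_normalIn hAN
    have hmem : ⁅A, A⁆ ⊔ (P ⊓ Z) ∈ S := by
      refine ⟨⟨sup_le hcN.1 inf_le_left, fun y hy x hx => ?_⟩, le_sup_right,
        fun hle => hAA (le_sup_left.trans hle)⟩
      have hle : ⁅A, A⁆ ⊔ (P ⊓ Z) ≤ (⁅A, A⁆ ⊔ (P ⊓ Z)).comap (MulAut.conj y).toMonoidHom := by
        apply sup_le
        · intro m hm
          rw [Subgroup.mem_comap]
          simp only [MulEquiv.coe_toMonoidHom, MulAut.conj_apply]
          exact (le_sup_left : ⁅A, A⁆ ≤ ⁅A, A⁆ ⊔ (P ⊓ Z)) (hcN.2 y hy m hm)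
        · intro m hm
          rw [Subgroup.mem_comap]
          simp only [MulEquiv.coe_toMonoidHom, MulAut.conj_apply]
          rw [ascsimple_scalar_conj hm.2]
          exact (le_sup_right : P ⊓ Z ≤ ⁅A, A⁆ ⊔ (P ⊓ Z)) hm
      have := hle hx
      rw [Subgroup.mem_comap] at this
      simpa only [MulEquiv.coe_toMonoidHom, MulAut.conj_apply] using this
    exact hAmin hmem (sup_le (Subgroup.commutator_le_self A) hAZ)
  -- Step 9 : `B` centralises `A`
  have hcent : A ≤ Subgroup.centralizer (B : Set (GL (Fin r) F)) := by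
    have hZcent : ∀ K : Subgroup (GL (Fin r) F), Z ≤ Subgroup.centralizer (K : Set (GL (Fin r) F)) := by
      intro K z hz
      rw [Subgroup.mem_centralizer_iff]
      intro g _
      exact (ascsimple_scalar_comm hz g).symm
    have hABZ : ⁅A, B⁆ ≤ Z := by
      rw [Subgroup.commutator_le]
      intro a ha b hb
      have h1 := (ascsimple_mem_cent.mp hb).2 a ha
      rw [commutatorElement_def]
      have h2 : a * b * a⁻¹ * b⁻¹ = (b * a * b⁻¹ * a⁻¹)⁻¹ := by group
      rw [h2]
      exact Z.inv_mem h1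
    have h1 : ⁅⁅A, B⁆, A⁆ = ⊥ :=
      Subgroup.commutator_eq_bot_iff_le_centralizer.mpr (hABZ.trans (hZcent A))
    have h2 : ⁅⁅B, A⁆, A⁆ = ⊥ := by
      rw [Subgroup.commutator_comm B A]; exact h1
    have h3 : ⁅⁅A, A⁆, B⁆ = ⊥ := Subgroup.commutator_commutator_eq_bot_of_rotate h1 h2
    have h4 : ⁅A, A⁆ ≤ Subgroup.centralizer (B : Set (GL (Fin r) F)) :=
      Subgroup.commutator_eq_bot_iff_le_centralizer.mp h3
    exact hAA'.trans (sup_le h4 (inf_le_right.trans (hZcent B)))
  -- Step 10 : `A` is irreducible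
  have hIrrA : Irr A := by
    by_contra hnot
    have hcomm := hCL hIrrP hAN hnot
    apply hAA
    have : ⁅A, A⁆ ≤ ⊥ := by
      rw [Subgroup.commutator_le]
      intro a ha b hb
      rw [Subgroup.mem_bot, commutatorElement_eq_one_iff_commute]
      exact hcomm a ha b hb
    exact this.trans bot_le
  -- Step 11 : `B` is commutative
  have hBcomm : ∀ b₁ ∈ B, ∀ b₂ ∈ B, b₁ * b₂ = b₂ * b₁ := by
    have hmemc : ∀ b ∈ B, (b : Matrix (Fin r) (Fin r) F) ∈ centAlg A := by
      intro b hb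
      rw [Subalgebra.mem_centralizer_iff]
      rintro _ ⟨a, ha, rfl⟩
      have := Subgroup.mem_centralizer_iff.mp (hcent ha) b hb
      -- `b * a = a * b`
      rw [← Units.val_mul, ← Units.val_mul, this]
    intro b₁ hb₁ b₂ hb₂
    apply Units.ext
    rw [Units.val_mul, Units.val_mul]
    exact hSA hIrrA _ (hmemc b₁ hb₁) _ (hmemc b₂ hb₂)
  -- Step 12 : `B` is scalar
  have hBZ : B ≤ Z := by
    intro b hb
    have hPc : P ≤ Subgroup.centralizer ({b} : Set (GL (Fin r) F)) := by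
      refine hPAB.trans (sup_le ?_ ?_)
      · intro a ha
        rw [Subgroup.mem_centralizer_iff]
        intro g hg
        rw [Set.mem_singleton_iff] at hg
        subst hg
        exact Subgroup.mem_centralizer_iff.mp (hcent ha) g hb
      · intro b' hb'
        rw [Subgroup.mem_centralizer_iff]
        intro g hg
        rw [Set.mem_singleton_iff] at hg
        subst hg
        exact hBcomm g hb b' hb'
    have hcommP : ∀ s ∈ matrixSet P, (b : Matrix (Fin r) (Fin r) F) * s = s * (b : Matrix (Fin r) (Fin r) F) := by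
      rintro _ ⟨x, hx, rfl⟩
      have := Subgroup.mem_centralizer_iff.mp (hPc hx) b (Set.mem_singleton b)
      rw [← Units.val_mul, ← Units.val_mul, this]
    obtain ⟨c, hc⟩ := hAbs.2 _ hcommP
    have hc0 : c ≠ 0 := by
      rintro rfl
      rw [zero_smul] at hc
      have h1 : (b : Matrix (Fin r) (Fin r) F) * ((b⁻¹ : GL (Fin r) F) : Matrix (Fin r) (Fin r) F) = 1 := by
        rw [← Units.val_mul, mul_inv_cancel]; rfl
      rw [hc, Matrix.zero_mul] at h1
      exact zero_ne_one h1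
    exact (mem_scalars_iff b).mpr ⟨Units.mk0 c hc0, hc⟩
  -- Step 13 : `A = P`
  have hAeq : A = P := by
    apply le_antisymm hAP
    exact hPAB.trans (sup_le le_rfl ((le_inf hBP hBZ).trans hAZ))
  -- conclusion
  intro M hMN hMZ
  by_cases hM : M ≤ Z
  · exact Or.inl hM
  · right
    apply le_antisymm hMN.1
    rw [← hAeq]
    exact hAmin ⟨hMN, hMZ, hM⟩ (by rw [hAeq]; exact hMN.1)


/-- SIMPLE (core): the statement of `perfect_case_simple` with CLIFFC and the commutativity part of SCHURA as hypotheses. -/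
theorem ascsimple_core {r : ℕ} (hr : r.Prime) {H P : Subgroup (GL (Fin r) F)} (hD : AllNormalAbsIrr H)
    (hP : MinNonscalar P H) (hperf : ⁅P, P⁆ = P)
    (hCL : ∀ {H' N : Subgroup (GL (Fin r) F)}, Irr H' → NormalIn N H' → ¬ Irr N →
      ∀ x ∈ N, ∀ y ∈ N, x * y = y * x)
    (hSA : ∀ {N : Subgroup (GL (Fin r) F)}, Irr N →
      ∀ x ∈ centAlg N, ∀ y ∈ centAlg N, x * y = y * x) :
    IsSimpleGroup (P ⧸ (scalars (Fin r) F).subgroupOf P) ∧
      ¬ IsMulCommutative (P ⧸ (scalars (Fin r) F).subgroupOf P) := by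
  classical
  have hgl := ascsimple_gl hr hD hP hperf hCL hSA
  have hPns : ¬ P ≤ scalars (Fin r) F := hP.2.1
  have hone : ∀ x : P, ((x : P ⧸ (scalars (Fin r) F).subgroupOf P) = 1) ↔
      (x : GL (Fin r) F) ∈ scalars (Fin r) F := by
    intro x
    rw [QuotientGroup.eq_one_iff, Subgroup.mem_subgroupOf]
  refine ⟨?_, ?_⟩
  · -- simple
    have : Nontrivial (P ⧸ (scalars (Fin r) F).subgroupOf P) := by
      obtain ⟨x, hxP, hxZ⟩ := Set.not_subset.mp hPns
      refine ⟨⟨((⟨x, hxP⟩ : P) : P ⧸ (scalars (Fin r) F).subgroupOf P), 1, ?_⟩⟩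
      intro h
      exact hxZ ((hone ⟨x, hxP⟩).mp h)
    refine ⟨fun N hN => ?_⟩
    set M : Subgroup (GL (Fin r) F) :=
      (N.comap (QuotientGroup.mk' ((scalars (Fin r) F).subgroupOf P))).map P.subtype with hM
    have hMP : M ≤ P := Subgroup.map_subtype_le _
    have hmemM : ∀ x : P, (x : GL (Fin r) F) ∈ M ↔
        ((x : P ⧸ (scalars (Fin r) F).subgroupOf P)) ∈ N := by
      intro x
      constructor
      · rintro ⟨x₁, hx₁, hx⟩
        have : x₁ = x := Subtype.ext hx
        rw [← this]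
        exact hx₁
      · intro hx
        exact ⟨x, hx, rfl⟩
    have hMN : NormalIn M P := by
      refine ⟨hMP, ?_⟩
      rintro y hy _ ⟨x₀, hx₀, rfl⟩
      have h1 : y * (P.subtype x₀) * y⁻¹ = (((⟨y, hy⟩ : P) * x₀ * (⟨y, hy⟩ : P)⁻¹ : P) : GL (Fin r) F) := by
        simp
      rw [h1, hmemM]
      have hx₀' : ((x₀ : P ⧸ (scalars (Fin r) F).subgroupOf P)) ∈ N := hx₀
      have := hN.conj_mem _ hx₀' (((⟨y, hy⟩ : P) : P ⧸ (scalars (Fin r) F).subgroupOf P))
      simpa using this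
    have hMZ : P ⊓ scalars (Fin r) F ≤ M := by
      intro z hz
      have : (((⟨z, hz.1⟩ : P) : P ⧸ (scalars (Fin r) F).subgroupOf P)) = 1 := (hone ⟨z, hz.1⟩).mpr hz.2
      have h2 := (hmemM ⟨z, hz.1⟩).mpr (by rw [this]; exact N.one_mem)
      exact h2
    rcases hgl M hMN hMZ with h | h
    · left
      rw [eq_bot_iff]
      intro q hq
      obtain ⟨x, rfl⟩ := QuotientGroup.mk_surjective q
      rw [Subgroup.mem_bot]
      exact (hone x).mpr (h ((hmemM x).mpr hq))
    · right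
      rw [eq_top_iff]
      intro q _
      obtain ⟨x, rfl⟩ := QuotientGroup.mk_surjective q
      apply (hmemM x).mp
      rw [h]
      exact x.2
  · -- not commutative
    intro hc
    apply hPns
    rw [← hperf, Subgroup.commutator_le]
    intro x hx y hy
    have h1 : (((⟨x, hx⟩ : P) * ⟨y, hy⟩ * (⟨x, hx⟩ : P)⁻¹ * (⟨y, hy⟩ : P)⁻¹ : P) :
        P ⧸ (scalars (Fin r) F).subgroupOf P) = 1 := by
      have hcomm := mul_comm' (((⟨x, hx⟩ : P) : P ⧸ (scalars (Fin r) F).subgroupOf P))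
        (((⟨y, hy⟩ : P) : P ⧸ (scalars (Fin r) F).subgroupOf P))
      rw [QuotientGroup.mk_mul, QuotientGroup.mk_mul, QuotientGroup.mk_mul, QuotientGroup.mk_inv,
        QuotientGroup.mk_inv, hcomm]
      group
    have h2 := (hone _).mp h1
    rw [commutatorElement_def]
    simpa using h2

end Cfsg.Agent.Lib.Helper27.ASC
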