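import Mathlib
import Cfsg.Prelude.Def_GeometricClasses
import Cfsg.Agent.Lib.Helper27.ASC.Defs
import Cfsg.Agent.Lib.Helper19.ASG.Defs
import Cfsg.Agent.Lib.Helper18.ASP.Defs
import Cfsg.Agent.Lib.Helper18.ASPADJ
import Cfsg.Agent.Lib.helper8.ASPC.Defs

set_option autoImplicit false
set_option linter.unusedVariables false
set_option linter.unusedSectionVars false
set_option linter.unusedSimpArgs false

namespace Cfsg.Agent.Lib.Helper18.ASP

open Cfsg Cfsg.Geo Cfsg.Agent.Lib.Helper27.ASC Cfsg.Agent.Lib.Helper19.ASG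
open scoped MatrixGroups Matrix Kronecker

variable {n : ℕ} {F : Type*} [Field F]

/-- equality of `2 × 2` matrices entry by entry -/
theorem aspcani1_ext {M N : Matrix (Fin 2) (Fin 2) F} (h00 : M 0 0 = N 0 0) (h01 : M 0 1 = N 0 1)
    (h10 : M 1 0 = N 1 0) (h11 : M 1 1 = N 1 1) : M = N := by
  ext i k
  fin_cases i <;> fin_cases k
  · exact h00
  · exact h01
  · exact h10
  · exact h11

/-- entries of a product of `2 × 2` matrices -/
theorem aspcani1_mul (M N : Matrix (Fin 2) (Fin 2) F) (i k : Fin 2) :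
    (M * N) i k = M i 0 * N 0 k + M i 1 * N 1 k := by
  rw [Matrix.mul_apply, Fin.sum_univ_two]

/-- (second copy of C-ANI1, renamed: the verbatim `spc_binary_anisotropic` is in `helper8/ASPCANI1.lean`) the quadratic field element `j` attached to an anisotropic binary symmetric form. -/
theorem aspcani1_binary_anisotropic_h4 (h2 : (2 : F) ≠ 0) (S : Matrix (Fin 2) (Fin 2) F) (hS : Sᵀ = S)
    (hani : ∀ w : Fin 2 → F, w ≠ 0 → w ⬝ᵥ (S *ᵥ w) ≠ 0) :
    ∃ (j : Matrix (Fin 2) (Fin 2) F) (c : F), j * j = c • (1 : Matrix (Fin 2) (Fin 2) F) ∧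
      (∀ x y : F, x ^ 2 - c * y ^ 2 = 0 → x = 0 ∧ y = 0) ∧ jᵀ * S = -(S * j) ∧
      ∀ (a : Matrix (Fin 2) (Fin 2) F) (μ : F), μ ≠ 0 → aᵀ * S * a = μ • S → (a * j = j * a ∨ a * j = -(j * a)) := by
  have h10 : S 1 0 = S 0 1 := by
    have h1 := congrFun (congrFun hS 0) 1
    simpa [Matrix.transpose_apply] using h1
  have hQ : ∀ v : Fin 2 → F, v ⬝ᵥ (S *ᵥ v) =
      S 0 0 * v 0 ^ 2 + 2 * S 0 1 * v 0 * v 1 + S 1 1 * v 1 ^ 2 := by
    intro v
    have e : v ⬝ᵥ (S *ᵥ v) = v 0 * (S 0 0 * v 0 + S 0 1 * v 1) + v 1 * (S 1 0 * v 0 + S 1 1 * v 1) := by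
      simp [dotProduct, Matrix.mulVec, Fin.sum_univ_two]
    rw [e, h10]
    ring
  -- `p ≠ 0`
  have hp : S 0 0 ≠ 0 := by
    obtain ⟨u, eu0, eu1⟩ : ∃ u : Fin 2 → F, u 0 = 1 ∧ u 1 = 0 := ⟨![1, 0], rfl, rfl⟩
    have hu : u ≠ 0 := by
      intro h
      have h1 := congrFun h 0
      rw [eu0] at h1
      exact one_ne_zero h1
    intro h
    apply hani u hu
    rw [hQ, eu0, eu1, h]
    ring
  -- the anisotropy of `x² - c y²`
  have hc2 : ∀ x y : F, x ^ 2 - (S 0 1 ^ 2 - S 0 0 * S 1 1) * y ^ 2 = 0 → x = 0 ∧ y = 0 := by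
    intro x y hxy
    obtain ⟨v, e0, e1⟩ : ∃ v : Fin 2 → F, v 0 = x - S 0 1 * y ∧ v 1 = S 0 0 * y :=
      ⟨![x - S 0 1 * y, S 0 0 * y], rfl, rfl⟩
    have hv : v ⬝ᵥ (S *ᵥ v) = 0 := by
      rw [hQ, e0, e1]
      linear_combination S 0 0 * hxy
    have hvz : v = 0 := by
      by_contra hv0
      exact hani v hv0 hv
    have h0 : v 0 = 0 := congrFun hvz 0
    have h1 : v 1 = 0 := congrFun hvz 1
    rw [e0] at h0
    rw [e1] at h1
    have hy : y = 0 := (mul_eq_zero.mp h1).resolve_left hp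
    refine ⟨?_, hy⟩
    rw [hy] at h0
    linear_combination h0
  have hD : S 0 0 * S 1 1 - S 0 1 ^ 2 ≠ 0 := by
    intro h
    have h1 := (hc2 0 1 (by linear_combination h)).2
    exact one_ne_zero h1
  obtain ⟨j, j00, j01, j10, j11⟩ : ∃ j : Matrix (Fin 2) (Fin 2) F,
      j 0 0 = S 0 1 ∧ j 0 1 = S 1 1 ∧ j 1 0 = -S 0 0 ∧ j 1 1 = -S 0 1 :=
    ⟨!![S 0 1, S 1 1; -S 0 0, -S 0 1], rfl, rfl, rfl, rfl⟩
  have one00 : (1 : Matrix (Fin 2) (Fin 2) F) 0 0 = 1 := Matrix.one_apply_eq 0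
  have one11 : (1 : Matrix (Fin 2) (Fin 2) F) 1 1 = 1 := Matrix.one_apply_eq 1
  have one01 : (1 : Matrix (Fin 2) (Fin 2) F) 0 1 = 0 := Matrix.one_apply_ne (by decide)
  have one10 : (1 : Matrix (Fin 2) (Fin 2) F) 1 0 = 0 := Matrix.one_apply_ne (by decide)
  refine ⟨j, S 0 1 ^ 2 - S 0 0 * S 1 1, ?_, hc2, ?_, ?_⟩
  · apply aspcani1_ext
    · simp only [aspcani1_mul, Matrix.smul_apply, smul_eq_mul, j00, j01, j10, j11, one00, one01, one10, one11] <;> ring
    · simp only [aspcani1_mul, Matrix.smul_apply, smul_eq_mul, j00, j01, j10, j11, one00, one01, one10, one11] <;> ring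
    · simp only [aspcani1_mul, Matrix.smul_apply, smul_eq_mul, j00, j01, j10, j11, one00, one01, one10, one11] <;> ring
    · simp only [aspcani1_mul, Matrix.smul_apply, smul_eq_mul, j00, j01, j10, j11, one00, one01, one10, one11] <;> ring
  · apply aspcani1_ext
    · simp only [aspcani1_mul, Matrix.transpose_apply, Matrix.neg_apply, j00, j01, j10, j11, h10] <;> ring
    · simp only [aspcani1_mul, Matrix.transpose_apply, Matrix.neg_apply, j00, j01, j10, j11, h10] <;> ring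
    · simp only [aspcani1_mul, Matrix.transpose_apply, Matrix.neg_apply, j00, j01, j10, j11, h10] <;> ring
    · simp only [aspcani1_mul, Matrix.transpose_apply, Matrix.neg_apply, j00, j01, j10, j11, h10] <;> ring
  · intro a μ hμ h
    have E00 := congrFun (congrFun h 0) 0
    have E01 := congrFun (congrFun h 0) 1
    have E11 := congrFun (congrFun h 1) 1
    simp only [aspcani1_mul, Matrix.transpose_apply, Matrix.smul_apply, smul_eq_mul, h10] at E00 E01 E11
    have hδ : ((a 0 0 * a 1 1 - a 0 1 * a 1 0) - μ) * ((a 0 0 * a 1 1 - a 0 1 * a 1 0) + μ) *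
        (S 0 0 * S 1 1 - S 0 1 ^ 2) = 0 := by
      linear_combination (S 0 0 * a 0 1 ^ 2 + 2 * S 0 1 * a 0 1 * a 1 1 + S 1 1 * a 1 1 ^ 2) * E00 +
        (μ * S 0 0) * E11 -
        (S 0 0 * a 0 0 * a 0 1 + S 0 1 * (a 0 0 * a 1 1 + a 1 0 * a 0 1) + S 1 1 * a 1 0 * a 1 1 + μ * S 0 1) * E01
    have key : μ • (a * j) = (a 0 0 * a 1 1 - a 0 1 * a 1 0) • (j * a) := by
      apply aspcani1_ext
      · simp only [Matrix.smul_apply, smul_eq_mul, aspcani1_mul, j00, j01, j10, j11]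
        linear_combination a 0 1 * E00 - a 0 0 * E01
      · simp only [Matrix.smul_apply, smul_eq_mul, aspcani1_mul, j00, j01, j10, j11]
        linear_combination a 0 1 * E01 - a 0 0 * E11
      · simp only [Matrix.smul_apply, smul_eq_mul, aspcani1_mul, j00, j01, j10, j11]
        linear_combination a 1 1 * E00 - a 1 0 * E01
      · simp only [Matrix.smul_apply, smul_eq_mul, aspcani1_mul, j00, j01, j10, j11]
        linear_combination a 1 1 * E01 - a 1 0 * E11
    rcases mul_eq_zero.mp ((mul_eq_zero.mp hδ).resolve_right hD) with h1 | h1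
    · left
      rw [sub_eq_zero.mp h1] at key
      exact smul_right_injective (Matrix (Fin 2) (Fin 2) F) hμ key
    · right
      rw [eq_neg_of_add_eq_zero_left h1, neg_smul, ← smul_neg] at key
      exact smul_right_injective (Matrix (Fin 2) (Fin 2) F) hμ key

end Cfsg.Agent.Lib.Helper18.ASP
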