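import Mathlib
import Cfsg.Prelude.Def_GeometricClasses
import Cfsg.Agent.Lib.Helper27.ASC.Defs
import Cfsg.Agent.Lib.Helper19.ASG.Defs
import Cfsg.Agent.Lib.Helper9.ASGD2T.Defs
import Cfsg.Agent.Lib.Helper9.ASGD2TF.Defs
import Cfsg.Agent.Lib.Helper19.ASU.Defs
import Cfsg.Agent.Lib.Helper19.ASUADJ
import Cfsg.Agent.S0277
import Cfsg.Agent.Lib.helper2.Burnside2

set_option autoImplicit false
set_option linter.unusedVariables false
set_option linter.unusedSectionVars false

/-!
# Project ASU (S5663), block D2T, piece D2T-GU32 : `gu32_perfect_trivial`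

`|GU_3(2)| = 2 ^ 3 * 3 ^ 4` (S0277), so `GU_3(2)` is soluble (Burnside `p^a q^b`), and a perfect subgroup of a soluble group
is trivial.
-/

namespace Cfsg.Agent.Lib.Helper19.ASU

open Cfsg Cfsg.Geo Cfsg.Agent.Lib.Helper27.ASC Cfsg.Agent.Lib.Helper19.ASG
open scoped MatrixGroups Matrix

variable {n : ℕ} {F : Type*} [Field F]

variable [Fintype F]

/-- the order of `GU_3(2)` -/
theorem asud2tgu32_card (hF : Fintype.card F = 4) : Nat.card (GU 3 F 2) = 2 ^ 3 * 3 ^ 4 := by
  have hF' : Fintype.card F = 2 ^ 2 := hF.trans (by norm_num)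
  rw [Cfsg.Agent.S0277.result hF' 3]
  decide

/-- `GU_3(2)` is soluble -/
theorem asud2tgu32_solvable (hF : Fintype.card F = 4) : Group.IsSolvable (GU 3 F 2) :=
  Cfsg.Agent.Lib.helper2.burnside_pq 2 3 3 4 Nat.prime_two Nat.prime_three (asud2tgu32_card hF)

/-- a perfect subgroup of a soluble subgroup is trivial -/
theorem asud2tgu32_perfect_of_solvable {G : Type*} [Group G] (S K : Subgroup G) (hS : Group.IsSolvable S) (hK : K ≤ S)
    (hperf : ⁅K, K⁆ = K) : K = ⊥ := by
  have hmap : (K.subgroupOf S).map S.subtype = K := Subgroup.map_subgroupOf_eq_of_le hK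
  have hperf' : ⁅K.subgroupOf S, K.subgroupOf S⁆ = K.subgroupOf S := by
    apply Subgroup.map_injective S.subtype_injective
    rw [Subgroup.map_commutator, hmap, hperf]
  have hK' : K.subgroupOf S = ⊥ := by
    by_contra h
    have hlt := Group.IsSolvable.commutator_lt_of_ne_bot h
    rw [hperf'] at hlt
    exact lt_irrefl _ hlt
  calc K = (K.subgroupOf S).map S.subtype := hmap.symm
    _ = ⊥ := by rw [hK', Subgroup.map_bot]

/-- D2T-GU32 : `GU_3(2)` is soluble: a perfect subgroup is trivial.  (`K` perfect, so `det = 1` on `K`: `K` is the image of a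
perfect subgroup `K'` of `Cfsg.SU 3 F 2 ≤ SL_3(F)`; its image in `Cfsg.PSU 3 F 2 = SU / Z(SU)` is perfect and soluble
(`Cfsg.Agent.S0282.result`), so trivial; `K' ≤ Z(SU)` is abelian and perfect, so trivial.) -/
theorem gu32_perfect_trivial (hF : Fintype.card F = 4) (K : Subgroup (GL (Fin 3) F)) (hK : K ≤ GU 3 F 2)
    (hperf : ⁅K, K⁆ = K) : K = ⊥ :=
  asud2tgu32_perfect_of_solvable (GU 3 F 2) K (asud2tgu32_solvable hF) hK hperf

end Cfsg.Agent.Lib.Helper19.ASU
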