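import Mathlib
import Cfsg.Agent.Lib.Helper10.BGL.AlgDefs

/-!
# Project BGL (S2189 / S2190, designer helper10), block ALG, row AL8 (`alg_main`) (helper4), CORE.

`bglal8_core`: the SkelALG statement of `alg_main` with the statements of AL3 (`alg_word`, restricted to `M`) and AL7 (`alg_spec_entry`, at the data `D p a M`) as hypotheses.
On AL1 `alg_sep` and `alg_fix_mul` (`Helper10/BGL/AlgDefs.lean`).
-/

set_option autoImplicit false

namespace Cfsg.Agent.Lib.Helper10.BGL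

open Cfsg.Lie Cfsg.Lie.ChevalleyDatum Cfsg.Agent.Lib.helper8

universe u

/-- the fixed points of `c ↦ c ^ (p ^ a)` in a field form a finite set -/
theorem bglal8_fix_finite {k : Type u} [Field k] (p : ℕ) [Fact p.Prime] (a : ℕ) (ha : 1 ≤ a) :
    {c : k | c ^ (p ^ a) = c}.Finite := by
  classical
  have hP : (Polynomial.X ^ p ^ a - Polynomial.X : Polynomial k) ≠ 0 :=
    FiniteField.X_pow_card_pow_sub_X_ne_zero k (by omega) (Fact.out : p.Prime).one_lt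
  refine Set.Finite.subset (Polynomial.X ^ p ^ a - Polynomial.X : Polynomial k).roots.toFinset.finite_toSet ?_
  intro c hc
  rw [Finset.mem_coe, Multiset.mem_toFinset, Polynomial.mem_roots hP, Polynomial.IsRoot.def,
    Polynomial.eval_sub, Polynomial.eval_pow, Polynomial.eval_X]
  exact sub_eq_zero.2 hc

/-- AL8 core -/
theorem bglal8_core (D : ChevalleyDatum) {k : Type u} [Field k] (p : ℕ) [Fact p.Prime] [CharP k p] (a : ℕ) (ha : 1 ≤ a)
    (M : Subgroup (GL D.Idx k)) (hMfin : Finite M)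
    (hAL3 : ∀ g ∈ M, ∃ w : List (ℕ × k), (g : Matrix D.Idx D.Idx k) = D.wordMat k w)
    (hAL7 : ∀ (R : Subring k), (∀ c : k, c ^ (p ^ a) = c → c ∈ R) →
      (∀ g ∈ M, ∃ w : List (ℕ × k), (∀ pr ∈ w, pr.2 ∈ R) ∧ (g : Matrix D.Idx D.Idx k) = D.wordMat k w) →
      ∀ (hRe : ∀ g ∈ M, ∀ i j, (g : Matrix D.Idx D.Idx k) i j ∈ R) (F : Type u) [Field F] [Finite F] (π : R →+* F)
        (g : GL D.Idx k) (hg : g ∈ M) (i j : D.Idx),
        ∃ n : ℕ, 1 ≤ n ∧ n ≤ Nat.card M ∧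
          π ⟨(g : Matrix D.Idx D.Idx k) i j, hRe g hg i j⟩ ^ (p ^ n) =
            π ⟨(g : Matrix D.Idx D.Idx k) i j, hRe g hg i j⟩) :
    ∃ N : ℕ, 1 ≤ N ∧ ∀ g ∈ M, ∀ i j : D.Idx,
      ((g : Matrix D.Idx D.Idx k) i j) ^ (p ^ N) = (g : Matrix D.Idx D.Idx k) i j := by
  classical
  choose! wf hwf using hAL3
  have hS1 : (Set.range (fun x : M × D.Idx × D.Idx =>
      (((x.1 : GL D.Idx k) : Matrix D.Idx D.Idx k)) x.2.1 x.2.2)).Finite := Set.finite_range _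
  have hS2 : (⋃ g : M, {t : k | t ∈ (wf (g : GL D.Idx k)).map Prod.snd}).Finite :=
    Set.finite_iUnion (fun g => List.finite_toSet _)
  have hS3 : {c : k | c ^ (p ^ a) = c}.Finite := bglal8_fix_finite p a ha
  obtain ⟨R, hSR, hsep⟩ := alg_sep p (hS1.union (hS2.union hS3)).toFinset
  rw [Set.Finite.coe_toFinset] at hSR
  have hRe : ∀ g ∈ M, ∀ i j, (g : Matrix D.Idx D.Idx k) i j ∈ R := fun g hg i j =>
    hSR (Or.inl ⟨(⟨g, hg⟩, i, j), rfl⟩)
  have hRq : ∀ c : k, c ^ (p ^ a) = c → c ∈ R := fun c hc => hSR (Or.inr (Or.inr hc))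
  have hw : ∀ g ∈ M, ∃ w : List (ℕ × k), (∀ pr ∈ w, pr.2 ∈ R) ∧
      (g : Matrix D.Idx D.Idx k) = D.wordMat k w := by
    intro g hg
    refine ⟨wf g, fun pr hpr => hSR (Or.inr (Or.inl ?_)), hwf g hg⟩
    rw [Set.mem_iUnion]
    exact ⟨⟨g, hg⟩, List.mem_map.2 ⟨pr, hpr, rfl⟩⟩
  refine ⟨(Nat.card M).factorial, Nat.factorial_pos _, ?_⟩
  intro g hg i j
  have key : ∃ n : ℕ, 1 ≤ n ∧ n ≤ Nat.card M ∧
      (⟨(g : Matrix D.Idx D.Idx k) i j, hRe g hg i j⟩ : R) ^ (p ^ n) = ⟨(g : Matrix D.Idx D.Idx k) i j, hRe g hg i j⟩ := by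
    by_contra hcon
    push Not at hcon
    have hP : (∏ n ∈ Finset.Icc 1 (Nat.card M),
        ((⟨(g : Matrix D.Idx D.Idx k) i j, hRe g hg i j⟩ : R) ^ (p ^ n) - ⟨(g : Matrix D.Idx D.Idx k) i j, hRe g hg i j⟩)) ≠ 0 := by
      rw [Finset.prod_ne_zero_iff]
      intro n hn
      rw [Finset.mem_Icc] at hn
      exact sub_ne_zero.2 (hcon n hn.1 hn.2)
    obtain ⟨F, iF, fF, π, hπ⟩ := hsep _ hP
    obtain ⟨n, h1, h2, h3⟩ := hAL7 R hRq hw hRe F π g hg i j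
    apply hπ
    rw [map_prod]
    apply Finset.prod_eq_zero (Finset.mem_Icc.2 ⟨h1, h2⟩)
    rw [map_sub, map_pow, h3, sub_self]
  obtain ⟨n, h1, h2, h3⟩ := key
  have h3' : ((g : Matrix D.Idx D.Idx k) i j) ^ (p ^ n) = (g : Matrix D.Idx D.Idx k) i j := by
    have := congrArg Subtype.val h3
    simpa using this
  obtain ⟨c, hc⟩ := Nat.dvd_factorial (by omega : 0 < n) h2
  have := alg_fix_mul p ((g : Matrix D.Idx D.Idx k) i j) n h3' c
  rw [hc, mul_comm]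
  exact this

end Cfsg.Agent.Lib.Helper10.BGL
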