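import Mathlib
import Cfsg.Agent.Lib.Helper10.BGL.AlgDefs
import Cfsg.Agent.Lib.Helper22.BGLAL3
import Cfsg.Agent.Lib.helper23.BGLAL7
import Cfsg.Agent.Lib.helper4.BGLAL8core

/-!
# Project BGL (S2189 / S2190, designer helper10), block ALG, row AL8 (`alg_main`) (helper4), VERBATIM.

Wrapper of `bglal8_core` (`helper4/BGLAL8core.lean`) on AL3 `alg_word` (`Helper22.BGLAL3`) and AL7 `alg_spec_entry` (`helper23.BGLAL7`).
-/

set_option autoImplicit false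

namespace Cfsg.Agent.Lib.Helper10.BGL

open Cfsg.Lie Cfsg.Lie.ChevalleyDatum Cfsg.Agent.Lib.helper8 Cfsg.Agent.Lib.helper7.Sf

universe u

/-- AL8 [M]. -/
theorem alg_main (D : ChevalleyDatum)
    (hD : D ∈ [chevG2, chevB2, chevD4, chevF4, chevE6, chevE7, chevE8])
    {k : Type u} [Field k] [IsAlgClosed k] (p : ℕ) [Fact p.Prime] [CharP k p] (a : ℕ) (ha : 1 ≤ a)
    (hfin : ∀ (K : Type u) [Field K] [Finite K] [CharP K p] (H : Subgroup (GL D.Idx K)),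
      H ≤ D.group K → Lq D K (p ^ a) ≤ H → ∃ r : ℕ, 1 ≤ r ∧ Lq D K ((p ^ a) ^ r) ≤ H ∧
        ∀ h ∈ H, RatM D ((p ^ a) ^ r) ((h : GL D.Idx K) : Matrix D.Idx D.Idx K))
    (M : Subgroup (GL D.Idx k)) (hMfin : Finite M) (hMG : M ≤ D.group k)
    (hLM : Lq D k (p ^ a) ≤ M) :
    ∃ N : ℕ, 1 ≤ N ∧ ∀ g ∈ M, ∀ i j : D.Idx,
      ((g : Matrix D.Idx D.Idx k) i j) ^ (p ^ N) = (g : Matrix D.Idx D.Idx k) i j :=
  bglal8_core D p a ha M hMfin (fun g hg => alg_word D hD g (hMG hg))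
    (fun R hRq hw hRe F _ _ π g hg i j =>
      alg_spec_entry D hD p a ha hfin M hMfin hMG hLM R hRq hw hRe π g hg i j)

end Cfsg.Agent.Lib.Helper10.BGL

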