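import Mathlib
import Cfsg.Agent.Lib.Helper10.BGL.AlgDefs
import Cfsg.Agent.Lib.helper7.SfD

/-!
# Project BGL (S2189 / S2190, designer helper10), block ALG, row AL9 (`alg_pel`) (helper4), verbatim.

A `τ`-fixed `p`-element of `D.group k` lies in `fixL D τ` when every `τ`-fixed scalar `c` has `c ^ (p ^ n) = c`.
On helper7 `Sf.descent_gen`, `Sf.map_le_fixL`, `Sf.fixH_conj_fixL` and helper8 `h8_diag_of_mem_H`.
-/

set_option autoImplicit false

namespace Cfsg.Agent.Lib.Helper10.BGL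

open Cfsg.Lie Cfsg.Lie.ChevalleyDatum Cfsg.Agent.Lib.helper8 Cfsg.Agent.Lib.helper7.Sf

universe u

/-- a `τ`-fixed element of the diagonal subgroup has order dividing `p ^ n - 1` -/
theorem bglal9_torus (D : ChevalleyDatum)
    (hD : D ∈ [chevG2, chevB2, chevD4, chevF4, chevE6, chevE7, chevE8])
    {k : Type u} [Field k] (p : ℕ) (τ : k ≃+* k) (n : ℕ)
    (hτ : ∀ c : k, τ c = c → c ^ (p ^ n) = c)
    (t : GL D.Idx k) (ht : t ∈ D.diagonalSubgroup k) (hfix : h8Psi D (τ : k →+* k) t = t) :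
    t ^ (p ^ n - 1) = 1 := by
  classical
  have hB := h8base_all.{u} D hD
  obtain ⟨d, hd⟩ := h8_diag_of_mem_H D hB t ht
  have hdet : IsUnit (Matrix.diagonal d).det := by
    rw [← hd]
    exact (Matrix.isUnit_iff_isUnit_det _).1 t.isUnit
  rw [Matrix.det_diagonal] at hdet
  have hne : ∀ i, d i ≠ 0 := by
    intro i hi
    have h0 : (∏ i, d i) = 0 := Finset.prod_eq_zero (Finset.mem_univ i) hi
    rw [h0] at hdet
    exact not_isUnit_zero hdet
  have hfx : ∀ i, τ (d i) = d i := by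
    intro i
    have h1 := congrArg (fun g : GL D.Idx k => (g : Matrix D.Idx D.Idx k) i i) hfix
    simp only [h8Psi_val, hd, Matrix.map_apply, Matrix.diagonal_apply_eq] at h1
    exact h1
  rcases Nat.eq_zero_or_pos (p ^ n) with h0 | hpos
  · rw [h0, Nat.zero_sub, pow_zero]
  have hpow : ∀ i, d i ^ (p ^ n - 1) = 1 := by
    intro i
    have h1 := hτ (d i) (hfx i)
    have h2 : d i ^ (p ^ n - 1) * d i = 1 * d i := by
      rw [← pow_succ, Nat.sub_add_cancel hpos, one_mul, h1]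
    exact mul_right_cancel₀ (hne i) h2
  apply Units.ext
  rw [Units.val_pow_eq_pow_val, hd, Matrix.diagonal_pow, Units.val_one]
  rw [← Matrix.diagonal_one]
  congr 1
  funext i
  exact hpow i

/-- AL9 -/
theorem alg_pel (D : ChevalleyDatum)
    (hD : D ∈ [chevG2, chevB2, chevD4, chevF4, chevE6, chevE7, chevE8])
    {k : Type u} [Field k] (p : ℕ) [Fact p.Prime] [CharP k p] (τ : k ≃+* k) (n : ℕ) (hn : 1 ≤ n)
    (hτ : ∀ c : k, τ c = c → c ^ (p ^ n) = c)
    (y : GL D.Idx k) (hy : y ∈ D.group k) (hfix : h8Psi D (τ : k →+* k) y = y) (e : ℕ)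
    (hye : y ^ (p ^ e) = 1) : y ∈ fixL D τ := by
  classical
  have hp : p.Prime := Fact.out
  let K0 := RingHom.eqLocusField (τ : k →+* k) (RingHom.id k)
  have hfix0 : ∀ a : k, (τ : k →+* k) a = a → ∃ b : ↥K0, K0.subtype b = a :=
    fun a ha => ⟨⟨a, ha⟩, rfl⟩
  have hss : ∀ a : k, (τ : k →+* k) ((τ.symm : k →+* k) a) = a := fun a => τ.apply_symm_apply a
  obtain ⟨l, hl, t, ht, hσt, l', hl', rfl⟩ :=
    descent_gen D hD K0.subtype (τ : k →+* k) (τ.symm : k →+* k) hss hfix0 y hy hfix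
  have hlL : l ∈ fixL D τ := map_le_fixL D τ hl
  have hl'L : l' ∈ fixL D τ := map_le_fixL D τ hl'
  -- powers of `t` are `τ`-fixed elements of `H`
  have htm : ∀ m : ℕ, t ^ m ∈ D.diagonalSubgroup k := fun m => Subgroup.pow_mem _ ht m
  have hσtm : ∀ m : ℕ, h8Psi D (τ : k →+* k) (t ^ m) = t ^ m := by
    intro m
    rw [map_pow, hσt]
  -- `(l t l')^m ∈ fixL * t^m`
  have key : ∀ m : ℕ, ∃ x ∈ fixL D τ, (l * t * l') ^ m = x * t ^ m := by
    intro m
    induction m with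
    | zero => exact ⟨1, Subgroup.one_mem _, by simp⟩
    | succ m ih =>
      obtain ⟨x, hx, hxm⟩ := ih
      refine ⟨x * (t ^ m * l * (t ^ m)⁻¹) * (t ^ (m + 1) * l' * (t ^ (m + 1))⁻¹), ?_, ?_⟩
      · exact Subgroup.mul_mem _ (Subgroup.mul_mem _ hx
          (fixH_conj_fixL D hD τ (t ^ m) (htm m) (hσtm m) l hlL))
          (fixH_conj_fixL D hD τ (t ^ (m + 1)) (htm (m + 1)) (hσtm (m + 1)) l' hl'L)
      · rw [pow_succ, hxm, pow_succ]
        group
  have htor := bglal9_torus D hD p τ n hτ t ht hσt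
  obtain ⟨x, hx, hxm⟩ := key (p ^ n - 1)
  rw [htor, mul_one] at hxm
  -- `y ^ (p ^ n - 1) ∈ fixL`, and `p ^ n - 1` is prime to `p ^ e`
  rcases Nat.eq_zero_or_pos e with he | he
  · subst he
    rw [pow_zero, pow_one] at hye
    rw [hye]
    exact Subgroup.one_mem _
  have hpe1 : 1 < p ^ e := Nat.one_lt_pow (by omega) hp.one_lt
  have hcop : Nat.Coprime (p ^ n - 1) (p ^ e) := by
    apply Nat.Coprime.pow_right
    rw [Nat.coprime_comm, hp.coprime_iff_not_dvd]
    intro hdvd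
    have h1 : p ∣ p ^ n := dvd_pow_self p (by omega)
    have hpos : 1 ≤ p ^ n := Nat.one_le_pow _ _ hp.pos
    have h2 : p ∣ p ^ n - (p ^ n - 1) := Nat.dvd_sub h1 hdvd
    have h3 : p ^ n - (p ^ n - 1) = 1 := by omega
    rw [h3] at h2
    exact hp.one_lt.ne' (Nat.dvd_one.1 h2)
  obtain ⟨m, -, hm⟩ := Nat.exists_mul_mod_eq_one_of_coprime hcop hpe1
  have e1 : (l * t * l') = ((l * t * l') ^ (p ^ n - 1)) ^ m := by
    rw [← pow_mul, pow_eq_pow_mod _ hye, hm, pow_one]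
  rw [e1, hxm]
  exact Subgroup.pow_mem _ hx m

end Cfsg.Agent.Lib.Helper10.BGL

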