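import Mathlib
import Cfsg.Agent.Lib.Helper10.C3E.Defs
import Cfsg.Agent.Lib.Helper22.C3ECASES
import Cfsg.Agent.Lib.Helper22.C3ESEMI

/-!
# Project S5975, row DERP: core (`c3e_lin_dvd` as a hypothesis)
-/

set_option autoImplicit false
set_option linter.unusedVariables false
set_option linter.unusedSectionVars false

namespace Cfsg.Agent.Lib.Helper10.C3E

open Module Cfsg.Agent.Lib.helper8.C3S

variable {F K V : Type*} [Field F] [Field K] [Algebra F K] [AddCommGroup V] [Module F V] [Module K V]
  [IsScalarTower F K V]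

theorem c3ederp_core [FiniteDimensional F K] [FiniteDimensional K V] [FiniteDimensional F V] (hk : 2 ≤ finrank F K)
    (hV : 3 ≤ finrank F V) (g : V ≃ₗ[F] V) (hN : Nrm K g) (c : F) (h1 : rk g c = 1)
    (hlin : Lin K g → finrank F K ∣ rk g c) : False := by
  rcases c3e_nrm_cases g hN with hL | ⟨σ, hσ1, hσ⟩
  · have h3 := hlin hL
    rw [h1] at h3
    have := Nat.le_of_dvd one_pos h3
    omega
  · obtain ⟨a, ha⟩ : ∃ a, σ a ≠ a := by
      by_contra hcon
      push Not at hcon
      exact hσ1 (AlgEquiv.ext hcon)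
    have hs := c3e_semi_fix g (⇑σ) hσ a ha c
    have hrn := LinearMap.finrank_range_add_finrank_ker ((g : V →ₗ[F] V) - c • LinearMap.id)
    unfold rk at h1
    unfold fixc at hs
    omega

end Cfsg.Agent.Lib.Helper10.C3E
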