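import Mathlib
import Cfsg.Agent.Lib.helper4.C3EDERPcore

/-!
# Project S5975, row DERP: `c3e_der_p` (with a private copy of LINDVD)
-/

set_option autoImplicit false
set_option linter.unusedVariables false
set_option linter.unusedSectionVars false

namespace Cfsg.Agent.Lib.Helper10.C3E

open Module Cfsg.Agent.Lib.helper8.C3S

variable {F K V : Type*} [Field F] [Field K] [Algebra F K] [AddCommGroup V] [Module F V] [Module K V]
  [IsScalarTower F K V]

/-- LINDVD (copy): the range of `g - c` is a `K`-subspace when `g` is `K`-linear. -/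
theorem c3ederp_lin_dvd [FiniteDimensional F K] [FiniteDimensional K V] (g : V ≃ₗ[F] V) (h : Lin K g) (c : F) :
    finrank F K ∣ rk g c := by
  let gK : V →ₗ[K] V := { toFun := g, map_add' := g.map_add, map_smul' := fun a x => h a x }
  let T : V →ₗ[K] V := gK - (algebraMap F K c) • LinearMap.id
  have hT : ∀ v : V, T v = g v - c • v := by
    intro v
    simp only [T, gK, LinearMap.sub_apply, LinearMap.smul_apply, LinearMap.id_apply, algebraMap_smul]
    rfl
  have hmem : ∀ x : V, x ∈ LinearMap.range T ↔
      x ∈ LinearMap.range ((g : V →ₗ[F] V) - c • LinearMap.id) := by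
    intro x
    simp only [LinearMap.mem_range]
    constructor
    · rintro ⟨v, rfl⟩
      exact ⟨v, by rw [hT]; rfl⟩
    · rintro ⟨v, rfl⟩
      exact ⟨v, by rw [hT]; rfl⟩
  let eqv : ↥(LinearMap.range ((g : V →ₗ[F] V) - c • LinearMap.id)) ≃ₗ[F] ↥(LinearMap.range T) :=
    { toFun := fun x => ⟨x.1, (hmem x.1).mpr x.2⟩
      invFun := fun x => ⟨x.1, (hmem x.1).mp x.2⟩
      map_add' := fun x y => rfl
      map_smul' := fun a x => rfl
      left_inv := fun x => rfl
      right_inv := fun x => rfl }
  unfold rk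
  rw [eqv.finrank_eq, ← Module.finrank_mul_finrank F K ↥(LinearMap.range T)]
  exact dvd_mul_right _ _

/-- DERP -/
theorem c3e_der_p [FiniteDimensional F K] [FiniteDimensional K V] [FiniteDimensional F V] (hk : 2 ≤ finrank F K)
    (hV : 3 ≤ finrank F V) (g : V ≃ₗ[F] V) (hN : Nrm K g) (c : F) (h1 : rk g c = 1) : False :=
  c3ederp_core hk hV g hN c h1 (fun hL => c3ederp_lin_dvd g hL c)

end Cfsg.Agent.Lib.Helper10.C3E
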