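import Mathlib
import Cfsg.Agent.Lib.Helper22.C3L.Defs
import Cfsg.Agent.Lib.helper8.C3S.Defs
import Cfsg.Agent.Lib.helper4.C3SLS23core
import Cfsg.Agent.Lib.Helper24.C3SKTV
import Cfsg.Agent.Lib.Helper11.C3STRANS
import Cfsg.Agent.Lib.Helper18.C3SLS1

set_option autoImplicit false
set_option linter.unusedVariables false
set_option linter.unusedSectionVars false

/-!
# Project C3S (S5664), piece LS23 : `ls_mul`, `ls_conjK`
-/

namespace Cfsg.Agent.Lib.helper8.C3S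

open Module Cfsg.Agent.Lib.Helper22.C3L

variable {F K V : Type*} [Field F] [Field K] [Algebra F K] [AddCommGroup V] [Module F V] [Module K V]
  [IsScalarTower F K V]

/-- LS2 [S] the multiplications by `c ∈ K` are in `LS` (KTV). -/
theorem ls_mul (B : V →ₗ[K] V →ₗ[K] K) (hB0 : ∀ x, B x x = 0) (H : Subgroup (V ≃ₗ[F] V)) (hC : SpB F B ≤ H) (v : V)
    (c : K) : LinearMap.mulLeft F c ∈ LS B H v :=
  c3sls23_mul_core B H hC v c (ktv_mem B hB0 v c)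

/-- LS3 [M] `β ↦ k β k` preserves `LS` (`k = 0`: LS1.  `k ≠ 0`: TRANS gives `d ∈ SpB` with `d v = k v`; `d (1 + X_β) d⁻¹ x = x + β (B (d⁻¹ x, v)) (k v)`
and `B (d⁻¹ x, v) = B (x, d v) = k B (x, v)`.) -/
theorem ls_conjK (B : V →ₗ[K] V →ₗ[K] K) (hB0 : ∀ x, B x x = 0) (hBn : ∀ x, x ≠ 0 → ∃ y, B x y ≠ 0)
    (H : Subgroup (V ≃ₗ[F] V)) (hC : SpB F B ≤ H) {v : V} (hv : v ≠ 0) (k : K) {β : K →ₗ[F] K}
    (hβ : β ∈ LS B H v) : LinearMap.mulLeft F k ∘ₗ β ∘ₗ LinearMap.mulLeft F k ∈ LS B H v := by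
  by_cases hk : k = 0
  · rw [hk, LinearMap.mulLeft_zero_eq_zero, LinearMap.zero_comp]
    exact ls_zero B H v
  · exact c3sls23_conjK_core B H hC k (spb_trans B hB0 hBn hv (smul_ne_zero hk hv)) hβ

end Cfsg.Agent.Lib.helper8.C3S
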