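import Mathlib
import Cfsg.Agent.Lib.helper6.CEB.Defs
import Cfsg.Agent.Lib.helper7.CEDS5
import Cfsg.Agent.Lib.Helper24.STCI1
import Cfsg.Agent.Lib.helper6.STDW14
import Cfsg.Agent.Lib.helper6.STBB1
import Cfsg.Agent.Lib.helper6.STBW9
import Cfsg.Agent.Lib.Helper20.STBH2

/-!
# Project CEB (designer helper6; S2094), rows G3 (`HC_of_sys`, `CL_sso_of_sys`) and T4 (`ts_same_steinberg`) (helper4), VERBATIM.
T4 is a port of CEC T2 `t1_steinberg` (`helper14.CECT1`) to the short root subgroup `xs a`, scaled by the long torus element `S.h a b v` (`isMon_h`, `Helper20.STBH2`).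
-/

set_option autoImplicit false

namespace Cfsg.Agent.Lib.helper6.CEB

open Cfsg.Agent.Lib.helper15.St2 Cfsg.Agent.Lib.helper7.Ce Cfsg.Agent.Lib.helper3.STC Cfsg.Agent.Lib.Lead.STD
  Cfsg.Agent.Lib.helper7.CED Cfsg.Agent.Lib.Lead.STB
open Cfsg.Agent.Lib.helper7.CEC (I2 I3 I4 U3)

universe v w w'

section G

variable {K : Type*} [Field K] {ι : Type*} {Γ G : Type*} [Group Γ] [Group G] {S : SysB K ι G} {σ : Γ →* G}

/-- G3 [S]  lifts of long root elements commute as soon as the long root part has a lift `P`: `IsCE.CL_of_lift'` with `hP` and `P.comm`. -/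
theorem HC_of_sys (h : IsCE σ) (P : SysD K ι Γ) (hP : ∀ a b t, σ (P.x a b t) = S.x a b t) : HC S.toSysD σ := by
  intro a b c d h1 h2 h3 h4 h5 h6 h7 h8 t u
  exact h.CL_of_lift' (hP a b t) (hP c d u) (P.comm a b c d h1 h2 h3 h4 h5 h6 h7 h8 t u)

/-- G3 [S]  the pair `e_a - e_b`, `e_a + e_b`: `P.sso a b` and `P.sym` (`x a (ng b) u = x b (ng a) (-u)`, `stdw14_sym_r`), `IsCE.CL_of_lift'`. -/
theorem CL_sso_of_sys (h : IsCE σ) (P : SysD K ι Γ) (hP : ∀ a b t, σ (P.x a b t) = S.x a b t) {a b : ι ⊕ ι} (hab : ab a ≠ ab b) (t u : K) :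
    CL σ (S.x a b t) (S.x a (ng b) u) := by
  have h1 : a ≠ b := ceds5_ne hab
  have h2 : a ≠ ng b := ceds5_ne' hab
  have e : S.x a (ng b) u = S.x b (ng a) (-u) := S.toSysD.stdw14_sym_r h1 h2 u
  rw [e]
  exact h.CL_of_lift' (hP a b t) (hP b (ng a) (-u)) (P.sso a b h1 h2 t (-u))

end G

section T

variable {K : Type*} [Field K] {ι : Type*} {Γ G : Type*} [Group Γ] [Group G] {S : SysB K ι G} {σ : Γ →* G}

/-- T4 [M]  the same short root, `q ≥ 5` (Steinberg). -/
theorem ts_same_steinberg [DecidableEq ι] [Finite K] (h : IsCE σ) (h2 : I2 ι) (c : K) (hc0 : c ≠ 0) (hc1 : 1 - c ≠ 0) (hc : c * (1 - c) ≠ 1) :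
    HSs S σ := by
  intro a
  obtain ⟨b, hba⟩ := h2 a
  have hab : ab a ≠ ab b := fun e => hba e.symm
  have hab1 : a ≠ b := ceds5_ne hab
  have hab2 : a ≠ ng b := ceds5_ne' hab
  -- the commutator of the chosen lifts
  have hk : ∀ t u : K, σ (cm (lf h (S.xs a t)) (lf h (S.xs a u))) = 1 := by
    intro t u
    rw [map_cm, map_lf, map_lf, cm_eq_one_iff, S.xs_comm_same]
  have hcen : ∀ (t u : K) (g : Γ), cm (lf h (S.xs a t)) (lf h (S.xs a u)) * g =
      g * cm (lf h (S.xs a t)) (lf h (S.xs a u)) := fun t u g => h.comm_of_map_one (hk t u) g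
  have hadd_l : ∀ s t u : K, cm (lf h (S.xs a (s + t))) (lf h (S.xs a u)) =
      cm (lf h (S.xs a s)) (lf h (S.xs a u)) * cm (lf h (S.xs a t)) (lf h (S.xs a u)) := by
    intro s t u
    have e1 : σ (lf h (S.xs a (s + t))) = σ (lf h (S.xs a s) * lf h (S.xs a t)) := by
      rw [map_mul, map_lf, map_lf, map_lf, S.adds a]
    rw [h.cm_congr e1 rfl, cm_mul_left]
    have e2 := h.cj_of_map_one (hk t u) (lf h (S.xs a s))
    unfold cj at e2
    rw [e2, hcen]
  have hadd_r : ∀ t u u' : K, cm (lf h (S.xs a t)) (lf h (S.xs a (u + u'))) =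
      cm (lf h (S.xs a t)) (lf h (S.xs a u)) * cm (lf h (S.xs a t)) (lf h (S.xs a u')) := by
    intro t u u'
    have e1 : σ (lf h (S.xs a (u + u'))) = σ (lf h (S.xs a u) * lf h (S.xs a u')) := by
      rw [map_mul, map_lf, map_lf, map_lf, S.adds a]
    rw [h.cm_congr rfl e1, cm_mul_right]
    have e2 := h.cj_of_map_one (hk t u') (lf h (S.xs a u))
    unfold cj at e2
    rw [e2]
  have hzero_r : ∀ t : K, cm (lf h (S.xs a t)) (lf h (S.xs a 0)) = 1 := by
    intro t
    have := hadd_r t 0 0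
    rw [add_zero] at this
    exact mul_eq_left.1 this.symm
  have hneg_r : ∀ t u : K, cm (lf h (S.xs a t)) (lf h (S.xs a (-u))) =
      (cm (lf h (S.xs a t)) (lf h (S.xs a u)))⁻¹ := by
    intro t u
    have := hadd_r t (-u) u
    rw [neg_add_cancel, hzero_r] at this
    exact eq_inv_of_mul_eq_one_left this.symm
  have hscale : ∀ v : K, v ≠ 0 → ∀ t u : K,
      cm (lf h (S.xs a (v * t))) (lf h (S.xs a (v * u))) =
        cm (lf h (S.xs a t)) (lf h (S.xs a u)) := by
    intro v hv t u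
    have hmon := (S.isMon_h hab1 hab2 v hv).2.2.2.2 a
    have hact : ∀ s : K, cj (S.h a b v) (S.xs a s) = S.xs a (v * s) := by
      intro s
      rw [hmon s, Equiv.Perm.one_apply, stbw9_dhs_a, mul_one]
    have e1 : ∀ s : K, σ (lf h (S.xs a (v * s))) =
        σ (cj (lf h (S.h a b v)) (lf h (S.xs a s))) := by
      intro s
      rw [map_cj, map_lf, map_lf, map_lf, hact]
    rw [h.cm_congr (e1 t) (e1 u), ← cj_cm, h.cj_of_map_one (hk t u)]
  -- the Steinberg computation
  set w : K := (c * (1 - c))⁻¹ with hw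
  have hcc : c * (1 - c) ≠ 0 := mul_ne_zero hc0 hc1
  have hw1 : 1 - w ≠ 0 := by
    intro e
    have e2 : w = 1 := by linear_combination -e
    rw [hw, inv_eq_one] at e2
    exact hc e2
  have key : ∀ t u : K, cm (lf h (S.xs a t)) (lf h (S.xs a u)) =
      cm (lf h (S.xs a t)) (lf h (S.xs a (w * u))) := by
    intro t u
    have e1 : t = c * t + (1 - c) * t := by ring
    have e2 : cm (lf h (S.xs a (c * t))) (lf h (S.xs a u)) =
        cm (lf h (S.xs a t)) (lf h (S.xs a (c⁻¹ * u))) := by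
      have := hscale c hc0 t (c⁻¹ * u)
      rw [← mul_assoc, mul_inv_cancel₀ hc0, one_mul] at this
      exact this
    have e3 : cm (lf h (S.xs a ((1 - c) * t))) (lf h (S.xs a u)) =
        cm (lf h (S.xs a t)) (lf h (S.xs a ((1 - c)⁻¹ * u))) := by
      have := hscale (1 - c) hc1 t ((1 - c)⁻¹ * u)
      rw [← mul_assoc, mul_inv_cancel₀ hc1, one_mul] at this
      exact this
    have e4 : c⁻¹ * u + (1 - c)⁻¹ * u = w * u := by
      rw [hw]
      field_simp
      ring
    conv_lhs => rw [e1]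
    rw [hadd_l, e2, e3, ← hadd_r, e4]
  have hone : ∀ t u : K, cm (lf h (S.xs a t)) (lf h (S.xs a ((1 - w) * u))) = 1 := by
    intro t u
    have e1 : (1 - w) * u = u + -(w * u) := by ring
    rw [e1, hadd_r, hneg_r, ← key, mul_inv_cancel]
  intro t u
  have e3 : u = (1 - w) * ((1 - w)⁻¹ * u) := by
    rw [← mul_assoc, mul_inv_cancel₀ hw1, one_mul]
  have e4 := hone t ((1 - w)⁻¹ * u)
  rw [← e3, cm_eq_one_iff] at e4
  exact h.CL_of_lift' (map_lf h _) (map_lf h _) e4

end T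

end Cfsg.Agent.Lib.helper6.CEB
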