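import Mathlib
import Cfsg.Agent.Lib.helper7.CEC.Defs
import Cfsg.Agent.Lib.Helper24.STCI1
import Cfsg.Agent.Lib.helper4.CECL10

/-!
# Project CEC (S2092, designer helper7), row L11 (`xF_ls`) (helper4), CORE.

`cecl11_core` = the Skel statement of `xF_ls` with the statement of L8 (`Dl_eq_Xl`, at the pair `(a, b)`) as a hypothesis.
On L10 (`helper4.CECL10`: `xF_map`, `cecl10_Zl_eq`).
-/

set_option autoImplicit false

namespace Cfsg.Agent.Lib.helper7.CEC

open Cfsg.Agent.Lib.helper15.St2 Cfsg.Agent.Lib.helper7.Ce Cfsg.Agent.Lib.helper3.STC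

section L

variable {K : Type*} [Field K] {ι : Type*} {Γ G : Type*} [Group Γ] [Group G] {S : SysC K ι G} {σ : Γ →* G} {h : IsCE σ}

/-- the values of `xF` -/
theorem cecl11_xF_long (L : ShortLift S h) (h2 : I2 ι) (b : ι ⊕ ι) (t : K) : xF L h2 (ng b) b t = Xl L h2 b t := by
  unfold xF
  rw [if_neg (ng_ne b), if_pos (ng_ng b).symm]

theorem cecl11_xF_short (L : ShortLift S h) (h2 : I2 ι) {a b : ι ⊕ ι} (hab : ab a ≠ ab b) (t : K) :
    xF L h2 a b t = L.X a b t := by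
  obtain ⟨h1, h3⟩ := cecl10_ne_of_ab hab
  unfold xF
  rw [if_neg h1, if_neg (fun e => h3 (by rw [e, ng_ng]))]

/-- L11 core: `hL8` is the statement of L8 `Dl_eq_Xl` for the pair `(a, b)`. -/
theorem cecl11_core (L : ShortLift S h) (h2 : I2 ι) {a b : ι ⊕ ι} (hab : ab a ≠ ab b) (t u : K)
    (hL8 : Dl L a b t u = Xl L h2 b (sg a * sg b * t * u ^ 2)) :
    cm (xF L h2 a (ng a) t) (xF L h2 (ng a) b u) = xF L h2 a b (t * u) * xF L h2 (ng b) b (sg a * sg b * t * u ^ 2) := by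
  have hnab : ab (ng a) ≠ ab b := by rwa [ab_ng]
  have e1 : cm (xF L h2 a (ng a) t) (xF L h2 (ng a) b u) = Zl S h a b t u :=
    cecl10_Zl_eq h (xF_map L h2 a (ng a) t) (xF_map L h2 (ng a) b u)
  have e2 : Zl S h a b t u = L.X a b (t * u) * Dl L a b t u := by
    unfold Dl
    rw [mul_inv_cancel_left]
  rw [e1, e2, hL8, cecl11_xF_short L h2 hab, cecl11_xF_long]

end L

end Cfsg.Agent.Lib.helper7.CEC
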