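import Mathlib
import Cfsg.Prelude.Def_CaseTheorems
import Cfsg.Agent.S2896
import Cfsg.Agent.Lib.Helper1.CFitting

set_option autoImplicit false

namespace Cfsg.Agent.Lib.helper4

/-- a nontrivial finite 2-subgroup has a central involution -/
theorem exists_central_involution {G : Type*} [Group G] [Finite G] (T : Subgroup G)
    (hT : IsPGroup 2 T) (hne : T ≠ ⊥) :
    ∃ z : G, z ∈ T ∧ orderOf z = 2 ∧ ∀ x ∈ T, x * z = z * x := by
  haveI : Fact (Nat.Prime 2) := ⟨Nat.prime_two⟩
  haveI : Nontrivial T := (Subgroup.nontrivial_iff_ne_bot T).mpr hne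
  haveI := hT.center_nontrivial
  have hZ : IsPGroup 2 (Subgroup.center T) := hT.to_subgroup _
  obtain ⟨k, hk⟩ := IsPGroup.iff_card.mp hZ
  have hk0 : k ≠ 0 := by
    intro h0
    rw [h0, pow_zero] at hk
    have := Finite.one_lt_card (α := Subgroup.center T)
    omega
  have hdvd : 2 ∣ Nat.card (Subgroup.center T) := by
    rw [hk]
    exact dvd_pow_self 2 hk0
  obtain ⟨z, hz⟩ := exists_prime_orderOf_dvd_card' 2 hdvd
  refine ⟨((z : T) : G), (z : T).2, ?_, ?_⟩
  · rw [Subgroup.orderOf_coe, Subgroup.orderOf_coe]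
    exact hz
  · intro x hx
    have := Subgroup.mem_center_iff.mp z.2 ⟨x, hx⟩
    exact congrArg Subtype.val this

theorem charTwoType_of_solvable_corefree {G : Type*} [Group G] [Finite G]
    (h2 : Even (Nat.card G))
    (hs : ∀ t : G, orderOf t = 2 → Group.IsSolvable (Subgroup.centralizer ({t} : Set G)))
    (hc : ∀ t : G, orderOf t = 2 → Cfsg.oddCore (Subgroup.centralizer ({t} : Set G)) = ⊥) :
    Cfsg.IsCharacteristicTwoType G := by
  haveI : Fact (Nat.Prime 2) := ⟨Nat.prime_two⟩
  refine ⟨h2, ?_⟩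
  intro T hT hne
  obtain ⟨z, hzT, hz2, hzc⟩ := exists_central_involution T hT hne
  haveI := hs z hz2
  have hz := Cfsg.Agent.Lib.Helper1.centralizer_pCore_le
    (G := ↥(Subgroup.centralizer ({z} : Set G))) 2 (hc z hz2)
  exact Cfsg.Agent.S2896.normalizer_charP_of_center T hT z hzT hzc hz

end Cfsg.Agent.Lib.helper4
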