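import Mathlib

set_option autoImplicit false

namespace Cfsg.Agent.Lib.helper4

/-- a finite set closed under conjugation by a set of elements is closed under conjugation by
the subgroup they generate -/
theorem conj_closed_of_gens {G : Type*} [Group G] (P : Set G) (hP : P.Finite) (S : Set G)
    (h : ∀ s ∈ S, ∀ x ∈ P, s * x * s⁻¹ ∈ P) :
    ∀ g ∈ Subgroup.closure S, ∀ x ∈ P, g * x * g⁻¹ ∈ P := by
  intro g hg
  induction hg using Subgroup.closure_induction with
  | mem s hs => exact h s hs
  | one => intro x hx; simpa using hx
  | mul a b _ _ iha ihb =>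
    intro x hx
    have : a * b * x * (a * b)⁻¹ = a * (b * x * b⁻¹) * a⁻¹ := by group
    rw [this]
    exact iha _ (ihb x hx)
  | inv a _ iha =>
    have himg : (fun x => a * x * a⁻¹) '' P = P := by
      apply Set.eq_of_subset_of_ncard_le
      · rintro _ ⟨x, hx, rfl⟩
        exact iha x hx
      · rw [Set.ncard_image_of_injective]
        intro x y hxy
        have : a * x * a⁻¹ = a * y * a⁻¹ := hxy
        simpa using this
      · exact hP
    intro x hx
    rw [← himg] at hx
    obtain ⟨y, hy, rfl⟩ := hx
    have : a⁻¹ * (a * y * a⁻¹) * a⁻¹⁻¹ = y := by group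
    rw [this]
    exact hy

end Cfsg.Agent.Lib.helper4
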