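import Mathlib
import Cfsg.Prelude.Def_Sporadic_a
import Cfsg.Prelude.Def_SporadicCombinatorics
import Cfsg.Agent.Lib.helper4.CodedOrbitsB
import Cfsg.Agent.Lib.Helper12.Golay.DStab

set_option autoImplicit false

namespace Cfsg.Agent.Lib.helper4

open Cfsg MulAction
open scoped Pointwise
open Cfsg.Agent.Lib.Helper12.Golay

/-! ### The stabiliser of a complementary pair of dodecads: orbit data on sextets -/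

/-- Inverse tables of elements of the stabiliser of the standard pair of dodecads. -/
def stabDDGens : List (List ℕ) := [[1,18,0,2,12,22,3,11,6,13,23,21,8,4,14,17,16,7,9,10,19,5,20,15],[2,13,6,18,0,15,8,14,16,1,23,22,9,3,21,20,4,7,12,5,11,10,19,17],[23,22,11,15,17,9,19,13,20,5,16,2,21,7,18,3,10,4,14,6,8,12,1,0]]

def d17SextRep : Fin 3 → ℕ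
  | ⟨0, _⟩ => 15
  | ⟨1, _⟩ => 29
  | ⟨2, _⟩ => 23

def d17SextTet : Fin 3 → ℕ
  | ⟨0, _⟩ => 1668
  | ⟨1, _⟩ => 169
  | ⟨2, _⟩ => 1105

def d17SextIns : Fin 3 → List ℕ
  | ⟨0, _⟩ => [1,1,1,1,1,1,1,1,1,1,2,1,1,1,1,1,1,1,1,1,1,2,1,1,1,1,1,1,1,1,1,1,2,1,1,1,1,1,1,1,1,1,1,2,1,1,1,1,1,1,1,1,1,1,2,1,1,1,1,1,1,1,1,1,1,2,1,1,1,1,1,1,1,1,1,1,2,1,1,1,1,1,1,1,1,1,1,3,1,1,1,1,1,1,1,1,1,1,2,1,1,1,1,1,1,1,1,1,1,2,1,1,1,1,1,1,1,1,1,1,2,1,1,1,1,1,1,1,1,1,1,0,2,1,1,1,1,1,1,1,1,1,1,2,1,1,1,1,1,1,1,1,1,1,2,1,1,1,1,1,1,1,1,1,1,3,1,1,1,1,1,1,1,1,1,1,0,3,1,1,1,1,1,1,1,1,1,1,0,2,1,1,1,1,1,1,1,1,1,1,3,1,1,1,1,1,1,1,1,1,1,3,1,1,1,1,1,1,1,1,1,1,3,1,1,1,1,1,1,1,1,1,1,0,0,2,1,1,1,1,1,1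,1,1,1,1,2,1,1,1,1,1,1,1,1,1,1,3,1,1,1,1,1,1,1,1,1,1,2,1,1,1,1,1,1,1,1,1,1,0,2,1,1,1,1,1,1,1,1,1,1,0,0,0,0,0,3,1,1,1,1,1,1,1,1,1,1,2,1,1,1,1,1,1,1,1,1,1,2,1,1,1,1,1,1,1,1,1,1,0,0,3,1,1,1,1,1,1,1,1,1,1,0,3,1,1,1,1,1,1,1,1,1,1,0,2,1,1,1,1,1,1,1,1,1,1,3,1,1,1,1,1,1,1,1,1,1,0,2,1,1,1,1,1,1,1,1,1,1,0,3,1,1,1,1,1,1,1,1,1,1,0,0,0,0,0,0,0,0,0,0,0,0,0,0,0,0,0,0,0,0,0,0,0,0,0,0,0,0,0,0,0,0,0,0,0,0,0,0,0,0,0,0,0,0,0,0,0,2,1,1,1,1,1,1,1,1,1,1]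
  | ⟨1, _⟩ => [1,1,1,1,1,1,1,1,1,1,2,1,1,1,1,1,1,1,1,1,1,2,1,1,1,1,1,1,1,1,1,1,2,1,1,1,1,1,1,1,1,1,1,2,1,1,1,1,1,1,1,1,1,1,2,1,1,1,1,1,1,1,1,1,1,2,1,1,1,1,1,1,1,1,1,1,2,1,1,1,1,1,1,1,1,1,1,3,1,1,1,1,1,1,1,1,1,1,2,1,1,1,1,1,1,1,1,1,1,2,1,1,1,1,1,1,1,1,1,1,0,2,1,1,1,1,1,1,1,1,1,1,2,1,1,1,1,1,1,1,1,1,1,2,1,1,1,1,1,1,1,1,1,1,0,0,0,3,1,1,1,1,1,1,1,1,1,1,3,1,1,1,1,1,1,1,1,1,1,2,1,1,1,1,1,1,1,1,1,1,2,1,1,1,1,1,1,1,1,1,1,3,1,1,1,1,1,1,1,1,1,1,2,1,1,1,1,1,1,1,1,1,1,2,1,1,1,1,1,1,1,1,1,1,2,1,1,1,1,1,1,1,1,1,1,2,1,1,1,1,1,1,1,1,1,1,2,1,1,1,1,1,1,1,1,1,1,2,1,1,1,1,1,1,1,1,1,1,2,1,1,1,1,1,1,1,1,1,1,0,0,3,1,1,1,1,1,1,1,1,1,1,0,3,1,1,1,1,1,1,1,1,1,1,3,1,1,1,1,1,1,1,1,1,1,0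,0,0,3,1,1,1,1,1,1,1,1,1,1,3,1,1,1,1,1,1,1,1,1,1,3,1,1,1,1,1,1,1,1,1,1,0,2,1,1,1,1,1,1,1,1,1,1,0,0,3,1,1,1,1,1,1,1,1,1,1,0,0,0,0,0,0,2,1,1,1,1,1,1,1,1,1,1,2,1,1,1,1,1,1,1,1,1,1,2,1,1,1,1,1,1,1,1,1,1,2,1,1,1,1,1,1,1,1,1,1,2,1,1,1,1,1,1,1,1,1,1,2,1,1,1,1,1,1,1,1,1,1,0,3,1,1,1,1,1,1,1,1,1,1,0,0,0,0,0,0,3,1,1,1,1,1,1,1,1,1,1,0,0,0,0,0,0,0,0,3,1,1,1,1,1,1,1,1,1,1,3,1,1,1,1,1,1,1,1,1,1,0,0,0,0,0,0,0,2,1,1,1,1,1,1,1,1,1,1]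
  | ⟨2, _⟩ => [1,1,1,1,1,1,1,1,1,1,2,1,1,1,1,1,1,1,1,1,1,2,1,1,1,1,1,1,1,1,1,1,2,1,1,1,1,1,1,1,1,1,1,2,1,1,1,1,1,1,1,1,1,1,2,1,1,1,1,1,1,1,1,1,1,2,1,1,1,1,1,1,1,1,1,1,2,1,1,1,1,1,1,1,1,1,1,3,1,1,1,1,1,1,1,1,1,1,2,1,1,1,1,1,1,1,1,1,1,2,1,1,1,1,1,1,1,1,1,1,2,1,1,1,1,1,1,1,1,1,1,2,1,1,1,1,1,1,1,1,1,1,3,1,1,1,1,1,1,1,1,1,1,2,1,1,1,1,1,1,1,1,1,1,2,1,1,1,1,1,1,1,1,1,1,2,1,1,1,1,1,1,1,1,1,1,2,1,1,1,1,1,1,1,1,1,1,2,1,1,1,1,1,1,1,1,1,1,2,1,1,1,1,1,1,1,1,1,1,2,1,1,1,1,1,1,1,1,1,1,3,1,1,1,1,1,1,1,1,1,1,2,1,1,1,1,1,1,1,1,1,1,2,1,1,1,1,1,1,1,1,1,1,0,2,1,1,1,1,1,1,1,1,1,1,2,1,1,1,1,1,1,1,1,1,1,2,1,1,1,1,1,1,1,1,1,1,2,1,1,1,1,1,1,1,1,1,1,2,1,1,1,1,1,1,1,1,1,1,0,2,1,1,1,1,1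,1,1,1,1,1,3,1,1,1,1,1,1,1,1,1,1,2,1,1,1,1,1,1,1,1,1,1,0,0,2,1,1,1,1,1,1,1,1,1,1,3,1,1,1,1,1,1,1,1,1,1,3,1,1,1,1,1,1,1,1,1,1,0,3,1,1,1,1,1,1,1,1,1,1,2,1,1,1,1,1,1,1,1,1,1,0,2,1,1,1,1,1,1,1,1,1,1,2,1,1,1,1,1,1,1,1,1,1,2,1,1,1,1,1,1,1,1,1,1,2,1,1,1,1,1,1,1,1,1,1,3,1,1,1,1,1,1,1,1,1,1,3,1,1,1,1,1,1,1,1,1,1,2,1,1,1,1,1,1,1,1,1,1,3,1,1,1,1,1,1,1,1,1,1,2,1,1,1,1,1,1,1,1,1,1,2,1,1,1,1,1,1,1,1,1,1,2,1,1,1,1,1,1,1,1,1,1,0,0,2,1,1,1,1,1,1,1,1,1,1,2,1,1,1,1,1,1,1,1,1,1,0,0,3,1,1,1,1,1,1,1,1,1,1,0,2,1,1,1,1,1,1,1,1,1,1,2,1,1,1,1,1,1,1,1,1,1,0,0,3,1,1,1,1,1,1,1,1,1,1,0,2,1,1,1,1,1,1,1,1,1,1,0,0,2,1,1,1,1,1,1,1,1,1,1,0,2,1,1,1,1,1,1,1,1,1,1,3,1,1,1,1,1,1,1,1,1,1,3,1,1,1,1,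1,1,1,1,1,1,0,0,0,0,2,1,1,1,1,1,1,1,1,1,1,0,2,1,1,1,1,1,1,1,1,1,1,2,1,1,1,1,1,1,1,1,1,1,0,0,2,1,1,1,1,1,1,1,1,1,1,3,1,1,1,1,1,1,1,1,1,1,0,0,2,1,1,1,1,1,1,1,1,1,1,0,0,2,1,1,1,1,1,1,1,1,1,1,0,0,0,0,2,1,1,1,1,1,1,1,1,1,1,2,1,1,1,1,1,1,1,1,1,1,0,0,3,1,1,1,1,1,1,1,1,1,1,0,3,1,1,1,1,1,1,1,1,1,1,0,2,1,1,1,1,1,1,1,1,1,1,0,0,0,0,0,3,1,1,1,1,1,1,1,1,1,1,3,1,1,1,1,1,1,1,1,1,1,0,0,0,0,0,0,0,0,0,0,0,0,0,0,0,0,0,0,0,2,1,1,1,1,1,1,1,1,1,1,0,0,0,0,0,0,0,0,0,0,0,0,0,0,0,0,3,1,1,1,1,1,1,1,1,1,1,0,2,1,1,1,1,1,1,1,1,1,1,3,1,1,1,1,1,1,1,1,1,1,0,0,0,3,1,1,1,1,1,1,1,1,1,1,0,0,0,0,0,0,0,0,0,0,0,0,2,1,1,1,1,1,1,1,1,1,1,0,0,0,0,2,1,1,1,1,1,1,1,1,1,1]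

def d17SextN : Fin 3 → ℕ
  | ⟨0, _⟩ => 396
  | ⟨1, _⟩ => 495
  | ⟨2, _⟩ => 880

set_option maxRecDepth 1000000 in
theorem d17Sext_checks : (∀ i, Nat.beq (popcF (d17SextTet i)) 4 = true ∧
      Nat.ble (Nat.succ (d17SextTet i)) 16777216 = true ∧
      Nat.beq (syn (d17SextTet i)) (d17SextRep i) = true) ∧
    nodupBy id (List.flatten (List.ofFn fun i =>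
      orbGen actS stabDDGens (d17SextIns i) (d17SextRep i))) 0 = true ∧
    ∀ i, (orbGen actS stabDDGens (d17SextIns i) (d17SextRep i)).length = d17SextN i := by
  decide +kernel

end Cfsg.Agent.Lib.helper4
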