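import Mathlib
import Cfsg.Prelude.Def_Sporadic_a
import Cfsg.Prelude.Def_SporadicCombinatorics
import Cfsg.Agent.Lib.helper4.DodPairOrbits

set_option autoImplicit false

namespace Cfsg.Agent.Lib.helper4

open Cfsg MulAction
open scoped Pointwise
open Cfsg.Agent.Lib.Helper12.Golay

theorem fs_full_xor (m : ℕ) : fs (16777215 ^^^ m) = Finset.univ \ fs m := by
  ext p
  rw [Finset.mem_sdiff, mem_fs, mem_fs, Nat.testBit_xor,
    Cfsg.Agent.Lib.helper3.testBit_full ⟨idx p, idx_lt p⟩]
  simp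

/-- The standard complementary pair of dodecads. -/
def P₀ : Finset (Finset GolayPt) := {fs d₀, Finset.univ \ fs d₀}

theorem smul_pair (g : Equiv.Perm GolayPt) (d : Finset GolayPt) :
    g • ({d, Finset.univ \ d} : Finset (Finset GolayPt)) = {g • d, Finset.univ \ g • d} := by
  rw [Finset.smul_finset_insert, Finset.smul_finset_singleton, Finset.smul_finset_sdiff,
    Finset.smul_finset_univ]

theorem sdiff_sdiff_univ (d : Finset GolayPt) : Finset.univ \ (Finset.univ \ d) = d := by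
  ext p
  simp

theorem fs_d₀_mem : fs d₀ ∈ dodecads := by
  rw [fs_mem_dodecads_iff (by decide)]
  decide +kernel

theorem stabDDGens_mem : ∀ T ∈ stabDDGens, ValidT T ∧
    ∃ h : permT T ∈ M24, (⟨permT T, h⟩ : M24) ∈ stabilizer M24 P₀ := by
  have h : ∀ T ∈ stabDDGens, okK T = true ∧
      (Nat.beq (actK T d₀) d₀ || Nat.beq (actK T d₀) (Nat.xor 16777215 d₀)) = true := by
    decide +kernel
  intro T hT
  obtain ⟨h1, h2⟩ := h T hT
  have hv := okK_valid h1
  have hM := permT_mem_M24' h1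
  refine ⟨hv, hM, ?_⟩
  rw [mem_stabilizer_iff]
  show permT T • P₀ = P₀
  rw [P₀, smul_pair, permT_smul_fs hv (by decide), ← actK_eq]
  rw [Bool.or_eq_true, natBeq_iff, natBeq_iff] at h2
  rcases h2 with h2 | h2
  · rw [h2]
  · rw [h2]
    have e : Nat.xor 16777215 d₀ = 16777215 ^^^ d₀ := rfl
    rw [e, fs_full_xor, sdiff_sdiff_univ, Finset.pair_comm]

theorem card_stab_P₀ : Nat.card ↥(stabilizer M24 P₀) = 190080 := by
  have h := card_inf_stabilizer_mul (stabilizer M24 P₀) (fs d₀)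
  have hle : stabilizer M24 (fs d₀) ≤ stabilizer M24 P₀ := by
    intro g hg
    rw [mem_stabilizer_iff] at hg ⊢
    show (g : Equiv.Perm GolayPt) • P₀ = P₀
    have hg' : (g : Equiv.Perm GolayPt) • fs d₀ = fs d₀ := hg
    rw [P₀, smul_pair, hg']
  rw [inf_eq_right.mpr hle, card_dstab0 (fs d₀) fs_d₀_mem] at h
  -- the orbit of the dodecad is the pair
  have hne : fs d₀ ≠ Finset.univ \ fs d₀ := by
    intro he
    have h0 : pt 0 ∈ fs d₀ := by rw [mem_fs_pt (by decide)]; decide
    have h1 := h0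
    rw [he, Finset.mem_sdiff] at h1
    exact h1.2 h0
  have horb : orbit ↥(stabilizer M24 P₀) (fs d₀) = ↑P₀ := by
    ext y
    constructor
    · rintro ⟨⟨g, hg⟩, rfl⟩
      rw [mem_stabilizer_iff] at hg
      have hg' : (g : Equiv.Perm GolayPt) • P₀ = P₀ := hg
      have hmem : (g : Equiv.Perm GolayPt) • fs d₀ ∈ (g : Equiv.Perm GolayPt) • P₀ :=
        Finset.smul_mem_smul_finset (by rw [P₀]; simp)
      rw [hg'] at hmem
      exact hmem
    · intro hy
      rw [Finset.mem_coe, P₀, Finset.mem_insert, Finset.mem_singleton] at hy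
      rcases hy with rfl | rfl
      · exact mem_orbit_self _
      · obtain ⟨hv, hM, hS⟩ := stabDDGens_mem projInvT (by decide)
        refine ⟨⟨⟨permT projInvT, hM⟩, hS⟩, ?_⟩
        show permT projInvT • fs d₀ = Finset.univ \ fs d₀
        rw [permT_smul_fs hv (by decide), ← fs_full_xor]
        congr 1
  have hc2 : P₀.card = 2 := Finset.card_pair hne
  rw [horb, Set.ncard_coe_finset, hc2] at h
  omega

theorem d17_arith : ∀ (I : Finset (Fin 3)) (i : Fin 3), i ∈ I →
    (∑ j ∈ I, d17SextN j) ∣ 190080 → I = {i} := by decide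

theorem dodpair_orbits_sextets (d : Finset GolayPt) (hd : d ∈ dodecads) :
    ∃ X₁ ∈ sextets, ∃ X₂ ∈ sextets, ∃ X₃ ∈ sextets,
      (orbit ↥(stabilizer M24 ({d, Finset.univ \ d} : Finset (Finset GolayPt))) X₁).ncard = 396 ∧
      (orbit ↥(stabilizer M24 ({d, Finset.univ \ d} : Finset (Finset GolayPt))) X₂).ncard = 495 ∧
      (orbit ↥(stabilizer M24 ({d, Finset.univ \ d} : Finset (Finset GolayPt))) X₃).ncard = 880 ∧
      sextets = orbit ↥(stabilizer M24 ({d, Finset.univ \ d} : Finset (Finset GolayPt))) X₁ ∪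
        orbit ↥(stabilizer M24 ({d, Finset.univ \ d} : Finset (Finset GolayPt))) X₂ ∪
        orbit ↥(stabilizer M24 ({d, Finset.univ \ d} : Finset (Finset GolayPt))) X₃ := by
  have hK := card_stab_P₀
  have hk : ∃ k : M24, k • P₀ = ({d, Finset.univ \ d} : Finset (Finset GolayPt)) := by
    obtain ⟨k, hk, hkd⟩ := dodecads_transitive d hd
    refine ⟨⟨k, hk⟩, ?_⟩
    show k • P₀ = _
    rw [P₀, smul_pair, hkd]
  obtain ⟨h1, h2, h3⟩ := d17Sext_checks
  have hs : ∀ i, IsSext (d17SextRep i) := fun i => isSext_of_checks (h1 i)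
  obtain ⟨hc, hF⟩ := sextet_orbits (stabilizer M24 P₀) stabDDGens stabDDGens_mem d17SextIns
    d17SextN (by rw [hK]; exact d17_arith) d17SextRep hs h2 h3 (by decide)
  have hmem : ∀ i, sextetOfSyn (d17SextRep i) ∈ sextets := fun i => sextetOfSyn_mem (hs i)
  exact three_orbits_transport (M := M24) P₀ sextets
    (fun g y hy => smul_sextets g.2 hy) _ _ _ (hmem 0) (hmem 1) (hmem 2)
    396 495 880 (hc 0) (hc 1) (hc 2) (fun y => by rw [hF y, exists_fin3]) _ hk

end Cfsg.Agent.Lib.helper4
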