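import Mathlib
import Cfsg.Prelude.Def_Sporadic_a
import Cfsg.Agent.Lib.helper3.Golay
import Cfsg.Agent.Lib.helper3.GolayPerm
import Cfsg.Agent.Lib.helper3.GolayAut
import Cfsg.Agent.Lib.helper3.GolayOrder

set_option autoImplicit false

namespace Cfsg.Agent.Lib.helper4

open Cfsg Cfsg.Agent.Lib.helper3
open scoped Pointwise

theorem gset_inter (a b : ℕ) : gset a ∩ gset b = gset (a &&& b) := by
  ext p
  rw [Finset.mem_inter, mem_gset, mem_gset, mem_gset, Nat.testBit_and, Bool.and_eq_true]

theorem octads_meeting_base_eq (j : ℕ) :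
    {o : Finset GolayPt | o ∈ octads ∧ (o ∩ gset (golayMask 51)).card = j} =
      (fun k => gset (golayMask k)) ''
        {k | k < 4096 ∧ popc (golayMask k) = 8 ∧ popc (golayMask k &&& golayMask 51) = j} := by
  ext o
  constructor
  · rintro ⟨ho, hj⟩
    have ho' : o ∈ wordsOfWeight (golayCode : Set (GolayPt → ZMod 2)) 8 := ho
    rw [wordsOfWeight_eq] at ho'
    obtain ⟨k, ⟨hk, hpop⟩, rfl⟩ := ho'
    refine ⟨k, ⟨hk, hpop, ?_⟩, rfl⟩
    simp only at hj
    rw [gset_inter, card_gset] at hj
    exact hj
  · rintro ⟨k, ⟨hk, hpop, hj⟩, rfl⟩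
    refine ⟨?_, ?_⟩
    · have : gset (golayMask k) ∈ wordsOfWeight (golayCode : Set (GolayPt → ZMod 2)) 8 := by
        rw [wordsOfWeight_eq]
        exact ⟨k, ⟨hk, hpop⟩, rfl⟩
      exact this
    · simp only
      rw [gset_inter, card_gset]
      exact hj

theorem ncard_octads_meeting_base (j : ℕ) :
    {o : Finset GolayPt | o ∈ octads ∧ (o ∩ gset (golayMask 51)).card = j}.ncard =
      ((Finset.range 4096).filter fun k =>
        popc (golayMask k) = 8 ∧ popc (golayMask k &&& golayMask 51) = j).card := by
  rw [octads_meeting_base_eq, Set.InjOn.ncard_image]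
  · rw [← Set.ncard_coe_finset]
    congr 1
    ext k
    simp
  · exact gset_golayMask_injOn.mono (fun k hk => hk.1)

set_option maxRecDepth 1000000 in
theorem count_meeting_six :
    ((Finset.range 4096).filter fun k =>
        popc (golayMask k) = 8 ∧ popc (golayMask k &&& golayMask 51) = 6).card = 132 := by
  decide +kernel

set_option maxRecDepth 1000000 in
theorem count_meeting_two :
    ((Finset.range 4096).filter fun k =>
        popc (golayMask k) = 8 ∧ popc (golayMask k &&& golayMask 51) = 2).card = 132 := by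
  decide +kernel

set_option maxRecDepth 1000000 in
theorem count_meeting_four :
    ((Finset.range 4096).filter fun k =>
        popc (golayMask k) = 8 ∧ popc (golayMask k &&& golayMask 51) = 4).card = 495 := by
  decide +kernel

theorem ncard_octads_meeting_transport (d : Finset GolayPt) (g : Equiv.Perm GolayPt)
    (hg : g ∈ M24) (j : ℕ) :
    {o : Finset GolayPt | o ∈ octads ∧ (o ∩ d).card = j}.ncard =
      {o : Finset GolayPt | o ∈ octads ∧ (o ∩ (g • d)).card = j}.ncard := by
  have hinj : Function.Injective (fun o : Finset GolayPt => g • o) :=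
    MulAction.injective g
  rw [← Set.ncard_image_of_injective _ hinj]
  congr 1
  ext o
  constructor
  · rintro ⟨o', ⟨ho', hj⟩, rfl⟩
    refine ⟨smul_octads_of_mem_M24 hg o' ho', ?_⟩
    simp only
    rw [← Finset.smul_finset_inter, card_smul_finset]
    exact hj
  · rintro ⟨ho, hj⟩
    refine ⟨g⁻¹ • o, ⟨smul_octads_of_mem_M24 (M24.inv_mem hg) o ho, ?_⟩, ?_⟩
    · have : g⁻¹ • o ∩ d = g⁻¹ • (o ∩ g • d) := by
        rw [Finset.smul_finset_inter, inv_smul_smul]
      rw [this, card_smul_finset]
      exact hj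
    · simp only
      rw [smul_inv_smul]

theorem ncard_octads_meeting (d : Finset GolayPt) (hd : d ∈ dodecads) (j : ℕ) :
    {o : Finset GolayPt | o ∈ octads ∧ (o ∩ d).card = j}.ncard =
      ((Finset.range 4096).filter fun k =>
        popc (golayMask k) = 8 ∧ popc (golayMask k &&& golayMask 51) = j).card := by
  obtain ⟨g, hg, hgd⟩ := dodecad_to_base hd
  rw [ncard_octads_meeting_transport d g hg j, hgd, ncard_octads_meeting_base]

end Cfsg.Agent.Lib.helper4
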