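import Mathlib
import Cfsg.Prelude.Def_GeometricClasses
import Cfsg.Agent.Lib.Helper27.ASC.Defs
import Cfsg.Agent.Lib.helper23.ASCO.Defs
import Cfsg.Agent.Lib.Helper19.ASG.Defs
import Cfsg.Agent.Lib.Helper1.ASGCLIF3
import Cfsg.Agent.Lib.Helper25.ASO.Defs
import Cfsg.Agent.Lib.helper23.ASE.Defs
import Cfsg.Agent.Lib.helper7.EM12.Defs
import Cfsg.Agent.Lib.Helper11.ASEPRC

set_option autoImplicit false
set_option linter.unusedVariables false
set_option linter.unusedSectionVars false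

/-!
# Project EM12 (S5874), piece PRD3 (one-line wrapper of a landed lemma of helper11)
-/

namespace Cfsg.Agent.Lib.helper7.EM12

open Cfsg Cfsg.Geo Cfsg.Agent.Lib.Helper27.ASC Cfsg.Agent.Lib.helper23.ASCO Cfsg.Agent.Lib.Helper19.ASG
  Cfsg.Agent.Lib.Helper25.ASO Cfsg.Agent.Lib.helper23.ASE
open scoped MatrixGroups Matrix Kronecker

variable {n : ℕ} {F : Type*} [Field F] [Fintype F]

/-- PRD3 : `Ω` stabilises no decomposition into blocks of dimension `k ≥ 3` (all characteristics).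
(= `Helper11.ASEPRC` `asepr_omega_not_le_dec` with `Or.inr hk`.) -/
theorem omega_not_le_dec3 (hn : 7 ≤ n) (Q : QuadraticForm F (Fin n → F))
    (hQ : (QuadraticMap.polarBilin Q).Nondegenerate) {t k : ℕ} (hk : 3 ≤ k) (D : Fin t → Submodule F (Fin n → F))
    (hD : IsMDecomposition k D) : ¬ omegaGL (⇑Q) ≤ decompositionStabilizer D :=
  asepr_omega_not_le_dec hn Q hQ D hD (Or.inr hk)

end Cfsg.Agent.Lib.helper7.EM12
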