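import Mathlib
import Cfsg.Prelude.Def_GeometricClasses
import Cfsg.Agent.Lib.Helper27.ASC.Defs
import Cfsg.Agent.Lib.helper23.ASCO.Defs
import Cfsg.Agent.Lib.Helper19.ASG.Defs
import Cfsg.Agent.Lib.Helper1.ASGCLIF3
import Cfsg.Agent.Lib.Helper25.ASO.Defs
import Cfsg.Agent.Lib.helper23.ASE.Defs
import Cfsg.Agent.Lib.helper7.EM12.Defs
import Cfsg.Agent.Lib.Helper11.ASEPRD

set_option autoImplicit false
set_option linter.unusedVariables false
set_option linter.unusedSectionVars false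

/-!
# Project EM12 (S5874), piece PRT (one-line wrapper of a landed lemma of helper11)
-/

namespace Cfsg.Agent.Lib.helper7.EM12

open Cfsg Cfsg.Geo Cfsg.Agent.Lib.Helper27.ASC Cfsg.Agent.Lib.helper23.ASCO Cfsg.Agent.Lib.Helper19.ASG
  Cfsg.Agent.Lib.Helper25.ASO Cfsg.Agent.Lib.helper23.ASE
open scoped MatrixGroups Matrix Kronecker

variable {n : ℕ} {F : Type*} [Field F] [Fintype F]

/-- PRT : `Ω` lies in no tensor product subgroup with both factors of dimension `≥ 3` (all characteristics).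
(= `Helper11.ASEPRD` `asepr_omega_not_le_tensor`, which only needs both factors of dimension `≥ 2`.) -/
theorem omega_not_le_tensor (hn : 7 ≤ n) (Q : QuadraticForm F (Fin n → F))
    (hQ : (QuadraticMap.polarBilin Q).Nondegenerate) {n₁ n₂ : ℕ} (h1 : 3 ≤ n₁) (h2 : 3 ≤ n₂)
    (e : Fin n ≃ Fin n₁ × Fin n₂) (P : GL (Fin n) F) : ¬ omegaGL (⇑Q) ≤ tensorProductSubgroup n₁ n₂ e P :=
  asepr_omega_not_le_tensor hn Q hQ (by omega) (by omega) e P

end Cfsg.Agent.Lib.helper7.EM12
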