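import Mathlib
import Cfsg.Prelude.Def_Sporadic_a
import Cfsg.Prelude.Def_SporadicCombinatorics
import Cfsg.Agent.Lib.helper4.ElemOrder3

set_option autoImplicit false

namespace Cfsg.Agent.Lib.helper4

open Cfsg
open scoped Pointwise
open Cfsg.Agent.Lib.Helper12.Golay

/-! ### Commuting elements of order 3 and 2 -/

/-- A representative of the elements of order 3 with fixed points, fixing the five base points. -/
def rep3A2 : List ℕ := [0,1,21,13,19,6,20,4,15,2,8,3,12,11,14,10,16,17,23,7,5,9,18,22]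
/-- A table conjugating `rep3A` to `rep3A2`. -/
def conjW3A : List ℕ := [0,2,9,6,10,13,20,19,1,5,8,21,12,4,23,11,22,18,16,3,15,7,17,14]
/-- Tables realising the fifteen fixed-point-free involutions of the six fixed points. -/
def fam15 : List (List ℕ) := [[1,4,13,7,10,9,15,22,23,2,8,19,14,0,12,3,17,16,6,21,11,18,20,5],[1,19,9,15,21,2,10,23,0,8,4,13,16,22,17,7,12,14,20,11,3,18,5,6],[1,7,0,22,10,8,13,11,15,19,23,3,17,9,16,2,14,12,20,18,21,4,5,6],[12,4,9,5,10,7,14,21,20,6,15,2,0,8,1,18,17,16,11,22,19,23,3,13],[12,5,21,22,16,2,3,20,9,7,13,4,0,11,17,19,1,14,10,6,23,18,8,15],[12,13,6,23,19,18,8,22,3,4,11,7,0,20,16,17,14,1,9,15,5,10,2,21],[14,13,22,9,2,11,3,20,8,6,5,10,1,23,0,18,17,16,4,15,12,21,19,7],[14,19,4,23,18,2,20,3,13,7,9,21,17,11,0,5,1,12,10,6,22,16,8,15],[14,10,4,18,8,23,19,17,3,6,20,7,16,11,0,22,12,1,9,15,5,13,2,21],[16,10,18,20,5,8,15,21,13,2,9,3,1,22,17,23,0,14,19,11,12,6,7,4],[16,19,7,21,10,20,2,23,9,14,18,15,17,6,1,8,0,12,13,5,22,4,11,3],[16,19,20,7,10,3,6,5,22,8,13,17,14,4,12,15,0,1,9,23,18,11,2,21],[17,21,3,22,5,2,12,11,23,18,20,13,1,6,16,8,14,0,4,10,9,15,19,7],[17,19,8,6,2,5,23,20,4,9,7,21,16,15,1,14,12,0,3,22,10,18,13,11],[17,5,16,2,7,4,22,18,19,20,9,23,14,3,12,13,1,0,15,21,11,6,10,8]]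
/-- The fixed points of `rep3A2`. -/
def fix3A2 : List ℕ := [0,1,12,14,16,17]

/-- Test on the images of the five base points. -/
def tupOK (a : List ℕ) : Bool :=
  ((List.range 5).all fun i => !(Nat.beq (a.getD i 0) (b5 i))) &&
  ((List.range 5).all fun i => (List.range 5).all fun j =>
    Nat.beq i j || !(Nat.beq (a.getD i 0) (a.getD j 0))) &&
  ((List.range 5).all fun i => (List.range 5).all fun j =>
    !(Nat.beq (a.getD i 0) (b5 j)) || Nat.beq (a.getD j 0) (b5 i))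

set_option maxRecDepth 100000 in
theorem fam15_complete : (fix3A2.all fun a0 => fix3A2.all fun a1 => fix3A2.all fun a2 =>
    fix3A2.all fun a3 => fix3A2.all fun a4 => !tupOK [a0, a1, a2, a3, a4] ||
      fam15.any fun H => Nat.beq (H.getD 0 0) a0 && Nat.beq (H.getD 12 0) a1 &&
        Nat.beq (H.getD 14 0) a2 && Nat.beq (H.getD 16 0) a3 && Nat.beq (H.getD 17 0) a4) = true := by
  decide +kernel

set_option maxRecDepth 100000 in
theorem check5608 : candCheck fam15
    (fun C => sq1 C && (compTbl C rep3A2 == compTbl rep3A2 C)) (fun _ => false) = true := by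
  decide +kernel

set_option maxRecDepth 100000 in
theorem facts5608 : (∀ H ∈ fam15, okK H = true) ∧ okK rep3A2 = true ∧ okK conjW3A = true ∧
    compTbl conjW3A rep3A = compTbl rep3A2 conjW3A ∧
    (∀ i < 24, rep3A2.getD i 0 = i → i ∈ fix3A2) ∧ (∀ j < 5, rep3A2.getD (b5 j) 0 = b5 j) := by
  decide +kernel

end Cfsg.Agent.Lib.helper4
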