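import Mathlib
import Cfsg.Prelude.Def_Sporadic_a
import Cfsg.Prelude.Def_SporadicCombinatorics
import Cfsg.Agent.Lib.helper4.ElemCommute

set_option autoImplicit false

namespace Cfsg.Agent.Lib.helper4

open Cfsg
open scoped Pointwise
open Cfsg.Agent.Lib.Helper12.Golay

/-- A fixed-point-free element of order 3 does not commute with an involution having eight fixed
points. -/
theorem no_fpf3_commuting_2A {x s : Equiv.Perm GolayPt} (h3 : x ^ 3 = 1) (hxf : ∀ p, x p ≠ p)
    (h8 : (Finset.univ.filter fun p => s p = p).card = 8) (hc : Commute x s) : False := by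
  have hsx : ∀ p, s (x p) = x (s p) := fun p => by
    have := congrArg (fun f : Equiv.Perm GolayPt => f p) hc.eq
    simpa [Equiv.Perm.mul_apply] using this.symm
  have hiff : ∀ p, s (x p) = x p ↔ s p = p := fun p => by
    rw [hsx]
    exact x.injective.eq_iff
  have hσ : (Equiv.Perm.subtypePerm (p := fun q => s q = q) x hiff) ^ 3 ^ 1 = 1 := by
    rw [pow_one, Equiv.Perm.subtypePerm_pow]
    ext a
    simp [h3]
  have : Fact (Nat.Prime 3) := ⟨by norm_num⟩
  have hcard : Fintype.card {p // s p = p} = 8 := by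
    rw [Fintype.card_subtype]
    exact h8
  obtain ⟨a, ha⟩ := Equiv.Perm.exists_fixed_point_of_prime (p := 3) (n := 1)
    (by rw [hcard]; norm_num) hσ
  exact hxf a.1 (congrArg Subtype.val ha)

theorem b5_injOn : ∀ i < 5, ∀ j < 5, b5 i = b5 j → i = j := by decide

/-- An element of order 3 with fixed points does not commute with a fixed-point-free
involution. -/
theorem no_fpf2_commuting_3A {x s : Equiv.Perm GolayPt} (hx : x ∈ M24) (hs : s ∈ M24)
    (h3 : x ^ 3 = 1) (hx1 : x ≠ 1) (hxf : ∃ p, x p = p) (h2 : s ^ 2 = 1) (hsf : ∀ p, s p ≠ p)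
    (hc : Commute x s) : False := by
  obtain ⟨hoks, hR2, hW, hconj, hfixl, hbase⟩ := facts5608
  obtain ⟨_, w, hw, e⟩ := class3A hx h3 hx1 hxf
  have hvR := okK_valid hR2
  have hvW := okK_valid hW
  have hvA := okK_valid (class_oks.2.2.2.2.2.2.2.2.1)
  -- conjugate further to the representative fixing the base points
  have e2 : fperm conjW3A * fperm rep3A * (fperm conjW3A)⁻¹ = fperm rep3A2 := by
    have : fperm conjW3A * fperm rep3A = fperm rep3A2 * fperm conjW3A := by
      apply tblOf_injective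
      rw [tblOf_mul, tblOf_mul, tblOf_fperm hvW, tblOf_fperm hvA, tblOf_fperm hvR, hconj]
    rw [this]
    group
  set k := fperm conjW3A * w with hk
  have hkM : k ∈ M24 := M24.mul_mem (fperm_mem hW) hw
  have ex : k * x * k⁻¹ = fperm rep3A2 := by
    rw [← e2, ← e, hk]
    group
  set t := k * s * k⁻¹ with ht
  have htM : t ∈ M24 := M24.mul_mem (M24.mul_mem hkM hs) (M24.inv_mem hkM)
  have ht2 : t ^ 2 = 1 := conj_pow_eq_one h2 k
  have htf : ∀ p, t p ≠ p := by
    intro p hp
    apply hsf (k⁻¹ p)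
    rw [ht, Equiv.Perm.mul_apply, Equiv.Perm.mul_apply] at hp
    apply k.injective
    rw [hp]
    simp
  have htc : fperm rep3A2 * t = t * fperm rep3A2 := by
    rw [← ex, ht]
    have := hc.eq
    calc k * x * k⁻¹ * (k * s * k⁻¹) = k * (x * s) * k⁻¹ := by group
      _ = k * (s * x) * k⁻¹ := by rw [this]
      _ = k * s * k⁻¹ * (k * x * k⁻¹) := by group
  have htt : ∀ p, t (t p) = p := fun p => by
    have := congrArg (fun f : Equiv.Perm GolayPt => f p) ht2
    simpa [pow_succ, Equiv.Perm.mul_apply] using this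
  -- the table of `t`
  set T := tblOf t with hT
  have hTlt : ∀ i, T.getD i 0 < 24 := fun i => getD_lt_of_valid (tblOf_lt t) i
  have hTinv : ∀ i < 24, T.getD (T.getD i 0) 0 = i := by
    intro i hi
    rw [hT, tblOf_getD t hi, tblOf_getD t (idx_lt _), pt_idx, htt, idx_pt hi]
  have hTfpf : ∀ i < 24, T.getD i 0 ≠ i := by
    intro i hi h
    rw [hT, tblOf_getD t hi] at h
    apply htf (pt i)
    rw [← pt_idx (t (pt i)), h]
  have hTfix : ∀ j < 5, T.getD (b5 j) 0 ∈ fix3A2 := by
    intro j hj
    apply hfixl _ (hTlt _)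
    have h1 : fperm rep3A2 (pt (b5 j)) = pt (b5 j) := by
      rw [fperm_apply hvR]
      unfold tblFun
      rw [idx_pt (b5_lt j), hbase j hj]
    have h2' : fperm rep3A2 (t (pt (b5 j))) = t (pt (b5 j)) := by
      have := congrArg (fun f : Equiv.Perm GolayPt => f (pt (b5 j))) htc
      simp only [Equiv.Perm.mul_apply] at this
      rw [this, h1]
    rw [fperm_apply hvR] at h2'
    unfold tblFun at h2'
    have h3' := congrArg idx h2'
    rw [idx_pt (getD_lt_of_valid hvR.2.1 _)] at h3'
    rw [hT, tblOf_getD t (b5_lt j)]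
    exact h3'
  -- the tuple of images is admissible
  have hget : ∀ i < 5, [T.getD 0 0, T.getD 12 0, T.getD 14 0, T.getD 16 0, T.getD 17 0].getD i 0 =
      T.getD (b5 i) 0 := by
    intro i hi
    interval_cases i <;> rfl
  have hok : tupOK [T.getD 0 0, T.getD 12 0, T.getD 14 0, T.getD 16 0, T.getD 17 0] = true := by
    unfold tupOK
    simp only [Bool.and_eq_true, List.all_eq_true, List.mem_range, Bool.or_eq_true,
      Bool.not_eq_true', natBeq_iff]
    refine ⟨⟨?_, ?_⟩, ?_⟩
    · intro i hi
      rw [hget i hi, ← Bool.not_eq_true, natBeq_iff]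
      exact hTfpf _ (b5_lt i)
    · intro i hi j hj
      by_cases hij : i = j
      · left; exact hij
      · right
        rw [hget i hi, hget j hj, ← Bool.not_eq_true, natBeq_iff]
        intro h
        apply hij
        apply b5_injOn i hi j hj
        rw [← hTinv _ (b5_lt i), h, hTinv _ (b5_lt j)]
    · intro i hi j hj
      by_cases h : T.getD (b5 i) 0 = b5 j
      · right
        rw [hget j hj, ← h, hTinv _ (b5_lt i)]
      · left
        rw [hget i hi, ← Bool.not_eq_true, natBeq_iff]
        exact h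
  have hcomp := fam15_complete
  simp only [List.all_eq_true] at hcomp
  have h5 := hcomp _ (hTfix 0 (by norm_num)) _ (hTfix 1 (by norm_num)) _ (hTfix 2 (by norm_num)) _
    (hTfix 3 (by norm_num)) _ (hTfix 4 (by norm_num))
  have hb0 : b5 0 = 0 := rfl
  have hb1 : b5 1 = 12 := rfl
  have hb2 : b5 2 = 14 := rfl
  have hb3 : b5 3 = 16 := rfl
  have hb4 : b5 4 = 17 := rfl
  rw [hb0, hb1, hb2, hb3, hb4, hok] at h5
  simp only [Bool.not_true, Bool.false_or, List.any_eq_true, Bool.and_eq_true, natBeq_iff] at h5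
  obtain ⟨H, hH, ⟨⟨⟨c0, c1⟩, c2⟩, c3⟩, c4⟩ := h5
  have hpost := candCheck_spec check5608 htM hH (hoks H hH) (by
    intro j hj
    have : t (pt (b5 j)) = pt (T.getD (b5 j) 0) := by
      rw [hT, tblOf_getD t (b5_lt j), pt_idx]
    rw [this]
    interval_cases j
    · rw [hb0, c0]
    · rw [hb1, c1]
    · rw [hb2, c2]
    · rw [hb3, c3]
    · rw [hb4, c4]) (by
    rw [Bool.and_eq_true, beq_iff_eq]
    refine ⟨sq1_of_pow ht2, ?_⟩
    rw [← tblOf_fperm hvR, ← tblOf_mul, ← tblOf_mul, htc])
  exact Bool.false_ne_true hpost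

/-- Commuting elements of order 3 and 2 have matching types. -/
theorem commuting_types (x s : Equiv.Perm GolayPt) (hx : x ∈ M24) (hs : s ∈ M24)
    (h₃ : orderOf x = 3) (h₂ : orderOf s = 2) (hc : Commute x s) :
    ((Finset.univ.filter fun p => x p = p).card = 6 ∧
      (Finset.univ.filter fun p => s p = p).card = 8) ∨
    ((Finset.univ.filter fun p => x p = p).card = 0 ∧
      (Finset.univ.filter fun p => s p = p).card = 0) := by
  have h3 : x ^ 3 = 1 := by rw [← h₃]; exact pow_orderOf_eq_one x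
  have h2 : s ^ 2 = 1 := by rw [← h₂]; exact pow_orderOf_eq_one s
  have hx1 : x ≠ 1 := by
    rintro rfl
    rw [orderOf_one] at h₃
    norm_num at h₃
  have hs1 : s ≠ 1 := by
    rintro rfl
    rw [orderOf_one] at h₂
    norm_num at h₂
  by_cases hxf : ∃ p, x p = p
  · have h6 := (class3A hx h3 hx1 hxf).1
    by_cases hsf : ∃ p, s p = p
    · left
      exact ⟨h6, (class2A hs h2 hs1 hsf).1⟩
    · push Not at hsf
      exact (no_fpf2_commuting_3A hx hs h3 hx1 hxf h2 hsf hc).elim
  · push Not at hxf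
    by_cases hsf : ∃ p, s p = p
    · exact (no_fpf3_commuting_2A h3 hxf (class2A hs h2 hs1 hsf).1 hc).elim
    · push Not at hsf
      right
      exact ⟨(card_fixed_zero_iff x).mpr hxf, (card_fixed_zero_iff s).mpr hsf⟩

end Cfsg.Agent.Lib.helper4
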