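import Mathlib
import Cfsg.Prelude.Def_CaseTheorems
import Cfsg.Agent.Lib.Helper1.Nilp

set_option autoImplicit false

namespace Cfsg.Agent.Lib.helper4

section

variable {G : Type*} [Group G]

/-- the four-group `{1, a, b, ab}` of two commuting involutions -/
def fourSub (a b : G) (haa : a * a = 1) (hbb : b * b = 1) (hab : a * b = b * a) : Subgroup G where
  carrier := {1, a, b, a * b}
  one_mem' := Or.inl rfl
  mul_mem' := by
    have h1 : a * (a * b) = b := by rw [← mul_assoc, haa, one_mul]
    have h2 : b * (a * b) = a := by rw [← mul_assoc, ← hab, mul_assoc, hbb, mul_one]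
    have h3 : a * b * a = b := by rw [mul_assoc, ← hab, h1]
    have h4 : a * b * b = a := by rw [mul_assoc, hbb, mul_one]
    have h5 : a * b * (a * b) = 1 := by rw [← mul_assoc, h3, hbb]
    rintro x y (rfl | rfl | rfl | rfl) (rfl | rfl | rfl | rfl)
    · exact Or.inl (one_mul 1)
    · exact Or.inr (Or.inl (one_mul _))
    · exact Or.inr (Or.inr (Or.inl (one_mul _)))
    · exact Or.inr (Or.inr (Or.inr (one_mul _)))
    · exact Or.inr (Or.inl (mul_one _))
    · exact Or.inl haa
    · exact Or.inr (Or.inr (Or.inr rfl))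
    · exact Or.inr (Or.inr (Or.inl h1))
    · exact Or.inr (Or.inr (Or.inl (mul_one _)))
    · exact Or.inr (Or.inr (Or.inr hab.symm))
    · exact Or.inl hbb
    · exact Or.inr (Or.inl h2)
    · exact Or.inr (Or.inr (Or.inr (mul_one _)))
    · exact Or.inr (Or.inr (Or.inl h3))
    · exact Or.inr (Or.inl h4)
    · exact Or.inl h5
  inv_mem' := by
    have hai : a⁻¹ = a := inv_eq_of_mul_eq_one_right haa
    have hbi : b⁻¹ = b := inv_eq_of_mul_eq_one_right hbb
    rintro x (rfl | rfl | rfl | rfl)
    · exact Or.inl inv_one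
    · exact Or.inr (Or.inl hai)
    · exact Or.inr (Or.inr (Or.inl hbi))
    · refine Or.inr (Or.inr (Or.inr ?_))
      rw [mul_inv_rev, hai, hbi]
      exact hab.symm

theorem mem_fourSub (a b : G) (haa : a * a = 1) (hbb : b * b = 1) (hab : a * b = b * a)
    (x : G) : x ∈ fourSub a b haa hbb hab ↔ x = 1 ∨ x = a ∨ x = b ∨ x = a * b := Iff.rfl

theorem fourSub_klein (a b : G) (haa : a * a = 1) (hbb : b * b = 1) (hab : a * b = b * a)
    (ha1 : a ≠ 1) (hb1 : b ≠ 1) (hne : a ≠ b) :
    IsKleinFour (fourSub a b haa hbb hab) := by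
  have hab1 : a * b ≠ 1 := by
    intro h
    apply hne
    have : b = a⁻¹ := eq_inv_of_mul_eq_one_right h
    rw [this, inv_eq_of_mul_eq_one_right haa]
  have haab : a ≠ a * b := by
    intro h
    apply hb1
    have : a * 1 = a * b := by rw [mul_one]; exact h
    exact (mul_left_cancel this).symm
  have hbab : b ≠ a * b := by
    intro h
    apply ha1
    have : 1 * b = a * b := by rw [one_mul]; exact h
    exact (mul_right_cancel this).symm
  constructor
  · rw [← SetLike.coe_sort_coe, Nat.card_coe_set_eq]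
    show ({1, a, b, a * b} : Set G).ncard = 4
    rw [Set.ncard_insert_of_notMem, Set.ncard_insert_of_notMem, Set.ncard_insert_of_notMem,
      Set.ncard_singleton]
    · simp only [Set.mem_singleton_iff]
      exact hbab
    · simp only [Set.mem_insert_iff, Set.mem_singleton_iff, not_or]
      exact ⟨hne, haab⟩
    · simp only [Set.mem_insert_iff, Set.mem_singleton_iff, not_or]
      exact ⟨ha1.symm, hb1.symm, hab1.symm⟩
  · haveI : Nontrivial (fourSub a b haa hbb hab) :=
      ⟨⟨1, ⟨a, Or.inr (Or.inl rfl)⟩, fun h => ha1 (congrArg Subtype.val h).symm⟩⟩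
    rw [Monoid.exponent_eq_prime_iff Nat.prime_two]
    rintro ⟨g, hg⟩ hg1
    apply orderOf_eq_prime
    · apply Subtype.ext
      rw [pow_two]
      show g * g = 1
      rcases hg with rfl | rfl | rfl | rfl
      · exact one_mul 1
      · exact haa
      · exact hbb
      · rw [← mul_assoc, mul_assoc a b a, ← hab, ← mul_assoc, haa, one_mul, hbb]
    · exact hg1

theorem klein_sq (U : Subgroup G) (hU : IsKleinFour U) {x : G} (hx : x ∈ U) : x * x = 1 := by
  have := IsKleinFour.mul_self (⟨x, hx⟩ : U)
  exact congrArg Subtype.val this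

theorem klein_comm (U : Subgroup G) (hU : IsKleinFour U) {x y : G} (hx : x ∈ U) (hy : y ∈ U) :
    x * y = y * x := by
  have := (IsKleinFour.isMulCommutative (G := U)).is_comm.comm ⟨x, hx⟩ ⟨y, hy⟩
  exact congrArg Subtype.val this

theorem klein_elems (U : Subgroup G) (hU : IsKleinFour U) {s t : G} (hs : s ∈ U) (ht : t ∈ U)
    (hs1 : s ≠ 1) (ht1 : t ≠ 1) (hst : s ≠ t) {x : G} (hx : x ∈ U) :
    x = 1 ∨ x = s ∨ x = t ∨ x = s * t := by
  by_contra hcon
  push Not at hcon
  obtain ⟨h1, h2, h3, h4⟩ := hcon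
  apply h4
  have := IsKleinFour.eq_mul_of_ne_all (G := U) (x := ⟨s, hs⟩) (y := ⟨t, ht⟩) (z := ⟨x, hx⟩)
    (fun h => hs1 (congrArg Subtype.val h)) (fun h => ht1 (congrArg Subtype.val h))
    (fun h => hst (congrArg Subtype.val h)) (fun h => h1 (congrArg Subtype.val h))
    (fun h => h2 (congrArg Subtype.val h)) (fun h => h3 (congrArg Subtype.val h))
  exact congrArg Subtype.val this

theorem klein_exists (U : Subgroup G) (hU : IsKleinFour U) :
    ∃ a b : G, a ∈ U ∧ b ∈ U ∧ a ≠ 1 ∧ b ≠ 1 ∧ a ≠ b := by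
  obtain ⟨e⟩ := IsKleinFour.nonempty_mulEquiv (G₁ := Multiplicative (ZMod 2 × ZMod 2)) (G₂ := U)
  refine ⟨(e (Multiplicative.ofAdd (1, 0)) : G), (e (Multiplicative.ofAdd (0, 1)) : G),
    (e _).2, (e _).2, ?_, ?_, ?_⟩
  · intro h
    have h1 : e (Multiplicative.ofAdd (1, 0)) = 1 := Subtype.ext h
    rw [← map_one e] at h1
    have := e.injective h1
    revert this
    decide
  · intro h
    have h1 : e (Multiplicative.ofAdd (0, 1)) = 1 := Subtype.ext h
    rw [← map_one e] at h1
    have := e.injective h1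
    revert this
    decide
  · intro h
    have h1 : e (Multiplicative.ofAdd (1, 0)) = e (Multiplicative.ofAdd (0, 1)) := Subtype.ext h
    have := e.injective h1
    revert this
    decide

/-- the commuting relation on four-subgroups -/
def FourRel (A B : Subgroup G) : Prop :=
  IsKleinFour A ∧ IsKleinFour B ∧ ∀ a ∈ A, ∀ b ∈ B, a * b = b * a

theorem FourRel.symm' {A B : Subgroup G} (h : FourRel A B) : FourRel B A :=
  ⟨h.2.1, h.1, fun b hb a ha => (h.2.2 a ha b hb).symm⟩

theorem rtg_symm {α : Type*} {r : α → α → Prop} (hs : ∀ a b, r a b → r b a) {a b : α}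
    (h : Relation.ReflTransGen r a b) : Relation.ReflTransGen r b a := by
  induction h with
  | refl => exact Relation.ReflTransGen.refl
  | tail _ hbc ih => exact Relation.ReflTransGen.head (hs _ _ hbc) ih

theorem exists_mem_notMem_finset (E : Subgroup G) (S : Finset G) (h : S.card < Nat.card E) :
    ∃ a ∈ E, a ∉ S := by
  by_contra hcon
  push Not at hcon
  have hsub : (E : Set G) ⊆ ↑S := fun a ha => hcon a ha
  have h1 : (E : Set G).ncard ≤ (↑S : Set G).ncard :=
    Set.ncard_le_ncard hsub (Finset.finite_toSet S)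
  rw [Set.ncard_coe_finset] at h1
  have h2 : Nat.card E = (E : Set G).ncard := (Nat.card_coe_set_eq (E : Set G))
  omega

end

section

variable {P : Type*} [Group P] (E : Subgroup P) [hEn : E.Normal]

/-- an involution acting on an elementary abelian normal 2-subgroup of order at least 5
centralizes an element outside `{1, z}` -/
theorem exists_centralizing (hEc : ∀ x ∈ E, ∀ y ∈ E, x * y = y * x)
    (hE2 : ∀ e ∈ E, e * e = 1) (hE5 : 5 ≤ Nat.card E) (z : P) (hzE : z ∈ E)
    (hzc : ∀ x : P, z * x = x * z) (t : P) (ht : t * t = 1) :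
    ∃ e ∈ E, e ≠ 1 ∧ e ≠ z ∧ e * t = t * e := by
  classical
  have htinv : t⁻¹ = t := inv_eq_of_mul_eq_one_right ht
  have hcE : ∀ a ∈ E, t * a * t ∈ E := by
    intro a ha
    have := hEn.conj_mem a ha t
    rwa [htinv] at this
  -- key dichotomy
  have key : ∀ a ∈ E, a ≠ 1 → a ≠ z →
      (∃ e ∈ E, e ≠ 1 ∧ e ≠ z ∧ e * t = t * e) ∨ t * a * t = a * z := by
    intro a ha ha1 haz
    set b := a * (t * a * t) with hb
    have hbE : b ∈ E := E.mul_mem ha (hcE a ha)
    have hbt : b * t = t * b := by
      have e3 : t * a * t * a = a * (t * a * t) := (hEc _ ha _ (hcE a ha)).symm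
      have e1 : b * t = a * t * a := by
        calc b * t = a * t * a * (t * t) := by rw [hb]; group
          _ = a * t * a := by rw [ht, mul_one]
      have e2 : t * b = a * t * a := by
        calc t * b = (t * a * t * a) * t := by rw [hb]; group
          _ = (a * (t * a * t)) * t := by rw [e3]
          _ = a * t * a * (t * t) := by group
          _ = a * t * a := by rw [ht, mul_one]
      rw [e1, e2]
    by_cases hb1 : b = 1
    · left
      refine ⟨a, ha, ha1, haz, ?_⟩
      have h1 : t * a * t = a⁻¹ := by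
        rw [hb] at hb1
        exact eq_inv_of_mul_eq_one_right hb1
      have h2 : a⁻¹ = a := inv_eq_of_mul_eq_one_right (hE2 a ha)
      rw [h2] at h1
      calc a * t = (t * t) * a * t := by rw [ht, one_mul]
        _ = t * (t * a * t) := by group
        _ = t * a := by rw [h1]
    · by_cases hbz : b = z
      · right
        have h2 : a⁻¹ = a := inv_eq_of_mul_eq_one_right (hE2 a ha)
        calc t * a * t = a⁻¹ * (a * (t * a * t)) := by group
          _ = a⁻¹ * z := by rw [← hb, hbz]
          _ = a * z := by rw [h2]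
      · left
        exact ⟨b, hbE, hb1, hbz, hbt⟩
  have hzz : z * z = 1 := hE2 z hzE
  obtain ⟨a, haE, haS⟩ := exists_mem_notMem_finset E ({1, z} : Finset P) (by
    have : ({1, z} : Finset P).card ≤ 2 := Finset.card_le_two
    omega)
  simp only [Finset.mem_insert, Finset.mem_singleton, not_or] at haS
  rcases key a haE haS.1 haS.2 with h | hca
  · exact h
  obtain ⟨a', haE', haS'⟩ := exists_mem_notMem_finset E ({1, z, a, a * z} : Finset P) (by
    have : ({1, z, a, a * z} : Finset P).card ≤ 4 := Finset.card_le_four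
    omega)
  simp only [Finset.mem_insert, Finset.mem_singleton, not_or] at haS'
  rcases key a' haE' haS'.1 haS'.2.1 with h | hca'
  · exact h
  have hainv : a⁻¹ = a := inv_eq_of_mul_eq_one_right (hE2 a haE)
  refine ⟨a * a', E.mul_mem haE haE', ?_, ?_, ?_⟩
  · intro h
    apply haS'.2.2.1
    have : a' = a⁻¹ := eq_inv_of_mul_eq_one_right h
    rw [this, hainv]
  · intro h
    apply haS'.2.2.2
    calc a' = a⁻¹ * (a * a') := by group
      _ = a * z := by rw [h, hainv]
  · have e1 : t * (a * a') * t = (t * a * t) * (t * a' * t) := by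
      calc t * (a * a') * t = t * a * 1 * a' * t := by group
        _ = t * a * (t * t) * a' * t := by rw [ht]
        _ = (t * a * t) * (t * a' * t) := by group
    have e2 : t * (a * a') * t = a * a' := by
      rw [e1, hca, hca']
      calc a * z * (a' * z) = a * (z * a') * z := by group
        _ = a * (a' * z) * z := by rw [hzc a']
        _ = a * a' * (z * z) := by group
        _ = a * a' := by rw [hzz, mul_one]
    calc a * a' * t = (t * t) * (a * a') * t := by rw [ht, one_mul]
      _ = t * (t * (a * a') * t) := by group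
      _ = t * (a * a') := by rw [e2]

/-- a four-group containing the central involution `z` is joined to a four-group inside `E` -/
theorem reach_E_of_mem (hEc : ∀ x ∈ E, ∀ y ∈ E, x * y = y * x)
    (hE2 : ∀ e ∈ E, e * e = 1) (hE5 : 5 ≤ Nat.card E) (z : P) (hzE : z ∈ E) (hz1 : z ≠ 1)
    (hzc : ∀ x : P, z * x = x * z) (U : Subgroup P) (hU : IsKleinFour U) (hzU : z ∈ U) :
    ∃ A : Subgroup P, IsKleinFour A ∧ A ≤ E ∧ FourRel U A := by
  obtain ⟨a, b, haU, hbU, ha1, hb1, hab⟩ := klein_exists U hU
  obtain ⟨t, htU, ht1, htz⟩ : ∃ t ∈ U, t ≠ 1 ∧ t ≠ z := by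
    by_cases h : a = z
    · exact ⟨b, hbU, hb1, fun hbz => hab (h.trans hbz.symm)⟩
    · exact ⟨a, haU, ha1, h⟩
  have htt : t * t = 1 := klein_sq U hU htU
  obtain ⟨e, heE, he1, hez, het⟩ := exists_centralizing E hEc hE2 hE5 z hzE hzc t htt
  have hzz : z * z = 1 := hE2 z hzE
  have hee : e * e = 1 := hE2 e heE
  have hze : z * e = e * z := hzc e
  refine ⟨fourSub z e hzz hee hze, fourSub_klein z e hzz hee hze hz1 he1 (Ne.symm hez), ?_,
    hU, fourSub_klein z e hzz hee hze hz1 he1 (Ne.symm hez), ?_⟩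
  · intro x hx
    rw [mem_fourSub] at hx
    rcases hx with rfl | rfl | rfl | rfl
    · exact E.one_mem
    · exact hzE
    · exact heE
    · exact E.mul_mem hzE heE
  · intro u hu x hx
    have hue : u * e = e * u := by
      rcases klein_elems U hU hzU htU hz1 ht1 (Ne.symm htz) hu with rfl | rfl | rfl | rfl
      · rw [one_mul, mul_one]
      · exact hze
      · exact het.symm
      · calc z * t * e = z * (t * e) := by group
          _ = z * (e * t) := by rw [het]
          _ = (z * e) * t := by group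
          _ = e * z * t := by rw [hze]
          _ = e * (z * t) := by group
    rw [mem_fourSub] at hx
    rcases hx with rfl | rfl | rfl | rfl
    · rw [one_mul, mul_one]
    · exact (hzc u).symm
    · exact hue
    · calc u * (z * e) = (u * z) * e := by group
        _ = (z * u) * e := by rw [hzc u]
        _ = z * (u * e) := by group
        _ = z * (e * u) := by rw [hue]
        _ = z * e * u := by group

theorem reach_E (hEc : ∀ x ∈ E, ∀ y ∈ E, x * y = y * x)
    (hE2 : ∀ e ∈ E, e * e = 1) (hE5 : 5 ≤ Nat.card E) (z : P) (hzE : z ∈ E) (hz1 : z ≠ 1)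
    (hzc : ∀ x : P, z * x = x * z) (U : Subgroup P) (hU : IsKleinFour U) :
    ∃ A : Subgroup P, IsKleinFour A ∧ A ≤ E ∧ Relation.ReflTransGen FourRel U A := by
  by_cases hzU : z ∈ U
  · obtain ⟨A, hA, hAE, hR⟩ := reach_E_of_mem E hEc hE2 hE5 z hzE hz1 hzc U hU hzU
    exact ⟨A, hA, hAE, Relation.ReflTransGen.single hR⟩
  · obtain ⟨a, b, haU, hbU, ha1, hb1, hab⟩ := klein_exists U hU
    have hzz : z * z = 1 := hE2 z hzE
    have haa : a * a = 1 := klein_sq U hU haU
    have hza : z ≠ a := fun h => hzU (h ▸ haU)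
    have hU' := fourSub_klein z a hzz haa (hzc a) hz1 ha1 hza
    have hR : FourRel U (fourSub z a hzz haa (hzc a)) := by
      refine ⟨hU, hU', ?_⟩
      intro u hu x hx
      have hua : u * a = a * u := klein_comm U hU hu haU
      rw [mem_fourSub] at hx
      rcases hx with rfl | rfl | rfl | rfl
      · rw [one_mul, mul_one]
      · exact (hzc u).symm
      · exact hua
      · calc u * (z * a) = (u * z) * a := by group
          _ = (z * u) * a := by rw [hzc u]
          _ = z * (u * a) := by group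
          _ = z * (a * u) := by rw [hua]
          _ = z * a * u := by group
    obtain ⟨A, hA, hAE, hR'⟩ := reach_E_of_mem E hEc hE2 hE5 z hzE hz1 hzc _ hU'
      (by rw [mem_fourSub]; exact Or.inr (Or.inl rfl))
    exact ⟨A, hA, hAE, (Relation.ReflTransGen.single hR).tail hR'⟩

end

theorem fourConnected_of_normal_elementary {P : Type*} [Group P] [Finite P] (hP : IsPGroup 2 P)
    (E : Subgroup P) [E.Normal] (hE : IsMulCommutative E) (hE2 : ∀ e ∈ E, e ^ 2 = 1)
    (hE8 : 8 ≤ Nat.card E) : Cfsg.IsFourConnected P := by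
  have : Fact (Nat.Prime 2) := ⟨Nat.prime_two⟩
  have : Group.IsNilpotent P := hP.isNilpotent
  have hEc : ∀ x ∈ E, ∀ y ∈ E, x * y = y * x := by
    intro x hx y hy
    have := hE.is_comm.comm (⟨x, hx⟩ : E) ⟨y, hy⟩
    exact congrArg Subtype.val this
  have hE2' : ∀ e ∈ E, e * e = 1 := by
    intro e he
    rw [← pow_two]
    exact hE2 e he
  have hEne : E ≠ ⊥ := by
    intro h
    rw [h, Subgroup.card_bot] at hE8
    omega
  have hz := Cfsg.Agent.Lib.Helper1.normal_inf_center_ne_bot E hEne
  obtain ⟨z0, hz0⟩ := (Subgroup.ne_bot_iff_exists_ne_one).mp hz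
  obtain ⟨z, hzmem, hz1⟩ : ∃ z : P, z ∈ E ⊓ Subgroup.center P ∧ z ≠ 1 :=
    ⟨(z0 : P), z0.2, fun h => hz0 (Subtype.ext h)⟩
  have hzE : z ∈ E := (Subgroup.mem_inf.mp hzmem).1
  have hzc : ∀ x : P, z * x = x * z := by
    intro x
    have := Subgroup.mem_center_iff.mp (Subgroup.mem_inf.mp hzmem).2 x
    exact this.symm
  intro U V hU hV
  obtain ⟨A, hA, hAE, hUA⟩ := reach_E E hEc hE2' (by omega) z hzE hz1 hzc U hU
  obtain ⟨B, hB, hBE, hVB⟩ := reach_E E hEc hE2' (by omega) z hzE hz1 hzc V hV
  have hAB : FourRel A B := ⟨hA, hB, fun a ha b hb => hEc a (hAE ha) b (hBE hb)⟩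
  have hBV := rtg_symm (fun _ _ h => FourRel.symm' h) hVB
  exact (hUA.tail hAB).trans hBV

end Cfsg.Agent.Lib.helper4
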