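import Mathlib
import Cfsg.Agent.Lib.Helper27.FusSimple

set_option autoImplicit false

/-! Simplicity of the fusion system of a finite group on its Sylow subgroups from a certificate on
one explicit self-normalising `p`-subgroup. -/

namespace Cfsg.Agent.Lib.helper4

open Cfsg Cfsg.FusionSystem

/-- A self-normalising `p`-subgroup is a Sylow `p`-subgroup. -/
theorem sylow_of_selfNormalizing {G : Type*} [Group G] [Finite G] (p : ℕ) [Fact p.Prime]
    (P : Subgroup G) (hP : IsPGroup p P)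
    (hN : ∀ g : G, (∀ s ∈ P, g * s * g⁻¹ ∈ P) → g ∈ P) :
    ∃ S : Sylow p G, (S : Subgroup G) = P := by
  obtain ⟨S, hS⟩ := hP.exists_le_sylow
  refine ⟨S, ?_⟩
  by_contra hne
  have hlt : P < (S : Subgroup G) := lt_of_le_of_ne hS (Ne.symm hne)
  have : Group.IsNilpotent (S : Subgroup G) := S.2.isNilpotent
  have hnc := Group.normalizerCondition_of_isNilpotent (G := (S : Subgroup G))
  have h1 : P.subgroupOf (S : Subgroup G) < ⊤ := by
    rw [lt_top_iff_ne_top]
    intro h
    rw [Subgroup.subgroupOf_eq_top] at h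
    exact absurd (le_antisymm hS h) (fun e => hne e.symm)
  have h2 := hnc _ h1
  obtain ⟨g, hgN, hgP⟩ := SetLike.exists_of_lt h2
  apply hgP
  rw [Subgroup.mem_subgroupOf]
  apply hN
  intro s hs
  rw [Subgroup.mem_normalizer_iff] at hgN
  have := (hgN ⟨s, hS hs⟩).mp (by rw [Subgroup.mem_subgroupOf]; exact hs)
  rw [Subgroup.mem_subgroupOf] at this
  simpa using this

/-- The simplicity certificate: a nontrivial self-normalising `p`-subgroup `P` all of whose
nontrivial fusion-closed subgroups are `P` itself. -/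
theorem fus_simple_of_cert {G : Type*} [Group G] [Finite G] (p : ℕ) [Fact p.Prime]
    (P : Subgroup G) (hP : IsPGroup p P) (hne : P ≠ ⊥)
    (hN : ∀ g : G, (∀ s ∈ P, g * s * g⁻¹ ∈ P) → g ∈ P)
    (hT : ∀ T : Subgroup G, T ≤ P → T ≠ ⊥ →
      (∀ x ∈ T, ∀ g : G, g * x * g⁻¹ ∈ P → g * x * g⁻¹ ∈ T) → P ≤ T)
    (S : Sylow p G) : (groupFusionSystem (S : Subgroup G)).IsSimple p := by
  obtain ⟨S0, hS0⟩ := sylow_of_selfNormalizing p P hP hN
  obtain ⟨c, hc⟩ := MulAction.exists_smul_eq G S0 S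
  have hmem : ∀ x : G, x ∈ (S : Subgroup G) ↔ c⁻¹ * x * c ∈ P := by
    intro x
    rw [← hc, Sylow.coe_subgroup_smul, hS0, Subgroup.mem_pointwise_smul_iff_inv_smul_mem,
      MulAut.smul_def, MulAut.conj_inv_apply]
  have hmem' : ∀ y : G, y ∈ P → c * y * c⁻¹ ∈ (S : Subgroup G) := by
    intro y hy
    rw [hmem]
    have : c⁻¹ * (c * y * c⁻¹) * c = y := by group
    rw [this]; exact hy
  apply Cfsg.Agent.Lib.Helper27.FusSimple.isSimple_of_stronglyClosed p S
  · intro h
    apply hne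
    rw [eq_bot_iff]
    intro y hy
    have h1 := hmem' y hy
    rw [h] at h1
    rw [Subgroup.mem_bot] at h1 ⊢
    have : y = c⁻¹ * (c * y * c⁻¹) * c := by group
    rw [this, h1]; group
  · intro g hg
    have hgS : g ∈ (S : Subgroup G) := by
      rw [hmem]
      apply hN
      intro s hs
      have h1 := hmem' s hs
      rw [Subgroup.mem_normalizer_iff] at hg
      have h2 := (hg _).mp h1
      rw [hmem] at h2
      have : c⁻¹ * g * c * s * (c⁻¹ * g * c)⁻¹ = c⁻¹ * (g * (c * s * c⁻¹) * g⁻¹) * c := by group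
      rw [this]; exact h2
    exact ⟨g, hgS, fun x _ => rfl⟩
  · intro T hTsc hTne
    obtain ⟨hTS, hcl⟩ := hTsc
    -- fusion closedness of `T`
    have hfus : ∀ x ∈ T, ∀ g : G, g * x * g⁻¹ ∈ (S : Subgroup G) → g * x * g⁻¹ ∈ T := by
      intro x hx g hgx
      have hR : Subgroup.zpowers x ≤ T := (Subgroup.zpowers_le).mpr hx
      have hφ : conjHom (Subgroup.zpowers x) g ∈
          (groupFusionSystem (S : Subgroup G)).Hom (Subgroup.zpowers x) := by
        refine ⟨hR.trans hTS, ?_, g, fun y => rfl⟩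
        rintro ⟨y, k, rfl⟩
        show g * x ^ k * g⁻¹ ∈ (S : Subgroup G)
        have : g * x ^ k * g⁻¹ = (g * x * g⁻¹) ^ k := by
          rw [conj_zpow]
        rw [this]
        exact Subgroup.zpow_mem _ hgx k
      exact hcl _ hR _ hφ ⟨x, Subgroup.mem_zpowers x⟩
    -- transport to `P`
    let T' : Subgroup G := T.map (MulAut.conj c⁻¹).toMonoidHom
    have hT'mem : ∀ y : G, y ∈ T' ↔ c * y * c⁻¹ ∈ T := by
      intro y
      constructor
      · rintro ⟨x, hx, rfl⟩
        have : c * ((MulAut.conj c⁻¹).toMonoidHom x) * c⁻¹ = x := by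
          simp only [MulEquiv.coe_toMonoidHom, MulAut.conj_apply, inv_inv]
          group
        rw [this]; exact hx
      · intro h
        refine ⟨c * y * c⁻¹, h, ?_⟩
        simp only [MulEquiv.coe_toMonoidHom, MulAut.conj_apply, inv_inv]
        group
    have h1 : T' ≤ P := by
      intro y hy
      have h2 := hTS ((hT'mem y).mp hy)
      rw [hmem] at h2
      have : c⁻¹ * (c * y * c⁻¹) * c = y := by group
      rw [this] at h2; exact h2
    have h2 : T' ≠ ⊥ := by
      intro h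
      apply hTne
      rw [eq_bot_iff]
      intro x hx
      have : c⁻¹ * x * c ∈ T' := by
        rw [hT'mem]
        have : c * (c⁻¹ * x * c) * c⁻¹ = x := by group
        rw [this]; exact hx
      rw [h, Subgroup.mem_bot] at this
      rw [Subgroup.mem_bot]
      have e : x = c * (c⁻¹ * x * c) * c⁻¹ := by group
      rw [e, this]; group
    have h3 : P ≤ T' := by
      apply hT T' h1 h2
      intro y hy g hgy
      rw [hT'mem] at hy ⊢
      have e : c * (g * y * g⁻¹) * c⁻¹ = (c * g * c⁻¹) * (c * y * c⁻¹) * (c * g * c⁻¹)⁻¹ := by group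
      rw [e]
      apply hfus _ hy
      rw [← e]
      exact hmem' _ hgy
    apply le_antisymm hTS
    intro x hx
    rw [hmem] at hx
    have h4 := (hT'mem _).mp (h3 hx)
    have e : c * (c⁻¹ * x * c) * c⁻¹ = x := by group
    rw [e] at h4; exact h4

/-- All Sylow subgroups are self-normalising as soon as one self-normalising `p`-subgroup exists. -/
theorem sylow_normalizer_eq_of_cert {G : Type*} [Group G] [Finite G] (p : ℕ) [Fact p.Prime]
    (P : Subgroup G) (hP : IsPGroup p P)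
    (hN : ∀ g : G, (∀ s ∈ P, g * s * g⁻¹ ∈ P) → g ∈ P) (S : Sylow p G) :
    Subgroup.normalizer ((S : Subgroup G) : Set G) = (S : Subgroup G) := by
  obtain ⟨S0, hS0⟩ := sylow_of_selfNormalizing p P hP hN
  obtain ⟨c, hc⟩ := MulAction.exists_smul_eq G S0 S
  have hmem : ∀ x : G, x ∈ (S : Subgroup G) ↔ c⁻¹ * x * c ∈ P := by
    intro x
    rw [← hc, Sylow.coe_subgroup_smul, hS0, Subgroup.mem_pointwise_smul_iff_inv_smul_mem,
      MulAut.smul_def, MulAut.conj_inv_apply]
  have hmem' : ∀ y : G, y ∈ P → c * y * c⁻¹ ∈ (S : Subgroup G) := by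
    intro y hy
    rw [hmem]
    have : c⁻¹ * (c * y * c⁻¹) * c = y := by group
    rw [this]; exact hy
  apply le_antisymm _ Subgroup.le_normalizer
  intro g hg
  rw [hmem]
  apply hN
  intro s hs
  have h1 := hmem' s hs
  rw [Subgroup.mem_normalizer_iff] at hg
  have h2 := (hg _).mp h1
  rw [hmem] at h2
  have : c⁻¹ * g * c * s * (c⁻¹ * g * c)⁻¹ = c⁻¹ * (g * (c * s * c⁻¹) * g⁻¹) * c := by group
  rw [this]; exact h2

/-- the same for a subgroup of an ambient group -/
theorem sylow_normalizer_eq_of_cert_sub {Ω : Type*} [Group Ω] (H P0 : Subgroup Ω) [Finite H]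
    (p : ℕ) [Fact p.Prime] (hle : P0 ≤ H) (hP : IsPGroup p P0)
    (hN : ∀ g ∈ H, (∀ s ∈ P0, g * s * g⁻¹ ∈ P0) → g ∈ P0) (S : Sylow p H) :
    Subgroup.normalizer ((S : Subgroup H) : Set H) = (S : Subgroup H) := by
  apply sylow_normalizer_eq_of_cert p (P0.subgroupOf H) hP.comap_subtype
  intro g hg
  rw [Subgroup.mem_subgroupOf]
  apply hN _ g.2
  intro s hs
  have := hg ⟨s, hle hs⟩ (by rw [Subgroup.mem_subgroupOf]; exact hs)
  rw [Subgroup.mem_subgroupOf] at this
  simpa using this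

/-- The certificate for a subgroup `H` of an ambient group, stated inside the ambient group. -/
theorem fus_simple_of_cert_sub {Ω : Type*} [Group Ω] (H P0 : Subgroup Ω) [Finite H]
    (p : ℕ) [Fact p.Prime] (hle : P0 ≤ H) (hP : IsPGroup p P0) (hne : P0 ≠ ⊥)
    (hN : ∀ g ∈ H, (∀ s ∈ P0, g * s * g⁻¹ ∈ P0) → g ∈ P0)
    (hT : ∀ T : Subgroup Ω, T ≤ P0 → T ≠ ⊥ →
      (∀ x ∈ T, ∀ g ∈ H, g * x * g⁻¹ ∈ P0 → g * x * g⁻¹ ∈ T) → P0 ≤ T)
    (S : Sylow p H) : (groupFusionSystem (S : Subgroup H)).IsSimple p := by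
  apply fus_simple_of_cert p (P0.subgroupOf H) hP.comap_subtype
  · intro h
    apply hne
    rw [eq_bot_iff]
    intro x hx
    have : (⟨x, hle hx⟩ : H) ∈ P0.subgroupOf H := by rw [Subgroup.mem_subgroupOf]; exact hx
    rw [h, Subgroup.mem_bot] at this
    rw [Subgroup.mem_bot]
    exact congrArg Subtype.val this
  · intro g hg
    rw [Subgroup.mem_subgroupOf]
    apply hN _ g.2
    intro s hs
    have := hg ⟨s, hle hs⟩ (by rw [Subgroup.mem_subgroupOf]; exact hs)
    rw [Subgroup.mem_subgroupOf] at this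
    simpa using this
  · intro T' hT'le hT'ne hfus
    have hmapmem : ∀ x : Ω, x ∈ T'.map H.subtype ↔ ∃ h : x ∈ H, (⟨x, h⟩ : H) ∈ T' := by
      intro x
      constructor
      · rintro ⟨y, hy, rfl⟩
        exact ⟨y.2, hy⟩
      · rintro ⟨h, hx⟩
        exact ⟨⟨x, h⟩, hx, rfl⟩
    have h1 : T'.map H.subtype ≤ P0 := by
      intro x hx
      obtain ⟨h, hx'⟩ := (hmapmem x).mp hx
      have := hT'le hx'
      rwa [Subgroup.mem_subgroupOf] at this
    have h2 : T'.map H.subtype ≠ ⊥ := by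
      intro h
      apply hT'ne
      rw [eq_bot_iff]
      intro y hy
      have : (y : Ω) ∈ T'.map H.subtype := ⟨y, hy, rfl⟩
      rw [h, Subgroup.mem_bot] at this
      rw [Subgroup.mem_bot]
      exact Subtype.ext this
    have h3 := hT _ h1 h2 (by
      intro x hx g hg hgx
      obtain ⟨h, hx'⟩ := (hmapmem x).mp hx
      have := hfus ⟨x, h⟩ hx' ⟨g, hg⟩ (by rw [Subgroup.mem_subgroupOf]; simpa using hgx)
      exact ⟨_, this, by simp⟩)
    intro y hy
    rw [Subgroup.mem_subgroupOf] at hy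
    obtain ⟨h, hy'⟩ := (hmapmem _).mp (h3 hy)
    exact hy'

end Cfsg.Agent.Lib.helper4
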