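import Mathlib
import Cfsg.Agent.Lib.helper4.FusNorm

set_option autoImplicit false

/-! Certificates showing that the fusion-closed subgroup generated by the central involution of an
explicit `2`-group is the whole group. -/

namespace Cfsg.Agent.Lib.helper4

open Cfsg Cfsg.Agent.Lib.Helper12.Golay

/-- product `t_{i₁} (t_{i₂} ⋯)` of the tables with the indices in `w` -/
def prodT (ts : List (List ℕ)) : List ℕ → Option (List ℕ)
  | [] => some (List.range 24)
  | i :: w =>
    match ts[i]?, prodT ts w with
    | some t, some r => some (compTbl t r)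
    | _, _ => none

/-- run the steps: each step conjugates a word in the tables found so far by an element of the
big group, landing on a new element of the `2`-group -/
def certSteps (memH : List ℕ → Bool) (NF : List (List ℕ)) :
    List (List ℕ) → List (List ℕ × List ℕ × List ℕ) → Option (List (List ℕ))
  | ts, [] => some ts
  | ts, (w, c, y) :: rest =>
    match prodT ts w with
    | some r =>
      if memH c && NF.contains y && (compTbl c r == compTbl y c) then
        certSteps memH NF (ts ++ [y]) rest
      else none
    | none => none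

def certOK (memH : List ℕ → Bool) (NF : List (List ℕ)) (z : List ℕ)
    (steps : List (List ℕ × List ℕ × List ℕ)) (gs : List (List ℕ)) (words : List (List ℕ)) : Bool :=
  match certSteps memH NF [z] steps with
  | none => false
  | some ts => (List.range gs.length).all fun k => prodT ts (words.getD k []) == gs[k]?

theorem prodT_mem {T : Subgroup (Equiv.Perm GolayPt)} {ts : List (List ℕ)}
    (hts : ∀ t ∈ ts, ∃ x ∈ T, tblOf x = t) :
    ∀ (w : List ℕ) (r : List ℕ), prodT ts w = some r → ∃ x ∈ T, tblOf x = r
  | [], r, h => by
    unfold prodT at h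
    rw [Option.some.injEq] at h
    exact ⟨1, T.one_mem, by rw [tblOf_one, h]⟩
  | i :: w, r, h => by
    unfold prodT at h
    cases h1 : ts[i]? with
    | none => rw [h1] at h; simp at h
    | some t =>
      cases h2 : prodT ts w with
      | none => rw [h1, h2] at h; simp at h
      | some r' =>
        rw [h1, h2] at h
        simp only [Option.some.injEq] at h
        obtain ⟨x, hx, ex⟩ := hts t (List.mem_of_getElem? h1)
        obtain ⟨y, hy, ey⟩ := prodT_mem hts w r' h2
        exact ⟨x * y, T.mul_mem hx hy, by rw [tblOf_mul, ex, ey, h]⟩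

theorem certSteps_mem {Hgrp : Subgroup (Equiv.Perm GolayPt)} {memH : List ℕ → Bool}
    (hmemH : ∀ c, memH c = true → ValidT c ∧ fperm c ∈ Hgrp) {gs : List (List ℕ)}
    (hpc : pcOK gs = true) {T : Subgroup (Equiv.Perm GolayPt)}
    (hfus : ∀ x ∈ T, ∀ g ∈ Hgrp, g * x * g⁻¹ ∈ tgrp gs → g * x * g⁻¹ ∈ T) :
    ∀ (steps : List (List ℕ × List ℕ × List ℕ)) (ts ts' : List (List ℕ)),
      (∀ t ∈ ts, ∃ x ∈ T, tblOf x = t) → certSteps memH (nfList gs) ts steps = some ts' →
      ∀ t ∈ ts', ∃ x ∈ T, tblOf x = t
  | [], ts, ts', hts, h => by
    unfold certSteps at h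
    rw [Option.some.injEq] at h
    rw [← h]; exact hts
  | (w, c, y) :: rest, ts, ts', hts, h => by
    unfold certSteps at h
    cases h1 : prodT ts w with
    | none => rw [h1] at h; simp at h
    | some r =>
      rw [h1] at h
      simp only at h
      split at h
      · rename_i hc
        simp only [Bool.and_eq_true, List.contains_iff_mem, beq_iff_eq] at hc
        obtain ⟨⟨hcH, hyNF⟩, heq⟩ := hc
        obtain ⟨hvc, hcmem⟩ := hmemH c hcH
        obtain ⟨x, hx, ex⟩ := prodT_mem hts w r h1
        obtain ⟨yp, hyp, ey⟩ := nf_sound (pcOK_valid hpc) _ hyNF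
        have hconj : fperm c * x * (fperm c)⁻¹ = yp := by
          have : fperm c * x = yp * fperm c := by
            apply tblOf_injective
            rw [tblOf_mul, tblOf_mul, tblOf_fperm hvc, ex, ey, heq]
          rw [this]; group
        have hypT : yp ∈ T := by
          rw [← hconj]
          apply hfus x hx _ hcmem
          rw [hconj]; exact hyp
        apply certSteps_mem hmemH hpc hfus rest (ts ++ [y]) ts' _ h
        intro t ht
        rcases List.mem_append.mp ht with ht | ht
        · exact hts t ht
        · rw [List.mem_singleton] at ht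
          exact ⟨yp, hypT, by rw [ey, ht]⟩
      · simp at h

/-- The certificate: a subgroup containing `z` and closed under fusion into the `2`-group contains
the whole `2`-group. -/
theorem le_of_certOK {Hgrp : Subgroup (Equiv.Perm GolayPt)} {memH : List ℕ → Bool}
    (hmemH : ∀ c, memH c = true → ValidT c ∧ fperm c ∈ Hgrp) {gs : List (List ℕ)}
    (hpc : pcOK gs = true) {z : List ℕ} {steps : List (List ℕ × List ℕ × List ℕ)}
    {words : List (List ℕ)} (hcert : certOK memH (nfList gs) z steps gs words = true)
    (T : Subgroup (Equiv.Perm GolayPt)) (hzT : ∃ x ∈ T, tblOf x = z)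
    (hfus : ∀ x ∈ T, ∀ g ∈ Hgrp, g * x * g⁻¹ ∈ tgrp gs → g * x * g⁻¹ ∈ T) : tgrp gs ≤ T := by
  unfold certOK at hcert
  cases h1 : certSteps memH (nfList gs) [z] steps with
  | none => rw [h1] at hcert; simp at hcert
  | some ts =>
    rw [h1] at hcert
    simp only [List.all_eq_true, List.mem_range, beq_iff_eq] at hcert
    have hts := certSteps_mem hmemH hpc hfus steps [z] ts (by
      intro t ht
      rw [List.mem_singleton] at ht
      rw [ht]; exact hzT) h1
    unfold tgrp
    rw [Subgroup.closure_le]
    rintro _ ⟨g, hg, rfl⟩
    obtain ⟨k, hk, e⟩ := List.mem_iff_getElem.mp hg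
    have h2 := hcert k hk
    rw [List.getElem?_eq_getElem hk, e] at h2
    obtain ⟨x, hx, ex⟩ := prodT_mem hts _ _ h2
    rw [SetLike.mem_coe, ← ex, fperm_tblOf]
    exact hx

end Cfsg.Agent.Lib.helper4
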