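import Mathlib
import Cfsg.Agent.S5160
import Cfsg.Agent.Lib.helper4.FusAbs

set_option autoImplicit false

/-! Simplicity of the fusion system of a finite group on a Sylow subgroup whose normaliser is
generated by `p`-elements normalising a centric normal subgroup. -/

namespace Cfsg.Agent.Lib.helper4

open Cfsg Cfsg.FusionSystem Cfsg.Agent.Lib.Helper26 Cfsg.Agent.Lib.Helper27

/-- the generation criterion, without radicality and elementwise -/
theorem fus_simple_of_gen {G : Type*} [Group G] [Finite G] (p : ℕ) [Fact p.Prime] (S : Sylow p G)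
    (hS1 : (S : Subgroup G) ≠ ⊥)
    (ha : ∀ T : Subgroup G, (groupFusionSystem (S : Subgroup G)).StronglyClosed T →
      T = ⊥ ∨ T = (S : Subgroup G))
    (hb : ∀ g ∈ Subgroup.normalizer ((S : Subgroup G) : Set G), ∃ R : Subgroup G,
      (groupFusionSystem (S : Subgroup G)).IsFullyNormalized R ∧
      (groupFusionSystem (S : Subgroup G)).IsCentric R ∧
      g ∈ Subgroup.closure {g : G | g ∈ Subgroup.normalizer (R : Set G) ∧
        ∃ k : ℕ, orderOf g = p ^ k}) :
    (groupFusionSystem (S : Subgroup G)).IsSimple p := by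
  have hF := Cfsg.Agent.S5076.result p S
  have hSp : IsPGroup p ↥(S : Subgroup G) := S.isPGroup'
  refine ⟨hF, hS1, fun T E hE => ?_⟩
  have hT := hE.1.2.2.2.1
  rcases ha T hT with h | h
  · exact Or.inl h
  · right
    subst h
    refine ⟨rfl, fun P => ?_⟩
    obtain ⟨⟨hEsat, -, hinv⟩, -⟩ := hE
    have hsub := hinv.1
    have hAut : ∀ α ∈ (groupFusionSystem (S : Subgroup G)).autGroup (S : Subgroup G),
        α ∈ E.autGroup (S : Subgroup G) := by
      intro α hα
      obtain ⟨-, -, g, hg⟩ := (mem_autGroup_iff _ le_rfl).mp hα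
      have hgN : g ∈ Subgroup.normalizer ((S : Subgroup G) : Set G) := by
        rw [Subgroup.mem_normalizer_iff_map_conj_eq]
        have hle : (S : Subgroup G).map (MulAut.conj g).toMonoidHom ≤ (S : Subgroup G) := by
          rintro _ ⟨x, hx, rfl⟩
          have := hg ⟨x, hx⟩
          show g * x * g⁻¹ ∈ (S : Subgroup G)
          rw [← this]
          exact (α ⟨x, hx⟩).2
        refine Subgroup.eq_of_le_of_card_ge hle ?_
        rw [Subgroup.card_map_of_injective (MulAut.conj g).injective]
      obtain ⟨R, hRn, hRc, hgK⟩ := hb g hgN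
      obtain ⟨hgN', hconj⟩ := Cfsg.Agent.S5160.conj_mem_of_mem_closure p S E hinv hRn hgK
      have hRS : R ≤ (S : Subgroup G) := hRn.1
      have hφR : ∀ x : R, R.subtype x ∈ (S : Subgroup G) := fun x => hRS x.2
      have hψ : (S : Subgroup G).subtype.comp α.toMonoidHom ∈
          (groupFusionSystem (S : Subgroup G)).Hom (S : Subgroup G) :=
        ⟨le_rfl, fun x => (α x).2, g, fun x => hg x⟩
      have h3 := (Cfsg.Agent.S5334.result p hSp _ hF E hEsat (fun P => hsub P) R (S : Subgroup G)
        hRc (Cfsg.Agent.S5335.isCentric_top _) R.subtype (subtype_mem _ hRS) hφR _ hψ).2.2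
      have hcomp : ((S : Subgroup G).subtype.comp α.toMonoidHom).comp
          (R.subtype.codRestrict (S : Subgroup G) hφR) ∈ E.Hom R := by
        refine mem_of_forall_eq E ((mem_autGroup_iff E hRS).mp hconj) (fun x => ?_)
        show ((α ⟨x, hRS x.2⟩ : (S : Subgroup G)) : G) = ((conjAut R g hgN' x : R) : G)
        rw [conjAut_apply]
        exact hg ⟨x, hRS x.2⟩
      exact (mem_autGroup_iff E le_rfl).mpr (h3 (subtype_mem E hRS) hcomp)
    apply Set.eq_of_subset_of_subset (hsub P)
    intro φ hφ
    have hPT : P ≤ (S : Subgroup G) := ((groupFusionSystem (S : Subgroup G)).le_of_mem hφ).1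
    obtain ⟨α, hα, φ₀, hφ₀, h⟩ := hinv.2.2.2 P hPT φ hφ
    have hαE := (mem_autGroup_iff E le_rfl).mp (hAut α hα)
    have hφ₀T := (E.le_of_mem hφ₀).2
    have hcomp := E.comp_mem hφ₀ hαE hφ₀T
    refine mem_of_forall_eq E hcomp (fun x => ?_)
    rw [h x (hφ₀T x)]
    rfl

end Cfsg.Agent.Lib.helper4
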