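import Mathlib
import Cfsg.Agent.Lib.helper4.FusGen

set_option autoImplicit false

namespace Cfsg.Agent.Lib.helper4

open Cfsg Cfsg.FusionSystem

/-- conjugating a subgroup -/
theorem mem_map_conj_iff {G : Type*} [Group G] (Q : Subgroup G) (c y : G) :
    y ∈ Q.map (MulAut.conj c).toMonoidHom ↔ c⁻¹ * y * c ∈ Q := by
  constructor
  · rintro ⟨x, hx, rfl⟩
    have : c⁻¹ * ((MulAut.conj c).toMonoidHom x) * c = x := by
      simp only [MulEquiv.coe_toMonoidHom, MulAut.conj_apply]
      group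
    rw [this]
    exact hx
  · intro h
    refine ⟨c⁻¹ * y * c, h, ?_⟩
    simp only [MulEquiv.coe_toMonoidHom, MulAut.conj_apply]
    group

/-- The certificate: a Sylow subgroup `P`, a normal subgroup `Q` of `P` containing its centraliser,
the normaliser of `P` inside the group generated by the `p`-elements normalising `Q`, and no
fusion-closed subgroups of `P` other than the trivial one and `P`. -/
theorem fus_simple_of_cert2 {G : Type*} [Group G] [Finite G] (p : ℕ) [Fact p.Prime]
    (P : Sylow p G) (Q : Subgroup G) (hne : (P : Subgroup G) ≠ ⊥) (hQP : Q ≤ (P : Subgroup G))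
    (hQn : ∀ s ∈ (P : Subgroup G), ∀ x ∈ Q, s * x * s⁻¹ ∈ Q)
    (hQc : ∀ g : G, (∀ x ∈ Q, g * x * g⁻¹ = x) → g ∈ Q)
    (hN : ∀ g : G, (∀ s ∈ (P : Subgroup G), g * s * g⁻¹ ∈ (P : Subgroup G)) →
      g ∈ Subgroup.closure {h : G | h ∈ Subgroup.normalizer (Q : Set G) ∧
        ∃ k : ℕ, orderOf h = p ^ k})
    (hT : ∀ T : Subgroup G, T ≤ (P : Subgroup G) → T ≠ ⊥ →
      (∀ x ∈ T, ∀ g : G, g * x * g⁻¹ ∈ (P : Subgroup G) → g * x * g⁻¹ ∈ T) →
      (P : Subgroup G) ≤ T)
    (S : Sylow p G) : (groupFusionSystem (S : Subgroup G)).IsSimple p := by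
  obtain ⟨c, hc⟩ := MulAction.exists_smul_eq G P S
  have hmem : ∀ x : G, x ∈ (S : Subgroup G) ↔ c⁻¹ * x * c ∈ (P : Subgroup G) := by
    intro x
    rw [← hc, Sylow.coe_subgroup_smul, Subgroup.mem_pointwise_smul_iff_inv_smul_mem,
      MulAut.smul_def, MulAut.conj_inv_apply]
  have hmem' : ∀ y : G, y ∈ (P : Subgroup G) → c * y * c⁻¹ ∈ (S : Subgroup G) := by
    intro y hy
    rw [hmem]
    have : c⁻¹ * (c * y * c⁻¹) * c = y := by group
    rw [this]; exact hy
  apply fus_simple_of_gen p S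
  · intro h
    apply hne
    rw [eq_bot_iff]
    intro y hy
    have h1 := hmem' y hy
    rw [h] at h1
    rw [Subgroup.mem_bot] at h1 ⊢
    have : y = c⁻¹ * (c * y * c⁻¹) * c := by group
    rw [this, h1]; group
  · intro T hTsc
    by_cases hTne : T = ⊥
    · exact Or.inl hTne
    right
    obtain ⟨hTS, hcl⟩ := hTsc
    have hfus : ∀ x ∈ T, ∀ g : G, g * x * g⁻¹ ∈ (S : Subgroup G) → g * x * g⁻¹ ∈ T := by
      intro x hx g hgx
      have hR : Subgroup.zpowers x ≤ T := (Subgroup.zpowers_le).mpr hx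
      have hφ : conjHom (Subgroup.zpowers x) g ∈
          (groupFusionSystem (S : Subgroup G)).Hom (Subgroup.zpowers x) := by
        refine ⟨hR.trans hTS, ?_, g, fun y => rfl⟩
        rintro ⟨y, k, rfl⟩
        show g * x ^ k * g⁻¹ ∈ (S : Subgroup G)
        have : g * x ^ k * g⁻¹ = (g * x * g⁻¹) ^ k := by
          rw [conj_zpow]
        rw [this]
        exact Subgroup.zpow_mem _ hgx k
      exact hcl _ hR _ hφ ⟨x, Subgroup.mem_zpowers x⟩
    let T' : Subgroup G := T.map (MulAut.conj c⁻¹).toMonoidHom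
    have hT'mem : ∀ y : G, y ∈ T' ↔ c * y * c⁻¹ ∈ T := by
      intro y
      have := mem_map_conj_iff T c⁻¹ y
      rw [inv_inv] at this
      exact this
    have h1 : T' ≤ (P : Subgroup G) := by
      intro y hy
      have h2 := hTS ((hT'mem y).mp hy)
      rw [hmem] at h2
      have : c⁻¹ * (c * y * c⁻¹) * c = y := by group
      rw [this] at h2; exact h2
    have h2 : T' ≠ ⊥ := by
      intro h
      apply hTne
      rw [eq_bot_iff]
      intro x hx
      have : c⁻¹ * x * c ∈ T' := by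
        rw [hT'mem]
        have : c * (c⁻¹ * x * c) * c⁻¹ = x := by group
        rw [this]; exact hx
      rw [h, Subgroup.mem_bot] at this
      rw [Subgroup.mem_bot]
      have e : x = c * (c⁻¹ * x * c) * c⁻¹ := by group
      rw [e, this]; group
    have h3 : (P : Subgroup G) ≤ T' := by
      apply hT T' h1 h2
      intro y hy g hgy
      rw [hT'mem] at hy ⊢
      have e : c * (g * y * g⁻¹) * c⁻¹ = (c * g * c⁻¹) * (c * y * c⁻¹) * (c * g * c⁻¹)⁻¹ := by group
      rw [e]
      apply hfus _ hy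
      rw [← e]
      exact hmem' _ hgy
    apply le_antisymm hTS
    intro x hx
    rw [hmem] at hx
    have h4 := (hT'mem _).mp (h3 hx)
    have e : c * (c⁻¹ * x * c) * c⁻¹ = x := by group
    rw [e] at h4; exact h4
  · intro g hg
    let R : Subgroup G := Q.map (MulAut.conj c).toMonoidHom
    have hRmem : ∀ y : G, y ∈ R ↔ c⁻¹ * y * c ∈ Q := mem_map_conj_iff Q c
    have hRS : R ≤ (S : Subgroup G) := by
      intro y hy
      rw [hmem]
      exact hQP ((hRmem y).mp hy)
    have hSR : (S : Subgroup G) ≤ Subgroup.normalizer (R : Set G) := by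
      intro s hs
      rw [Subgroup.mem_normalizer_iff]
      have hs' := (hmem s).mp hs
      have key : ∀ (t : G), c⁻¹ * t * c ∈ (P : Subgroup G) → ∀ y ∈ R, t * y * t⁻¹ ∈ R := by
        intro t ht y hy
        rw [hRmem] at hy ⊢
        have e : c⁻¹ * (t * y * t⁻¹) * c = (c⁻¹ * t * c) * (c⁻¹ * y * c) * (c⁻¹ * t * c)⁻¹ := by
          group
        rw [e]
        exact hQn _ ht _ hy
      intro y
      constructor
      · exact key s hs' y
      · intro h
        have hs'' : c⁻¹ * s⁻¹ * c ∈ (P : Subgroup G) := by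
          have : c⁻¹ * s⁻¹ * c = (c⁻¹ * s * c)⁻¹ := by group
          rw [this]
          exact Subgroup.inv_mem _ hs'
        have := key s⁻¹ hs'' _ h
        have e : s⁻¹ * (s * y * s⁻¹) * s⁻¹⁻¹ = y := by group
        rw [e] at this
        exact this
    refine ⟨R, ⟨hRS, ?_⟩, ⟨hRS, ?_⟩, ?_⟩
    · intro Q' _
      have e : normalizerIn (S : Subgroup G) R = (S : Subgroup G) := by
        unfold normalizerIn
        exact inf_eq_left.mpr hSR
      rw [e]
      exact Subgroup.card_le_of_le inf_le_left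
    · rintro Q' ⟨φ, ⟨-, -, k, hk⟩, rfl⟩ y hy
      obtain ⟨-, hyc⟩ := hy
      have hyc : y ∈ Subgroup.centralizer (φ.range : Set G) := hyc
      rw [Subgroup.mem_centralizer_iff] at hyc
      -- `k⁻¹ y k` centralises `R`
      have h1 : c⁻¹ * (k⁻¹ * y * k) * c ∈ Q := by
        apply hQc
        intro x hx
        have hx' : c * x * c⁻¹ ∈ R := by
          rw [hRmem]
          have : c⁻¹ * (c * x * c⁻¹) * c = x := by group
          rw [this]; exact hx
        have h2 := hyc (φ ⟨c * x * c⁻¹, hx'⟩) ⟨_, rfl⟩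
        rw [hk] at h2
        -- h2 : k * (c x c⁻¹) * k⁻¹ * y = y * (k * (c x c⁻¹) * k⁻¹)
        have h3 : (k * (c * x * c⁻¹) * k⁻¹) * y = y * (k * (c * x * c⁻¹) * k⁻¹) := h2
        calc c⁻¹ * (k⁻¹ * y * k) * c * x * (c⁻¹ * (k⁻¹ * y * k) * c)⁻¹
            = c⁻¹ * k⁻¹ * (y * (k * (c * x * c⁻¹) * k⁻¹)) * y⁻¹ * k * c := by group
          _ = c⁻¹ * k⁻¹ * ((k * (c * x * c⁻¹) * k⁻¹) * y) * y⁻¹ * k * c := by rw [h3]
          _ = x := by group
      refine ⟨⟨k⁻¹ * y * k, (hRmem _).mpr h1⟩, ?_⟩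
      rw [hk]
      show k * (k⁻¹ * y * k) * k⁻¹ = y
      group
    · have hg' : c⁻¹ * g * c ∈ Subgroup.closure {h : G | h ∈ Subgroup.normalizer (Q : Set G) ∧
          ∃ k : ℕ, orderOf h = p ^ k} := by
        apply hN
        intro s hs
        have h1 := hmem' s hs
        rw [Subgroup.mem_normalizer_iff] at hg
        have h2 := (hg _).mp h1
        rw [hmem] at h2
        have : c⁻¹ * g * c * s * (c⁻¹ * g * c)⁻¹ = c⁻¹ * (g * (c * s * c⁻¹) * g⁻¹) * c := by group
        rw [this]; exact h2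
      have hle : Subgroup.closure {h : G | h ∈ Subgroup.normalizer (Q : Set G) ∧
          ∃ k : ℕ, orderOf h = p ^ k} ≤
          (Subgroup.closure {h : G | h ∈ Subgroup.normalizer (R : Set G) ∧
            ∃ k : ℕ, orderOf h = p ^ k}).comap (MulAut.conj c).toMonoidHom := by
        rw [Subgroup.closure_le]
        rintro h ⟨hh, k, hk⟩
        apply Subgroup.subset_closure
        refine ⟨?_, k, ?_⟩
        · show c * h * c⁻¹ ∈ Subgroup.normalizer (R : Set G)
          rw [Subgroup.mem_normalizer_iff] at hh ⊢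
          intro y
          rw [hRmem, hRmem, hh (c⁻¹ * y * c)]
          have : c⁻¹ * (c * h * c⁻¹ * y * (c * h * c⁻¹)⁻¹) * c = h * (c⁻¹ * y * c) * h⁻¹ := by group
          rw [this]
        · show orderOf (c * h * c⁻¹) = p ^ k
          rw [← hk]
          exact MulEquiv.orderOf_eq (MulAut.conj c) h
      have := hle hg'
      rw [Subgroup.mem_comap] at this
      have e : (MulAut.conj c).toMonoidHom (c⁻¹ * g * c) = g := by
        simp only [MulEquiv.coe_toMonoidHom, MulAut.conj_apply]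
        group
      rw [e] at this
      exact this

end Cfsg.Agent.Lib.helper4
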