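import Mathlib
import Cfsg.Agent.Lib.helper4.FusGen2

set_option autoImplicit false

namespace Cfsg.Agent.Lib.helper4

open Cfsg Cfsg.FusionSystem

/-- The certificate stated in an ambient group into which the group embeds. -/
theorem fus_simple_of_cert2_emb {G : Type*} [Group G] [Finite G] {Ω : Type*} [Group Ω]
    (f : G →* Ω) (hf : Function.Injective f) (p : ℕ) [Fact p.Prime] (n : ℕ)
    (P0 Q0 : Subgroup Ω) (hle : P0 ≤ f.range) (hcard : Nat.card P0 = p ^ n)
    (hfac : (Nat.card G).factorization p = n) (hne : P0 ≠ ⊥) (hQP : Q0 ≤ P0)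
    (hQn : ∀ s ∈ P0, ∀ x ∈ Q0, s * x * s⁻¹ ∈ Q0)
    (hQc : ∀ g : G, (∀ x ∈ Q0, f g * x * (f g)⁻¹ = x) → f g ∈ Q0)
    (hN : ∀ g : G, (∀ s ∈ P0, f g * s * (f g)⁻¹ ∈ P0) →
      f g ∈ Subgroup.closure {h : Ω | h ∈ f.range ∧ h ∈ Subgroup.normalizer (Q0 : Set Ω) ∧
        ∃ k : ℕ, orderOf h = p ^ k})
    (hT : ∀ T : Subgroup Ω, T ≤ P0 → T ≠ ⊥ →
      (∀ x ∈ T, ∀ g : G, f g * x * (f g)⁻¹ ∈ P0 → f g * x * (f g)⁻¹ ∈ T) → P0 ≤ T)
    (S : Sylow p G) : (groupFusionSystem (S : Subgroup G)).IsSimple p := by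
  have hPc : Nat.card (P0.comap f) = p ^ (Nat.card G).factorization p := by
    rw [hfac, ← hcard]
    have hsurj : Function.Surjective ((f.subgroupComap P0) : P0.comap f → P0) := by
      rintro ⟨y, hy⟩
      obtain ⟨x, rfl⟩ := hle hy
      exact ⟨⟨x, hy⟩, rfl⟩
    have hinj : Function.Injective ((f.subgroupComap P0) : P0.comap f → P0) := by
      intro a b hab
      apply Subtype.ext
      apply hf
      exact congrArg Subtype.val hab
    exact Nat.card_congr (Equiv.ofBijective _ ⟨hinj, hsurj⟩)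
  let P : Sylow p G := Sylow.ofCard (P0.comap f) hPc
  have hPmem : ∀ x : G, x ∈ (P : Subgroup G) ↔ f x ∈ P0 := fun x => Iff.rfl
  have hlift : ∀ y ∈ P0, ∃ x : G, f x = y := fun y hy => hle hy
  apply fus_simple_of_cert2 p P (Q0.comap f)
  · intro h
    apply hne
    rw [eq_bot_iff]
    intro y hy
    obtain ⟨x, rfl⟩ := hlift y hy
    have hx : x ∈ (P : Subgroup G) := hy
    rw [h, Subgroup.mem_bot] at hx
    rw [hx, map_one]
    exact Subgroup.one_mem _
  · intro x hx
    exact hQP hx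
  · intro s hs x hx
    show f (s * x * s⁻¹) ∈ Q0
    rw [map_mul, map_mul, map_inv]
    exact hQn _ hs _ hx
  · intro g hg
    show f g ∈ Q0
    apply hQc
    intro x hx
    obtain ⟨x', rfl⟩ := hlift x (hQP hx)
    have := hg x' hx
    rw [← map_inv, ← map_mul, ← map_mul, this]
  · intro g hg
    have h1 : f g ∈ Subgroup.closure {h : Ω | h ∈ f.range ∧
        h ∈ Subgroup.normalizer (Q0 : Set Ω) ∧ ∃ k : ℕ, orderOf h = p ^ k} := by
      apply hN
      intro s hs
      obtain ⟨s', rfl⟩ := hlift s hs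
      have := hg s' hs
      rw [← map_inv, ← map_mul, ← map_mul]
      exact this
    have hsub : {h : Ω | h ∈ f.range ∧ h ∈ Subgroup.normalizer (Q0 : Set Ω) ∧
        ∃ k : ℕ, orderOf h = p ^ k} ⊆ Set.range f := fun h hh => hh.1
    have e1 : Subgroup.closure {h : Ω | h ∈ f.range ∧ h ∈ Subgroup.normalizer (Q0 : Set Ω) ∧
        ∃ k : ℕ, orderOf h = p ^ k} = (Subgroup.closure (f ⁻¹' {h : Ω | h ∈ f.range ∧
          h ∈ Subgroup.normalizer (Q0 : Set Ω) ∧ ∃ k : ℕ, orderOf h = p ^ k})).map f := by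
      rw [MonoidHom.map_closure, Set.image_preimage_eq_of_subset hsub]
    rw [e1] at h1
    obtain ⟨g', hg', e⟩ := h1
    have : g' = g := hf e
    rw [this] at hg'
    refine Subgroup.closure_mono ?_ hg'
    rintro h ⟨-, hh, k, hk⟩
    refine ⟨?_, k, ?_⟩
    · rw [Subgroup.mem_normalizer_iff] at hh ⊢
      intro y
      have := hh (f y)
      rw [← map_inv, ← map_mul, ← map_mul] at this
      exact this
    · rw [← hk]
      exact (orderOf_injective f hf h).symm
  · intro T hTP hTne hTfus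
    let T0 : Subgroup Ω := T.map f
    have hT0mem : ∀ x : G, f x ∈ T0 ↔ x ∈ T := by
      intro x
      constructor
      · rintro ⟨x', hx', e⟩
        have : x' = x := hf e
        rw [← this]; exact hx'
      · intro hx
        exact ⟨x, hx, rfl⟩
    have h1 : T0 ≤ P0 := by
      rintro _ ⟨x, hx, rfl⟩
      exact hTP hx
    have h2 : T0 ≠ ⊥ := by
      intro h
      apply hTne
      rw [eq_bot_iff]
      intro x hx
      have : f x ∈ T0 := (hT0mem x).mpr hx
      rw [h, Subgroup.mem_bot] at this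
      rw [Subgroup.mem_bot]
      apply hf
      rw [this, map_one]
    have h3 := hT T0 h1 h2 (by
      rintro _ ⟨x, hx, rfl⟩ g hg
      rw [← map_inv, ← map_mul, ← map_mul] at hg ⊢
      rw [hT0mem]
      exact hTfus x hx g hg)
    intro x hx
    exact (hT0mem x).mp (h3 hx)

end Cfsg.Agent.Lib.helper4
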