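import Mathlib
import Cfsg.Agent.Lib.helper4.FusCert

set_option autoImplicit false

namespace Cfsg.Agent.Lib.helper4

/-- polycyclic generators (top-down) of a Sylow 2-subgroup of the point stabiliser of the dodecad
group -/
def fusG11 : List (List ℕ) := [
  [0,1,9,18,6,17,2,15,3,4,21,5,8,13,11,7,16,14,12,23,22,10,19,20],
  [0,1,2,12,4,19,8,10,6,18,7,11,3,16,20,15,13,17,9,5,14,21,23,22],
  [0,1,12,4,3,14,9,7,8,6,10,23,2,16,5,21,13,22,18,19,20,15,17,11],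
  [0,1,4,12,2,14,9,7,18,6,10,17,3,13,5,15,16,11,8,20,19,21,23,22]]

/-- polycyclic generators (top-down) of a Sylow 2-subgroup of the dodecad group -/
def fusG12 : List (List ℕ) := [13,16,18,6,8,11,2,10,3,4,7,20,9,1,17,15,0,19,12,22,23,21,5,14] ::
  [1,0,4,3,2,19,8,7,6,18,10,17,12,13,20,21,16,11,9,5,14,15,22,23] :: fusG11

/-- the central involution -/
def fusZ11 : List ℕ := [0,1,4,12,2,14,9,7,18,6,10,17,3,13,5,15,16,11,8,20,19,21,23,22]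

/-- base change for the enumeration -/
def fusHh11 : List ℕ := [0,2,8,18,23,6,9,1,21,22,11,20,12,10,3,19,14,5,15,17,4,13,16,7]

/-- cover tables for the normaliser computation -/
def fusCov11 : List (List ℕ) := [
  [0,13,11,3,17,14,18,16,2,8,1,9,12,21,5,15,7,6,4,23,22,10,19,20],
  [0,10,20,3,19,17,9,13,22,6,15,4,12,7,11,16,1,2,23,14,5,21,18,8],
  [0,1,2,3,4,5,6,7,8,9,10,11,12,13,14,15,16,17,18,19,20,21,22,23],
  [0,21,18,3,8,11,14,16,2,5,10,22,12,15,17,13,1,23,4,20,19,7,9,6],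
  [0,2,9,3,17,20,11,15,16,6,18,1,12,4,19,13,10,7,21,5,23,8,22,14],
  [0,22,6,3,17,19,11,10,16,9,5,1,12,23,20,13,15,21,7,18,4,14,2,8],
  [0,10,19,3,20,23,5,15,9,14,13,8,12,16,22,1,21,18,6,17,11,7,4,2],
  [0,6,7,3,13,22,16,21,17,10,9,11,12,8,23,1,15,4,2,20,5,18,19,14]]

def fusSteps11 : List (List ℕ × List ℕ × List ℕ) := [
  ([0], [0,1,18,8,6,10,13,15,4,16,21,5,9,12,7,22,3,20,2,17,11,23,14,19], [0,1,4,3,2,20,18,10,9,8,7,17,12,16,19,15,13,11,6,14,5,21,22,23]),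
  ([1], [0,18,16,8,13,17,6,14,3,4,5,23,1,2,15,10,12,11,9,21,22,20,19,7], [0,1,12,4,3,14,9,7,8,6,10,23,2,16,5,21,13,22,18,19,20,15,17,11]),
  ([1,2], [0,16,3,8,12,23,9,21,4,6,10,14,18,1,22,7,13,5,2,20,19,15,17,11], [0,1,9,18,6,17,2,15,3,4,21,5,8,13,11,7,16,14,12,23,22,10,19,20])]

def fusWords11 : List (List ℕ) := [
  [3],
  [0,1],
  [2],
  [0]]

def fusSteps12 : List (List ℕ × List ℕ × List ℕ) := [
  ([0], [12,13,4,8,2,14,0,7,9,1,23,19,6,16,20,10,3,5,18,17,11,22,21,15], [1,0,4,3,2,19,8,7,6,18,10,17,12,13,20,21,16,11,9,5,14,15,22,23]),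
  ([0], [6,18,12,1,3,11,16,19,4,13,14,21,0,9,17,5,8,15,2,10,7,20,23,22], [1,0,4,12,2,5,6,10,8,9,7,17,3,16,14,21,13,11,18,19,20,15,23,22]),
  ([0], [8,2,0,12,13,7,6,22,16,9,14,19,3,18,21,5,4,20,1,17,11,23,10,15], [13,16,2,12,4,5,9,21,8,6,15,17,3,0,14,10,1,11,18,20,19,7,22,23]),
  ([0], [1,0,4,2,3,21,13,10,9,16,7,23,12,8,15,19,18,11,6,5,14,20,22,17], [0,1,12,4,3,14,9,7,8,6,10,23,2,16,5,21,13,22,18,19,20,15,17,11]),
  ([0,1,3,4], [4,16,18,1,0,23,2,15,3,8,20,7,12,9,11,10,13,5,6,19,14,22,21,17], [1,0,6,8,9,17,2,21,3,4,15,14,18,16,11,10,13,5,12,23,22,7,20,19])]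

def fusWords12 : List (List ℕ) := [
  [5,4,3],
  [1],
  [5,2],
  [1,2],
  [4],
  [0]]

end Cfsg.Agent.Lib.helper4
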