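import Mathlib
import Cfsg.Agent.Lib.helper4.FusCert

set_option autoImplicit false

namespace Cfsg.Agent.Lib.helper4

/-- polycyclic generators (top-down) of a Sylow 2-subgroup of the two-point stabiliser -/
def fusG22 : List (List ℕ) := [
  [0,7,19,12,22,8,1,21,13,11,14,9,10,20,3,18,16,17,4,2,5,6,15,23],
  [0,2,13,20,22,19,12,10,3,9,6,11,7,16,8,18,1,5,15,21,14,17,4,23],
  [0,10,13,6,22,3,17,2,19,11,20,9,7,14,8,18,5,1,4,21,16,12,15,23],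
  [0,12,20,13,22,14,2,16,17,9,21,11,5,10,1,18,8,7,15,6,19,3,4,23],
  [0,3,7,5,22,10,17,19,2,9,1,11,13,14,21,18,6,20,15,8,16,12,4,23],
  [0,19,1,7,18,2,12,10,3,9,8,11,20,17,6,22,13,21,4,5,14,16,15,23],
  [0,5,19,10,4,1,20,8,7,9,3,11,14,21,12,15,17,16,18,2,6,13,22,23]]

/-- the central involution -/
def fusZ22 : List ℕ := [0,5,19,10,4,1,20,8,7,9,3,11,14,21,12,15,17,16,18,2,6,13,22,23]

/-- cover tables for the normaliser computation -/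
def fusCov22 : List (List ℕ) := [
  [0,6,3,13,9,20,16,7,8,18,21,15,12,2,14,23,1,5,4,10,17,19,22,11],
  [0,18,20,13,17,22,11,8,1,10,6,16,12,7,14,3,2,19,15,21,9,5,23,4],
  [0,22,2,17,1,4,18,20,7,13,19,5,12,6,14,21,3,10,23,16,15,8,11,9],
  [0,19,13,10,15,2,7,20,6,9,3,23,12,16,14,18,5,1,22,21,8,17,4,11],
  [0,4,16,5,2,23,11,8,3,13,17,19,12,7,14,21,6,20,22,1,18,10,15,9],
  [0,22,19,1,17,23,11,20,3,21,2,16,12,6,14,13,7,8,4,5,15,10,18,9],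
  [0,1,17,16,3,19,2,11,23,10,13,6,12,22,14,20,8,7,9,21,5,15,18,4],
  [0,6,13,5,15,20,8,2,19,4,1,22,12,17,14,18,10,3,23,21,7,16,9,11],
  [0,9,17,7,10,23,4,20,2,5,16,3,12,6,14,1,13,21,18,8,22,19,11,15],
  [0,1,2,3,4,5,6,7,8,9,10,11,12,13,14,15,16,17,18,19,20,21,22,23],
  [0,1,8,13,4,5,20,19,2,15,21,11,12,3,14,9,17,16,23,7,6,10,22,18],
  [0,11,20,21,1,22,18,10,17,8,6,5,12,3,14,7,19,2,15,13,9,16,4,23],
  [0,11,8,10,13,18,23,5,17,19,7,21,12,1,14,2,20,6,9,3,4,16,15,22],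
  [0,4,20,19,5,22,23,7,16,3,6,1,12,8,14,10,21,13,15,2,9,17,11,18]]

/-- fusion steps inside the two-point stabiliser -/
def fusSteps22 : List (List ℕ × List ℕ × List ℕ) := [
  ([0], [0,17,14,10,13,19,16,18,15,5,3,21,7,4,20,1,8,6,9,12,2,22,11,23], [0,1,16,10,22,5,8,20,6,9,3,11,14,13,12,18,2,19,15,17,7,21,4,23]),
  ([0], [0,20,17,8,22,21,19,14,2,15,5,4,7,13,1,11,3,16,18,10,12,6,9,23], [0,7,14,16,4,8,13,1,5,9,17,11,19,6,2,15,3,10,18,12,21,20,22,23]),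
  ([2], [0,6,1,22,16,18,3,8,4,2,7,9,12,14,5,19,15,20,17,10,21,13,11,23], [0,5,2,14,18,1,8,20,6,9,12,11,10,21,3,22,16,17,4,19,7,13,15,23]),
  ([2], [0,15,20,9,17,10,6,4,3,22,19,14,8,5,1,16,11,2,18,21,7,13,12,23], [0,20,19,10,15,6,5,13,21,11,3,9,12,7,14,4,16,17,18,2,1,8,22,23]),
  ([2], [0,17,10,14,18,19,2,13,1,4,3,22,7,5,6,15,8,20,11,12,16,21,9,23], [0,19,5,20,4,2,10,12,14,9,6,11,7,17,8,15,21,13,18,1,3,16,22,23])]

def fusWords22 : List (List ℕ) := [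
  [3,4],
  [0,5,1],
  [0,5,4,1],
  [2,5,1],
  [5,1,2],
  [3,5],
  [0]]

end Cfsg.Agent.Lib.helper4
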