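import Mathlib
import Cfsg.Agent.Lib.helper4.FusM22Data
import Cfsg.Agent.Lib.helper4.FusAbs
import Cfsg.Agent.Lib.helper4.OutM22

set_option autoImplicit false

/-! The Sylow 2-subgroup of the two-point stabiliser: self-normalising, and no proper nontrivial
fusion-closed subgroup. -/

namespace Cfsg.Agent.Lib.helper4

open Cfsg Cfsg.Agent.Lib.Helper12.Golay

set_option maxRecDepth 1000000 in
theorem fusPc22 : pcOK fusG22 = true := by decide +kernel

set_option maxRecDepth 1000000 in
theorem fusCenter22 : centerCheck fusG22 fusZ22 = true := by decide +kernel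

set_option maxRecDepth 1000000 in
theorem fusCentral22 : centralCheck fusG22 fusZ22 = true := by decide +kernel

/-- table test for membership in the two-point stabiliser -/
def fusMem22 (c : List ℕ) : Bool := okK c && (c.getD 23 0 == 23) && (c.getD 0 0 == 0)

theorem fusMem22_spec (c : List ℕ) (h : fusMem22 c = true) : ValidT c ∧ fperm c ∈ Cfsg.Spor.M22 := by
  unfold fusMem22 at h
  simp only [Bool.and_eq_true, beq_iff_eq] at h
  exact ⟨okK_valid h.1.1, fperm_mem_M22 h.1.1 h.1.2 h.2⟩

set_option maxRecDepth 1000000 in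
theorem fusGens22_mem : fusG22.all fusMem22 = true := by decide +kernel

set_option maxRecDepth 1000000 in
theorem fusCert22 : certOK fusMem22 (nfList fusG22) fusZ22 fusSteps22 fusG22 fusWords22 = true := by decide +kernel

set_option maxRecDepth 1000000 in
theorem fusCovok22 : fusCov22.all okK = true := by decide +kernel

def fusPred22 (T : List ℕ) : Bool :=
  (T.getD 23 0 == 23) && (T.getD 0 0 == 0) && (T.getD 12 0 == 12) &&
    (compTbl T fusZ22 == compTbl fusZ22 T)

set_option maxRecDepth 1000000 in
theorem fusNcheck22 : normCheck fusCov22 (List.range 24) (invTab (List.range 24)) fusPred22 fusG22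
    (nfList fusG22) = true := by decide +kernel

set_option maxRecDepth 1000000 in
theorem fusTrans22 : ∀ i < 24, fusZ22.getD i 0 = i ∨
    (nfList fusG22).any (fun T => T.getD i 0 == 12) = true := by decide +kernel

set_option maxRecDepth 1000000 in
theorem fusCovfind22 : ∀ y < 24, fusZ22.getD y 0 = y ∨ y = 12 ∨ y = 14 ∨
    fusCov22.any (fun H => (H.getD 0 0 == 0) && (H.getD 12 0 == 12) && (H.getD 14 0 == 14) &&
      (H.getD 16 0 == y) && (H.getD 17 0 == fusZ22.getD y 0)) = true := by decide +kernel

theorem fusZ22_valid : ValidT fusZ22 := by decide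

theorem fusP22_le : tgrp fusG22 ≤ Cfsg.Spor.M22 := by
  unfold tgrp
  rw [Subgroup.closure_le]
  rintro _ ⟨T, hT, rfl⟩
  have := fusGens22_mem
  rw [List.all_eq_true] at this
  exact (fusMem22_spec T (this T hT)).2

theorem okK_range24 : okK (List.range 24) = true := by decide +kernel

theorem pt_ne_of_ne {i j : ℕ} (hi : i < 24) (hj : j < 24) (h : i ≠ j) : pt i ≠ pt j :=
  fun e => h (pt_injOn hi hj e)

/-- pointwise form of commutation with a table permutation -/
theorem comm_apply {g z : Equiv.Perm GolayPt} (h : g * z = z * g) (p : GolayPt) :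
    g (z p) = z (g p) := by
  rw [← Equiv.Perm.mul_apply, h, Equiv.Perm.mul_apply]

theorem fusNorm22 : ∀ g ∈ Cfsg.Spor.M22, (∀ s ∈ tgrp fusG22, g * s * g⁻¹ ∈ tgrp fusG22) →
    g ∈ tgrp fusG22 := by
  apply norm_wlog Cfsg.Spor.M22 (tgrp fusG22) fusP22_le (pt 12) {p | fperm fusZ22 p ≠ p}
  · intro q hq
    have hi := idx_lt q
    have hq' : fperm fusZ22 (pt (idx q)) ≠ pt (idx q) := by rw [pt_idx]; exact hq
    rw [fperm_at fusZ22_valid hi] at hq'
    rcases fusTrans22 (idx q) hi with h | h
    · exact absurd (by rw [h]) hq'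
    · rw [List.any_eq_true] at h
      obtain ⟨T, hT, hT12⟩ := h
      obtain ⟨x, hx, ex⟩ := nf_sound (pcOK_valid fusPc22) T hT
      refine ⟨x, hx, ?_⟩
      rw [beq_iff_eq] at hT12
      rw [← pt_idx q, apply_pt_eq x hi, ex, hT12]
  · intro g _ hn
    have hcomm := conj_z_of_normalizes fusPc22 fusCenter22 fusCentral22 hn
    show fperm fusZ22 (g (pt 12)) ≠ g (pt 12)
    rw [← comm_apply hcomm, fperm_at fusZ22_valid (by norm_num)]
    intro h
    exact absurd (g.injective h) (by decide)
  · intro g hg hn h12
    have hcomm := conj_z_of_normalizes fusPc22 fusCenter22 fusCentral22 hn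
    obtain ⟨hg24, hgn, hg0⟩ := mem_SporM22.mp hg
    have h14 : g (pt 14) = pt 14 := by
      have : pt 14 = fperm fusZ22 (pt 12) := by
        rw [fperm_at fusZ22_valid (by norm_num)]; rfl
      rw [this, comm_apply hcomm, h12]
    have h17 : g (pt 17) = fperm fusZ22 (g (pt 16)) := by
      have : pt 17 = fperm fusZ22 (pt 16) := by
        rw [fperm_at fusZ22_valid (by norm_num)]; rfl
      rw [this, comm_apply hcomm]
    have hy := tblOf_getD_lt g 16
    have h16 : g (pt 16) = pt ((tblOf g).getD 16 0) := apply_pt_eq g (by norm_num)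
    set y := (tblOf g).getD 16 0 with hydef
    apply norm_of_check fusPc22 okK_range24 (by
      intro H hH
      have := fusCovok22
      rw [List.all_eq_true] at this
      exact this H hH) fusNcheck22 hg24 hn
    · unfold fusPred22
      obtain ⟨t23, t0⟩ := tblOf_M22 hg
      simp only [Bool.and_eq_true, beq_iff_eq]
      refine ⟨⟨⟨t23, t0⟩, ?_⟩, ?_⟩
      · rw [tblOf_getD g (by norm_num), h12, idx_pt (by norm_num)]
      · have e := congrArg tblOf hcomm
        rwa [tblOf_mul, tblOf_mul, tblOf_fperm fusZ22_valid] at e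
    · have hzy : fusZ22.getD y 0 ≠ y := by
        intro h
        have h1 : fperm fusZ22 (g (pt 16)) = g (pt 16) := by
          rw [h16, fperm_at fusZ22_valid hy, h]
        rw [← h17] at h1
        exact absurd (g.injective h1) (by decide)
      have hy12 : y ≠ 12 := by
        intro h
        rw [h, ← h12] at h16
        exact absurd (g.injective h16) (by decide)
      have hy14 : y ≠ 14 := by
        intro h
        rw [h, ← h14] at h16
        exact absurd (g.injective h16) (by decide)
      rcases fusCovfind22 y hy with h | h | h | h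
      · exact absurd h hzy
      · exact absurd h hy12
      · exact absurd h hy14
      · rw [List.any_eq_true] at h
        obtain ⟨H, hH, hHc⟩ := h
        simp only [Bool.and_eq_true, beq_iff_eq] at hHc
        obtain ⟨⟨⟨⟨e0, e12⟩, e14⟩, e16⟩, e17⟩ := hHc
        refine ⟨H, hH, ?_⟩
        intro j hj
        interval_cases j
        · show g (pt 0) = pt (H.getD 0 0)
          rw [e0, pt_0, hg0]
        · show g (pt 12) = pt (H.getD 12 0)
          rw [e12, h12]
        · show g (pt 14) = pt (H.getD 14 0)
          rw [e14, h14]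
        · show g (pt 16) = pt (H.getD 16 0)
          rw [e16, h16]
        · show g (pt 17) = pt (H.getD 17 0)
          rw [e17, h17, h16, fperm_at fusZ22_valid hy]

/-- no proper nontrivial fusion-closed subgroup, for any group between the two-point stabiliser
and the group of the code -/
theorem fusClosed22 (Hgrp : Subgroup (Equiv.Perm GolayPt)) (hH : Cfsg.Spor.M22 ≤ Hgrp)
    (T : Subgroup (Equiv.Perm GolayPt)) (hT : T ≤ tgrp fusG22) (hne : T ≠ ⊥)
    (hfus : ∀ x ∈ T, ∀ g ∈ Hgrp, g * x * g⁻¹ ∈ tgrp fusG22 → g * x * g⁻¹ ∈ T) :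
    tgrp fusG22 ≤ T := by
  have hz : fperm fusZ22 ∈ T := by
    apply z_mem_of_normal fusPc22 fusCenter22 T hT hne
    intro x hx s hs
    exact hfus x hx s (hH (fusP22_le hs)) ((tgrp fusG22).mul_mem ((tgrp fusG22).mul_mem hs (hT hx))
      ((tgrp fusG22).inv_mem hs))
  apply le_of_certOK (Hgrp := Cfsg.Spor.M22) fusMem22_spec fusPc22 fusCert22 T
    ⟨_, hz, tblOf_fperm fusZ22_valid⟩
  intro x hx g hg
  exact hfus x hx g (hH hg)

theorem fusP22_ne_bot : tgrp fusG22 ≠ ⊥ := by
  intro h
  obtain ⟨hz, hz1, -⟩ := central_of_check fusPc22 fusCentral22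
  rw [h, Subgroup.mem_bot] at hz
  exact hz1 hz

end Cfsg.Agent.Lib.helper4
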