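import Mathlib
import Cfsg.Prelude.Def_Sporadic_a
import Cfsg.Prelude.Def_Spor_Mathieu
import Cfsg.Prelude.Def_KGroupFacts
import Cfsg.Agent.Lib.helper4.OutM12

set_option autoImplicit false

namespace Cfsg.Agent.Lib.helper4

open Cfsg
open scoped Pointwise
open Cfsg.Agent.Lib.Helper12.Golay

/-! ### The outer automorphism group of the stabiliser of the dodecad of squares and `0` -/

theorem mem_SporM11 {g : Equiv.Perm GolayPt} :
    g ∈ Cfsg.Spor.M11 ↔ g ∈ Cfsg.Spor.M12 ∧ g (some 0) = some 0 := by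
  unfold Cfsg.Spor.M11
  rw [Subgroup.mem_inf, MulAction.mem_stabilizer_iff]
  exact Iff.rfl

theorem fperm_mem_M11 {L : List ℕ} (hok : okK L = true) (h : actK L dSq = dSq)
    (h0 : L.getD 0 0 = 0) : fperm L ∈ Cfsg.Spor.M11 := by
  rw [mem_SporM11]
  refine ⟨fperm_mem_M12 hok h, ?_⟩
  rw [← pt_0, fperm_at (okK_valid hok) (by norm_num), h0]

theorem M11_le12 : Cfsg.Spor.M11 ≤ Cfsg.Spor.M12 := fun _ hg => (mem_SporM11.mp hg).1

theorem M11_le : Cfsg.Spor.M11 ≤ M24 := fun _ hg => M12_le (M11_le12 hg)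

theorem hu11 : fperm tU24 ∈ Cfsg.Spor.M11 :=
  fperm_mem_M11 out24_basic.2.1 out12_basic.2.2.2.2.1 out12_basic.2.2.2.2.2.2.2.2.2.2.2.1

theorem hc11 : fperm tC24 ∈ Cfsg.Spor.M11 :=
  fperm_mem_M11 out24_basic.2.2.2.1 out12_basic.2.2.2.2.2.1
    out12_basic.2.2.2.2.2.2.2.2.2.2.2.2.1

theorem hX11 : fperm X11 ∈ Cfsg.Spor.M11 :=
  fperm_mem_M11 out12_basic.2.1 out12_basic.2.2.2.2.2.2.2.1 out12_basic.2.2.2.2.2.2.2.2.2.2.1

theorem hw11 : fperm tW24 ∉ Cfsg.Spor.M11 := fun h => hw12 (M11_le12 h)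

theorem tblOf_zero_M11 {g : Equiv.Perm GolayPt} (hg : g ∈ Cfsg.Spor.M11) :
    (tblOf g).getD 0 0 = 0 := by
  rw [tblOf_getD g (by norm_num), pt_0, (mem_SporM11.mp hg).2]
  rfl

theorem card_SporM11 : Nat.card ↥Cfsg.Spor.M11 = 7920 := by
  have h : (MulAction.stabilizer ↥M24 Cfsg.Spor.squareDodecad ⊓
      MulAction.stabilizer ↥M24 (some 0 : GolayPt)).map M24.subtype = Cfsg.Spor.M11 := by
    ext x
    rw [Subgroup.mem_map]
    unfold Cfsg.Spor.M11 Cfsg.Spor.M12
    constructor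
    · rintro ⟨y, hy, rfl⟩
      obtain ⟨hy1, hy2⟩ := Subgroup.mem_inf.mp hy
      rw [MulAction.mem_stabilizer_iff] at hy1 hy2
      refine Subgroup.mem_inf.mpr ⟨Subgroup.mem_inf.mpr ⟨y.2, ?_⟩, ?_⟩
      · rw [MulAction.mem_stabilizer_iff]
        exact hy1
      · rw [MulAction.mem_stabilizer_iff]
        exact hy2
    · intro hx
      obtain ⟨h12, h3⟩ := Subgroup.mem_inf.mp hx
      obtain ⟨h1, h2⟩ := Subgroup.mem_inf.mp h12
      rw [MulAction.mem_stabilizer_iff] at h2 h3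
      refine ⟨⟨x, h1⟩, Subgroup.mem_inf.mpr ⟨?_, ?_⟩, rfl⟩
      · rw [MulAction.mem_stabilizer_iff]
        exact h2
      · rw [MulAction.mem_stabilizer_iff]
        exact h3
  have h0 : (some 0 : GolayPt) ∈ Cfsg.Spor.squareDodecad := by
    rw [sqDod_eq_fs, mem_fs]
    decide
  rw [← h, Subgroup.card_map_of_injective M24.subtype_injective,
    card_M11 _ sqDod_mem_dodecads _ h0]

theorem factorization_M11_11 : (Nat.card ↥Cfsg.Spor.M11).factorization 11 = 1 := by
  rw [card_SporM11]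
  have h : 7920 = 11 * 720 := by norm_num
  rw [h, Nat.factorization_mul (by norm_num) (by norm_num), Finsupp.add_apply,
    Nat.Prime.factorization_self (by norm_num), Nat.factorization_eq_zero_of_not_dvd (by norm_num)]

theorem gen11 : Cfsg.Spor.M11 ≤ Subgroup.closure {fperm tU24, fperm tC24, fperm X11} := by
  intro g hg
  set H := Subgroup.closure ({fperm tU24, fperm tC24, fperm X11} : Set (Equiv.Perm GolayPt))
    with hH
  have hHle : H ≤ Cfsg.Spor.M11 := by
    rw [hH, Subgroup.closure_le]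
    intro k hk
    rcases hk with rfl | rfl | rfl
    · exact hu11
    · exact hc11
    · exact hX11
  have hacc : ∀ L ∈ [X11, tC24, tU24], RealIn H L := by
    intro L hL
    simp only [List.mem_cons, List.not_mem_nil, or_false] at hL
    rcases hL with rfl | rfl | rfl
    · exact realIn_fperm' H out12_basic.2.1 (Subgroup.subset_closure (by simp))
    · exact realIn_fperm' H out24_basic.2.2.2.1 (Subgroup.subset_closure (by simp))
    · exact realIn_fperm' H out24_basic.2.1 (Subgroup.subset_closure (by simp))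
  have hbase : ∀ j < 4, base11.getD j 0 < 24 := by decide
  have hlevel := level_of_certGen H _ hacc g11Prog 3 g11Pos base11 orb11 0 4 hbase cert11
  have hbit : ∀ i < 24, ((dSq - 1).testBit i = true ↔ dSq.testBit i = true ∧ i ≠ 0) := by decide
  have hmemA : ∀ p : GolayPt, (dSq - 1).testBit (Cfsg.Agent.Lib.helper3.gidx p) = true ↔
      p ∈ fs dSq ∧ p ≠ some 0 := by
    intro p
    rw [gidx_eq_idx_all, hbit _ (idx_lt p), mem_fs]
    constructor
    · rintro ⟨h1, h2⟩
      refine ⟨h1, fun h => h2 ?_⟩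
      rw [h]
      rfl
    · rintro ⟨h1, h2⟩
      refine ⟨h1, fun h => h2 ?_⟩
      rw [← pt_idx p, h, pt_0]
  have hA : ∀ k ∈ H, ∀ p, (dSq - 1).testBit (Cfsg.Agent.Lib.helper3.gidx p) = true →
      (dSq - 1).testBit (Cfsg.Agent.Lib.helper3.gidx (k p)) = true := by
    intro k hk p hp
    rw [hmemA] at hp ⊢
    have hk11 := hHle hk
    refine ⟨smul_mem_sqDod (M11_le12 hk11) hp.1, fun h => hp.2 ?_⟩
    apply k.injective
    rw [h, (mem_SporM11.mp hk11).2]
  have hginv : g⁻¹ ∈ Cfsg.Spor.M11 := Cfsg.Spor.M11.inv_mem hg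
  have hbmem : ∀ j < 4, Cfsg.Agent.Lib.helper3.gpt (base11.getD j 0) ∈ fs dSq ∧
      Cfsg.Agent.Lib.helper3.gpt (base11.getD j 0) ≠ some 0 := by decide
  have hbinj : ∀ j < 4, ∀ k < 4, Cfsg.Agent.Lib.helper3.gpt (base11.getD j 0) =
      Cfsg.Agent.Lib.helper3.gpt (base11.getD k 0) → j = k := by decide
  obtain ⟨h, hh, hhx⟩ := reach_gen H (dSq - 1) hA base11 orb11 4
    (fun i hi q hq ho => hlevel i hi (Nat.zero_le i) q hq ho) horb11' hbase 4 le_rfl
    (fun j => g⁻¹ (Cfsg.Agent.Lib.helper3.gpt (base11.getD j 0))) (by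
      intro j hj
      rw [hmemA]
      obtain ⟨h1, h2⟩ := hbmem j hj
      refine ⟨smul_mem_sqDod (M11_le12 hginv) h1, fun h => h2 ?_⟩
      apply g⁻¹.injective
      rw [h, (mem_SporM11.mp hginv).2]) (by
      intro j hj k hk hjk
      exact hbinj j hj k hk (g⁻¹.injective hjk))
  have hh11 := hHle hh
  rw [eq_of_agree5 (M11_le12 hg) (M11_le12 hh11) (by
    intro j hj
    rcases Nat.eq_zero_or_pos j with rfl | hpos
    · have e : Cfsg.Agent.Lib.helper3.gpt (base12.getD 0 0) = some 0 := by decide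
      rw [e, (mem_SporM11.mp hginv).2, (mem_SporM11.mp hh11).2]
    · have e : base12.getD j 0 = base11.getD (j - 1) 0 := by
        have : j = 1 ∨ j = 2 ∨ j = 3 ∨ j = 4 := by omega
        rcases this with rfl | rfl | rfl | rfl <;> rfl
      rw [e]
      exact hhx (j - 1) (by omega))]
  exact hh

/-- **The outer automorphism group of the stabiliser of the dodecad of squares and `0` is
trivial.** -/
theorem out11_card : Nat.card (Cfsg.Out ↥Cfsg.Spor.M11) = 1 := by
  apply out_card_one_of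
  intro α
  exact aut_of_survCheck M11_le hu11 hc11 hw11 factorization_M11_11
    (fun g hg _ => Or.inl (tblOf_zero_M11 hg)) inG11 (by
      intro g hg
      unfold inG11
      rw [(mem_SporM12.mp (M11_le12 hg)).2, tblOf_zero_M11 hg]
      rfl) X11 out12_basic.2.1 hX11 2 out12_basic.2.2.2.1 _ 1 surv11 gen11 α

end Cfsg.Agent.Lib.helper4
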