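import Mathlib
import Cfsg.Agent.Lib.helper4.FusM12Data
import Cfsg.Agent.Lib.helper4.FusAbs
import Cfsg.Agent.Lib.helper4.FusM22
import Cfsg.Agent.Lib.helper4.OutM11

set_option autoImplicit false

/-! The Sylow 2-subgroup of the smallest Mathieu group: self-normalising, and no proper nontrivial
fusion-closed subgroup. -/

namespace Cfsg.Agent.Lib.helper4

open Cfsg Cfsg.Agent.Lib.Helper12.Golay

set_option maxRecDepth 1000000 in
theorem fusPc11 : pcOK fusG11 = true := by decide +kernel

set_option maxRecDepth 1000000 in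
theorem fusCenter11 : centerCheck fusG11 fusZ11 = true := by decide +kernel

set_option maxRecDepth 1000000 in
theorem fusCentral11 : centralCheck fusG11 fusZ11 = true := by decide +kernel

/-- table test for membership in the dodecad group -/
def fusMem12 (c : List ℕ) : Bool := okK c && (actK c dSq == dSq)

/-- table test for membership in the point stabiliser of the dodecad group -/
def fusMem11 (c : List ℕ) : Bool := okK c && (actK c dSq == dSq) && (c.getD 0 0 == 0)

theorem fusMem12_spec (c : List ℕ) (h : fusMem12 c = true) :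
    ValidT c ∧ fperm c ∈ Cfsg.Spor.M12 := by
  unfold fusMem12 at h
  simp only [Bool.and_eq_true, beq_iff_eq] at h
  exact ⟨okK_valid h.1, fperm_mem_M12 h.1 h.2⟩

theorem fusMem11_spec (c : List ℕ) (h : fusMem11 c = true) :
    ValidT c ∧ fperm c ∈ Cfsg.Spor.M11 := by
  unfold fusMem11 at h
  simp only [Bool.and_eq_true, beq_iff_eq] at h
  exact ⟨okK_valid h.1.1, fperm_mem_M11 h.1.1 h.1.2 h.2⟩

set_option maxRecDepth 1000000 in
theorem fusGens11_mem : fusG11.all fusMem11 = true := by decide +kernel

set_option maxRecDepth 1000000 in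
theorem fusCert11 : certOK fusMem11 (nfList fusG11) fusZ11 fusSteps11 fusG11 fusWords11 = true := by
  decide +kernel

set_option maxRecDepth 1000000 in
theorem fusCovok11 : fusCov11.all okK = true ∧ okK fusHh11 = true := by decide +kernel

def fusPred11 (T : List ℕ) : Bool :=
  (T.getD 0 0 == 0) && (T.getD 12 0 == 12) && (actK T dSq == dSq) &&
    (compTbl T fusZ11 == compTbl fusZ11 T)

set_option maxRecDepth 1000000 in
theorem fusNcheck11 : normCheck fusCov11 fusHh11 (invTab fusHh11) fusPred11 fusG11
    (nfList fusG11) = true := by decide +kernel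

set_option maxRecDepth 1000000 in
theorem fusTrans11 : ∀ i < 24, fusZ11.getD i 0 = i ∨ dSq.testBit i = false ∨
    (nfList fusG11).any (fun T => T.getD i 0 == 12) = true := by decide +kernel

set_option maxRecDepth 1000000 in
theorem fusCovfind11 : ∀ y < 24, fusZ11.getD y 0 = y ∨ dSq.testBit y = true ∨
    fusCov11.any (fun H => (H.getD 0 0 == 0) && (H.getD 12 0 == 12) && (H.getD 3 0 == 3) &&
      (H.getD 14 0 == y) && (H.getD 5 0 == fusZ11.getD y 0)) = true := by decide +kernel

theorem fusHh11_base : ∀ j < 5, fusHh11.getD (b5 j) 0 = [0, 12, 3, 14, 5].getD j 0 := by decide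

theorem fusZ11_valid : ValidT fusZ11 := by decide

theorem fusP11_le : tgrp fusG11 ≤ Cfsg.Spor.M11 := by
  unfold tgrp
  rw [Subgroup.closure_le]
  rintro _ ⟨T, hT, rfl⟩
  have := fusGens11_mem
  rw [List.all_eq_true] at this
  exact (fusMem11_spec T (this T hT)).2

/-- elements of the dodecad group preserve the dodecad, on tables -/
theorem fusD_iff {g : Equiv.Perm GolayPt} (hg : g ∈ Cfsg.Spor.M12) {j : ℕ} (hj : j < 24) :
    dSq.testBit ((tblOf g).getD j 0) = dSq.testBit j := by
  have h := (mem_SporM12.mp hg).2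
  rw [actK_eq] at h
  have h1 := testBit_actT (tblOf g) dSq j
  rw [h, dif_pos (by rw [tblOf_length]; exact hj)] at h1
  rw [List.getD_eq_getElem _ _ (by rw [tblOf_length]; exact hj)]
  exact h1.symm

theorem fusNorm11 : ∀ g ∈ Cfsg.Spor.M11, (∀ s ∈ tgrp fusG11, g * s * g⁻¹ ∈ tgrp fusG11) →
    g ∈ tgrp fusG11 := by
  apply norm_wlog Cfsg.Spor.M11 (tgrp fusG11) fusP11_le (pt 12)
    {p | fperm fusZ11 p ≠ p ∧ dSq.testBit (idx p) = true}
  · rintro q ⟨hq, hqD⟩
    have hi := idx_lt q
    have hq' : fperm fusZ11 (pt (idx q)) ≠ pt (idx q) := by rw [pt_idx]; exact hq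
    rw [fperm_at fusZ11_valid hi] at hq'
    rcases fusTrans11 (idx q) hi with h | h | h
    · exact absurd (by rw [h]) hq'
    · rw [h] at hqD; exact absurd hqD (by decide)
    · rw [List.any_eq_true] at h
      obtain ⟨T, hT, hT12⟩ := h
      obtain ⟨x, hx, ex⟩ := nf_sound (pcOK_valid fusPc11) T hT
      refine ⟨x, hx, ?_⟩
      rw [beq_iff_eq] at hT12
      rw [← pt_idx q, apply_pt_eq x hi, ex, hT12]
  · intro g hg hn
    have hcomm := conj_z_of_normalizes fusPc11 fusCenter11 fusCentral11 hn
    refine ⟨?_, ?_⟩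
    · rw [← comm_apply hcomm, fperm_at fusZ11_valid (by norm_num)]
      intro h
      exact absurd (g.injective h) (by decide)
    · rw [← tblOf_getD g (by norm_num), fusD_iff (M11_le12 hg) (by norm_num)]
      decide
  · intro g hg hn h12
    have hcomm := conj_z_of_normalizes fusPc11 fusCenter11 fusCentral11 hn
    obtain ⟨hg12, hg0⟩ := mem_SporM11.mp hg
    obtain ⟨hg24, hgD⟩ := mem_SporM12.mp hg12
    have h3 : g (pt 3) = pt 3 := by
      have : pt 3 = fperm fusZ11 (pt 12) := by
        rw [fperm_at fusZ11_valid (by norm_num)]; rfl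
      rw [this, comm_apply hcomm, h12]
    have h5 : g (pt 5) = fperm fusZ11 (g (pt 14)) := by
      have : pt 5 = fperm fusZ11 (pt 14) := by
        rw [fperm_at fusZ11_valid (by norm_num)]; rfl
      rw [this, comm_apply hcomm]
    have hy := tblOf_getD_lt g 14
    have h14 : g (pt 14) = pt ((tblOf g).getD 14 0) := apply_pt_eq g (by norm_num)
    have hyD : dSq.testBit ((tblOf g).getD 14 0) = false := by
      rw [fusD_iff hg12 (by norm_num)]; decide
    set y := (tblOf g).getD 14 0 with hydef
    apply norm_of_check fusPc11 fusCovok11.2 (by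
      intro H hH
      have := fusCovok11.1
      rw [List.all_eq_true] at this
      exact this H hH) fusNcheck11 hg24 hn
    · unfold fusPred11
      simp only [Bool.and_eq_true, beq_iff_eq]
      refine ⟨⟨⟨?_, ?_⟩, hgD⟩, ?_⟩
      · rw [tblOf_getD g (by norm_num), pt_0, hg0]; rfl
      · rw [tblOf_getD g (by norm_num), h12, idx_pt (by norm_num)]
      · have e := congrArg tblOf hcomm
        rwa [tblOf_mul, tblOf_mul, tblOf_fperm fusZ11_valid] at e
    · have hzy : fusZ11.getD y 0 ≠ y := by
        intro h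
        have h1 : fperm fusZ11 (g (pt 14)) = g (pt 14) := by
          rw [h14, fperm_at fusZ11_valid hy, h]
        rw [← h5] at h1
        exact absurd (g.injective h1) (by decide)
      rcases fusCovfind11 y hy with h | h | h
      · exact absurd h hzy
      · rw [hyD] at h; exact absurd h (by decide)
      · rw [List.any_eq_true] at h
        obtain ⟨H, hH, hHc⟩ := h
        simp only [Bool.and_eq_true, beq_iff_eq] at hHc
        obtain ⟨⟨⟨⟨e0, e12⟩, e3⟩, e14⟩, e5⟩ := hHc
        refine ⟨H, hH, ?_⟩
        intro j hj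
        rw [fusHh11_base j hj]
        interval_cases j
        · show g (pt 0) = pt (H.getD 0 0)
          rw [e0, pt_0, hg0]
        · show g (pt 12) = pt (H.getD 12 0)
          rw [e12, h12]
        · show g (pt 3) = pt (H.getD 3 0)
          rw [e3, h3]
        · show g (pt 14) = pt (H.getD 14 0)
          rw [e14, h14]
        · show g (pt 5) = pt (H.getD 5 0)
          rw [e5, h5, h14, fperm_at fusZ11_valid hy]

/-- no proper nontrivial fusion-closed subgroup -/
theorem fusClosed11 (T : Subgroup (Equiv.Perm GolayPt)) (hT : T ≤ tgrp fusG11) (hne : T ≠ ⊥)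
    (hfus : ∀ x ∈ T, ∀ g ∈ Cfsg.Spor.M11, g * x * g⁻¹ ∈ tgrp fusG11 → g * x * g⁻¹ ∈ T) :
    tgrp fusG11 ≤ T := by
  have hz : fperm fusZ11 ∈ T := by
    apply z_mem_of_normal fusPc11 fusCenter11 T hT hne
    intro x hx s hs
    exact hfus x hx s (fusP11_le hs) ((tgrp fusG11).mul_mem ((tgrp fusG11).mul_mem hs (hT hx))
      ((tgrp fusG11).inv_mem hs))
  exact le_of_certOK (Hgrp := Cfsg.Spor.M11) fusMem11_spec fusPc11 fusCert11 T
    ⟨_, hz, tblOf_fperm fusZ11_valid⟩ hfus

theorem fusP11_ne_bot : tgrp fusG11 ≠ ⊥ := by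
  intro h
  obtain ⟨hz, hz1, -⟩ := central_of_check fusPc11 fusCentral11
  rw [h, Subgroup.mem_bot] at hz
  exact hz1 hz

end Cfsg.Agent.Lib.helper4
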