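import Mathlib
import Cfsg.Agent.Lib.helper4.FusM11

set_option autoImplicit false

/-! The Sylow 2-subgroup of the dodecad group. -/

namespace Cfsg.Agent.Lib.helper4

open Cfsg Cfsg.Agent.Lib.Helper12.Golay

set_option maxRecDepth 1000000 in
theorem fusPc12 : pcOK fusG12 = true := by decide +kernel

set_option maxRecDepth 1000000 in
theorem fusCenter12 : centerCheck fusG12 fusZ11 = true := by decide +kernel

set_option maxRecDepth 1000000 in
theorem fusCentral12 : centralCheck fusG12 fusZ11 = true := by decide +kernel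

set_option maxRecDepth 1000000 in
theorem fusGens12_mem : (fusG12.take 2).all fusMem12 = true := by decide +kernel

set_option maxRecDepth 1000000 in
theorem fusCert12 : certOK fusMem12 (nfList fusG12) fusZ11 fusSteps12 fusG12 fusWords12 = true := by
  decide +kernel

set_option maxRecDepth 1000000 in
theorem fusTrans12 : ∀ i < 24, fusZ11.getD i 0 ≠ i ∨ dSq.testBit i = false ∨
    (nfList fusG12).any (fun T => T.getD i 0 == 0) = true := by decide +kernel

set_option maxRecDepth 1000000 in
theorem fusStab12 : (nfList fusG12).all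
    (fun T => (T.getD 0 0 != 0) || (nfList fusG11).contains T) = true := by decide +kernel

theorem fusP11_le12 : tgrp fusG11 ≤ tgrp fusG12 := by
  unfold fusG12
  exact tgrp_mono.trans tgrp_mono

theorem fusP12_le : tgrp fusG12 ≤ Cfsg.Spor.M12 := by
  unfold tgrp
  rw [Subgroup.closure_le]
  rintro _ ⟨T, hT, rfl⟩
  unfold fusG12 at hT
  have h3 := fusGens12_mem
  unfold fusG12 at h3
  simp only [List.take_succ_cons, List.take_zero, List.all_cons, List.all_nil, Bool.and_true,
    Bool.and_eq_true] at h3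
  rcases List.mem_cons.mp hT with rfl | hT
  · exact (fusMem12_spec _ h3.1).2
  rcases List.mem_cons.mp hT with rfl | hT
  · exact (fusMem12_spec _ h3.2).2
  · exact M11_le12 (fusP11_le (fperm_mem_tgrp hT))

theorem fusNorm12 : ∀ g ∈ Cfsg.Spor.M12, (∀ s ∈ tgrp fusG12, g * s * g⁻¹ ∈ tgrp fusG12) →
    g ∈ tgrp fusG12 := by
  apply norm_wlog Cfsg.Spor.M12 (tgrp fusG12) fusP12_le (pt 0)
    {p | fperm fusZ11 p = p ∧ dSq.testBit (idx p) = true}
  · rintro q ⟨hq, hqD⟩
    have hi := idx_lt q
    have hq' : fperm fusZ11 (pt (idx q)) = pt (idx q) := by rw [pt_idx]; exact hq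
    rw [fperm_at fusZ11_valid hi] at hq'
    have hq'' := pt_injOn (getD_lt_of_valid fusZ11_valid.2.1 _) hi hq'
    rcases fusTrans12 (idx q) hi with h | h | h
    · exact absurd hq'' h
    · rw [h] at hqD; exact absurd hqD (by decide)
    · rw [List.any_eq_true] at h
      obtain ⟨T, hT, hT0⟩ := h
      obtain ⟨x, hx, ex⟩ := nf_sound (pcOK_valid fusPc12) T hT
      refine ⟨x, hx, ?_⟩
      rw [beq_iff_eq] at hT0
      rw [← pt_idx q, apply_pt_eq x hi, ex, hT0]
  · intro g hg hn
    have hcomm := conj_z_of_normalizes fusPc12 fusCenter12 fusCentral12 hn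
    refine ⟨?_, ?_⟩
    · rw [← comm_apply hcomm, fperm_at fusZ11_valid (by norm_num)]
      rfl
    · rw [← tblOf_getD g (by norm_num), fusD_iff hg (by norm_num)]
      decide
  · intro g hg hn h0
    apply fusP11_le12
    apply fusNorm11 g (mem_SporM11.mpr ⟨hg, by rw [← pt_0]; exact h0⟩)
    intro s hs
    have h1 := hn s (fusP11_le12 hs)
    have h2 := nf_complete fusPc12 _ h1
    have h3 := fusStab12
    rw [List.all_eq_true] at h3
    have h4 := h3 _ h2
    have hs0 : s (pt 0) = pt 0 := by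
      rw [pt_0]; exact (mem_SporM11.mp (fusP11_le hs)).2
    have h5 : (tblOf (g * s * g⁻¹)).getD 0 0 = 0 := by
      rw [tblOf_getD _ (by norm_num)]
      have : (g * s * g⁻¹) (pt 0) = pt 0 := by
        rw [Equiv.Perm.mul_apply, Equiv.Perm.mul_apply]
        have e : g⁻¹ (pt 0) = pt 0 := by
          rw [Equiv.Perm.inv_eq_iff_eq, h0]
        rw [e, hs0, h0]
      rw [this, idx_pt (by norm_num)]
    rw [h5] at h4
    simp only [bne_self_eq_false, Bool.false_or, List.contains_iff_mem] at h4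
    exact (mem_tgrp_iff fusPc11 _).mpr h4

theorem fusClosed12 (T : Subgroup (Equiv.Perm GolayPt)) (hT : T ≤ tgrp fusG12) (hne : T ≠ ⊥)
    (hfus : ∀ x ∈ T, ∀ g ∈ Cfsg.Spor.M12, g * x * g⁻¹ ∈ tgrp fusG12 → g * x * g⁻¹ ∈ T) :
    tgrp fusG12 ≤ T := by
  have hz : fperm fusZ11 ∈ T := by
    apply z_mem_of_normal fusPc12 fusCenter12 T hT hne
    intro x hx s hs
    exact hfus x hx s (fusP12_le hs) ((tgrp fusG12).mul_mem ((tgrp fusG12).mul_mem hs (hT hx))
      ((tgrp fusG12).inv_mem hs))
  exact le_of_certOK (Hgrp := Cfsg.Spor.M12) fusMem12_spec fusPc12 fusCert12 T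
    ⟨_, hz, tblOf_fperm fusZ11_valid⟩ hfus

theorem fusP12_ne_bot : tgrp fusG12 ≠ ⊥ := by
  intro h
  obtain ⟨hz, hz1, -⟩ := central_of_check fusPc12 fusCentral12
  rw [h, Subgroup.mem_bot] at hz
  exact hz1 hz

end Cfsg.Agent.Lib.helper4
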