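import Mathlib
import Cfsg.Agent.Lib.helper4.FusM22

set_option autoImplicit false

/-! The same `2`-group inside the one-point stabiliser. -/

namespace Cfsg.Agent.Lib.helper4

open Cfsg Cfsg.Agent.Lib.Helper12.Golay

theorem fusMem23 {g : Equiv.Perm GolayPt} : g ∈ Cfsg.Spor.M23 ↔ g ∈ M24 ∧ g none = none := by
  unfold Cfsg.Spor.M23
  constructor
  · intro h
    obtain ⟨h1, h2⟩ := Subgroup.mem_inf.mp h
    exact ⟨h1, MulAction.mem_stabilizer_iff.mp h2⟩
  · rintro ⟨h1, h2⟩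
    exact Subgroup.mem_inf.mpr ⟨h1, MulAction.mem_stabilizer_iff.mpr h2⟩

theorem fusM22_le23 : Cfsg.Spor.M22 ≤ Cfsg.Spor.M23 := by
  unfold Cfsg.Spor.M22
  exact inf_le_left

set_option maxRecDepth 1000000 in
theorem fusFix22 : ∀ i < 24, i = 0 ∨ i = 23 ∨
    fusG22.any (fun T => T.getD i 0 != i) = true := by decide +kernel

theorem fusNorm23 : ∀ g ∈ Cfsg.Spor.M23, (∀ s ∈ tgrp fusG22, g * s * g⁻¹ ∈ tgrp fusG22) →
    g ∈ tgrp fusG22 := by
  intro g hg hn
  apply fusNorm22 g _ hn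
  obtain ⟨hg24, hgn⟩ := fusMem23.mp hg
  rw [mem_SporM22]
  refine ⟨hg24, hgn, ?_⟩
  have hinv := conj_inv_mem_of_conj_mem (tgrp fusG22) hn
  obtain ⟨i, hi⟩ : ∃ i, i = idx (g (pt 0)) := ⟨_, rfl⟩
  have hi24 : i < 24 := by rw [hi]; exact idx_lt _
  have hq : g (pt 0) = pt i := by rw [hi, pt_idx]
  rcases fusFix22 i hi24 with h | h | h
  · rw [← pt_0, hq, h]
  · exfalso
    rw [h, pt_23, ← hgn, ← pt_23] at hq
    exact absurd (g.injective hq) (by decide)
  · exfalso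
    rw [List.any_eq_true] at h
    obtain ⟨T, hT, hTi⟩ := h
    rw [bne_iff_ne] at hTi
    have hvT := pcOK_valid fusPc22 T hT
    have h1 := hinv _ (fperm_mem_tgrp hT)
    have h2 : (g⁻¹ * fperm T * g) (pt 0) = pt 0 := by
      rw [pt_0]; exact (mem_SporM22.mp (fusP22_le h1)).2.2
    have h3 : fperm T (g (pt 0)) = g (pt 0) := by
      have := congrArg g h2
      simpa [Equiv.Perm.mul_apply] using this
    rw [hq, fperm_at hvT hi24] at h3
    exact hTi (pt_injOn (getD_lt_of_valid hvT.2.1 i) hi24 h3)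

end Cfsg.Agent.Lib.helper4
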