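import Mathlib
import Cfsg.Agent.Lib.helper4.FusM22Data

set_option autoImplicit false

namespace Cfsg.Agent.Lib.helper4

/-- polycyclic generators (top-down) of a Sylow 2-subgroup of the group of the code -/
def fusG24 : List (List ℕ) := [18,2,5,7,0,19,12,3,10,4,8,15,6,17,20,23,13,21,9,1,14,16,11,22] ::
  [9,6,16,10,15,20,21,1,5,23,3,0,12,8,14,4,19,2,18,17,13,7,22,11] ::
  [23,2,5,20,15,19,3,14,12,11,6,9,7,16,8,4,21,13,22,1,10,17,18,0] :: fusG22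

/-- fusion steps inside the group of the code -/
def fusSteps24 : List (List ℕ × List ℕ × List ℕ) := [
  ([0], [6,4,14,23,3,9,13,0,18,5,22,19,7,17,8,20,11,15,2,12,21,16,1,10], [18,1,2,3,9,5,6,8,7,4,10,15,14,21,12,11,17,16,0,19,20,13,23,22]),
  ([0], [11,21,10,17,15,14,20,12,13,9,7,4,3,19,5,18,8,16,22,1,2,6,23,0], [0,10,20,5,4,3,19,17,16,9,1,11,13,12,21,15,8,7,18,6,2,14,22,23]),
  ([0], [0,18,13,16,7,4,10,12,14,11,19,23,2,15,17,8,5,21,6,1,3,22,20,9], [0,13,17,10,18,21,6,7,8,9,3,11,14,1,12,22,19,2,4,16,20,5,15,23]),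
  ([2], [6,9,17,19,20,10,7,12,13,22,11,18,3,2,4,23,21,16,1,8,14,15,0,5], [0,1,3,2,15,5,6,8,7,11,19,9,16,21,17,4,12,14,18,10,20,13,22,23])]

def fusWords24 : List (List ℕ) := [
  [1,2,4,2,4,3,2],
  [1,3,1,2,4,2],
  [1,3,4,2,3,1,3,4,3],
  [0,2,3,4,2],
  [4,3,2,4],
  [0,3,2,4],
  [4,3,4,2],
  [2,4,2,3,2,4],
  [2,3,2,4,2,4],
  [0]]

end Cfsg.Agent.Lib.helper4
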