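import Mathlib
import Cfsg.Agent.Lib.helper4.FusM24Data
import Cfsg.Agent.Lib.helper4.FusM23

set_option autoImplicit false

/-! The Sylow 2-subgroup of the group of the length-24 code. -/

namespace Cfsg.Agent.Lib.helper4

open Cfsg Cfsg.Agent.Lib.Helper12.Golay

set_option maxRecDepth 1000000 in
theorem fusPc24 : pcOK fusG24 = true := by decide +kernel

set_option maxRecDepth 1000000 in
theorem fusCenter24 : centerCheck fusG24 fusZ22 = true := by decide +kernel

set_option maxRecDepth 1000000 in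
theorem fusCentral24 : centralCheck fusG24 fusZ22 = true := by decide +kernel

def fusMem24 (c : List ℕ) : Bool := okK c

theorem fusMem24_spec (c : List ℕ) (h : fusMem24 c = true) : ValidT c ∧ fperm c ∈ M24 :=
  ⟨okK_valid h, fperm_mem h⟩

set_option maxRecDepth 1000000 in
theorem fusGens24_mem : (fusG24.take 3).all fusMem24 = true := by decide +kernel

set_option maxRecDepth 1000000 in
theorem fusCert24 : certOK fusMem24 (nfList fusG24) fusZ22 fusSteps24 fusG24 fusWords24 = true := by
  decide +kernel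

set_option maxRecDepth 1000000 in
theorem fusTrans24 : ∀ i < 24, fusZ22.getD i 0 ≠ i ∨
    (nfList fusG24).any (fun T => T.getD i 0 == 23) = true := by decide +kernel

set_option maxRecDepth 1000000 in
theorem fusStab24 : (nfList fusG24).all
    (fun T => (T.getD 23 0 != 23) || (nfList fusG22).contains T) = true := by decide +kernel

theorem fusP22_le24 : tgrp fusG22 ≤ tgrp fusG24 := by
  unfold fusG24
  exact (tgrp_mono.trans tgrp_mono).trans tgrp_mono

theorem fusP24_le : tgrp fusG24 ≤ M24 := by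
  unfold tgrp
  rw [Subgroup.closure_le]
  rintro _ ⟨T, hT, rfl⟩
  unfold fusG24 at hT
  have h3 := fusGens24_mem
  unfold fusG24 at h3
  simp only [List.take_succ_cons, List.take_zero, List.all_cons, List.all_nil, Bool.and_true,
    Bool.and_eq_true] at h3
  rcases List.mem_cons.mp hT with rfl | hT
  · exact (fusMem24_spec _ h3.1).2
  rcases List.mem_cons.mp hT with rfl | hT
  · exact (fusMem24_spec _ h3.2.1).2
  rcases List.mem_cons.mp hT with rfl | hT
  · exact (fusMem24_spec _ h3.2.2).2
  · exact M22_le (fusP22_le (fperm_mem_tgrp hT))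

theorem fusNorm24 : ∀ g ∈ M24, (∀ s ∈ tgrp fusG24, g * s * g⁻¹ ∈ tgrp fusG24) →
    g ∈ tgrp fusG24 := by
  apply norm_wlog M24 (tgrp fusG24) fusP24_le (pt 23) {p | fperm fusZ22 p = p}
  · intro q hq
    have hi := idx_lt q
    have hq' : fperm fusZ22 (pt (idx q)) = pt (idx q) := by rw [pt_idx]; exact hq
    rw [fperm_at fusZ22_valid hi] at hq'
    have hq'' := pt_injOn (getD_lt_of_valid fusZ22_valid.2.1 _) hi hq'
    rcases fusTrans24 (idx q) hi with h | h
    · exact absurd hq'' h
    · rw [List.any_eq_true] at h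
      obtain ⟨T, hT, hT23⟩ := h
      obtain ⟨x, hx, ex⟩ := nf_sound (pcOK_valid fusPc24) T hT
      refine ⟨x, hx, ?_⟩
      rw [beq_iff_eq] at hT23
      rw [← pt_idx q, apply_pt_eq x hi, ex, hT23]
  · intro g _ hn
    have hcomm := conj_z_of_normalizes fusPc24 fusCenter24 fusCentral24 hn
    show fperm fusZ22 (g (pt 23)) = g (pt 23)
    rw [← comm_apply hcomm, fperm_at fusZ22_valid (by norm_num)]
    rfl
  · intro g hg hn h23
    apply fusP22_le24
    apply fusNorm23 g (fusMem23.mpr ⟨hg, by rw [← pt_23]; exact h23⟩)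
    intro s hs
    have h1 := hn s (fusP22_le24 hs)
    have h2 := nf_complete fusPc24 _ h1
    have h3 := fusStab24
    rw [List.all_eq_true] at h3
    have h4 := h3 _ h2
    have hs23 : s (pt 23) = pt 23 := by
      rw [pt_23]; exact (mem_SporM22.mp (fusP22_le hs)).2.1
    have h5 : (tblOf (g * s * g⁻¹)).getD 23 0 = 23 := by
      rw [tblOf_getD _ (by norm_num)]
      have : (g * s * g⁻¹) (pt 23) = pt 23 := by
        rw [Equiv.Perm.mul_apply, Equiv.Perm.mul_apply]
        have e : g⁻¹ (pt 23) = pt 23 := by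
          rw [Equiv.Perm.inv_eq_iff_eq, h23]
        rw [e, hs23, h23]
      rw [this, idx_pt (by norm_num)]
    rw [h5] at h4
    simp only [bne_self_eq_false, Bool.false_or, List.contains_iff_mem] at h4
    exact (mem_tgrp_iff fusPc22 _).mpr h4

theorem fusClosed24 (T : Subgroup (Equiv.Perm GolayPt)) (hT : T ≤ tgrp fusG24) (hne : T ≠ ⊥)
    (hfus : ∀ x ∈ T, ∀ g ∈ M24, g * x * g⁻¹ ∈ tgrp fusG24 → g * x * g⁻¹ ∈ T) :
    tgrp fusG24 ≤ T := by
  have hz : fperm fusZ22 ∈ T := by
    apply z_mem_of_normal fusPc24 fusCenter24 T hT hne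
    intro x hx s hs
    exact hfus x hx s (fusP24_le hs) ((tgrp fusG24).mul_mem ((tgrp fusG24).mul_mem hs (hT hx))
      ((tgrp fusG24).inv_mem hs))
  exact le_of_certOK (Hgrp := M24) fusMem24_spec fusPc24 fusCert24 T
    ⟨_, hz, tblOf_fperm fusZ22_valid⟩ hfus

theorem fusP24_ne_bot : tgrp fusG24 ≠ ⊥ := by
  intro h
  obtain ⟨hz, hz1, -⟩ := central_of_check fusPc24 fusCentral24
  rw [h, Subgroup.mem_bot] at hz
  exact hz1 hz

end Cfsg.Agent.Lib.helper4
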