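import Mathlib
import Cfsg.Prelude.Def_Transfer
import Cfsg.Agent.Lib.Helper5.PGroup

set_option autoImplicit false

/-! The quotient of a `2`-group of order `1024` by its centre of order `2`: centres of maximal
subgroups and abelian subgroups of order `64`, from element-level data. -/

namespace Cfsg.Agent.Lib.helper4

open Subgroup

/-- the three assertions about the quotient -/
def quoProp (S : Type*) [Group S] : Prop :=
  (∀ M : Subgroup S, IsCoatom M → Nat.card ↥(Subgroup.center ↥M) ≤ 8) ∧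
  (∃ A : Subgroup S, Cfsg.IsElementaryAbelian 2 A ∧ Nat.card ↥A = 64) ∧
  ∀ A B : Subgroup S, IsMulCommutative ↥A → Nat.card ↥A = 64 → IsMulCommutative ↥B →
    Nat.card ↥B = 64 → A = B

theorem quoProp_congr {S S' : Type*} [Group S] [Group S'] (e : S ≃* S') (h : quoProp S) :
    quoProp S' := by
  obtain ⟨h1, ⟨A, ⟨hAc, hA2⟩, hA64⟩, h3⟩ := h
  refine ⟨?_, ?_, ?_⟩
  · intro M' hM'
    have hM : IsCoatom (M'.comap e.toMonoidHom) :=
      (OrderIso.isCoatom_iff e.comapSubgroup M').mpr hM'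
    have hmap : (M'.comap e.toMonoidHom).map e.toMonoidHom = M' :=
      Subgroup.map_comap_eq_self_of_surjective e.surjective M'
    let e1 : ↥(M'.comap e.toMonoidHom) ≃* ↥M' :=
      (e.subgroupMap (M'.comap e.toMonoidHom)).trans (MulEquiv.subgroupCongr hmap)
    rw [← Nat.card_congr (Subgroup.centerCongr e1).toEquiv]
    exact h1 _ hM
  · refine ⟨A.map e.toMonoidHom, ⟨?_, ?_⟩, ?_⟩
    · have := hAc
      exact Subgroup.map_isMulCommutative A e.toMonoidHom
    · rintro _ ⟨a, ha, rfl⟩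
      rw [← map_pow, hA2 a ha, map_one]
    · rw [Subgroup.card_map_of_injective e.injective, hA64]
  · intro A' B' hA' hA'c hB' hB'c
    have hA : IsMulCommutative ↥(A'.comap e.toMonoidHom) :=
      A'.comap_injective_isMulCommutative e.injective
    have hB : IsMulCommutative ↥(B'.comap e.toMonoidHom) :=
      B'.comap_injective_isMulCommutative e.injective
    have hcard : ∀ C : Subgroup S', Nat.card ↥(C.comap e.toMonoidHom) = Nat.card ↥C := by
      intro C
      have : C.comap e.toMonoidHom = C.map e.symm.toMonoidHom :=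
        Subgroup.comap_equiv_eq_map_symm e C
      rw [this, Subgroup.card_map_of_injective e.symm.injective]
    have := h3 _ _ hA (by rw [hcard, hA'c]) hB (by rw [hcard, hB'c])
    exact Subgroup.comap_injective e.surjective this

section main

variable {T : Type*} [Group T] [Finite T]

theorem quo_card (hT : Nat.card T = 1024) (hZ : Nat.card (center T) = 2) :
    Nat.card (T ⧸ center T) = 512 := by
  have := Subgroup.card_eq_card_quotient_mul_card_subgroup (center T)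
  rw [hT, hZ] at this
  omega

theorem quo_comm_iff (x y : T) :
    x * y * x⁻¹ * y⁻¹ ∈ center T ↔
      QuotientGroup.mk' (center T) x * QuotientGroup.mk' (center T) y =
        QuotientGroup.mk' (center T) y * QuotientGroup.mk' (center T) x := by
  rw [← QuotientGroup.eq_one_iff, ← QuotientGroup.mk'_apply, map_mul, map_mul, map_mul, map_inv,
    map_inv]
  constructor
  · intro h
    calc QuotientGroup.mk' (center T) x * QuotientGroup.mk' (center T) y
        = (QuotientGroup.mk' (center T) x * QuotientGroup.mk' (center T) y *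
          (QuotientGroup.mk' (center T) x)⁻¹ * (QuotientGroup.mk' (center T) y)⁻¹) *
          (QuotientGroup.mk' (center T) y * QuotientGroup.mk' (center T) x) := by group
      _ = QuotientGroup.mk' (center T) y * QuotientGroup.mk' (center T) x := by rw [h, one_mul]
  · intro h
    rw [h]; group

theorem quo_card_comap (hT : Nat.card T = 1024) (hZ : Nat.card (center T) = 2)
    (H : Subgroup (T ⧸ center T)) :
    Nat.card ↥(H.comap (QuotientGroup.mk' (center T))) = 2 * Nat.card ↥H := by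
  have h1 := Subgroup.index_comap_of_surjective H (QuotientGroup.mk'_surjective (center T))
  have h2 := Subgroup.card_mul_index (H.comap (QuotientGroup.mk' (center T)))
  have h3 := Subgroup.card_mul_index H
  rw [h1, hT] at h2
  rw [quo_card hT hZ] at h3
  have h0 : H.index ≠ 0 := Subgroup.index_ne_zero_of_finite
  have : Nat.card ↥(H.comap (QuotientGroup.mk' (center T))) * H.index =
      2 * Nat.card ↥H * H.index := by
    rw [h2, mul_assoc, h3]
    norm_num
  exact Nat.eq_of_mul_eq_mul_right (Nat.pos_of_ne_zero h0) this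

/-- centres of maximal subgroups of the quotient -/
theorem quo_partA (hT : Nat.card T = 1024) (hZ : Nat.card (center T) = 2)
    (gen : T → Prop)
    (hw : Nat.card {t : T // ∀ a b : T, gen a → gen b → t * a * t⁻¹ * a⁻¹ ∉ center T →
      t * b * t⁻¹ * b⁻¹ ∉ center T → t * (a * b) * t⁻¹ * (a * b)⁻¹ ∈ center T} < 32)
    (M : Subgroup (T ⧸ center T)) (hM : IsCoatom M) : Nat.card ↥(center ↥M) ≤ 8 := by
  classical
  have hS : Nat.card (T ⧸ center T) = 512 := quo_card hT hZ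
  haveI : Fact (Nat.Prime 2) := ⟨Nat.prime_two⟩
  have hP : IsPGroup 2 (T ⧸ center T) := IsPGroup.of_card (n := 9) (by rw [hS]; norm_num)
  have hidx : M.index = 2 := Cfsg.Agent.Lib.Helper5.h5_pgroup_coatom_index hP hM
  have hcardZM : Nat.card ↥((center ↥M).map M.subtype) = Nat.card ↥(center ↥M) :=
    Subgroup.card_map_of_injective (Subgroup.subtype_injective M)
  have hcardZt := quo_card_comap hT hZ ((center ↥M).map M.subtype)
  have hidxC : (M.comap (QuotientGroup.mk' (center T))).index = 2 := by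
    rw [Subgroup.index_comap_of_surjective M (QuotientGroup.mk'_surjective (center T)), hidx]
  have hsub : ∀ t ∈ ((center ↥M).map M.subtype).comap (QuotientGroup.mk' (center T)),
      ∀ a b : T, gen a → gen b → t * a * t⁻¹ * a⁻¹ ∉ center T →
      t * b * t⁻¹ * b⁻¹ ∉ center T → t * (a * b) * t⁻¹ * (a * b)⁻¹ ∈ center T := by
    intro t ht a b _ _ hta htb
    rw [Subgroup.mem_comap] at ht
    obtain ⟨m, hm, hmt⟩ := ht
    have hC : ∀ u ∈ M.comap (QuotientGroup.mk' (center T)), t * u * t⁻¹ * u⁻¹ ∈ center T := by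
      intro u hu
      rw [Subgroup.mem_comap] at hu
      rw [quo_comm_iff, ← hmt]
      have hm' : m ∈ center ↥M := hm
      rw [Subgroup.mem_center_iff] at hm'
      have := hm' ⟨_, hu⟩
      have e := congrArg Subtype.val this
      simp only [Subgroup.coe_mul] at e
      exact e.symm
    have ha : a ∉ M.comap (QuotientGroup.mk' (center T)) := fun h => hta (hC a h)
    have hb : b ∉ M.comap (QuotientGroup.mk' (center T)) := fun h => htb (hC b h)
    apply hC
    rw [Subgroup.mul_mem_iff_of_index_two hidxC]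
    exact ⟨fun h => absurd h ha, fun h => absurd h hb⟩
  have hle : Nat.card ↥(((center ↥M).map M.subtype).comap (QuotientGroup.mk' (center T))) ≤
      Nat.card {t : T // ∀ a b : T, gen a → gen b → t * a * t⁻¹ * a⁻¹ ∉ center T →
      t * b * t⁻¹ * b⁻¹ ∉ center T → t * (a * b) * t⁻¹ * (a * b)⁻¹ ∈ center T} := by
    apply Nat.card_le_card_of_injective (fun x => ⟨x.1, hsub x.1 x.2⟩)
    intro x y hxy
    apply Subtype.ext
    have := congrArg Subtype.val hxy
    exact this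
  have h16 : Nat.card ↥(center ↥M) < 16 := by
    rw [hcardZt, hcardZM] at hle
    omega
  have hdvd : Nat.card ↥(center ↥M) ∣ 2 ^ 9 := by
    have h1 : Nat.card ↥(center ↥M) ∣ Nat.card ↥M := Subgroup.card_subgroup_dvd_card _
    have h2 : Nat.card ↥M ∣ Nat.card (T ⧸ center T) := Subgroup.card_subgroup_dvd_card _
    rw [hS] at h2
    exact h1.trans h2
  obtain ⟨k, hk, hk2⟩ := (Nat.dvd_prime_pow Nat.prime_two).mp hdvd
  rw [hk2] at h16 ⊢
  have : k < 4 := by
    by_contra hcon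
    rw [not_lt] at hcon
    have := Nat.pow_le_pow_right (n := 2) (by norm_num) hcon
    omega
  interval_cases k <;> norm_num

/-- an elementary abelian subgroup of order `64` of the quotient -/
theorem quo_partB (hT : Nat.card T = 1024) (hZ : Nat.card (center T) = 2)
    (Q : Subgroup T) (hQc : Nat.card ↥Q = 128) (hZQ : center T ≤ Q)
    (hQcomm : ∀ x ∈ Q, ∀ y ∈ Q, x * y * x⁻¹ * y⁻¹ ∈ center T)
    (hQsq : ∀ x ∈ Q, x * x ∈ center T) :
    Cfsg.IsElementaryAbelian 2 (Q.map (QuotientGroup.mk' (center T))) ∧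
      Nat.card ↥(Q.map (QuotientGroup.mk' (center T))) = 64 := by
  refine ⟨⟨?_, ?_⟩, ?_⟩
  · apply IsMulCommutative.of_setLike_mul_comm
    rintro _ ⟨x, hx, rfl⟩ _ ⟨y, hy, rfl⟩
    exact (quo_comm_iff x y).mp (hQcomm x hx y hy)
  · rintro _ ⟨x, hx, rfl⟩
    rw [pow_two, ← map_mul]
    exact (QuotientGroup.eq_one_iff _).mpr (hQsq x hx)
  · have h1 := quo_card_comap hT hZ (Q.map (QuotientGroup.mk' (center T)))
    rw [Subgroup.comap_map_eq_self (by rw [QuotientGroup.ker_mk']; exact hZQ), hQc] at h1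
    omega

end main

/-- two elements of `K` outside `H` in different cosets, when `H` has index more than two -/
theorem exists_two_not_mem {G : Type*} [Group G] (H K : Subgroup G) [Finite K] (hHK : H ≤ K)
    (h : 2 * Nat.card ↥H < Nat.card ↥K) :
    ∃ b₁ ∈ K, ∃ b₂ ∈ K, b₁ ∉ H ∧ b₂ ∉ H ∧ b₁⁻¹ * b₂ ∉ H := by
  classical
  have hHfin : Finite ↥H :=
    Finite.of_injective (Subgroup.inclusion hHK) (Subgroup.inclusion_injective hHK)
  have h1 : ∃ b₁ ∈ K, b₁ ∉ H := by
    by_contra hcon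
    have hKH : K ≤ H := by
      intro b hb
      by_contra hbH
      exact hcon ⟨b, hb, hbH⟩
    have := Subgroup.card_le_of_le hKH
    omega
  obtain ⟨b₁, hb₁K, hb₁H⟩ := h1
  by_contra hcon
  have hsub : (K : Set G) ⊆ (H : Set G) ∪ (fun x => b₁ * x) '' (H : Set G) := by
    intro b₂ hb₂
    by_contra hnot
    rw [Set.mem_union, not_or] at hnot
    apply hcon
    refine ⟨b₁, hb₁K, b₂, hb₂, hb₁H, hnot.1, ?_⟩
    intro h'
    exact hnot.2 ⟨b₁⁻¹ * b₂, h', by group⟩
  have hHf : (H : Set G).Finite := Set.toFinite _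
  have hfin : ((H : Set G) ∪ (fun x => b₁ * x) '' (H : Set G)).Finite :=
    hHf.union (hHf.image _)
  have e1 := Set.ncard_le_ncard hsub hfin
  have e2 := Set.ncard_union_le (H : Set G) ((fun x => b₁ * x) '' (H : Set G))
  have e3 := Set.ncard_image_le (f := fun x => b₁ * x) hHf
  have e4 : Nat.card ↥K = (K : Set G).ncard := Nat.card_coe_set_eq (K : Set G)
  have e5 : Nat.card ↥H = (H : Set G).ncard := Nat.card_coe_set_eq (H : Set G)
  omega

section mainC

variable {T : Type*} [Group T] [Finite T]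

/-- uniqueness of the abelian subgroup of order `64` of the quotient -/
theorem quo_partC (hT : Nat.card T = 1024) (hZ : Nat.card (center T) = 2)
    (Q : Subgroup T) [Q.Normal] (hQc : Nat.card ↥Q = 128) (hZQ : center T ≤ Q)
    (hQcomm : ∀ x ∈ Q, ∀ y ∈ Q, x * y * x⁻¹ * y⁻¹ ∈ center T)
    (rep : T → Prop) (hreps : ∀ t : T, ∃ r, rep r ∧ r⁻¹ * t ∈ Q)
    (hF1 : ∀ r, rep r → r ∉ Q →
      Nat.card {q : T // q ∈ Q ∧ r * q * r⁻¹ * q⁻¹ ∈ center T} ≤ 32)
    (hF2 : ∀ r₁ r₂, rep r₁ → rep r₂ → r₁ ∉ Q → r₂ ∉ Q → r₁⁻¹ * r₂ ∉ Q →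
      Nat.card {q : T // q ∈ Q ∧ r₁ * q * r₁⁻¹ * q⁻¹ ∈ center T ∧
        r₂ * q * r₂⁻¹ * q⁻¹ ∈ center T} ≤ 16)
    (hF3 : ∃ a b : T, a * b * a⁻¹ * b⁻¹ ∉ Q)
    (B : Subgroup (T ⧸ center T)) (hB : IsMulCommutative ↥B) (hBc : Nat.card ↥B = 64) :
    B = Q.map (QuotientGroup.mk' (center T)) := by
  classical
  have hsurj : Function.Surjective (QuotientGroup.mk' (center T)) :=
    QuotientGroup.mk'_surjective _
  set Bt := B.comap (QuotientGroup.mk' (center T)) with hBt
  have hBtc : Nat.card ↥Bt = 128 := by rw [hBt, quo_card_comap hT hZ, hBc]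
  have hBcomm : ∀ x ∈ Bt, ∀ y ∈ Bt, x * y * x⁻¹ * y⁻¹ ∈ center T := by
    intro x hx y hy
    rw [quo_comm_iff]
    exact setLike_mul_comm (Subgroup.mem_comap.mp hx) (Subgroup.mem_comap.mp hy)
  suffices h : Bt = Q by
    rw [← h, hBt, Subgroup.map_comap_eq_self_of_surjective hsurj]
  have hinv : ∀ r q0 q : T, q0 ∈ Q → q ∈ Q →
      ((r * q0) * q * (r * q0)⁻¹ * q⁻¹ ∈ center T ↔ r * q * r⁻¹ * q⁻¹ ∈ center T) := by
    intro r q0 q hq0 hq
    have hc := (quo_comm_iff q0 q).mp (hQcomm q0 hq0 q hq)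
    rw [quo_comm_iff, quo_comm_iff, map_mul]
    constructor
    · intro h
      have : (QuotientGroup.mk' (center T)) r * (QuotientGroup.mk' (center T)) q *
          (QuotientGroup.mk' (center T)) q0 = (QuotientGroup.mk' (center T)) q *
          (QuotientGroup.mk' (center T)) r * (QuotientGroup.mk' (center T)) q0 := by
        rw [mul_assoc, ← hc, ← mul_assoc, h, mul_assoc]
      exact mul_right_cancel this
    · intro h
      rw [mul_assoc, hc, ← mul_assoc, h, mul_assoc]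
  have key : ∀ b ∈ Bt, ∀ r, r⁻¹ * b ∈ Q → ∀ d ∈ Bt ⊓ Q, r * d * r⁻¹ * d⁻¹ ∈ center T := by
    intro b hb r hrb d hd
    rw [← hinv r (r⁻¹ * b) d hrb hd.2]
    have : r * (r⁻¹ * b) = b := by group
    rw [this]
    exact hBcomm b hb d hd.1
  have hD16 : 16 ≤ Nat.card ↥(Bt ⊓ Q) := by
    have h1 : (Bt ⊓ Q).index ≤ Bt.index * Q.index := Subgroup.index_inf_le
    have h2 := Subgroup.card_mul_index Bt
    have h3 := Subgroup.card_mul_index Q
    have h4 := Subgroup.card_mul_index (Bt ⊓ Q)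
    rw [hT, hBtc] at h2
    rw [hT, hQc] at h3
    rw [hT] at h4
    have h5 : Bt.index = 8 := by omega
    have h6 : Q.index = 8 := by omega
    rw [h5, h6] at h1
    by_contra hcon
    rw [not_le] at hcon
    have : Nat.card ↥(Bt ⊓ Q) * (Bt ⊓ Q).index ≤ 15 * 64 :=
      Nat.mul_le_mul (by omega) h1
    omega
  by_contra hne
  have hex : ∃ b ∈ Bt, b ∉ Q := by
    by_contra hcon
    apply hne
    have hle : Bt ≤ Q := by
      intro b hb
      by_contra hbQ
      exact hcon ⟨b, hb, hbQ⟩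
    exact Subgroup.eq_of_le_of_card_ge hle (by rw [hBtc, hQc])
  have hstep1 : Nat.card ↥(Bt ⊓ Q) ≤ 32 := by
    obtain ⟨b, hb, hbQ⟩ := hex
    obtain ⟨r, hr, hrq⟩ := hreps b
    have hrQ : r ∉ Q := fun h => hbQ (by have := Q.mul_mem h hrq; simpa using this)
    refine le_trans ?_ (hF1 r hr hrQ)
    apply Nat.card_le_card_of_injective
      (fun d : ↥(Bt ⊓ Q) => (⟨d.1, d.2.2, key b hb r hrq d.1 d.2⟩ :
        {q : T // q ∈ Q ∧ r * q * r⁻¹ * q⁻¹ ∈ center T}))
    intro x y hxy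
    apply Subtype.ext
    have := congrArg Subtype.val hxy
    exact this
  have hstep2 : Nat.card ↥(Bt ⊓ Q) ≤ 16 := by
    obtain ⟨b₁, hb₁, b₂, hb₂, h1, h2, h12⟩ :=
      exists_two_not_mem (Bt ⊓ Q) Bt inf_le_left (by rw [hBtc]; omega)
    have hb₁Q : b₁ ∉ Q := fun h => h1 ⟨hb₁, h⟩
    have hb₂Q : b₂ ∉ Q := fun h => h2 ⟨hb₂, h⟩
    have hb₁₂Q : b₁⁻¹ * b₂ ∉ Q := fun h => h12 ⟨Bt.mul_mem (Bt.inv_mem hb₁) hb₂, h⟩
    obtain ⟨r₁, hr₁, hrq₁⟩ := hreps b₁
    obtain ⟨r₂, hr₂, hrq₂⟩ := hreps b₂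
    have hr₁Q : r₁ ∉ Q := fun h => hb₁Q (by have := Q.mul_mem h hrq₁; simpa using this)
    have hr₂Q : r₂ ∉ Q := fun h => hb₂Q (by have := Q.mul_mem h hrq₂; simpa using this)
    have hr₁₂Q : r₁⁻¹ * r₂ ∉ Q := by
      intro h
      apply hb₁₂Q
      have : b₁⁻¹ * b₂ = (r₁⁻¹ * b₁)⁻¹ * (r₁⁻¹ * r₂) * (r₂⁻¹ * b₂) := by group
      rw [this]
      exact Q.mul_mem (Q.mul_mem (Q.inv_mem hrq₁) h) hrq₂
    refine le_trans ?_ (hF2 r₁ r₂ hr₁ hr₂ hr₁Q hr₂Q hr₁₂Q)
    apply Nat.card_le_card_of_injective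
      (fun d : ↥(Bt ⊓ Q) => (⟨d.1, d.2.2, key b₁ hb₁ r₁ hrq₁ d.1 d.2, key b₂ hb₂ r₂ hrq₂ d.1 d.2⟩ :
        {q : T // q ∈ Q ∧ r₁ * q * r₁⁻¹ * q⁻¹ ∈ center T ∧ r₂ * q * r₂⁻¹ * q⁻¹ ∈ center T}))
    intro x y hxy
    apply Subtype.ext
    have := congrArg Subtype.val hxy
    exact this
  have hDc : Nat.card ↥(Bt ⊓ Q) = 16 := le_antisymm hstep2 hD16
  obtain ⟨a, b, hab⟩ := hF3
  apply hab
  let φ : ↥Bt →* T ⧸ Q := (QuotientGroup.mk' Q).comp Bt.subtype
  have hker : φ.ker = Q.subgroupOf Bt := by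
    ext x
    rw [MonoidHom.mem_ker, Subgroup.mem_subgroupOf]
    exact QuotientGroup.eq_one_iff _
  have hkc : Nat.card ↥φ.ker = 16 := by
    rw [hker, ← Subgroup.inf_subgroupOf_right,
      Nat.card_congr (Subgroup.subgroupOfEquivOfLe (inf_le_right : Q ⊓ Bt ≤ Bt)).toEquiv,
      inf_comm, hDc]
  have hrc : Nat.card ↥φ.range = 8 := by
    have h1 := Subgroup.index_ker φ
    have h2 := Subgroup.card_mul_index φ.ker
    rw [hkc, hBtc, h1] at h2
    omega
  have hQi : Nat.card (T ⧸ Q) = 8 := by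
    have h3 := Subgroup.card_mul_index Q
    rw [hT, hQc, Subgroup.index_eq_card] at h3
    omega
  have htop : φ.range = ⊤ := Subgroup.eq_top_of_card_eq _ (by rw [hrc, hQi])
  have hφs : Function.Surjective φ := MonoidHom.range_eq_top.mp htop
  obtain ⟨x, hx⟩ := hφs (QuotientGroup.mk' Q a)
  obtain ⟨y, hy⟩ := hφs (QuotientGroup.mk' Q b)
  rw [← QuotientGroup.eq_one_iff, ← QuotientGroup.mk'_apply, map_mul, map_mul, map_mul, map_inv,
    map_inv, ← hx, ← hy, ← map_inv, ← map_inv, ← map_mul, ← map_mul, ← map_mul]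
  show QuotientGroup.mk' Q ((x * y * x⁻¹ * y⁻¹ : ↥Bt) : T) = 1
  rw [QuotientGroup.mk'_apply, QuotientGroup.eq_one_iff]
  apply hZQ
  have := hBcomm x.1 x.2 y.1 y.2
  simpa using this

/-- all three assertions from the element-level data -/
theorem quo_main (hT : Nat.card T = 1024) (hZ : Nat.card (center T) = 2)
    (gen : T → Prop)
    (hw : Nat.card {t : T // ∀ a b : T, gen a → gen b → t * a * t⁻¹ * a⁻¹ ∉ center T →
      t * b * t⁻¹ * b⁻¹ ∉ center T → t * (a * b) * t⁻¹ * (a * b)⁻¹ ∈ center T} < 32)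
    (Q : Subgroup T) [Q.Normal] (hQc : Nat.card ↥Q = 128) (hZQ : center T ≤ Q)
    (hQcomm : ∀ x ∈ Q, ∀ y ∈ Q, x * y * x⁻¹ * y⁻¹ ∈ center T)
    (hQsq : ∀ x ∈ Q, x * x ∈ center T)
    (rep : T → Prop) (hreps : ∀ t : T, ∃ r, rep r ∧ r⁻¹ * t ∈ Q)
    (hF1 : ∀ r, rep r → r ∉ Q →
      Nat.card {q : T // q ∈ Q ∧ r * q * r⁻¹ * q⁻¹ ∈ center T} ≤ 32)
    (hF2 : ∀ r₁ r₂, rep r₁ → rep r₂ → r₁ ∉ Q → r₂ ∉ Q → r₁⁻¹ * r₂ ∉ Q →
      Nat.card {q : T // q ∈ Q ∧ r₁ * q * r₁⁻¹ * q⁻¹ ∈ center T ∧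
        r₂ * q * r₂⁻¹ * q⁻¹ ∈ center T} ≤ 16)
    (hF3 : ∃ a b : T, a * b * a⁻¹ * b⁻¹ ∉ Q) : quoProp (T ⧸ center T) := by
  refine ⟨quo_partA hT hZ gen hw, ⟨_, quo_partB hT hZ Q hQc hZQ hQcomm hQsq⟩, ?_⟩
  intro A B hA hAc hB hBc
  rw [quo_partC hT hZ Q hQc hZQ hQcomm rep hreps hF1 hF2 hF3 A hA hAc,
    quo_partC hT hZ Q hQc hZQ hQcomm rep hreps hF1 hF2 hF3 B hB hBc]

end mainC

end Cfsg.Agent.Lib.helper4
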