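import Mathlib

set_option autoImplicit false

/-! A polycyclic generating sequence of the Sylow 2-subgroup of the group of the length-24 code
through the extraspecial subgroup of order 128. -/

namespace Cfsg.Agent.Lib.helper4

/-- three generators above the extraspecial subgroup -/
def quoH : List (List ℕ) := [
  [0,1,10,16,18,5,8,6,20,11,17,9,2,21,19,22,14,12,15,3,7,13,4,23],
  [0,1,14,17,4,5,20,7,8,11,16,9,19,21,2,15,10,3,22,12,6,13,18,23],
  [0,1,3,2,15,5,6,8,7,11,19,9,16,21,17,4,12,14,18,10,20,13,22,23]]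

/-- generators of the extraspecial subgroup, the last one central -/
def quoQ : List (List ℕ) := [
  [11,1,19,3,22,5,20,8,7,23,10,0,12,13,14,18,17,16,15,2,6,21,4,9],
  [9,1,2,10,18,5,20,8,7,0,3,23,14,13,12,22,16,17,4,19,6,21,15,11],
  [4,1,2,10,0,5,20,7,8,18,3,22,12,21,14,23,17,16,9,19,6,13,11,15],
  [0,7,14,16,4,8,13,1,5,9,17,11,19,6,2,15,3,10,18,12,21,20,22,23],
  [0,3,6,1,4,10,2,16,17,9,5,11,21,14,13,15,7,8,18,20,19,12,22,23],
  [0,2,1,6,4,19,3,14,12,9,20,11,8,16,7,15,13,21,18,5,10,17,22,23],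
  [0,5,19,10,4,1,20,8,7,9,3,11,14,21,12,15,17,16,18,2,6,13,22,23]]

end Cfsg.Agent.Lib.helper4
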