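import Mathlib
import Cfsg.Agent.Lib.helper4.FusQuotData
import Cfsg.Agent.Lib.helper4.FusM24

set_option autoImplicit false

/-! Table-level definitions for the quotient of the Sylow 2-subgroup by its centre. -/

namespace Cfsg.Agent.Lib.helper4

open Cfsg Cfsg.Agent.Lib.Helper12.Golay

/-- the polycyclic sequence through the extraspecial subgroup -/
def quoG : List (List ℕ) := quoH ++ quoQ

/-- commuting modulo the central involution, on tables -/
def zcomm (A B : List ℕ) : Bool :=
  forceList (compTbl A B) fun AB => forceList (compTbl B A) fun BA =>
    AB == BA || AB == compTbl fusZ22 BA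

/-- no repetitions, on tables -/
def nodupB : List (List ℕ) → Bool
  | [] => true
  | a :: l => !(l.contains a) && nodupB l

theorem nodupB_spec : ∀ {l : List (List ℕ)}, nodupB l = true → l.Nodup
  | [], _ => List.nodup_nil
  | a :: l, h => by
    unfold nodupB at h
    simp only [Bool.and_eq_true, Bool.not_eq_eq_eq_not, Bool.not_true,
      List.contains_eq_mem, decide_eq_false_iff_not] at h
    exact List.nodup_cons.mpr ⟨h.1, nodupB_spec h.2⟩

/-- the test for an element to have a centraliser of index at most two modulo the centre -/
def wTest (T : List ℕ) : Bool :=
  quoG.all fun a => zcomm T a || quoG.all fun b => zcomm T b || zcomm T (compTbl a b)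

end Cfsg.Agent.Lib.helper4
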