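import Mathlib
import Cfsg.Agent.Lib.helper4.FusQuotDefs

set_option autoImplicit false

/-! Table checks for the quotient of the Sylow 2-subgroup by its centre, first part. -/

namespace Cfsg.Agent.Lib.helper4

open Cfsg Cfsg.Agent.Lib.Helper12.Golay

set_option maxRecDepth 1000000 in
theorem quoPc : pcOK quoG = true := by decide +kernel

set_option maxRecDepth 1000000 in
theorem quoCenter : centerCheck quoG fusZ22 = true := by decide +kernel

set_option maxRecDepth 1000000 in
theorem quoCentral : centralCheck quoG fusZ22 = true := by decide +kernel

set_option maxRecDepth 1000000 in
theorem quoSub1 : quoG.all (fun g => (nfList fusG24).contains g) = true := by decide +kernel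

set_option maxRecDepth 1000000 in
theorem quoSub2 : fusG24.all (fun g => (nfList quoG).contains g) = true := by decide +kernel

set_option maxRecDepth 1000000 in
theorem quoNodup : nodupB (nfList quoG) = true := by decide +kernel

set_option maxRecDepth 1000000 in
theorem quoNodupQ : nodupB (nfList quoQ) = true := by decide +kernel

end Cfsg.Agent.Lib.helper4
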