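import Mathlib
import Cfsg.Agent.Lib.helper4.FusQuotDefs

set_option autoImplicit false

/-! Table checks for the quotient of the Sylow 2-subgroup by its centre, second part. -/

namespace Cfsg.Agent.Lib.helper4

open Cfsg Cfsg.Agent.Lib.Helper12.Golay

set_option maxRecDepth 1000000 in
theorem quoW : ((nfList quoG).filter wTest).length = 24 := by decide +kernel

set_option maxRecDepth 1000000 in
theorem quoNormal : quoH.all (fun h => quoQ.all (fun q =>
    (nfList quoQ).contains (compTbl h (compTbl q (invTab h))))) = true := by decide +kernel

set_option maxRecDepth 1000000 in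
theorem quoQsq : (nfList quoQ).all
    (fun a => compTbl a a == List.range 24 || compTbl a a == fusZ22) = true := by decide +kernel

set_option maxRecDepth 1000000 in
theorem quoF3 : (nfList quoQ).contains (compTbl (compTbl (compTbl (quoH.getD 0 []) (quoH.getD 1 []))
    (invTab (quoH.getD 0 []))) (invTab (quoH.getD 1 []))) = false := by decide +kernel

end Cfsg.Agent.Lib.helper4
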