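import Mathlib
import Cfsg.Agent.Lib.helper4.FusQuotDefs

set_option autoImplicit false

/-! Table checks for the quotient of the Sylow 2-subgroup by its centre, third part. -/

namespace Cfsg.Agent.Lib.helper4

open Cfsg Cfsg.Agent.Lib.Helper12.Golay

set_option maxRecDepth 1000000 in
theorem quoQcomm : (nfList quoQ).all (fun a => (nfList quoQ).all (fun b => zcomm a b)) = true := by
  decide +kernel

set_option maxRecDepth 1000000 in
theorem quoF1 : (nfList quoH).all (fun R => (nfList quoQ).contains R ||
    Nat.ble ((nfList quoQ).filter (zcomm R)).length 32) = true := by decide +kernel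

set_option maxRecDepth 1000000 in
theorem quoF2 : (nfList quoH).all (fun R1 => (nfList quoH).all (fun R2 =>
    (nfList quoQ).contains R1 || (nfList quoQ).contains R2 ||
    (nfList quoQ).contains (compTbl (invTab R1) R2) ||
    Nat.ble ((nfList quoQ).filter (fun q => zcomm R1 q && zcomm R2 q)).length 16)) = true := by
  decide +kernel

end Cfsg.Agent.Lib.helper4
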