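import Mathlib
import Cfsg.Agent.Lib.helper4.FusQuot
import Cfsg.Agent.Lib.helper4.FusQuotChkA
import Cfsg.Agent.Lib.helper4.FusQuotChkB
import Cfsg.Agent.Lib.helper4.FusQuotChkC

set_option autoImplicit false

/-! The quotient of the Sylow 2-subgroup of the group of the length-24 code by its centre. -/

namespace Cfsg.Agent.Lib.helper4

open Cfsg Cfsg.Agent.Lib.Helper12.Golay

theorem length_nfList : ∀ gs : List (List ℕ), (nfList gs).length = 2 ^ gs.length
  | [] => rfl
  | g :: rest => by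
    unfold nfList
    rw [List.length_append, List.length_map, length_nfList rest, List.length_cons, pow_succ]
    ring

theorem card_tgrp {gs : List (List ℕ)} (hpc : pcOK gs = true) (hnd : (nfList gs).Nodup) :
    Nat.card ↥(tgrp gs) = 2 ^ gs.length := by
  classical
  have e : ↥(tgrp gs) ≃ {L // L ∈ (nfList gs).toFinset} := by
    refine Equiv.ofBijective
      (fun x => ⟨tblOf x.1, List.mem_toFinset.mpr (nf_complete hpc x.1 x.2)⟩) ⟨?_, ?_⟩
    · intro x y hxy
      apply Subtype.ext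
      apply tblOf_injective
      have := congrArg Subtype.val hxy
      exact this
    · rintro ⟨L, hL⟩
      obtain ⟨x, hx, e⟩ := nf_sound (pcOK_valid hpc) L (List.mem_toFinset.mp hL)
      exact ⟨⟨x, hx⟩, Subtype.ext e⟩
  rw [Nat.card_congr e, Nat.card_eq_fintype_card, Fintype.card_coe,
    List.toFinset_card_of_nodup hnd, length_nfList]

/-- bounding a set of elements of a subgroup by a list of tables -/
theorem card_le_of_tbl (H : Subgroup (Equiv.Perm GolayPt)) (p : ↥H → Prop) (L : List (List ℕ))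
    (h : ∀ x : ↥H, p x → tblOf x.1 ∈ L) : Nat.card {x : ↥H // p x} ≤ L.length := by
  classical
  have h1 : Nat.card {x : ↥H // p x} ≤ Nat.card {l // l ∈ L.toFinset} := by
    apply Nat.card_le_card_of_injective
      (fun x => (⟨tblOf x.1.1, List.mem_toFinset.mpr (h x.1 x.2)⟩ : {l // l ∈ L.toFinset}))
    intro x y hxy
    apply Subtype.ext
    apply Subtype.ext
    apply tblOf_injective
    have := congrArg Subtype.val hxy
    exact this
  refine h1.trans ?_
  rw [Nat.card_eq_fintype_card, Fintype.card_coe]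
  exact List.toFinset_card_le L

theorem tgrp_le_append (hs rest : List (List ℕ)) : tgrp rest ≤ tgrp (hs ++ rest) := by
  apply Subgroup.closure_mono
  rintro x ⟨T, hT, rfl⟩
  exact ⟨T, List.mem_append_right _ hT, rfl⟩

theorem pcOK_append : ∀ (hs : List (List ℕ)) {rest : List (List ℕ)},
    pcOK (hs ++ rest) = true → pcOK rest = true
  | [], _, h => h
  | _ :: hs, _, h => pcOK_append hs (pc_rel h).2.2.2

/-- coset representatives of a later term of a polycyclic series -/
theorem pc_split : ∀ (hs : List (List ℕ)) {rest : List (List ℕ)}, pcOK (hs ++ rest) = true →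
    ∀ x ∈ tgrp (hs ++ rest), ∃ r ∈ tgrp (hs ++ rest), tblOf r ∈ nfList hs ∧ r⁻¹ * x ∈ tgrp rest
  | [], rest, _, x, hx => by
    refine ⟨1, Subgroup.one_mem _, ?_, ?_⟩
    · rw [tblOf_one]; simp [nfList]
    · simpa using hx
  | h :: hs, rest, hpc, x, hx => by
    have hpc' : pcOK (h :: (hs ++ rest)) = true := hpc
    have hx' : x ∈ tgrp (h :: (hs ++ rest)) := hx
    obtain ⟨hvh, -, -, hrest⟩ := pc_rel hpc'
    rcases pc_dichotomy hpc' hx' with h1 | h1
    · obtain ⟨r, hr, hrT, hrx⟩ := pc_split hs hrest x h1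
      refine ⟨r, tgrp_mono hr, ?_, hrx⟩
      unfold nfList
      exact List.mem_append_left _ hrT
    · obtain ⟨r, hr, hrT, hrx⟩ := pc_split hs hrest _ h1
      refine ⟨fperm h * r, ?_, ?_, ?_⟩
      · exact Subgroup.mul_mem _ (fperm_mem_tgrp List.mem_cons_self) (tgrp_mono hr)
      · unfold nfList
        apply List.mem_append_right
        rw [List.mem_map]
        exact ⟨tblOf r, hrT, by rw [tblOf_mul, tblOf_fperm hvh]⟩
      · have : (fperm h * r)⁻¹ * x = r⁻¹ * ((fperm h)⁻¹ * x) := by group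
        rw [this]; exact hrx

theorem conj_mem_of_gens {G : Type*} [Group G] (g : G) (S : Set G) (K : Subgroup G)
    (h : ∀ s ∈ S, g * s * g⁻¹ ∈ K) : ∀ x ∈ Subgroup.closure S, g * x * g⁻¹ ∈ K := by
  have : Subgroup.closure S ≤ K.comap (MulAut.conj g).toMonoidHom := by
    rw [Subgroup.closure_le]
    intro s hs
    exact h s hs
  intro x hx
  exact this hx

/-! ### The concrete group -/

theorem quoPcQ : pcOK quoQ = true := pcOK_append quoH quoPc

theorem quoQ_le : tgrp quoQ ≤ tgrp quoG := tgrp_le_append quoH quoQ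

theorem quoT_eq : tgrp quoG = tgrp fusG24 := by
  apply le_antisymm
  · unfold tgrp
    rw [Subgroup.closure_le]
    rintro _ ⟨g, hg, rfl⟩
    have h := quoSub1
    rw [List.all_eq_true] at h
    have h1 := h g hg
    rw [List.contains_iff_mem] at h1
    have := (mem_tgrp_iff fusPc24 (fperm g)).mpr (by rw [tblOf_fperm (pcOK_valid quoPc g hg)]; exact h1)
    exact this
  · unfold tgrp
    rw [Subgroup.closure_le]
    rintro _ ⟨g, hg, rfl⟩
    have h := quoSub2
    rw [List.all_eq_true] at h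
    have h1 := h g hg
    rw [List.contains_iff_mem] at h1
    have := (mem_tgrp_iff quoPc (fperm g)).mpr (by rw [tblOf_fperm (pcOK_valid fusPc24 g hg)]; exact h1)
    exact this

theorem quo_cardT : Nat.card ↥(tgrp quoG) = 1024 := by
  rw [card_tgrp quoPc (nodupB_spec quoNodup)]
  rfl

theorem quo_mem_center (x : ↥(tgrp quoG)) :
    x ∈ Subgroup.center ↥(tgrp quoG) ↔ x.1 = 1 ∨ x.1 = fperm fusZ22 := by
  rw [Subgroup.mem_center_iff]
  constructor
  · intro h
    apply center_of_check quoPc quoCenter x.2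
    intro y hy
    have := h ⟨y, hy⟩
    have e := congrArg Subtype.val this
    simp only [Subgroup.coe_mul] at e
    exact e.symm
  · rintro (h | h) g
    · have : x = 1 := Subtype.ext h
      rw [this]; simp
    · apply Subtype.ext
      simp only [Subgroup.coe_mul]
      rw [h]
      exact ((central_of_check quoPc quoCentral).2.2 g.1 g.2).symm

theorem quo_cardZ : Nat.card ↥(Subgroup.center ↥(tgrp quoG)) = 2 := by
  obtain ⟨hz, hz1, -⟩ := central_of_check quoPc quoCentral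
  rw [Nat.card_eq_two_iff]
  refine ⟨1, ⟨⟨fperm fusZ22, hz⟩, (quo_mem_center _).mpr (Or.inr rfl)⟩, ?_, ?_⟩
  · intro h
    apply hz1
    have := congrArg (fun u : ↥(Subgroup.center ↥(tgrp quoG)) => (u.1.1 : Equiv.Perm GolayPt)) h
    exact this.symm
  · ext u
    simp only [Set.mem_insert_iff, Set.mem_singleton_iff, Set.mem_univ, iff_true]
    rcases (quo_mem_center u.1).mp u.2 with h | h
    · left
      apply Subtype.ext
      apply Subtype.ext
      exact h
    · right
      apply Subtype.ext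
      apply Subtype.ext
      exact h

theorem quo_zc_iff (x y : ↥(tgrp quoG)) :
    x * y * x⁻¹ * y⁻¹ ∈ Subgroup.center ↥(tgrp quoG) ↔ zcomm (tblOf x.1) (tblOf y.1) = true := by
  rw [quo_mem_center]
  unfold zcomm
  rw [forceList_eq, forceList_eq]
  simp only [Bool.or_eq_true, beq_iff_eq]
  have hc : ((x * y * x⁻¹ * y⁻¹ : ↥(tgrp quoG)) : Equiv.Perm GolayPt) =
      x.1 * y.1 * x.1⁻¹ * y.1⁻¹ := rfl
  have e1 : compTbl (tblOf x.1) (tblOf y.1) = tblOf (x.1 * y.1) := (tblOf_mul _ _).symm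
  have e2 : compTbl (tblOf y.1) (tblOf x.1) = tblOf (y.1 * x.1) := (tblOf_mul _ _).symm
  have e3 : compTbl fusZ22 (tblOf (y.1 * x.1)) = tblOf (fperm fusZ22 * (y.1 * x.1)) := by
    conv_rhs => rw [tblOf_mul, tblOf_fperm fusZ22_valid]
  rw [hc, e1, e2, e3, tblOf_injective.eq_iff, tblOf_injective.eq_iff]
  constructor
  · rintro (h | h)
    · left
      rw [mul_inv_eq_one, mul_inv_eq_iff_eq_mul] at h
      exact h
    · right
      rw [mul_inv_eq_iff_eq_mul, mul_inv_eq_iff_eq_mul] at h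
      rw [h, mul_assoc]
  · rintro (h | h)
    · left
      rw [mul_inv_eq_one, mul_inv_eq_iff_eq_mul]
      exact h
    · right
      rw [mul_inv_eq_iff_eq_mul, mul_inv_eq_iff_eq_mul, h, mul_assoc]

theorem quo_hw : Nat.card {t : ↥(tgrp quoG) // ∀ a b : ↥(tgrp quoG),
    (∃ g ∈ quoG, a.1 = fperm g) → (∃ g ∈ quoG, b.1 = fperm g) →
    t * a * t⁻¹ * a⁻¹ ∉ Subgroup.center ↥(tgrp quoG) →
    t * b * t⁻¹ * b⁻¹ ∉ Subgroup.center ↥(tgrp quoG) →
    t * (a * b) * t⁻¹ * (a * b)⁻¹ ∈ Subgroup.center ↥(tgrp quoG)} < 32 := by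
  refine lt_of_le_of_lt (card_le_of_tbl _ _ ((nfList quoG).filter wTest) ?_)
    (by rw [quoW]; norm_num)
  intro t ht
  rw [List.mem_filter]
  refine ⟨nf_complete quoPc t.1 t.2, ?_⟩
  unfold wTest
  rw [List.all_eq_true]
  intro a ha
  rw [Bool.or_eq_true]
  by_cases h1 : zcomm (tblOf t.1) a = true
  · exact Or.inl h1
  right
  rw [List.all_eq_true]
  intro b hb
  rw [Bool.or_eq_true]
  by_cases h2 : zcomm (tblOf t.1) b = true
  · exact Or.inl h2
  right
  have hva := pcOK_valid quoPc a ha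
  have hvb := pcOK_valid quoPc b hb
  have h3 := ht ⟨fperm a, fperm_mem_tgrp ha⟩ ⟨fperm b, fperm_mem_tgrp hb⟩ ⟨a, ha, rfl⟩
    ⟨b, hb, rfl⟩ (by rw [quo_zc_iff, tblOf_fperm hva]; exact h1)
    (by rw [quo_zc_iff, tblOf_fperm hvb]; exact h2)
  rw [quo_zc_iff] at h3
  have e : tblOf ((⟨fperm a, fperm_mem_tgrp ha⟩ * ⟨fperm b, fperm_mem_tgrp hb⟩ :
      ↥(tgrp quoG)) : Equiv.Perm GolayPt) = compTbl a b := by
    show tblOf (fperm a * fperm b) = _
    rw [tblOf_mul, tblOf_fperm hva, tblOf_fperm hvb]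
  rw [e] at h3
  exact h3

/-- the extraspecial subgroup inside the Sylow subgroup -/
def quoQs : Subgroup ↥(tgrp quoG) := (tgrp quoQ).subgroupOf (tgrp quoG)

theorem mem_quoQs (x : ↥(tgrp quoG)) : x ∈ quoQs ↔ tblOf x.1 ∈ nfList quoQ := by
  unfold quoQs
  rw [Subgroup.mem_subgroupOf, mem_tgrp_iff quoPcQ]

theorem quoQs_normal : quoQs.Normal := by
  unfold quoQs
  apply Subgroup.normal_subgroupOf_of_le_normalizer
  unfold tgrp
  rw [Subgroup.closure_le]
  rintro _ ⟨g, hg, rfl⟩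
  have hconj : ∀ q ∈ Subgroup.closure (fset quoQ), fperm g * q * (fperm g)⁻¹ ∈
      Subgroup.closure (fset quoQ) := by
    unfold quoG at hg
    rcases List.mem_append.mp hg with hgH | hgQ
    · apply conj_mem_of_gens
      rintro _ ⟨q, hq, rfl⟩
      have h := quoNormal
      rw [List.all_eq_true] at h
      have h1 := h g hgH
      rw [List.all_eq_true] at h1
      have h2 := h1 q hq
      rw [List.contains_iff_mem] at h2
      have hvg := pcOK_valid quoPc g hg
      have hvq := pcOK_valid quoPcQ q hq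
      have := (mem_tgrp_iff quoPcQ (fperm g * fperm q * (fperm g)⁻¹)).mpr (by
        rw [mul_assoc, tblOf_mul, tblOf_mul, tblOf_inv, tblOf_fperm hvg, tblOf_fperm hvq]
        exact h2)
      exact this
    · intro q hq
      have hgq : fperm g ∈ Subgroup.closure (fset quoQ) := fperm_mem_tgrp hgQ
      exact Subgroup.mul_mem _ (Subgroup.mul_mem _ hgq hq) (Subgroup.inv_mem _ hgq)
  rw [SetLike.mem_coe, Subgroup.mem_normalizer_iff]
  intro q
  constructor
  · exact hconj q
  · intro h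
    have := conj_inv_mem_of_conj_mem (Subgroup.closure (fset quoQ)) hconj _ h
    have e : (fperm g)⁻¹ * (fperm g * q * (fperm g)⁻¹) * fperm g = q := by group
    rw [e] at this
    exact this

theorem quo_cardQ : Nat.card ↥quoQs = 128 := by
  unfold quoQs
  rw [Nat.card_congr (Subgroup.subgroupOfEquivOfLe quoQ_le).toEquiv,
    card_tgrp quoPcQ (nodupB_spec quoNodupQ)]
  rfl

theorem quo_center_le : Subgroup.center ↥(tgrp quoG) ≤ quoQs := by
  intro x hx
  unfold quoQs
  rw [Subgroup.mem_subgroupOf]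
  rcases (quo_mem_center x).mp hx with h | h
  · rw [h]; exact Subgroup.one_mem _
  · rw [h]
    apply fperm_mem_tgrp
    unfold quoQ fusZ22
    simp

theorem quo_hQcomm : ∀ x ∈ quoQs, ∀ y ∈ quoQs,
    x * y * x⁻¹ * y⁻¹ ∈ Subgroup.center ↥(tgrp quoG) := by
  intro x hx y hy
  rw [quo_zc_iff]
  have h := quoQcomm
  rw [List.all_eq_true] at h
  have h1 := h _ ((mem_quoQs x).mp hx)
  rw [List.all_eq_true] at h1
  exact h1 _ ((mem_quoQs y).mp hy)

theorem quo_hQsq : ∀ x ∈ quoQs, x * x ∈ Subgroup.center ↥(tgrp quoG) := by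
  intro x hx
  rw [quo_mem_center]
  have h := quoQsq
  rw [List.all_eq_true] at h
  have h1 := h _ ((mem_quoQs x).mp hx)
  rw [Bool.or_eq_true, beq_iff_eq, beq_iff_eq, ← tblOf_mul] at h1
  rcases h1 with h1 | h1
  · left
    apply tblOf_injective
    rw [tblOf_one]
    exact h1
  · right
    show x.1 * x.1 = _
    rw [← h1, fperm_tblOf]

theorem quo_hreps : ∀ t : ↥(tgrp quoG), ∃ r : ↥(tgrp quoG),
    tblOf r.1 ∈ nfList quoH ∧ r⁻¹ * t ∈ quoQs := by
  intro t
  obtain ⟨r, hr, hrT, hrt⟩ := pc_split quoH (rest := quoQ) quoPc t.1 t.2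
  refine ⟨⟨r, hr⟩, hrT, ?_⟩
  unfold quoQs
  rw [Subgroup.mem_subgroupOf]
  exact hrt

theorem quo_hF1 : ∀ r : ↥(tgrp quoG), tblOf r.1 ∈ nfList quoH → r ∉ quoQs →
    Nat.card {q : ↥(tgrp quoG) // q ∈ quoQs ∧
      r * q * r⁻¹ * q⁻¹ ∈ Subgroup.center ↥(tgrp quoG)} ≤ 32 := by
  intro r hr hrQ
  have h := quoF1
  rw [List.all_eq_true] at h
  have h1 := h _ hr
  rw [Bool.or_eq_true, List.contains_iff_mem] at h1
  rcases h1 with h1 | h1
  · exact absurd ((mem_quoQs r).mpr h1) hrQ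
  · refine le_trans (card_le_of_tbl _ _ ((nfList quoQ).filter (zcomm (tblOf r.1))) ?_)
      (Nat.le_of_ble_eq_true h1)
    intro q hq
    rw [List.mem_filter]
    exact ⟨(mem_quoQs q).mp hq.1, (quo_zc_iff r q).mp hq.2⟩

theorem quo_hF2 : ∀ r₁ r₂ : ↥(tgrp quoG), tblOf r₁.1 ∈ nfList quoH → tblOf r₂.1 ∈ nfList quoH →
    r₁ ∉ quoQs → r₂ ∉ quoQs → r₁⁻¹ * r₂ ∉ quoQs →
    Nat.card {q : ↥(tgrp quoG) // q ∈ quoQs ∧
      r₁ * q * r₁⁻¹ * q⁻¹ ∈ Subgroup.center ↥(tgrp quoG) ∧
      r₂ * q * r₂⁻¹ * q⁻¹ ∈ Subgroup.center ↥(tgrp quoG)} ≤ 16 := by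
  intro r₁ r₂ hr₁ hr₂ hr₁Q hr₂Q hr₁₂Q
  have h := quoF2
  rw [List.all_eq_true] at h
  have h1 := h _ hr₁
  rw [List.all_eq_true] at h1
  have h2 := h1 _ hr₂
  simp only [Bool.or_eq_true, List.contains_iff_mem] at h2
  rcases h2 with ((h2 | h2) | h2) | h2
  · exact absurd ((mem_quoQs r₁).mpr h2) hr₁Q
  · exact absurd ((mem_quoQs r₂).mpr h2) hr₂Q
  · exfalso
    apply hr₁₂Q
    rw [mem_quoQs]
    show tblOf (r₁.1⁻¹ * r₂.1) ∈ _
    rw [tblOf_mul, tblOf_inv]
    exact h2
  · refine le_trans (card_le_of_tbl _ _ ((nfList quoQ).filter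
      (fun q => zcomm (tblOf r₁.1) q && zcomm (tblOf r₂.1) q)) ?_) (Nat.le_of_ble_eq_true h2)
    intro q hq
    rw [List.mem_filter, Bool.and_eq_true]
    exact ⟨(mem_quoQs q).mp hq.1, (quo_zc_iff r₁ q).mp hq.2.1, (quo_zc_iff r₂ q).mp hq.2.2⟩

theorem quo_hF3 : ∃ a b : ↥(tgrp quoG), a * b * a⁻¹ * b⁻¹ ∉ quoQs := by
  have hm0 : quoH.getD 0 [] ∈ quoG := by unfold quoG quoH; simp
  have hm1 : quoH.getD 1 [] ∈ quoG := by unfold quoG quoH; simp
  have hv0 := pcOK_valid quoPc _ hm0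
  have hv1 := pcOK_valid quoPc _ hm1
  refine ⟨⟨fperm (quoH.getD 0 []), fperm_mem_tgrp hm0⟩,
    ⟨fperm (quoH.getD 1 []), fperm_mem_tgrp hm1⟩, ?_⟩
  rw [mem_quoQs]
  show tblOf (fperm (quoH.getD 0 []) * fperm (quoH.getD 1 []) * (fperm (quoH.getD 0 []))⁻¹ *
    (fperm (quoH.getD 1 []))⁻¹) ∉ _
  rw [tblOf_mul, tblOf_mul, tblOf_mul, tblOf_inv, tblOf_inv, tblOf_fperm hv0, tblOf_fperm hv1]
  intro hmem
  have h := quoF3
  rw [← List.contains_iff_mem] at hmem
  rw [hmem] at h
  exact Bool.noConfusion h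

/-- the three assertions for the explicit Sylow subgroup -/
theorem quo_T : quoProp (↥(tgrp quoG) ⧸ Subgroup.center ↥(tgrp quoG)) := by
  have := quoQs_normal
  exact quo_main quo_cardT quo_cardZ (fun a => ∃ g ∈ quoG, a.1 = fperm g) quo_hw quoQs quo_cardQ
    quo_center_le quo_hQcomm quo_hQsq (fun r => tblOf r.1 ∈ nfList quoH) quo_hreps quo_hF1
    quo_hF2 quo_hF3

theorem map_center_equiv {P T : Type*} [Group P] [Group T] (e : P ≃* T) :
    (Subgroup.center P).map (e : P →* T) = Subgroup.center T := by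
  ext x
  constructor
  · rintro ⟨y, hy, rfl⟩
    have hy' : y ∈ Subgroup.center P := hy
    rw [Subgroup.mem_center_iff] at hy' ⊢
    intro g
    obtain ⟨g', rfl⟩ := e.surjective g
    show e g' * e y = e y * e g'
    rw [← map_mul, ← map_mul, hy' g']
  · intro hx
    rw [Subgroup.mem_center_iff] at hx
    refine ⟨e.symm x, ?_, by simp⟩
    show e.symm x ∈ Subgroup.center P
    rw [Subgroup.mem_center_iff]
    intro g
    apply e.injective
    rw [map_mul, map_mul, e.apply_symm_apply]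
    exact hx (e g)

theorem quoProp_of_equiv {P T : Type*} [Group P] [Group T] (e : P ≃* T)
    (h : quoProp (T ⧸ Subgroup.center T)) : quoProp (P ⧸ Subgroup.center P) :=
  quoProp_congr (QuotientGroup.congr (Subgroup.center P) (Subgroup.center T) e
    (map_center_equiv e)).symm h

/-- the three assertions for every Sylow 2-subgroup of the group of the code -/
theorem quo_M24 (P : Sylow 2 ↥Cfsg.M24) :
    quoProp (↥(P : Subgroup ↥Cfsg.M24) ⧸ Subgroup.center ↥(P : Subgroup ↥Cfsg.M24)) := by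
  have : Fact (Nat.Prime 2) := ⟨Nat.prime_two⟩
  have hP0 : IsPGroup 2 ↥((tgrp fusG24).subgroupOf M24) :=
    (tgrp_isPGroup fusPc24).comap_subtype
  obtain ⟨S0, hS0⟩ := sylow_of_selfNormalizing 2 ((tgrp fusG24).subgroupOf M24) hP0 (by
    intro g hg
    rw [Subgroup.mem_subgroupOf]
    apply fusNorm24 _ g.2
    intro s hs
    have := hg ⟨s, fusP24_le hs⟩ (by rw [Subgroup.mem_subgroupOf]; exact hs)
    rw [Subgroup.mem_subgroupOf] at this
    simpa using this)
  obtain ⟨c, hc⟩ := MulAction.exists_smul_eq ↥M24 S0 P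
  subst hc
  have e1 : ↥(S0 : Subgroup ↥M24) ≃* ↥((c • S0 : Sylow 2 ↥M24) : Subgroup ↥M24) :=
    Sylow.equivSMul S0 c
  have e2 : ↥(S0 : Subgroup ↥M24) ≃* ↥((tgrp fusG24).subgroupOf M24) :=
    MulEquiv.subgroupCongr hS0
  have e3 : ↥((tgrp fusG24).subgroupOf M24) ≃* ↥(tgrp fusG24) :=
    Subgroup.subgroupOfEquivOfLe fusP24_le
  have e4 : ↥(tgrp fusG24) ≃* ↥(tgrp quoG) := MulEquiv.subgroupCongr quoT_eq.symm
  exact quoProp_of_equiv (e1.symm.trans (e2.trans (e3.trans e4))) quo_T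

end Cfsg.Agent.Lib.helper4
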