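import Mathlib
import Cfsg.Prelude.Def_ChevStructure
import Cfsg.Prelude.Def_ChevG2
import Cfsg.Agent.Lib.helper14.G2T.Basic
import Cfsg.Agent.Lib.helper14.G2T.Long
import Cfsg.Agent.Lib.helper8.ChevFix1
import Cfsg.Agent.Lib.helper8.ChevBaseG2
import Cfsg.Agent.Lib.Lead.SLn

/-!
# G2T row D1 (`exists_lift`): every element of `SL₃(F)` lifts to `G₂(F)`.
-/

set_option autoImplicit false

namespace Cfsg.Agent.Lib.helper14.G2T

open Cfsg.Lie Cfsg.Lie.ChevalleyDatum Cfsg.Agent.Lib.helper8 Matrix

universe u v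

section D

variable {F : Type u} [Field F] {E : Type v} [Field E] [Algebra F E]

theorem g2td1_map_transv (i j : Fin 3) (c : F) :
    ((1 : Matrix (Fin 3) (Fin 3) F) + Matrix.single i j c).map (algebraMap F E) =
      1 + Matrix.single i j (algebraMap F E c) := by
  ext a b
  simp only [Matrix.map_apply, Matrix.add_apply, Matrix.one_apply, Matrix.single_apply, map_add]
  congr 1
  · split_ifs <;> simp
  · split_ifs <;> simp

/-- a root element `x_r(c)` is a lift of the transvection `1 + c E_ij` when `Phi (1 + t E_ij) = x_r(t)`. -/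
theorem g2td1_transv {i j : Fin 3} (hij : i ≠ j) (r : ℕ) (hr : r < chevG2.nroots)
    (hPhi : ∀ t : E, Phi (1 + Matrix.single i j t) = chevG2.x E r t) (c : F) :
    ∃ g : GL chevG2.Idx F, g ∈ chevG2.group F ∧
      h8Psi chevG2 (algebraMap F E) g =
        PhiGL (Matrix.SpecialLinearGroup.map (algebraMap F E)
          (Matrix.SpecialLinearGroup.transvection hij c)) := by
  refine ⟨h8xU chevG2 h8base_G2.{u} r c, ?_, ?_⟩
  · unfold ChevalleyDatum.group
    apply Subgroup.subset_closure
    refine ⟨⟨r, hr⟩, c, ?_⟩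
    rw [h8xU_val]
    unfold ChevalleyDatum.x
    rw [dif_pos hr]
  · apply Units.ext
    rw [h8Psi_val, h8xU_val, h8x_map, PhiGL_val, ← hPhi]
    congr 1
    have : ((Matrix.SpecialLinearGroup.map (algebraMap F E)
        (Matrix.SpecialLinearGroup.transvection hij c) : Matrix.SpecialLinearGroup (Fin 3) E) :
        Matrix (Fin 3) (Fin 3) E) =
        ((1 : Matrix (Fin 3) (Fin 3) F) + Matrix.single i j c).map (algebraMap F E) := rfl
    rw [this, g2td1_map_transv]

end D

section D'

variable {F : Type u} [Field F] [Fintype F] {E : Type v} [Field E] [Fintype E] [Algebra F E]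

/-- D1 [S-M]. Every element of `SL₃(F)` lifts to `G₂(F)`. -/
theorem exists_lift (A : Matrix.SpecialLinearGroup (Fin 3) F) :
    ∃ g : GL chevG2.Idx F, g ∈ chevG2.group F ∧
      h8Psi chevG2 (algebraMap F E) g =
        PhiGL (Matrix.SpecialLinearGroup.map (algebraMap F E) A) := by
  refine Cfsg.Agent.Lib.Lead.SL_transvection_induction
    (fun A => ∃ g : GL chevG2.Idx F, g ∈ chevG2.group F ∧
      h8Psi chevG2 (algebraMap F E) g =
        PhiGL (Matrix.SpecialLinearGroup.map (algebraMap F E) A)) ?_ ?_ A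
  · intro i j hij c
    fin_cases i <;> fin_cases j
    · exact absurd rfl hij
    · exact g2td1_transv hij 6 (by decide) Phi_x6 c
    · exact g2td1_transv hij 11 (by decide) Phi_x11 c
    · exact g2td1_transv hij 5 (by decide) Phi_x5 c
    · exact absurd rfl hij
    · exact g2td1_transv hij 10 (by decide) Phi_x10 c
    · exact g2td1_transv hij 0 (by decide) Phi_x0 c
    · exact g2td1_transv hij 1 (by decide) Phi_x1 c
    · exact absurd rfl hij
  · rintro A B ⟨g, hg, hgA⟩ ⟨g', hg', hgB⟩
    exact ⟨g * g', mul_mem hg hg', by rw [map_mul, map_mul, map_mul, hgA, hgB]⟩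

end D'

end Cfsg.Agent.Lib.helper14.G2T
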