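import Mathlib
import Cfsg.Prelude.Def_ChevStructure
import Cfsg.Prelude.Def_ChevG2
import Cfsg.Agent.Lib.helper14.G2T.Basic
import Cfsg.Agent.Lib.helper8.ChevFix1
import Cfsg.Agent.Lib.Helper11.G2TB3
import Cfsg.Agent.Lib.Helper11.G2TD4
import Cfsg.Agent.Lib.Helper11.G2TD6
import Cfsg.Agent.Lib.Helper11.G2TD7
import Cfsg.Agent.Lib.Helper16.G2TC3
import Cfsg.Agent.Lib.Helper16.G2TC4
import Cfsg.Agent.Lib.Helper16.G2TD2
import Cfsg.Agent.Lib.Helper26.G2TD5
import Cfsg.Agent.Lib.Helper26.G2TD8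
import Cfsg.Agent.Lib.helper2.G2TD9core
import Cfsg.Agent.Lib.helper4.G2TD1
import Cfsg.Agent.Lib.helper4.G2TD3
import Cfsg.Agent.Lib.helper4.G2TF1core

/-!
# G2T row F1 (`g2t_main`), verbatim: `G₂(q)`, `q ≥ 3`, has a self-centralising cyclic subgroup of
order `q² + q + 1`.

`g2tf1_cent_sigma` is an own-name copy of row D9 (`cent_sigma`): `g2td9_core` (helper2) applied to
the landed rows D6, B3, D4, C3, D7, D8, D5.
-/

set_option autoImplicit false

namespace Cfsg.Agent.Lib.helper14.G2T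

open Cfsg.Lie Cfsg.Lie.ChevalleyDatum Cfsg.Agent.Lib.helper8 Matrix

universe u v

section D

variable {F : Type u} [Field F] [Fintype F] {E : Type v} [Field E] [Fintype E] [Algebra F E]

/-- own-name copy of D9 (`cent_sigma`). -/
theorem g2tf1_cent_sigma (hq : 3 ≤ Fintype.card F) (b : Module.Basis (Fin 3) F E) (lam : E)
    (hlam : orderOf lam = Fintype.card F ^ 2 + Fintype.card F + 1)
    (s : Matrix.SpecialLinearGroup (Fin 3) F) (P : Matrix.SpecialLinearGroup (Fin 3) E) (d : E)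
    (hd : d ≠ 0)
    (hP : (P : Matrix (Fin 3) (Fin 3) E) = Matrix.diagonal ![d, 1, 1] * moore b (Fintype.card F))
    (hPs : (P : Matrix (Fin 3) (Fin 3) E) * (s : Matrix (Fin 3) (Fin 3) F).map (algebraMap F E) =
      Matrix.diagonal (lamD lam (Fintype.card F)) * (P : Matrix (Fin 3) (Fin 3) E))
    (σ : GL chevG2.Idx F)
    (hσ : h8Psi chevG2 (algebraMap F E) σ =
      PhiGL (Matrix.SpecialLinearGroup.map (algebraMap F E) s))
    (g : GL chevG2.Idx F) (hg : g ∈ chevG2.group F) (hcomm : g * σ = σ * g) :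
    ∃ i : ℕ, g = σ ^ i :=
  g2td9_core b lam hlam P d hd hP σ g
    (cent_in_T hq lam hlam s P hPs σ hσ g hg hcomm)
    T_form.1
    (fun M P' c0 c1 hc0 hc1 h => block_extract M P' c0 c1 hc0 hc1 h)
    (fun M μ h => moore_shift b M μ h)
    (fun c0 c1 hc0 hc1 h1 h2 => mu_pow lam hlam c0 c1 hc0 hc1 h1 h2)
    (fun c0 c1 hc0 hc1 i => hh_pow c0 c1 hc0 hc1 i)
    (sigma_conj lam hlam s P hPs σ hσ)

end D

/-- F1 [M]. S2371. -/
theorem g2t_main {F : Type*} [Field F] [Fintype F] (q : ℕ) (hF : Fintype.card F = q) (hq : 3 ≤ q) :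
    ∃ H : Subgroup ↥(Cfsg.Lie.chevG2.group F), IsCyclic ↥H ∧ Nat.card ↥H = q ^ 2 + q + 1 ∧
      Subgroup.centralizer (H : Set ↥(Cfsg.Lie.chevG2.group F)) = H := by
  obtain ⟨p, hp⟩ := CharP.exists F
  haveI := hp
  haveI : Fact p.Prime := ⟨CharP.char_is_prime F p⟩
  letI : Fintype (FiniteField.Extension F p 3) := Fintype.ofFinite _
  have hE : Fintype.card (FiniteField.Extension F p 3) = Fintype.card F ^ 3 := by
    rw [Fintype.card_eq_nat_card, Fintype.card_eq_nat_card]
    exact FiniteField.natCard_extension F p 3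
  have hrank : Module.finrank F (FiniteField.Extension F p 3) = 3 :=
    FiniteField.finrank_extension F p 3
  have hq' : 3 ≤ Fintype.card F := hF ▸ hq
  exact g2tf1_core (E := FiniteField.Extension F p 3) q hF
    (Module.finBasisOfFinrankEq F (FiniteField.Extension F p 3) hrank)
    (exists_lam hE)
    (fun lam hlam => singer hE _ lam hlam)
    (fun A => exists_lift A)
    (fun lam s hs σ hσ => order_sigma _ lam s hs σ hσ)
    (fun lam hlam s P d hd hP hPs σ hσ g hg hcomm =>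
      g2tf1_cent_sigma hq' _ lam hlam s P d hd hP hPs σ hσ g hg hcomm)

end Cfsg.Agent.Lib.helper14.G2T
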