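import Mathlib
import Cfsg.Agent.Lib.helper4.HSOData

set_option autoImplicit false

/-! Coded permutations of 100 points: the tests run by the kernel and what they mean. -/

namespace Cfsg.Agent.Lib.helper4

/-- evaluate a number before passing it on -/
def hqForce {α : Type} (x : ℕ) (k : ℕ → α) : α :=
  match x with
  | 0 => k Nat.zero
  | t + 1 => k (Nat.succ t)

theorem hqForce_eq {α : Type} (x : ℕ) (k : ℕ → α) : hqForce x k = k x := by
  cases x <;> rfl

/-- a test on `n` successive numbers from `i` on -/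
def hqAll (f : ℕ → Bool) : ℕ → ℕ → Bool
  | 0, _ => true
  | n + 1, i => f i && hqForce (Nat.succ i) fun i' => hqAll f n i'

theorem hqAll_iff (f : ℕ → Bool) : ∀ n i, hqAll f n i = true ↔
    ∀ j, i ≤ j → j < i + n → f j = true := by
  intro n
  induction n with
  | zero =>
    intro i
    constructor
    · intro _ j h1 h2
      omega
    · intro _
      rfl
  | succ n ih =>
    intro i
    rw [hqAll, hqForce_eq, Bool.and_eq_true, ih]
    constructor
    · rintro ⟨h0, h⟩ j h1 h2
      rcases Nat.eq_or_lt_of_le h1 with rfl | h3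
      · exact h0
      · exact h j h3 (by omega)
    · intro h
      exact ⟨h i le_rfl (by omega), fun j h1 h2 => h j (by omega) (by omega)⟩

/-- seven tests on 3025 numbers each cover the numbers below 21175 -/
theorem hqAll_seven (f : ℕ → Bool) (h0 : hqAll f 3025 0 = true) (h1 : hqAll f 3025 3025 = true)
    (h2 : hqAll f 3025 6050 = true) (h3 : hqAll f 3025 9075 = true)
    (h4 : hqAll f 3025 12100 = true) (h5 : hqAll f 3025 15125 = true)
    (h6 : hqAll f 3025 18150 = true) (i : ℕ) (hi : i < 21175) : f i = true := by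
  rw [hqAll_iff] at h0 h1 h2 h3 h4 h5 h6
  by_cases c0 : i < 3025
  · exact h0 i (by omega) (by omega)
  by_cases c1 : i < 6050
  · exact h1 i (by omega) (by omega)
  by_cases c2 : i < 9075
  · exact h2 i (by omega) (by omega)
  by_cases c3 : i < 12100
  · exact h3 i (by omega) (by omega)
  by_cases c4 : i < 15125
  · exact h4 i (by omega) (by omega)
  by_cases c5 : i < 18150
  · exact h5 i (by omega) (by omega)
  · exact h6 i (by omega) (by omega)

/-- the image of a point under a coded permutation -/
def hqLook (T p : ℕ) : ℕ := Nat.land (Nat.shiftRight T (Nat.mul 7 p)) 127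

/-- the image of a point under a word of coded permutations, the last letter acting first -/
def hqEv : List ℕ → ℕ → ℕ
  | [], p => p
  | T :: w, p => hqLook T (hqEv w p)

theorem hqEv_append (w v : List ℕ) (p : ℕ) : hqEv (w ++ v) p = hqEv w (hqEv v p) := by
  induction w with
  | nil => rfl
  | cons T w ih =>
    show hqLook T (hqEv (w ++ v) p) = hqLook T (hqEv w (hqEv v p))
    rw [ih]

/-- two words of coded permutations agree on the 100 points -/
def hqEqW (w1 w2 : List ℕ) : Bool := hqAll (fun p => Nat.beq (hqEv w1 p) (hqEv w2 p)) 100 0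

theorem hqEqW_iff (w1 w2 : List ℕ) :
    hqEqW w1 w2 = true ↔ ∀ p, p < 100 → hqEv w1 p = hqEv w2 p := by
  unfold hqEqW
  rw [hqAll_iff]
  constructor
  · intro h p hp
    exact Nat.eq_of_beq_eq_true (h p (Nat.zero_le _) (by omega))
  · intro h p _ hp
    have := h p (by omega)
    rw [this]
    exact Nat.beq_refl _

/-- an entry of a table in rows of twenty numbers with fifty-five entries each -/
def hqTab (T : List (List ℕ)) (w m i : ℕ) : ℕ :=
  Nat.land (Nat.shiftRight ((T.getD (Nat.div i 1100) []).getD (Nat.mod (Nat.div i 55) 20) 0)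
    (Nat.mul w (Nat.mod i 55))) m

/-- the position of the conjugate of an involution under a generator -/
def hqNx (k i : ℕ) : ℕ := hqTab (cond (Nat.beq k 0) hqNx0 hqNx1) 15 32767 i

/-- the words in the codes of the sixteen letters -/
def hqWd (w : List ℕ) : List ℕ := w.map fun l => hqG.getD (Nat.mod l 16) 0

/-- the words in the codes of the generators and their inverses -/
def hqWdB (w : List ℕ) : List ℕ :=
  w.map fun l => [hqG.getD 0 0, hqG.getD 1 0, hqG.getD 8 0, hqG.getD 9 0].getD (Nat.mod l 4) 0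

/-- the words in the codes of the powers of the element of order 11 and the involution -/
def hqWd3 (w : List ℕ) : List ℕ := w.map fun l => hqCA.getD l 0

/-- the images of the six points under a word of coded permutations -/
def hqSig (w : List ℕ) : ℕ :=
  Nat.add (hqEv w (hqB.getD 0 0)) (Nat.mul 128 (Nat.add (hqEv w (hqB.getD 1 0)) (Nat.mul 128
    (Nat.add (hqEv w (hqB.getD 2 0)) (Nat.mul 128 (Nat.add (hqEv w (hqB.getD 3 0)) (Nat.mul 128
      (Nat.add (hqEv w (hqB.getD 4 0)) (Nat.mul 128 (hqEv w (hqB.getD 5 0)))))))))))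

/-- two words of coded permutations agree on the six points -/
def hqEqB (w v : List ℕ) : Bool :=
  Nat.beq (hqEv w (hqB.getD 0 0)) (hqEv v (hqB.getD 0 0)) &&
    (Nat.beq (hqEv w (hqB.getD 1 0)) (hqEv v (hqB.getD 1 0)) &&
    (Nat.beq (hqEv w (hqB.getD 2 0)) (hqEv v (hqB.getD 2 0)) &&
    (Nat.beq (hqEv w (hqB.getD 3 0)) (hqEv v (hqB.getD 3 0)) &&
    (Nat.beq (hqEv w (hqB.getD 4 0)) (hqEv v (hqB.getD 4 0)) &&
    Nat.beq (hqEv w (hqB.getD 5 0)) (hqEv v (hqB.getD 5 0))))))

/-- decode a word, five bits for each letter -/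
def hqDec : ℕ → ℕ → List ℕ
  | 0, _ => []
  | f + 1, n =>
    match Nat.land n 31 with
    | 0 => []
    | d + 1 => d :: hqDec f (Nat.shiftRight n 5)

/-- the conjugating word of the involution of a position -/
def hqLWd (i : ℕ) : List ℕ :=
  hqDec 6 (hqTab hqLW 30 1073741823 i)

/-- the inverse of a word in the sixteen letters -/
def hqInvW (w : List ℕ) : List ℕ := w.reverse.map fun l => Nat.mod (Nat.add l 8) 16

/-- the word of coded permutations of the involution of a position -/
def hqXc (i : ℕ) : List ℕ :=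
  hqWd (hqLWd i) ++ (cond (Nat.blt i 5775) hqTA hqTB :: hqWd (hqInvW (hqLWd i)))

/-- the stored images of the six points under the involution of a position -/
def hqXs (i : ℕ) : ℕ := hqTab hqLSig 42 4398046511103 i

/-- the word of an element of the subgroup of order 512 -/
def hqSw (j : ℕ) : List ℕ := (hqSW.getD j []).flatMap fun k => hqSgw.getD k []

/-- a coded permutation and a permutation agree -/
def HqRep (T : ℕ) (g : Equiv.Perm (Fin 100)) : Prop := ∀ i : Fin 100, (g i).1 = hqLook T i.1

theorem hqRep_ev (w : List ℕ) (gs : List (Equiv.Perm (Fin 100))) (h : List.Forall₂ HqRep w gs)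
    (i : Fin 100) : (gs.prod i).1 = hqEv w i.1 := by
  induction h with
  | nil => rfl
  | cons hT _ ih =>
    rw [List.prod_cons, Equiv.Perm.mul_apply, hT, ih]
    rfl

/-- words that agree on all points have the same product -/
theorem hqEqW_prod (w1 w2 : List ℕ) (gs1 gs2 : List (Equiv.Perm (Fin 100)))
    (h1 : List.Forall₂ HqRep w1 gs1) (h2 : List.Forall₂ HqRep w2 gs2)
    (h : hqEqW w1 w2 = true) : gs1.prod = gs2.prod := by
  rw [hqEqW_iff] at h
  apply Equiv.ext
  intro i
  apply Fin.ext
  rw [hqRep_ev w1 gs1 h1, hqRep_ev w2 gs2 h2]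
  exact h i.1 i.2

/-- a code that agrees with a word is a code of the product -/
theorem hqRep_of_eqW (T : ℕ) (w : List ℕ) (gs : List (Equiv.Perm (Fin 100)))
    (h1 : List.Forall₂ HqRep w gs) (h : hqEqW [T] w = true) : HqRep T gs.prod := by
  rw [hqEqW_iff] at h
  intro i
  rw [hqRep_ev w gs h1, ← h i.1 i.2]
  rfl

/-- products that are equal agree on all points -/
theorem hqEqW_of_prod (w1 w2 : List ℕ) (gs1 gs2 : List (Equiv.Perm (Fin 100)))
    (h1 : List.Forall₂ HqRep w1 gs1) (h2 : List.Forall₂ HqRep w2 gs2)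
    (h : gs1.prod = gs2.prod) : hqEqW w1 w2 = true := by
  rw [hqEqW_iff]
  intro p hp
  have e1 := hqRep_ev w1 gs1 h1 ⟨p, hp⟩
  have e2 := hqRep_ev w2 gs2 h2 ⟨p, hp⟩
  rw [← e1, ← e2, h]

theorem hqRep_eq (T : ℕ) (g h : Equiv.Perm (Fin 100)) (hg : HqRep T g) (hh : HqRep T h) :
    g = h := by
  apply Equiv.ext
  intro i
  apply Fin.ext
  rw [hg i, hh i]

/-- the code of the inverse -/
theorem hqRep_inv (T T' : ℕ) (g : Equiv.Perm (Fin 100)) (hg : HqRep T g)
    (h : hqEqW [T', T] [] = true) : HqRep T' g⁻¹ := by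
  rw [hqEqW_iff] at h
  intro i
  have h1 := h (g⁻¹ i).1 (g⁻¹ i).2
  change hqLook T' (hqLook T (g⁻¹ i).1) = (g⁻¹ i).1 at h1
  rw [← hg (g⁻¹ i)] at h1
  rw [← h1]
  simp

end Cfsg.Agent.Lib.helper4
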