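import Mathlib
import Cfsg.Agent.Lib.helper4.HSOBase

set_option autoImplicit false

/-! The tests run by the kernel for the outer automorphism group of the Higman–Sims group on
100 points. -/

namespace Cfsg.Agent.Lib.helper4

/-- the word raised to a power -/
def hqRepW (w : List ℕ) : ℕ → List ℕ
  | 0 => []
  | n + 1 => w ++ hqRepW w n

/-- the pattern of orders relative to a coded element and its inverse, or membership in a list -/
def hqPatW (C Ci : ℕ) (O : List ℕ) (X : List ℕ) (s : ℕ) : Bool :=
  match hqEqB (hqRepW (C :: X) 3) [] with
  | false => true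
  | true =>
    match hqEqB (hqRepW (C :: X ++ Ci :: X) 10) [] with
    | false => true
    | true =>
      match hqEqB (hqRepW (C :: X ++ Ci :: X) 5) [] with
      | true => true
      | false => O.any fun o => Nat.beq o s

/-- the pattern relative to the element of order 11 -/
def hqPat (i : ℕ) : Bool := hqPatW hqC hqCi hqOrbSigP (hqXc i) (hqXs i)

/-- the pattern relative to its inverse -/
def hqPatM (i : ℕ) : Bool := hqPatW hqCi hqC hqOrbSigM (hqXc i) (hqXs i)

/-- the conjugate of a listed involution under a generator is listed -/
def hqCl (k i : ℕ) : Bool :=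
  Nat.blt (hqNx k i) 21175 &&
    Nat.beq (hqSig (hqG.getD k 0 :: hqXc i ++ [hqG.getD (Nat.add k 8) 0])) (hqXs (hqNx k i))

/-- the involution does not invert the element of order 11 -/
def hqNc (i : ℕ) : Bool :=
  !(hqEqB (hqXc i ++ [hqC]) (hqCi :: hqXc i))

/-- the stored images are the images -/
def hqSg (i : ℕ) : Bool := Nat.beq (hqXs i) (hqSig (hqXc i))

end Cfsg.Agent.Lib.helper4
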