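import Mathlib
import Cfsg.Agent.Lib.helper4.HSOChkDefs

set_option autoImplicit false

/-! Kernel checks for the outer automorphism group of the Higman–Sims group on 100 points. -/

namespace Cfsg.Agent.Lib.helper4

set_option maxRecDepth 100000 in
theorem hqChkI : hqG.length = 16 ∧ hqEw.length = 16 ∧
    (∀ l, l < 16 → hqEqW [hqG.getD (Nat.mod (Nat.add l 8) 16) 0, hqG.getD l 0] [] = true) ∧
    (∀ l, l < 16 → hqEqW [hqG.getD l 0] (hqWdB (hqEw.getD l [])) = true) := by decide +kernel

set_option maxRecDepth 100000 in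
theorem hqChkC : hqEqW [hqC] (hqWd hqCw) = true := by decide +kernel

set_option maxRecDepth 100000 in
theorem hqChkCi : hqEqW [hqCi, hqC] [] = true := by decide +kernel

set_option maxRecDepth 100000 in
theorem hqChkA : hqEqW [hqA] (hqWd hqAw) = true := by decide +kernel

set_option maxRecDepth 100000 in
theorem hqChkU : hqEqW [hqU] (hqWd hqUw) = true := by decide +kernel

set_option maxRecDepth 100000 in
theorem hqChkTA : hqEqW [hqTA] (hqWd hqTAw) = true := by decide +kernel

set_option maxRecDepth 100000 in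
theorem hqChkTB : hqEqW [hqTB] (hqWd hqTBw) = true := by decide +kernel

set_option maxRecDepth 100000 in
theorem hqChkUC : hqEqW [hqU, hqC] [hqC, hqC, hqC, hqU] = true := by decide +kernel

set_option maxRecDepth 100000 in
theorem hqChkC11 : hqEqW (hqRepW [hqC] 11) [] = true := by decide +kernel

set_option maxRecDepth 100000 in
theorem hqChkC1 : hqEqW (hqRepW [hqC] 1) [] = false := by decide +kernel

set_option maxRecDepth 100000 in
theorem hqChkAA : hqEqW [hqA, hqA] [] = true := by decide +kernel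

set_option maxRecDepth 100000 in
theorem hqChkA1 : hqEqW (hqRepW [hqA] 1) [] = false := by decide +kernel

set_option maxRecDepth 100000 in
theorem hqChkP1 : hqEqW (hqRepW [hqC, hqA] 3) [] = true := by decide +kernel

set_option maxRecDepth 100000 in
theorem hqChkP2 : hqEqW (hqRepW [hqC, hqA, hqCi, hqA] 10) [] = true := by decide +kernel

set_option maxRecDepth 100000 in
theorem hqChkP3 : hqEqW (hqRepW [hqC, hqA, hqCi, hqA] 5) [] = false := by decide +kernel

set_option maxRecDepth 100000 in
theorem hqChkCA : hqCA.length = 11 ∧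
    (∀ k, k < 10 → hqEqW [hqCA.getD k 0] (hqRepW [hqC] (k + 1)) = true) ∧
    hqCA.getD 10 0 = hqA := by
  decide +kernel

set_option maxRecDepth 100000 in
theorem hqChkGen : ∀ k, k < 2 → hqEqW [hqG.getD k 0] (hqWd3 (hqGw.getD k [])) = true := by
  decide +kernel

set_option maxRecDepth 100000 in
theorem hqChkGw : ∀ k, k < 2 → ∀ l ∈ hqGw.getD k [], l < 11 := by decide +kernel

set_option maxRecDepth 100000 in
theorem hqChkZZ : hqEqW [hqZ, hqZ] [] = true := by decide +kernel

set_option maxRecDepth 100000 in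
theorem hqChkZg : ∀ k, k < 2 → hqEqW [hqZ, hqG.getD k 0, hqZ] (hqWd (hqZw.getD k [])) = true := by
  decide +kernel

set_option maxRecDepth 100000 in
theorem hqChkZC : hqEqW [hqZ, hqC, hqZ] [hqCi] = true := by decide +kernel

set_option maxRecDepth 100000 in
theorem hqChkZA : hqEqW [hqA2] [hqZ, hqA, hqZ] = true := by decide +kernel

set_option maxRecDepth 100000 in
theorem hqChkZlt : ∀ i, i < 100 → hqLook hqZ i < 100 := by decide +kernel

set_option maxRecDepth 100000 in
theorem hqChkOrb : hqOrbSigP.length = 11 ∧ hqOrbSigM.length = 11 ∧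
    (∀ j, j < 11 → hqOrbSigP.getD j 0 = hqSig (hqRepW [hqC] j ++ hqA :: hqRepW [hqCi] j)) ∧
    (∀ j, j < 11 → hqOrbSigM.getD j 0 = hqSig (hqRepW [hqC] j ++ hqA2 :: hqRepW [hqCi] j)) := by
  decide +kernel

set_option maxRecDepth 100000 in
theorem hqChkS1 : hqSw 0 = [] ∧ hqSW.length = 512 ∧
    (∀ k, k < hqSgw.length → ∀ j, j < 512 → (hqNxtS.getD k []).getD j 0 < 512 ∧
      hqEqB (hqWd (hqSgw.getD k [] ++ hqSw j))
        (hqWd (hqSw ((hqNxtS.getD k []).getD j 0))) = true) := by
  decide +kernel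

set_option maxRecDepth 100000 in
theorem hqChkS3 : (∀ k, k < 511 → hqSig (hqWd (hqSw (hqSord.getD k 0))) <
      hqSig (hqWd (hqSw (hqSord.getD (k + 1) 0)))) ∧
    (∀ j, j < 512 → hqSrk.getD j 0 < 512 ∧ hqSord.getD (hqSrk.getD j 0) 0 = j) := by
  decide +kernel

set_option maxRecDepth 100000 in
theorem hqChkS4 : ∀ j, j < 512 → hqEqB (hqWd (hqSw j ++ hqSw j)) [] = true →
    hqEqB (hqWd (hqSw j)) [] = false →
    hqIdxS.getD j 0 < 21175 ∧ hqXs (hqIdxS.getD j 0) = hqSig (hqWd (hqSw j)) := by
  decide +kernel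

end Cfsg.Agent.Lib.helper4
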