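import Mathlib
import Cfsg.Agent.Lib.helper4.HSOChkDefs

set_option autoImplicit false

/-! Kernel check: the stored images of the six points under the involutions. -/

namespace Cfsg.Agent.Lib.helper4

set_option maxRecDepth 10000000 in
theorem hqChkLx0 : hqAll (hqSg) 3025 0 = true := by decide +kernel

set_option maxRecDepth 10000000 in
theorem hqChkLx1 : hqAll (hqSg) 3025 3025 = true := by decide +kernel

set_option maxRecDepth 10000000 in
theorem hqChkLx2 : hqAll (hqSg) 3025 6050 = true := by decide +kernel

set_option maxRecDepth 10000000 in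
theorem hqChkLx3 : hqAll (hqSg) 3025 9075 = true := by decide +kernel

set_option maxRecDepth 10000000 in
theorem hqChkLx4 : hqAll (hqSg) 3025 12100 = true := by decide +kernel

set_option maxRecDepth 10000000 in
theorem hqChkLx5 : hqAll (hqSg) 3025 15125 = true := by decide +kernel

set_option maxRecDepth 10000000 in
theorem hqChkLx6 : hqAll (hqSg) 3025 18150 = true := by decide +kernel

theorem hqChkL (i : ℕ) (hi : i < 21175) : (hqSg) i = true :=
  hqAll_seven _ hqChkLx0 hqChkLx1 hqChkLx2 hqChkLx3 hqChkLx4 hqChkLx5 hqChkLx6 i hi

end Cfsg.Agent.Lib.helper4
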