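import Mathlib
import Cfsg.Agent.Lib.helper4.HSOChkDefs

set_option autoImplicit false

/-! Kernel check: no involution inverts the element of order 11. -/

namespace Cfsg.Agent.Lib.helper4

set_option maxRecDepth 10000000 in
theorem hqChkMx0 : hqAll (hqNc) 3025 0 = true := by decide +kernel

set_option maxRecDepth 10000000 in
theorem hqChkMx1 : hqAll (hqNc) 3025 3025 = true := by decide +kernel

set_option maxRecDepth 10000000 in
theorem hqChkMx2 : hqAll (hqNc) 3025 6050 = true := by decide +kernel

set_option maxRecDepth 10000000 in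
theorem hqChkMx3 : hqAll (hqNc) 3025 9075 = true := by decide +kernel

set_option maxRecDepth 10000000 in
theorem hqChkMx4 : hqAll (hqNc) 3025 12100 = true := by decide +kernel

set_option maxRecDepth 10000000 in
theorem hqChkMx5 : hqAll (hqNc) 3025 15125 = true := by decide +kernel

set_option maxRecDepth 10000000 in
theorem hqChkMx6 : hqAll (hqNc) 3025 18150 = true := by decide +kernel

theorem hqChkM (i : ℕ) (hi : i < 21175) : (hqNc) i = true :=
  hqAll_seven _ hqChkMx0 hqChkMx1 hqChkMx2 hqChkMx3 hqChkMx4 hqChkMx5 hqChkMx6 i hi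

end Cfsg.Agent.Lib.helper4
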