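import Mathlib
import Cfsg.Agent.Lib.helper4.HSOChkDefs

set_option autoImplicit false

/-! Kernel check: the list of involutions is closed under conjugation by generator 1. -/

namespace Cfsg.Agent.Lib.helper4

set_option maxRecDepth 10000000 in
theorem hqChkN1x0 : hqAll (hqCl 1) 3025 0 = true := by decide +kernel

set_option maxRecDepth 10000000 in
theorem hqChkN1x1 : hqAll (hqCl 1) 3025 3025 = true := by decide +kernel

set_option maxRecDepth 10000000 in
theorem hqChkN1x2 : hqAll (hqCl 1) 3025 6050 = true := by decide +kernel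

set_option maxRecDepth 10000000 in
theorem hqChkN1x3 : hqAll (hqCl 1) 3025 9075 = true := by decide +kernel

set_option maxRecDepth 10000000 in
theorem hqChkN1x4 : hqAll (hqCl 1) 3025 12100 = true := by decide +kernel

set_option maxRecDepth 10000000 in
theorem hqChkN1x5 : hqAll (hqCl 1) 3025 15125 = true := by decide +kernel

set_option maxRecDepth 10000000 in
theorem hqChkN1x6 : hqAll (hqCl 1) 3025 18150 = true := by decide +kernel

theorem hqChkN1 (i : ℕ) (hi : i < 21175) : (hqCl 1) i = true :=
  hqAll_seven _ hqChkN1x0 hqChkN1x1 hqChkN1x2 hqChkN1x3 hqChkN1x4 hqChkN1x5 hqChkN1x6 i hi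

end Cfsg.Agent.Lib.helper4
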