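import Mathlib
import Cfsg.Agent.Lib.helper4.HSOChkDefs

set_option autoImplicit false

/-! Kernel check: the involutions with the pattern of orders are the eleven listed ones. -/

namespace Cfsg.Agent.Lib.helper4

set_option maxRecDepth 10000000 in
theorem hqChkPx0 : hqAll (hqPat) 3025 0 = true := by decide +kernel

set_option maxRecDepth 10000000 in
theorem hqChkPx1 : hqAll (hqPat) 3025 3025 = true := by decide +kernel

set_option maxRecDepth 10000000 in
theorem hqChkPx2 : hqAll (hqPat) 3025 6050 = true := by decide +kernel

set_option maxRecDepth 10000000 in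
theorem hqChkPx3 : hqAll (hqPat) 3025 9075 = true := by decide +kernel

set_option maxRecDepth 10000000 in
theorem hqChkPx4 : hqAll (hqPat) 3025 12100 = true := by decide +kernel

set_option maxRecDepth 10000000 in
theorem hqChkPx5 : hqAll (hqPat) 3025 15125 = true := by decide +kernel

set_option maxRecDepth 10000000 in
theorem hqChkPx6 : hqAll (hqPat) 3025 18150 = true := by decide +kernel

theorem hqChkP (i : ℕ) (hi : i < 21175) : (hqPat) i = true :=
  hqAll_seven _ hqChkPx0 hqChkPx1 hqChkPx2 hqChkPx3 hqChkPx4 hqChkPx5 hqChkPx6 i hi

end Cfsg.Agent.Lib.helper4
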