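import Mathlib
import Cfsg.Agent.Lib.helper4.HSOChkDefs

set_option autoImplicit false

/-! Kernel check: the involutions with the inverse pattern of orders are the eleven listed ones. -/

namespace Cfsg.Agent.Lib.helper4

set_option maxRecDepth 10000000 in
theorem hqChkQx0 : hqAll (hqPatM) 3025 0 = true := by decide +kernel

set_option maxRecDepth 10000000 in
theorem hqChkQx1 : hqAll (hqPatM) 3025 3025 = true := by decide +kernel

set_option maxRecDepth 10000000 in
theorem hqChkQx2 : hqAll (hqPatM) 3025 6050 = true := by decide +kernel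

set_option maxRecDepth 10000000 in
theorem hqChkQx3 : hqAll (hqPatM) 3025 9075 = true := by decide +kernel

set_option maxRecDepth 10000000 in
theorem hqChkQx4 : hqAll (hqPatM) 3025 12100 = true := by decide +kernel

set_option maxRecDepth 10000000 in
theorem hqChkQx5 : hqAll (hqPatM) 3025 15125 = true := by decide +kernel

set_option maxRecDepth 10000000 in
theorem hqChkQx6 : hqAll (hqPatM) 3025 18150 = true := by decide +kernel

theorem hqChkQ (i : ℕ) (hi : i < 21175) : (hqPatM) i = true :=
  hqAll_seven _ hqChkQx0 hqChkQx1 hqChkQx2 hqChkQx3 hqChkQx4 hqChkQx5 hqChkQx6 i hi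

end Cfsg.Agent.Lib.helper4
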