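import Mathlib
import Cfsg.Agent.Lib.helper23.HsqIso
import Cfsg.Agent.Lib.helper4.HSOChk

set_option autoImplicit false

/-! The model of the Higman–Sims group on 100 points used for its outer automorphism group. -/

namespace Cfsg.Agent.Lib.helper4

open Cfsg.Agent.Lib.helper23

/-- the group on 100 points -/
abbrev HQ : Subgroup (Equiv.Perm (Fin 100)) := HS100

/-- its two generators -/
def hqg (k : Fin 2) : Equiv.Perm (Fin 100) :=
  match k with
  | 0 => (hsqgen hsqT1x0 hsqI1x0).perm 100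
  | 1 => (hsqgen hsqT1x1 hsqI1x1).perm 100

theorem hqg_zero : hqg 0 = (hsqgen hsqT1x0 hsqI1x0).perm 100 := rfl

theorem hqg_one : hqg 1 = (hsqgen hsqT1x1 hsqI1x1).perm 100 := rfl

theorem hq_own : hsqL1.own = [hsqgen hsqT1x0 hsqI1x0, hsqgen hsqT1x1 hsqI1x1] := rfl

theorem HQ_eq : HQ = Subgroup.closure (Set.range hqg) := by
  have : Set.range hqg = pgSet 100 hsqL1.own := by
    ext x
    constructor
    · rintro ⟨k, rfl⟩
      rcases k with ⟨k, hk⟩
      interval_cases k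
      · exact ⟨_, by rw [hq_own]; exact List.mem_cons_self, rfl⟩
      · exact ⟨_, by rw [hq_own]; exact List.mem_cons_of_mem _ List.mem_cons_self, rfl⟩
    · rintro ⟨P, hP, rfl⟩
      rw [hq_own] at hP
      rcases List.mem_cons.1 hP with rfl | hP
      · exact ⟨0, rfl⟩
      · rcases List.mem_cons.1 hP with rfl | hP
        · exact ⟨1, rfl⟩
        · exact absurd hP List.not_mem_nil
  rw [this]

theorem HQ_card : Nat.card HQ = 44352000 := HS100_card

theorem hqg_mem (k : Fin 2) : hqg k ∈ HQ := by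
  rw [HQ_eq]
  exact Subgroup.subset_closure ⟨k, rfl⟩

/-- the points whose images determine an element -/
def hqPt (k : ℕ) : Fin 100 := ⟨hqB.getD k 0 % 100, Nat.mod_lt _ (by norm_num)⟩

set_option maxRecDepth 1000000 in
theorem HQ_rigid (g : Equiv.Perm (Fin 100)) (hg : g ∈ HQ) (h : ∀ k, k < 6 → g (hqPt k) = hqPt k) :
    g = 1 := by
  have hc1 : pgChkW 100 (pgRigidAll 100).base [hsqL1, hsqL2, hsqL3, hsqL4, hsqL5, hsqL6] = true :=
    hsqchkC
  have hc := hc1
  rw [pgChkW_cons, Bool.and_eq_true] at hc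
  have hc2 : pgChkW 100 (pgRigidAll 100).base [hsqL2, hsqL3, hsqL4, hsqL5, hsqL6] = true := hc.2
  have hc' := hc.2
  rw [pgChkW_cons, Bool.and_eq_true] at hc'
  have hc3 : pgChkW 100 (pgRigidAll 100).base [hsqL3, hsqL4, hsqL5, hsqL6] = true := hc'.2
  have hc'' := hc'.2
  rw [pgChkW_cons, Bool.and_eq_true] at hc''
  have hc4 : pgChkW 100 (pgRigidAll 100).base [hsqL4, hsqL5, hsqL6] = true := hc''.2
  have hc''' := hc''.2
  rw [pgChkW_cons, Bool.and_eq_true] at hc'''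
  have hc5 : pgChkW 100 (pgRigidAll 100).base [hsqL5, hsqL6] = true := hc'''.2
  have hc'''' := hc'''.2
  rw [pgChkW_cons, Bool.and_eq_true] at hc''''
  have hc6 : pgChkW 100 (pgRigidAll 100).base [hsqL6] = true := hc''''.2
  have hg' : g ∈ pgGrpW 100 [hsqL1, hsqL2, hsqL3, hsqL4, hsqL5, hsqL6] := by
    have hh : g ∈ HS100 := hg
    rw [HS100_eq] at hh
    exact hh
  obtain ⟨hb1, k1, -, -, -⟩ := pgLvlW_main (pgRigidAll 100) hc1 le_top
  obtain ⟨hb2, k2, -, -, -⟩ := pgLvlW_main (pgRigidAll 100) hc2 le_top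
  obtain ⟨hb3, k3, -, -, -⟩ := pgLvlW_main (pgRigidAll 100) hc3 le_top
  obtain ⟨hb4, k4, -, -, -⟩ := pgLvlW_main (pgRigidAll 100) hc4 le_top
  obtain ⟨hb5, k5, -, -, -⟩ := pgLvlW_main (pgRigidAll 100) hc5 le_top
  obtain ⟨hb6, k6, -, -, -⟩ := pgLvlW_main (pgRigidAll 100) hc6 le_top
  have e0 : (⟨hsqL1.b, hb1⟩ : Fin 100) = hqPt 0 := Fin.ext (show hsqL1.b = hqB.getD 0 0 % 100 by decide)
  have e1 : (⟨hsqL2.b, hb2⟩ : Fin 100) = hqPt 1 := Fin.ext (show hsqL2.b = hqB.getD 1 0 % 100 by decide)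
  have e2 : (⟨hsqL3.b, hb3⟩ : Fin 100) = hqPt 2 := Fin.ext (show hsqL3.b = hqB.getD 2 0 % 100 by decide)
  have e3 : (⟨hsqL4.b, hb4⟩ : Fin 100) = hqPt 3 := Fin.ext (show hsqL4.b = hqB.getD 3 0 % 100 by decide)
  have e4 : (⟨hsqL5.b, hb5⟩ : Fin 100) = hqPt 4 := Fin.ext (show hsqL5.b = hqB.getD 4 0 % 100 by decide)
  have e5 : (⟨hsqL6.b, hb6⟩ : Fin 100) = hqPt 5 := Fin.ext (show hsqL6.b = hqB.getD 5 0 % 100 by decide)
  have g1 := k1 g hg' (by rw [e0]; exact h 0 (by norm_num))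
  have g2 := k2 g g1 (by rw [e1]; exact h 1 (by norm_num))
  have g3 := k3 g g2 (by rw [e2]; exact h 2 (by norm_num))
  have g4 := k4 g g3 (by rw [e3]; exact h 3 (by norm_num))
  have g5 := k5 g g4 (by rw [e4]; exact h 4 (by norm_num))
  have g6 := k6 g g5 (by rw [e5]; exact h 5 (by norm_num))
  rw [pgGrpW_nil, Subgroup.mem_bot] at g6
  exact g6

theorem hq_ok0 : (hsqgen hsqT1x0 hsqI1x0).ok 100 = true :=
  hsqok _ (by rw [hq_own]; exact List.mem_cons_self)

theorem hq_ok1 : (hsqgen hsqT1x1 hsqI1x1).ok 100 = true :=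
  hsqok _ (by rw [hq_own]; exact List.mem_cons_of_mem _ List.mem_cons_self)

set_option maxRecDepth 100000 in
theorem hqChkG0 : ∀ i : Fin 100, hsqlk hsqT1x0 i.1 = hqLook (hqG.getD 0 0) i.1 := by
  decide +kernel

set_option maxRecDepth 100000 in
theorem hqChkG1 : ∀ i : Fin 100, hsqlk hsqT1x1 i.1 = hqLook (hqG.getD 1 0) i.1 := by
  decide +kernel

theorem hqChkG : ∀ k : Fin 2, ∀ i : Fin 100, (hqg k i).1 = hqLook (hqG.getD k.1 0) i.1 := by
  intro k i
  rcases k with ⟨k, hk⟩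
  interval_cases k
  · rw [show hqg ⟨0, hk⟩ = (hsqgen hsqT1x0 hsqI1x0).perm 100 from rfl, PFun.perm_apply hq_ok0]
    exact hqChkG0 i
  · rw [show hqg ⟨1, hk⟩ = (hsqgen hsqT1x1 hsqI1x1).perm 100 from rfl, PFun.perm_apply hq_ok1]
    exact hqChkG1 i

/-- the first generator, of order 11, fixes the point 21 only -/
theorem hq_fix0 : ∀ i : Fin 100, hsqlk hsqT1x0 i.1 = i.1 → i.1 = 21 := by
  decide +kernel

theorem HQ_center : Subgroup.center HQ = ⊥ := by
  rw [eq_bot_iff]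
  intro z hz
  rw [Subgroup.mem_bot]
  have hc : hqg 0 ∈ HQ := hqg_mem 0
  have hcomm : z.1 * hqg 0 = hqg 0 * z.1 := by
    have := (Subgroup.mem_center_iff.1 hz) ⟨hqg 0, hc⟩
    have h2 := congrArg Subtype.val this
    rw [Subgroup.coe_mul, Subgroup.coe_mul] at h2
    exact h2.symm
  have hfix : ∀ i : Fin 100, hqg 0 i = i → i = ⟨21, by norm_num⟩ := by
    intro i hi
    apply Fin.ext
    apply hq_fix0 i
    have := congrArg Fin.val hi
    rw [hqg_zero, PFun.perm_apply hq_ok0] at this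
    exact this
  have h21 : hqg 0 ⟨21, by norm_num⟩ = ⟨21, by norm_num⟩ := by
    apply Fin.ext
    rw [hqg_zero, PFun.perm_apply hq_ok0]
    decide +kernel
  have hz21 : z.1 ⟨21, by norm_num⟩ = ⟨21, by norm_num⟩ := by
    apply hfix
    have := congrArg (fun f : Equiv.Perm (Fin 100) => f ⟨21, by norm_num⟩) hcomm
    simp only [Equiv.Perm.coe_mul, Function.comp_apply] at this
    rw [h21] at this
    exact this.symm
  apply Subtype.ext
  rw [Subgroup.coe_one]
  apply Equiv.ext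
  intro y
  obtain ⟨g, hg⟩ := MulAction.exists_smul_eq HQ (⟨21, by norm_num⟩ : Fin 100) y
  have hg' : g.1 ⟨21, by norm_num⟩ = y := hg
  have hzg : z.1 * g.1 = g.1 * z.1 := by
    have := (Subgroup.mem_center_iff.1 hz) g
    have h2 := congrArg Subtype.val this
    rw [Subgroup.coe_mul, Subgroup.coe_mul] at h2
    exact h2.symm
  have := congrArg (fun f : Equiv.Perm (Fin 100) => f ⟨21, by norm_num⟩) hzg
  simp only [Equiv.Perm.coe_mul, Function.comp_apply] at this
  rw [hz21, hg'] at this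
  rw [Equiv.Perm.coe_one, id]
  exact this

attribute [irreducible] hqg

end Cfsg.Agent.Lib.helper4
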