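import Mathlib
import Cfsg.Agent.Lib.helper4.HSOModel

set_option autoImplicit false

/-! The Higman–Sims group on 100 points: words in the letters, their codes, and the six
points that determine an element. -/

namespace Cfsg.Agent.Lib.helper4

/-- elements that agree on the six points are equal -/
theorem hq_eq_of_base (g h : Equiv.Perm (Fin 100)) (hg : g ∈ HQ) (hh : h ∈ HQ)
    (hb : ∀ k, k < 6 → g (hqPt k) = h (hqPt k)) : g = h := by
  have := HQ_rigid (h⁻¹ * g) (Subgroup.mul_mem _ (Subgroup.inv_mem _ hh) hg) (by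
    intro k hk
    rw [Equiv.Perm.mul_apply, hb k hk]
    simp)
  calc g = h * (h⁻¹ * g) := by group
    _ = h := by rw [this, mul_one]

/-- the generators and their inverses, indexed by all numbers -/
noncomputable def hqGb (l : ℕ) : Equiv.Perm (Fin 100) :=
  match l % 4 with
  | 0 => hqg 0
  | 1 => hqg 1
  | 2 => (hqg 0)⁻¹
  | _ => (hqg 1)⁻¹

theorem hqGb_mem (l : ℕ) : hqGb l ∈ HQ := by
  have h0 : hqg 0 ∈ HQ := by rw [HQ_eq]; exact Subgroup.subset_closure ⟨0, rfl⟩
  have h1 : hqg 1 ∈ HQ := by rw [HQ_eq]; exact Subgroup.subset_closure ⟨1, rfl⟩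
  unfold hqGb
  split
  · exact h0
  · exact h1
  · exact Subgroup.inv_mem _ h0
  · exact Subgroup.inv_mem _ h1

theorem hqRep_g0 : HqRep (hqG.getD 0 0) (hqg 0) := fun i => hqChkG 0 i

theorem hqRep_g1 : HqRep (hqG.getD 1 0) (hqg 1) := fun i => hqChkG 1 i

theorem hqRep_gb (l : ℕ) :
    HqRep ([hqG.getD 0 0, hqG.getD 1 0, hqG.getD 8 0, hqG.getD 9 0].getD (Nat.mod l 4) 0)
      (hqGb l) := by
  have hl : Nat.mod l 4 = l % 4 := rfl
  have h4 : l % 4 < 4 := Nat.mod_lt _ (by norm_num)
  unfold hqGb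
  rw [hl]
  generalize l % 4 = r at h4
  interval_cases r
  · exact hqRep_g0
  · exact hqRep_g1
  · exact hqRep_inv _ _ _ hqRep_g0 (hqChkI.2.2.1 0 (by norm_num))
  · exact hqRep_inv _ _ _ hqRep_g1 (hqChkI.2.2.1 1 (by norm_num))

/-- the element of a word in the generators and their inverses -/
noncomputable def hqPb (w : List ℕ) : Equiv.Perm (Fin 100) := (w.map hqGb).prod

theorem hqPb_mem (w : List ℕ) : hqPb w ∈ HQ := by
  induction w with
  | nil => exact Subgroup.one_mem _
  | cons l w ih =>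
    unfold hqPb
    rw [List.map_cons, List.prod_cons]
    exact Subgroup.mul_mem _ (hqGb_mem l) ih

theorem hqPb_rep (w : List ℕ) : List.Forall₂ HqRep (hqWdB w) (w.map hqGb) := by
  induction w with
  | nil => exact List.Forall₂.nil
  | cons l w ih => exact List.Forall₂.cons (hqRep_gb l) ih

/-- the sixteen letters, indexed by all numbers -/
noncomputable def hqGen (l : ℕ) : Equiv.Perm (Fin 100) := hqPb (hqEw.getD (l % 16) [])

theorem hqGen_mem (l : ℕ) : hqGen l ∈ HQ := hqPb_mem _

theorem hqRep_gen (l : ℕ) : HqRep (hqG.getD (Nat.mod l 16) 0) (hqGen l) := by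
  have h16 : l % 16 < 16 := Nat.mod_lt _ (by norm_num)
  exact hqRep_of_eqW _ _ _ (hqPb_rep _) (hqChkI.2.2.2 (l % 16) h16)

theorem hqGen_mod (l : ℕ) : hqGen (l % 16) = hqGen l := by
  unfold hqGen
  rw [Nat.mod_mod]

theorem hqGen_zero : hqGen 0 = hqg 0 := by
  apply hqRep_eq _ _ _ (hqRep_gen 0) hqRep_g0

theorem hqGen_one : hqGen 1 = hqg 1 := by
  apply hqRep_eq _ _ _ (hqRep_gen 1) hqRep_g1

theorem hqGen_add (l : ℕ) : hqGen (Nat.mod (Nat.add l 8) 16) * hqGen l = 1 := by
  have h16 : l % 16 < 16 := Nat.mod_lt _ (by norm_num)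
  have h := hqChkI.2.2.1 (l % 16) h16
  have e : Nat.mod (Nat.add (l % 16) 8) 16 = Nat.mod (Nat.add l 8) 16 := by
    show (l % 16 + 8) % 16 = (l + 8) % 16
    omega
  rw [e] at h
  have r1 : HqRep (hqG.getD (Nat.mod (Nat.add l 8) 16) 0) (hqGen (Nat.mod (Nat.add l 8) 16)) := by
    have := hqRep_gen (Nat.mod (Nat.add l 8) 16)
    rw [show Nat.mod (Nat.mod (Nat.add l 8) 16) 16 = Nat.mod (Nat.add l 8) 16 from
      Nat.mod_mod _ _] at this
    exact this
  have := hqEqW_prod _ _ [hqGen (Nat.mod (Nat.add l 8) 16), hqGen l] []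
    (List.Forall₂.cons r1 (List.Forall₂.cons (hqRep_gen l) List.Forall₂.nil))
    List.Forall₂.nil h
  rw [List.prod_cons, List.prod_cons, List.prod_nil, mul_one] at this
  exact this

theorem hqGen_inv (l : ℕ) : (hqGen l)⁻¹ = hqGen (Nat.mod (Nat.add l 8) 16) :=
  inv_eq_of_mul_eq_one_left (hqGen_add l)

/-- the element of a word in the letters -/
noncomputable def hqPw (w : List ℕ) : Equiv.Perm (Fin 100) := (w.map hqGen).prod

theorem hqPw_nil : hqPw [] = 1 := rfl

theorem hqPw_cons (l : ℕ) (w : List ℕ) : hqPw (l :: w) = hqGen l * hqPw w := by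
  unfold hqPw
  rw [List.map_cons, List.prod_cons]

theorem hqPw_append (w v : List ℕ) : hqPw (w ++ v) = hqPw w * hqPw v := by
  unfold hqPw
  rw [List.map_append, List.prod_append]

theorem hqPw_mem (w : List ℕ) : hqPw w ∈ HQ := by
  induction w with
  | nil => exact Subgroup.one_mem _
  | cons l w ih =>
    rw [hqPw_cons]
    exact Subgroup.mul_mem _ (hqGen_mem l) ih

theorem hqPw_invW (w : List ℕ) : hqPw (hqInvW w) = (hqPw w)⁻¹ := by
  induction w with
  | nil => simp [hqPw, hqInvW]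
  | cons l w ih =>
    have e : hqInvW (l :: w) = hqInvW w ++ [Nat.mod (Nat.add l 8) 16] := by
      unfold hqInvW
      rw [List.reverse_cons, List.map_append]
      rfl
    rw [e, hqPw_append, ih, hqPw_cons, hqPw_cons, hqPw_nil, mul_one, mul_inv_rev, hqGen_inv]

theorem hqPw_rep (w : List ℕ) : List.Forall₂ HqRep (hqWd w) (w.map hqGen) := by
  induction w with
  | nil => exact List.Forall₂.nil
  | cons l w ih => exact List.Forall₂.cons (hqRep_gen l) ih

theorem hqRep_append (w v : List ℕ) (gs hs : List (Equiv.Perm (Fin 100)))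
    (h1 : List.Forall₂ HqRep w gs) (h2 : List.Forall₂ HqRep v hs) :
    List.Forall₂ HqRep (w ++ v) (gs ++ hs) := by
  induction h1 with
  | nil => exact h2
  | cons hT _ ih => exact List.Forall₂.cons hT ih

theorem hqLook_lt (T p : ℕ) : hqLook T p < 128 := by
  unfold hqLook
  exact Nat.lt_succ_of_le Nat.and_le_right

theorem hqEv_lt (w : List ℕ) (p : ℕ) (hp : p < 128) : hqEv w p < 128 := by
  cases w with
  | nil => exact hp
  | cons T w => exact hqLook_lt _ _

theorem hqB_lt : ∀ k, hqB.getD k 0 < 100 := by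
  intro k
  by_cases hk : k < hqB.length
  · revert k
    decide
  · rw [List.getD_eq_default _ _ (by omega)]
    norm_num

theorem hqPt_val (k : ℕ) : (hqPt k).1 = hqB.getD k 0 := Nat.mod_eq_of_lt (hqB_lt k)

/-- the packed images of the six points determine the images -/
theorem hqSig_inj (w v : List ℕ) (h : hqSig w = hqSig v) :
    ∀ k, k < 6 → hqEv w (hqB.getD k 0) = hqEv v (hqB.getD k 0) := by
  unfold hqSig at h
  have hb : ∀ k, hqB.getD k 0 < 128 := fun k => lt_trans (hqB_lt k) (by norm_num)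
  have a0 := hqEv_lt w _ (hb 0)
  have a1 := hqEv_lt w _ (hb 1)
  have a2 := hqEv_lt w _ (hb 2)
  have a3 := hqEv_lt w _ (hb 3)
  have a4 := hqEv_lt w _ (hb 4)
  have a5 := hqEv_lt w _ (hb 5)
  have b0 := hqEv_lt v _ (hb 0)
  have b1 := hqEv_lt v _ (hb 1)
  have b2 := hqEv_lt v _ (hb 2)
  have b3 := hqEv_lt v _ (hb 3)
  have b4 := hqEv_lt v _ (hb 4)
  have b5 := hqEv_lt v _ (hb 5)
  simp only [Nat.add_eq, Nat.mul_eq] at h
  intro k hk
  interval_cases k <;> omega

theorem hqSig_congr (w v : List ℕ)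
    (h : ∀ k, k < 6 → hqEv w (hqB.getD k 0) = hqEv v (hqB.getD k 0)) : hqSig w = hqSig v := by
  unfold hqSig
  rw [h 0 (by norm_num), h 1 (by norm_num), h 2 (by norm_num), h 3 (by norm_num),
    h 4 (by norm_num), h 5 (by norm_num)]

theorem hqEqB_iff (w v : List ℕ) : hqEqB w v = true ↔ hqSig w = hqSig v := by
  unfold hqEqB
  simp only [Bool.and_eq_true]
  constructor
  · rintro ⟨h0, h1, h2, h3, h4, h5⟩
    apply hqSig_congr
    intro k hk
    interval_cases k
    · exact Nat.eq_of_beq_eq_true h0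
    · exact Nat.eq_of_beq_eq_true h1
    · exact Nat.eq_of_beq_eq_true h2
    · exact Nat.eq_of_beq_eq_true h3
    · exact Nat.eq_of_beq_eq_true h4
    · exact Nat.eq_of_beq_eq_true h5
  · intro h
    have := hqSig_inj w v h
    rw [this 0 (by norm_num), this 1 (by norm_num), this 2 (by norm_num), this 3 (by norm_num),
      this 4 (by norm_num), this 5 (by norm_num)]
    simp [Nat.beq_refl]

/-- products in the group with the same packed images are equal -/
theorem hq_eq_of_sig (w v : List ℕ) (gs hs : List (Equiv.Perm (Fin 100)))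
    (hw : List.Forall₂ HqRep w gs) (hv : List.Forall₂ HqRep v hs) (hg : gs.prod ∈ HQ)
    (hh : hs.prod ∈ HQ) (h : hqSig w = hqSig v) : gs.prod = hs.prod := by
  have e := hqSig_inj w v h
  apply hq_eq_of_base _ _ hg hh
  intro k hk
  apply Fin.ext
  rw [hqRep_ev w gs hw, hqRep_ev v hs hv, hqPt_val]
  exact e k hk

/-- equal products have the same packed images -/
theorem hqSig_of_eq (w v : List ℕ) (gs hs : List (Equiv.Perm (Fin 100)))
    (hw : List.Forall₂ HqRep w gs) (hv : List.Forall₂ HqRep v hs) (h : gs.prod = hs.prod) :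
    hqSig w = hqSig v := by
  apply hqSig_congr
  intro k hk
  have := hqPt_val k
  rw [← this, ← hqRep_ev w gs hw, ← hqRep_ev v hs hv, h]

end Cfsg.Agent.Lib.helper4
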