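import Mathlib
import Cfsg.Agent.Lib.helper4.HSOSound
import Cfsg.Agent.Lib.helper4.HSOChkL
import Cfsg.Agent.Lib.helper4.HSOChkN0
import Cfsg.Agent.Lib.helper4.HSOChkN1
import Cfsg.Agent.Lib.helper4.SchreierStep
import Cfsg.Agent.Lib.helper4.J3CSyl
import Cfsg.Agent.Lib.helper4.ConjClosed

set_option autoImplicit false

/-! The Higman–Sims group on 100 points: the list of all its involutions is complete. -/

namespace Cfsg.Agent.Lib.helper4

/-- the first involution -/
noncomputable def hqtA : Equiv.Perm (Fin 100) := hqPw hqTAw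

/-- the second involution -/
noncomputable def hqtB : Equiv.Perm (Fin 100) := hqPw hqTBw

theorem hqtA_rep : HqRep hqTA hqtA := hqRep_of_eqW _ _ _ (hqPw_rep _) hqChkTA

theorem hqtB_rep : HqRep hqTB hqtB := hqRep_of_eqW _ _ _ (hqPw_rep _) hqChkTB

/-- the involution of the class of a position -/
noncomputable def hqT (i : ℕ) : Equiv.Perm (Fin 100) := cond (Nat.blt i 5775) hqtA hqtB

theorem hqT_rep (i : ℕ) : HqRep (cond (Nat.blt i 5775) hqTA hqTB) (hqT i) := by
  unfold hqT
  cases Nat.blt i 5775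
  · exact hqtB_rep
  · exact hqtA_rep

theorem hqT_mem (i : ℕ) : hqT i ∈ HQ := by
  unfold hqT
  cases Nat.blt i 5775
  · exact hqPw_mem _
  · exact hqPw_mem _

/-- the involution of a position -/
noncomputable def hqX (i : ℕ) : Equiv.Perm (Fin 100) :=
  hqPw (hqLWd i) * hqT i * (hqPw (hqLWd i))⁻¹

theorem hqX_mem (i : ℕ) : hqX i ∈ HQ :=
  Subgroup.mul_mem _ (Subgroup.mul_mem _ (hqPw_mem _) (hqT_mem i)) (Subgroup.inv_mem _ (hqPw_mem _))

/-- the factors of the involution of a position -/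
noncomputable def hqXg (i : ℕ) : List (Equiv.Perm (Fin 100)) :=
  (hqLWd i).map hqGen ++ (hqT i :: (hqInvW (hqLWd i)).map hqGen)

theorem hqXg_prod (i : ℕ) : (hqXg i).prod = hqX i := by
  unfold hqXg hqX
  rw [List.prod_append, List.prod_cons]
  change hqPw (hqLWd i) * (hqT i * hqPw (hqInvW (hqLWd i))) = _
  rw [hqPw_invW, mul_assoc]

theorem hqXg_rep (i : ℕ) : List.Forall₂ HqRep (hqXc i) (hqXg i) :=
  hqRep_append _ _ _ _ (hqPw_rep _) (List.Forall₂.cons (hqT_rep i) (hqPw_rep _))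

theorem hqXs_eq (i : ℕ) (hi : i < 21175) : hqXs i = hqSig (hqXc i) :=
  Nat.eq_of_beq_eq_true (hqChkL i hi)

theorem hqCl_all (k i : ℕ) (hk : k < 2) (hi : i < 21175) : hqCl k i = true := by
  interval_cases k
  · exact hqChkN0 i hi
  · exact hqChkN1 i hi

/-- the conjugate of a listed involution under a generator is listed -/
theorem hqX_conj (k i : ℕ) (hk : k < 2) (hi : i < 21175) :
    hqNx k i < 21175 ∧ hqGen k * hqX i * (hqGen k)⁻¹ = hqX (hqNx k i) := by
  have h := hqCl_all k i hk hi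
  unfold hqCl at h
  rw [Bool.and_eq_true] at h
  have hlt : hqNx k i < 21175 := by
    have := h.1
    simpa using this
  refine ⟨hlt, ?_⟩
  have hs := Nat.eq_of_beq_eq_true h.2
  rw [hqXs_eq _ hlt] at hs
  have r1 : HqRep (hqG.getD k 0) (hqGen k) := by
    have := hqRep_gen k
    rw [show Nat.mod k 16 = k from Nat.mod_eq_of_lt (by omega)] at this
    exact this
  have r2 : HqRep (hqG.getD (Nat.add k 8) 0) (hqGen (Nat.add k 8)) := by
    have := hqRep_gen (Nat.add k 8)
    rw [show Nat.mod (Nat.add k 8) 16 = Nat.add k 8 from Nat.mod_eq_of_lt (by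
      show k + 8 < 16
      omega)] at this
    exact this
  have hinv : (hqGen k)⁻¹ = hqGen (Nat.add k 8) := by
    rw [hqGen_inv]
    exact hqGen_mod (Nat.add k 8)
  have hrep : List.Forall₂ HqRep (hqG.getD k 0 :: hqXc i ++ [hqG.getD (Nat.add k 8) 0])
      (hqGen k :: hqXg i ++ [hqGen (Nat.add k 8)]) :=
    List.Forall₂.cons r1 (hqRep_append _ _ _ _ (hqXg_rep i)
      (List.Forall₂.cons r2 List.Forall₂.nil))
  have hmem : (hqGen k :: hqXg i ++ [hqGen (Nat.add k 8)]).prod ∈ HQ := by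
    rw [List.cons_append, List.prod_cons, List.prod_append, hqXg_prod, List.prod_cons, List.prod_nil,
      mul_one]
    exact Subgroup.mul_mem _ (hqGen_mem _) (Subgroup.mul_mem _ (hqX_mem _) (hqGen_mem _))
  have e := hq_eq_of_sig _ _ _ _ hrep (hqXg_rep (hqNx k i)) hmem
    (by rw [hqXg_prod]; exact hqX_mem _) hs
  rw [List.cons_append, List.prod_cons, List.prod_append, hqXg_prod, List.prod_cons, List.prod_nil,
    mul_one, hqXg_prod, ← hinv, ← mul_assoc] at e
  exact e

/-- the generators of the subgroup of order 512 -/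
noncomputable def hqSgen (k : ℕ) : Equiv.Perm (Fin 100) := hqPw (hqSgw.getD k [])

/-- the subgroup of order 512 -/
noncomputable def hqS : Subgroup (Equiv.Perm (Fin 100)) := Subgroup.closure (Set.range hqSgen)

theorem hqS_le : hqS ≤ HQ := by
  unfold hqS
  rw [Subgroup.closure_le]
  rintro _ ⟨k, rfl⟩
  exact hqPw_mem _

/-- the listed elements of the subgroup of order 512 -/
noncomputable def hqY (j : ℕ) : Equiv.Perm (Fin 100) := hqPw (hqSw j)

theorem hqPw_flatMap (l : List ℕ) :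
    hqPw (l.flatMap fun k => hqSgw.getD k []) ∈ hqS := by
  induction l with
  | nil => exact Subgroup.one_mem _
  | cons k l ih =>
    rw [List.flatMap_cons, hqPw_append]
    exact Subgroup.mul_mem _ (Subgroup.subset_closure ⟨k, rfl⟩) ih

theorem hqY_mem (j : ℕ) : hqY j ∈ hqS := hqPw_flatMap _

theorem hqY_zero : hqY 0 = 1 := by
  unfold hqY
  rw [hqChkS1.1]
  rfl

theorem hqSgen_big (k : ℕ) (hk : hqSgw.length ≤ k) : hqSgen k = 1 := by
  unfold hqSgen
  rw [List.getD_eq_default _ _ hk]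
  rfl

/-- every element of the subgroup of order 512 is listed -/
theorem hqS_mem (g : Equiv.Perm (Fin 100)) (hg : g ∈ hqS) : ∃ j, j < 512 ∧ g = hqY j := by
  let S : Set (Equiv.Perm (Fin 100)) := {x | ∃ j, j < 512 ∧ x = hqY j}
  have key : ∀ g ∈ hqS, ∀ x ∈ S, g * x ∈ S := by
    intro g hg
    induction hg using Subgroup.closure_induction with
    | mem s hs =>
      obtain ⟨k, rfl⟩ := hs
      rintro x ⟨j, hj, rfl⟩
      by_cases hk : k < hqSgw.length
      · obtain ⟨h1, h2⟩ := hqChkS1.2.2 k hk j hj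
        refine ⟨_, h1, ?_⟩
        rw [hqEqB_iff] at h2
        have e := hq_eq_of_sig _ _ _ _ (hqPw_rep (hqSgw.getD k [] ++ hqSw j))
          (hqPw_rep (hqSw ((hqNxtS.getD k []).getD j 0))) (hqPw_mem _) (hqPw_mem _) h2
        change hqPw (hqSgw.getD k [] ++ hqSw j) = hqPw (hqSw ((hqNxtS.getD k []).getD j 0)) at e
        rw [hqPw_append] at e
        exact e
      · rw [hqSgen_big k (by omega), one_mul]
        exact ⟨j, hj, rfl⟩
    | one => intro x hx; simpa using hx
    | mul a c _ _ iha ihc =>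
      intro x hx
      rw [mul_assoc]
      exact iha _ (ihc x hx)
    | inv a _ iha => exact ss_inv_mul_subset S a iha
  have h1 : (1 : Equiv.Perm (Fin 100)) ∈ S := ⟨0, by norm_num, hqY_zero.symm⟩
  have := key g hg 1 h1
  rw [mul_one] at this
  exact this

/-- the packed images of the listed elements in their order -/
def hqSs (k : ℕ) : ℕ := hqSig (hqWd (hqSw (hqSord.getD k 0)))

theorem hqSs_mono (a b : ℕ) (hab : a < b) (hb : b < 512) : hqSs a < hqSs b := by
  induction b with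
  | zero => omega
  | succ b ih =>
    have hstep : hqSs b < hqSs (b + 1) := hqChkS3.1 b (by omega)
    rcases Nat.lt_succ_iff_lt_or_eq.1 hab with h | h
    · exact lt_trans (ih h (by omega)) hstep
    · rw [h]
      exact hstep

theorem hqY_inj (i j : ℕ) (hi : i < 512) (hj : j < 512) (h : hqY i = hqY j) : i = j := by
  have hs : hqSig (hqWd (hqSw i)) = hqSig (hqWd (hqSw j)) :=
    hqSig_of_eq _ _ _ _ (hqPw_rep _) (hqPw_rep _) h
  obtain ⟨ri, ei⟩ := hqChkS3.2 i hi
  obtain ⟨rj, ej⟩ := hqChkS3.2 j hj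
  have hs' : hqSs (hqSrk.getD i 0) = hqSs (hqSrk.getD j 0) := by
    unfold hqSs
    rw [ei, ej]
    exact hs
  rcases Nat.lt_trichotomy (hqSrk.getD i 0) (hqSrk.getD j 0) with hlt | heq | hgt
  · exact absurd hs' (ne_of_lt (hqSs_mono _ _ hlt rj))
  · rw [← ei, ← ej, heq]
  · exact absurd hs'.symm (ne_of_lt (hqSs_mono _ _ hgt ri))

/-- the order of the subgroup -/
theorem hqS_card : Nat.card hqS = 512 := by
  let f : Fin 512 → hqS := fun j => ⟨hqY j.1, hqY_mem j.1⟩
  have hf : Function.Bijective f := by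
    constructor
    · intro i j hij
      apply Fin.ext
      exact hqY_inj _ _ i.2 j.2 (congrArg Subtype.val hij)
    · rintro ⟨g, hg⟩
      obtain ⟨j, hj, e⟩ := hqS_mem g hg
      exact ⟨⟨j, hj⟩, Subtype.ext e.symm⟩
  rw [← Nat.card_congr (Equiv.ofBijective f hf), Nat.card_eq_fintype_card, Fintype.card_fin]

/-- the involutions of the subgroup of order 512 are listed -/
theorem hqS_invol (d : Equiv.Perm (Fin 100)) (hd : d ∈ hqS) (h2 : d * d = 1) (h1 : d ≠ 1) :
    ∃ i, i < 21175 ∧ d = hqX i := by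
  obtain ⟨j, hj, rfl⟩ := hqS_mem d hd
  have hf2 : hqEqB (hqWd (hqSw j ++ hqSw j)) [] = true := by
    rw [hqEqB_iff]
    apply hqSig_of_eq _ _ _ _ (hqPw_rep (hqSw j ++ hqSw j)) List.Forall₂.nil
    change hqPw (hqSw j ++ hqSw j) = 1
    rw [hqPw_append]
    exact h2
  have hf1 : hqEqB (hqWd (hqSw j)) [] = false := by
    rw [← Bool.not_eq_true, hqEqB_iff]
    intro h
    apply h1
    have e := hq_eq_of_sig _ _ _ _ (hqPw_rep (hqSw j)) List.Forall₂.nil (hqPw_mem _)
      (Subgroup.one_mem _) h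
    exact e
  obtain ⟨hlt, hs⟩ := hqChkS4 j hj hf2 hf1
  refine ⟨_, hlt, ?_⟩
  rw [hqXs_eq _ hlt] at hs
  have e := hq_eq_of_sig _ _ _ _ (hqXg_rep _) (hqPw_rep (hqSw j))
    (by rw [hqXg_prod]; exact hqX_mem _) (hqPw_mem _) hs
  rw [hqXg_prod] at e
  exact e.symm

theorem hqFact2 : (44352000 : ℕ).factorization 2 = 9 := by
  have e : (44352000 : ℕ) = 2 ^ 9 * 86625 := by norm_num
  rw [e, Nat.factorization_mul (by norm_num) (by norm_num),
    Nat.Prime.factorization_pow Nat.prime_two]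
  have : (86625 : ℕ).factorization 2 = 0 := Nat.factorization_eq_zero_of_not_dvd (by norm_num)
  simp [this]

/-- the set of listed involutions -/
def hqLset : Set (Equiv.Perm (Fin 100)) := {x | ∃ i, i < 21175 ∧ x = hqX i}

theorem hqLset_finite : hqLset.Finite := by
  have : hqLset ⊆ (fun i : ℕ => hqX i) '' (Set.Iio 21175) := by
    rintro x ⟨i, hi, rfl⟩
    exact ⟨i, hi, rfl⟩
  exact Set.Finite.subset ((Set.finite_Iio 21175).image _) this

/-- the conjugates of the listed involutions are listed -/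
theorem hqX_conj_all (g : Equiv.Perm (Fin 100)) (hg : g ∈ HQ) (x : Equiv.Perm (Fin 100))
    (hx : x ∈ hqLset) : g * x * g⁻¹ ∈ hqLset := by
  rw [HQ_eq] at hg
  refine conj_closed_of_gens hqLset hqLset_finite _ ?_ g hg x hx
  rintro _ ⟨k, rfl⟩ y ⟨i, hi, rfl⟩
  have hk : hqg k = hqGen k.1 := by
    have h2 := k.2
    rcases k with ⟨k, hk⟩
    interval_cases k
    · exact hqGen_zero.symm
    · exact hqGen_one.symm
  obtain ⟨h1, h2⟩ := hqX_conj k.1 i k.2 hi
  exact ⟨_, h1, by rw [hk]; exact h2⟩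

/-- every involution of the group is listed -/
theorem hq_invol_listed (x : Equiv.Perm (Fin 100)) (hx : x ∈ HQ) (h2 : x * x = 1)
    (h1 : x ≠ 1) : ∃ i, i < 21175 ∧ x = hqX i := by
  have : Fact (Nat.Prime 2) := ⟨Nat.prime_two⟩
  have hord : orderOf (⟨x, hx⟩ : HQ) = 2 := by
    apply orderOf_eq_prime
    · rw [pow_two]
      exact Subtype.ext h2
    · intro h
      exact h1 (congrArg Subtype.val h)
  have hfac : (Nat.card HQ).factorization 2 = 9 := by
    rw [HQ_card]
    exact hqFact2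
  have hcard : Nat.card (hqS.subgroupOf HQ) = 512 := by
    rw [Nat.card_congr (Subgroup.subgroupOfEquivOfLe hqS_le).toEquiv, hqS_card]
  obtain ⟨g, hg⟩ := conj_into_subgroup 2 (hqS.subgroupOf HQ) 9 hfac
    (by rw [hcard]; norm_num) ⟨x, hx⟩ hord
  rw [Subgroup.mem_subgroupOf] at hg
  have hd : (g : Equiv.Perm (Fin 100))⁻¹ * x * g ∈ hqS := hg
  have hd2 : ((g : Equiv.Perm (Fin 100))⁻¹ * x * g) * ((g : Equiv.Perm (Fin 100))⁻¹ * x * g) = 1 := by
    calc ((g : Equiv.Perm (Fin 100))⁻¹ * x * g) * ((g : Equiv.Perm (Fin 100))⁻¹ * x * g)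
        = (g : Equiv.Perm (Fin 100))⁻¹ * (x * x) * g := by group
      _ = 1 := by rw [h2]; group
  have hd1 : (g : Equiv.Perm (Fin 100))⁻¹ * x * g ≠ 1 := by
    intro h
    apply h1
    calc x = g * ((g : Equiv.Perm (Fin 100))⁻¹ * x * g) * (g : Equiv.Perm (Fin 100))⁻¹ := by group
      _ = 1 := by rw [h]; group
  obtain ⟨i, hi, e⟩ := hqS_invol _ hd hd2 hd1
  have := hqX_conj_all g.1 g.2 _ ⟨i, hi, e⟩
  have e2 : (g : Equiv.Perm (Fin 100)) * ((g : Equiv.Perm (Fin 100))⁻¹ * x * g) *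
      (g : Equiv.Perm (Fin 100))⁻¹ = x := by group
  rw [e2] at this
  exact this

end Cfsg.Agent.Lib.helper4
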