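import Mathlib
import Cfsg.Agent.Lib.helper4.HSOComp
import Cfsg.Agent.Lib.helper4.HSOAbs

set_option autoImplicit false

/-! The Higman–Sims group on 100 points: the element of order 11, the involution, the outer
involution and the automorphism it induces. -/

namespace Cfsg.Agent.Lib.helper4

/-- the powers of a list of factors -/
def hqRepG (gs : List (Equiv.Perm (Fin 100))) : ℕ → List (Equiv.Perm (Fin 100))
  | 0 => []
  | n + 1 => gs ++ hqRepG gs n

theorem hqRepG_prod (gs : List (Equiv.Perm (Fin 100))) (n : ℕ) :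
    (hqRepG gs n).prod = gs.prod ^ n := by
  induction n with
  | zero => rfl
  | succ n ih =>
    show (gs ++ hqRepG gs n).prod = _
    rw [List.prod_append, ih, pow_succ']

theorem hqRepW_rep (w : List ℕ) (gs : List (Equiv.Perm (Fin 100)))
    (h : List.Forall₂ HqRep w gs) (n : ℕ) :
    List.Forall₂ HqRep (hqRepW w n) (hqRepG gs n) := by
  induction n with
  | zero => exact List.Forall₂.nil
  | succ n ih => exact hqRep_append _ _ _ _ h ih

theorem hqPow_eq_one (w : List ℕ) (gs : List (Equiv.Perm (Fin 100)))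
    (h : List.Forall₂ HqRep w gs) (n : ℕ) (hchk : hqEqW (hqRepW w n) [] = true) :
    gs.prod ^ n = 1 := by
  rw [← hqRepG_prod]
  exact hqEqW_prod _ _ _ [] (hqRepW_rep w gs h n) List.Forall₂.nil hchk

theorem hqPow_ne_one (w : List ℕ) (gs : List (Equiv.Perm (Fin 100)))
    (h : List.Forall₂ HqRep w gs) (n : ℕ) (hchk : hqEqW (hqRepW w n) [] = false) :
    gs.prod ^ n ≠ 1 := by
  intro h1
  rw [← hqRepG_prod] at h1
  have := hqEqW_of_prod _ _ _ [] (hqRepW_rep w gs h n) List.Forall₂.nil h1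
  rw [hchk] at this
  exact Bool.false_ne_true this

theorem hqRepG_mem (gs : List (Equiv.Perm (Fin 100))) (h : gs.prod ∈ HQ) (n : ℕ) :
    (hqRepG gs n).prod ∈ HQ := by
  rw [hqRepG_prod]
  exact Subgroup.pow_mem _ h n

/-- the element of order 11 -/
noncomputable def hqc : Equiv.Perm (Fin 100) := hqPw hqCw

/-- the involution -/
noncomputable def hqa : Equiv.Perm (Fin 100) := hqPw hqAw

/-- the element normalising the subgroup of order 11 -/
noncomputable def hqu : Equiv.Perm (Fin 100) := hqPw hqUw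

theorem hqc_rep : HqRep hqC hqc := hqRep_of_eqW _ _ _ (hqPw_rep _) hqChkC

theorem hqci_rep : HqRep hqCi hqc⁻¹ := hqRep_inv _ _ _ hqc_rep hqChkCi

theorem hqa_rep : HqRep hqA hqa := hqRep_of_eqW _ _ _ (hqPw_rep _) hqChkA

theorem hqu_rep : HqRep hqU hqu := hqRep_of_eqW _ _ _ (hqPw_rep _) hqChkU

theorem hqc_mem : hqc ∈ HQ := hqPw_mem _

theorem hqa_mem : hqa ∈ HQ := hqPw_mem _

theorem hqu_mem : hqu ∈ HQ := hqPw_mem _

/-- the outer involution -/
def hqZp : Equiv.Perm (Fin 100) where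
  toFun i := ⟨hqLook hqZ i.1, hqChkZlt i.1 i.2⟩
  invFun i := ⟨hqLook hqZ i.1, hqChkZlt i.1 i.2⟩
  left_inv i := by
    apply Fin.ext
    exact (hqEqW_iff _ _).1 hqChkZZ i.1 i.2
  right_inv i := by
    apply Fin.ext
    exact (hqEqW_iff _ _).1 hqChkZZ i.1 i.2

theorem hqZp_rep : HqRep hqZ hqZp := fun _ => rfl

theorem hqZp_sq : hqZp * hqZp = 1 := by
  have := hqEqW_prod [hqZ, hqZ] [] [hqZp, hqZp] []
    (List.Forall₂.cons hqZp_rep (List.Forall₂.cons hqZp_rep List.Forall₂.nil)) List.Forall₂.nil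
    hqChkZZ
  simpa using this

theorem hqZp_inv : hqZp⁻¹ = hqZp := inv_eq_of_mul_eq_one_left hqZp_sq

theorem hqGen_lt (k : ℕ) (hk : k < 16) : HqRep (hqG.getD k 0) (hqGen k) := by
  have := hqRep_gen k
  rw [show Nat.mod k 16 = k from Nat.mod_eq_of_lt hk] at this
  exact this

/-- the outer involution normalises the group: generators -/
theorem hqZ_gen (k : ℕ) (hk : k < 2) : hqZp * hqGen k * hqZp = hqPw (hqZw.getD k []) := by
  have := hqEqW_prod [hqZ, hqG.getD k 0, hqZ] (hqWd (hqZw.getD k [])) [hqZp, hqGen k, hqZp] _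
    (List.Forall₂.cons hqZp_rep (List.Forall₂.cons (hqGen_lt k (by omega))
      (List.Forall₂.cons hqZp_rep List.Forall₂.nil))) (hqPw_rep _) (hqChkZg k hk)
  rw [List.prod_cons, List.prod_cons, List.prod_cons, List.prod_nil, mul_one, ← mul_assoc] at this
  exact this

theorem hqZ_norm (g : Equiv.Perm (Fin 100)) (hg : g ∈ HQ) : hqZp * g * hqZp ∈ HQ := by
  rw [HQ_eq] at hg
  induction hg using Subgroup.closure_induction with
  | mem s hs =>
    obtain ⟨k, rfl⟩ := hs
    have hk : hqg k = hqGen k.1 := by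
      rcases k with ⟨k, hk⟩
      interval_cases k
      · exact hqGen_zero.symm
      · exact hqGen_one.symm
    rw [hk, hqZ_gen k.1 k.2]
    exact hqPw_mem _
  | one =>
    rw [mul_one, hqZp_sq]
    exact Subgroup.one_mem _
  | mul a b _ _ iha ihb =>
    have : hqZp * (a * b) * hqZp = (hqZp * a * hqZp) * (hqZp * b * hqZp) := by
      calc hqZp * (a * b) * hqZp = hqZp * a * 1 * b * hqZp := by group
        _ = (hqZp * a * hqZp) * (hqZp * b * hqZp) := by rw [← hqZp_sq]; group
    rw [this]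
    exact Subgroup.mul_mem _ iha ihb
  | inv a _ iha =>
    have : hqZp * a⁻¹ * hqZp = (hqZp * a * hqZp)⁻¹ := by
      rw [mul_inv_rev, mul_inv_rev, hqZp_inv, mul_assoc]
    rw [this]
    exact Subgroup.inv_mem _ iha

/-- the second involution -/
noncomputable def hqa2 : Equiv.Perm (Fin 100) := hqZp * hqa * hqZp

theorem hqa2_mem : hqa2 ∈ HQ := hqZ_norm _ hqa_mem

theorem hqa2_rep : HqRep hqA2 hqa2 := by
  have := hqRep_of_eqW hqA2 [hqZ, hqA, hqZ] [hqZp, hqa, hqZp]
    (List.Forall₂.cons hqZp_rep (List.Forall₂.cons hqa_rep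
      (List.Forall₂.cons hqZp_rep List.Forall₂.nil))) hqChkZA
  rw [List.prod_cons, List.prod_cons, List.prod_cons, List.prod_nil, mul_one, ← mul_assoc] at this
  exact this

/-- the automorphism induced by the outer involution -/
noncomputable def hqSigma : MulAut HQ where
  toFun g := ⟨hqZp * g.1 * hqZp, hqZ_norm g.1 g.2⟩
  invFun g := ⟨hqZp * g.1 * hqZp, hqZ_norm g.1 g.2⟩
  left_inv g := by
    apply Subtype.ext
    show hqZp * (hqZp * g.1 * hqZp) * hqZp = g.1
    calc hqZp * (hqZp * g.1 * hqZp) * hqZp = (hqZp * hqZp) * g.1 * (hqZp * hqZp) := by group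
      _ = g.1 := by rw [hqZp_sq, one_mul, mul_one]
  right_inv g := by
    apply Subtype.ext
    show hqZp * (hqZp * g.1 * hqZp) * hqZp = g.1
    calc hqZp * (hqZp * g.1 * hqZp) * hqZp = (hqZp * hqZp) * g.1 * (hqZp * hqZp) := by group
      _ = g.1 := by rw [hqZp_sq, one_mul, mul_one]
  map_mul' g h := by
    apply Subtype.ext
    show hqZp * (g.1 * h.1) * hqZp = (hqZp * g.1 * hqZp) * (hqZp * h.1 * hqZp)
    calc hqZp * (g.1 * h.1) * hqZp = hqZp * g.1 * 1 * h.1 * hqZp := by group
      _ = (hqZp * g.1 * hqZp) * (hqZp * h.1 * hqZp) := by rw [← hqZp_sq]; group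

theorem hqSigma_apply (g : HQ) : (hqSigma g : Equiv.Perm (Fin 100)) = hqZp * g.1 * hqZp := rfl

/-- the elements as members of the group -/
noncomputable def hqCg : HQ := ⟨hqc, hqc_mem⟩

/-- the involution as a member of the group -/
noncomputable def hqAg : HQ := ⟨hqa, hqa_mem⟩

/-- the normalising element as a member of the group -/
noncomputable def hqUg : HQ := ⟨hqu, hqu_mem⟩

/-- the second involution as a member of the group -/
noncomputable def hqA2g : HQ := ⟨hqa2, hqa2_mem⟩

theorem hqc_pow11 : hqc ^ 11 = 1 := by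
  have := hqPow_eq_one [hqC] [hqc] (List.Forall₂.cons hqc_rep List.Forall₂.nil) 11 hqChkC11
  rw [List.prod_cons, List.prod_nil, mul_one] at this
  exact this

theorem hqc_ne : hqc ≠ 1 := by
  have := hqPow_ne_one [hqC] [hqc] (List.Forall₂.cons hqc_rep List.Forall₂.nil) 1 hqChkC1
  rw [List.prod_cons, List.prod_nil, mul_one, pow_one] at this
  exact this

theorem hqCg_order : orderOf hqCg = 11 := by
  have : Fact (Nat.Prime 11) := ⟨by norm_num⟩
  apply orderOf_eq_prime
  · apply Subtype.ext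
    exact hqc_pow11
  · intro h
    exact hqc_ne (congrArg Subtype.val h)

theorem hqa_sq : hqa * hqa = 1 := by
  have := hqEqW_prod [hqA, hqA] [] [hqa, hqa] []
    (List.Forall₂.cons hqa_rep (List.Forall₂.cons hqa_rep List.Forall₂.nil)) List.Forall₂.nil
    hqChkAA
  simpa using this

theorem hqa_ne : hqa ≠ 1 := by
  have := hqPow_ne_one [hqA] [hqa] (List.Forall₂.cons hqa_rep List.Forall₂.nil) 1 hqChkA1
  rw [List.prod_cons, List.prod_nil, mul_one, pow_one] at this
  exact this

theorem hqu_conj : hqu * hqc * hqu⁻¹ = hqc ^ 3 := by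
  have := hqEqW_prod [hqU, hqC] [hqC, hqC, hqC, hqU] [hqu, hqc] [hqc, hqc, hqc, hqu]
    (List.Forall₂.cons hqu_rep (List.Forall₂.cons hqc_rep List.Forall₂.nil))
    (List.Forall₂.cons hqc_rep (List.Forall₂.cons hqc_rep (List.Forall₂.cons hqc_rep
      (List.Forall₂.cons hqu_rep List.Forall₂.nil)))) hqChkUC
  simp only [List.prod_cons, List.prod_nil, mul_one] at this
  rw [this, pow_succ, pow_two]
  simp only [mul_assoc, mul_inv_cancel, mul_one]

theorem hqP1 : (hqc * hqa) ^ 3 = 1 := by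
  have := hqPow_eq_one [hqC, hqA] [hqc, hqa]
    (List.Forall₂.cons hqc_rep (List.Forall₂.cons hqa_rep List.Forall₂.nil)) 3 hqChkP1
  rw [List.prod_cons, List.prod_cons, List.prod_nil, mul_one] at this
  exact this

theorem hqP2 : (hqc * hqa * hqc⁻¹ * hqa) ^ 10 = 1 := by
  have := hqPow_eq_one [hqC, hqA, hqCi, hqA] [hqc, hqa, hqc⁻¹, hqa]
    (List.Forall₂.cons hqc_rep (List.Forall₂.cons hqa_rep (List.Forall₂.cons hqci_rep
      (List.Forall₂.cons hqa_rep List.Forall₂.nil)))) 10 hqChkP2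
  rw [List.prod_cons, List.prod_cons, List.prod_cons, List.prod_cons, List.prod_nil, mul_one,
    ← mul_assoc, ← mul_assoc] at this
  exact this

theorem hqP3 : (hqc * hqa * hqc⁻¹ * hqa) ^ 5 ≠ 1 := by
  have := hqPow_ne_one [hqC, hqA, hqCi, hqA] [hqc, hqa, hqc⁻¹, hqa]
    (List.Forall₂.cons hqc_rep (List.Forall₂.cons hqa_rep (List.Forall₂.cons hqci_rep
      (List.Forall₂.cons hqa_rep List.Forall₂.nil)))) 5 hqChkP3
  rw [List.prod_cons, List.prod_cons, List.prod_cons, List.prod_cons, List.prod_nil, mul_one,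
    ← mul_assoc, ← mul_assoc] at this
  exact this

theorem hqZ_c : hqZp * hqc * hqZp = hqc⁻¹ := by
  have := hqEqW_prod [hqZ, hqC, hqZ] [hqCi] [hqZp, hqc, hqZp] [hqc⁻¹]
    (List.Forall₂.cons hqZp_rep (List.Forall₂.cons hqc_rep
      (List.Forall₂.cons hqZp_rep List.Forall₂.nil)))
    (List.Forall₂.cons hqci_rep List.Forall₂.nil) hqChkZC
  simp only [List.prod_cons, List.prod_nil, mul_one] at this
  rw [← mul_assoc] at this
  exact this

theorem hqFact11 : (44352000 : ℕ).factorization 11 = 1 := by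
  have e : (44352000 : ℕ) = 11 ^ 1 * 4032000 := by norm_num
  rw [e, Nat.factorization_mul (by norm_num) (by norm_num),
    Nat.Prime.factorization_pow (by norm_num)]
  have : (4032000 : ℕ).factorization 11 = 0 := Nat.factorization_eq_zero_of_not_dvd (by norm_num)
  simp [this]

end Cfsg.Agent.Lib.helper4
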