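import Mathlib
import Cfsg.Agent.Lib.helper4.HSOMain
import Cfsg.Agent.Lib.helper4.HSOChkM
import Cfsg.Agent.Lib.helper4.HSOChkP
import Cfsg.Agent.Lib.helper4.HSOChkQ

set_option autoImplicit false

/-! The Higman–Sims group on 100 points: generation by the element of order 11 and the
involution, the involutions with the pattern, and the outer automorphism group. -/

namespace Cfsg.Agent.Lib.helper4

/-- the letters of the words in the powers of the element of order 11 and the involution -/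
noncomputable def hqLet (l : ℕ) : Equiv.Perm (Fin 100) := if l < 10 then hqc ^ (l + 1) else hqa

theorem hqLet_rep (l : ℕ) (hl : l < 11) : HqRep (hqCA.getD l 0) (hqLet l) := by
  unfold hqLet
  by_cases h : l < 10
  · rw [if_pos h]
    have h1 := hqRep_of_eqW (hqCA.getD l 0) _ _
      (hqRepW_rep [hqC] [hqc] (List.Forall₂.cons hqc_rep List.Forall₂.nil) (l + 1))
      (hqChkCA.2.1 l h)
    rw [hqRepG_prod, List.prod_cons, List.prod_nil, mul_one] at h1
    exact h1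
  · rw [if_neg h]
    have : l = 10 := by omega
    rw [this, hqChkCA.2.2]
    exact hqa_rep

theorem hqWd3_rep (w : List ℕ) (hw : ∀ l ∈ w, l < 11) :
    List.Forall₂ HqRep (hqWd3 w) (w.map hqLet) := by
  induction w with
  | nil => exact List.Forall₂.nil
  | cons l w ih =>
    exact List.Forall₂.cons (hqLet_rep l (hw l List.mem_cons_self))
      (ih fun l' h' => hw l' (List.mem_cons_of_mem _ h'))

theorem hqLet_mem (l : ℕ) :
    hqLet l ∈ Subgroup.closure ({hqc, hqa} : Set (Equiv.Perm (Fin 100))) := by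
  unfold hqLet
  split
  · exact Subgroup.pow_mem _ (Subgroup.subset_closure (Set.mem_insert _ _)) _
  · exact Subgroup.subset_closure (Set.mem_insert_of_mem _ rfl)

theorem hqLet_prod_mem (w : List ℕ) :
    (w.map hqLet).prod ∈ Subgroup.closure ({hqc, hqa} : Set (Equiv.Perm (Fin 100))) := by
  induction w with
  | nil => exact Subgroup.one_mem _
  | cons l w ih =>
    rw [List.map_cons, List.prod_cons]
    exact Subgroup.mul_mem _ (hqLet_mem l) ih

theorem hqGen_closure (k : ℕ) (hk : k < 2) :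
    hqGen k ∈ Subgroup.closure ({hqc, hqa} : Set (Equiv.Perm (Fin 100))) := by
  have h1 := hqRep_of_eqW (hqG.getD k 0) _ _ (hqWd3_rep (hqGw.getD k []) (hqChkGw k hk))
    (hqChkGen k hk)
  rw [hqRep_eq _ _ _ (hqGen_lt k (by omega)) h1]
  exact hqLet_prod_mem _

theorem hq_le_closure : HQ ≤ Subgroup.closure ({hqc, hqa} : Set (Equiv.Perm (Fin 100))) := by
  rw [HQ_eq, Subgroup.closure_le]
  rintro _ ⟨k, rfl⟩
  have hk : hqg k = hqGen k.1 := by
    rcases k with ⟨k, hk⟩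
    interval_cases k
    · exact hqGen_zero.symm
    · exact hqGen_one.symm
  rw [hk]
  exact hqGen_closure k.1 k.2

theorem hq_gen : Subgroup.closure {hqCg, hqAg} = (⊤ : Subgroup HQ) := by
  rw [eq_top_iff]
  intro g _
  have hm : (Subgroup.closure {hqCg, hqAg}).map (HQ : Subgroup (Equiv.Perm (Fin 100))).subtype =
      Subgroup.closure ({hqc, hqa} : Set (Equiv.Perm (Fin 100))) := by
    rw [MonoidHom.map_closure]
    congr 1
    rw [Set.image_pair]
    rfl
  have hg := hq_le_closure g.2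
  rw [← hm] at hg
  obtain ⟨g', hg', e⟩ := hg
  have : g' = g := Subtype.ext e
  rwa [this] at hg'

theorem hqPatW_spec (C Ci : ℕ) (O X : List ℕ) (s : ℕ) (hp : hqPatW C Ci O X s = true)
    (f1 : hqEqB (hqRepW (C :: X) 3) [] = true)
    (f2 : hqEqB (hqRepW (C :: X ++ Ci :: X) 10) [] = true)
    (f3 : hqEqB (hqRepW (C :: X ++ Ci :: X) 5) [] = false) :
    (O.any fun o => Nat.beq o s) = true := by
  unfold hqPatW at hp
  rw [f1] at hp
  dsimp only at hp
  rw [f2] at hp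
  dsimp only at hp
  rw [f3] at hp
  exact hp

theorem hqOrb_elt (j : ℕ) (T : ℕ) (t : Equiv.Perm (Fin 100)) (ht : HqRep T t) :
    List.Forall₂ HqRep (hqRepW [hqC] j ++ T :: hqRepW [hqCi] j)
      (hqRepG [hqc] j ++ t :: hqRepG [hqc⁻¹] j) :=
  hqRep_append _ _ _ _ (hqRepW_rep _ _ (List.Forall₂.cons hqc_rep List.Forall₂.nil) j)
    (List.Forall₂.cons ht (hqRepW_rep _ _ (List.Forall₂.cons hqci_rep List.Forall₂.nil) j))

theorem hqOrb_prod (j : ℕ) (t : Equiv.Perm (Fin 100)) :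
    (hqRepG [hqc] j ++ t :: hqRepG [hqc⁻¹] j).prod = hqc ^ j * t * (hqc ^ j)⁻¹ := by
  rw [List.prod_append, List.prod_cons, hqRepG_prod, hqRepG_prod, List.prod_cons, List.prod_nil,
    mul_one, List.prod_cons, List.prod_nil, mul_one, inv_pow, mul_assoc]

/-- the pattern of orders of an element relative to another -/
def HqPat (x y : HQ) : Prop :=
  y * y = 1 ∧ y ≠ 1 ∧ (x * y) ^ 3 = 1 ∧ (x * y * x⁻¹ * y) ^ 10 = 1 ∧ (x * y * x⁻¹ * y) ^ 5 ≠ 1

theorem hqPat_aut (α : MulAut HQ) (x y : HQ) (h : HqPat x y) : HqPat (α x) (α y) := by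
  obtain ⟨h1, h2, h3, h4, h5⟩ := h
  refine ⟨?_, ?_, ?_, ?_, ?_⟩
  · rw [← map_mul, h1, map_one]
  · intro h
    apply h2
    apply α.injective
    rw [h, map_one]
  · rw [← map_mul, ← map_pow, h3, map_one]
  · rw [← map_inv, ← map_mul, ← map_mul, ← map_mul, ← map_pow, h4, map_one]
  · intro h
    apply h5
    apply α.injective
    rw [map_pow, map_mul, map_mul, map_mul, map_inv, h, map_one]

theorem hqPat_ca : HqPat hqCg hqAg := by
  refine ⟨Subtype.ext hqa_sq, fun h => hqa_ne (congrArg Subtype.val h), Subtype.ext ?_,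
    Subtype.ext ?_, fun h => hqP3 ?_⟩
  · rw [Subgroup.coe_pow, Subgroup.coe_mul]
    exact hqP1
  · rw [Subgroup.coe_pow, Subgroup.coe_mul, Subgroup.coe_mul, Subgroup.coe_mul, Subgroup.coe_inv]
    exact hqP2
  · have := congrArg Subtype.val h
    rw [Subgroup.coe_pow, Subgroup.coe_mul, Subgroup.coe_mul, Subgroup.coe_mul, Subgroup.coe_inv]
      at this
    exact this

/-- the involutions with the pattern relative to a coded element form the listed orbit -/
theorem hq_hE_gen (C Ci : ℕ) (cc : Equiv.Perm (Fin 100)) (hC : HqRep C cc) (hCi : HqRep Ci cc⁻¹)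
    (hcm : cc ∈ HQ) (O : List ℕ) (T : ℕ) (t : Equiv.Perm (Fin 100)) (hT : HqRep T t)
    (htm : t ∈ HQ) (hlen : O.length = 11)
    (hO : ∀ j, j < 11 → O.getD j 0 = hqSig (hqRepW [hqC] j ++ T :: hqRepW [hqCi] j))
    (hchk : ∀ i, i < 21175 → hqPatW C Ci O (hqXc i) (hqXs i) = true)
    (x : Equiv.Perm (Fin 100)) (hx : x ∈ HQ) (hx2 : x * x = 1) (hx1 : x ≠ 1)
    (h1 : (cc * x) ^ 3 = 1) (h2 : (cc * x * cc⁻¹ * x) ^ 10 = 1)
    (h3 : (cc * x * cc⁻¹ * x) ^ 5 ≠ 1) :
    ∃ j : ℕ, x = hqc ^ j * t * (hqc ^ j)⁻¹ := by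
  obtain ⟨i, hi, e⟩ := hq_invol_listed x hx hx2 hx1
  have hp := hchk i hi
  have r1 : List.Forall₂ HqRep (C :: hqXc i) (cc :: hqXg i) := List.Forall₂.cons hC (hqXg_rep i)
  have r2 : List.Forall₂ HqRep (C :: hqXc i ++ Ci :: hqXc i) (cc :: hqXg i ++ cc⁻¹ :: hqXg i) :=
    hqRep_append _ _ _ _ r1 (List.Forall₂.cons hCi (hqXg_rep i))
  have p1 : (cc :: hqXg i).prod = cc * x := by
    rw [List.prod_cons, hqXg_prod, e]
  have p2 : (cc :: hqXg i ++ cc⁻¹ :: hqXg i).prod = cc * x * cc⁻¹ * x := by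
    rw [List.prod_append, List.prod_cons, List.prod_cons, hqXg_prod, e]
    group
  have hxm : cc * x * cc⁻¹ * x ∈ HQ :=
    Subgroup.mul_mem _ (Subgroup.mul_mem _ (Subgroup.mul_mem _ hcm hx) (Subgroup.inv_mem _ hcm)) hx
  have f1 : hqEqB (hqRepW (C :: hqXc i) 3) [] = true := by
    rw [hqEqB_iff]
    apply hqSig_of_eq _ _ _ [] (hqRepW_rep _ _ r1 3) List.Forall₂.nil
    rw [hqRepG_prod, p1]
    exact h1
  have f2 : hqEqB (hqRepW (C :: hqXc i ++ Ci :: hqXc i) 10) [] = true := by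
    rw [hqEqB_iff]
    apply hqSig_of_eq _ _ _ [] (hqRepW_rep _ _ r2 10) List.Forall₂.nil
    rw [hqRepG_prod, p2]
    exact h2
  have f3 : hqEqB (hqRepW (C :: hqXc i ++ Ci :: hqXc i) 5) [] = false := by
    rw [← Bool.not_eq_true, hqEqB_iff]
    intro h
    apply h3
    have hm : (hqRepG (cc :: hqXg i ++ cc⁻¹ :: hqXg i) 5).prod ∈ HQ := by
      apply hqRepG_mem
      rw [p2]
      exact hxm
    have e4 := hq_eq_of_sig _ _ _ [] (hqRepW_rep _ _ r2 5) List.Forall₂.nil hm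
      (Subgroup.one_mem _) h
    rw [hqRepG_prod, p2] at e4
    exact e4
  have hany := hqPatW_spec C Ci O (hqXc i) (hqXs i) hp f1 f2 f3
  rw [List.any_eq_true] at hany
  obtain ⟨o, ho, hbeq⟩ := hany
  have ho2 : o = hqXs i := Nat.eq_of_beq_eq_true hbeq
  obtain ⟨j, hj, hoj⟩ := List.getElem_of_mem ho
  have hD : O.getD j 0 = hqSig (hqXc i) := by
    rw [List.getD_eq_getElem _ _ hj, hoj, ho2, hqXs_eq i hi]
  have hj11 : j < 11 := by omega
  refine ⟨j, ?_⟩
  have hs : hqSig (hqRepW [hqC] j ++ T :: hqRepW [hqCi] j) = hqSig (hqXc i) := by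
    rw [← hO j hj11, hD]
  have hm : (hqRepG [hqc] j ++ t :: hqRepG [hqc⁻¹] j).prod ∈ HQ := by
    rw [hqOrb_prod]
    exact Subgroup.mul_mem _ (Subgroup.mul_mem _ (Subgroup.pow_mem _ hqc_mem _) htm)
      (Subgroup.inv_mem _ (Subgroup.pow_mem _ hqc_mem _))
  have := hq_eq_of_sig _ _ _ _ (hqOrb_elt j T t hT) (hqXg_rep i) hm
    (by rw [hqXg_prod]; exact hqX_mem _) hs
  rw [hqOrb_prod, hqXg_prod] at this
  rw [e, this]

theorem hq_pat_coe (x y : HQ) (h : HqPat x y) :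
    y.1 * y.1 = 1 ∧ y.1 ≠ 1 ∧ (x.1 * y.1) ^ 3 = 1 ∧ (x.1 * y.1 * x.1⁻¹ * y.1) ^ 10 = 1 ∧
      (x.1 * y.1 * x.1⁻¹ * y.1) ^ 5 ≠ 1 := by
  obtain ⟨h1, h2, h3, h4, h5⟩ := h
  refine ⟨congrArg Subtype.val h1, fun h => h2 (Subtype.ext h), ?_, ?_, ?_⟩
  · have := congrArg Subtype.val h3
    rw [Subgroup.coe_pow, Subgroup.coe_mul] at this
    exact this
  · have := congrArg Subtype.val h4
    rw [Subgroup.coe_pow, Subgroup.coe_mul, Subgroup.coe_mul, Subgroup.coe_mul, Subgroup.coe_inv]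
      at this
    exact this
  · intro h
    apply h5
    apply Subtype.ext
    rw [Subgroup.coe_pow, Subgroup.coe_mul, Subgroup.coe_mul, Subgroup.coe_mul, Subgroup.coe_inv]
    exact h

theorem hq_hEp (x : HQ) (h : HqPat hqCg x) : ∃ j : ℕ, x = hqCg ^ j * hqAg * (hqCg ^ j)⁻¹ := by
  obtain ⟨h1, h2, h3, h4, h5⟩ := hq_pat_coe _ _ h
  obtain ⟨j, hj⟩ := hq_hE_gen hqC hqCi hqc hqc_rep hqci_rep hqc_mem hqOrbSigP hqA hqa hqa_rep
    hqa_mem hqChkOrb.1 hqChkOrb.2.2.1 hqChkP x.1 x.2 h1 h2 h3 h4 h5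
  refine ⟨j, Subtype.ext ?_⟩
  rw [hj]
  rfl

theorem hq_hEm (x : HQ) (h : HqPat hqCg⁻¹ x) :
    ∃ j : ℕ, x = hqCg ^ j * hqA2g * (hqCg ^ j)⁻¹ := by
  obtain ⟨h1, h2, h3, h4, h5⟩ := hq_pat_coe _ _ h
  have hci : HqRep hqC (hqc⁻¹)⁻¹ := by rw [inv_inv]; exact hqc_rep
  obtain ⟨j, hj⟩ := hq_hE_gen hqCi hqC hqc⁻¹ hqci_rep hci (Subgroup.inv_mem _ hqc_mem) hqOrbSigM
    hqA2 hqa2 hqa2_rep hqa2_mem hqChkOrb.2.1 hqChkOrb.2.2.2 hqChkQ x.1 x.2 h1 h2 h3 h4 h5
  refine ⟨j, Subtype.ext ?_⟩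
  rw [hj]
  rfl

theorem hqSigma_sq (x : HQ) : hqSigma (hqSigma x) = x := hqSigma.left_inv x

theorem hqSigma_not_inn : hqSigma ∉ Cfsg.Inn HQ := by
  rintro ⟨g, hg⟩
  have hconj : ∀ x : HQ, g * x * g⁻¹ = hqSigma x := by
    intro x
    rw [← hg]
    rfl
  have hgc : g * hqCg * g⁻¹ = hqCg⁻¹ := by
    rw [hconj]
    apply Subtype.ext
    exact hqZ_c
  have hsq : g * g ∈ Subgroup.center HQ := by
    rw [Subgroup.mem_center_iff]
    intro x
    have := hqSigma_sq x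
    rw [← hconj, ← hconj] at this
    calc x * (g * g) = (g * (g * x * g⁻¹) * g⁻¹) * (g * g) := by rw [this]
      _ = g * g * x := by group
  rw [HQ_center, Subgroup.mem_bot] at hsq
  have hg1 : g ≠ 1 := by
    intro h
    rw [h, one_mul, inv_one, mul_one] at hgc
    have h2 : hqCg * hqCg = 1 := by
      calc hqCg * hqCg = hqCg * hqCg⁻¹ := by rw [← hgc]
        _ = 1 := mul_inv_cancel _
    have h11 : hqCg ^ 11 = 1 := by rw [← hqCg_order, pow_orderOf_eq_one]
    have : hqCg = 1 := by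
      have e : hqCg ^ 11 = (hqCg * hqCg) ^ 5 * hqCg := by
        rw [← pow_two, ← pow_mul, ← pow_succ]
      rw [h11, h2, one_pow, one_mul] at e
      exact e.symm
    exact hqc_ne (congrArg Subtype.val this)
  have hg1' : g.1 ≠ 1 := fun h => hg1 (Subtype.ext h)
  obtain ⟨i, hi, e⟩ := hq_invol_listed g.1 g.2 (congrArg Subtype.val hsq) hg1'
  have hinv : g.1 * hqc = hqc⁻¹ * g.1 := by
    have h1 : g * hqCg = hqCg⁻¹ * g := by
      calc g * hqCg = (g * hqCg * g⁻¹) * g := by group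
        _ = hqCg⁻¹ * g := by rw [hgc]
    have := congrArg Subtype.val h1
    rw [Subgroup.coe_mul, Subgroup.coe_mul, Subgroup.coe_inv] at this
    exact this
  have hnc : hqNc i = true := hqChkM i hi
  unfold hqNc at hnc
  have hs : hqEqB (hqXc i ++ [hqC]) (hqCi :: hqXc i) = true := by
    rw [hqEqB_iff]
    apply hqSig_of_eq _ _ (hqXg i ++ [hqc]) (hqc⁻¹ :: hqXg i)
      (hqRep_append _ _ _ _ (hqXg_rep i) (List.Forall₂.cons hqc_rep List.Forall₂.nil))
      (List.Forall₂.cons hqci_rep (hqXg_rep i))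
    rw [List.prod_append, List.prod_cons, List.prod_cons, List.prod_nil, mul_one, hqXg_prod, ← e]
    exact hinv
  rw [hs] at hnc
  exact Bool.false_ne_true hnc

theorem hqg_u : hqUg * hqCg * hqUg⁻¹ = hqCg ^ 3 := by
  apply Subtype.ext
  rw [Subgroup.coe_mul, Subgroup.coe_mul, Subgroup.coe_inv, Subgroup.coe_pow]
  exact hqu_conj

theorem hqg_sc : hqSigma hqCg = hqCg⁻¹ := by
  apply Subtype.ext
  rw [hqSigma_apply]
  exact hqZ_c

theorem hqg_sa : hqSigma hqAg = hqA2g := by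
  apply Subtype.ext
  rw [hqSigma_apply]
  rfl

/-- the outer automorphism group of the group on 100 points has order two -/
theorem hq_out_card : Nat.card (Cfsg.Out HQ) = 2 := by
  have hfac : (Nat.card HQ).factorization 11 = 1 := by rw [HQ_card]; exact hqFact11
  have : Finite HQ := Nat.finite_of_card_ne_zero (by rw [HQ_card]; norm_num)
  exact out_card_two_pat hqCg hqAg hqA2g hqSigma HqPat hqPat_aut
    (out_step_eleven hqCg hqUg hfac hqCg_order hqg_u) hq_gen hqPat_ca hq_hEp hq_hEm hqg_sc hqg_sa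
    hqSigma_not_inn

end Cfsg.Agent.Lib.helper4
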