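import Mathlib
import Cfsg.Agent.Lib.helper4.Supersolvable
import Cfsg.Agent.Lib.helper4.SupersolvableB
import Cfsg.Agent.Lib.helper4.SupersolvableC
import Cfsg.Agent.Lib.Helper1.Nilp
import Cfsg.Agent.Lib.helper8.SubgroupCard
import Cfsg.Agent.S0532

set_option autoImplicit false

namespace Cfsg.Agent.Lib.helper4

open Cfsg Cfsg.Agent.Lib.helper8

universe u

/-- a nontrivial normal subgroup below a member of a supersolvable chain contains a normal
subgroup of prime order -/
theorem exists_normal_prime_in_aux {G : Type u} [Group G] [Finite G] {B : Subgroup G}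
    (h : SSChain B) : ∀ A : Subgroup G, A.Normal → A ≤ B → A ≠ ⊥ →
      ∃ N : Subgroup G, N ≤ A ∧ N.Normal ∧ (Nat.card N).Prime := by
  induction h with
  | bot =>
    intro A _ hAB hA
    exact absurd (le_bot_iff.mp hAB) hA
  | step B g hB hBn hBg ih =>
    intro A hAn hAB hA
    by_cases hAB0 : A ⊓ B = ⊥
    · haveI := hBn
      have hmem : ∀ a : A, (QuotientGroup.mk' B) (a : G) ∈
          Subgroup.zpowers ((QuotientGroup.mk' B) g) := by
        intro a
        have ha : (a : G) ∈ B ⊔ Subgroup.zpowers g := hAB a.2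
        have h1 : (QuotientGroup.mk' B) (a : G) ∈
            (B ⊔ Subgroup.zpowers g).map (QuotientGroup.mk' B) := Subgroup.mem_map_of_mem _ ha
        have h2 : B.map (QuotientGroup.mk' B) = ⊥ := by
          rw [Subgroup.map_eq_bot_iff, QuotientGroup.ker_mk']
        rw [Subgroup.map_sup, MonoidHom.map_zpowers, h2, bot_sup_eq] at h1
        exact h1
      let f : A →* Subgroup.zpowers ((QuotientGroup.mk' B) g) :=
        ((QuotientGroup.mk' B).comp A.subtype).codRestrict _ hmem
      have hf : Function.Injective f := by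
        rw [injective_iff_map_eq_one]
        intro a ha
        have h1 : (QuotientGroup.mk' B) (a : G) = 1 := congrArg Subtype.val ha
        rw [QuotientGroup.mk'_apply, QuotientGroup.eq_one_iff] at h1
        have h2 : (a : G) ∈ A ⊓ B := ⟨a.2, h1⟩
        rw [hAB0, Subgroup.mem_bot] at h2
        exact Subtype.ext h2
      haveI : IsCyclic A := isCyclic_of_injective f hf
      obtain ⟨x, hx⟩ := IsCyclic.exists_generator (α := A)
      have hAx : Subgroup.zpowers (x : G) = A := by
        ext y
        constructor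
        · intro hy
          obtain ⟨k, rfl⟩ := Subgroup.mem_zpowers_iff.mp hy
          exact A.zpow_mem x.2 k
        · intro hy
          obtain ⟨k, hk⟩ := Subgroup.mem_zpowers_iff.mp (hx ⟨y, hy⟩)
          rw [Subgroup.mem_zpowers_iff]
          refine ⟨k, ?_⟩
          have := congrArg Subtype.val hk
          simpa using this
      have hxn : (Subgroup.zpowers (x : G)).Normal := by rw [hAx]; exact hAn
      have hch : SSChain (⊥ ⊔ Subgroup.zpowers (x : G)) :=
        SSChain.step ⊥ (x : G) SSChain.bot Subgroup.normal_bot (by rw [bot_sup_eq]; exact hxn)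
      have hne : (⊥ ⊔ Subgroup.zpowers (x : G) : Subgroup G) ≠ ⊥ := by
        rw [bot_sup_eq, hAx]; exact hA
      obtain ⟨N, hN, hNn, hNp⟩ := exists_normal_prime_le hch hne
      rw [bot_sup_eq, hAx] at hN
      exact ⟨N, hN, hNn, hNp⟩
    · haveI := hAn
      haveI := hBn
      obtain ⟨N, hN, hNn, hNp⟩ := ih (A ⊓ B) inferInstance inf_le_right hAB0
      exact ⟨N, hN.trans inf_le_left, hNn, hNp⟩

theorem exists_normal_prime_in {G : Type u} [Group G] [Finite G] (hG : IsSupersolvable G)
    (A : Subgroup G) [hA : A.Normal] (hne : A ≠ ⊥) :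
    ∃ N : Subgroup G, N ≤ A ∧ N.Normal ∧ (Nat.card N).Prime := by
  rw [isSupersolvable_iff] at hG
  exact exists_normal_prime_in_aux hG A hA le_top hne


theorem card_map_mk'_of_le {G : Type u} [Group G] [Finite G] (N : Subgroup G) [N.Normal]
    (K : Subgroup G) (hNK : N ≤ K) :
    Nat.card (K.map (QuotientGroup.mk' N)) * Nat.card N = Nat.card K := by
  rw [← card_comap_mk', Subgroup.comap_map_eq_self]
  rw [QuotientGroup.ker_mk']
  exact hNK

/-- a normal Sylow subgroup is contained in every subgroup whose order it divides -/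
theorem normal_sylow_le_of_card_dvd {G : Type u} [Group G] [Finite G] {q : ℕ} [Fact q.Prime]
    (P : Sylow q G) [hP : (P : Subgroup G).Normal] (K : Subgroup G)
    (hd : Nat.card (P : Subgroup G) ∣ Nat.card K) : (P : Subgroup G) ≤ K := by
  set Q : Subgroup G := (P : Subgroup G) with hQ
  have h1 : Nat.card (Q ⊓ K : Subgroup G) * (Q ⊓ K).relIndex K = Nat.card K :=
    h8_card_mul_relIndex inf_le_right
  rw [Subgroup.inf_relIndex_right] at h1
  have h2 : Q.relIndex K ∣ Q.index := Subgroup.relIndex_dvd_index_of_normal Q K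
  have hcop : (Nat.card Q).Coprime Q.index := P.card_coprime_index
  have hcop' : (Nat.card Q).Coprime (Q.relIndex K) := Nat.Coprime.coprime_dvd_right h2 hcop
  have h3 : Nat.card Q ∣ Nat.card (Q ⊓ K : Subgroup G) := by
    rw [← h1] at hd
    exact hcop'.dvd_of_dvd_mul_right hd
  have h4 : Q ⊓ K = Q := by
    apply Subgroup.eq_of_le_of_card_ge inf_le_left
    exact Nat.le_of_dvd Nat.card_pos h3
  rw [← h4]
  exact inf_le_right

/-- transfer a subgroup `K ⊇ N` of `G` below the preimage of `Hb` to a subgroup of `Hb` -/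
theorem exists_subgroup_of_quotient {G : Type u} [Group G] [Finite G] (N : Subgroup G) [N.Normal]
    (Hb : Subgroup (G ⧸ N)) (K : Subgroup G) (hNK : N ≤ K)
    (hKH : K ≤ Hb.comap (QuotientGroup.mk' N)) (d : ℕ) (hd : Nat.card K = d * Nat.card N) :
    ∃ L : Subgroup Hb, Nat.card L = d := by
  have hle : K.map (QuotientGroup.mk' N) ≤ Hb := Subgroup.map_le_iff_le_comap.mpr hKH
  refine ⟨(K.map (QuotientGroup.mk' N)).subgroupOf Hb, ?_⟩
  rw [h8_card_subgroupOf hle]
  have h1 := card_map_mk'_of_le N K hNK
  rw [hd] at h1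
  exact Nat.eq_of_mul_eq_mul_right Nat.card_pos h1

end Cfsg.Agent.Lib.helper4
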