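import Mathlib
import Cfsg.Agent.Lib.helper4.HereditaryCLT

set_option autoImplicit false

namespace Cfsg.Agent.Lib.helper4

open Cfsg Cfsg.Agent.Lib.helper8 Cfsg.Agent.S0532

universe u

/-- the image of a supersolvable subgroup in a quotient is supersolvable -/
theorem isSupersolvable_map_mk' {G : Type u} [Group G] (N : Subgroup G) [N.Normal]
    (T : Subgroup G) (hT : IsSupersolvable T) :
    IsSupersolvable (T.map (QuotientGroup.mk' N)) :=
  isSupersolvable_of_surjective ((QuotientGroup.mk' N).subgroupMap T)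
    ((QuotientGroup.mk' N).subgroupMap_surjective T) hT

/-- a subgroup of the quotient whose preimage is supersolvable is supersolvable -/
theorem isSupersolvable_of_comap {G : Type u} [Group G] (N : Subgroup G) [N.Normal]
    (Hb : Subgroup (G ⧸ N)) (hH : IsSupersolvable (Hb.comap (QuotientGroup.mk' N))) :
    IsSupersolvable Hb :=
  isSupersolvable_of_surjective ((QuotientGroup.mk' N).subgroupComap Hb)
    ((QuotientGroup.mk' N).subgroupComap_surjective_of_surjective Hb
      (QuotientGroup.mk'_surjective N)) hH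

theorem card_lt_of_ne_top {G : Type u} [Group G] [Finite G] (H : Subgroup G) (hH : H ≠ ⊤) :
    Nat.card H < Nat.card G := by
  rcases Nat.lt_or_ge (Nat.card H) (Nat.card G) with h | h
  · exact h
  · exact absurd (Subgroup.eq_top_of_card_eq H (le_antisymm (Subgroup.card_le_card_group H) h)) hH


/-- a subgroup normalized by `T` and `Q` with `T ⊔ Q = ⊤` is normal -/
theorem normal_of_sup_eq_top {G : Type u} [Group G] [Finite G] (T Q X : Subgroup G)
    (hTQ : T ⊔ Q = ⊤) (hT : ∀ g ∈ T, ∀ x ∈ X, g * x * g⁻¹ ∈ X)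
    (hQ : ∀ g ∈ Q, ∀ x ∈ X, g * x * g⁻¹ ∈ X) : X.Normal := by
  rw [← Subgroup.normalizer_eq_top_iff, eq_top_iff, ← hTQ, sup_le_iff]
  constructor
  · intro g hg
    exact Subgroup.mem_normalizer_fintype (fun x hx => hT g hg x hx)
  · intro g hg
    exact Subgroup.mem_normalizer_fintype (fun x hx => hQ g hg x hx)

/-- existence of a subgroup of order `d` in `G ⧸ N`, the key counting step -/
theorem clt_quotient_key {G : Type u} [Group G] [Finite G] (q k' mQ : ℕ) (hq : q.Prime)
    (Q T N : Subgroup G) [Q.Normal] [N.Normal]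
    (hcQ : Nat.card Q = q ^ (k' + 1)) (hcN : Nat.card N = q)
    (hcGQ : Nat.card (G ⧸ Q) = mQ) (hcop : mQ.Coprime q)
    (hcT : Nat.card T = mQ * q ^ k') (hNQ : N ≤ Q) (hNT : N ≤ T)
    (hGQ : HasSubgroupOfEveryOrder (G ⧸ Q))
    (hTN : HasSubgroupOfEveryOrder (T.map (QuotientGroup.mk' N)))
    (d : ℕ) (hd : d ∣ Nat.card (G ⧸ N)) : ∃ L : Subgroup (G ⧸ N), Nat.card L = d := by
  have hcG : Nat.card G = mQ * q ^ (k' + 1) := by
    rw [Subgroup.card_eq_card_quotient_mul_card_subgroup Q, hcGQ, hcQ]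
  have hcGN : Nat.card (G ⧸ N) = mQ * q ^ k' := by
    have h1 := Subgroup.card_eq_card_quotient_mul_card_subgroup N
    rw [hcG, hcN, pow_succ, ← mul_assoc] at h1
    exact (Nat.eq_of_mul_eq_mul_right hq.pos h1).symm
  rw [hcGN] at hd
  obtain ⟨d₁, d₂, hd₁, hd₂, rfl⟩ := (Nat.dvd_mul).mp hd
  obtain ⟨j, hj, rfl⟩ := (Nat.dvd_prime_pow hq).mp hd₂
  rcases Nat.lt_or_ge j k' with hlt | hge
  · -- inside T / N
    have hcTN : Nat.card (T.map (QuotientGroup.mk' N)) = mQ * q ^ (k' - 1) := by
      have h1 := card_map_mk'_of_le N T hNT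
      rw [hcT, hcN] at h1
      have h2 : mQ * q ^ k' = mQ * q ^ (k' - 1) * q := by
        rw [mul_assoc, ← pow_succ]
        congr 2
        omega
      rw [h2] at h1
      exact Nat.eq_of_mul_eq_mul_right hq.pos h1
    have hdd : d₁ * q ^ j ∣ Nat.card (T.map (QuotientGroup.mk' N)) := by
      rw [hcTN]
      exact Nat.mul_dvd_mul hd₁ (pow_dvd_pow q (by omega))
    obtain ⟨L', hL'⟩ := hTN _ hdd
    refine ⟨L'.map (T.map (QuotientGroup.mk' N)).subtype, ?_⟩
    rw [Subgroup.card_map_of_injective (Subgroup.subtype_injective _), hL']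
  · have hjk : j = k' := le_antisymm hj hge
    subst hjk
    rw [← hcGQ] at hd₁
    obtain ⟨Eb, hEb⟩ := hGQ d₁ hd₁
    set E := Eb.comap (QuotientGroup.mk' Q) with hE
    have hcE : Nat.card E = d₁ * q ^ (j + 1) := by
      rw [hE, card_comap_mk', hEb, hcQ]
    have hQE : Q ≤ E := by
      intro x hx
      rw [hE, Subgroup.mem_comap, QuotientGroup.mk'_apply, (QuotientGroup.eq_one_iff x).mpr hx]
      exact Eb.one_mem
    have hNE : N ≤ E := hNQ.trans hQE
    refine ⟨E.map (QuotientGroup.mk' N), ?_⟩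
    have h1 := card_map_mk'_of_le N E hNE
    rw [hcE, hcN, pow_succ, ← mul_assoc] at h1
    exact Nat.eq_of_mul_eq_mul_right hq.pos h1

end Cfsg.Agent.Lib.helper4
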