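import Mathlib
import Cfsg.Agent.Lib.helper4.HereditaryCLTB

set_option autoImplicit false

namespace Cfsg.Agent.Lib.helper4

open Cfsg Cfsg.Agent.Lib.helper8 Cfsg.Agent.S0532

universe u

theorem supersolvable_of_hereditary_clt_aux (n : ℕ) : ∀ (G : Type u) [Group G] [Finite G],
    Nat.card G = n → (∀ H : Subgroup G, HasSubgroupOfEveryOrder H) → IsSupersolvable G := by
  induction n using Nat.strong_induction_on with
  | _ n ih =>
    intro G _ _ hn h
    by_cases h1 : Nat.card G = 1
    · haveI : Subsingleton G := (Nat.card_eq_one_iff_unique.mp h1).1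
      exact isSupersolvable_of_subsingleton
    have hGpos : 0 < Nat.card G := Nat.card_pos
    -- the largest prime
    have hne : (Nat.card G).primeFactors.Nonempty :=
      Nat.nonempty_primeFactors.mpr (by omega)
    set q := (Nat.card G).primeFactors.max' hne with hq
    have hqmem : q ∈ (Nat.card G).primeFactors := Finset.max'_mem _ hne
    have hqp : q.Prime := Nat.prime_of_mem_primeFactors hqmem
    have hqd : q ∣ Nat.card G := Nat.dvd_of_mem_primeFactors hqmem
    have hmax : ∀ r : ℕ, r.Prime → r ∣ Nat.card G → r ≤ q := fun r hr hrd =>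
      Finset.le_max' _ r (Nat.mem_primeFactors.mpr ⟨hr, hrd, hGpos.ne'⟩)
    haveI : Fact q.Prime := ⟨hqp⟩
    let P : Sylow q G := default
    have hPn : (P : Subgroup G).Normal := Cfsg.Agent.S0532.result h q hqd hmax P
    set Q : Subgroup G := (P : Subgroup G) with hQ
    haveI : Q.Normal := hPn
    -- proper subgroups are supersolvable
    have hproper : ∀ H : Subgroup G, H ≠ ⊤ → IsSupersolvable H := by
      intro H hH
      have hlt := card_lt_of_ne_top H hH
      exact ih _ (hn ▸ hlt) H rfl (hasSub_sub h H)
    -- order of Q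
    obtain ⟨k, hk⟩ := IsPGroup.iff_card.mp P.isPGroup'
    have hk' : Nat.card Q = q ^ k := hk
    have hk0 : k ≠ 0 := by
      intro h0
      have := P.dvd_card_of_dvd_card hqd
      rw [hk, h0, pow_zero] at this
      exact hqp.one_lt.ne' (Nat.dvd_one.mp this)
    obtain ⟨k', rfl⟩ : ∃ k', k = k' + 1 := ⟨k - 1, by omega⟩
    have hcopQ : (Nat.card Q).Coprime Q.index := P.card_coprime_index
    have hidx : Q.index = Nat.card (G ⧸ Q) := Subgroup.index_eq_card Q
    set mQ := Nat.card (G ⧸ Q) with hmQ
    have hcop : mQ.Coprime q := by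
      rw [hidx, hk'] at hcopQ
      exact ((Nat.coprime_pow_left_iff (by omega) q mQ).mp hcopQ).symm
    have hcG : Nat.card G = mQ * q ^ (k' + 1) := by
      rw [Subgroup.card_eq_card_quotient_mul_card_subgroup Q, hk']
    -- the quotient by Q
    have hGQ : IsSupersolvable (G ⧸ Q) := by
      have hlt : Nat.card (G ⧸ Q) < n := by
        rw [← hn, hcG, ← hmQ]
        have : 1 < q ^ (k' + 1) := Nat.one_lt_pow (by omega) hqp.one_lt
        have hmpos : 0 < mQ := Nat.card_pos
        nlinarith
      apply ih _ hlt (G ⧸ Q) rfl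
      intro Hb d hd
      set H := Hb.comap (QuotientGroup.mk' Q) with hH
      have hcH : Nat.card H = Nat.card Hb * Nat.card Q := card_comap_mk' Q Hb
      have hdd : d * Nat.card Q ∣ Nat.card H := by
        rw [hcH]
        exact Nat.mul_dvd_mul_right hd _
      obtain ⟨K', hK'⟩ := h H _ hdd
      set K := K'.map H.subtype with hK
      have hcK : Nat.card K = d * Nat.card Q := by
        rw [hK, Subgroup.card_map_of_injective (Subgroup.subtype_injective _), hK']
      have hKH : K ≤ H := by
        rw [hK]
        exact Subgroup.map_subtype_le K'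
      have hQK : Q ≤ K := by
        apply normal_sylow_le_of_card_dvd P K
        rw [hcK]
        exact Dvd.intro_left d rfl
      exact exists_subgroup_of_quotient Q Hb K hQK hKH d hcK
    -- a subgroup of index q
    have hmd : mQ * q ^ k' ∣ Nat.card G := by
      rw [hcG, pow_succ, ← mul_assoc]
      exact Dvd.intro _ rfl
    obtain ⟨T, hT⟩ := hasSub_self h _ hmd
    have hTidx : T.index = q := by
      have h2 := Subgroup.card_mul_index T
      rw [hT, hcG, pow_succ, ← mul_assoc] at h2
      have hpos : 0 < mQ * q ^ k' := by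
        have hmpos : 0 < mQ := Nat.card_pos
        exact Nat.mul_pos hmpos (pow_pos hqp.pos k')
      exact Nat.eq_of_mul_eq_mul_left hpos h2
    have hTtop : T ≠ ⊤ := by
      intro htop
      rw [htop, Subgroup.index_top] at hTidx
      exact hqp.one_lt.ne hTidx
    have hTss : IsSupersolvable T := hproper T hTtop
    -- T ⊔ Q = ⊤ and the index of T ⊓ Q in Q
    have hrel := relIndex_mul_index_sup Q T
    rw [hTidx] at hrel
    have hrel1 : T.relIndex Q ≠ 1 := by
      intro h1'
      have hQT : Q ≤ T := Subgroup.relIndex_eq_one.mp h1'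
      have hdvd := Subgroup.card_dvd_of_le hQT
      rw [hk', hT] at hdvd
      have h3 : q ^ (k' + 1) ∣ q ^ k' := by
        have hc : (q ^ (k' + 1)).Coprime mQ := (Nat.Coprime.pow_left _ hcop.symm)
        exact hc.dvd_of_dvd_mul_left hdvd
      have := Nat.pow_dvd_pow_iff_le_right hqp.one_lt |>.mp h3
      omega
    have hrelq : T.relIndex Q = q := by
      have hd : T.relIndex Q ∣ q := Dvd.intro _ hrel
      rcases (Nat.dvd_prime hqp).mp hd with h' | h'
      · exact absurd h' hrel1
      · exact h'
    have hTQ : T ⊔ Q = ⊤ := by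
      rw [hrelq] at hrel
      have : (T ⊔ Q).index = 1 := by
        have h5 : q * (T ⊔ Q).index = q * 1 := by rw [hrel, mul_one]
        exact Nat.eq_of_mul_eq_mul_left hqp.pos h5
      exact Subgroup.index_eq_one.mp this
    set Q₀ : Subgroup G := T ⊓ Q with hQ₀
    have hQ₀rel : Q₀.relIndex Q = q := by
      rw [hQ₀, Subgroup.inf_relIndex_right, hrelq]
    have hQ₀card : Nat.card Q₀ * q = Nat.card Q := by
      have := h8_card_mul_relIndex (inf_le_right : Q₀ ≤ Q)
      rwa [hQ₀rel] at this
    -- Q₀ is normal in G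
    have hQ₀n : Q₀.Normal := by
      apply normal_of_sup_eq_top T Q Q₀ hTQ
      · intro g hg x hx
        exact ⟨T.mul_mem (T.mul_mem hg hx.1) (T.inv_mem hg), hPn.conj_mem x hx.2 g⟩
      · intro g hg x hx
        have hnorm : (Q₀.subgroupOf Q).Normal := by
          apply Subgroup.normal_of_index_eq_minFac_card
          show Q₀.relIndex Q = _
          rw [hQ₀rel, hk', Nat.Prime.pow_minFac hqp (by omega)]
        have := hnorm.conj_mem ⟨x, hx.2⟩ (Subgroup.mem_subgroupOf.mpr hx) ⟨g, hg⟩
        exact Subgroup.mem_subgroupOf.mp this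
    by_cases hQ₀bot : Q₀ = ⊥
    · -- Q has order q
      have hcQ : Nat.card Q = q := by
        rw [← hQ₀card, hQ₀bot, Subgroup.card_bot, one_mul]
      haveI : IsCyclic Q := isCyclic_of_prime_card hcQ
      exact isSupersolvable_of_cyclic_normal Q hGQ
    -- a normal subgroup of order q inside Q₀ ∩ Z(Q)
    haveI : (Subgroup.center Q).Characteristic := inferInstance
    have hZn : ((Subgroup.center Q).map Q.subtype).Normal :=
      ConjAct.normal_of_characteristic_of_normal
    set Z : Subgroup G := (Subgroup.center Q).map Q.subtype with hZ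
    haveI := hZn
    haveI := hQ₀n
    set A : Subgroup G := Q₀ ⊓ Z with hA
    have hAn : A.Normal := inferInstance
    have hAne : A ≠ ⊥ := by
      haveI : Group.IsNilpotent Q := P.isPGroup'.isNilpotent
      haveI : (Q₀.subgroupOf Q).Normal := hQ₀n.subgroupOf Q
      have hne' : Q₀.subgroupOf Q ≠ ⊥ := by
        intro hb
        apply hQ₀bot
        rw [Subgroup.subgroupOf_eq_bot] at hb
        have : Q₀ ⊓ Q = Q₀ := inf_eq_left.mpr inf_le_right
        rw [← this]
        exact disjoint_iff.mp hb
      have hz := Cfsg.Agent.Lib.Helper1.normal_inf_center_ne_bot (Q₀.subgroupOf Q) hne'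
      obtain ⟨z0, hz0⟩ := (Subgroup.ne_bot_iff_exists_ne_one).mp hz
      intro hAbot
      apply hz0
      have hz0mem := z0.2
      rw [Subgroup.mem_inf, Subgroup.mem_subgroupOf] at hz0mem
      have : ((z0 : Q) : G) ∈ A := ⟨hz0mem.1, ⟨(z0 : Q), hz0mem.2, rfl⟩⟩
      rw [hAbot, Subgroup.mem_bot] at this
      exact Subtype.ext (Subtype.ext this)
    have hAT : A ≤ T := inf_le_left.trans inf_le_left
    haveI hATn : (A.subgroupOf T).Normal := hAn.subgroupOf T
    have hATne : A.subgroupOf T ≠ ⊥ := by
      intro hb
      apply hAne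
      rw [Subgroup.subgroupOf_eq_bot] at hb
      have : A ⊓ T = A := inf_eq_left.mpr hAT
      rw [← this]
      exact disjoint_iff.mp hb
    obtain ⟨NT, hNTle, hNTn, hNTp⟩ := exists_normal_prime_in hTss (A.subgroupOf T) hATne
    set N : Subgroup G := NT.map T.subtype with hN
    have hNA : N ≤ A := by
      rintro _ ⟨y, hy, rfl⟩
      exact Subgroup.mem_subgroupOf.mp (hNTle hy)
    have hNT : N ≤ T := hNA.trans hAT
    have hNQ : N ≤ Q := hNA.trans (inf_le_left.trans inf_le_right)
    have hcNp : (Nat.card N).Prime := by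
      rw [hN, Subgroup.card_map_of_injective (Subgroup.subtype_injective _)]
      exact hNTp
    have hcN : Nat.card N = q := by
      have hd := Subgroup.card_dvd_of_le hNQ
      rw [hk'] at hd
      exact (Nat.prime_dvd_prime_iff_eq hcNp hqp).mp (hcNp.dvd_of_dvd_pow hd)
    have hNn : N.Normal := by
      apply normal_of_sup_eq_top T Q N hTQ
      · rintro g hg _ ⟨y, hy, rfl⟩
        refine ⟨⟨g, hg⟩ * y * ⟨g, hg⟩⁻¹, hNTn.conj_mem y hy ⟨g, hg⟩, rfl⟩
      · intro g hg x hx
        have hxZ : x ∈ Z := (hNA hx).2
        obtain ⟨c, hc, rfl⟩ := hxZ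
        have hcomm := Subgroup.mem_center_iff.mp hc ⟨g, hg⟩
        have hcomm' : g * (c : G) = (c : G) * g := congrArg Subtype.val hcomm
        have : g * (c : G) * g⁻¹ = (c : G) := by
          rw [hcomm']; group
        rw [Subgroup.coe_subtype, this]
        exact hx
    haveI := hNn
    haveI : IsCyclic N := isCyclic_of_prime_card hcN
    -- the quotient by N
    have hGN : IsSupersolvable (G ⧸ N) := by
      have hlt : Nat.card (G ⧸ N) < n := by
        rw [← hn]
        exact card_quotient_lt N hcNp
      apply ih _ hlt (G ⧸ N) rfl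
      intro Hb
      by_cases hHb : Hb = ⊤
      · rw [hHb]
        apply hasSub_of_mulEquiv Subgroup.topEquiv.symm
        intro d hd
        exact clt_quotient_key q k' mQ hqp Q T N hk' hcN rfl hcop hT hNQ hNT
          (hasSubgroupOfEveryOrder hGQ)
          (hasSubgroupOfEveryOrder (isSupersolvable_map_mk' N T hTss)) d hd
      · have hcomap : Hb.comap (QuotientGroup.mk' N) ≠ ⊤ := by
          intro htop
          apply hHb
          rw [eq_top_iff]
          intro x _
          obtain ⟨g, rfl⟩ := QuotientGroup.mk'_surjective N x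
          have : g ∈ Hb.comap (QuotientGroup.mk' N) := by rw [htop]; exact Subgroup.mem_top g
          exact this
        exact hasSubgroupOfEveryOrder (isSupersolvable_of_comap N Hb (hproper _ hcomap))
    exact isSupersolvable_of_cyclic_normal N hGN

theorem supersolvable_of_hereditary_clt {G : Type u} [Group G] [Finite G]
    (h : ∀ H : Subgroup G, HasSubgroupOfEveryOrder H) : IsSupersolvable G :=
  supersolvable_of_hereditary_clt_aux _ G rfl h

end Cfsg.Agent.Lib.helper4
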