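import Mathlib

set_option autoImplicit false

/-! Data for the automorphisms of the first Janko group: positions (in the subgroup list and the
coset list) of the centraliser of the second generator, of representatives of the double cosets of
the first generator's group of powers and that centraliser, and for each representative `r` and
each `a < 7` a triple `(a', j, k)` saying that the second generator times the `a`-th power of the
first generator times `r` is the `a'`-th power of the first generator times the `j`-th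
representative times the `k`-th table of the centraliser. -/

namespace Cfsg.Agent.Lib.helper4

/-- positions of the thirty tables commuting with the second generator -/
def j1DcCY : List (ℕ × ℕ) := [
  (17, 256), (26, 40), (27, 48), (27, 49), (53, 16), (74, 43), (79, 261), (101, 26), (147, 121), (164, 31),
  (210, 216), (210, 217), (211, 45), (266, 117), (311, 134), (451, 127), (458, 62), (458, 63), (511, 243), (514, 80),
  (550, 12), (573, 3), (579, 199), (588, 237), (588, 238), (595, 73), (637, 244), (637, 245), (649, 264), (659, 265)]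

set_option maxRecDepth 1000000 in
/-- positions of double coset representatives, part 1 -/
def j1DcIdxA : List (ℕ × ℕ) := [
  (659, 265), (0, 0), (0, 1), (0, 2), (0, 3), (0, 4), (0, 5), (0, 6), (0, 7), (0, 8),
  (0, 9), (0, 10), (0, 11), (0, 12), (0, 13), (0, 14), (0, 15), (0, 16), (0, 17), (0, 18),
  (0, 19), (0, 20), (0, 21), (0, 24), (0, 25), (0, 26), (0, 27), (0, 28), (0, 29), (0, 31),
  (0, 32), (0, 33), (0, 34), (0, 36), (0, 37), (0, 38), (0, 39), (0, 40), (0, 41), (0, 43),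
  (0, 44), (0, 45), (0, 46), (0, 47), (0, 48), (0, 50), (0, 51), (0, 52), (0, 53), (0, 54),
  (0, 64), (0, 65), (0, 66), (0, 68), (0, 69), (0, 70), (0, 71), (0, 73), (0, 75), (0, 76),
  (0, 78), (0, 79), (0, 80), (0, 81), (0, 82), (0, 83), (0, 84), (0, 85), (0, 86), (0, 87),
  (0, 88), (0, 89), (0, 90), (0, 92), (0, 93), (0, 94), (0, 95), (0, 97), (0, 99), (0, 100),
  (0, 101), (0, 102), (0, 103), (0, 104), (0, 106), (0, 107), (0, 108), (0, 109), (0, 110), (0, 111),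
  (0, 112), (0, 113), (0, 115), (0, 116), (0, 117), (0, 118), (0, 119), (0, 121), (0, 122), (0, 123),
  (0, 124), (0, 127), (0, 128), (0, 129), (0, 130), (0, 131), (0, 132), (0, 133), (0, 134), (0, 135),
  (0, 137), (0, 138), (0, 139), (0, 141), (0, 142), (0, 143), (0, 144), (0, 145), (0, 146), (0, 147),
  (0, 149), (0, 151), (0, 152), (0, 153), (0, 154), (0, 156), (0, 157), (0, 158), (0, 159), (0, 160),
  (0, 162), (0, 163), (0, 164), (0, 165), (0, 166), (0, 167), (0, 169), (0, 172), (0, 173), (0, 174),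
  (0, 176), (0, 179), (0, 180), (0, 181), (0, 184), (0, 185), (0, 186), (0, 187), (0, 188), (0, 190),
  (0, 191), (0, 192), (0, 193), (0, 194), (0, 195), (0, 197), (0, 198), (0, 199), (0, 200), (0, 201),
  (0, 202), (0, 204), (0, 205), (0, 206), (0, 207), (0, 208), (0, 209), (0, 211), (0, 212), (0, 213),
  (0, 216), (0, 218), (0, 220), (0, 221), (0, 222), (0, 223), (0, 226), (0, 227), (0, 228), (0, 230),
  (0, 232), (0, 233), (0, 234), (0, 235), (0, 236), (0, 237), (0, 239), (0, 241), (0, 243), (0, 246),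
  (0, 247), (0, 248), (0, 250), (0, 251), (0, 253), (0, 255), (0, 256), (0, 257), (0, 258), (0, 260),
  (0, 261), (0, 262), (0, 263), (0, 264), (0, 265), (1, 0), (1, 1), (1, 3), (1, 4)]

set_option maxRecDepth 1000000 in
/-- positions of double coset representatives, part 2 -/
def j1DcIdxB : List (ℕ × ℕ) := [
  (1, 5), (1, 6), (1, 8), (1, 9), (1, 10), (1, 12), (1, 15), (1, 16), (1, 17), (1, 18),
  (1, 19), (1, 20), (1, 24), (1, 26), (1, 27), (1, 28), (1, 34), (1, 36), (1, 37), (1, 38),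
  (1, 40), (1, 41), (1, 43), (1, 44), (1, 46), (1, 47), (1, 50), (1, 51), (1, 52), (1, 53),
  (1, 54), (1, 55), (1, 57), (1, 58), (1, 59), (1, 60), (1, 61), (1, 64), (1, 65), (1, 66),
  (1, 67), (1, 68), (1, 73), (1, 75), (1, 76), (1, 79), (1, 80), (1, 81), (1, 84), (1, 85),
  (1, 86), (1, 88), (1, 89), (1, 90), (1, 92), (1, 94), (1, 95), (1, 97), (1, 100), (1, 101),
  (1, 102), (1, 104), (1, 106), (1, 107), (1, 108), (1, 109), (1, 110), (1, 111), (1, 112), (1, 113),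
  (1, 115), (1, 117), (1, 118), (1, 121), (1, 122), (1, 123), (1, 128), (1, 129), (1, 130), (1, 131),
  (1, 132), (1, 133), (1, 134), (1, 135), (1, 137), (1, 156), (1, 157), (1, 159), (1, 160), (1, 163),
  (1, 164), (1, 167), (1, 169), (1, 172), (1, 176), (1, 177), (1, 178), (1, 179), (1, 181), (1, 184),
  (1, 185), (1, 186), (1, 188), (1, 190), (1, 191), (1, 193), (1, 197), (1, 202), (1, 205), (1, 207),
  (1, 208), (1, 211), (1, 214), (1, 216), (1, 218), (1, 223), (1, 226), (1, 228), (1, 230), (1, 232),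
  (1, 235), (1, 236), (1, 237), (1, 241), (1, 243), (1, 244), (1, 247), (1, 248), (1, 249), (1, 260),
  (1, 261), (1, 262), (1, 263), (1, 265), (2, 0), (2, 1), (2, 2), (2, 3), (2, 4), (2, 6),
  (2, 14), (2, 15), (2, 17), (2, 18), (2, 19), (2, 21), (2, 24), (2, 26), (2, 27), (2, 28),
  (2, 29), (2, 33), (2, 34), (2, 36), (2, 38), (2, 39), (2, 40), (2, 41), (2, 43), (2, 46),
  (2, 47), (2, 50), (2, 51), (2, 53), (2, 54), (2, 57), (2, 60), (2, 61), (2, 62), (2, 68),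
  (2, 73), (2, 76), (2, 78), (2, 79), (2, 80), (2, 82), (2, 86), (2, 87), (2, 88), (2, 89),
  (2, 90), (2, 92), (2, 93), (2, 97), (2, 100), (2, 101), (2, 102), (2, 111), (2, 113), (2, 115),
  (2, 118), (2, 122), (2, 124), (2, 125), (2, 128), (2, 129), (2, 141), (2, 143), (2, 146), (2, 149),
  (2, 151), (2, 152), (2, 157), (2, 158), (2, 159), (2, 160), (2, 164), (2, 165), (2, 169)]

set_option maxRecDepth 1000000 in
/-- positions of double coset representatives, part 3 -/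
def j1DcIdxC : List (ℕ × ℕ) := [
  (2, 172), (2, 178), (2, 180), (2, 181), (2, 185), (2, 186), (2, 187), (2, 188), (2, 190), (2, 193),
  (2, 194), (2, 197), (2, 198), (2, 201), (2, 205), (2, 206), (2, 209), (2, 211), (2, 214), (2, 215),
  (2, 216), (2, 220), (2, 225), (2, 226), (2, 227), (2, 229), (2, 232), (2, 233), (2, 234), (2, 235),
  (2, 236), (2, 246), (2, 247), (2, 248), (2, 249), (2, 253), (2, 258), (2, 260), (2, 263), (2, 265),
  (3, 1), (3, 2), (3, 3), (3, 7), (3, 9), (3, 10), (3, 11), (3, 12), (3, 13), (3, 21),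
  (3, 27), (3, 28), (3, 31), (3, 37), (3, 40), (3, 43), (3, 50), (3, 51), (3, 52), (3, 54),
  (3, 57), (3, 59), (3, 60), (3, 61), (3, 62), (3, 64), (3, 67), (3, 73), (3, 78), (3, 82),
  (3, 84), (3, 92), (3, 101), (3, 106), (3, 107), (3, 108), (3, 110), (3, 123), (3, 125), (3, 138),
  (3, 139), (3, 142), (3, 143), (3, 144), (3, 153), (3, 154), (3, 157), (3, 158), (3, 159), (3, 160),
  (3, 163), (3, 164), (3, 165), (3, 166), (3, 167), (3, 172), (3, 173), (3, 174), (3, 177), (3, 179),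
  (3, 180), (3, 181), (3, 184), (3, 186), (3, 190), (3, 191), (3, 194), (3, 195), (3, 198), (3, 200),
  (3, 201), (3, 202), (3, 204), (3, 205), (3, 208), (3, 209), (3, 211), (3, 212), (3, 214), (3, 215),
  (3, 220), (3, 221), (3, 223), (3, 226), (3, 228), (3, 230), (3, 233), (3, 234), (3, 235), (3, 237),
  (3, 241), (3, 244), (3, 247), (3, 248), (3, 250), (3, 251), (3, 253), (3, 254), (3, 255), (3, 258),
  (3, 261), (3, 262), (3, 263), (4, 0), (4, 8), (4, 10), (4, 21), (4, 25), (4, 26), (4, 31),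
  (4, 33), (4, 36), (4, 37), (4, 44), (4, 52), (4, 54), (4, 66), (4, 73), (4, 75), (4, 78),
  (4, 81), (4, 84), (4, 88), (4, 116), (4, 124), (4, 131), (4, 134), (4, 137), (4, 138), (4, 143),
  (4, 144), (4, 149), (4, 151), (4, 154), (4, 159), (4, 163), (4, 165), (4, 166), (4, 167), (4, 174),
  (4, 179), (4, 183), (4, 184), (4, 186), (4, 191), (4, 201), (4, 205), (4, 208), (4, 211), (4, 212),
  (4, 213), (4, 215), (4, 216), (4, 218), (4, 220), (4, 226), (4, 230), (4, 233), (4, 246), (4, 250),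
  (4, 251), (4, 253), (4, 254), (4, 257), (4, 260), (4, 261), (4, 265), (5, 11), (5, 12)]

set_option maxRecDepth 1000000 in
/-- positions of double coset representatives, part 4 -/
def j1DcIdxD : List (ℕ × ℕ) := [
  (5, 21), (5, 26), (5, 31), (5, 32), (5, 37), (5, 40), (5, 43), (5, 51), (5, 52), (5, 53),
  (5, 55), (5, 57), (5, 58), (5, 61), (5, 83), (5, 87), (5, 88), (5, 92), (5, 94), (5, 100),
  (5, 104), (5, 117), (5, 118), (5, 119), (5, 124), (5, 131), (5, 134), (5, 135), (5, 141), (5, 153),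
  (5, 156), (5, 158), (5, 159), (5, 160), (5, 164), (5, 169), (5, 181), (5, 185), (5, 208), (5, 209),
  (5, 211), (5, 213), (5, 215), (5, 216), (5, 218), (5, 220), (5, 223), (5, 227), (5, 233), (5, 243),
  (5, 261), (5, 263), (6, 8), (6, 11), (6, 17), (6, 20), (6, 27), (6, 29), (6, 31), (6, 32),
  (6, 50), (6, 58), (6, 75), (6, 85), (6, 94), (6, 97), (6, 104), (6, 107), (6, 110), (6, 111),
  (6, 119), (6, 137), (6, 143), (6, 144), (6, 149), (6, 151), (6, 190), (6, 191), (6, 194), (6, 205),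
  (6, 214), (6, 234), (6, 250), (6, 254), (6, 256), (6, 261), (7, 7), (7, 20), (7, 25), (7, 31),
  (7, 36), (7, 39), (7, 73), (7, 76), (7, 81), (7, 89), (7, 92), (7, 94), (7, 97), (7, 101),
  (7, 107), (7, 110), (7, 111), (7, 113), (7, 115), (7, 128), (7, 135), (7, 139), (7, 143), (7, 144),
  (7, 153), (7, 156), (7, 157), (7, 160), (7, 165), (7, 167), (7, 177), (7, 181), (7, 212), (7, 213),
  (7, 233), (7, 249), (7, 250), (7, 253), (7, 263), (8, 7), (8, 9), (8, 21), (8, 24), (8, 29),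
  (8, 55), (8, 82), (8, 83), (8, 117), (8, 118), (8, 131), (8, 142), (8, 173), (8, 185), (8, 190),
  (8, 207), (8, 212), (8, 226), (8, 227), (8, 253), (8, 255), (9, 19), (9, 31), (9, 43), (9, 78),
  (9, 79), (9, 173), (9, 179), (9, 180), (9, 188), (9, 207), (9, 234), (10, 26), (10, 41), (10, 66),
  (10, 84), (10, 107), (10, 108), (10, 137), (10, 181), (10, 230), (10, 237), (11, 18), (11, 41), (11, 48),
  (11, 51), (11, 188), (11, 211), (11, 213), (11, 246), (12, 31), (12, 32), (12, 50), (12, 53), (12, 66),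
  (12, 99), (12, 110), (12, 184), (12, 193), (12, 226), (12, 261), (13, 27), (13, 28), (13, 92), (13, 187),
  (14, 43), (14, 99), (14, 115), (14, 220), (15, 137), (16, 27), (16, 44), (16, 100), (16, 104), (16, 141),
  (16, 258), (17, 41), (17, 99), (17, 230), (20, 190), (20, 205), (20, 230), (20, 255), (21, 173)]

set_option maxRecDepth 1000000 in
/-- hints for the representatives of part 1 -/
def j1DcHintA : List (List (ℕ × ℕ × ℕ)) := [
  [(0, 0, 8), (3, 478, 22), (3, 254, 2), (5, 682, 13), (4, 483, 15), (3, 758, 1), (6, 381, 6)],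
  [(1, 167, 4), (3, 717, 17), (5, 292, 1), (5, 430, 4), (5, 226, 1), (5, 698, 25), (4, 195, 27)],
  [(1, 401, 17), (0, 244, 6), (2, 516, 2), (6, 738, 24), (4, 71, 6), (5, 34, 20), (5, 420, 2)],
  [(5, 82, 7), (6, 12, 3), (0, 648, 17), (6, 740, 24), (6, 522, 9), (5, 627, 3), (2, 214, 11)],
  [(1, 77, 6), (1, 681, 2), (1, 164, 25), (6, 739, 24), (6, 501, 1), (0, 741, 17), (2, 490, 28)],
  [(3, 428, 6), (4, 471, 23), (5, 691, 18), (1, 332, 14), (3, 651, 16), (6, 805, 19), (6, 402, 25)],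
  [(0, 779, 8), (3, 778, 13), (6, 143, 17), (0, 150, 10), (5, 800, 9), (5, 107, 6), (5, 653, 14)],
  [(4, 342, 16), (3, 728, 22), (1, 53, 14), (6, 737, 21), (5, 694, 14), (3, 120, 6), (2, 88, 11)],
  [(5, 442, 22), (1, 786, 1), (2, 328, 17), (2, 29, 21), (5, 690, 27), (4, 450, 16), (0, 704, 0)],
  [(2, 234, 11), (1, 733, 23), (6, 467, 4), (5, 657, 0), (6, 687, 3), (1, 287, 6), (4, 417, 2)],
  [(6, 742, 2), (3, 263, 21), (5, 520, 5), (3, 683, 16), (5, 78, 28), (6, 252, 18), (1, 321, 15)],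
  [(0, 391, 1), (2, 831, 11), (3, 568, 9), (0, 312, 13), (3, 127, 8), (2, 611, 17), (0, 567, 25)],
  [(5, 237, 10), (6, 276, 8), (2, 581, 10), (5, 795, 1), (4, 393, 7), (0, 92, 3), (3, 388, 10)],
  [(3, 787, 11), (1, 96, 5), (5, 133, 8), (5, 308, 2), (4, 815, 27), (5, 62, 9), (1, 556, 9)],
  [(3, 550, 16), (5, 569, 5), (4, 404, 0), (4, 340, 13), (4, 692, 0), (1, 54, 17), (2, 711, 19)],
  [(2, 540, 19), (6, 272, 8), (4, 451, 21), (3, 802, 27), (5, 149, 3), (2, 118, 0), (4, 643, 20)],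
  [(1, 766, 27), (2, 716, 26), (4, 515, 24), (5, 435, 15), (1, 408, 4), (2, 425, 9), (3, 762, 28)],
  [(3, 10, 16), (1, 756, 14), (5, 135, 8), (1, 108, 28), (6, 790, 5), (0, 764, 22), (0, 628, 16)],
  [(5, 179, 26), (5, 382, 26), (4, 512, 21), (5, 106, 17), (2, 667, 9), (5, 109, 0), (1, 316, 28)],
  [(1, 494, 26), (6, 125, 16), (4, 513, 24), (0, 645, 9), (3, 125, 8), (5, 645, 2), (2, 494, 22)],
  [(2, 304, 5), (3, 832, 8), (2, 243, 3), (1, 70, 3), (6, 799, 9), (6, 153, 10), (4, 205, 5)],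
  [(5, 546, 10), (1, 455, 5), (4, 514, 24), (1, 18, 3), (6, 545, 26), (5, 273, 0), (3, 132, 20)],
  [(1, 35, 8), (3, 97, 4), (4, 492, 18), (1, 616, 17), (0, 723, 17), (4, 730, 25), (5, 794, 26)],
  [(4, 657, 27), (4, 733, 15), (3, 220, 26), (1, 467, 16), (5, 287, 4), (0, 234, 9), (0, 687, 18)],
  [(4, 437, 7), (2, 602, 2), (5, 123, 28), (3, 523, 9), (0, 216, 11), (0, 689, 6), (6, 84, 3)],
  [(6, 696, 11), (5, 803, 21), (0, 423, 8), (4, 256, 10), (3, 51, 11), (0, 469, 5), (2, 338, 0)],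
  [(3, 765, 24), (3, 296, 8), (2, 238, 2), (5, 354, 0), (4, 389, 2), (3, 448, 7), (6, 168, 19)],
  [(5, 426, 0), (3, 295, 29), (5, 355, 8), (0, 662, 10), (6, 105, 27), (3, 444, 12), (1, 185, 27)],
  [(6, 796, 7), (2, 67, 15), (1, 240, 8), (6, 736, 1), (0, 770, 26), (3, 446, 12), (6, 15, 13)],
  [(1, 28, 22), (3, 297, 29), (6, 361, 7), (4, 503, 7), (5, 526, 25), (6, 56, 4), (2, 434, 11)],
  [(4, 719, 23), (2, 267, 2), (0, 14, 26), (6, 518, 22), (4, 47, 4), (3, 445, 12), (0, 439, 26)],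
  [(3, 782, 2), (5, 232, 14), (6, 757, 12), (3, 755, 25), (3, 433, 11), (3, 447, 12), (6, 658, 16)],
  [(6, 87, 9), (3, 294, 29), (6, 259, 1), (5, 192, 16), (4, 5, 1), (6, 174, 7), (2, 760, 26)],
  [(5, 111, 17), (6, 371, 15), (1, 656, 19), (3, 771, 16), (1, 497, 19), (6, 170, 20), (5, 748, 6)],
  [(4, 497, 18), (4, 809, 2), (1, 170, 14), (3, 371, 26), (1, 771, 28), (6, 111, 15), (4, 748, 23)],
  [(4, 141, 16), (3, 600, 9), (0, 812, 13), (4, 206, 19), (2, 305, 19), (6, 173, 12), (4, 154, 5)],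
  [(2, 763, 10), (1, 431, 25), (1, 826, 21), (2, 383, 7), (6, 121, 5), (6, 175, 12), (3, 564, 26)],
  [(3, 327, 16), (3, 554, 13), (0, 819, 22), (2, 211, 23), (3, 353, 10), (6, 171, 12), (1, 60, 13)],
  [(4, 662, 14), (1, 444, 18), (6, 355, 20), (2, 295, 2), (4, 185, 19), (6, 172, 12), (0, 426, 17)],
  [(4, 533, 28), (5, 735, 19), (0, 572, 21), (0, 334, 12), (0, 313, 26), (0, 672, 27), (2, 612, 5)],
  [(1, 662, 25), (4, 355, 17), (1, 426, 7), (5, 172, 16), (5, 295, 26), (3, 105, 15), (6, 185, 15)],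
  [(3, 805, 24), (1, 428, 18), (4, 651, 29), (0, 332, 12), (0, 471, 13), (0, 784, 0), (0, 691, 11)],
  [(3, 804, 24), (5, 783, 7), (1, 264, 26), (0, 333, 12), (0, 818, 0), (0, 521, 17), (1, 288, 19)],
  [(1, 624, 23), (0, 729, 23), (4, 650, 29), (0, 331, 20), (1, 233, 6), (2, 791, 23), (5, 345, 7)],
  [(3, 239, 5), (1, 103, 4), (4, 649, 22), (0, 212, 1), (2, 183, 4), (2, 495, 28), (4, 652, 3)],
  [(5, 446, 1), (6, 67, 6), (4, 736, 20), (0, 796, 27), (5, 15, 15), (3, 770, 7), (0, 661, 9)],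
  [(2, 384, 25), (4, 557, 17), (6, 176, 25), (1, 619, 2), (5, 311, 11), (3, 65, 17), (6, 685, 18)],
  [(5, 100, 27), (4, 725, 10), (4, 684, 26), (2, 618, 10), (2, 828, 16), (4, 323, 0), (0, 375, 19)],
  [(0, 335, 23), (4, 413, 10), (1, 424, 20), (4, 641, 14), (3, 187, 14), (6, 379, 6), (0, 630, 15)],
  [(5, 551, 10), (5, 479, 14), (6, 57, 10), (5, 344, 23), (3, 3, 13), (2, 257, 13), (2, 580, 9)],
  [(5, 80, 7), (6, 253, 8), (3, 780, 10), (5, 395, 16), (3, 8, 2), (2, 270, 13), (2, 788, 2)],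
  [(1, 696, 13), (1, 256, 19), (5, 469, 0), (1, 423, 22), (4, 803, 25), (5, 338, 4), (6, 459, 4)],
  [(1, 496, 16), (1, 621, 20), (1, 543, 10), (5, 114, 9), (6, 686, 21), (0, 159, 1), (3, 405, 28)],
  [(1, 9, 0), (3, 310, 2), (3, 250, 3), (4, 475, 19), (2, 761, 4), (4, 789, 0), (6, 548, 16)],
  [(0, 66, 14), (6, 684, 28), (1, 323, 7), (3, 100, 15), (3, 828, 29), (1, 618, 25), (0, 725, 25)],
  [(5, 75, 20), (1, 457, 3), (4, 279, 28), (1, 94, 2), (6, 544, 15), (2, 438, 27), (4, 11, 26)],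
  [(3, 461, 9), (2, 224, 10), (1, 324, 12), (2, 587, 9), (3, 712, 5), (0, 63, 6), (3, 223, 16)],
  [(1, 337, 5), (4, 468, 18), (3, 32, 16), (1, 373, 27), (1, 441, 14), (5, 626, 2), (5, 781, 5)],
  [(0, 536, 27), (0, 284, 23), (1, 322, 20), (5, 816, 18), (3, 200, 14), (3, 380, 9), (6, 573, 10)],
  [(2, 583, 4), (6, 209, 22), (5, 261, 16), (6, 663, 17), (5, 151, 5), (0, 85, 9), (1, 1, 16)],
  [(0, 353, 13), (6, 60, 11), (3, 211, 18), (6, 819, 8), (6, 327, 27), (1, 722, 0), (5, 554, 11)],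
  [(5, 441, 5), (3, 781, 0), (2, 373, 16), (2, 32, 26), (4, 337, 0), (3, 570, 9), (6, 468, 23)],
  [(2, 651, 5), (1, 691, 7), (6, 784, 8), (3, 332, 6), (3, 402, 12), (2, 471, 20), (0, 805, 26)],
  [(6, 510, 5), (0, 280, 21), (6, 598, 26), (3, 89, 28), (3, 399, 20), (2, 754, 3), (0, 466, 7)],
  [(6, 147, 17), (1, 246, 6), (2, 281, 19), (0, 398, 14), (3, 400, 12), (4, 93, 16), (6, 578, 3)],
  [(3, 516, 27), (6, 244, 22), (1, 420, 27), (3, 732, 1), (3, 401, 12), (3, 738, 4), (3, 34, 26)],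
  [(1, 267, 16), (3, 439, 3), (3, 613, 29), (6, 719, 5), (3, 518, 11), (1, 445, 27), (1, 14, 3)],
  [(2, 820, 3), (0, 477, 6), (6, 488, 3), (5, 403, 15), (0, 196, 22), (6, 594, 29), (0, 462, 7)],
  [(2, 593, 19), (1, 775, 25), (3, 98, 6), (5, 359, 3), (1, 617, 5), (6, 595, 29), (5, 198, 28)],
  [(4, 529, 25), (4, 228, 8), (1, 293, 8), (4, 813, 21), (6, 41, 9), (6, 596, 29), (3, 368, 0)],
  [(1, 210, 19), (6, 362, 21), (3, 614, 29), (5, 527, 22), (3, 697, 10), (1, 83, 1), (6, 139, 17)],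
  [(4, 685, 6), (2, 619, 5), (5, 176, 10), (5, 384, 10), (0, 713, 5), (6, 557, 8), (2, 311, 18)],
  [(6, 198, 11), (5, 595, 6), (1, 359, 16), (4, 814, 24), (3, 617, 18), (6, 593, 29), (1, 98, 28)],
  [(6, 281, 9), (1, 400, 25), (2, 246, 14), (5, 147, 11), (0, 93, 10), (1, 615, 21), (1, 578, 21)],
  [(6, 704, 18), (1, 690, 20), (1, 726, 10), (6, 450, 3), (5, 786, 2), (0, 29, 4), (6, 442, 13)],
  [(4, 452, 27), (5, 58, 2), (1, 552, 2), (0, 436, 25), (1, 320, 5), (0, 774, 0), (6, 465, 21)],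
  [(0, 260, 28), (3, 835, 21), (1, 502, 7), (0, 23, 0), (0, 358, 3), (4, 49, 11), (4, 517, 5)],
  [(1, 659, 3), (0, 345, 5), (1, 650, 27), (6, 233, 25), (1, 729, 6), (0, 624, 6), (5, 791, 6)],
  [(6, 606, 26), (0, 524, 12), (1, 283, 22), (3, 40, 17), (0, 414, 5), (5, 768, 26), (0, 508, 8)],
  [(3, 793, 9), (5, 369, 3), (2, 409, 19), (3, 487, 7), (6, 807, 22), (3, 122, 26), (1, 565, 6)],
  [(6, 437, 9), (0, 523, 12), (5, 689, 23), (6, 123, 17), (1, 602, 4), (2, 84, 5), (6, 585, 8)],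
  [(3, 258, 23), (2, 4, 23), (3, 184, 17), (2, 664, 23), (4, 104, 17), (5, 647, 26), (0, 307, 19)],
  [(3, 776, 8), (0, 525, 12), (0, 678, 21), (4, 366, 8), (2, 129, 0), (4, 731, 18), (4, 773, 21)],
  [(3, 82, 9), (0, 522, 12), (5, 740, 11), (2, 12, 5), (2, 666, 23), (2, 648, 15), (2, 627, 5)],
  [(0, 163, 7), (2, 705, 20), (0, 134, 18), (2, 753, 17), (1, 464, 19), (0, 298, 5), (2, 505, 6)],
  [(4, 261, 9), (5, 583, 11), (6, 142, 8), (1, 209, 23), (2, 151, 19), (6, 1, 9), (0, 663, 0)],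
  [(3, 255, 18), (1, 474, 3), (5, 555, 5), (3, 485, 20), (6, 61, 5), (5, 117, 23), (6, 709, 2)],
  [(1, 236, 0), (2, 348, 6), (2, 669, 3), (3, 350, 18), (1, 387, 0), (0, 156, 8), (0, 506, 22)],
  [(5, 110, 8), (6, 102, 13), (0, 161, 25), (1, 182, 13), (2, 665, 24), (2, 158, 19), (1, 363, 9)],
  [(4, 549, 10), (5, 365, 2), (4, 64, 16), (3, 577, 13), (3, 55, 6), (2, 528, 18), (4, 591, 18)],
  [(0, 157, 20), (2, 695, 19), (5, 265, 6), (0, 482, 0), (0, 50, 19), (0, 341, 14), (5, 16, 17)],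
  [(3, 403, 4), (3, 820, 13), (6, 462, 6), (3, 196, 0), (5, 188, 29), (1, 594, 9), (4, 477, 3)],
  [(5, 105, 22), (1, 355, 1), (3, 172, 27), (2, 662, 21), (5, 185, 22), (1, 295, 16), (4, 444, 14)],
  [(1, 655, 20), (5, 456, 28), (6, 6, 26), (4, 145, 25), (5, 186, 29), (0, 152, 22), (2, 13, 4)],
  [(6, 135, 25), (0, 756, 11), (3, 628, 0), (3, 31, 27), (5, 10, 0), (5, 108, 21), (5, 764, 24)],
  [(1, 630, 14), (5, 379, 2), (0, 641, 29), (6, 604, 8), (5, 187, 29), (4, 335, 17), (6, 424, 10)],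
  [(5, 507, 2), (5, 360, 2), (4, 317, 21), (1, 532, 19), (5, 299, 28), (2, 197, 13), (3, 646, 8)],
  [(4, 275, 18), (3, 785, 11), (3, 392, 15), (0, 36, 6), (3, 810, 0), (2, 811, 5), (4, 637, 17)],
  [(1, 173, 2), (0, 600, 14), (2, 206, 6), (5, 141, 26), (3, 154, 0), (5, 305, 6), (1, 701, 10)],
  [(6, 489, 10), (6, 829, 23), (0, 644, 29), (6, 605, 29), (6, 199, 1), (2, 635, 16), (4, 249, 2)],
  [(0, 412, 7), (2, 743, 18), (6, 130, 22), (5, 269, 28), (2, 242, 9), (1, 69, 9), (2, 329, 14)],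
  [(5, 723, 1), (4, 97, 0), (0, 35, 28), (0, 730, 21), (2, 759, 10), (0, 794, 16), (1, 492, 24)],
  [(3, 536, 13), (2, 178, 16), (2, 284, 28), (0, 200, 27), (4, 573, 4), (6, 816, 29), (0, 322, 23)],
  [(4, 349, 15), (0, 680, 22), (4, 750, 27), (4, 541, 9), (3, 218, 18), (0, 112, 1), (1, 493, 24)],
  [(2, 369, 13), (1, 487, 6), (4, 793, 8), (0, 565, 3), (2, 807, 0), (1, 194, 26), (5, 122, 25)],
  [(6, 769, 9), (0, 714, 14), (3, 700, 7), (5, 674, 4), (5, 415, 17), (1, 670, 25), (2, 136, 8)],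
  [(0, 2, 19), (6, 660, 25), (3, 385, 28), (5, 37, 10), (5, 703, 23), (4, 190, 8), (1, 491, 24)],
  [(4, 538, 16), (4, 418, 2), (2, 155, 1), (2, 486, 23), (5, 160, 10), (4, 193, 29), (5, 702, 0)],
  [(3, 301, 18), (5, 577, 10), (1, 591, 23), (3, 365, 7), (3, 528, 23), (2, 55, 11), (0, 64, 26)],
  [(1, 73, 18), (1, 767, 11), (3, 559, 18), (6, 629, 14), (2, 571, 14), (4, 189, 29), (3, 500, 23)],
  [(4, 298, 17), (5, 163, 25), (2, 464, 0), (1, 753, 19), (5, 705, 24), (4, 191, 29), (2, 134, 22)],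
  [(1, 442, 11), (5, 726, 13), (3, 786, 12), (2, 690, 7), (5, 704, 24), (3, 29, 0), (1, 328, 2)],
  [(2, 561, 29), (1, 259, 8), (3, 174, 4), (4, 87, 3), (5, 5, 8), (4, 192, 29), (6, 294, 26)],
  [(0, 456, 26), (2, 186, 16), (0, 13, 7), (5, 145, 10), (5, 6, 29), (4, 655, 4), (4, 202, 18)],
  [(5, 23, 5), (1, 260, 29), (3, 517, 14), (3, 358, 20), (5, 7, 29), (6, 49, 6), (0, 835, 23)],
  [(4, 151, 2), (1, 261, 29), (4, 142, 9), (1, 663, 22), (5, 1, 29), (4, 209, 27), (1, 85, 3)],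
  [(2, 660, 14), (1, 262, 29), (5, 385, 11), (1, 190, 13), (5, 2, 29), (6, 703, 4), (4, 37, 15)],
  [(3, 580, 18), (1, 257, 29), (1, 344, 14), (5, 229, 22), (5, 3, 29), (2, 551, 28), (4, 57, 28)],
  [(2, 647, 10), (1, 258, 29), (5, 104, 6), (1, 664, 29), (5, 4, 29), (1, 208, 4), (5, 184, 6)],
  [(0, 32, 1), (6, 441, 0), (5, 468, 21), (0, 337, 4), (1, 626, 20), (5, 570, 14), (0, 781, 4)],
  [(6, 24, 28), (0, 772, 11), (5, 470, 24), (2, 458, 21), (1, 44, 3), (4, 378, 23), (2, 330, 5)],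
  [(0, 762, 12), (0, 716, 19), (3, 425, 17), (0, 408, 1), (0, 515, 15), (6, 419, 28), (0, 435, 20)],
  [(1, 403, 1), (6, 188, 3), (2, 196, 26), (6, 820, 0), (4, 488, 0), (1, 462, 14), (5, 594, 17)],
  [(2, 747, 10), (1, 326, 9), (1, 219, 14), (2, 484, 21), (4, 356, 17), (1, 146, 7), (3, 822, 0)],
  [(2, 292, 16), (3, 226, 16), (4, 717, 26), (0, 167, 5), (1, 698, 23), (1, 144, 12), (6, 195, 1)],
  [(0, 245, 2), (2, 673, 26), (2, 558, 20), (4, 72, 2), (0, 27, 19), (1, 148, 12), (0, 39, 4)],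
  [(2, 469, 14), (2, 803, 23), (2, 256, 13), (0, 696, 6), (1, 338, 5), (6, 51, 6), (1, 459, 5)],
  [(0, 6, 0), (4, 456, 23), (5, 13, 10), (5, 202, 17), (3, 655, 15), (1, 145, 12), (5, 152, 25)],
  [(2, 93, 7), (3, 281, 8), (0, 246, 22), (2, 578, 1), (0, 615, 1), (1, 147, 12), (4, 398, 23)],
  [(5, 779, 13), (6, 800, 25), (6, 150, 15), (6, 778, 22), (4, 306, 22), (1, 143, 20), (2, 107, 28)],
  [(2, 87, 20), (3, 561, 15), (5, 294, 16), (1, 5, 28), (0, 760, 29), (6, 192, 15), (5, 259, 28)],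
  [(0, 789, 15), (3, 271, 22), (1, 548, 23), (0, 250, 11), (0, 761, 29), (4, 310, 10), (0, 9, 15)],
  [(5, 566, 7), (2, 268, 11), (4, 119, 23), (0, 453, 28), (0, 443, 16), (6, 30, 19), (0, 131, 25)],
  [(0, 566, 15), (4, 453, 21), (4, 30, 1), (5, 119, 3), (1, 268, 27), (3, 131, 2), (1, 599, 20)],
  [(4, 90, 8), (1, 339, 9), (5, 42, 0), (1, 460, 9), (1, 247, 15), (0, 396, 12), (6, 416, 11)],
  [(2, 52, 10), (5, 801, 29), (4, 364, 17), (0, 592, 4), (6, 204, 14), (6, 113, 22), (0, 542, 20)],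
  [(4, 640, 9), (3, 315, 27), (2, 235, 14), (4, 576, 5), (4, 386, 14), (4, 601, 22), (4, 535, 15)],
  [(5, 562, 20), (0, 582, 28), (4, 115, 21), (6, 472, 7), (0, 534, 19), (0, 180, 28), (3, 19, 5)],
  [(0, 324, 8), (6, 461, 6), (6, 588, 27), (4, 224, 26), (0, 712, 13), (1, 223, 0), (3, 587, 6)],
  [(4, 86, 22), (1, 81, 8), (5, 720, 1), (1, 251, 23), (2, 217, 1), (3, 834, 3), (4, 481, 3)],
  [(6, 648, 5), (1, 82, 29), (3, 666, 27), (1, 12, 8), (3, 522, 11), (0, 214, 16), (0, 740, 20)],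
  [(0, 321, 22), (1, 78, 29), (1, 603, 2), (1, 252, 24), (0, 263, 23), (1, 683, 27), (0, 742, 12)],
  [(3, 623, 16), (1, 79, 29), (6, 553, 23), (1, 45, 26), (6, 727, 16), (1, 343, 19), (6, 21, 10)],
  [(2, 780, 1), (1, 80, 29), (2, 376, 20), (1, 253, 24), (0, 8, 15), (0, 788, 15), (6, 395, 4)],
  [(6, 151, 15), (5, 663, 18), (2, 209, 0), (5, 142, 11), (0, 261, 21), (4, 85, 8), (0, 583, 28)],
  [(0, 503, 1), (3, 777, 27), (0, 526, 9), (5, 28, 13), (4, 361, 1), (3, 434, 28), (5, 56, 23)],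
  [(6, 410, 11), (6, 483, 20), (4, 0, 2), (1, 254, 24), (0, 381, 14), (2, 758, 6), (1, 682, 0)],
  [(5, 757, 15), (6, 782, 29), (2, 17, 17), (0, 232, 10), (0, 433, 26), (4, 658, 9), (4, 755, 20)],
  [(4, 248, 0), (0, 555, 14), (2, 117, 18), (1, 255, 24), (0, 61, 14), (2, 485, 7), (4, 474, 20)],
  [(3, 681, 1), (3, 501, 7), (0, 490, 11), (0, 739, 5), (0, 164, 14), (4, 77, 28), (5, 607, 27)],
  [(3, 733, 13), (3, 687, 14), (2, 417, 0), (6, 657, 7), (5, 467, 20), (5, 234, 23), (4, 220, 3)],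
  [(5, 622, 19), (0, 625, 15), (6, 346, 14), (1, 480, 2), (0, 636, 0), (2, 370, 5), (3, 823, 15)],
  [(3, 693, 18), (0, 801, 16), (3, 204, 3), (5, 542, 4), (1, 592, 7), (3, 364, 8), (5, 52, 21)],
  [(4, 197, 23), (2, 360, 5), (6, 532, 25), (6, 507, 5), (2, 646, 1), (1, 299, 26), (0, 169, 9)],
  [(1, 547, 18), (0, 318, 7), (5, 537, 5), (0, 351, 14), (4, 792, 23), (6, 33, 9), (5, 746, 28)],
  [(5, 407, 14), (3, 283, 28), (2, 768, 27), (4, 606, 27), (1, 414, 9), (2, 40, 26), (3, 524, 20)],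
  [(2, 597, 21), (5, 20, 27), (3, 833, 9), (5, 289, 18), (1, 589, 20), (5, 227, 21), (4, 427, 13)],
  [(2, 598, 24), (2, 138, 23), (5, 89, 5), (4, 466, 11), (5, 280, 17), (3, 754, 10), (2, 399, 13)],
  [(5, 230, 5), (0, 319, 12), (2, 574, 21), (3, 101, 28), (6, 181, 28), (5, 290, 5), (1, 590, 26)],
  [(6, 179, 13), (0, 316, 20), (5, 667, 26), (5, 638, 21), (0, 109, 27), (2, 382, 13), (3, 106, 19)],
  [(4, 299, 21), (0, 317, 12), (2, 169, 28), (3, 532, 1), (0, 646, 25), (3, 360, 22), (3, 197, 16)],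
  [(5, 199, 0), (3, 644, 24), (4, 671, 13), (1, 605, 24), (1, 249, 28), (4, 829, 7), (3, 635, 14)],
  [(4, 187, 21), (3, 641, 21), (0, 413, 8), (1, 604, 24), (3, 424, 1), (3, 379, 15), (5, 335, 5)],
  [(1, 242, 10), (2, 130, 21), (0, 282, 4), (0, 269, 18), (6, 329, 19), (0, 743, 2), (2, 69, 10)],
  [(2, 810, 11), (6, 392, 25), (4, 806, 5), (2, 36, 26), (1, 637, 4), (1, 785, 1), (3, 811, 6)],
  [(4, 645, 17), (3, 645, 24), (5, 513, 15), (5, 125, 10), (5, 494, 7), (2, 513, 0), (3, 494, 19)],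
  [(2, 154, 11), (5, 206, 26), (6, 812, 27), (0, 141, 5), (5, 701, 27), (5, 600, 19), (6, 305, 26)],
  [(0, 325, 28), (4, 677, 12), (5, 325, 27), (0, 721, 7), (6, 721, 14), (0, 677, 4), (0, 808, 6)],
  [(6, 773, 12), (4, 678, 12), (0, 129, 10), (1, 525, 8), (2, 776, 25), (0, 731, 20), (3, 177, 16)],
  [(1, 308, 1), (5, 286, 23), (6, 815, 3), (0, 787, 8), (3, 133, 13), (2, 556, 25), (4, 62, 25)],
  [(3, 650, 25), (4, 624, 2), (6, 659, 19), (2, 729, 2), (5, 233, 16), (3, 345, 28), (1, 331, 8)],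
  [(4, 353, 23), (1, 211, 6), (6, 554, 18), (0, 722, 2), (2, 819, 1), (3, 171, 9), (1, 327, 22)],
  [(3, 558, 16), (1, 673, 7), (3, 39, 25), (4, 165, 5), (2, 245, 17), (1, 72, 17), (6, 148, 1)],
  [(6, 140, 6), (1, 207, 5), (1, 539, 10), (0, 429, 28), (5, 749, 9), (1, 718, 18), (3, 215, 20)],
  [(5, 242, 15), (5, 282, 21), (3, 69, 15), (6, 743, 1), (3, 269, 0), (1, 412, 13), (1, 329, 29)],
  [(4, 44, 10), (5, 498, 28), (6, 378, 1), (4, 772, 2), (0, 458, 17), (0, 24, 5), (1, 330, 29)],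
  [(1, 454, 11), (0, 537, 21), (3, 33, 18), (6, 547, 9), (5, 792, 14), (6, 351, 23), (3, 318, 16)],
  [(3, 648, 21), (1, 666, 2), (1, 740, 26), (6, 214, 7), (4, 12, 19), (6, 627, 19), (5, 522, 15)],
  [(6, 774, 12), (3, 436, 13), (0, 710, 16), (3, 320, 3), (1, 452, 8), (6, 552, 14), (0, 465, 11)],
  [(4, 288, 1), (6, 222, 11), (5, 804, 7), (4, 333, 8), (5, 521, 14), (2, 264, 4), (4, 783, 15)],
  [(5, 612, 6), (6, 688, 15), (6, 533, 18), (4, 334, 29), (5, 672, 9), (1, 572, 20), (4, 735, 16)],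
  [(1, 345, 8), (0, 659, 6), (3, 624, 7), (4, 331, 22), (0, 791, 7), (5, 650, 24), (6, 729, 7)],
  [(2, 185, 25), (2, 444, 6), (3, 662, 3), (2, 172, 14), (1, 105, 25), (2, 426, 8), (3, 355, 4)],
  [(0, 652, 15), (6, 374, 15), (5, 239, 6), (4, 212, 0), (0, 495, 18), (5, 649, 21), (0, 103, 13)],
  [(3, 691, 1), (0, 402, 16), (5, 805, 12), (4, 332, 29), (5, 784, 11), (5, 651, 24), (0, 428, 2)],
  [(3, 426, 5), (0, 105, 17), (6, 662, 13), (6, 295, 15), (4, 172, 22), (0, 355, 28), (0, 444, 3)],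
  [(4, 312, 14), (0, 611, 19), (4, 568, 26), (1, 831, 9), (3, 567, 28), (5, 734, 28), (2, 391, 10)],
  [(6, 38, 8), (2, 714, 18), (2, 415, 3), (0, 136, 10), (6, 674, 25), (2, 700, 27), (2, 769, 24)],
  [(3, 796, 11), (6, 240, 0), (0, 15, 7), (2, 446, 19), (2, 736, 18), (1, 661, 1), (2, 770, 24)],
  [(2, 435, 12), (0, 425, 16), (5, 515, 28), (1, 716, 11), (6, 762, 7), (2, 419, 22), (3, 766, 19)],
  [(4, 360, 17), (6, 646, 10), (5, 169, 26), (0, 507, 17), (5, 532, 28), (0, 197, 15), (5, 317, 14)],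
  [(2, 437, 12), (1, 216, 19), (2, 523, 0), (5, 602, 3), (4, 585, 27), (0, 123, 15), (4, 689, 10)],
  [(6, 31, 22), (1, 790, 23), (0, 10, 2), (3, 135, 10), (1, 628, 2), (6, 764, 19), (4, 108, 13)],
  [(2, 436, 12), (3, 465, 3), (3, 58, 8), (1, 774, 13), (0, 320, 11), (4, 552, 8), (1, 710, 23)],
  [(0, 343, 4), (4, 45, 10), (3, 59, 29), (1, 727, 13), (0, 623, 13), (4, 553, 29), (0, 21, 0)],
  [(5, 777, 11), (1, 361, 19), (3, 56, 29), (6, 28, 5), (6, 526, 1), (3, 503, 19), (6, 297, 4)],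
  [(0, 692, 7), (4, 579, 24), (3, 54, 22), (2, 569, 2), (2, 340, 21), (4, 550, 29), (1, 711, 24)],
  [(3, 229, 8), (4, 580, 24), (3, 57, 29), (1, 3, 15), (6, 479, 18), (4, 551, 29), (5, 257, 15)],
  [(2, 835, 24), (0, 517, 4), (3, 7, 22), (2, 260, 22), (4, 23, 9), (2, 49, 10), (2, 502, 3)],
  [(5, 244, 28), (6, 34, 27), (3, 71, 28), (5, 516, 1), (0, 732, 16), (1, 738, 5), (2, 420, 1)],
  [(6, 345, 5), (1, 791, 6), (3, 331, 0), (3, 659, 3), (3, 233, 25), (5, 624, 6), (2, 650, 27)],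
  [(4, 595, 10), (4, 98, 15), (0, 775, 4), (1, 198, 19), (1, 814, 21), (4, 593, 22), (2, 359, 17)],
  [(0, 400, 25), (4, 578, 21), (1, 398, 27), (1, 281, 9), (2, 147, 11), (6, 615, 21), (3, 246, 14)],
  [(0, 690, 20), (2, 442, 13), (0, 328, 7), (1, 704, 18), (3, 450, 3), (5, 29, 4), (2, 726, 10)],
  [(4, 58, 2), (2, 465, 21), (4, 710, 28), (6, 452, 27), (4, 436, 25), (5, 774, 0), (2, 552, 2)],
  [(4, 216, 12), (4, 84, 13), (4, 523, 8), (4, 123, 14), (0, 437, 6), (5, 585, 25), (4, 602, 19)],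
  [(4, 218, 12), (3, 541, 13), (3, 680, 23), (5, 563, 17), (6, 750, 4), (4, 112, 5), (2, 349, 21)],
  [(4, 215, 12), (0, 718, 21), (3, 429, 22), (2, 166, 28), (0, 749, 5), (3, 140, 13), (6, 539, 6)],
  [(4, 217, 12), (1, 86, 11), (3, 720, 12), (5, 481, 17), (2, 834, 17), (4, 251, 5), (3, 706, 17)]]

set_option maxRecDepth 1000000 in
/-- hints for the representatives of part 2 -/
def j1DcHintB : List (List (ℕ × ℕ × ℕ)) := [
  [(4, 219, 12), (2, 654, 13), (4, 484, 10), (0, 822, 7), (6, 326, 3), (2, 146, 4), (3, 356, 22)],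
  [(2, 47, 6), (3, 267, 15), (3, 719, 12), (6, 445, 22), (4, 613, 16), (2, 439, 9), (4, 14, 9)],
  [(4, 779, 19), (4, 143, 12), (6, 653, 23), (4, 107, 22), (3, 150, 28), (2, 306, 29), (0, 800, 18)],
  [(5, 718, 26), (4, 140, 12), (6, 749, 22), (6, 429, 5), (4, 207, 29), (4, 166, 9), (3, 539, 20)],
  [(2, 104, 20), (3, 4, 4), (2, 258, 4), (1, 647, 2), (4, 208, 29), (2, 307, 29), (0, 184, 20)],
  [(0, 697, 15), (4, 139, 20), (6, 527, 10), (2, 614, 6), (4, 210, 29), (2, 303, 29), (1, 362, 9)],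
  [(5, 495, 7), (0, 374, 24), (6, 652, 24), (1, 649, 3), (0, 183, 27), (2, 103, 27), (2, 239, 1)],
  [(6, 780, 10), (0, 376, 24), (0, 395, 16), (6, 788, 2), (4, 253, 8), (3, 270, 13), (2, 8, 2)],
  [(1, 469, 0), (2, 51, 13), (3, 423, 22), (3, 459, 4), (6, 256, 19), (6, 338, 4), (3, 803, 25)],
  [(4, 543, 10), (0, 377, 24), (0, 114, 9), (0, 405, 28), (6, 621, 20), (1, 159, 1), (5, 686, 21)],
  [(1, 783, 29), (4, 222, 13), (3, 264, 9), (4, 521, 5), (1, 804, 20), (1, 818, 19), (6, 333, 22)],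
  [(6, 250, 3), (6, 271, 5), (6, 475, 19), (3, 548, 16), (1, 310, 2), (5, 789, 0), (1, 761, 4)],
  [(2, 562, 18), (2, 115, 28), (4, 19, 27), (6, 180, 3), (2, 472, 24), (0, 724, 8), (2, 534, 4)],
  [(5, 339, 4), (6, 460, 4), (5, 90, 28), (5, 416, 6), (4, 247, 22), (2, 347, 10), (2, 396, 3)],
  [(0, 283, 8), (2, 606, 16), (6, 407, 5), (2, 524, 3), (4, 414, 14), (5, 508, 28), (4, 40, 1)],
  [(0, 281, 22), (0, 578, 17), (3, 93, 20), (3, 398, 21), (3, 615, 17), (5, 400, 27), (3, 147, 2)],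
  [(2, 86, 17), (3, 217, 28), (0, 251, 11), (4, 81, 1), (5, 706, 9), (0, 720, 28), (0, 834, 9)],
  [(6, 183, 15), (2, 652, 6), (1, 212, 21), (3, 649, 14), (6, 239, 8), (5, 374, 6), (3, 103, 15)],
  [(0, 206, 11), (2, 701, 19), (4, 305, 11), (1, 141, 1), (5, 812, 19), (5, 154, 4), (5, 173, 7)],
  [(2, 404, 26), (3, 711, 9), (0, 54, 11), (0, 340, 0), (5, 579, 9), (6, 692, 26), (0, 550, 10)],
  [(0, 502, 12), (3, 260, 15), (2, 7, 15), (5, 835, 18), (4, 358, 7), (2, 517, 9), (1, 23, 14)],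
  [(5, 476, 13), (3, 291, 18), (4, 126, 27), (4, 751, 17), (2, 266, 16), (1, 274, 26), (0, 225, 25)],
  [(3, 292, 8), (5, 195, 15), (4, 698, 19), (1, 430, 20), (3, 144, 4), (0, 226, 8), (5, 167, 20)],
  [(6, 755, 23), (6, 17, 11), (5, 433, 19), (0, 782, 3), (4, 757, 20), (0, 658, 17), (2, 447, 20)],
  [(3, 574, 11), (6, 319, 9), (4, 590, 15), (3, 511, 27), (0, 230, 3), (0, 101, 16), (3, 290, 3)],
  [(5, 406, 16), (0, 639, 28), (4, 241, 11), (1, 201, 15), (6, 231, 22), (6, 221, 5), (0, 68, 11)],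
  [(0, 255, 26), (3, 555, 29), (0, 709, 6), (4, 117, 1), (6, 485, 13), (2, 248, 8), (1, 61, 29)],
  [(3, 286, 22), (3, 556, 29), (2, 133, 9), (2, 815, 24), (2, 96, 8), (2, 787, 20), (1, 62, 29)],
  [(2, 712, 24), (4, 324, 16), (4, 588, 28), (4, 587, 21), (0, 223, 3), (0, 224, 22), (1, 63, 29)],
  [(1, 55, 18), (6, 365, 0), (3, 549, 25), (5, 528, 11), (0, 301, 6), (6, 591, 11), (1, 64, 29)],
  [(0, 176, 11), (3, 557, 29), (2, 685, 10), (1, 713, 9), (4, 384, 11), (5, 619, 9), (1, 65, 29)],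
  [(1, 21, 14), (3, 553, 22), (4, 727, 6), (2, 79, 2), (2, 623, 6), (4, 343, 5), (1, 59, 22)],
  [(5, 32, 17), (2, 626, 3), (6, 337, 9), (2, 441, 4), (0, 373, 1), (0, 468, 25), (2, 570, 5)],
  [(6, 97, 8), (6, 759, 3), (6, 492, 26), (1, 730, 27), (6, 35, 0), (1, 723, 23), (0, 616, 23)],
  [(0, 390, 17), (6, 74, 8), (6, 116, 18), (6, 95, 27), (2, 91, 22), (3, 278, 21), (5, 560, 8)],
  [(2, 808, 0), (2, 325, 19), (4, 721, 26), (5, 677, 18), (6, 325, 7), (3, 677, 27), (3, 808, 15)],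
  [(3, 70, 16), (1, 205, 18), (1, 832, 13), (0, 153, 15), (5, 799, 25), (5, 243, 16), (1, 473, 7)],
  [(4, 223, 7), (6, 63, 22), (5, 587, 18), (3, 588, 15), (5, 712, 21), (0, 461, 18), (6, 324, 17)],
  [(2, 407, 10), (0, 768, 4), (4, 524, 8), (1, 40, 14), (0, 606, 4), (6, 508, 25), (3, 414, 13)],
  [(3, 251, 1), (1, 481, 10), (6, 81, 0), (4, 834, 10), (1, 217, 18), (1, 720, 18), (4, 706, 10)],
  [(1, 816, 25), (6, 178, 9), (5, 200, 4), (4, 536, 1), (6, 322, 2), (0, 573, 11), (2, 380, 0)],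
  [(6, 93, 22), (5, 246, 25), (5, 398, 20), (0, 147, 28), (5, 578, 4), (6, 400, 9), (2, 615, 4)],
  [(6, 710, 25), (2, 774, 19), (2, 58, 15), (5, 436, 7), (5, 452, 0), (5, 465, 2), (4, 320, 10)],
  [(1, 762, 14), (6, 435, 4), (3, 515, 27), (4, 766, 23), (1, 419, 26), (4, 716, 25), (5, 408, 28)],
  [(5, 115, 19), (6, 582, 17), (6, 19, 7), (4, 724, 6), (0, 562, 14), (3, 472, 9), (5, 180, 17)],
  [(4, 157, 26), (3, 265, 22), (6, 16, 12), (6, 341, 23), (3, 482, 25), (2, 707, 18), (2, 50, 8)],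
  [(0, 273, 4), (5, 455, 0), (6, 18, 12), (6, 546, 19), (2, 132, 3), (2, 545, 1), (2, 394, 13)],
  [(0, 833, 24), (6, 589, 16), (6, 20, 12), (1, 597, 14), (1, 227, 14), (4, 509, 11), (6, 427, 15)],
  [(2, 728, 5), (5, 88, 3), (3, 76, 0), (6, 342, 23), (3, 737, 26), (1, 120, 20), (2, 53, 8)],
  [(2, 312, 9), (4, 567, 29), (0, 831, 4), (3, 611, 10), (2, 127, 20), (6, 568, 16), (2, 734, 29)],
  [(5, 260, 1), (1, 358, 14), (6, 23, 7), (6, 835, 10), (1, 7, 1), (3, 502, 4), (1, 49, 23)],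
  [(1, 234, 14), (4, 287, 9), (6, 220, 1), (6, 417, 25), (3, 467, 26), (4, 687, 23), (2, 733, 29)],
  [(5, 443, 7), (3, 268, 15), (4, 566, 16), (2, 30, 8), (2, 599, 9), (2, 131, 0), (1, 119, 14)],
  [(4, 179, 10), (1, 109, 16), (4, 638, 25), (3, 316, 3), (1, 512, 28), (0, 667, 1), (6, 382, 10)],
  [(3, 612, 11), (6, 672, 14), (3, 334, 28), (2, 688, 29), (2, 313, 0), (1, 533, 23), (5, 572, 3)],
  [(5, 518, 27), (5, 267, 0), (1, 613, 23), (2, 14, 28), (0, 445, 5), (2, 719, 13), (5, 47, 20)],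
  [(2, 202, 23), (6, 145, 19), (6, 13, 20), (3, 456, 1), (1, 152, 27), (4, 186, 26), (2, 6, 28)],
  [(3, 813, 10), (0, 228, 17), (6, 632, 9), (3, 293, 17), (3, 596, 26), (2, 529, 19), (0, 41, 3)],
  [(5, 46, 4), (4, 798, 23), (2, 752, 2), (1, 575, 18), (2, 25, 17), (1, 586, 28), (4, 22, 6)],
  [(3, 816, 14), (1, 536, 7), (5, 573, 8), (6, 200, 21), (5, 178, 25), (5, 380, 23), (4, 284, 5)],
  [(2, 194, 21), (1, 807, 15), (0, 793, 14), (0, 409, 6), (2, 565, 11), (2, 122, 1), (6, 487, 20)],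
  [(0, 778, 19), (5, 150, 6), (1, 779, 15), (4, 653, 0), (1, 800, 5), (1, 306, 19), (0, 107, 13)],
  [(0, 728, 22), (4, 737, 21), (5, 342, 16), (1, 88, 11), (1, 694, 14), (5, 76, 15), (5, 120, 6)],
  [(0, 717, 17), (3, 430, 4), (2, 167, 4), (3, 195, 27), (1, 226, 1), (2, 144, 7), (0, 698, 25)],
  [(4, 244, 6), (4, 738, 24), (2, 401, 17), (4, 420, 2), (0, 71, 6), (5, 732, 3), (0, 34, 20)],
  [(3, 12, 3), (4, 740, 24), (6, 82, 7), (1, 214, 11), (2, 522, 9), (6, 666, 6), (0, 627, 3)],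
  [(5, 681, 2), (4, 739, 24), (2, 77, 6), (1, 490, 28), (2, 501, 1), (1, 607, 20), (2, 741, 17)],
  [(1, 471, 23), (6, 332, 14), (4, 428, 6), (5, 402, 25), (6, 651, 16), (4, 784, 2), (1, 805, 19)],
  [(3, 205, 22), (2, 799, 28), (6, 473, 25), (1, 153, 2), (0, 832, 14), (6, 70, 11), (3, 304, 22)],
  [(1, 472, 24), (0, 19, 27), (5, 582, 3), (1, 180, 3), (6, 534, 4), (0, 115, 28), (1, 724, 8)],
  [(3, 247, 22), (1, 90, 28), (3, 42, 5), (0, 416, 6), (6, 396, 3), (4, 460, 4), (3, 347, 10)],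
  [(1, 104, 11), (5, 307, 9), (3, 664, 28), (2, 184, 11), (6, 258, 28), (2, 208, 9), (4, 4, 28)],
  [(0, 310, 3), (2, 475, 13), (2, 9, 14), (5, 548, 17), (5, 761, 5), (4, 271, 9), (6, 789, 14)],
  [(1, 828, 27), (0, 684, 16), (6, 66, 20), (4, 618, 13), (4, 375, 10), (2, 725, 13), (5, 323, 5)],
  [(0, 347, 5), (6, 90, 20), (5, 460, 16), (5, 396, 18), (6, 42, 17), (0, 339, 16), (2, 416, 4)],
  [(4, 489, 13), (0, 199, 26), (5, 605, 15), (2, 829, 18), (5, 671, 0), (2, 644, 15), (6, 635, 27)],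
  [(3, 27, 14), (6, 165, 15), (3, 148, 24), (6, 673, 6), (2, 72, 18), (1, 245, 18), (6, 39, 17)],
  [(6, 655, 3), (6, 186, 28), (3, 145, 24), (1, 456, 8), (3, 202, 13), (1, 6, 1), (4, 152, 15)],
  [(0, 306, 20), (0, 653, 29), (3, 143, 21), (3, 800, 15), (4, 778, 20), (6, 779, 4), (1, 107, 2)],
  [(0, 356, 6), (0, 654, 29), (3, 146, 24), (5, 326, 1), (0, 484, 28), (3, 747, 0), (2, 822, 16)],
  [(4, 338, 26), (4, 423, 2), (1, 51, 5), (6, 803, 8), (5, 696, 5), (3, 469, 16), (0, 459, 26)],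
  [(5, 383, 0), (1, 519, 8), (1, 121, 12), (6, 763, 21), (6, 826, 13), (4, 564, 29), (5, 175, 14)],
  [(1, 689, 14), (6, 216, 5), (1, 123, 12), (3, 585, 19), (5, 523, 17), (3, 84, 21), (0, 602, 24)],
  [(2, 451, 19), (5, 643, 14), (1, 118, 20), (6, 802, 29), (2, 668, 17), (0, 149, 5), (6, 540, 18)],
  [(5, 793, 21), (0, 487, 1), (1, 122, 12), (3, 409, 15), (4, 369, 27), (4, 565, 29), (6, 194, 0)],
  [(4, 138, 15), (2, 280, 19), (0, 399, 14), (5, 466, 9), (4, 89, 17), (5, 598, 8), (2, 510, 7)],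
  [(4, 161, 28), (0, 665, 8), (0, 102, 14), (4, 110, 3), (5, 158, 0), (0, 302, 8), (3, 363, 26)],
  [(5, 499, 23), (1, 642, 1), (1, 608, 2), (4, 631, 22), (4, 128, 26), (0, 449, 0), (4, 634, 21)],
  [(6, 202, 21), (4, 13, 3), (3, 6, 8), (3, 186, 1), (6, 456, 17), (0, 655, 14), (3, 152, 16)],
  [(3, 85, 3), (1, 142, 9), (3, 1, 29), (2, 261, 29), (3, 151, 2), (0, 209, 27), (1, 583, 20)],
  [(6, 37, 15), (2, 385, 11), (3, 2, 29), (2, 262, 29), (1, 660, 14), (2, 703, 4), (6, 491, 5)],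
  [(1, 294, 27), (0, 174, 5), (3, 5, 29), (2, 259, 29), (1, 561, 22), (0, 192, 22), (6, 760, 15)],
  [(6, 138, 11), (2, 466, 18), (3, 598, 19), (1, 399, 23), (1, 280, 8), (5, 510, 16), (5, 754, 21)],
  [(6, 728, 0), (1, 76, 4), (3, 53, 22), (0, 120, 3), (2, 342, 21), (6, 694, 22), (5, 737, 1)],
  [(6, 205, 8), (6, 243, 6), (4, 799, 29), (4, 832, 9), (1, 304, 8), (2, 153, 12), (5, 473, 21)],
  [(5, 558, 2), (1, 165, 23), (6, 72, 3), (4, 39, 5), (0, 673, 27), (2, 148, 20), (6, 27, 13)],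
  [(1, 778, 3), (6, 107, 7), (4, 800, 29), (2, 143, 25), (3, 306, 3), (2, 150, 12), (2, 653, 28)],
  [(2, 145, 28), (2, 655, 24), (1, 13, 16), (1, 186, 7), (0, 202, 9), (2, 152, 12), (2, 456, 20)],
  [(4, 802, 16), (3, 451, 25), (5, 540, 6), (5, 668, 8), (1, 272, 22), (2, 149, 12), (2, 643, 3)],
  [(0, 348, 1), (1, 156, 21), (0, 387, 13), (5, 669, 29), (3, 300, 3), (5, 350, 7), (4, 506, 25)],
  [(3, 714, 26), (5, 38, 0), (5, 700, 21), (5, 670, 29), (4, 769, 16), (6, 415, 10), (4, 674, 27)],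
  [(0, 12, 1), (4, 82, 16), (1, 627, 1), (5, 666, 22), (4, 214, 15), (4, 648, 12), (4, 522, 18)],
  [(1, 652, 14), (6, 103, 20), (3, 495, 1), (1, 183, 20), (0, 649, 27), (3, 374, 14), (2, 212, 8)],
  [(6, 357, 6), (4, 504, 13), (1, 609, 3), (2, 821, 17), (5, 679, 7), (4, 285, 11), (2, 213, 29)],
  [(1, 562, 11), (3, 724, 17), (2, 582, 14), (4, 534, 20), (1, 19, 15), (0, 472, 6), (3, 115, 1)],
  [(0, 427, 27), (3, 509, 18), (4, 597, 3), (2, 289, 7), (3, 227, 3), (4, 833, 19), (4, 20, 14)],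
  [(2, 721, 13), (4, 808, 2), (2, 677, 6), (1, 677, 22), (5, 721, 29), (1, 325, 25), (6, 808, 27)],
  [(4, 121, 15), (2, 431, 17), (1, 763, 7), (2, 175, 10), (6, 519, 18), (5, 564, 25), (5, 826, 1)],
  [(2, 205, 14), (2, 70, 20), (1, 243, 20), (5, 304, 14), (3, 473, 26), (5, 832, 28), (3, 799, 4)],
  [(1, 549, 8), (2, 64, 20), (5, 591, 14), (1, 528, 14), (6, 577, 28), (2, 301, 9), (5, 55, 15)],
  [(1, 75, 18), (1, 745, 23), (3, 457, 23), (3, 544, 7), (2, 11, 10), (2, 94, 25), (3, 279, 3)],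
  [(4, 113, 22), (5, 364, 17), (4, 801, 29), (3, 542, 20), (4, 693, 11), (4, 52, 10), (4, 592, 4)],
  [(2, 310, 10), (2, 548, 23), (2, 271, 22), (3, 9, 15), (1, 475, 7), (2, 789, 15), (4, 250, 11)],
  [(1, 131, 2), (5, 30, 1), (3, 453, 21), (4, 599, 20), (2, 443, 0), (2, 566, 15), (2, 119, 3)],
  [(3, 107, 25), (0, 143, 28), (2, 778, 18), (1, 653, 20), (6, 306, 18), (2, 779, 26), (4, 150, 23)],
  [(1, 542, 22), (5, 113, 21), (3, 592, 13), (0, 693, 1), (1, 204, 19), (6, 52, 27), (2, 364, 4)],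
  [(5, 535, 25), (3, 601, 21), (0, 576, 6), (2, 309, 7), (6, 386, 19), (1, 640, 10), (0, 235, 19)],
  [(6, 80, 6), (1, 788, 19), (6, 8, 19), (5, 376, 27), (4, 270, 2), (3, 253, 5), (3, 395, 21)],
  [(4, 405, 9), (6, 159, 25), (1, 114, 28), (6, 377, 17), (1, 686, 26), (5, 496, 23), (6, 543, 2)],
  [(4, 390, 9), (4, 116, 7), (6, 560, 21), (2, 278, 3), (2, 95, 14), (3, 277, 16), (4, 91, 25)],
  [(2, 541, 15), (5, 349, 14), (0, 493, 26), (6, 218, 1), (2, 563, 3), (2, 112, 23), (4, 680, 9)],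
  [(5, 477, 28), (0, 594, 6), (6, 196, 10), (2, 488, 16), (0, 188, 23), (0, 403, 19), (4, 462, 17)],
  [(1, 739, 22), (6, 490, 3), (6, 681, 25), (1, 741, 6), (5, 501, 19), (4, 164, 8), (3, 607, 18)],
  [(1, 676, 26), (4, 486, 0), (2, 702, 18), (2, 418, 26), (5, 193, 19), (4, 160, 22), (5, 155, 2)],
  [(0, 699, 22), (4, 827, 13), (5, 620, 7), (5, 432, 10), (0, 825, 27), (4, 162, 29), (4, 137, 21)],
  [(3, 505, 27), (6, 298, 10), (5, 753, 5), (2, 191, 2), (3, 464, 17), (4, 163, 29), (5, 134, 3)],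
  [(1, 776, 17), (3, 129, 7), (3, 366, 17), (3, 525, 5), (0, 177, 21), (2, 678, 10), (1, 731, 11)],
  [(5, 127, 5), (4, 391, 24), (1, 568, 8), (1, 567, 17), (1, 611, 18), (3, 312, 2), (1, 734, 17)],
  [(0, 811, 11), (4, 392, 24), (2, 785, 17), (0, 637, 9), (0, 806, 0), (6, 275, 7), (4, 36, 1)],
  [(1, 10, 18), (0, 790, 8), (0, 108, 4), (4, 756, 28), (1, 31, 20), (0, 135, 9), (4, 764, 14)],
  [(6, 75, 19), (3, 11, 23), (2, 544, 5), (4, 745, 6), (4, 438, 24), (5, 457, 6), (6, 94, 13)],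
  [(6, 169, 6), (5, 646, 9), (1, 317, 16), (3, 299, 4), (6, 360, 13), (4, 507, 13), (5, 197, 3)],
  [(4, 297, 1), (0, 28, 16), (2, 56, 3), (1, 777, 5), (4, 434, 21), (3, 361, 9), (3, 526, 6)],
  [(6, 515, 2), (6, 425, 19), (6, 766, 14), (2, 408, 10), (4, 435, 24), (5, 716, 0), (0, 419, 20)],
  [(0, 595, 2), (0, 617, 1), (6, 98, 0), (5, 814, 26), (0, 359, 24), (2, 198, 7), (6, 775, 29)],
  [(2, 532, 9), (3, 317, 8), (1, 507, 24), (4, 169, 21), (0, 360, 24), (2, 299, 12), (1, 646, 2)],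
  [(0, 372, 9), (6, 285, 25), (1, 504, 24), (0, 821, 29), (0, 357, 21), (1, 213, 17), (1, 679, 14)],
  [(0, 777, 23), (3, 28, 2), (1, 503, 24), (4, 56, 26), (0, 361, 24), (2, 297, 20), (5, 434, 14)],
  [(0, 753, 8), (1, 163, 0), (1, 505, 24), (4, 464, 25), (1, 191, 13), (2, 298, 12), (6, 705, 4)],
  [(5, 236, 10), (0, 669, 28), (1, 506, 24), (6, 156, 25), (6, 350, 20), (2, 300, 12), (3, 387, 10)],
  [(3, 201, 10), (4, 68, 28), (5, 639, 6), (0, 221, 24), (5, 231, 13), (0, 241, 28), (2, 797, 2)],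
  [(0, 679, 26), (3, 357, 15), (6, 609, 17), (3, 213, 10), (3, 285, 29), (5, 821, 2), (1, 372, 16)],
  [(3, 234, 28), (3, 417, 26), (2, 687, 27), (0, 220, 21), (3, 287, 29), (5, 733, 0), (3, 657, 18)],
  [(6, 783, 17), (2, 804, 5), (3, 521, 20), (0, 222, 24), (3, 288, 29), (5, 264, 2), (5, 818, 23)],
  [(4, 589, 23), (5, 509, 3), (0, 227, 8), (2, 20, 13), (3, 289, 29), (3, 597, 8), (3, 427, 0)],
  [(4, 399, 2), (2, 89, 15), (3, 280, 18), (3, 138, 26), (1, 598, 27), (6, 754, 7), (4, 510, 9)],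
  [(2, 452, 5), (2, 320, 13), (6, 436, 2), (1, 58, 22), (2, 710, 21), (3, 552, 22), (4, 774, 10)],
  [(1, 196, 28), (4, 403, 8), (3, 477, 10), (1, 188, 14), (1, 488, 7), (3, 594, 22), (0, 820, 7)],
  [(1, 705, 10), (5, 505, 2), (6, 191, 27), (2, 163, 13), (6, 753, 21), (5, 298, 28), (1, 134, 1)],
  [(0, 593, 17), (2, 617, 10), (4, 359, 8), (4, 775, 7), (6, 814, 13), (5, 98, 27), (3, 595, 21)],
  [(0, 309, 14), (6, 535, 11), (6, 235, 23), (2, 386, 23), (4, 315, 2), (3, 640, 18), (0, 601, 6)],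
  [(5, 353, 26), (0, 327, 0), (5, 819, 24), (2, 60, 16), (5, 171, 8), (5, 211, 3), (5, 722, 19)],
  [(2, 28, 10), (1, 434, 8), (1, 526, 14), (2, 777, 16), (1, 56, 21), (0, 297, 6), (2, 503, 17)],
  [(0, 440, 17), (6, 26, 6), (5, 715, 1), (2, 824, 12), (3, 99, 18), (1, 48, 26), (2, 422, 19)],
  [(3, 162, 11), (1, 432, 29), (2, 352, 2), (2, 825, 12), (4, 699, 19), (3, 620, 27), (5, 137, 14)],
  [(3, 757, 27), (1, 433, 29), (6, 232, 21), (2, 782, 16), (6, 447, 27), (4, 17, 8), (1, 658, 20)],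
  [(6, 746, 19), (5, 33, 23), (3, 351, 21), (6, 454, 13), (6, 792, 5), (5, 547, 14), (3, 537, 25)],
  [(1, 765, 1), (5, 389, 13), (4, 354, 22), (6, 296, 9), (3, 744, 7), (4, 238, 13), (0, 448, 10)],
  [(1, 439, 19), (2, 445, 25), (2, 518, 7), (6, 613, 5), (6, 47, 1), (1, 719, 28), (5, 14, 19)],
  [(5, 126, 23), (2, 291, 16), (3, 225, 17), (2, 463, 13), (0, 476, 2), (1, 751, 18), (6, 274, 25)],
  [(4, 282, 0), (4, 329, 10), (3, 130, 23), (0, 242, 13), (3, 743, 12), (6, 412, 28), (4, 69, 13)],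
  [(1, 687, 8), (6, 234, 16), (4, 467, 6), (5, 417, 15), (0, 287, 27), (1, 657, 19), (1, 220, 11)],
  [(4, 667, 11), (2, 179, 9), (2, 512, 2), (2, 316, 25), (4, 109, 19), (1, 106, 5), (6, 638, 15)],
  [(6, 391, 22), (5, 611, 15), (6, 734, 6), (2, 567, 6), (0, 568, 12), (1, 127, 27), (3, 831, 21)],
  [(6, 131, 1), (3, 443, 23), (3, 599, 27), (1, 30, 7), (6, 268, 3), (5, 453, 9), (6, 566, 19)],
  [(6, 772, 9), (5, 330, 17), (3, 498, 27), (1, 24, 20), (6, 458, 29), (2, 378, 15), (6, 470, 8)],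
  [(0, 569, 21), (1, 692, 25), (0, 711, 8), (5, 340, 29), (3, 404, 25), (6, 550, 7), (1, 579, 8)],
  [(6, 707, 15), (2, 157, 10), (4, 482, 8), (5, 341, 29), (6, 265, 2), (1, 695, 12), (1, 16, 21)],
  [(4, 542, 19), (3, 801, 0), (0, 113, 14), (5, 204, 28), (0, 364, 25), (1, 693, 20), (2, 592, 15)],
  [(0, 480, 28), (3, 625, 25), (0, 584, 23), (1, 346, 19), (6, 370, 6), (3, 622, 16), (1, 636, 11)],
  [(0, 82, 11), (3, 740, 16), (3, 627, 10), (1, 648, 23), (5, 12, 10), (5, 214, 2), (4, 666, 12)],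
  [(2, 110, 23), (5, 161, 3), (2, 363, 10), (1, 158, 16), (4, 182, 17), (2, 302, 12), (4, 665, 12)],
  [(2, 108, 24), (4, 135, 18), (6, 10, 9), (2, 31, 26), (3, 756, 10), (3, 790, 19), (5, 628, 9)],
  [(2, 111, 24), (6, 656, 7), (6, 748, 20), (5, 170, 6), (6, 771, 23), (5, 809, 8), (3, 497, 7)],
  [(2, 109, 24), (3, 179, 3), (3, 667, 23), (4, 106, 2), (1, 382, 3), (1, 638, 16), (6, 512, 0)],
  [(2, 106, 21), (3, 109, 8), (5, 512, 27), (4, 382, 18), (4, 316, 0), (3, 638, 11), (0, 179, 18)],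
  [(1, 335, 16), (6, 630, 0), (6, 187, 8), (5, 604, 15), (1, 379, 20), (1, 413, 2), (2, 641, 8)],
  [(2, 140, 9), (5, 166, 7), (3, 207, 27), (2, 749, 1), (1, 215, 18), (1, 429, 3), (0, 539, 0)],
  [(3, 170, 4), (3, 111, 8), (2, 497, 25), (2, 771, 15), (2, 371, 27), (0, 809, 3), (3, 656, 25)],
  [(4, 155, 8), (1, 193, 26), (2, 538, 29), (6, 160, 25), (1, 486, 13), (0, 418, 0), (2, 676, 0)],
  [(4, 429, 13), (6, 718, 4), (2, 539, 29), (0, 207, 23), (6, 215, 16), (6, 166, 6), (1, 140, 8)],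
  [(4, 153, 22), (3, 243, 27), (2, 832, 11), (0, 205, 24), (4, 473, 2), (4, 304, 24), (5, 70, 27)],
  [(6, 647, 28), (3, 104, 22), (6, 184, 22), (0, 208, 24), (4, 664, 13), (4, 307, 24), (0, 4, 13)],
  [(0, 614, 26), (1, 697, 25), (0, 362, 10), (0, 210, 24), (4, 83, 8), (4, 303, 24), (1, 139, 22)],
  [(5, 683, 27), (5, 321, 22), (1, 263, 23), (0, 252, 24), (4, 78, 29), (1, 520, 14), (3, 603, 2)],
  [(5, 343, 19), (1, 623, 16), (0, 727, 16), (0, 45, 26), (4, 79, 29), (5, 59, 23), (1, 553, 23)],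
  [(4, 788, 15), (0, 780, 1), (1, 8, 15), (0, 253, 24), (4, 80, 29), (5, 270, 26), (4, 376, 20)],
  [(0, 438, 22), (5, 279, 26), (0, 457, 9), (0, 11, 29), (2, 745, 9), (0, 75, 4), (5, 94, 5)],
  [(0, 666, 13), (1, 522, 5), (2, 82, 3), (5, 648, 16), (3, 214, 10), (4, 627, 2), (2, 740, 23)],
  [(6, 767, 7), (5, 189, 5), (1, 571, 29), (6, 559, 1), (5, 708, 0), (1, 629, 29), (0, 500, 17)],
  [(6, 798, 17), (6, 25, 21), (2, 22, 2), (2, 575, 1), (1, 752, 11), (1, 46, 22), (0, 367, 6)],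
  [(2, 608, 20), (0, 642, 27), (0, 634, 24), (4, 411, 21), (0, 499, 25), (1, 631, 29), (5, 449, 9)],
  [(1, 489, 3), (3, 605, 5), (0, 635, 24), (1, 644, 5), (5, 829, 17), (0, 249, 11), (0, 671, 22)],
  [(1, 813, 12), (4, 596, 23), (2, 293, 25), (3, 228, 25), (6, 368, 10), (1, 632, 29), (6, 529, 2)],
  [(2, 527, 21), (6, 83, 0), (4, 614, 24), (5, 362, 20), (2, 139, 4), (3, 303, 16), (3, 210, 16)],
  [(2, 403, 25), (4, 594, 24), (0, 488, 15), (6, 477, 26), (3, 462, 8), (3, 188, 11), (4, 820, 15)],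
  [(0, 411, 8), (6, 128, 11), (2, 499, 22), (6, 608, 23), (5, 634, 15), (6, 449, 17), (0, 631, 3)],
  [(4, 563, 26), (6, 541, 6), (5, 493, 7), (5, 680, 24), (1, 112, 9), (2, 218, 20), (0, 750, 5)],
  [(1, 742, 10), (0, 683, 23), (4, 252, 27), (6, 520, 22), (2, 263, 26), (4, 321, 0), (6, 603, 19)],
  [(2, 559, 13), (4, 73, 13), (0, 708, 17), (3, 767, 21), (6, 571, 2), (1, 500, 10), (0, 629, 2)],
  [(4, 184, 23), (1, 4, 1), (3, 307, 3), (3, 208, 3), (5, 258, 1), (6, 664, 1), (3, 647, 24)],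
  [(0, 410, 22), (0, 682, 21), (3, 381, 18), (1, 478, 27), (4, 758, 8), (3, 483, 16), (6, 254, 0)],
  [(0, 765, 8), (0, 238, 21), (0, 168, 0), (2, 448, 25), (1, 354, 27), (1, 744, 4), (6, 389, 21)],
  [(0, 464, 26), (3, 134, 7), (3, 191, 3), (4, 753, 9), (6, 505, 1), (0, 705, 15), (1, 298, 11)],
  [(6, 278, 26), (1, 277, 2), (0, 560, 14), (3, 116, 27), (0, 91, 5), (0, 74, 14), (6, 390, 24)],
  [(4, 177, 21), (6, 731, 11), (4, 525, 5), (2, 366, 17), (4, 776, 17), (3, 773, 10), (5, 129, 7)],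
  [(3, 631, 13), (4, 642, 2), (2, 411, 5), (3, 608, 26), (4, 449, 18), (3, 499, 0), (5, 128, 12)],
  [(4, 43, 11), (6, 530, 19), (6, 830, 29), (5, 817, 6), (0, 633, 16), (5, 336, 28), (5, 124, 12)],
  [(6, 517, 2), (5, 502, 4), (5, 358, 14), (4, 835, 10), (6, 260, 1), (0, 49, 23), (4, 7, 1)]]

set_option maxRecDepth 1000000 in
/-- hints for the representatives of part 3 -/
def j1DcHintC : List (List (ℕ × ℕ × ℕ)) := [
  [(2, 453, 10), (4, 131, 0), (0, 268, 15), (0, 30, 8), (6, 443, 7), (0, 119, 14), (5, 599, 9)],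
  [(5, 695, 29), (4, 707, 25), (0, 265, 28), (4, 341, 24), (5, 157, 27), (1, 50, 29), (6, 482, 23)],
  [(5, 693, 22), (2, 542, 16), (1, 364, 3), (4, 204, 18), (6, 801, 11), (1, 52, 29), (2, 113, 19)],
  [(2, 90, 10), (2, 247, 6), (0, 460, 24), (4, 339, 24), (5, 347, 28), (0, 42, 21), (4, 396, 1)],
  [(0, 757, 7), (4, 232, 0), (2, 658, 1), (3, 17, 6), (5, 782, 20), (0, 755, 18), (1, 447, 7)],
  [(6, 225, 19), (5, 266, 29), (4, 463, 14), (3, 274, 28), (0, 291, 11), (2, 751, 22), (6, 476, 21)],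
  [(1, 703, 5), (5, 262, 22), (6, 190, 6), (3, 660, 4), (3, 37, 8), (1, 2, 22), (0, 491, 9)],
  [(5, 603, 25), (5, 263, 29), (2, 78, 20), (6, 321, 2), (4, 683, 11), (4, 520, 17), (2, 742, 21)],
  [(1, 397, 15), (1, 276, 7), (1, 393, 23), (1, 388, 9), (6, 795, 11), (1, 581, 9), (1, 237, 9)],
  [(4, 734, 15), (4, 831, 0), (0, 127, 7), (5, 567, 15), (1, 312, 4), (2, 568, 27), (3, 391, 11)],
  [(1, 286, 1), (3, 96, 26), (1, 815, 10), (6, 556, 27), (6, 308, 18), (4, 133, 7), (6, 787, 0)],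
  [(4, 194, 14), (4, 409, 8), (0, 122, 20), (1, 793, 18), (0, 807, 6), (2, 487, 16), (1, 369, 1)],
  [(2, 336, 26), (2, 43, 18), (1, 633, 15), (4, 817, 24), (2, 530, 25), (4, 421, 1), (1, 830, 16)],
  [(6, 590, 0), (4, 101, 23), (1, 574, 3), (1, 230, 11), (2, 511, 18), (2, 319, 28), (3, 181, 23)],
  [(0, 763, 14), (0, 121, 1), (1, 383, 21), (4, 431, 29), (3, 519, 10), (3, 826, 15), (3, 175, 18)],
  [(5, 440, 16), (4, 99, 21), (1, 824, 7), (2, 26, 13), (4, 675, 13), (0, 715, 27), (5, 48, 17)],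
  [(2, 698, 1), (6, 167, 29), (6, 226, 25), (4, 430, 29), (6, 717, 24), (5, 144, 19), (0, 292, 25)],
  [(2, 241, 1), (1, 68, 1), (5, 221, 6), (4, 201, 25), (1, 797, 0), (1, 231, 21), (2, 406, 14)],
  [(4, 659, 28), (2, 331, 10), (2, 345, 13), (5, 729, 17), (3, 791, 17), (0, 233, 2), (0, 650, 5)],
  [(2, 126, 0), (1, 225, 7), (0, 274, 9), (0, 751, 5), (5, 463, 8), (4, 266, 4), (2, 476, 26)],
  [(2, 590, 25), (4, 290, 15), (6, 101, 14), (6, 511, 9), (1, 181, 14), (2, 230, 15), (0, 574, 1)],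
  [(3, 818, 12), (1, 222, 20), (2, 521, 28), (2, 783, 5), (5, 333, 9), (4, 804, 10), (0, 288, 21)],
  [(6, 713, 9), (1, 176, 11), (0, 65, 29), (0, 384, 11), (6, 311, 25), (0, 619, 9), (0, 557, 29)],
  [(0, 79, 2), (2, 21, 14), (0, 59, 22), (5, 623, 6), (5, 45, 11), (6, 343, 5), (0, 553, 22)],
  [(0, 211, 14), (4, 327, 7), (0, 60, 29), (6, 353, 28), (4, 722, 24), (1, 171, 17), (0, 554, 29)],
  [(0, 815, 24), (4, 286, 22), (0, 62, 29), (5, 96, 8), (3, 308, 13), (4, 787, 20), (0, 556, 29)],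
  [(1, 524, 8), (5, 606, 4), (1, 768, 4), (1, 407, 10), (2, 508, 25), (5, 283, 24), (5, 414, 13)],
  [(3, 81, 0), (6, 217, 18), (2, 481, 10), (2, 251, 1), (4, 720, 18), (0, 86, 4), (6, 706, 10)],
  [(2, 200, 4), (4, 322, 2), (0, 178, 9), (0, 816, 25), (3, 573, 11), (5, 284, 24), (4, 380, 0)],
  [(2, 398, 20), (3, 578, 4), (6, 246, 25), (5, 93, 22), (2, 400, 9), (5, 281, 21), (4, 615, 4)],
  [(1, 736, 26), (3, 15, 11), (0, 67, 22), (4, 446, 3), (6, 770, 16), (4, 240, 28), (2, 661, 18)],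
  [(4, 330, 28), (2, 470, 26), (6, 44, 19), (1, 772, 7), (5, 24, 0), (0, 378, 17), (4, 498, 8)],
  [(6, 809, 15), (5, 771, 25), (2, 748, 12), (4, 371, 9), (0, 170, 13), (0, 497, 3), (4, 656, 3)],
  [(2, 802, 15), (2, 272, 17), (4, 668, 1), (6, 451, 10), (6, 118, 7), (0, 540, 24), (6, 149, 14)],
  [(6, 418, 11), (2, 160, 3), (3, 702, 8), (3, 486, 17), (1, 155, 23), (0, 538, 24), (3, 676, 11)],
  [(2, 85, 26), (3, 209, 12), (4, 663, 19), (3, 583, 16), (0, 1, 11), (1, 151, 17), (2, 142, 24)],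
  [(3, 305, 12), (3, 206, 12), (6, 600, 15), (4, 701, 20), (2, 812, 20), (3, 173, 6), (2, 141, 24)],
  [(0, 489, 6), (3, 249, 20), (2, 199, 27), (2, 671, 14), (4, 635, 1), (3, 829, 25), (4, 605, 8)],
  [(2, 818, 4), (0, 804, 18), (6, 264, 1), (2, 288, 6), (6, 521, 27), (3, 333, 2), (2, 222, 5)],
  [(6, 708, 22), (5, 559, 21), (1, 189, 8), (6, 73, 21), (3, 571, 0), (5, 629, 0), (4, 767, 10)],
  [(1, 499, 8), (3, 411, 28), (3, 642, 11), (1, 128, 6), (2, 634, 22), (5, 631, 20), (0, 608, 18)],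
  [(0, 22, 1), (1, 367, 28), (0, 46, 10), (5, 575, 7), (6, 586, 23), (3, 752, 8), (3, 798, 20)],
  [(0, 138, 3), (4, 754, 26), (4, 280, 14), (1, 89, 13), (0, 510, 23), (6, 466, 27), (6, 399, 16)],
  [(6, 397, 17), (0, 795, 24), (0, 388, 7), (4, 276, 5), (1, 92, 13), (3, 393, 6), (5, 581, 7)],
  [(4, 747, 2), (6, 484, 26), (6, 146, 19), (2, 219, 8), (0, 326, 28), (6, 822, 15), (5, 654, 16)],
  [(5, 574, 9), (0, 511, 6), (5, 101, 11), (5, 590, 2), (5, 319, 26), (6, 290, 18), (5, 181, 11)],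
  [(2, 504, 23), (5, 285, 18), (4, 679, 0), (4, 609, 9), (2, 372, 5), (4, 821, 8), (6, 213, 16)],
  [(0, 295, 21), (5, 662, 1), (6, 426, 19), (0, 185, 0), (2, 105, 0), (1, 172, 23), (5, 444, 22)],
  [(6, 238, 16), (2, 389, 16), (4, 296, 6), (2, 765, 9), (6, 448, 26), (6, 744, 15), (1, 168, 22)],
  [(0, 547, 19), (2, 33, 7), (4, 454, 17), (0, 746, 16), (2, 537, 3), (2, 792, 6), (1, 318, 5)],
  [(3, 48, 5), (3, 26, 26), (0, 824, 29), (1, 440, 4), (1, 422, 16), (6, 99, 2), (1, 675, 26)],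
  [(0, 165, 17), (2, 27, 20), (4, 245, 19), (0, 558, 11), (1, 39, 28), (0, 148, 10), (0, 72, 19)],
  [(4, 519, 20), (3, 431, 14), (3, 121, 18), (1, 564, 2), (3, 383, 17), (0, 826, 9), (5, 763, 15)],
  [(6, 4, 23), (0, 664, 23), (4, 258, 23), (6, 307, 19), (0, 104, 17), (5, 208, 19), (0, 647, 26)],
  [(4, 345, 9), (4, 233, 23), (2, 659, 7), (4, 791, 10), (4, 729, 10), (5, 331, 14), (2, 624, 10)],
  [(5, 427, 13), (4, 227, 21), (1, 289, 18), (6, 509, 29), (3, 589, 20), (6, 597, 21), (1, 833, 9)],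
  [(2, 576, 13), (5, 640, 6), (3, 535, 18), (0, 386, 11), (1, 309, 3), (6, 601, 24), (0, 315, 5)],
  [(3, 30, 10), (3, 566, 2), (1, 443, 27), (6, 453, 29), (5, 268, 6), (6, 599, 24), (6, 119, 18)],
  [(3, 91, 0), (5, 95, 23), (2, 74, 5), (5, 277, 7), (1, 116, 16), (0, 278, 1), (5, 390, 18)],
  [(3, 807, 19), (6, 565, 8), (4, 487, 27), (1, 409, 28), (6, 793, 24), (5, 194, 9), (0, 369, 26)],
  [(0, 219, 26), (5, 747, 14), (4, 654, 22), (3, 326, 16), (1, 356, 10), (1, 822, 17), (3, 484, 15)],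
  [(4, 485, 15), (4, 555, 11), (6, 255, 7), (5, 248, 10), (3, 474, 29), (3, 61, 11), (4, 709, 8)],
  [(5, 250, 16), (1, 789, 23), (6, 9, 23), (3, 761, 21), (3, 475, 29), (6, 310, 1), (0, 271, 18)],
  [(6, 291, 9), (0, 463, 1), (6, 126, 2), (5, 274, 20), (3, 476, 29), (3, 266, 7), (3, 751, 12)],
  [(5, 318, 15), (0, 33, 6), (3, 792, 3), (1, 537, 13), (0, 454, 18), (2, 351, 11), (2, 746, 21)],
  [(5, 625, 25), (3, 370, 6), (6, 636, 11), (2, 346, 19), (6, 584, 23), (3, 480, 28), (0, 823, 25)],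
  [(1, 501, 8), (5, 77, 18), (6, 164, 19), (3, 490, 1), (6, 741, 22), (2, 739, 6), (2, 607, 9)],
  [(1, 101, 27), (6, 230, 20), (0, 590, 22), (2, 181, 27), (5, 511, 17), (0, 290, 20), (4, 319, 4)],
  [(4, 156, 26), (6, 236, 12), (2, 387, 12), (2, 350, 19), (5, 348, 25), (4, 300, 11), (4, 669, 4)],
  [(3, 795, 21), (6, 237, 12), (2, 388, 12), (0, 393, 10), (4, 397, 26), (2, 92, 6), (3, 276, 9)],
  [(1, 560, 11), (0, 277, 22), (2, 390, 7), (3, 95, 20), (1, 278, 4), (0, 116, 5), (5, 74, 11)],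
  [(5, 665, 17), (1, 302, 17), (4, 158, 7), (3, 102, 12), (6, 182, 12), (6, 110, 14), (0, 363, 28)],
  [(4, 301, 22), (6, 64, 13), (6, 528, 15), (2, 549, 0), (4, 55, 9), (2, 577, 5), (1, 365, 25)],
  [(1, 390, 2), (4, 560, 6), (5, 91, 11), (2, 277, 8), (5, 278, 0), (3, 74, 6), (4, 95, 7)],
  [(6, 537, 11), (6, 318, 22), (1, 746, 23), (3, 454, 24), (3, 547, 7), (4, 351, 6), (4, 33, 19)],
  [(0, 701, 25), (6, 154, 7), (4, 812, 25), (0, 305, 18), (4, 600, 12), (3, 141, 28), (2, 173, 0)],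
  [(3, 369, 5), (4, 122, 8), (5, 807, 16), (5, 409, 18), (3, 194, 10), (5, 487, 9), (5, 565, 23)],
  [(2, 717, 9), (0, 195, 14), (0, 144, 22), (3, 167, 10), (2, 430, 10), (3, 698, 12), (6, 292, 4)],
  [(6, 349, 9), (1, 541, 22), (5, 112, 18), (5, 750, 21), (6, 680, 4), (4, 493, 16), (0, 563, 20)],
  [(5, 725, 8), (4, 100, 7), (0, 323, 24), (3, 66, 17), (2, 375, 22), (1, 684, 3), (0, 828, 20)],
  [(0, 88, 14), (0, 737, 28), (0, 53, 17), (0, 342, 13), (2, 76, 7), (5, 728, 2), (2, 694, 17)],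
  [(3, 708, 24), (6, 189, 25), (5, 767, 26), (4, 629, 10), (2, 73, 12), (2, 500, 2), (5, 571, 10)],
  [(1, 438, 26), (4, 94, 20), (5, 745, 2), (1, 544, 28), (2, 75, 12), (2, 279, 22), (5, 11, 17)],
  [(0, 311, 8), (6, 384, 14), (4, 176, 14), (0, 685, 0), (2, 65, 20), (4, 619, 1), (4, 713, 1)],
  [(4, 377, 5), (5, 405, 11), (5, 543, 15), (4, 686, 9), (2, 621, 27), (0, 496, 12), (3, 159, 7)],
  [(5, 707, 5), (4, 695, 11), (4, 50, 11), (3, 16, 16), (1, 482, 9), (4, 265, 13), (3, 157, 12)],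
  [(0, 300, 28), (2, 506, 2), (6, 669, 23), (6, 387, 16), (3, 348, 9), (0, 236, 16), (3, 156, 12)],
  [(1, 665, 26), (3, 161, 16), (3, 302, 26), (3, 182, 20), (5, 363, 15), (4, 102, 20), (3, 158, 12)],
  [(5, 418, 13), (3, 538, 18), (0, 193, 0), (5, 676, 13), (0, 702, 22), (6, 155, 21), (3, 160, 12)],
  [(3, 418, 16), (1, 702, 24), (4, 676, 16), (6, 538, 20), (6, 486, 5), (2, 193, 10), (3, 155, 12)],
  [(1, 418, 14), (0, 486, 6), (5, 538, 22), (4, 702, 12), (1, 160, 23), (6, 676, 14), (6, 193, 27)],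
  [(5, 300, 18), (4, 348, 10), (5, 387, 14), (5, 506, 28), (4, 350, 25), (1, 669, 7), (4, 236, 14)],
  [(3, 707, 6), (2, 482, 10), (2, 16, 14), (0, 695, 1), (1, 341, 11), (6, 50, 1), (1, 265, 17)],
  [(6, 665, 5), (6, 363, 25), (2, 182, 22), (6, 161, 14), (1, 110, 13), (5, 302, 5), (1, 102, 22)],
  [(2, 377, 10), (3, 621, 0), (3, 686, 11), (1, 405, 16), (6, 114, 7), (0, 543, 23), (4, 496, 22)],
  [(1, 534, 1), (5, 472, 15), (3, 582, 21), (2, 724, 2), (6, 115, 12), (4, 180, 21), (3, 562, 29)],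
  [(3, 248, 6), (5, 485, 28), (3, 709, 15), (6, 474, 8), (6, 117, 12), (5, 61, 10), (1, 555, 10)],
  [(5, 218, 4), (1, 349, 6), (2, 750, 12), (2, 493, 0), (6, 112, 20), (0, 541, 24), (3, 563, 29)],
  [(3, 514, 4), (1, 546, 28), (6, 394, 15), (3, 455, 21), (3, 545, 20), (1, 132, 26), (2, 18, 1)],
  [(1, 760, 21), (0, 5, 25), (6, 561, 23), (1, 174, 19), (0, 294, 4), (3, 192, 23), (0, 87, 28)],
  [(2, 697, 20), (6, 614, 14), (0, 303, 3), (0, 527, 4), (3, 139, 23), (4, 362, 17), (2, 83, 18)],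
  [(3, 275, 20), (5, 811, 13), (1, 806, 4), (6, 637, 14), (0, 392, 18), (1, 810, 10), (4, 785, 27)],
  [(0, 173, 28), (1, 305, 26), (3, 812, 27), (3, 701, 27), (6, 206, 26), (1, 154, 11), (1, 600, 19)],
  [(5, 489, 27), (5, 635, 14), (1, 671, 13), (6, 249, 28), (4, 644, 24), (4, 199, 0), (0, 829, 7)],
  [(6, 413, 29), (0, 187, 18), (5, 630, 6), (5, 641, 18), (0, 424, 16), (3, 335, 9), (2, 604, 21)],
  [(6, 414, 29), (4, 283, 4), (4, 407, 28), (5, 40, 23), (4, 508, 0), (5, 524, 19), (6, 768, 24)],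
  [(4, 314, 16), (0, 610, 4), (5, 203, 0), (1, 314, 7), (3, 203, 25), (6, 531, 18), (5, 531, 9)],
  [(6, 411, 29), (2, 449, 26), (5, 642, 6), (2, 631, 7), (6, 499, 28), (3, 634, 8), (0, 128, 19)],
  [(4, 370, 15), (4, 625, 4), (6, 480, 19), (6, 622, 20), (2, 823, 4), (3, 636, 29), (4, 584, 5)],
  [(2, 806, 22), (4, 811, 20), (0, 785, 25), (5, 36, 21), (5, 275, 10), (3, 637, 29), (6, 810, 3)],
  [(5, 228, 15), (3, 529, 18), (2, 596, 8), (2, 632, 12), (5, 368, 9), (5, 293, 15), (4, 41, 5)],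
  [(4, 575, 19), (4, 367, 9), (4, 25, 28), (2, 46, 2), (0, 752, 14), (5, 22, 25), (0, 586, 16)],
  [(2, 693, 12), (6, 364, 18), (3, 113, 0), (0, 52, 7), (0, 204, 22), (6, 592, 28), (1, 801, 9)],
  [(6, 500, 14), (1, 708, 10), (3, 73, 9), (3, 629, 23), (2, 189, 13), (4, 559, 9), (0, 767, 15)],
  [(2, 692, 20), (6, 569, 7), (2, 550, 28), (4, 54, 15), (3, 579, 18), (4, 711, 18), (1, 404, 20)],
  [(6, 572, 26), (0, 533, 9), (5, 688, 11), (0, 735, 7), (4, 313, 21), (0, 612, 22), (1, 334, 13)],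
  [(1, 780, 5), (3, 788, 21), (1, 270, 14), (1, 395, 11), (6, 376, 8), (5, 8, 21), (2, 80, 25)],
  [(1, 391, 5), (6, 567, 20), (6, 127, 18), (0, 734, 20), (4, 611, 0), (6, 831, 26), (5, 312, 1)],
  [(4, 67, 13), (4, 770, 3), (4, 15, 28), (0, 736, 12), (0, 240, 6), (2, 796, 26), (4, 661, 5)],
  [(5, 727, 23), (2, 553, 16), (4, 59, 16), (3, 45, 21), (3, 21, 2), (6, 79, 4), (2, 343, 7)],
  [(5, 471, 9), (2, 428, 8), (2, 805, 28), (3, 784, 17), (1, 402, 5), (2, 691, 4), (1, 651, 2)],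
  [(6, 428, 25), (1, 784, 14), (6, 471, 6), (0, 651, 22), (4, 402, 13), (2, 332, 20), (4, 691, 19)],
  [(6, 440, 18), (4, 48, 25), (0, 675, 3), (4, 422, 20), (2, 715, 24), (1, 99, 16), (0, 26, 3)],
  [(0, 786, 6), (3, 704, 26), (6, 726, 20), (0, 442, 7), (6, 29, 8), (2, 450, 10), (3, 328, 11)],
  [(1, 817, 19), (2, 421, 28), (2, 633, 27), (1, 43, 6), (4, 830, 15), (6, 124, 3), (4, 336, 29)],
  [(2, 459, 23), (5, 51, 8), (3, 696, 8), (5, 423, 13), (3, 338, 23), (6, 469, 18), (0, 256, 15)],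
  [(2, 460, 24), (4, 42, 21), (0, 90, 10), (6, 347, 28), (3, 339, 24), (5, 247, 6), (4, 416, 22)],
  [(4, 88, 7), (5, 53, 29), (3, 694, 29), (4, 728, 9), (3, 342, 24), (6, 120, 2), (4, 76, 14)],
  [(6, 404, 3), (5, 54, 29), (1, 550, 8), (5, 692, 3), (3, 340, 24), (1, 569, 20), (0, 579, 23)],
  [(2, 265, 28), (5, 50, 29), (3, 695, 29), (6, 157, 27), (3, 341, 24), (0, 707, 25), (0, 16, 20)],
  [(5, 636, 26), (1, 625, 20), (4, 622, 9), (5, 370, 16), (3, 584, 2), (5, 823, 20), (3, 346, 27)],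
  [(2, 756, 25), (2, 10, 3), (3, 764, 13), (4, 31, 28), (2, 628, 3), (2, 135, 11), (4, 790, 24)],
  [(3, 654, 25), (3, 219, 0), (5, 146, 3), (0, 747, 6), (5, 356, 16), (1, 484, 24), (4, 326, 5)],
  [(6, 682, 27), (2, 254, 8), (3, 0, 21), (2, 410, 9), (5, 478, 25), (1, 483, 24), (4, 381, 1)],
  [(1, 706, 21), (6, 481, 21), (2, 720, 6), (0, 217, 6), (2, 81, 2), (3, 86, 7), (6, 834, 21)],
  [(5, 584, 3), (2, 636, 27), (2, 622, 0), (4, 346, 1), (4, 823, 2), (1, 370, 17), (4, 480, 21)],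
  [(2, 317, 4), (4, 646, 11), (1, 197, 8), (4, 532, 15), (1, 169, 27), (0, 299, 6), (2, 507, 26)],
  [(5, 709, 21), (2, 61, 17), (1, 248, 16), (0, 117, 15), (5, 474, 18), (1, 485, 24), (4, 255, 22)],
  [(6, 287, 28), (0, 467, 21), (0, 733, 4), (0, 417, 1), (5, 220, 25), (4, 234, 8), (2, 657, 23)],
  [(5, 741, 21), (2, 164, 16), (0, 681, 11), (5, 490, 0), (6, 607, 10), (3, 77, 2), (3, 739, 26)],
  [(6, 504, 20), (2, 679, 13), (0, 213, 5), (3, 821, 21), (0, 609, 19), (2, 357, 2), (4, 372, 11)],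
  [(1, 634, 18), (6, 642, 16), (1, 449, 14), (3, 128, 27), (4, 608, 3), (1, 411, 25), (6, 631, 28)],
  [(2, 274, 13), (1, 266, 11), (0, 126, 6), (6, 463, 18), (6, 751, 19), (4, 225, 28), (1, 291, 22)],
  [(1, 468, 23), (6, 373, 16), (2, 337, 0), (4, 781, 0), (4, 441, 5), (6, 570, 9), (0, 626, 7)],
  [(3, 390, 9), (6, 277, 16), (1, 74, 21), (6, 91, 25), (3, 560, 21), (0, 95, 14), (5, 116, 7)],
  [(5, 652, 22), (1, 495, 24), (3, 212, 5), (2, 374, 22), (4, 183, 11), (0, 239, 19), (2, 649, 23)],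
  [(6, 699, 22), (0, 162, 29), (0, 352, 16), (6, 137, 21), (2, 620, 7), (5, 825, 27), (5, 827, 13)],
  [(4, 718, 23), (0, 166, 29), (5, 215, 3), (5, 539, 19), (3, 749, 14), (2, 207, 0), (5, 140, 11)],
  [(0, 676, 26), (0, 160, 22), (1, 538, 3), (0, 155, 2), (6, 702, 18), (3, 193, 19), (5, 486, 0)],
  [(0, 530, 23), (3, 43, 25), (1, 336, 27), (0, 421, 16), (0, 124, 4), (3, 830, 17), (5, 633, 8)],
  [(3, 576, 25), (6, 315, 7), (4, 309, 5), (4, 235, 21), (1, 601, 11), (2, 640, 23), (5, 386, 21)],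
  [(1, 529, 13), (6, 293, 26), (4, 368, 12), (5, 596, 27), (0, 813, 11), (4, 632, 0), (1, 41, 7)],
  [(1, 580, 17), (6, 3, 0), (4, 229, 14), (4, 257, 0), (2, 479, 27), (3, 344, 28), (6, 551, 4)],
  [(3, 531, 6), (2, 314, 15), (4, 203, 10), (0, 314, 0), (3, 610, 7), (2, 610, 19), (0, 203, 2)],
  [(1, 435, 19), (5, 419, 4), (3, 408, 21), (5, 766, 3), (2, 515, 5), (4, 762, 11), (1, 425, 25)],
  [(0, 605, 20), (6, 644, 20), (2, 489, 0), (6, 671, 26), (1, 829, 29), (3, 199, 19), (2, 249, 25)],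
  [(2, 474, 6), (2, 255, 17), (1, 117, 27), (0, 248, 15), (1, 709, 13), (2, 555, 8), (4, 61, 8)],
  [(0, 84, 14), (6, 689, 18), (6, 523, 3), (2, 585, 28), (2, 216, 23), (1, 437, 4), (3, 123, 1)],
  [(0, 198, 15), (0, 98, 10), (6, 617, 9), (2, 775, 23), (1, 593, 13), (2, 595, 22), (2, 814, 4)],
  [(0, 296, 22), (3, 354, 4), (4, 765, 18), (5, 168, 6), (0, 389, 7), (0, 744, 11), (5, 448, 20)],
  [(1, 175, 23), (5, 431, 28), (0, 383, 25), (3, 763, 5), (2, 564, 13), (2, 121, 17), (0, 519, 19)],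
  [(5, 445, 24), (6, 267, 18), (4, 518, 20), (5, 719, 8), (6, 439, 6), (0, 47, 17), (5, 613, 0)],
  [(5, 447, 24), (2, 232, 16), (1, 755, 15), (4, 782, 18), (5, 658, 19), (6, 433, 0), (5, 17, 9)],
  [(6, 369, 23), (2, 793, 1), (6, 122, 10), (0, 194, 29), (3, 565, 9), (6, 409, 4), (4, 807, 2)],
  [(2, 639, 11), (3, 231, 10), (5, 68, 8), (2, 201, 19), (3, 241, 8), (1, 406, 12), (4, 797, 7)],
  [(6, 724, 21), (2, 180, 29), (4, 582, 29), (4, 472, 2), (6, 562, 7), (2, 19, 14), (3, 534, 10)],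
  [(4, 1, 23), (0, 142, 6), (4, 583, 29), (3, 663, 24), (5, 85, 28), (6, 261, 23), (5, 209, 5)],
  [(5, 772, 24), (5, 378, 6), (0, 44, 4), (1, 470, 10), (0, 498, 12), (4, 458, 11), (6, 330, 3)],
  [(0, 754, 14), (0, 598, 28), (6, 280, 10), (3, 466, 4), (5, 138, 22), (1, 510, 2), (0, 89, 1)],
  [(2, 525, 20), (6, 129, 14), (2, 773, 18), (5, 366, 29), (6, 678, 18), (6, 776, 29), (1, 177, 6)],
  [(2, 526, 12), (0, 434, 17), (5, 503, 22), (5, 361, 22), (4, 28, 25), (6, 777, 29), (5, 297, 18)],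
  [(2, 531, 12), (5, 610, 3), (0, 531, 13), (2, 203, 6), (1, 203, 20), (1, 610, 11), (3, 314, 9)],
  [(2, 533, 12), (1, 313, 19), (6, 334, 25), (1, 735, 9), (4, 688, 21), (2, 572, 8), (4, 672, 13)],
  [(5, 739, 24), (4, 681, 2), (4, 607, 20), (3, 164, 25), (4, 741, 17), (6, 77, 6), (0, 501, 1)],
  [(5, 738, 24), (3, 244, 6), (1, 732, 3), (4, 516, 2), (2, 34, 20), (6, 401, 17), (5, 71, 6)],
  [(4, 21, 9), (2, 45, 6), (5, 553, 8), (6, 623, 19), (6, 59, 8), (3, 79, 12), (3, 727, 19)],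
  [(3, 527, 11), (2, 210, 22), (5, 139, 2), (6, 697, 8), (5, 303, 22), (3, 83, 12), (3, 362, 0)],
  [(5, 742, 24), (2, 252, 29), (0, 603, 18), (3, 321, 20), (2, 520, 16), (3, 78, 12), (4, 263, 8)],
  [(4, 395, 17), (2, 253, 29), (1, 376, 21), (5, 780, 11), (6, 270, 6), (3, 80, 12), (4, 8, 3)],
  [(2, 755, 21), (1, 232, 9), (1, 17, 13), (1, 757, 3), (0, 447, 3), (1, 782, 12), (4, 433, 6)],
  [(2, 42, 18), (6, 247, 10), (2, 339, 21), (3, 90, 11), (3, 396, 16), (1, 347, 15), (1, 416, 28)],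
  [(0, 18, 12), (4, 455, 0), (5, 394, 13), (6, 514, 18), (2, 273, 4), (3, 546, 19), (0, 545, 1)],
  [(0, 20, 12), (5, 589, 16), (2, 427, 15), (6, 289, 4), (2, 833, 24), (5, 597, 14), (2, 509, 11)],
  [(0, 17, 12), (5, 755, 26), (3, 658, 18), (3, 232, 28), (4, 447, 11), (2, 433, 20), (2, 757, 11)],
  [(0, 25, 12), (5, 798, 14), (4, 46, 24), (4, 586, 10), (2, 367, 17), (6, 22, 22), (6, 752, 27)],
  [(0, 31, 12), (3, 108, 14), (4, 628, 21), (6, 756, 22), (1, 764, 0), (5, 790, 15), (1, 135, 5)],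
  [(1, 26, 27), (0, 99, 3), (0, 422, 17), (3, 824, 22), (4, 715, 14), (3, 440, 5), (5, 675, 27)],
  [(6, 804, 4), (5, 222, 23), (0, 783, 16), (4, 818, 25), (6, 288, 8), (1, 333, 17), (0, 264, 20)],
  [(2, 123, 17), (5, 216, 21), (3, 602, 4), (3, 437, 9), (3, 689, 23), (0, 585, 8), (1, 84, 5)],
  [(5, 664, 23), (6, 208, 19), (6, 104, 17), (0, 258, 23), (1, 184, 17), (1, 307, 19), (4, 647, 26)],
  [(0, 366, 8), (5, 177, 13), (4, 129, 0), (0, 776, 8), (5, 678, 21), (5, 773, 21), (3, 731, 18)],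
  [(2, 233, 23), (6, 331, 14), (3, 729, 10), (5, 659, 7), (6, 650, 1), (6, 791, 10), (6, 624, 10)],
  [(6, 40, 17), (3, 407, 0), (2, 414, 5), (3, 606, 26), (6, 283, 22), (1, 508, 8), (4, 768, 26)],
  [(2, 227, 21), (0, 597, 21), (2, 589, 20), (4, 289, 18), (1, 20, 27), (1, 509, 29), (5, 833, 9)],
  [(2, 290, 5), (3, 230, 5), (0, 181, 28), (2, 101, 28), (3, 319, 12), (1, 511, 29), (4, 574, 21)],
  [(1, 566, 2), (0, 599, 24), (4, 268, 6), (4, 443, 27), (5, 131, 21), (1, 453, 29), (3, 119, 18)],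
  [(5, 820, 26), (2, 188, 21), (2, 477, 8), (4, 196, 19), (5, 462, 27), (6, 403, 6), (5, 488, 26)],
  [(1, 301, 1), (4, 528, 17), (2, 365, 13), (1, 577, 3), (5, 549, 12), (3, 591, 17), (6, 55, 7)],
  [(4, 230, 20), (1, 290, 20), (4, 511, 17), (3, 590, 22), (6, 574, 6), (4, 181, 27), (1, 319, 4)],
  [(4, 231, 12), (1, 639, 20), (4, 406, 11), (2, 221, 17), (6, 797, 10), (2, 68, 9), (1, 241, 9)],
  [(4, 170, 1), (2, 656, 22), (5, 371, 13), (1, 748, 15), (2, 809, 21), (0, 111, 2), (0, 771, 20)],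
  [(4, 826, 22), (2, 519, 13), (4, 383, 23), (0, 564, 6), (6, 431, 15), (0, 175, 24), (5, 121, 26)],
  [(2, 355, 21), (4, 105, 14), (4, 295, 18), (4, 426, 13), (6, 444, 28), (0, 172, 24), (3, 185, 14)],
  [(3, 819, 20), (6, 722, 17), (4, 211, 8), (5, 60, 4), (1, 554, 4), (0, 171, 24), (2, 353, 9)],
  [(2, 682, 25), (1, 758, 22), (4, 254, 4), (2, 478, 16), (2, 381, 23), (3, 410, 15), (2, 0, 27)],
  [(5, 454, 1), (1, 33, 2), (4, 318, 14), (5, 351, 7), (2, 547, 10), (4, 746, 27), (0, 792, 19)],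
  [(3, 774, 29), (5, 710, 14), (1, 465, 1), (5, 552, 19), (6, 320, 15), (6, 58, 19), (3, 452, 23)],
  [(2, 727, 1), (2, 59, 25), (3, 343, 11), (5, 79, 8), (6, 45, 17), (4, 623, 1), (5, 21, 6)],
  [(3, 117, 14), (6, 555, 21), (0, 474, 1), (2, 709, 27), (6, 248, 24), (5, 255, 9), (0, 485, 26)]]

set_option maxRecDepth 1000000 in
/-- hints for the representatives of part 4 -/
def j1DcHintD : List (List (ℕ × ℕ × ℕ)) := [
  [(4, 539, 28), (3, 166, 11), (2, 429, 10), (0, 215, 26), (6, 207, 21), (2, 718, 9), (4, 749, 18)],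
  [(3, 256, 18), (1, 803, 6), (4, 459, 3), (2, 423, 16), (4, 469, 20), (4, 696, 25), (4, 51, 25)],
  [(1, 137, 3), (2, 827, 27), (5, 162, 18), (6, 825, 14), (1, 620, 22), (3, 352, 5), (0, 432, 16)],
  [(6, 827, 29), (4, 825, 2), (2, 137, 5), (6, 432, 28), (4, 620, 16), (3, 699, 6), (5, 352, 7)],
  [(1, 129, 3), (3, 678, 6), (6, 177, 24), (6, 366, 16), (1, 773, 6), (5, 525, 4), (5, 731, 10)],
  [(0, 329, 21), (6, 269, 19), (5, 130, 11), (3, 412, 26), (2, 282, 2), (4, 743, 14), (6, 242, 23)],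
  [(4, 490, 12), (5, 164, 22), (4, 501, 6), (2, 681, 24), (0, 77, 14), (3, 741, 11), (0, 607, 23)],
  [(5, 136, 23), (0, 38, 26), (1, 769, 10), (2, 674, 13), (6, 670, 3), (4, 700, 8), (6, 714, 19)],
  [(3, 322, 7), (0, 380, 4), (5, 536, 17), (4, 200, 9), (4, 816, 24), (3, 284, 18), (1, 178, 14)],
  [(4, 491, 12), (3, 262, 16), (2, 2, 16), (2, 37, 27), (2, 190, 23), (4, 385, 18), (5, 660, 3)],
  [(4, 494, 12), (1, 513, 8), (1, 125, 3), (0, 125, 11), (0, 494, 13), (1, 645, 21), (3, 513, 14)],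
  [(5, 132, 21), (1, 514, 29), (4, 545, 6), (2, 455, 26), (4, 546, 9), (1, 273, 1), (1, 394, 0)],
  [(5, 762, 2), (1, 515, 29), (6, 408, 17), (3, 716, 6), (0, 766, 10), (5, 425, 27), (3, 419, 8)],
  [(6, 643, 21), (1, 451, 22), (3, 149, 25), (0, 272, 7), (1, 540, 14), (5, 118, 1), (0, 668, 2)],
  [(6, 430, 6), (4, 292, 14), (4, 167, 6), (6, 144, 29), (5, 717, 5), (2, 226, 14), (2, 195, 0)],
  [(4, 159, 20), (6, 496, 2), (0, 686, 14), (4, 114, 24), (4, 621, 16), (1, 377, 0), (3, 543, 29)],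
  [(3, 643, 1), (1, 149, 17), (1, 668, 19), (4, 118, 24), (3, 272, 6), (1, 802, 7), (3, 540, 22)],
  [(4, 273, 15), (4, 18, 11), (3, 394, 3), (1, 545, 21), (2, 546, 2), (2, 514, 17), (4, 132, 6)],
  [(6, 36, 13), (6, 785, 10), (5, 806, 17), (5, 392, 28), (6, 811, 4), (2, 275, 21), (4, 810, 9)],
  [(4, 714, 4), (3, 674, 5), (0, 769, 0), (1, 136, 29), (1, 415, 26), (2, 38, 10), (3, 670, 23)],
  [(1, 466, 14), (1, 754, 0), (6, 89, 27), (1, 138, 29), (5, 399, 5), (3, 510, 20), (4, 598, 22)],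
  [(5, 225, 18), (5, 751, 16), (3, 126, 26), (1, 476, 19), (1, 463, 2), (5, 291, 21), (6, 266, 1)],
  [(3, 36, 3), (3, 806, 25), (5, 810, 29), (1, 275, 16), (1, 392, 4), (5, 637, 18), (1, 811, 15)],
  [(5, 724, 5), (5, 19, 23), (1, 115, 14), (5, 534, 28), (1, 582, 13), (4, 562, 16), (3, 180, 13)],
  [(1, 796, 25), (3, 736, 10), (1, 446, 23), (2, 240, 3), (1, 67, 2), (2, 15, 14), (5, 661, 15)],
  [(3, 389, 26), (5, 238, 26), (2, 744, 29), (0, 354, 18), (3, 168, 15), (1, 296, 11), (4, 448, 1)],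
  [(2, 177, 18), (5, 776, 26), (1, 366, 26), (2, 731, 19), (1, 678, 11), (6, 525, 9), (0, 773, 11)],
  [(1, 523, 26), (5, 437, 25), (5, 84, 18), (3, 216, 9), (1, 585, 13), (2, 689, 4), (6, 602, 21)],
  [(1, 157, 25), (4, 16, 10), (3, 50, 5), (1, 707, 16), (2, 341, 26), (6, 695, 5), (5, 482, 17)],
  [(3, 420, 7), (0, 738, 18), (1, 516, 7), (4, 401, 27), (2, 732, 12), (2, 244, 11), (1, 71, 11)],
  [(0, 7, 26), (2, 23, 2), (1, 517, 12), (1, 835, 13), (5, 49, 18), (6, 358, 9), (4, 502, 0)],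
  [(0, 289, 16), (1, 427, 2), (3, 20, 23), (6, 227, 1), (0, 589, 11), (6, 833, 8), (0, 509, 9)],
  [(3, 421, 12), (0, 817, 9), (2, 124, 21), (4, 530, 4), (6, 336, 3), (6, 633, 13), (2, 830, 20)],
  [(3, 14, 13), (0, 613, 9), (1, 518, 12), (4, 439, 13), (0, 267, 21), (4, 445, 23), (3, 47, 16)],
  [(2, 361, 23), (4, 777, 25), (6, 503, 23), (6, 434, 0), (1, 297, 12), (0, 56, 17), (4, 526, 15)],
  [(1, 352, 20), (6, 162, 10), (1, 827, 28), (3, 432, 8), (1, 699, 11), (3, 137, 0), (3, 825, 7)],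
  [(5, 191, 16), (4, 705, 19), (5, 464, 2), (0, 505, 7), (3, 753, 25), (6, 134, 17), (3, 163, 10)],
  [(4, 357, 20), (6, 679, 19), (1, 821, 24), (0, 504, 12), (3, 372, 10), (3, 609, 11), (1, 285, 3)],
  [(6, 761, 16), (4, 548, 11), (5, 475, 0), (2, 250, 18), (4, 9, 27), (1, 271, 17), (5, 310, 21)],
  [(2, 344, 25), (0, 257, 19), (0, 57, 6), (4, 479, 0), (5, 580, 5), (2, 229, 13), (0, 551, 6)],
  [(3, 685, 22), (2, 557, 19), (4, 65, 19), (4, 311, 9), (2, 176, 28), (5, 713, 21), (3, 619, 21)],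
  [(4, 796, 27), (1, 770, 7), (5, 736, 20), (5, 67, 6), (3, 661, 9), (3, 240, 10), (0, 446, 1)],
  [(6, 618, 10), (2, 323, 0), (5, 684, 26), (3, 725, 10), (3, 375, 19), (2, 66, 3), (0, 100, 27)],
  [(1, 641, 14), (4, 379, 6), (2, 424, 20), (3, 413, 10), (3, 630, 15), (3, 604, 0), (2, 335, 23)],
  [(5, 422, 28), (6, 675, 8), (2, 440, 3), (6, 824, 1), (6, 48, 7), (6, 715, 20), (5, 26, 8)],
  [(6, 612, 27), (3, 735, 4), (1, 672, 11), (6, 313, 10), (3, 572, 28), (3, 688, 23), (2, 334, 21)],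
  [(6, 423, 17), (2, 696, 23), (5, 459, 7), (0, 803, 10), (0, 51, 23), (0, 338, 7), (5, 256, 25)],
  [(3, 330, 13), (3, 378, 3), (5, 458, 12), (6, 498, 10), (3, 44, 28), (3, 24, 21), (3, 470, 7)],
  [(1, 614, 1), (0, 139, 15), (0, 83, 22), (1, 527, 16), (6, 303, 18), (5, 697, 24), (5, 210, 18)],
  [(1, 150, 23), (5, 143, 28), (3, 779, 26), (5, 306, 18), (5, 778, 18), (2, 800, 7), (3, 653, 20)],
  [(5, 556, 16), (6, 96, 1), (6, 62, 16), (3, 815, 19), (1, 133, 20), (6, 286, 17), (0, 308, 23)],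
  [(0, 407, 13), (1, 606, 0), (0, 40, 9), (3, 768, 0), (2, 283, 25), (6, 524, 28), (3, 508, 21)],
  [(1, 199, 16), (3, 489, 11), (5, 644, 22), (5, 249, 3), (1, 635, 17), (2, 605, 22), (3, 671, 5)],
  [(2, 762, 1), (4, 408, 20), (4, 419, 13), (4, 425, 3), (6, 716, 28), (3, 435, 16), (2, 766, 15)],
  [(5, 219, 24), (2, 356, 20), (2, 326, 25), (1, 747, 15), (4, 146, 17), (6, 654, 4), (5, 822, 23)],
  [(5, 217, 24), (2, 706, 13), (5, 834, 13), (5, 81, 5), (6, 251, 26), (5, 86, 0), (3, 481, 13)],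
  [(3, 775, 5), (5, 617, 23), (3, 198, 13), (6, 359, 26), (2, 98, 8), (5, 593, 28), (0, 814, 18)],
  [(3, 35, 14), (5, 616, 24), (2, 730, 1), (5, 492, 27), (2, 97, 29), (1, 794, 21), (1, 759, 7)],
  [(4, 824, 25), (6, 422, 9), (4, 26, 14), (2, 48, 19), (2, 99, 29), (1, 715, 6), (3, 675, 14)],
  [(3, 323, 20), (5, 618, 24), (5, 66, 5), (4, 828, 28), (2, 100, 29), (2, 684, 8), (1, 375, 18)],
  [(4, 308, 21), (4, 96, 17), (0, 286, 27), (0, 133, 3), (2, 62, 26), (1, 787, 9), (5, 815, 6)],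
  [(1, 27, 22), (3, 72, 16), (5, 673, 3), (2, 165, 4), (4, 558, 1), (5, 148, 27), (5, 245, 16)],
  [(6, 832, 13), (2, 473, 7), (4, 243, 16), (3, 153, 15), (0, 304, 18), (0, 799, 25), (0, 70, 16)],
  [(1, 680, 23), (3, 349, 21), (3, 112, 5), (1, 563, 17), (3, 493, 3), (1, 750, 4), (1, 218, 12)],
  [(0, 581, 5), (4, 388, 5), (6, 92, 18), (1, 795, 10), (5, 397, 28), (6, 393, 25), (2, 237, 5)],
  [(0, 58, 15), (5, 320, 10), (4, 465, 2), (1, 436, 7), (0, 552, 15), (0, 452, 0), (3, 710, 25)],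
  [(4, 10, 2), (6, 628, 2), (2, 790, 23), (5, 31, 22), (2, 764, 19), (5, 756, 18), (6, 108, 13)],
  [(0, 3, 22), (0, 580, 25), (6, 344, 4), (5, 57, 15), (1, 551, 15), (1, 229, 28), (0, 479, 24)],
  [(3, 682, 16), (1, 0, 25), (5, 381, 17), (0, 483, 18), (5, 410, 14), (5, 758, 9), (0, 478, 24)],
  [(0, 706, 24), (6, 86, 3), (5, 251, 22), (1, 834, 24), (6, 720, 13), (0, 81, 20), (0, 481, 24)],
  [(1, 477, 21), (1, 820, 0), (2, 594, 17), (4, 188, 3), (2, 462, 14), (3, 488, 0), (5, 196, 26)],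
  [(1, 187, 21), (5, 413, 8), (6, 335, 5), (2, 379, 15), (4, 604, 24), (2, 630, 13), (5, 424, 1)],
  [(5, 500, 10), (0, 559, 13), (0, 571, 2), (2, 767, 21), (0, 73, 13), (0, 189, 1), (2, 708, 17)],
  [(6, 197, 26), (3, 507, 15), (6, 299, 25), (0, 532, 17), (1, 360, 15), (3, 169, 8), (6, 317, 2)],
  [(6, 723, 20), (0, 492, 0), (5, 759, 29), (3, 616, 20), (2, 794, 2), (1, 97, 21), (5, 730, 14)],
  [(2, 276, 1), (0, 397, 10), (4, 581, 21), (4, 92, 9), (3, 237, 21), (5, 393, 0), (4, 795, 28)],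
  [(0, 622, 28), (5, 480, 17), (0, 370, 23), (0, 346, 18), (6, 625, 6), (6, 823, 6), (2, 584, 10)],
  [(3, 633, 29), (1, 421, 17), (0, 336, 1), (3, 530, 24), (3, 817, 18), (5, 43, 23), (4, 124, 5)],
  [(4, 572, 7), (5, 313, 14), (6, 735, 27), (3, 533, 24), (3, 672, 4), (0, 688, 22), (4, 612, 19)],
  [(5, 83, 24), (6, 210, 20), (4, 697, 7), (4, 527, 0), (2, 362, 1), (1, 303, 20), (5, 614, 9)],
  [(3, 460, 22), (3, 416, 2), (6, 339, 22), (1, 396, 19), (0, 247, 9), (1, 42, 28), (4, 347, 3)],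
  [(2, 638, 10), (0, 382, 21), (6, 667, 28), (6, 316, 9), (6, 106, 24), (3, 512, 26), (1, 179, 21)],
  [(4, 27, 14), (5, 39, 17), (5, 72, 18), (1, 558, 21), (3, 245, 18), (3, 165, 15), (4, 673, 6)],
  [(3, 438, 14), (5, 544, 24), (0, 279, 23), (6, 745, 29), (3, 94, 8), (1, 11, 0), (6, 457, 29)],
  [(6, 273, 28), (5, 545, 24), (0, 514, 16), (4, 394, 2), (3, 18, 10), (0, 132, 13), (6, 455, 29)],
  [(6, 76, 6), (0, 694, 18), (1, 342, 2), (6, 53, 18), (3, 88, 22), (2, 120, 8), (2, 737, 14)],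
  [(5, 367, 1), (3, 575, 4), (1, 22, 8), (2, 798, 9), (2, 586, 13), (1, 25, 3), (5, 752, 17)],
  [(6, 446, 17), (6, 661, 14), (1, 15, 29), (5, 240, 19), (5, 770, 20), (3, 67, 11), (5, 796, 16)],
  [(0, 570, 24), (3, 441, 23), (5, 337, 21), (1, 32, 7), (6, 781, 21), (4, 626, 27), (4, 373, 2)],
  [(5, 533, 8), (1, 612, 0), (3, 313, 1), (1, 688, 12), (2, 672, 16), (2, 735, 6), (5, 334, 2)],
  [(3, 68, 6), (5, 797, 26), (0, 406, 27), (5, 201, 22), (4, 221, 14), (5, 241, 6), (6, 639, 29)],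
  [(1, 576, 8), (2, 601, 14), (3, 235, 28), (2, 315, 24), (0, 535, 5), (6, 309, 27), (6, 640, 29)],
  [(0, 703, 15), (4, 2, 0), (1, 385, 20), (2, 491, 8), (3, 190, 3), (1, 37, 5), (6, 262, 0)],
  [(6, 758, 25), (4, 410, 24), (1, 381, 20), (0, 254, 10), (2, 483, 0), (4, 478, 5), (6, 0, 14)],
  [(6, 71, 7), (5, 401, 25), (0, 516, 13), (6, 420, 13), (4, 34, 19), (2, 738, 1), (6, 732, 6)],
  [(0, 190, 2), (4, 262, 9), (3, 491, 15), (0, 385, 12), (3, 703, 28), (0, 660, 22), (6, 2, 9)],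
  [(6, 375, 15), (5, 828, 3), (4, 66, 27), (6, 323, 18), (1, 725, 22), (0, 618, 22), (6, 100, 20)],
  [(5, 699, 18), (1, 825, 0), (4, 432, 1), (0, 827, 26), (4, 352, 4), (0, 620, 29), (1, 162, 21)],
  [(3, 377, 7), (3, 496, 0), (2, 114, 6), (5, 159, 9), (2, 543, 26), (0, 621, 29), (6, 405, 21)],
  [(3, 376, 12), (0, 80, 8), (2, 395, 14), (0, 270, 17), (4, 780, 27), (5, 253, 23), (5, 788, 28)],
  [(4, 570, 13), (3, 337, 6), (5, 373, 9), (3, 626, 28), (4, 32, 14), (3, 468, 2), (1, 781, 6)],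
  [(0, 588, 1), (5, 461, 10), (6, 587, 10), (5, 63, 26), (2, 324, 29), (1, 224, 27), (6, 223, 14)],
  [(3, 178, 6), (2, 536, 9), (2, 816, 2), (1, 380, 10), (2, 322, 22), (6, 284, 7), (2, 573, 27)],
  [(4, 412, 16), (4, 130, 6), (3, 329, 23), (0, 69, 18), (1, 269, 10), (6, 282, 12), (4, 242, 18)],
  [(3, 63, 21), (1, 588, 25), (5, 223, 8), (5, 324, 4), (1, 712, 20), (3, 224, 18), (2, 461, 2)],
  [(0, 262, 18), (0, 37, 24), (5, 491, 11), (4, 660, 6), (5, 190, 27), (4, 703, 10), (6, 385, 17)],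
  [(4, 636, 18), (1, 823, 10), (2, 480, 26), (5, 346, 25), (1, 622, 15), (1, 584, 11), (2, 625, 10)],
  [(6, 438, 3), (3, 75, 27), (0, 544, 19), (0, 94, 1), (4, 457, 16), (0, 745, 16), (6, 279, 11)],
  [(3, 742, 13), (3, 520, 8), (2, 321, 5), (5, 252, 17), (6, 683, 18), (2, 603, 10), (0, 78, 4)],
  [(3, 38, 8), (0, 415, 3), (3, 769, 24), (1, 700, 27), (3, 136, 10), (0, 670, 5), (1, 674, 25)],
  [(0, 546, 19), (5, 18, 12), (3, 273, 4), (5, 514, 18), (0, 455, 0), (6, 132, 3), (0, 394, 13)],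
  [(3, 23, 22), (6, 7, 4), (2, 358, 6), (4, 260, 4), (6, 502, 10), (5, 517, 8), (3, 49, 20)],
  [(2, 817, 23), (3, 336, 17), (0, 830, 1), (5, 530, 18), (1, 124, 0), (6, 421, 27), (6, 43, 21)],
  [(4, 761, 3), (5, 9, 20), (1, 250, 5), (0, 548, 28), (3, 789, 20), (0, 475, 18), (5, 271, 7)],
  [(0, 643, 18), (6, 668, 3), (4, 540, 4), (0, 802, 11), (0, 118, 16), (5, 451, 28), (5, 272, 12)],
  [(6, 388, 0), (2, 397, 8), (0, 237, 0), (2, 795, 19), (5, 92, 23), (3, 581, 0), (5, 276, 12)],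
  [(2, 616, 12), (3, 492, 9), (4, 35, 19), (0, 759, 8), (5, 97, 24), (4, 723, 12), (3, 794, 20)],
  [(3, 422, 10), (0, 48, 16), (5, 824, 3), (2, 675, 19), (5, 99, 24), (4, 440, 1), (3, 715, 26)],
  [(5, 64, 29), (4, 365, 0), (0, 591, 11), (6, 301, 6), (6, 549, 25), (0, 577, 21), (0, 528, 11)],
  [(5, 65, 29), (1, 557, 29), (6, 619, 9), (3, 384, 11), (5, 685, 10), (1, 311, 25), (3, 713, 9)],
  [(3, 261, 13), (2, 1, 13), (6, 85, 1), (2, 663, 6), (3, 142, 18), (0, 151, 27), (6, 583, 26)],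
  [(1, 348, 25), (3, 506, 1), (6, 300, 11), (3, 236, 12), (0, 350, 19), (5, 156, 26), (3, 669, 4)],
  [(5, 765, 25), (2, 354, 5), (1, 448, 2), (3, 238, 12), (2, 296, 28), (2, 168, 10), (5, 744, 19)],
  [(1, 130, 16), (5, 69, 12), (5, 412, 9), (3, 242, 12), (4, 269, 17), (5, 743, 13), (1, 282, 15)],
  [(4, 571, 10), (5, 73, 12), (1, 559, 12), (4, 500, 2), (3, 189, 25), (2, 629, 10), (4, 708, 24)],
  [(6, 806, 16), (5, 785, 6), (0, 810, 5), (2, 637, 1), (1, 36, 19), (2, 392, 22), (0, 275, 24)],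
  [(4, 237, 1), (3, 92, 8), (3, 397, 7), (5, 388, 1), (6, 581, 1), (2, 393, 29), (0, 276, 24)],
  [(6, 5, 18), (3, 87, 22), (4, 259, 18), (3, 760, 24), (5, 174, 11), (1, 192, 25), (0, 561, 25)],
  [(5, 592, 13), (3, 52, 27), (6, 542, 22), (2, 204, 19), (6, 693, 1), (1, 113, 21), (2, 801, 24)],
  [(4, 294, 19), (5, 87, 21), (2, 174, 1), (5, 561, 3), (4, 760, 12), (3, 259, 2), (2, 5, 2)],
  [(4, 3, 25), (4, 344, 10), (1, 479, 2), (0, 229, 23), (1, 57, 24), (6, 257, 25), (3, 551, 24)],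
  [(2, 57, 4), (6, 229, 14), (0, 344, 28), (6, 580, 17), (3, 479, 27), (3, 257, 0), (2, 3, 0)],
  [(0, 798, 23), (6, 367, 12), (4, 752, 2), (5, 586, 28), (3, 46, 4), (3, 25, 17), (0, 575, 18)],
  [(3, 750, 28), (0, 349, 1), (6, 563, 18), (2, 680, 26), (0, 218, 10), (6, 493, 13), (5, 541, 2)],
  [(6, 78, 8), (2, 683, 26), (6, 263, 25), (4, 603, 20), (0, 520, 0), (3, 252, 23), (4, 742, 7)],
  [(6, 88, 29), (1, 728, 11), (4, 120, 15), (4, 694, 21), (4, 53, 21), (0, 76, 13), (1, 737, 0)],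
  [(1, 384, 19), (6, 65, 22), (2, 713, 0), (1, 685, 11), (3, 176, 19), (3, 311, 23), (5, 557, 22)],
  [(5, 0, 14), (5, 483, 0), (4, 682, 12), (6, 478, 5), (1, 410, 24), (5, 254, 10), (0, 758, 25)],
  [(4, 103, 3), (4, 374, 5), (6, 649, 16), (6, 495, 17), (1, 239, 7), (3, 183, 3), (6, 212, 22)],
  [(5, 519, 14), (4, 763, 26), (6, 383, 15), (4, 175, 8), (2, 826, 12), (0, 431, 2), (6, 564, 4)],
  [(4, 291, 21), (4, 476, 19), (4, 274, 17), (3, 463, 2), (2, 225, 18), (1, 126, 26), (0, 266, 1)],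
  [(1, 461, 14), (4, 712, 0), (1, 587, 14), (5, 224, 19), (5, 588, 13), (3, 324, 2), (4, 63, 11)],
  [(0, 243, 0), (5, 205, 20), (5, 153, 18), (4, 70, 0), (0, 473, 15), (1, 799, 2), (6, 304, 20)],
  [(6, 691, 15), (3, 471, 29), (2, 402, 8), (2, 784, 25), (5, 428, 9), (5, 332, 17), (4, 805, 4)],
  [(0, 748, 9), (5, 656, 4), (6, 497, 4), (0, 371, 7), (4, 111, 6), (2, 170, 18), (3, 809, 17)],
  [(0, 700, 18), (3, 415, 11), (1, 714, 27), (5, 769, 17), (4, 670, 22), (1, 38, 14), (4, 136, 2)],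
  [(4, 424, 4), (0, 604, 2), (6, 641, 3), (4, 630, 27), (2, 413, 21), (0, 379, 24), (2, 187, 3)],
  [(4, 569, 19), (5, 711, 27), (2, 579, 27), (5, 550, 9), (1, 340, 1), (6, 54, 0), (5, 404, 6)],
  [(5, 165, 10), (2, 39, 7), (6, 558, 4), (5, 27, 25), (3, 673, 29), (6, 245, 5), (4, 148, 14)],
  [(3, 449, 3), (5, 411, 10), (6, 634, 6), (5, 608, 9), (2, 128, 22), (2, 642, 15), (4, 499, 19)],
  [(4, 442, 28), (0, 450, 17), (0, 726, 8), (2, 704, 14), (6, 328, 26), (3, 690, 1), (2, 786, 16)],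
  [(3, 60, 5), (4, 819, 2), (1, 353, 0), (4, 554, 5), (2, 327, 13), (2, 171, 21), (3, 722, 26)],
  [(2, 600, 26), (0, 154, 17), (6, 701, 14), (6, 141, 11), (1, 206, 0), (4, 173, 23), (1, 812, 14)],
  [(6, 747, 22), (6, 219, 25), (4, 822, 18), (0, 146, 1), (5, 484, 4), (1, 654, 0), (6, 356, 7)],
  [(0, 797, 11), (1, 221, 26), (4, 639, 2), (6, 201, 3), (6, 406, 19), (6, 68, 0), (2, 231, 20)],
  [(5, 315, 20), (1, 386, 25), (2, 535, 10), (5, 576, 24), (1, 235, 25), (0, 640, 21), (5, 309, 0)],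
  [(0, 186, 18), (5, 655, 15), (4, 6, 0), (3, 13, 10), (6, 152, 25), (0, 145, 12), (1, 202, 17)],
  [(2, 294, 4), (5, 760, 21), (4, 561, 23), (1, 87, 28), (2, 192, 23), (4, 174, 19), (0, 259, 25)],
  [(1, 374, 28), (4, 495, 21), (5, 103, 19), (5, 212, 9), (4, 239, 13), (3, 652, 28), (5, 183, 19)],
  [(4, 531, 18), (6, 203, 0), (6, 610, 4), (1, 531, 9), (4, 610, 24), (6, 314, 16), (5, 314, 7)],
  [(3, 325, 28), (1, 808, 21), (6, 677, 12), (3, 721, 14), (5, 808, 6), (1, 721, 7), (4, 325, 27)],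
  [(3, 41, 19), (1, 368, 13), (5, 813, 3), (0, 293, 21), (0, 529, 12), (0, 632, 15), (6, 228, 21)],
  [(6, 302, 1), (0, 110, 9), (5, 182, 3), (0, 158, 2), (1, 161, 26), (5, 102, 3), (4, 363, 29)],
  [(5, 438, 24), (3, 745, 6), (6, 11, 23), (1, 279, 4), (4, 544, 5), (2, 457, 6), (4, 75, 19)],
  [(5, 497, 5), (3, 748, 0), (4, 771, 6), (0, 656, 5), (1, 111, 10), (1, 809, 26), (1, 371, 12)],
  [(2, 35, 22), (4, 794, 1), (3, 723, 27), (3, 759, 6), (6, 730, 24), (0, 97, 9), (6, 616, 27)],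
  [(2, 645, 22), (6, 494, 4), (4, 125, 25), (6, 645, 6), (2, 125, 0), (0, 513, 16), (6, 513, 7)],
  [(6, 69, 12), (0, 130, 16), (1, 743, 13), (5, 329, 2), (3, 282, 15), (2, 412, 9), (2, 269, 17)],
  [(4, 134, 3), (6, 464, 17), (3, 705, 28), (6, 163, 29), (3, 298, 10), (0, 191, 2), (4, 505, 27)],
  [(1, 238, 21), (6, 765, 8), (4, 744, 4), (5, 296, 3), (1, 389, 21), (4, 168, 0), (6, 354, 27)],
  [(2, 220, 6), (0, 657, 10), (1, 417, 22), (6, 733, 3), (2, 287, 17), (5, 687, 28), (2, 467, 19)],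
  [(4, 293, 17), (5, 632, 9), (6, 813, 10), (0, 368, 7), (2, 228, 17), (0, 596, 26), (5, 41, 3)],
  [(4, 278, 4), (1, 91, 13), (2, 116, 5), (4, 277, 22), (1, 95, 20), (2, 560, 11), (4, 74, 11)],
  [(6, 828, 2), (5, 375, 28), (3, 618, 29), (3, 684, 7), (1, 100, 12), (1, 66, 26), (6, 725, 29)],
  [(2, 588, 11), (2, 63, 6), (6, 224, 10), (0, 587, 9), (4, 461, 9), (2, 223, 16), (6, 712, 5)],
  [(1, 535, 23), (1, 315, 0), (5, 601, 18), (3, 386, 13), (5, 235, 13), (3, 309, 12), (6, 576, 10)],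
  [(3, 114, 1), (2, 496, 13), (2, 405, 3), (2, 686, 28), (5, 377, 22), (2, 159, 19), (5, 621, 18)],
  [(5, 504, 19), (5, 357, 13), (0, 285, 10), (6, 372, 20), (4, 213, 8), (5, 609, 2), (3, 679, 3)],
  [(3, 718, 16), (5, 207, 15), (5, 429, 14), (0, 140, 3), (2, 215, 11), (1, 749, 8), (1, 166, 4)],
  [(4, 616, 19), (4, 759, 0), (2, 723, 19), (5, 35, 3), (2, 492, 22), (6, 794, 13), (3, 730, 28)],
  [(2, 813, 9), (5, 529, 14), (2, 368, 23), (2, 41, 25), (3, 632, 27), (1, 596, 6), (1, 228, 13)],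
  [(1, 195, 22), (1, 717, 8), (6, 698, 10), (4, 226, 28), (1, 292, 28), (4, 144, 0), (0, 430, 7)],
  [(2, 454, 28), (2, 318, 3), (1, 792, 25), (3, 746, 22), (1, 351, 0), (4, 537, 4), (4, 547, 21)],
  [(3, 373, 5), (2, 781, 13), (2, 468, 20), (6, 626, 22), (0, 441, 11), (6, 32, 0), (1, 570, 19)],
  [(3, 367, 14), (3, 586, 26), (1, 798, 11), (6, 575, 6), (6, 46, 7), (3, 22, 24), (5, 25, 8)],
  [(3, 593, 6), (4, 198, 8), (4, 617, 0), (3, 814, 5), (1, 595, 28), (5, 775, 24), (3, 359, 12)],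
  [(0, 55, 16), (2, 591, 12), (4, 577, 1), (3, 64, 9), (0, 549, 17), (5, 301, 3), (0, 365, 29)],
  [(3, 221, 16), (3, 406, 10), (0, 231, 7), (0, 201, 20), (3, 639, 12), (3, 797, 6), (6, 241, 5)],
  [(1, 573, 23), (5, 322, 0), (1, 200, 20), (1, 284, 6), (6, 536, 8), (6, 380, 7), (4, 178, 3)],
  [(2, 286, 27), (5, 787, 9), (2, 308, 21), (3, 62, 26), (6, 133, 3), (0, 96, 17), (4, 556, 26)],
  [(5, 831, 16), (3, 734, 7), (5, 568, 11), (6, 611, 5), (5, 391, 14), (4, 127, 24), (6, 312, 26)],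
  [(6, 109, 17), (1, 667, 16), (0, 512, 15), (0, 638, 23), (0, 106, 10), (5, 316, 7), (3, 382, 11)],
  [(4, 29, 14), (4, 704, 21), (6, 786, 20), (5, 450, 2), (4, 690, 12), (5, 328, 3), (3, 726, 6)],
  [(4, 24, 2), (2, 44, 25), (1, 458, 22), (3, 772, 0), (1, 498, 1), (0, 470, 29), (1, 378, 8)],
  [(6, 818, 8), (4, 264, 18), (3, 222, 29), (2, 333, 6), (5, 288, 12), (3, 783, 13), (1, 521, 21)],
  [(6, 579, 1), (6, 340, 16), (6, 711, 1), (3, 569, 13), (2, 54, 14), (3, 692, 10), (0, 404, 10)],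
  [(2, 24, 24), (2, 498, 6), (2, 772, 26), (5, 44, 22), (0, 330, 19), (3, 458, 7), (4, 470, 3)],
  [(4, 149, 2), (0, 451, 24), (3, 668, 22), (5, 802, 26), (1, 643, 12), (4, 272, 15), (3, 118, 9)],
  [(2, 432, 17), (2, 162, 25), (6, 620, 28), (3, 827, 1), (0, 137, 7), (6, 352, 9), (2, 699, 23)],
  [(4, 246, 1), (5, 615, 29), (4, 281, 26), (1, 93, 5), (4, 147, 9), (4, 400, 28), (6, 398, 6)],
  [(6, 158, 7), (3, 110, 14), (3, 665, 17), (0, 182, 12), (2, 102, 12), (4, 302, 17), (2, 161, 1)],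
  [(6, 348, 8), (1, 350, 4), (2, 236, 21), (6, 506, 19), (4, 387, 21), (1, 300, 14), (2, 156, 10)],
  [(5, 372, 3), (1, 357, 10), (6, 821, 26), (2, 285, 19), (2, 609, 7), (3, 504, 6), (5, 213, 22)],
  [(4, 726, 7), (4, 328, 6), (1, 450, 13), (3, 442, 2), (6, 690, 11), (1, 29, 28), (4, 786, 19)],
  [(6, 817, 16), (5, 830, 25), (0, 43, 26), (5, 421, 18), (1, 530, 27), (4, 633, 9), (3, 124, 15)],
  [(6, 700, 25), (4, 38, 4), (0, 674, 16), (6, 136, 3), (5, 714, 1), (2, 670, 28), (4, 415, 19)],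
  [(4, 60, 1), (2, 722, 11), (5, 327, 9), (6, 211, 2), (4, 171, 15), (1, 819, 23), (2, 554, 1)],
  [(4, 267, 13), (1, 47, 15), (5, 439, 23), (0, 518, 14), (6, 14, 23), (0, 719, 27), (2, 613, 20)],
  [(6, 516, 11), (2, 71, 2), (1, 244, 2), (0, 401, 21), (1, 34, 10), (4, 732, 19), (0, 420, 11)]]

/-- positions of all double coset representatives -/
def j1DcIdx : List (ℕ × ℕ) := j1DcIdxA ++ (j1DcIdxB ++ (j1DcIdxC ++ j1DcIdxD))

end Cfsg.Agent.Lib.helper4
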