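import Mathlib
import Cfsg.Agent.Lib.helper4.J1Defs
import Cfsg.Agent.Lib.helper4.J1DcData

set_option autoImplicit false

/-! Checks for the automorphisms of the first Janko group: double cosets of the group of powers of
the first generator and the centraliser of the second generator, and a test telling the second
generator from the other elements of order five up to conjugation by powers of the first. -/

namespace Cfsg.Agent.Lib.helper4

/-- for the table `cur` and its products with the first `n` powers of `X` on the left: the product
with `Y` on the left is as the hints say -/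
def j1DcRow (X Y : JMat) (xp R D : List JMat) : ℕ → JMat → List (ℕ × ℕ × ℕ) → Bool
  | 0, _, _ => true
  | _ + 1, _, [] => false
  | n + 1, cur, (a, j, k) :: rest =>
    jforce cur fun c => jforce (jmul Y c) fun L =>
      jforce (jmul (xp.getD a jone) (R.getD j jone)) fun P => jforce (jmul P (D.getD k jone)) fun Q =>
        jbeq L Q && j1DcRow X Y xp R D n (jmul X c) rest

/-- the check of the double coset hints for a part of the representatives -/
def j1DcChk (part : List (ℕ × ℕ)) (hints : List (List (ℕ × ℕ × ℕ))) : Bool :=
  jforces j1H fun H => jforces j1T fun T => jforces (j1DcIdx.map (j1At H T)) fun R =>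
    jforces (j1DcCY.map (j1At H T)) fun D => jforces (jpows j1X 7 jone) fun xp =>
      jforces (part.map (j1At H T)) fun L =>
        j1All (fun g hs => j1DcRow j1X j1Y xp R D 7 g hs) L hints

/-- the thirty tables commute with the second generator; the identity is among the
representatives; two tables conjugate the generators to powers of themselves -/
def j1DcChk0 : Bool :=
  jforces j1H fun H => jforces j1T fun T => jforces (j1DcCY.map (j1At H T)) fun D =>
    (D.all fun d => jbeq (jmul d j1Y) (jmul j1Y d)) &&
      (jbeq (j1At H T (659, 265)) jone &&
        (jbeq (jconj (j1At H T (40, 224)) j1X) (jpowF j1X 3 jone) &&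
          jbeq (jconj (j1At H T (2, 152)) j1Y) (jpowF j1Y 4 jone)))

/-- a word in two tables whose transposes are given, by right multiplications -/
def jwordT (AT BT : JMat) : List ℕ → JMat → JMat
  | [], cur => cur
  | 0 :: rest, cur => jforce (jmulT cur AT) fun M => jwordT AT BT rest M
  | (_ + 1) :: rest, cur => jforce (jmulT cur BT) fun M => jwordT AT BT rest M

/-- the conjugate of `Ye` by `r` is `Y`, or one of two relations of `X` and `Y` fails for it -/
def j1CandOK (XT Y r Ye : JMat) : Bool :=
  jforce (jconj r Ye) fun c => jbeq c Y || (jforce (jtr c) fun cT =>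
    (jforce (jwordT XT cT [0, 1, 0, 1, 1, 1, 1] jone) fun t => !(jbeq (jmul t t) jone)) ||
    (jforce (jwordT XT cT [0, 0, 0, 1, 0, 1, 0, 1] jone) fun s =>
      !(jbeq (jmul (jmul s s) s) jone)))

/-- the check of the candidates for a part of the representatives -/
def j1CandChk (part : List (ℕ × ℕ)) : Bool :=
  jforces j1H fun H => jforces j1T fun T => jforce (jmul j1Y j1Y) fun Y2 =>
    (part.map (j1At H T)).all fun r => jforce r fun r' =>
      j1CandOK j1XT j1Y r' j1Y && j1CandOK j1XT j1Y r' Y2

end Cfsg.Agent.Lib.helper4
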