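import Mathlib
import Cfsg.Agent.Lib.helper3.StemTools2

set_option autoImplicit false

/-! The preimage, in a central extension, of an elementary abelian group of order eight on which an
element of order seven acts by `e₁ ↦ e₂ ↦ e₃ ↦ e₁e₂`, is abelian. -/

namespace Cfsg.Agent.Lib.helper4

open scoped commutatorElement
open Cfsg.Agent.Lib.helper3

theorem comm_comap_trivial_of_cube {Γ G : Type*} [Group Γ] [Group G] (σ : Γ →* G)
    (hsurj : Function.Surjective σ) (hcen : σ.ker ≤ Subgroup.center Γ) (e1 e2 e3 a : G)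
    (h12 : e1 * e2 = e2 * e1) (h13 : e1 * e3 = e3 * e1) (h23 : e2 * e3 = e3 * e2)
    (ha1 : a * e1 * a⁻¹ = e2) (ha2 : a * e2 * a⁻¹ = e3) (ha3 : a * e3 * a⁻¹ = e1 * e2) :
    ∀ w ∈ ⁅(Subgroup.closure {e1, e2, e3}).comap σ, (Subgroup.closure {e1, e2, e3}).comap σ⁆,
      w = 1 := by
  obtain ⟨X1, hX1⟩ := hsurj e1
  obtain ⟨X2, hX2⟩ := hsurj e2
  obtain ⟨X3, hX3⟩ := hsurj e3
  obtain ⟨A, hA⟩ := hsurj a
  have hc : ∀ (u v : Γ), σ u * σ v = σ v * σ u → ⁅u, v⁆ ∈ Subgroup.center Γ := by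
    intro u v huv
    apply hcen
    rw [MonoidHom.mem_ker, map_commutatorElement, commutatorElement_eq_one_iff_mul_comm]
    exact huv
  have hc12 := hc X1 X2 (by rw [hX1, hX2]; exact h12)
  have hc13 := hc X1 X3 (by rw [hX1, hX3]; exact h13)
  have hc23 := hc X2 X3 (by rw [hX2, hX3]; exact h23)
  have hc21 := hc X2 X1 (by rw [hX1, hX2]; exact h12.symm)
  have hc31 := hc X3 X1 (by rw [hX1, hX3]; exact h13.symm)
  have hc32 := hc X3 X2 (by rw [hX2, hX3]; exact h23.symm)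
  have hconj : ∀ {c : Γ}, c ∈ Subgroup.center Γ → A * c * A⁻¹ = c := by
    intro c hc
    rw [Subgroup.mem_center_iff.mp hc A, mul_inv_cancel_right]
  have sA1 : σ (A * X1 * A⁻¹) = σ X2 := by
    rw [map_mul, map_mul, map_inv, hA, hX1, hX2, ha1]
  have sA2 : σ (A * X2 * A⁻¹) = σ X3 := by
    rw [map_mul, map_mul, map_inv, hA, hX2, hX3, ha2]
  have sA3 : σ (A * X3 * A⁻¹) = σ (X1 * X2) := by
    rw [map_mul, map_mul, map_inv, hA, hX3, ha3, map_mul, hX1, hX2]
  -- c12 = c23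
  have E1 : ⁅X1, X2⁆ = ⁅X2, X3⁆ := by
    rw [← hconj hc12, conj_comm_eq]
    exact comm_eq_of_map_eq σ hcen sA1 sA2
  -- c13 = c21
  have E2 : ⁅X1, X3⁆ = ⁅X2, X1⁆ := by
    rw [← hconj hc13, conj_comm_eq, comm_eq_of_map_eq σ hcen sA1 sA3,
      comm_mul_right_of_commute (by simp)]
    simp
  -- c23 = c31 * c32
  have E3 : ⁅X2, X3⁆ = ⁅X3, X1⁆ * ⁅X3, X2⁆ := by
    rw [← hconj hc23, conj_comm_eq, comm_eq_of_map_eq σ hcen sA2 sA3,
      comm_mul_right_of_commute (Subgroup.mem_center_iff.mp hc32 X1)]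
  have hinv : ∀ u v : Γ, ⁅u, v⁆⁻¹ = ⁅v, u⁆ := fun u v => commutatorElement_inv u v
  have h23' : ⁅X2, X3⁆ = 1 := by
    have e31 : ⁅X3, X1⁆ = ⁅X2, X3⁆ := by
      rw [← hinv X1 X3, E2, hinv X2 X1, E1]
    rw [e31, ← hinv X2 X3] at E3
    rw [mul_inv_cancel] at E3
    exact E3
  have h12' : ⁅X1, X2⁆ = 1 := by rw [E1, h23']
  have h13' : ⁅X1, X3⁆ = 1 := by rw [E2, ← hinv X1 X2, h12', inv_one]
  have k12 : X1 * X2 = X2 * X1 := commutatorElement_eq_one_iff_mul_comm.mp h12'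
  have k13 : X1 * X3 = X3 * X1 := commutatorElement_eq_one_iff_mul_comm.mp h13'
  have k23 : X2 * X3 = X3 * X2 := commutatorElement_eq_one_iff_mul_comm.mp h23'
  have hcommS : ∀ g ∈ ({X1, X2, X3} ∪ (σ.ker : Set Γ) : Set Γ),
      ∀ h ∈ ({X1, X2, X3} ∪ (σ.ker : Set Γ) : Set Γ), g * h = h * g := by
    intro g hg h hh
    rcases hg with hg | hg
    · rcases hh with hh | hh
      · simp only [Set.mem_insert_iff, Set.mem_singleton_iff] at hg hh
        rcases hg with rfl | rfl | rfl <;> rcases hh with rfl | rfl | rfl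
        · rfl
        · exact k12
        · exact k13
        · exact k12.symm
        · rfl
        · exact k23
        · exact k13.symm
        · exact k23.symm
        · rfl
      · exact Subgroup.mem_center_iff.mp (hcen hh) g
    · exact (Subgroup.mem_center_iff.mp (hcen hg) h).symm
  have hmc := Subgroup.isMulCommutative_closure hcommS
  have hle : (Subgroup.closure {e1, e2, e3}).comap σ ≤
      Subgroup.closure ({X1, X2, X3} ∪ (σ.ker : Set Γ)) := by
    intro g hg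
    rw [Subgroup.mem_comap] at hg
    have h1 : σ g ∈ (Subgroup.closure {X1, X2, X3}).map σ := by
      rw [MonoidHom.map_closure, Set.image_insert_eq, Set.image_pair, hX1, hX2, hX3]
      exact hg
    obtain ⟨w, hw, hwg⟩ := h1
    have h2 : g = w * (w⁻¹ * g) := by group
    rw [h2]
    apply Subgroup.mul_mem
    · exact Subgroup.closure_mono Set.subset_union_left hw
    · apply Subgroup.subset_closure
      right
      show w⁻¹ * g ∈ σ.ker
      rw [MonoidHom.mem_ker, map_mul, map_inv, hwg, inv_mul_cancel]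
  have hbot : ⁅(Subgroup.closure {e1, e2, e3}).comap σ,
      (Subgroup.closure {e1, e2, e3}).comap σ⁆ = ⊥ := by
    rw [eq_bot_iff, Subgroup.commutator_le]
    intro g₁ h₁ g₂ h₂
    rw [Subgroup.mem_bot, commutatorElement_eq_one_iff_mul_comm]
    have := hmc.is_comm.comm ⟨g₁, hle h₁⟩ ⟨g₂, hle h₂⟩
    exact congrArg Subtype.val this
  intro w hw
  rw [hbot, Subgroup.mem_bot] at hw
  exact hw

end Cfsg.Agent.Lib.helper4
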