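import Mathlib
import Cfsg.Agent.Lib.helper4.J1Main
import Cfsg.Agent.Lib.helper4.J1ChkM
import Cfsg.Agent.Lib.helper4.StemCube

set_option autoImplicit false

/-! Every finite stem extension of the first Janko group is trivial. -/

namespace Cfsg.Agent.Lib.helper4

attribute [local irreducible] j1H j1T j1a j1b j1c j1u j1t

open Cfsg.Agent.Lib.helper3

theorem jgood_jconj {g s : JMat} (hg : JGood g) (hs : JGood s) :
    JGood (jconj g s) ∧ jel (jconj g s) = jel g * jel s * (jel g)⁻¹ := by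
  unfold jconj
  rw [jforce_eq, jforce_eq]
  exact ⟨jgood_jmulT (jgood_jmul hg hs) hg, by
    rw [jel_jmulT (jgood_jmul hg hs) hg, jel_jmul hg hs]⟩

theorem j1CubeChk_spec (a e1 e2 e3 : JMat)
    (h : (jbeq (jconj a e3) (jmul e1 e2) && (jbeq (jmul e1 e2) (jmul e2 e1) &&
        (jbeq (jmul e1 e3) (jmul e3 e1) && (jbeq (jmul e2 e3) (jmul e3 e2) &&
          (jforces (j1CubeList e1 e2 e3) fun L =>
            (L.all fun x => L.all fun y => jelem (jmul x y) L) && jnodup L))))) = true) :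
    jconj a e3 = jmul e1 e2 ∧ jmul e1 e2 = jmul e2 e1 ∧ jmul e1 e3 = jmul e3 e1 ∧
      jmul e2 e3 = jmul e3 e2 ∧
      (∀ x ∈ j1CubeList e1 e2 e3, ∀ y ∈ j1CubeList e1 e2 e3, jmul x y ∈ j1CubeList e1 e2 e3) ∧
      (j1CubeList e1 e2 e3).Nodup := by
  rw [jforces_eq] at h
  simp only [Bool.and_eq_true, jbeq_iff, List.all_eq_true, jelem_iff, jnodup_iff] at h
  exact ⟨h.1, h.2.1, h.2.2.1, h.2.2.2.1, h.2.2.2.2.1, h.2.2.2.2.2⟩

theorem j1_cube : ∃ e1 e2 e3 a : J1G, e1 * e2 = e2 * e1 ∧ e1 * e3 = e3 * e1 ∧ e2 * e3 = e3 * e2 ∧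
    a * e1 * a⁻¹ = e2 ∧ a * e2 * a⁻¹ = e3 ∧ a * e3 * a⁻¹ = e1 * e2 ∧
    8 ∣ Nat.card (Subgroup.closure ({e1, e2, e3} : Set J1G)) := by
  have h := j1CubeChk_ok
  unfold j1CubeChk at h
  rw [jforces_eq, jforces_eq, jforce_eq, jforce_eq, jforce_eq, jforce_eq] at h
  obtain ⟨h1, h2, h3, h4, hm, hnd⟩ := j1CubeChk_spec _ _ _ _ h
  have ge1 := jgood_j1t
  have ga := jgood_j1At (0, 45)
  obtain ⟨ge2, ee2⟩ := jgood_jconj ga ge1
  obtain ⟨ge3, ee3⟩ := jgood_jconj ga ge2
  obtain ⟨-, ee4⟩ := jgood_jconj ga ge3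
  set e1 := j1t with he1
  set a := j1At j1H j1T (0, 45) with ha
  set e2 := jconj a e1 with he2
  set e3 := jconj a e2 with he3
  have hgL : ∀ x ∈ j1CubeList e1 e2 e3, JGood x := by
    intro x hx
    simp only [j1CubeList, List.mem_cons, List.not_mem_nil, or_false] at hx
    rcases hx with rfl | rfl | rfl | rfl | rfl | rfl | rfl | rfl
    · exact jgood_jone
    · exact ge1
    · exact ge2
    · exact jgood_jmul ge1 ge2
    · exact ge3
    · exact jgood_jmul ge1 ge3
    · exact jgood_jmul ge2 ge3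
    · exact jgood_jmul (jgood_jmul ge1 ge2) ge3
  have h1L : jone ∈ j1CubeList e1 e2 e3 := List.mem_cons_self
  have hcard := jListSubgroup_card (j1CubeList e1 e2 e3) h1L hgL hm hnd
  have hlen : (j1CubeList e1 e2 e3).length = 8 := rfl
  rw [hlen] at hcard
  refine ⟨jel e1, jel e2, jel e3, jel a, ?_, ?_, ?_, ee2.symm, ee3.symm, ?_, ?_⟩
  · rw [← jel_jmul ge1 ge2, h2, jel_jmul ge2 ge1]
  · rw [← jel_jmul ge1 ge3, h3, jel_jmul ge3 ge1]
  · rw [← jel_jmul ge2 ge3, h4, jel_jmul ge3 ge2]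
  · rw [← ee4, h1, jel_jmul ge1 ge2]
  · rw [← hcard]
    apply Subgroup.card_dvd_of_le
    intro g hg
    rw [mem_jListSubgroup] at hg
    obtain ⟨l, hl, rfl⟩ := hg
    have m1 : jel e1 ∈ Subgroup.closure ({jel e1, jel e2, jel e3} : Set J1G) :=
      Subgroup.subset_closure (by simp)
    have m2 : jel e2 ∈ Subgroup.closure ({jel e1, jel e2, jel e3} : Set J1G) :=
      Subgroup.subset_closure (by simp)
    have m3 : jel e3 ∈ Subgroup.closure ({jel e1, jel e2, jel e3} : Set J1G) :=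
      Subgroup.subset_closure (by simp)
    simp only [j1CubeList, List.mem_cons, List.not_mem_nil, or_false] at hl
    rcases hl with rfl | rfl | rfl | rfl | rfl | rfl | rfl | rfl
    · rw [jel_jone]; exact Subgroup.one_mem _
    · exact m1
    · exact m2
    · rw [jel_jmul ge1 ge2]; exact Subgroup.mul_mem _ m1 m2
    · exact m3
    · rw [jel_jmul ge1 ge3]; exact Subgroup.mul_mem _ m1 m3
    · rw [jel_jmul ge2 ge3]; exact Subgroup.mul_mem _ m2 m3
    · rw [jel_jmul (jgood_jmul ge1 ge2) ge3, jel_jmul ge1 ge2]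
      exact Subgroup.mul_mem _ (Subgroup.mul_mem _ m1 m2) m3

theorem j1_prime_sq_not_dvd (r : ℕ) (hr : r.Prime) (hr2 : r ≠ 2) : ¬ r ^ 2 ∣ 175560 := by
  intro h2
  have h1 : r ∣ 2 ^ 3 * 3 * 5 * 7 * 11 * 19 := by
    have : (2 ^ 3 * 3 * 5 * 7 * 11 * 19 : ℕ) = 175560 := by norm_num
    rw [this]
    exact dvd_trans (dvd_pow_self r two_ne_zero) h2
  have key : ∀ q : ℕ, q.Prime → r ∣ q → r = q := fun q hq h =>
    (Nat.prime_dvd_prime_iff_eq hr hq).1 h
  rcases (Nat.Prime.dvd_mul hr).1 h1 with h | h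
  · rcases (Nat.Prime.dvd_mul hr).1 h with h | h
    · rcases (Nat.Prime.dvd_mul hr).1 h with h | h
      · rcases (Nat.Prime.dvd_mul hr).1 h with h | h
        · rcases (Nat.Prime.dvd_mul hr).1 h with h | h
          · exact hr2 (key 2 (by norm_num) (hr.dvd_of_dvd_pow h))
          · rw [key 3 (by norm_num) h] at h2; norm_num at h2
        · rw [key 5 (by norm_num) h] at h2; norm_num at h2
      · rw [key 7 (by norm_num) h] at h2; norm_num at h2
    · rw [key 11 (by norm_num) h] at h2; norm_num at h2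
  · rw [key 19 (by norm_num) h] at h2; norm_num at h2

/-- every finite stem extension of `J₁` is trivial -/
theorem j1_stem_ker_trivial {Γ : Type*} [Group Γ] [Finite Γ] (σ : Γ →* J1G)
    (hsurj : Function.Surjective σ) (hcen : σ.ker ≤ Subgroup.center Γ)
    (hder : σ.ker ≤ commutator Γ) : ∀ z ∈ σ.ker, z = 1 := by
  have hcard := j1_card_eq
  apply stem_ker_trivial_of_primes σ
  intro r hr z hz hzr
  have hrP : r.Prime := hr.out
  by_cases hr2 : r = 2
  · subst hr2
    obtain ⟨e1, e2, e3, a, h12, h13, h23, ha1, ha2, ha3, h8⟩ := j1_cube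
    have hind : ¬ 2 ∣ (Subgroup.closure ({e1, e2, e3} : Set J1G)).index := by
      intro h2
      have h1 := Subgroup.card_mul_index (Subgroup.closure ({e1, e2, e3} : Set J1G))
      rw [hcard] at h1
      have : 8 * 2 ∣ 175560 := by
        rw [← h1]
        exact mul_dvd_mul h8 h2
      norm_num at this
    refine stem_no_prime_of_subgroup σ hsurj hcen hder _ hind ?_ hz hzr
    intro w hw _
    exact comm_comap_trivial_of_cube σ hsurj hcen e1 e2 e3 a h12 h13 h23 ha1 ha2 ha3 w hw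
  · obtain ⟨R⟩ : Nonempty (Sylow r J1G) := inferInstance
    have hcyc : IsCyclic (R : Subgroup J1G) := by
      obtain ⟨k, hk⟩ := IsPGroup.iff_card.mp R.2
      have hdvd : r ^ k ∣ 175560 := by
        rw [← hk, ← hcard]
        exact Subgroup.card_subgroup_dvd_card _
      have hk1 : k ≤ 1 := by
        by_contra hlt
        push_neg at hlt
        exact j1_prime_sq_not_dvd r hrP hr2 (dvd_trans (pow_dvd_pow r hlt) hdvd)
      interval_cases k
      · rw [pow_zero] at hk
        haveI : Subsingleton (R : Subgroup J1G) := (Nat.card_eq_one_iff_unique.mp hk).1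
        exact isCyclic_of_subsingleton
      · rw [pow_one] at hk
        exact isCyclic_of_prime_card hk
    haveI := hcyc
    have hind : ¬ r ∣ (R : Subgroup J1G).index := Sylow.not_dvd_index R
    refine stem_no_prime_of_subgroup σ hsurj hcen hder (R : Subgroup J1G) hind ?_ hz hzr
    intro w hw _
    exact comm_comap_trivial_of_cyclic σ hcen (R : Subgroup J1G) w hw

end Cfsg.Agent.Lib.helper4
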