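import Mathlib
import Cfsg.Agent.Lib.helper4.J1Main
import Cfsg.Agent.Lib.helper4.J1Mult
import Cfsg.Agent.Lib.helper4.J1DcDefs
import Cfsg.Agent.Lib.helper4.AutRigid

set_option autoImplicit false

/-! All automorphisms of the first Janko group are inner: consequences of the kernel checks. -/

namespace Cfsg.Agent.Lib.helper4

attribute [local irreducible] j1H j1T j1a j1b j1c j1u j1t

/-- the results of the kernel checks for the automorphisms -/
structure J1Hyp3 : Prop where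
  dA : j1DcChk j1DcIdxA j1DcHintA = true
  dB : j1DcChk j1DcIdxB j1DcHintB = true
  dC : j1DcChk j1DcIdxC j1DcHintC = true
  dD : j1DcChk j1DcIdxD j1DcHintD = true
  d0 : j1DcChk0 = true
  cA : j1CandChk j1DcIdxA = true
  cB : j1CandChk j1DcIdxB = true
  cC : j1CandChk j1DcIdxC = true
  cD : j1CandChk j1DcIdxD = true
  ht : jOrdChk j1t 2 = true

/-- the double coset representatives -/
def j1DcR : List JMat := j1DcIdx.map (j1At j1H j1T)

/-- the centraliser of the second generator -/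
def j1DcD : List JMat := j1DcCY.map (j1At j1H j1T)

theorem jgood_getD_of (L : List JMat) (hL : ∀ M ∈ L, JGood M) (i : ℕ) :
    JGood (L.getD i jone) := by
  rcases jgetD_mem_or L i with h | h
  · exact hL _ h
  · rw [h]; exact jgood_jone

theorem jgood_map_j1At (idx : List (ℕ × ℕ)) : ∀ M ∈ idx.map (j1At j1H j1T), JGood M := by
  intro M hM
  rw [List.mem_map] at hM
  obtain ⟨kp, -, rfl⟩ := hM
  exact jgood_j1At kp

theorem j1DcRow_spec (X Y : JMat) (xp R D : List JMat) (hX : JGood X) (hY : JGood Y)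
    (hxp : ∀ M ∈ xp, JGood M) (hR : ∀ M ∈ R, JGood M) (hD : ∀ M ∈ D, JGood M)
    (n : ℕ) (cur : JMat) (hs : List (ℕ × ℕ × ℕ)) (hc : JGood cur)
    (h : j1DcRow X Y xp R D n cur hs = true) :
    ∀ a < n, ∃ a' j k, jel Y * (jel X ^ a * jel cur) =
      jel (xp.getD a' jone) * jel (R.getD j jone) * jel (D.getD k jone) := by
  induction n generalizing cur hs with
  | zero => intro a ha; omega
  | succ n ih =>
    cases hs with
    | nil => simp [j1DcRow] at h
    | cons t rest =>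
      obtain ⟨a', j, k⟩ := t
      simp only [j1DcRow, jforce_eq, Bool.and_eq_true, jbeq_iff] at h
      intro a ha
      cases a with
      | zero =>
        refine ⟨a', j, k, ?_⟩
        have g1 := jgood_getD_of _ hxp a'
        have g2 := jgood_getD_of _ hR j
        have g3 := jgood_getD_of _ hD k
        rw [pow_zero, one_mul, ← jel_jmul hY hc, h.1, jel_jmul (jgood_jmul g1 g2) g3,
          jel_jmul g1 g2]
      | succ b =>
        obtain ⟨a'', j', k', e⟩ := ih (jmul X cur) rest (jgood_jmul hX hc) h.2 b (by omega)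
        refine ⟨a'', j', k', ?_⟩
        rw [← e, jel_jmul hX hc, pow_succ, mul_assoc]

theorem j1gX_pow_seven (H2 : J1Hyp2) : j1gX ^ 7 = 1 := by
  have := jel_order j1X 7 (by norm_num) jgood_j1X H2.h7
  rw [jel_j1X] at this
  have h := pow_orderOf_eq_one j1gX
  rwa [this] at h

theorem j1gY_pow_five (H2 : J1Hyp2) : j1gY ^ 5 = 1 := by
  have := jel_order j1Y 5 (by norm_num) jgood_j1Y H2.h5
  rw [jel_j1Y] at this
  have h := pow_orderOf_eq_one j1gY
  rwa [this] at h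

theorem j1DcChk0_spec (H3 : J1Hyp3) :
    (∀ d ∈ j1DcD, jel d * j1gY = j1gY * jel d) ∧ jone ∈ j1DcR ∧
      jel (j1At j1H j1T (40, 224)) * j1gX * (jel (j1At j1H j1T (40, 224)))⁻¹ = j1gX ^ 3 ∧
      jel (j1At j1H j1T (2, 152)) * j1gY * (jel (j1At j1H j1T (2, 152)))⁻¹ = j1gY ^ 4 := by
  have h := H3.d0
  unfold j1DcChk0 at h
  rw [jforces_eq, jforces_eq, jforces_eq] at h
  simp only [Bool.and_eq_true, List.all_eq_true, jbeq_iff] at h
  obtain ⟨h1, h2, h3, h4⟩ := h
  refine ⟨?_, ?_, ?_, ?_⟩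
  · intro d hd
    have gd := jgood_map_j1At j1DcCY d hd
    rw [← jel_j1Y, ← jel_jmul gd jgood_j1Y, ← jel_jmul jgood_j1Y gd]
    exact congrArg jel (h1 d hd)
  · rw [← h2]
    unfold j1DcR
    apply List.mem_map_of_mem
    unfold j1DcIdx
    apply List.mem_append_left
    unfold j1DcIdxA
    exact List.mem_cons_self
  · have hc := jgood_jconj (jgood_j1At (40, 224)) jgood_j1X
    have hp := jgood_jpowF j1X jgood_j1X 3 jone jgood_jone
    rw [← jel_j1X, ← hc.2, h3, hp.2, jel_jone, one_mul]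
  · have hc := jgood_jconj (jgood_j1At (2, 152)) jgood_j1Y
    have hp := jgood_jpowF j1Y jgood_j1Y 4 jone jgood_jone
    rw [← jel_j1Y, ← hc.2, h4, hp.2, jel_jone, one_mul]

theorem j1Dc_part (H3 : J1Hyp3) (part : List (ℕ × ℕ)) (hints : List (List (ℕ × ℕ × ℕ)))
    (h : j1DcChk part hints = true) :
    ∀ r ∈ part.map (j1At j1H j1T), ∀ a < 7, ∃ (k : ℕ) (r' : JMat) (d : J1G),
      r' ∈ j1DcR ∧ d * j1gY = j1gY * d ∧ j1gY * (j1gX ^ a * jel r) = j1gX ^ k * jel r' * d := by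
  unfold j1DcChk at h
  rw [jforces_eq, jforces_eq, jforces_eq, jforces_eq, jforces_eq, jforces_eq] at h
  obtain ⟨hD, h1R, -, -⟩ := j1DcChk0_spec H3
  have hxp : ∀ M ∈ jpows j1X 7 jone, JGood M :=
    fun M hM => (jgood_jpows j1X jgood_j1X 7 jone jgood_jone M hM).1
  intro r hr a ha
  obtain ⟨hs, hhs⟩ := j1All_spec _ _ _ h r hr
  obtain ⟨a', j, k, e⟩ := j1DcRow_spec j1X j1Y (jpows j1X 7 jone) (j1DcIdx.map (j1At j1H j1T))
    (j1DcCY.map (j1At j1H j1T)) jgood_j1X jgood_j1Y hxp (jgood_map_j1At _) (jgood_map_j1At _)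
    7 r hs (jgood_map_j1At _ r hr) hhs a ha
  rw [jel_j1X, jel_j1Y] at e
  have hk : ∃ k' : ℕ, jel ((jpows j1X 7 jone).getD a' jone) = j1gX ^ k' := by
    rcases jgetD_mem_or (jpows j1X 7 jone) a' with h' | h'
    · obtain ⟨-, k', hk'⟩ := jgood_jpows j1X jgood_j1X 7 jone jgood_jone _ h'
      exact ⟨k', by rw [hk', jel_jone, one_mul, jel_j1X]⟩
    · exact ⟨0, by rw [h', jel_jone, pow_zero]⟩
  obtain ⟨k', hk'⟩ := hk
  have hr' : (j1DcIdx.map (j1At j1H j1T)).getD j jone ∈ j1DcR := by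
    rcases jgetD_mem_or (j1DcIdx.map (j1At j1H j1T)) j with h' | h'
    · exact h'
    · rw [h']; exact h1R
  have hd' : jel ((j1DcCY.map (j1At j1H j1T)).getD k jone) * j1gY =
      j1gY * jel ((j1DcCY.map (j1At j1H j1T)).getD k jone) := by
    rcases jgetD_mem_or (j1DcCY.map (j1At j1H j1T)) k with h' | h'
    · exact hD _ h'
    · rw [h', jel_jone, one_mul, mul_one]
  exact ⟨k', _, _, hr', hd', by rw [e, hk']⟩

theorem j1Dc_all (H3 : J1Hyp3) : ∀ r ∈ j1DcR, ∀ a < 7, ∃ (k : ℕ) (r' : JMat) (d : J1G),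
    r' ∈ j1DcR ∧ d * j1gY = j1gY * d ∧ j1gY * (j1gX ^ a * jel r) = j1gX ^ k * jel r' * d := by
  intro r hr
  unfold j1DcR j1DcIdx at hr
  rw [List.map_append, List.map_append, List.map_append, List.mem_append, List.mem_append,
    List.mem_append] at hr
  rcases hr with hr | hr | hr | hr
  · exact j1Dc_part H3 _ _ H3.dA r hr
  · exact j1Dc_part H3 _ _ H3.dB r hr
  · exact j1Dc_part H3 _ _ H3.dC r hr
  · exact j1Dc_part H3 _ _ H3.dD r hr

/-- the products of a power of the first generator, a representative and an element commuting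
with the second generator -/
def J1DcSet : Set J1G :=
  {g | ∃ (k : ℕ) (r : JMat) (d : J1G), r ∈ j1DcR ∧ d * j1gY = j1gY * d ∧
    g = j1gX ^ k * jel r * d}

theorem j1Dc_mul_X : ∀ g ∈ J1DcSet, j1gX * g ∈ J1DcSet := by
  rintro g ⟨k, r, d, hr, hd, rfl⟩
  exact ⟨k + 1, r, d, hr, hd, by rw [pow_succ', mul_assoc, mul_assoc, mul_assoc]⟩

theorem j1Dc_mul_Y (H2 : J1Hyp2) (H3 : J1Hyp3) : ∀ g ∈ J1DcSet, j1gY * g ∈ J1DcSet := by
  rintro g ⟨k, r, d, hr, hd, rfl⟩
  rw [pow_eq_pow_mod k (j1gX_pow_seven H2)]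
  obtain ⟨k', r', d', hr', hd', e⟩ := j1Dc_all H3 r hr (k % 7) (Nat.mod_lt _ (by norm_num))
  refine ⟨k', r', d' * d, hr', ?_, ?_⟩
  · rw [mul_assoc, hd, ← mul_assoc, hd', mul_assoc]
  · rw [← mul_assoc, ← mul_assoc, mul_assoc j1gY, e, mul_assoc]

theorem j1Dc_pow_mul (z : J1G) (hz : ∀ g ∈ J1DcSet, z * g ∈ J1DcSet) (n : ℕ) :
    ∀ g ∈ J1DcSet, z ^ n * g ∈ J1DcSet := by
  induction n with
  | zero => intro g hg; simpa using hg
  | succ n ih =>
    intro g hg
    rw [pow_succ', mul_assoc]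
    exact hz _ (ih g hg)

/-- the elements stabilising the set under left multiplication -/
def j1DcStab : Subgroup J1G where
  carrier := {z | ∀ g ∈ J1DcSet, z * g ∈ J1DcSet ∧ z⁻¹ * g ∈ J1DcSet}
  mul_mem' := by
    intro a b ha hb g hg
    refine ⟨?_, ?_⟩
    · rw [mul_assoc]; exact (ha _ (hb g hg).1).1
    · rw [mul_inv_rev, mul_assoc]; exact (hb _ (ha g hg).2).2
  one_mem' := by
    intro g hg
    simpa using hg
  inv_mem' := by
    intro a ha g hg
    rw [inv_inv]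
    exact ⟨(ha g hg).2, (ha g hg).1⟩

theorem j1Dc_mem (H2 : J1Hyp2) (H3 : J1Hyp3) (g : J1G) : g ∈ J1DcSet := by
  have hX : j1gX ∈ j1DcStab := by
    intro g hg
    refine ⟨j1Dc_mul_X g hg, ?_⟩
    have : j1gX⁻¹ = j1gX ^ 6 := by
      apply inv_eq_of_mul_eq_one_right
      rw [← pow_succ']
      exact j1gX_pow_seven H2
    rw [this]
    exact j1Dc_pow_mul _ j1Dc_mul_X 6 g hg
  have hY : j1gY ∈ j1DcStab := by
    intro g hg
    refine ⟨j1Dc_mul_Y H2 H3 g hg, ?_⟩
    have : j1gY⁻¹ = j1gY ^ 4 := by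
      apply inv_eq_of_mul_eq_one_right
      rw [← pow_succ']
      exact j1gY_pow_five H2
    rw [this]
    exact j1Dc_pow_mul _ (j1Dc_mul_Y H2 H3) 4 g hg
  have htop := j1_top_of_mem j1DcStab hX hY
  have hg : g ∈ j1DcStab := by rw [htop]; exact Subgroup.mem_top g
  have h1 : (1 : J1G) ∈ J1DcSet :=
    ⟨0, jone, 1, (j1DcChk0_spec H3).2.1, by rw [one_mul, mul_one], by
      rw [pow_zero, jel_jone, one_mul, one_mul]⟩
  have := (hg 1 h1).1
  rwa [mul_one] at this

theorem jgood_jwordT {A B : JMat} (hA : JGood A) (hB : JGood B) (w : List ℕ) (cur : JMat)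
    (hc : JGood cur) : JGood (jwordT (jtr A) (jtr B) w cur) ∧
      jel (jwordT (jtr A) (jtr B) w cur) = rigidWord (jel A) (jel B) w (jel cur) := by
  induction w generalizing cur with
  | nil => exact ⟨hc, rfl⟩
  | cons g rest ih =>
    cases g with
    | zero =>
      simp only [jwordT, jforce_eq, rigidWord]
      obtain ⟨h1, h2⟩ := ih (jmulT cur (jtr A)) (jgood_jmulT hc (jgood_jtr hA))
      exact ⟨h1, by rw [h2, jel_jmulT hc (jgood_jtr hA), jel_jtr hA, inv_inv]⟩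
    | succ n =>
      simp only [jwordT, jforce_eq, rigidWord]
      obtain ⟨h1, h2⟩ := ih (jmulT cur (jtr B)) (jgood_jmulT hc (jgood_jtr hB))
      exact ⟨h1, by rw [h2, jel_jmulT hc (jgood_jtr hB), jel_jtr hB, inv_inv]⟩

theorem jel_jwordF (w : List ℕ) (cur : JMat) (hc : JGood cur) :
    jel (jwordF w cur) = rigidWord j1gX j1gY w (jel cur) := by
  induction w generalizing cur with
  | nil => rfl
  | cons g rest ih =>
    cases g with
    | zero =>
      simp only [jwordF, jforce_eq, rigidWord]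
      rw [ih _ (jgood_jmulT hc (jgood_j1GenT 0)), jel_jmulT hc (jgood_j1GenT 0)]
      show rigidWord j1gX j1gY rest (jel cur * (jel j1XT)⁻¹) = _
      rw [jel_j1XT, inv_inv]
    | succ n =>
      simp only [jwordF, jforce_eq, rigidWord]
      rw [ih _ (jgood_jmulT hc (jgood_j1GenT (n + 1))), jel_jmulT hc (jgood_j1GenT (n + 1))]
      show rigidWord j1gX j1gY rest (jel cur * (jel j1YT)⁻¹) = _
      rw [jel_j1YT, inv_inv]

theorem j1CandOK_spec (r Ye : JMat) (hr : JGood r) (hYe : JGood Ye)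
    (h : j1CandOK j1XT j1Y r Ye = true)
    (ht : (rigidWord j1gX (jel r * jel Ye * (jel r)⁻¹) [0, 1, 0, 1, 1, 1, 1] 1) ^ 2 = 1)
    (hc : (rigidWord j1gX (jel r * jel Ye * (jel r)⁻¹) [0, 0, 0, 1, 0, 1, 0, 1] 1) ^ 3 = 1) :
    jel r * jel Ye * (jel r)⁻¹ = j1gY := by
  unfold j1CandOK at h
  obtain ⟨gc, ec⟩ := jgood_jconj hr hYe
  rw [jforce_eq, Bool.or_eq_true, jbeq_iff] at h
  rcases h with h | h
  · rw [← ec, h, jel_j1Y]
  · exfalso
    rw [jforce_eq, j1XT_eq, Bool.or_eq_true, jforce_eq, jforce_eq] at h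
    rw [← ec] at ht hc
    rcases h with h | h
    · obtain ⟨g1, e1⟩ := jgood_jwordT jgood_j1X gc [0, 1, 0, 1, 1, 1, 1] jone jgood_jone
      rw [jel_j1X, jel_jone] at e1
      rw [Bool.not_eq_true', ← Bool.not_eq_true, jbeq_iff] at h
      apply h
      apply jel_inj (jgood_jmul g1 g1) jgood_jone
      rw [jel_jmul g1 g1, e1, jel_jone, ← pow_two, ht]
    · obtain ⟨g1, e1⟩ := jgood_jwordT jgood_j1X gc [0, 0, 0, 1, 0, 1, 0, 1] jone jgood_jone
      rw [jel_j1X, jel_jone] at e1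
      rw [Bool.not_eq_true', ← Bool.not_eq_true, jbeq_iff] at h
      apply h
      apply jel_inj (jgood_jmul (jgood_jmul g1 g1) g1) jgood_jone
      rw [jel_jmul (jgood_jmul g1 g1) g1, jel_jmul g1 g1, e1, jel_jone, ← pow_two, ← pow_succ, hc]

theorem j1Cand_part (part : List (ℕ × ℕ)) (h : j1CandChk part = true) :
    ∀ r ∈ part.map (j1At j1H j1T), ∀ e : ℕ, e = 1 ∨ e = 2 →
      (rigidWord j1gX (jel r * j1gY ^ e * (jel r)⁻¹) [0, 1, 0, 1, 1, 1, 1] 1) ^ 2 = 1 →
      (rigidWord j1gX (jel r * j1gY ^ e * (jel r)⁻¹) [0, 0, 0, 1, 0, 1, 0, 1] 1) ^ 3 = 1 →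
      jel r * j1gY ^ e * (jel r)⁻¹ = j1gY := by
  unfold j1CandChk at h
  rw [jforces_eq, jforces_eq, jforce_eq, List.all_eq_true] at h
  intro r hr e he ht hc
  have h1 := h r hr
  rw [jforce_eq, Bool.and_eq_true] at h1
  have gr := jgood_map_j1At part r hr
  rcases he with rfl | rfl
  · rw [pow_one, ← jel_j1Y] at ht hc ⊢
    have := j1CandOK_spec r j1Y gr jgood_j1Y h1.1 ht hc
    rw [this, jel_j1Y]
  · have e2 : j1gY ^ 2 = jel (jmul j1Y j1Y) := by
      rw [jel_jmul jgood_j1Y jgood_j1Y, jel_j1Y, pow_two]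
    rw [e2] at ht hc ⊢
    exact j1CandOK_spec r (jmul j1Y j1Y) gr (jgood_jmul jgood_j1Y jgood_j1Y) h1.2 ht hc

end Cfsg.Agent.Lib.helper4
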