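import Mathlib
import Cfsg.Agent.Lib.helper4.J1DcDefs

set_option autoImplicit false

/-! Kernel checks for the automorphisms of the first Janko group: candidates for the image of the
second generator, parts A and B, and the small facts. -/

namespace Cfsg.Agent.Lib.helper4

set_option maxRecDepth 10000000 in
theorem j1CandChk_A : j1CandChk j1DcIdxA = true := by decide +kernel

set_option maxRecDepth 10000000 in
theorem j1CandChk_B : j1CandChk j1DcIdxB = true := by decide +kernel

set_option maxRecDepth 10000000 in
theorem j1DcChk0_ok : j1DcChk0 = true := by decide +kernel

end Cfsg.Agent.Lib.helper4
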