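import Mathlib
import Cfsg.Agent.Lib.helper4.J1Dc

set_option autoImplicit false

/-! All automorphisms of the first Janko group are inner. -/

namespace Cfsg.Agent.Lib.helper4

attribute [local irreducible] j1H j1T j1a j1b j1c j1u j1t

theorem j1Cand_all (H3 : J1Hyp3) : ∀ r ∈ j1DcR, ∀ e : ℕ, e = 1 ∨ e = 2 →
    (rigidWord j1gX (jel r * j1gY ^ e * (jel r)⁻¹) [0, 1, 0, 1, 1, 1, 1] 1) ^ 2 = 1 →
    (rigidWord j1gX (jel r * j1gY ^ e * (jel r)⁻¹) [0, 0, 0, 1, 0, 1, 0, 1] 1) ^ 3 = 1 →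
    jel r * j1gY ^ e * (jel r)⁻¹ = j1gY := by
  intro r hr
  unfold j1DcR j1DcIdx at hr
  rw [List.map_append, List.map_append, List.map_append, List.mem_append, List.mem_append,
    List.mem_append] at hr
  rcases hr with hr | hr | hr | hr
  · exact j1Cand_part _ H3.cA r hr
  · exact j1Cand_part _ H3.cB r hr
  · exact j1Cand_part _ H3.cC r hr
  · exact j1Cand_part _ H3.cD r hr

theorem j1_not_sq_dvd (p : ℕ) (hp : p = 5 ∨ p = 7) : ¬ p ^ 2 ∣ Nat.card J1G := by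
  rw [j1_card_eq]
  rcases hp with rfl | rfl <;> norm_num

/-- conjugation by `h` of a word -/
theorem rigidWord_conj {G : Type*} [Group G] (h a b : G) (w : List ℕ) :
    rigidWord (h * a * h⁻¹) (h * b * h⁻¹) w 1 = h * rigidWord a b w 1 * h⁻¹ := by
  have := map_rigidWord (MulAut.conj h).toMonoidHom a b w 1
  simp only [MulEquiv.coe_toMonoidHom, MulAut.conj_apply, mul_one, mul_inv_cancel] at this
  exact this.symm

/-- powers of `y` up to conjugacy, when some element inverts `y` of order five -/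
theorem j1_pow_five_cases {G : Type*} [Group G] (y m : G) (hy : y ^ 5 = 1)
    (hm : m * y * m⁻¹ = y ^ 4) (k : ℕ) (hk : ¬ 5 ∣ k) :
    ∃ g : G, ∃ e : ℕ, (e = 1 ∨ e = 2) ∧ y ^ k = g * y ^ e * g⁻¹ := by
  rw [pow_eq_pow_mod k hy]
  have h5 : k % 5 < 5 := Nat.mod_lt _ (by norm_num)
  have h0 : k % 5 ≠ 0 := fun h => hk (Nat.dvd_of_mod_eq_zero h)
  have hc : k % 5 = 1 ∨ k % 5 = 2 ∨ k % 5 = 3 ∨ k % 5 = 4 := by omega
  rcases hc with h | h | h | h
  · exact ⟨1, 1, Or.inl rfl, by rw [h]; group⟩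
  · exact ⟨1, 2, Or.inr rfl, by rw [h]; group⟩
  · refine ⟨m, 2, Or.inr rfl, ?_⟩
    rw [h, ← conj_pow, hm, ← pow_mul, pow_eq_pow_mod (4 * 2) hy]
  · exact ⟨m, 1, Or.inl rfl, by rw [h, pow_one, hm]⟩

/-- powers of `x` up to conjugacy, when some element cubes `x` of order seven -/
theorem j1_pow_seven_cases {G : Type*} [Group G] (x n : G) (hx : x ^ 7 = 1)
    (hn : n * x * n⁻¹ = x ^ 3) (k : ℕ) (hk : ¬ 7 ∣ k) :
    ∃ g : G, x ^ k = g * x * g⁻¹ := by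
  rw [pow_eq_pow_mod k hx]
  have h7 : k % 7 < 7 := Nat.mod_lt _ (by norm_num)
  have h0 : k % 7 ≠ 0 := fun h => hk (Nat.dvd_of_mod_eq_zero h)
  have key : ∀ j : ℕ, x ^ (3 ^ j % 7) = n ^ j * x * (n ^ j)⁻¹ := by
    intro j
    rw [conj_pow_of_conj_eq_pow x n 3 hn j, ← pow_eq_pow_mod _ hx]
  have hc : k % 7 = 1 ∨ k % 7 = 2 ∨ k % 7 = 3 ∨ k % 7 = 4 ∨ k % 7 = 5 ∨ k % 7 = 6 := by omega
  rcases hc with h | h | h | h | h | h
  · exact ⟨n ^ 0, by rw [h]; exact key 0⟩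
  · exact ⟨n ^ 2, by rw [h]; exact key 2⟩
  · exact ⟨n ^ 1, by rw [h]; exact key 1⟩
  · exact ⟨n ^ 4, by rw [h]; exact key 4⟩
  · exact ⟨n ^ 5, by rw [h]; exact key 5⟩
  · exact ⟨n ^ 3, by rw [h]; exact key 3⟩

theorem j1_rigid (H2 : J1Hyp2) (H3 : J1Hyp3) (z : J1G) (hz1 : z ≠ 1) (hz5 : z ^ 5 = 1)
    (ht : (rigidWord j1gX z [0, 1, 0, 1, 1, 1, 1] 1) ^ 2 = 1)
    (hc : (rigidWord j1gX z [0, 0, 0, 1, 0, 1, 0, 1] 1) ^ 3 = 1) :
    ∃ k : ℕ, z = j1gX ^ k * j1gY * (j1gX ^ k)⁻¹ := by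
  have : Fact (Nat.Prime 5) := ⟨by norm_num⟩
  have hoz : orderOf z = 5 := orderOf_eq_prime hz5 hz1
  have hoy : orderOf j1gY = 5 := by
    have := jel_order j1Y 5 (by norm_num) jgood_j1Y H2.h5
    rwa [jel_j1Y] at this
  obtain ⟨g, k, hgk⟩ := exists_conj_pow_of_orderOf_prime 5 (j1_not_sq_dvd 5 (Or.inl rfl))
    j1gY z hoy hoz
  have hk : ¬ 5 ∣ k := by
    rintro ⟨q, rfl⟩
    apply hz1
    rw [hgk, pow_mul, j1gY_pow_five H2, one_pow, mul_one, mul_inv_cancel]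
  obtain ⟨-, -, -, hm⟩ := j1DcChk0_spec H3
  obtain ⟨g', e, he, hge⟩ := j1_pow_five_cases j1gY _ (j1gY_pow_five H2) hm k hk
  obtain ⟨k', r, d, hr, hd, hgg⟩ := j1Dc_mem H2 H3 (g * g')
  have hde : d * j1gY ^ e * d⁻¹ = j1gY ^ e := by
    have : Commute d j1gY := hd
    have h2 : Commute d (j1gY ^ e) := this.pow_right e
    rw [h2.eq, mul_inv_cancel_right]
  have hz : z = j1gX ^ k' * (jel r * j1gY ^ e * (jel r)⁻¹) * (j1gX ^ k')⁻¹ := by
    calc z = (g * g') * j1gY ^ e * (g * g')⁻¹ := by rw [hgk, hge]; group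
      _ = j1gX ^ k' * (jel r * (d * j1gY ^ e * d⁻¹) * (jel r)⁻¹) * (j1gX ^ k')⁻¹ := by
          rw [hgg]; group
      _ = _ := by rw [hde]
  have hxx : j1gX ^ k' * j1gX * (j1gX ^ k')⁻¹ = j1gX := by
    rw [← pow_succ, pow_succ', mul_inv_cancel_right]
  have hw : ∀ w : List ℕ, rigidWord j1gX z w 1 =
      j1gX ^ k' * rigidWord j1gX (jel r * j1gY ^ e * (jel r)⁻¹) w 1 * (j1gX ^ k')⁻¹ := by
    intro w
    rw [← rigidWord_conj, hxx, ← hz]
  have hpow : ∀ (u : J1G) (n : ℕ), (j1gX ^ k' * u * (j1gX ^ k')⁻¹) ^ n = 1 → u ^ n = 1 := by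
    intro u n h
    rw [conj_pow] at h
    have : u ^ n = (j1gX ^ k')⁻¹ * (j1gX ^ k' * u ^ n * (j1gX ^ k')⁻¹) * j1gX ^ k' := by group
    rw [this, h]
    group
  rw [hw] at ht hc
  have := j1Cand_all H3 r hr e he (hpow _ _ ht) (hpow _ _ hc)
  exact ⟨k', by rw [hz, this]⟩

theorem j1_out_card (H2 : J1Hyp2) (H3 : J1Hyp3) : Nat.card (Cfsg.Out J1G) = 1 := by
  apply card_out_eq_one_of_rigid j1gX j1gY (fun N => j1_top_of_mem N)
  · intro φ
    have : Fact (Nat.Prime 7) := ⟨by norm_num⟩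
    have hox : orderOf j1gX = 7 := by
      have := jel_order j1X 7 (by norm_num) jgood_j1X H2.h7
      rwa [jel_j1X] at this
    have hoz : orderOf (φ j1gX) = 7 := by rw [MulEquiv.orderOf_eq, hox]
    obtain ⟨g, k, hgk⟩ := exists_conj_pow_of_orderOf_prime 7 (j1_not_sq_dvd 7 (Or.inr rfl))
      j1gX (φ j1gX) hox hoz
    have hk : ¬ 7 ∣ k := by
      rintro ⟨q, rfl⟩
      have h1 : φ j1gX = 1 := by
        rw [hgk, pow_mul, j1gX_pow_seven H2, one_pow, mul_one, mul_inv_cancel]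
      have h2 : orderOf (φ j1gX) = 1 := by rw [h1, orderOf_one]
      omega
    obtain ⟨-, -, hn, -⟩ := j1DcChk0_spec H3
    obtain ⟨g', hg'⟩ := j1_pow_seven_cases j1gX _ (j1gX_pow_seven H2) hn k hk
    exact ⟨g * g', by rw [hgk, hg']; group⟩
  · intro φ hφ
    have e1 : ∀ w : List ℕ, rigidWord j1gX (φ j1gY) w 1 = φ (rigidWord j1gX j1gY w 1) := by
      intro w
      have := map_rigidWord φ.toMonoidHom j1gX j1gY w 1
      simp only [MulEquiv.coe_toMonoidHom, map_one] at this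
      rw [this, hφ]
    have et : rigidWord j1gX j1gY [0, 1, 0, 1, 1, 1, 1] 1 = jel j1t := by
      unfold j1t
      rw [jel_jwordF _ _ jgood_jone, jel_jone]
    have ec : rigidWord j1gX j1gY [0, 0, 0, 1, 0, 1, 0, 1] 1 = jel j1c := by
      unfold j1c
      rw [jel_jwordF _ _ jgood_jone, jel_jone]
    have ot : jel j1t ^ 2 = 1 := by
      have := jel_order j1t 2 (by norm_num) jgood_j1t H3.ht
      rw [← this, pow_orderOf_eq_one]
    have oc : jel j1c ^ 3 = 1 := by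
      have := jel_order j1c 3 (by norm_num) jgood_j1c H2.h3
      rw [← this, pow_orderOf_eq_one]
    have hz1 : φ j1gY ≠ 1 := by
      intro h
      have h2 : j1gY = 1 := φ.injective (by rw [h, map_one])
      have h3 := jel_order j1Y 5 (by norm_num) jgood_j1Y H2.h5
      rw [jel_j1Y, h2, orderOf_one] at h3
      omega
    have hz5 : φ j1gY ^ 5 = 1 := by rw [← map_pow, j1gY_pow_five H2, map_one]
    obtain ⟨k, hk⟩ := j1_rigid H2 H3 (φ j1gY) hz1 hz5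
      (by rw [e1, et, ← map_pow, ot, map_one]) (by rw [e1, ec, ← map_pow, oc, map_one])
    exact ⟨j1gX ^ k, by rw [← pow_succ, pow_succ', mul_inv_cancel_right], hk⟩

end Cfsg.Agent.Lib.helper4
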