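import Mathlib
import Cfsg.Agent.Lib.helper4.J1Out
import Cfsg.Agent.Lib.helper4.J1ChkT
import Cfsg.Agent.Lib.helper4.J1DcChkA
import Cfsg.Agent.Lib.helper4.J1DcChkB
import Cfsg.Agent.Lib.helper4.J1DcChkC
import Cfsg.Agent.Lib.helper4.J1DcChkD
import Cfsg.Agent.Lib.helper4.J1DcChkE
import Cfsg.Agent.Lib.helper4.J1DcChkF

set_option autoImplicit false

/-! The outer automorphism group of the first Janko group is trivial. -/

namespace Cfsg.Agent.Lib.helper4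

theorem j1Hyp3 : J1Hyp3 :=
  ⟨j1DcChk_A, j1DcChk_B, j1DcChk_C, j1DcChk_D, j1DcChk0_ok, j1CandChk_A, j1CandChk_B,
    j1CandChk_C, j1CandChk_D, jOrdChk_t⟩

theorem j1_out_card_eq : Nat.card (Cfsg.Out ↥Cfsg.Spor.J1) = 1 := j1_out_card j1Hyp2 j1Hyp3

end Cfsg.Agent.Lib.helper4
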