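import Mathlib
import Cfsg.Agent.Lib.helper4.J2OChk
import Cfsg.Agent.Lib.helper4.J2FData

set_option autoImplicit false

/-! The fusion system of the Hall–Janko group on 315 points: the tests run by the kernel. -/

namespace Cfsg.Agent.Lib.helper4

/-- the codes of the six generators of the stabiliser of the point -/
def jfG6 : List ℕ := jfS ++ [jfW]

/-- the word in the six generators at a position of the list of the stabiliser -/
def jfHr (j : ℕ) : List ℕ := (jfHW.getD (Nat.div j 40) []).getD (Nat.mod j 40) []

/-- the word of codes at a position of the list of the stabiliser -/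
def jfHw (j : ℕ) : List ℕ := (jfHr j).map fun l => jfG6.getD l 0

/-- the images of the four points -/
def jfHs (j : ℕ) : ℕ := jqSig (jfHw j)

/-- the letters are among the six -/
def jfLt (j : ℕ) : Bool := (jfHr j).all fun l => Nat.blt l 6

/-- the images of the four points increase along the list -/
def jfInc (j : ℕ) : Bool := Nat.blt (jfHs j) (jfHs (Nat.succ j))

/-- an element of the list centralising the four involutions is trivial or the central involution -/
def jfCq (j : ℕ) : Bool :=
  !(jfQ.all fun q => Nat.beq (jqSig (jfHw j ++ [q])) (jqSig (q :: jfHw j))) ||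
    (Nat.beq (jfHs j) (jqSig []) || Nat.beq (jfHs j) (jqSig (jqWd (jqSw jfZi))))

/-- an element of the subgroup of order 128 centralising its generators is trivial or the central
involution -/
def jfCz (j : ℕ) : Bool :=
  !(jfS.all fun s => Nat.beq (jqSig (jqWd (jqSw j) ++ [s])) (jqSig (s :: jqWd (jqSw j)))) ||
    (Nat.beq j 0 || Nat.beq j jfZi)

/-- only one point is fixed by all the codes -/
def jfFx (cs : List ℕ) (p : ℕ) : Bool := Nat.beq p 11 || cs.any fun s => !(Nat.beq (jqLook s p) p)

/-- the positions of the elements found by fusion -/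
def jfFound : List ℕ := jfZi :: jfSteps.map fun s => s.2.2

/-- the word in the generators of a word in the elements found -/
def jfFw (xw : List ℕ) : List ℕ := xw.flatMap fun i => jqSw (jfFound.getD i 0)

/-- a step of fusion is correct -/
def jfStepOk (t : ℕ) : Bool :=
  match jfSteps.getD t ([], [], 0) with
  | (xw, c, j) => (xw.all fun i => Nat.ble i t) &&
      Nat.beq (jqSig (jqWd (c ++ jfFw xw))) (jqSig (jqWd (jqSw j ++ c)))

set_option maxRecDepth 100000 in
theorem jfChkCodes : (∀ k, k < 5 → jqEqW [jfS.getD k 0] (jqWd (jqSgw.getD k [])) = true) ∧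
    jqEqW [jfW] (jqWd jfWw) = true ∧
    (∀ i, i < 4 → jqEqW [jfQ.getD i 0] (jqWd (jqSw (jfQi.getD i 0))) = true) := by
  decide +kernel

set_option maxRecDepth 100000 in
theorem jfChkFix : (∀ k, k < 6 → jqLook (jfG6.getD k 0) 11 = 11) ∧
    (∀ i, i < 4 → jqLook (jfQ.getD i 0) 11 = 11) ∧
    jqAll (jfFx jfS) 315 0 = true ∧ jqAll (jfFx jfQ) 315 0 = true := by
  decide +kernel

set_option maxRecDepth 100000 in
theorem jfChkOrd : ∀ k, k < 6 → jqEqW (jqRepW [jfG6.getD k 0] 4) [] = true := by
  decide +kernel

set_option maxRecDepth 100000 in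
theorem jfChkNQ : ∀ k, k < 6 → ∀ i, i < 4 →
    jqEqW [jfG6.getD k 0, jfQ.getD i 0]
      ((((jfNQ.getD k []).getD i []).map fun l => jfQ.getD (Nat.mod l 4) 0) ++ [jfG6.getD k 0]) =
        true := by
  decide +kernel

set_option maxRecDepth 100000 in
theorem jfChkZ : jqAll jfCz 128 0 = true := by decide +kernel

set_option maxRecDepth 100000 in
theorem jfChkSteps : jfSteps.length = 6 ∧ (∀ t, t < 6 → jfStepOk t = true) ∧
    (∀ t, t < 6 → jfFound.getD (t + 1) 0 = (jfSteps.getD t ([], [], 0)).2.2) ∧
    jfFound.getD 0 0 = jfZi ∧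
    (∀ k, k < 5 → jqSig (jqWd (jqSgw.getD k [])) = jqSig (jqWd (jfFw (jfFin.getD k [])))) := by
  decide +kernel

end Cfsg.Agent.Lib.helper4
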