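import Mathlib
import Cfsg.Agent.Lib.helper4.J2FDefs

set_option autoImplicit false

/-! Kernel checks on the list of the stabiliser of the point. -/

namespace Cfsg.Agent.Lib.helper4

set_option maxRecDepth 10000000 in
theorem jfChkLt : jqAll jfLt 1920 0 = true := by decide +kernel

set_option maxRecDepth 10000000 in
theorem jfChkInc : jqAll jfInc 1919 0 = true := by decide +kernel

set_option maxRecDepth 10000000 in
theorem jfChkCq : jqAll jfCq 1920 0 = true := by decide +kernel

end Cfsg.Agent.Lib.helper4
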