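import Mathlib
import Cfsg.Agent.Lib.helper4.J2OChk

set_option autoImplicit false

/-! Kernel check: the involutions with the pattern of orders are the fourteen listed ones. -/

namespace Cfsg.Agent.Lib.helper4

set_option maxRecDepth 10000000 in
theorem jqChkP : jqAll jqPat 2835 0 = true := by decide +kernel

end Cfsg.Agent.Lib.helper4
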