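import Mathlib
import Cfsg.Agent.Lib.helper4.J2OComp
import Cfsg.Agent.Lib.helper4.J2OChkP
import Cfsg.Agent.Lib.helper4.J2OChkM
import Cfsg.Agent.Lib.helper4.J2OAbs

set_option autoImplicit false

namespace Cfsg.Agent.Lib.helper4

open Cfsg.Agent.Lib.Lead.J2 Cfsg.Agent.Lib.helper23

theorem jqRep_append (w v : List ℕ) (gs hs : List (Equiv.Perm (Fin 315)))
    (h1 : List.Forall₂ JqRep w gs) (h2 : List.Forall₂ JqRep v hs) :
    List.Forall₂ JqRep (w ++ v) (gs ++ hs) := by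
  induction h1 with
  | nil => exact h2
  | cons hT _ ih => exact List.Forall₂.cons hT ih

/-- the powers of a word -/
def jqRepG (gs : List (Equiv.Perm (Fin 315))) : ℕ → List (Equiv.Perm (Fin 315))
  | 0 => []
  | n + 1 => gs ++ jqRepG gs n

theorem jqRepG_prod (gs : List (Equiv.Perm (Fin 315))) (n : ℕ) :
    (jqRepG gs n).prod = gs.prod ^ n := by
  induction n with
  | zero => rfl
  | succ n ih =>
    show (gs ++ jqRepG gs n).prod = _
    rw [List.prod_append, ih, pow_succ']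

theorem jqRepW_rep (w : List ℕ) (gs : List (Equiv.Perm (Fin 315)))
    (h : List.Forall₂ JqRep w gs) (n : ℕ) :
    List.Forall₂ JqRep (jqRepW w n) (jqRepG gs n) := by
  induction n with
  | zero => exact List.Forall₂.nil
  | succ n ih => exact jqRep_append _ _ _ _ h ih

theorem jqPow_eq_one (w : List ℕ) (gs : List (Equiv.Perm (Fin 315)))
    (h : List.Forall₂ JqRep w gs) (n : ℕ) (hchk : jqEqW (jqRepW w n) [] = true) :
    gs.prod ^ n = 1 := by
  rw [← jqRepG_prod]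
  exact jqEqW_prod _ _ _ [] (jqRepW_rep w gs h n) List.Forall₂.nil hchk

theorem jqPow_ne_one (w : List ℕ) (gs : List (Equiv.Perm (Fin 315)))
    (h : List.Forall₂ JqRep w gs) (n : ℕ) (hchk : jqEqW (jqRepW w n) [] = false) :
    gs.prod ^ n ≠ 1 := by
  intro h1
  rw [← jqRepG_prod] at h1
  have := jqEqW_of_prod _ _ _ [] (jqRepW_rep w gs h n) List.Forall₂.nil h1
  rw [hchk] at this
  exact Bool.false_ne_true this

/-- the element of order 7 -/
def jqc : Equiv.Perm (Fin 315) := jqPw [0, 1, 3]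

/-- its inverse -/
def jqci : Equiv.Perm (Fin 315) := jqPw [3, 1, 0]

/-- the involution -/
def jqa : Equiv.Perm (Fin 315) := jqPw jqAw

/-- the element normalising the subgroup of order 7 -/
def jqu : Equiv.Perm (Fin 315) := jqPw jqUw

theorem jqc_rep : JqRep jqC jqc := jqRep_of_eqW _ _ _ (jqPw_rep _) jqChkW.1

theorem jqci_rep : JqRep jqCi jqci := jqRep_of_eqW _ _ _ (jqPw_rep _) jqChkW.2.1

theorem jqa_rep : JqRep jqA jqa := jqRep_of_eqW _ _ _ (jqPw_rep _) jqChkW.2.2.1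

theorem jqu_rep : JqRep jqU jqu := jqRep_of_eqW _ _ _ (jqPw_rep _) jqChkW.2.2.2.1

theorem jqci_eq : jqci = jqc⁻¹ := by
  have : ([0, 1, 3] : List ℕ).reverse = [3, 1, 0] := rfl
  unfold jqci jqc
  rw [← this, jqPw_reverse]

theorem jqc_mem : jqc ∈ P315 := jqPw_mem _
theorem jqa_mem : jqa ∈ P315 := jqPw_mem _
theorem jqu_mem : jqu ∈ P315 := jqPw_mem _

/-- the outer involution -/
def jqZp : Equiv.Perm (Fin 315) where
  toFun i := ⟨jqLook jqZ i.1, jqChkZ.2.2.2.2 i.1 i.2⟩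
  invFun i := ⟨jqLook jqZ i.1, jqChkZ.2.2.2.2 i.1 i.2⟩
  left_inv i := by
    apply Fin.ext
    exact (jqEqW_iff _ _).1 jqChkZ.1 i.1 i.2
  right_inv i := by
    apply Fin.ext
    exact (jqEqW_iff _ _).1 jqChkZ.1 i.1 i.2

theorem jqZp_rep : JqRep jqZ jqZp := fun _ => rfl

theorem jqZp_sq : jqZp * jqZp = 1 := by
  have := jqEqW_prod [jqZ, jqZ] [] [jqZp, jqZp] []
    (List.Forall₂.cons jqZp_rep (List.Forall₂.cons jqZp_rep List.Forall₂.nil)) List.Forall₂.nil
    jqChkZ.1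
  simpa using this

theorem jqZp_inv : jqZp⁻¹ = jqZp := inv_eq_of_mul_eq_one_left jqZp_sq

end Cfsg.Agent.Lib.helper4
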