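import Mathlib
import Cfsg.Agent.Lib.helper4.J2OMain
import Cfsg.Agent.Lib.helper4.J2FChkH

set_option autoImplicit false

/-! The fusion system of the Hall–Janko group on 315 points: the stabiliser of the point, listed. -/

namespace Cfsg.Agent.Lib.helper4

open Cfsg.Agent.Lib.Lead.J2 Cfsg.Agent.Lib.helper23

set_option maxRecDepth 100000 in
/-- the central involution is a word in the four involutions -/
theorem jfChkZq : jqSig (jqWd (jqSw jfZi)) =
    jqSig [jfQ.getD 1 0, jfQ.getD 0 0, jfQ.getD 1 0, jfQ.getD 0 0] := by decide +kernel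

/-- the further involution -/
def jfw : Equiv.Perm (Fin 315) := jqPw jfWw

/-- the six generators of the stabiliser -/
def jfGp (k : ℕ) : Equiv.Perm (Fin 315) := if k < 5 then jqSgen k else jfw

theorem jfGp_mem (k : ℕ) : jfGp k ∈ P315 := by
  unfold jfGp
  split
  · exact jqPw_mem _
  · exact jqPw_mem _

theorem jfGp_rep (k : ℕ) (hk : k < 6) : JqRep (jfG6.getD k 0) (jfGp k) := by
  by_cases h5 : k < 5
  · have e : jfG6.getD k 0 = jfS.getD k 0 := by
      interval_cases k <;> rfl
    rw [e]
    unfold jfGp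
    rw [if_pos h5]
    exact jqRep_of_eqW _ _ _ (jqPw_rep _) (jfChkCodes.1 k h5)
  · have e : k = 5 := by omega
    subst e
    unfold jfGp
    rw [if_neg h5]
    exact jqRep_of_eqW _ _ _ (jqPw_rep _) jfChkCodes.2.1

theorem jfGp_fix (k : ℕ) : jfGp k 11 = 11 := by
  have key : ∀ k, k < 6 → jfGp k 11 = 11 := by
    intro k hk
    apply Fin.ext
    rw [jfGp_rep k hk 11]
    exact jfChkFix.1 k hk
  by_cases hk : k < 6
  · exact key k hk
  · have : jfGp k = jfGp 5 := by
      unfold jfGp
      rw [if_neg (by omega), if_neg (by omega)]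
    rw [this]
    exact key 5 (by norm_num)

/-- the element at a position of the list of the stabiliser -/
def jfH (j : ℕ) : Equiv.Perm (Fin 315) := ((jfHr j).map jfGp).prod

theorem jfGp_prod_mem (w : List ℕ) : (w.map jfGp).prod ∈ P315 := by
  induction w with
  | nil => exact Subgroup.one_mem _
  | cons l w ih =>
    rw [List.map_cons, List.prod_cons]
    exact Subgroup.mul_mem _ (jfGp_mem l) ih

theorem jfGp_prod_fix (w : List ℕ) : (w.map jfGp).prod 11 = 11 := by
  induction w with
  | nil => rfl
  | cons l w ih =>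
    rw [List.map_cons, List.prod_cons, Equiv.Perm.mul_apply, ih, jfGp_fix]

theorem jfH_mem (j : ℕ) : jfH j ∈ P315 := jfGp_prod_mem _

theorem jfH_fix (j : ℕ) : jfH j 11 = 11 := jfGp_prod_fix _

theorem jfGp_prod_rep (w : List ℕ) (hw : ∀ l ∈ w, l < 6) :
    List.Forall₂ JqRep (w.map fun l => jfG6.getD l 0) (w.map jfGp) := by
  induction w with
  | nil => exact List.Forall₂.nil
  | cons l w ih =>
    exact List.Forall₂.cons (jfGp_rep l (hw l List.mem_cons_self))
      (ih fun l' h' => hw l' (List.mem_cons_of_mem _ h'))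

theorem jfH_rep (j : ℕ) (hj : j < 1920) : List.Forall₂ JqRep (jfHw j) ((jfHr j).map jfGp) := by
  have h := (jqAll_iff _ _ _).1 jfChkLt j (Nat.zero_le _) (by omega)
  unfold jfLt at h
  rw [List.all_eq_true] at h
  apply jfGp_prod_rep
  intro l hl
  have := h l hl
  simpa using this

theorem jfHs_lt (i j : ℕ) (hij : i < j) (hj : j < 1920) : jfHs i < jfHs j := by
  induction j with
  | zero => omega
  | succ j ih =>
    have hstep : jfHs j < jfHs (j + 1) := by
      have := (jqAll_iff _ _ _).1 jfChkInc j (Nat.zero_le _) (by omega)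
      unfold jfInc at this
      simpa using this
    rcases Nat.lt_succ_iff_lt_or_eq.mp hij with h | h
    · exact lt_trans (ih h (by omega)) hstep
    · rw [h]; exact hstep

theorem jfH_inj (i j : ℕ) (hi : i < 1920) (hj : j < 1920) (h : jfH i = jfH j) : i = j := by
  have hs : jfHs i = jfHs j := jqSig_of_eq _ _ _ _ (jfH_rep i hi) (jfH_rep j hj) h
  rcases Nat.lt_trichotomy i j with hlt | heq | hgt
  · exact absurd hs (ne_of_lt (jfHs_lt i j hlt hj))
  · exact heq
  · exact absurd hs.symm (ne_of_lt (jfHs_lt j i hgt hi))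

theorem jfStab_card : Nat.card (MulAction.stabilizer P315 (11 : Fin 315)) = 1920 := by
  rw [P315_eq]
  exact j2pstab

/-- every element fixing the point is listed -/
theorem jfH_surj (g : Equiv.Perm (Fin 315)) (hg : g ∈ P315) (h11 : g 11 = 11) :
    ∃ j, j < 1920 ∧ g = jfH j := by
  let φ : Fin 1920 → MulAction.stabilizer P315 (11 : Fin 315) := fun j =>
    ⟨⟨jfH j.1, jfH_mem j.1⟩, by
      rw [MulAction.mem_stabilizer_iff]
      exact jfH_fix j.1⟩
  have hinj : Function.Injective φ := by
    intro i j hij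
    apply Fin.ext
    apply jfH_inj _ _ i.2 j.2
    exact congrArg (fun x : MulAction.stabilizer P315 (11 : Fin 315) =>
      ((x : P315) : Equiv.Perm (Fin 315))) hij
  have hbij : Function.Bijective φ := by
    apply Function.Injective.bijective_of_nat_card_le hinj
    rw [jfStab_card, Nat.card_eq_fintype_card, Fintype.card_fin]
  obtain ⟨j, hj⟩ := hbij.2 ⟨⟨g, hg⟩, by
    rw [MulAction.mem_stabilizer_iff]
    exact h11⟩
  refine ⟨j.1, j.2, ?_⟩
  have := congrArg (fun x : MulAction.stabilizer P315 (11 : Fin 315) =>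
      ((x : P315) : Equiv.Perm (Fin 315))) hj
  exact this.symm

end Cfsg.Agent.Lib.helper4
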