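import Mathlib
import Cfsg.Agent.Lib.helper4.J2FStab

set_option autoImplicit false

/-! The fusion system of the Hall–Janko group on 315 points: the subgroup of order 32. -/

namespace Cfsg.Agent.Lib.helper4

open Cfsg.Agent.Lib.Lead.J2 Cfsg.Agent.Lib.helper23

/-- the four involutions -/
def jfq (i : ℕ) : Equiv.Perm (Fin 315) := jqY (jfQi.getD (i % 4) 0)

/-- the subgroup of order 32 -/
def jfQ0 : Subgroup (Equiv.Perm (Fin 315)) := Subgroup.closure (Set.range jfq)

theorem jfq_mem (i : ℕ) : jfq i ∈ jqS := jqY_mem _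

theorem jfQ0_le : jfQ0 ≤ jqS := by
  unfold jfQ0
  rw [Subgroup.closure_le]
  rintro _ ⟨i, rfl⟩
  exact jfq_mem i

theorem jfq_rep (i : ℕ) : JqRep (jfQ.getD (Nat.mod i 4) 0) (jfq i) := by
  have h4 : i % 4 < 4 := Nat.mod_lt _ (by norm_num)
  exact jqRep_of_eqW _ _ _ (jqPw_rep _) (jfChkCodes.2.2 (i % 4) h4)

theorem jqS_fix (s : Equiv.Perm (Fin 315)) (hs : s ∈ jqS) : s 11 = 11 := by
  unfold jqS at hs
  induction hs using Subgroup.closure_induction with
  | mem x hx =>
    obtain ⟨k, rfl⟩ := hx
    by_cases hk : k < 5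
    · have := jfGp_fix k
      unfold jfGp at this
      rw [if_pos hk] at this
      exact this
    · rw [jqSgen_big k (by omega)]
      rfl
  | one => rfl
  | mul a b _ _ iha ihb => rw [Equiv.Perm.mul_apply, ihb, iha]
  | inv a _ iha =>
    rw [Equiv.Perm.inv_eq_iff_eq]
    exact iha.symm

/-- a point fixed by the generators of the subgroup of order 128 is the point -/
theorem jf_fixS (p : Fin 315) (hp : ∀ k, k < 5 → jqSgen k p = p) : p = 11 := by
  have h := (jqAll_iff _ _ _).1 jfChkFix.2.2.1 p.1 (Nat.zero_le _) (by have := p.2; omega)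
  unfold jfFx at h
  rw [Bool.or_eq_true] at h
  rcases h with h | h
  · apply Fin.ext
    exact Nat.eq_of_beq_eq_true h
  · exfalso
    rw [List.any_eq_true] at h
    obtain ⟨s, hs, hne⟩ := h
    obtain ⟨k, hk, e⟩ := List.getElem_of_mem hs
    have hk5 : k < 5 := hk
    have h1 := hp k hk5
    have h2 : JqRep (jfS.getD k 0) (jqSgen k) := by
      have := jfGp_rep k (by omega)
      unfold jfGp at this
      rw [if_pos hk5] at this
      have e2 : jfG6.getD k 0 = jfS.getD k 0 := by
        interval_cases k <;> rfl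
      rw [e2] at this
      exact this
    have h3 := h2 p
    rw [h1, List.getD_eq_getElem _ _ hk, e] at h3
    rw [← h3] at hne
    simp at hne

/-- a point fixed by the four involutions is the point -/
theorem jf_fixQ (p : Fin 315) (hp : ∀ i, jfq i p = p) : p = 11 := by
  have h := (jqAll_iff _ _ _).1 jfChkFix.2.2.2 p.1 (Nat.zero_le _) (by have := p.2; omega)
  unfold jfFx at h
  rw [Bool.or_eq_true] at h
  rcases h with h | h
  · apply Fin.ext
    exact Nat.eq_of_beq_eq_true h
  · exfalso
    rw [List.any_eq_true] at h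
    obtain ⟨s, hs, hne⟩ := h
    obtain ⟨k, hk, e⟩ := List.getElem_of_mem hs
    have hk4 : k < 4 := hk
    have h1 := hp k
    have h3 := jfq_rep k p
    rw [h1, show Nat.mod k 4 = k from Nat.mod_eq_of_lt hk4, List.getD_eq_getElem _ _ hk, e] at h3
    rw [← h3] at hne
    simp at hne

/-- an element normalising the subgroup of order 128 fixes the point -/
theorem jf_fix_of_norm (g : Equiv.Perm (Fin 315))
    (hn : ∀ s ∈ jqS, g * s * g⁻¹ ∈ jqS) : g 11 = 11 := by
  apply jf_fixS
  intro k hk
  -- conjugation by `g` is a bijection of the subgroup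
  let c : jqS → jqS := fun s => ⟨g * s.1 * g⁻¹, hn s.1 s.2⟩
  have hc : Function.Injective c := by
    intro a b hab
    apply Subtype.ext
    have := congrArg Subtype.val hab
    exact mul_left_cancel (mul_right_cancel this)
  have hs := Finite.surjective_of_injective hc
  obtain ⟨s, hs⟩ := hs ⟨jqSgen k, Subgroup.subset_closure ⟨k, rfl⟩⟩
  have e : jqSgen k = g * s.1 * g⁻¹ := (congrArg Subtype.val hs).symm
  rw [e, Equiv.Perm.mul_apply, Equiv.Perm.mul_apply]
  have : g⁻¹ (g 11) = 11 := by simp
  rw [this, jqS_fix s.1 s.2]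

/-- an element centralising the subgroup of order 32 fixes the point -/
theorem jf_fix_of_cent (g : Equiv.Perm (Fin 315))
    (hc : ∀ x ∈ jfQ0, g * x * g⁻¹ = x) : g 11 = 11 := by
  apply jf_fixQ
  intro i
  have hx : jfq i ∈ jfQ0 := Subgroup.subset_closure ⟨i, rfl⟩
  have e := hc _ hx
  have e2 : jfq i * g = g * jfq i := by
    calc jfq i * g = (g * jfq i * g⁻¹) * g := by rw [e]
      _ = g * jfq i := by group
  have : jfq i (g 11) = (jfq i * g) 11 := rfl
  rw [this, e2, Equiv.Perm.mul_apply, jqS_fix _ (jfq_mem i)]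

end Cfsg.Agent.Lib.helper4
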