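import Mathlib
import Cfsg.Agent.Lib.helper4.J2FQ

set_option autoImplicit false

/-! The fusion system of the Hall–Janko group on 315 points: normaliser and centraliser of the
subgroup of order 32. -/

namespace Cfsg.Agent.Lib.helper4

open Cfsg.Agent.Lib.Lead.J2 Cfsg.Agent.Lib.helper23

/-- an element conjugating a finite subgroup into itself normalises it -/
theorem mem_normalizer_of_conj_mem {Ω : Type*} [Group Ω] (Q : Subgroup Ω) [Finite Q] (h : Ω)
    (hh : ∀ x ∈ Q, h * x * h⁻¹ ∈ Q) : h ∈ Subgroup.normalizer (Q : Set Ω) := by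
  rw [Subgroup.mem_normalizer_iff]
  intro x
  constructor
  · exact hh x
  · intro hx
    let c : Q → Q := fun s => ⟨h * s.1 * h⁻¹, hh s.1 s.2⟩
    have hc : Function.Injective c := by
      intro a b hab
      apply Subtype.ext
      have := congrArg Subtype.val hab
      exact mul_left_cancel (mul_right_cancel this)
    obtain ⟨s, hs⟩ := Finite.surjective_of_injective hc ⟨_, hx⟩
    have e : h * s.1 * h⁻¹ = h * x * h⁻¹ := congrArg Subtype.val hs
    have : s.1 = x := mul_left_cancel (mul_right_cancel e)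
    rw [← this]
    exact s.2

theorem jfq_mod (i : ℕ) : jfq i = jfq (i % 4) := by
  unfold jfq
  rw [Nat.mod_mod]

theorem jfq_prod_rep (w : List ℕ) :
    List.Forall₂ JqRep (w.map fun l => jfQ.getD (Nat.mod l 4) 0) (w.map jfq) := by
  induction w with
  | nil => exact List.Forall₂.nil
  | cons l w ih => exact List.Forall₂.cons (jfq_rep l) ih

theorem jfq_prod_mem (w : List ℕ) : (w.map jfq).prod ∈ jfQ0 := by
  induction w with
  | nil => exact Subgroup.one_mem _
  | cons l w ih =>
    rw [List.map_cons, List.prod_cons]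
    exact Subgroup.mul_mem _ (Subgroup.subset_closure ⟨l, rfl⟩) ih

/-- the six generators conjugate the four involutions into the subgroup of order 32 -/
theorem jfGp_conj_q (k : ℕ) (hk : k < 6) (i : ℕ) : jfGp k * jfq i * (jfGp k)⁻¹ ∈ jfQ0 := by
  have h4 : i % 4 < 4 := Nat.mod_lt _ (by norm_num)
  rw [jfq_mod i]
  have hr : JqRep (jfQ.getD (i % 4) 0) (jfq (i % 4)) := by
    have := jfq_rep (i % 4)
    rw [show Nat.mod (i % 4) 4 = i % 4 from Nat.mod_mod _ _] at this
    exact this
  have := jqEqW_prod _ _ [jfGp k, jfq (i % 4)]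
    ((((jfNQ.getD k []).getD (i % 4) []).map jfq) ++ [jfGp k])
    (List.Forall₂.cons (jfGp_rep k hk) (List.Forall₂.cons hr List.Forall₂.nil))
    (jqRep_append _ _ _ _ (jfq_prod_rep _)
      (List.Forall₂.cons (jfGp_rep k hk) List.Forall₂.nil)) (jfChkNQ k hk (i % 4) h4)
  rw [List.prod_cons, List.prod_cons, List.prod_nil, mul_one, List.prod_append, List.prod_cons,
    List.prod_nil, mul_one] at this
  rw [this, mul_assoc, mul_inv_cancel, mul_one]
  exact jfq_prod_mem _

theorem jfGp_conj_Q (k : ℕ) (x : Equiv.Perm (Fin 315)) (hx : x ∈ jfQ0) :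
    jfGp k * x * (jfGp k)⁻¹ ∈ jfQ0 := by
  have key : ∀ k, k < 6 → ∀ x ∈ jfQ0, jfGp k * x * (jfGp k)⁻¹ ∈ jfQ0 := by
    intro k hk x hx
    unfold jfQ0 at hx
    induction hx using Subgroup.closure_induction with
    | mem y hy =>
      obtain ⟨i, rfl⟩ := hy
      exact jfGp_conj_q k hk i
    | one =>
      rw [mul_one, mul_inv_cancel]
      exact Subgroup.one_mem _
    | mul a b _ _ iha ihb =>
      have : jfGp k * (a * b) * (jfGp k)⁻¹ =
          (jfGp k * a * (jfGp k)⁻¹) * (jfGp k * b * (jfGp k)⁻¹) := by group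
      rw [this]
      exact Subgroup.mul_mem _ iha ihb
    | inv a _ iha =>
      have : jfGp k * a⁻¹ * (jfGp k)⁻¹ = (jfGp k * a * (jfGp k)⁻¹)⁻¹ := by group
      rw [this]
      exact Subgroup.inv_mem _ iha
  by_cases hk : k < 6
  · exact key k hk x hx
  · have : jfGp k = jfGp 5 := by
      unfold jfGp
      rw [if_neg (by omega), if_neg (by omega)]
    rw [this]
    exact key 5 (by norm_num) x hx

theorem jfGp_normalizer (k : ℕ) : jfGp k ∈ Subgroup.normalizer (jfQ0 : Set (Equiv.Perm (Fin 315))) :=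
  mem_normalizer_of_conj_mem jfQ0 (jfGp k) (jfGp_conj_Q k)

theorem jfGp_order (k : ℕ) : ∃ m : ℕ, orderOf (jfGp k) = 2 ^ m := by
  have key : ∀ k, k < 6 → ∃ m : ℕ, orderOf (jfGp k) = 2 ^ m := by
    intro k hk
    have h4 := jqPow_eq_one [jfG6.getD k 0] [jfGp k]
      (List.Forall₂.cons (jfGp_rep k hk) List.Forall₂.nil) 4 (jfChkOrd k hk)
    rw [List.prod_cons, List.prod_nil, mul_one] at h4
    have hd : orderOf (jfGp k) ∣ 2 ^ 2 := orderOf_dvd_of_pow_eq_one h4
    obtain ⟨m, -, hm⟩ := (Nat.dvd_prime_pow Nat.prime_two).1 hd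
    exact ⟨m, hm⟩
  by_cases hk : k < 6
  · exact key k hk
  · have : jfGp k = jfGp 5 := by
      unfold jfGp
      rw [if_neg (by omega), if_neg (by omega)]
    rw [this]
    exact key 5 (by norm_num)

/-- the subgroup of order 128 normalises the subgroup of order 32 -/
theorem jfS_conj_Q (s : Equiv.Perm (Fin 315)) (hs : s ∈ jqS) (x : Equiv.Perm (Fin 315))
    (hx : x ∈ jfQ0) : s * x * s⁻¹ ∈ jfQ0 := by
  have hle : jqS ≤ Subgroup.normalizer (jfQ0 : Set (Equiv.Perm (Fin 315))) := by
    unfold jqS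
    rw [Subgroup.closure_le]
    rintro _ ⟨k, rfl⟩
    by_cases hk : k < 5
    · have := jfGp_normalizer k
      unfold jfGp at this
      rw [if_pos hk] at this
      exact this
    · rw [jqSgen_big k (by omega)]
      exact Subgroup.one_mem _
  have := hle hs
  rw [Subgroup.mem_normalizer_iff] at this
  exact (this x).mp hx

/-- the normaliser of the subgroup of order 128 lies in the group generated by the elements of
order a power of two normalising the subgroup of order 32 -/
theorem jf_hN (g : Equiv.Perm (Fin 315)) (hg : g ∈ P315)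
    (hn : ∀ s ∈ jqS, g * s * g⁻¹ ∈ jqS) :
    g ∈ Subgroup.closure {h : Equiv.Perm (Fin 315) | h ∈ P315 ∧
      h ∈ Subgroup.normalizer (jfQ0 : Set (Equiv.Perm (Fin 315))) ∧
      ∃ k : ℕ, orderOf h = 2 ^ k} := by
  obtain ⟨j, -, rfl⟩ := jfH_surj g hg (jf_fix_of_norm g hn)
  unfold jfH
  apply Subgroup.list_prod_mem
  intro x hx
  rw [List.mem_map] at hx
  obtain ⟨l, -, rfl⟩ := hx
  exact Subgroup.subset_closure ⟨jfGp_mem l, jfGp_normalizer l, jfGp_order l⟩

theorem jfz_eq : jqY jfZi = jfq 1 * jfq 0 * jfq 1 * jfq 0 := by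
  have := jq_eq_of_sig _ _ _ [jfq 1, jfq 0, jfq 1, jfq 0] (jqPw_rep (jqSw jfZi))
    (List.Forall₂.cons (jfq_rep 1) (List.Forall₂.cons (jfq_rep 0) (List.Forall₂.cons (jfq_rep 1)
      (List.Forall₂.cons (jfq_rep 0) List.Forall₂.nil)))) (jqPw_mem _)
    (by
      rw [List.prod_cons, List.prod_cons, List.prod_cons, List.prod_cons, List.prod_nil, mul_one]
      exact Subgroup.mul_mem _ (jqS_le (jfq_mem 1)) (Subgroup.mul_mem _ (jqS_le (jfq_mem 0))
        (Subgroup.mul_mem _ (jqS_le (jfq_mem 1)) (jqS_le (jfq_mem 0))))) jfChkZq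
  rw [List.prod_cons, List.prod_cons, List.prod_cons, List.prod_cons, List.prod_nil, mul_one,
    ← mul_assoc, ← mul_assoc] at this
  exact this

theorem jfz_mem : jqY jfZi ∈ jfQ0 := by
  rw [jfz_eq]
  exact Subgroup.mul_mem _ (Subgroup.mul_mem _ (Subgroup.mul_mem _
    (Subgroup.subset_closure ⟨1, rfl⟩) (Subgroup.subset_closure ⟨0, rfl⟩))
    (Subgroup.subset_closure ⟨1, rfl⟩)) (Subgroup.subset_closure ⟨0, rfl⟩)

/-- the subgroup of order 32 contains its centraliser -/
theorem jf_hQc (g : Equiv.Perm (Fin 315)) (hg : g ∈ P315)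
    (hc : ∀ x ∈ jfQ0, g * x * g⁻¹ = x) : g ∈ jfQ0 := by
  obtain ⟨j, hj, rfl⟩ := jfH_surj g hg (jf_fix_of_cent g hc)
  have h := (jqAll_iff _ _ _).1 jfChkCq j (Nat.zero_le _) (by omega)
  unfold jfCq at h
  have hall : (jfQ.all fun q => Nat.beq (jqSig (jfHw j ++ [q])) (jqSig (q :: jfHw j))) = true := by
    rw [List.all_eq_true]
    intro q hq
    obtain ⟨i, hi, e⟩ := List.getElem_of_mem hq
    have hi4 : i < 4 := hi
    have hr : JqRep q (jfq i) := by
      have := jfq_rep i
      rw [show Nat.mod i 4 = i from Nat.mod_eq_of_lt hi4, List.getD_eq_getElem _ _ hi, e] at this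
      exact this
    have hcomm : jfH j * jfq i = jfq i * jfH j := by
      have e1 := hc (jfq i) (Subgroup.subset_closure ⟨i, rfl⟩)
      calc jfH j * jfq i = (jfH j * jfq i * (jfH j)⁻¹) * jfH j := by group
        _ = jfq i * jfH j := by rw [e1]
    have hs := jqSig_of_eq (jfHw j ++ [q]) (q :: jfHw j) ((jfHr j).map jfGp ++ [jfq i])
      (jfq i :: (jfHr j).map jfGp)
      (jqRep_append _ _ _ _ (jfH_rep j hj) (List.Forall₂.cons hr List.Forall₂.nil))
      (List.Forall₂.cons hr (jfH_rep j hj))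
      (by
        rw [List.prod_append, List.prod_cons, List.prod_cons, List.prod_nil, mul_one]
        exact hcomm)
    rw [hs]
    exact Nat.beq_refl _
  rw [hall] at h
  simp only [Bool.not_true, Bool.false_or, Bool.or_eq_true] at h
  rcases h with h | h
  · have hs : jqSig (jfHw j) = jqSig [] := Nat.eq_of_beq_eq_true h
    have e := jq_eq_of_sig _ _ _ [] (jfH_rep j hj) List.Forall₂.nil (jfH_mem j)
      (Subgroup.one_mem _) hs
    have : jfH j = 1 := e
    rw [this]
    exact Subgroup.one_mem _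
  · have hs : jqSig (jfHw j) = jqSig (jqWd (jqSw jfZi)) := Nat.eq_of_beq_eq_true h
    have e := jq_eq_of_sig _ _ _ _ (jfH_rep j hj) (jqPw_rep (jqSw jfZi)) (jfH_mem j)
      (jqPw_mem _) hs
    have : jfH j = jqY jfZi := e
    rw [this]
    exact jfz_mem

end Cfsg.Agent.Lib.helper4
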