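import Mathlib
import Cfsg.Agent.Lib.Helper1.Nilp
import Cfsg.Agent.Lib.helper4.J2FNorm

set_option autoImplicit false

/-! The fusion system of the Hall–Janko group on 315 points: fusion in the subgroup of order 128. -/

namespace Cfsg.Agent.Lib.helper4

open Cfsg.Agent.Lib.Lead.J2 Cfsg.Agent.Lib.helper23

/-- a nontrivial subgroup of a finite `p`-group normalised by it contains a nontrivial element
commuting with the whole `p`-group -/
theorem exists_central_of_normalised {Ω : Type*} [Group Ω] (p : ℕ) [Fact p.Prime]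
    (P T : Subgroup Ω) [Finite P] (hP : IsPGroup p P) (hT : T ≤ P) (hne : T ≠ ⊥)
    (hnorm : ∀ x ∈ T, ∀ s ∈ P, s * x * s⁻¹ ∈ T) :
    ∃ w ∈ T, w ≠ 1 ∧ ∀ y ∈ P, w * y = y * w := by
  have : Group.IsNilpotent P := hP.isNilpotent
  let N : Subgroup P := T.subgroupOf P
  have : N.Normal := by
    constructor
    intro n hn s
    rw [Subgroup.mem_subgroupOf] at hn ⊢
    simpa using hnorm _ hn _ s.2
  have hN : N ≠ ⊥ := by
    intro h
    apply hne
    rw [eq_bot_iff]
    intro x hx
    have : (⟨x, hT hx⟩ : P) ∈ N := by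
      show (⟨x, hT hx⟩ : P) ∈ T.subgroupOf P
      rw [Subgroup.mem_subgroupOf]; exact hx
    rw [h, Subgroup.mem_bot] at this
    rw [Subgroup.mem_bot]
    exact congrArg Subtype.val this
  have h1 := Cfsg.Agent.Lib.Helper1.normal_inf_center_ne_bot N hN
  obtain ⟨⟨w, hw⟩, hw0⟩ := (Subgroup.ne_bot_iff_exists_ne_one).mp h1
  have hw1 : w ≠ 1 := fun h => hw0 (Subtype.ext h)
  obtain ⟨hwN, hwZ⟩ := Subgroup.mem_inf.mp hw
  have hwT : ((w : P) : Ω) ∈ T := by
    have : (w : P) ∈ T.subgroupOf P := hwN
    rwa [Subgroup.mem_subgroupOf] at this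
  refine ⟨w.1, hwT, fun h => hw1 (Subtype.ext h), ?_⟩
  intro y hy
  rw [Subgroup.mem_center_iff] at hwZ
  have := hwZ ⟨y, hy⟩
  exact (congrArg Subtype.val this).symm

theorem jqS_isPGroup : IsPGroup 2 jqS := by
  have : Fact (Nat.Prime 2) := ⟨Nat.prime_two⟩
  apply IsPGroup.of_card (n := 7)
  rw [jqS_card]
  norm_num

/-- an element of the subgroup of order 128 commuting with it is trivial or the central
involution -/
theorem jf_center (w : Equiv.Perm (Fin 315)) (hw : w ∈ jqS) (hc : ∀ y ∈ jqS, w * y = y * w) :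
    w = 1 ∨ w = jqY jfZi := by
  obtain ⟨j, hj, rfl⟩ := jqS_mem w hw
  have h := (jqAll_iff _ _ _).1 jfChkZ j (Nat.zero_le _) (by omega)
  unfold jfCz at h
  have hall : (jfS.all fun s => Nat.beq (jqSig (jqWd (jqSw j) ++ [s]))
      (jqSig (s :: jqWd (jqSw j)))) = true := by
    rw [List.all_eq_true]
    intro s hs
    obtain ⟨k, hk, e⟩ := List.getElem_of_mem hs
    have hk5 : k < 5 := hk
    have hr : JqRep s (jqSgen k) := by
      have := jfGp_rep k (by omega)
      unfold jfGp at this
      rw [if_pos hk5] at this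
      have e2 : jfG6.getD k 0 = jfS.getD k 0 := by
        interval_cases k <;> rfl
      rw [e2, List.getD_eq_getElem _ _ hk, e] at this
      exact this
    have hcomm := hc (jqSgen k) (Subgroup.subset_closure ⟨k, rfl⟩)
    have hs := jqSig_of_eq (jqWd (jqSw j) ++ [s]) (s :: jqWd (jqSw j))
      ((jqSw j).map jqGen ++ [jqSgen k]) (jqSgen k :: (jqSw j).map jqGen)
      (jqRep_append _ _ _ _ (jqPw_rep _) (List.Forall₂.cons hr List.Forall₂.nil))
      (List.Forall₂.cons hr (jqPw_rep _))
      (by
        rw [List.prod_append, List.prod_cons, List.prod_cons, List.prod_nil, mul_one]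
        exact hcomm)
    rw [hs]
    exact Nat.beq_refl _
  rw [hall] at h
  simp only [Bool.not_true, Bool.false_or, Bool.or_eq_true] at h
  rcases h with h | h
  · left
    rw [Nat.eq_of_beq_eq_true h]
    exact jqY_zero
  · right
    rw [Nat.eq_of_beq_eq_true h]

/-- the elements found by fusion -/
theorem jf_found (T : Subgroup (Equiv.Perm (Fin 315))) (hz : jqY jfZi ∈ T)
    (hfus : ∀ x ∈ T, ∀ g ∈ P315, g * x * g⁻¹ ∈ jqS → g * x * g⁻¹ ∈ T) :
    ∀ t, t ≤ 6 → ∀ i, i ≤ t → jqY (jfFound.getD i 0) ∈ T := by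
  have hfw : ∀ (t : ℕ) (xw : List ℕ), (∀ i ∈ xw, i ≤ t) →
      (∀ i, i ≤ t → jqY (jfFound.getD i 0) ∈ T) → jqPw (jfFw xw) ∈ T := by
    intro t xw
    induction xw with
    | nil =>
      intro _ _
      exact Subgroup.one_mem _
    | cons i xw ih =>
      intro h1 h2
      unfold jfFw
      rw [List.flatMap_cons, jqPw_append]
      exact Subgroup.mul_mem _ (h2 i (h1 i List.mem_cons_self))
        (ih (fun i' h' => h1 i' (List.mem_cons_of_mem _ h')) h2)
  intro t
  induction t with
  | zero =>
    intro _ i hi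
    have : i = 0 := by omega
    rw [this, jfChkSteps.2.2.2.1]
    exact hz
  | succ t ih =>
    intro ht i hi
    rcases Nat.lt_succ_iff_lt_or_eq.mp (Nat.lt_succ_of_le hi) with h | h
    · exact ih (by omega) i (by omega)
    · rw [h]
      have ht6 : t < 6 := by omega
      have hok := jfChkSteps.2.1 t ht6
      have hidx := jfChkSteps.2.2.1 t ht6
      rw [hidx]
      unfold jfStepOk at hok
      generalize jfSteps.getD t ([], [], 0) = st at hok ⊢
      obtain ⟨xw, c, j⟩ := st
      simp only [Bool.and_eq_true, List.all_eq_true] at hok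
      obtain ⟨hle, hsig⟩ := hok
      have hx : jqPw (jfFw xw) ∈ T := by
        apply hfw t xw _ (ih (by omega))
        intro i' hi'
        have := hle i' hi'
        exact Nat.le_of_ble_eq_true this
      have e := jq_eq_of_sig _ _ _ _ (jqPw_rep (c ++ jfFw xw)) (jqPw_rep (jqSw j ++ c))
        (jqPw_mem _) (jqPw_mem _) (Nat.eq_of_beq_eq_true hsig)
      change jqPw (c ++ jfFw xw) = jqPw (jqSw j ++ c) at e
      rw [jqPw_append, jqPw_append] at e
      have e2 : jqPw c * jqPw (jfFw xw) * (jqPw c)⁻¹ = jqY j := by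
        rw [e]
        unfold jqY
        group
      show jqY j ∈ T
      rw [← e2]
      apply hfus _ hx _ (jqPw_mem c)
      rw [e2]
      exact jqY_mem j

/-- a nontrivial subgroup of the subgroup of order 128 closed under fusion is the whole of it -/
theorem jf_hT (T : Subgroup (Equiv.Perm (Fin 315))) (hT : T ≤ jqS) (hne : T ≠ ⊥)
    (hfus : ∀ x ∈ T, ∀ g ∈ P315, g * x * g⁻¹ ∈ jqS → g * x * g⁻¹ ∈ T) : jqS ≤ T := by
  have : Fact (Nat.Prime 2) := ⟨Nat.prime_two⟩
  obtain ⟨w, hwT, hw1, hwc⟩ := exists_central_of_normalised 2 jqS T jqS_isPGroup hT hne (by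
    intro x hx s hs
    exact hfus x hx s (jqS_le hs) (Subgroup.mul_mem _ (Subgroup.mul_mem _ hs (hT hx))
      (Subgroup.inv_mem _ hs)))
  have hz : jqY jfZi ∈ T := by
    rcases jf_center w (hT hwT) hwc with h | h
    · exact absurd h hw1
    · rw [← h]; exact hwT
  have hfound := jf_found T hz hfus 6 le_rfl
  have hfw : ∀ xw : List ℕ, jqPw (jfFw xw) ∈ T := by
    intro xw
    induction xw with
    | nil => exact Subgroup.one_mem _
    | cons i xw ih =>
      unfold jfFw
      rw [List.flatMap_cons, jqPw_append]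
      refine Subgroup.mul_mem _ ?_ ih
      by_cases hi : i ≤ 6
      · exact hfound i hi
      · have : jfFound.getD i 0 = 0 := by
          apply List.getD_eq_default
          have : jfFound.length = 7 := by
            unfold jfFound
            rw [List.length_cons, List.length_map, jfChkSteps.1]
          omega
        rw [this]
        show jqY 0 ∈ T
        rw [jqY_zero]
        exact Subgroup.one_mem _
  unfold jqS
  rw [Subgroup.closure_le]
  rintro _ ⟨k, rfl⟩
  by_cases hk : k < 5
  · have e := jq_eq_of_sig _ _ _ _ (jqPw_rep (jqSgw.getD k []))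
      (jqPw_rep (jfFw (jfFin.getD k []))) (jqPw_mem _) (jqPw_mem _) (jfChkSteps.2.2.2.2 k hk)
    have : jqSgen k = jqPw (jfFw (jfFin.getD k [])) := e
    rw [SetLike.mem_coe, this]
    exact hfw _
  · rw [jqSgen_big k (by omega)]
    exact Subgroup.one_mem _

theorem jqS_ne_bot : jqS ≠ ⊥ := by
  intro h
  have h1 : jqY 1 ∈ jqS := jqY_mem 1
  rw [h, Subgroup.mem_bot] at h1
  have := jqY_inj 1 0 (by norm_num) (by norm_num) (by rw [h1, jqY_zero])
  omega

end Cfsg.Agent.Lib.helper4
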