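import Mathlib
import Cfsg.Agent.Lib.helper4.FusGen3
import Cfsg.Agent.Lib.helper4.J2FFus

set_option autoImplicit false

/-! The fusion system on a Sylow 2-subgroup of a group isomorphic to the Hall–Janko group on 315
points is simple. -/

namespace Cfsg.Agent.Lib.helper4

open Cfsg.Agent.Lib.Lead.J2 Cfsg.Agent.Lib.helper23

theorem jf_fus_simple {G : Type*} [Group G] [Finite G] (e : G ≃* P315) (S : Sylow 2 G) :
    (Cfsg.groupFusionSystem (S : Subgroup G)).IsSimple 2 := by
  have : Fact (Nat.Prime 2) := ⟨Nat.prime_two⟩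
  let f : G →* Equiv.Perm (Fin 315) := P315.subtype.comp e.toMonoidHom
  have hfg : ∀ g : G, f g = ((e g : P315) : Equiv.Perm (Fin 315)) := fun g => rfl
  have hf : Function.Injective f := by
    intro a b hab
    apply e.injective
    apply Subtype.ext
    exact hab
  have hmem : ∀ g : G, f g ∈ P315 := fun g => (e g).2
  have hrange : ∀ x : Equiv.Perm (Fin 315), x ∈ P315 → ∃ g : G, f g = x := by
    intro x hx
    refine ⟨e.symm ⟨x, hx⟩, ?_⟩
    rw [hfg, MulEquiv.apply_symm_apply]
  apply fus_simple_of_cert2_emb f hf 2 7 jqS jfQ0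
  · intro x hx
    obtain ⟨g, hg⟩ := hrange x (jqS_le hx)
    exact ⟨g, hg⟩
  · rw [jqS_card]
    norm_num
  · rw [Nat.card_congr e.toEquiv, P315_card]
    exact jqFact2
  · exact jqS_ne_bot
  · exact jfQ0_le
  · exact jfS_conj_Q
  · intro g hc
    exact jf_hQc (f g) (hmem g) hc
  · intro g hn
    have := jf_hN (f g) (hmem g) hn
    refine Subgroup.closure_mono ?_ this
    rintro h ⟨h1, h2, h3⟩
    obtain ⟨g', hg'⟩ := hrange h h1
    exact ⟨⟨g', hg'⟩, h2, h3⟩
  · intro T hT hne hfus
    apply jf_hT T hT hne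
    intro x hx g hg hgx
    obtain ⟨g', rfl⟩ := hrange g hg
    exact hfus x hx g' hgx

end Cfsg.Agent.Lib.helper4
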