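import Mathlib
import Cfsg.Agent.Lib.helper4.J2OMain

set_option autoImplicit false

namespace Cfsg.Agent.Lib.helper4

open Cfsg.Agent.Lib.Lead.J2 Cfsg.Agent.Lib.helper23

theorem jqGen_lt (k : ℕ) (hk : k < 4) : JqRep (jqG.getD k 0) (jqGen k) := by
  have := jqRep_gen k
  rw [show Nat.mod k 4 = k from Nat.mod_eq_of_lt hk] at this
  exact this

/-- the outer involution normalises the group: generators -/
theorem jqZ_gen (k : ℕ) (hk : k < 4) : jqZp * jqGen k * jqZp = jqPw (jqZw.getD k []) := by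
  have := jqEqW_prod [jqZ, jqG.getD k 0, jqZ] (jqWd (jqZw.getD k [])) [jqZp, jqGen k, jqZp] _
    (List.Forall₂.cons jqZp_rep (List.Forall₂.cons (jqGen_lt k hk)
      (List.Forall₂.cons jqZp_rep List.Forall₂.nil))) (jqPw_rep _) (jqChkZ.2.1 k hk)
  rw [List.prod_cons, List.prod_cons, List.prod_cons, List.prod_nil, mul_one, ← mul_assoc] at this
  exact this

theorem jqZ_norm (g : Equiv.Perm (Fin 315)) (hg : g ∈ P315) : jqZp * g * jqZp ∈ P315 := by
  unfold P315 at hg
  induction hg using Subgroup.closure_induction with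
  | mem s hs =>
    obtain ⟨k, rfl⟩ := hs
    have hk : piG k = jqGen k.1 := by
      unfold jqGen
      congr 1
      apply Fin.ext
      exact (Nat.mod_eq_of_lt k.2).symm
    rw [hk, jqZ_gen k.1 k.2]
    exact jqPw_mem _
  | one =>
    rw [mul_one, jqZp_sq]
    exact Subgroup.one_mem _
  | mul a b _ _ iha ihb =>
    have : jqZp * (a * b) * jqZp = (jqZp * a * jqZp) * (jqZp * b * jqZp) := by
      calc jqZp * (a * b) * jqZp = jqZp * a * 1 * b * jqZp := by group
        _ = (jqZp * a * jqZp) * (jqZp * b * jqZp) := by rw [← jqZp_sq]; group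
    rw [this]
    exact Subgroup.mul_mem _ iha ihb
  | inv a _ iha =>
    have : jqZp * a⁻¹ * jqZp = (jqZp * a * jqZp)⁻¹ := by
      rw [mul_inv_rev, mul_inv_rev, jqZp_inv, mul_assoc]
    rw [this]
    exact Subgroup.inv_mem _ iha

/-- the second involution -/
def jqa2 : Equiv.Perm (Fin 315) := jqZp * jqa * jqZp

theorem jqa2_mem : jqa2 ∈ P315 := jqZ_norm _ jqa_mem

theorem jqa2_rep : JqRep jqA2 jqa2 := by
  have := jqRep_of_eqW jqA2 [jqZ, jqA, jqZ] [jqZp, jqa, jqZp]
    (List.Forall₂.cons jqZp_rep (List.Forall₂.cons jqa_rep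
      (List.Forall₂.cons jqZp_rep List.Forall₂.nil))) jqChkZ.2.2.2.1
  rw [List.prod_cons, List.prod_cons, List.prod_cons, List.prod_nil, mul_one, ← mul_assoc] at this
  exact this

/-- the automorphism induced by the outer involution -/
def jqSigma : MulAut P315 where
  toFun g := ⟨jqZp * g.1 * jqZp, jqZ_norm g.1 g.2⟩
  invFun g := ⟨jqZp * g.1 * jqZp, jqZ_norm g.1 g.2⟩
  left_inv g := by
    apply Subtype.ext
    show jqZp * (jqZp * g.1 * jqZp) * jqZp = g.1
    calc jqZp * (jqZp * g.1 * jqZp) * jqZp = (jqZp * jqZp) * g.1 * (jqZp * jqZp) := by group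
      _ = g.1 := by rw [jqZp_sq, one_mul, mul_one]
  right_inv g := by
    apply Subtype.ext
    show jqZp * (jqZp * g.1 * jqZp) * jqZp = g.1
    calc jqZp * (jqZp * g.1 * jqZp) * jqZp = (jqZp * jqZp) * g.1 * (jqZp * jqZp) := by group
      _ = g.1 := by rw [jqZp_sq, one_mul, mul_one]
  map_mul' g h := by
    apply Subtype.ext
    show jqZp * (g.1 * h.1) * jqZp = (jqZp * g.1 * jqZp) * (jqZp * h.1 * jqZp)
    calc jqZp * (g.1 * h.1) * jqZp = jqZp * g.1 * 1 * h.1 * jqZp := by group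
      _ = (jqZp * g.1 * jqZp) * (jqZp * h.1 * jqZp) := by rw [← jqZp_sq]; group

theorem jqSigma_apply (g : P315) : (jqSigma g : Equiv.Perm (Fin 315)) = jqZp * g.1 * jqZp := rfl

/-- the elements as members of the group -/
def jqCg : P315 := ⟨jqc, jqc_mem⟩
def jqAg : P315 := ⟨jqa, jqa_mem⟩
def jqUg : P315 := ⟨jqu, jqu_mem⟩
def jqA2g : P315 := ⟨jqa2, jqa2_mem⟩

theorem jqc_pow7 : jqc ^ 7 = 1 := by
  have := jqPow_eq_one [jqC] [jqc] (List.Forall₂.cons jqc_rep List.Forall₂.nil) 7 jqChkW.2.2.2.2.2.1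
  rw [List.prod_cons, List.prod_nil, mul_one] at this
  exact this

theorem jqc_ne : jqc ≠ 1 := by
  have := jqPow_ne_one [jqC] [jqc] (List.Forall₂.cons jqc_rep List.Forall₂.nil) 1
    jqChkW.2.2.2.2.2.2.1
  rw [List.prod_cons, List.prod_nil, mul_one, pow_one] at this
  exact this

theorem jqCg_order : orderOf jqCg = 7 := by
  have : Fact (Nat.Prime 7) := ⟨by norm_num⟩
  apply orderOf_eq_prime
  · apply Subtype.ext
    exact jqc_pow7
  · intro h
    exact jqc_ne (congrArg Subtype.val h)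

theorem jqa_sq : jqa * jqa = 1 := by
  have := jqEqW_prod [jqA, jqA] [] [jqa, jqa] []
    (List.Forall₂.cons jqa_rep (List.Forall₂.cons jqa_rep List.Forall₂.nil)) List.Forall₂.nil
    jqChkW.2.2.2.2.2.2.2.1
  simpa using this

theorem jqa_ne : jqa ≠ 1 := by
  have := jqPow_ne_one [jqA] [jqa] (List.Forall₂.cons jqa_rep List.Forall₂.nil) 1
    jqChkW.2.2.2.2.2.2.2.2.1
  rw [List.prod_cons, List.prod_nil, mul_one, pow_one] at this
  exact this

theorem jqAg_order : orderOf jqAg = 2 := by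
  have : Fact (Nat.Prime 2) := ⟨Nat.prime_two⟩
  apply orderOf_eq_prime
  · apply Subtype.ext
    show jqa ^ 2 = 1
    rw [pow_two]
    exact jqa_sq
  · intro h
    exact jqa_ne (congrArg Subtype.val h)

theorem jqu_conj : jqu * jqc * jqu⁻¹ = jqc ^ 3 := by
  have := jqEqW_prod [jqU, jqC] [jqC, jqC, jqC, jqU] [jqu, jqc] [jqc, jqc, jqc, jqu]
    (List.Forall₂.cons jqu_rep (List.Forall₂.cons jqc_rep List.Forall₂.nil))
    (List.Forall₂.cons jqc_rep (List.Forall₂.cons jqc_rep (List.Forall₂.cons jqc_rep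
      (List.Forall₂.cons jqu_rep List.Forall₂.nil)))) jqChkW.2.2.2.2.1
  simp only [List.prod_cons, List.prod_nil, mul_one] at this
  rw [this, pow_succ, pow_two]
  simp only [mul_assoc, mul_inv_cancel, mul_one]

theorem jqP1 : (jqc * jqa) ^ 3 = 1 := by
  have := jqPow_eq_one [jqC, jqA] [jqc, jqa]
    (List.Forall₂.cons jqc_rep (List.Forall₂.cons jqa_rep List.Forall₂.nil)) 3
    jqChkW.2.2.2.2.2.2.2.2.2.1
  rw [List.prod_cons, List.prod_cons, List.prod_nil, mul_one] at this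
  exact this

theorem jqP2 : (jqc * jqa * jqc⁻¹ * jqa) ^ 12 = 1 := by
  have := jqPow_eq_one [jqC, jqA, jqCi, jqA] [jqc, jqa, jqci, jqa]
    (List.Forall₂.cons jqc_rep (List.Forall₂.cons jqa_rep (List.Forall₂.cons jqci_rep
      (List.Forall₂.cons jqa_rep List.Forall₂.nil)))) 12
    jqChkW.2.2.2.2.2.2.2.2.2.2.1
  rw [List.prod_cons, List.prod_cons, List.prod_cons, List.prod_cons, List.prod_nil, mul_one,
    jqci_eq, ← mul_assoc, ← mul_assoc] at this
  exact this

theorem jqP3 : (jqc * jqa * jqc⁻¹ * jqa) ^ 4 ≠ 1 := by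
  have := jqPow_ne_one [jqC, jqA, jqCi, jqA] [jqc, jqa, jqci, jqa]
    (List.Forall₂.cons jqc_rep (List.Forall₂.cons jqa_rep (List.Forall₂.cons jqci_rep
      (List.Forall₂.cons jqa_rep List.Forall₂.nil)))) 4
    jqChkW.2.2.2.2.2.2.2.2.2.2.2.1
  rw [List.prod_cons, List.prod_cons, List.prod_cons, List.prod_cons, List.prod_nil, mul_one,
    jqci_eq, ← mul_assoc, ← mul_assoc] at this
  exact this

theorem jqa_ne_a2 : jqa ≠ jqa2 := by
  intro h
  have := jqEqW_of_prod [jqA] [jqA2] [jqa] [jqa2]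
    (List.Forall₂.cons jqa_rep List.Forall₂.nil) (List.Forall₂.cons jqa2_rep List.Forall₂.nil)
    (by rw [List.prod_cons, List.prod_cons, h])
  rw [jqChkW.2.2.2.2.2.2.2.2.2.2.2.2] at this
  exact Bool.false_ne_true this

theorem jqZ_c : jqZp * jqc * jqZp = jqc := by
  have := jqEqW_prod [jqZ, jqC, jqZ] [jqC] [jqZp, jqc, jqZp] [jqc]
    (List.Forall₂.cons jqZp_rep (List.Forall₂.cons jqc_rep
      (List.Forall₂.cons jqZp_rep List.Forall₂.nil)))
    (List.Forall₂.cons jqc_rep List.Forall₂.nil) jqChkZ.2.2.1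
  simp only [List.prod_cons, List.prod_nil, mul_one] at this
  rw [← mul_assoc] at this
  exact this

theorem jqFact7 : (604800 : ℕ).factorization 7 = 1 := by
  have e : (604800 : ℕ) = 7 ^ 1 * 86400 := by norm_num
  rw [e, Nat.factorization_mul (by norm_num) (by norm_num),
    Nat.Prime.factorization_pow (by norm_num)]
  have : (86400 : ℕ).factorization 7 = 0 := Nat.factorization_eq_zero_of_not_dvd (by norm_num)
  simp [this]

end Cfsg.Agent.Lib.helper4
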