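import Mathlib
import Cfsg.Agent.Lib.helper4.J2OMain2


set_option autoImplicit false

namespace Cfsg.Agent.Lib.helper4

open Cfsg.Agent.Lib.Lead.J2 Cfsg.Agent.Lib.helper23

/-- the letters of the words in the element of order 7, its inverse and the involution -/
def jqLet (l : ℕ) : Equiv.Perm (Fin 315) := [jqc, jqci, jqa].getD l 1

theorem jqWd3_rep (w : List ℕ) (hw : ∀ l ∈ w, l < 3) :
    List.Forall₂ JqRep (jqWd3 w) (w.map jqLet) := by
  induction w with
  | nil => exact List.Forall₂.nil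
  | cons l w ih =>
    have hl : l < 3 := hw l List.mem_cons_self
    refine List.Forall₂.cons ?_ (ih fun l' h' => hw l' (List.mem_cons_of_mem _ h'))
    interval_cases l
    · exact jqc_rep
    · exact jqci_rep
    · exact jqa_rep

theorem jqLet_mem (l : ℕ) : jqLet l ∈ Subgroup.closure ({jqc, jqa} : Set (Equiv.Perm (Fin 315))) := by
  rcases l with _ | _ | _ | l
  · exact Subgroup.subset_closure (Set.mem_insert _ _)
  · show jqci ∈ _
    rw [jqci_eq]
    exact Subgroup.inv_mem _ (Subgroup.subset_closure (Set.mem_insert _ _))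
  · exact Subgroup.subset_closure (Set.mem_insert_of_mem _ rfl)
  · exact Subgroup.one_mem _

theorem jqLet_prod_mem (w : List ℕ) :
    (w.map jqLet).prod ∈ Subgroup.closure ({jqc, jqa} : Set (Equiv.Perm (Fin 315))) := by
  induction w with
  | nil => exact Subgroup.one_mem _
  | cons l w ih =>
    rw [List.map_cons, List.prod_cons]
    exact Subgroup.mul_mem _ (jqLet_mem l) ih

theorem jqGw_small : ∀ k, k < 4 → ∀ l ∈ jqGw.getD k [], l < 3 := by decide +kernel

theorem jqGen_closure (k : ℕ) (hk : k < 4) :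
    jqGen k ∈ Subgroup.closure ({jqc, jqa} : Set (Equiv.Perm (Fin 315))) := by
  have h1 := jqRep_of_eqW (jqG.getD k 0) _ _ (jqWd3_rep (jqGw.getD k []) (jqGw_small k hk))
    (jqChkGen k hk)
  rw [jqRep_eq _ _ _ (jqGen_lt k hk) h1]
  exact jqLet_prod_mem _

theorem jq_le_closure : P315 ≤ Subgroup.closure ({jqc, jqa} : Set (Equiv.Perm (Fin 315))) := by
  unfold P315
  rw [Subgroup.closure_le]
  rintro _ ⟨k, rfl⟩
  have hk : piG k = jqGen k.1 := by
    unfold jqGen
    congr 1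
    apply Fin.ext
    exact (Nat.mod_eq_of_lt k.2).symm
  rw [hk]
  exact jqGen_closure k.1 k.2

theorem jq_gen : Subgroup.closure {jqCg, jqAg} = (⊤ : Subgroup P315) := by
  rw [eq_top_iff]
  intro g _
  have hm : (Subgroup.closure {jqCg, jqAg}).map P315.subtype =
      Subgroup.closure ({jqc, jqa} : Set (Equiv.Perm (Fin 315))) := by
    rw [MonoidHom.map_closure]
    congr 1
    rw [Set.image_pair]
    rfl
  have hg := jq_le_closure g.2
  rw [← hm] at hg
  obtain ⟨g', hg', e⟩ := hg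
  have : g' = g := Subtype.ext e
  rwa [this] at hg'

theorem jqPat_spec (i : ℕ) (hp : jqPat i = true)
    (f1 : jqFix (jqRepW (jqC :: jqWd (jqXw i)) 3) = true)
    (f2 : jqFix (jqRepW (jqC :: jqWd (jqXw i) ++ jqCi :: jqWd (jqXw i)) 12) = true)
    (f3 : jqFix (jqRepW (jqC :: jqWd (jqXw i) ++ jqCi :: jqWd (jqXw i)) 4) = false) :
    (jqOrbSig.any fun o => Nat.beq o (jqXs i)) = true := by
  unfold jqPat at hp
  rw [f1] at hp
  dsimp only at hp
  rw [f2] at hp
  dsimp only at hp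
  rw [f3] at hp
  exact hp

theorem jqRepG_mem (gs : List (Equiv.Perm (Fin 315))) (h : gs.prod ∈ P315) (n : ℕ) :
    (jqRepG gs n).prod ∈ P315 := by
  rw [jqRepG_prod]
  exact Subgroup.pow_mem _ h n

theorem jqOrb_elt (j : ℕ) (T : ℕ) (t : Equiv.Perm (Fin 315)) (ht : JqRep T t) :
    List.Forall₂ JqRep (jqRepW [jqC] j ++ T :: jqRepW [jqCi] j)
      (jqRepG [jqc] j ++ t :: jqRepG [jqci] j) :=
  jqRep_append _ _ _ _ (jqRepW_rep _ _ (List.Forall₂.cons jqc_rep List.Forall₂.nil) j)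
    (List.Forall₂.cons ht (jqRepW_rep _ _ (List.Forall₂.cons jqci_rep List.Forall₂.nil) j))

theorem jqOrb_prod (j : ℕ) (t : Equiv.Perm (Fin 315)) :
    (jqRepG [jqc] j ++ t :: jqRepG [jqci] j).prod = jqc ^ j * t * (jqc ^ j)⁻¹ := by
  rw [List.prod_append, List.prod_cons, jqRepG_prod, jqRepG_prod, List.prod_cons, List.prod_nil,
    mul_one, List.prod_cons, List.prod_nil, mul_one, jqci_eq, inv_pow, mul_assoc]

theorem jq_hE (x : P315) (hx : orderOf x = 2) (h1 : (jqCg * x) ^ 3 = 1)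
    (h2 : (jqCg * x * jqCg⁻¹ * x) ^ 12 = 1) (h3 : (jqCg * x * jqCg⁻¹ * x) ^ 4 ≠ 1) :
    ∃ j : ℕ, x = jqCg ^ j * jqAg * (jqCg ^ j)⁻¹ ∨ x = jqCg ^ j * jqA2g * (jqCg ^ j)⁻¹ := by
  have hx2 : x.1 * x.1 = 1 := by
    have : x ^ 2 = 1 := by rw [← hx, pow_orderOf_eq_one]
    rw [pow_two] at this
    exact congrArg Subtype.val this
  have hx1 : x.1 ≠ 1 := by
    intro h
    have : x = 1 := Subtype.ext h
    rw [this, orderOf_one] at hx
    norm_num at hx
  obtain ⟨i, hi, e⟩ := jq_invol_listed x.1 x.2 hx2 hx1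
  have hp : jqPat i = true := (jqAll_iff _ _ _).1 jqChkP i (Nat.zero_le _) (by omega)
  have r1 : List.Forall₂ JqRep (jqC :: jqWd (jqXw i)) (jqc :: (jqXw i).map jqGen) :=
    List.Forall₂.cons jqc_rep (jqPw_rep _)
  have r2 : List.Forall₂ JqRep (jqC :: jqWd (jqXw i) ++ jqCi :: jqWd (jqXw i))
      (jqc :: (jqXw i).map jqGen ++ jqci :: (jqXw i).map jqGen) :=
    jqRep_append _ _ _ _ r1 (List.Forall₂.cons jqci_rep (jqPw_rep _))
  have p1 : (jqc :: (jqXw i).map jqGen).prod = jqc * x.1 := by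
    rw [List.prod_cons, e]
    rfl
  have p2 : (jqc :: (jqXw i).map jqGen ++ jqci :: (jqXw i).map jqGen).prod =
      jqc * x.1 * jqc⁻¹ * x.1 := by
    rw [List.prod_append, List.prod_cons, List.prod_cons, jqci_eq, e]
    show jqc * jqX i * (jqc⁻¹ * jqX i) = _
    group
  have f1 : jqFix (jqRepW (jqC :: jqWd (jqXw i)) 3) = true := by
    rw [jqFix_iff]
    apply jqSig_of_eq _ _ _ [] (jqRepW_rep _ _ r1 3) List.Forall₂.nil
    rw [jqRepG_prod, p1]
    exact congrArg Subtype.val h1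
  have f2 : jqFix (jqRepW (jqC :: jqWd (jqXw i) ++ jqCi :: jqWd (jqXw i)) 12) = true := by
    rw [jqFix_iff]
    apply jqSig_of_eq _ _ _ [] (jqRepW_rep _ _ r2 12) List.Forall₂.nil
    rw [jqRepG_prod, p2]
    exact congrArg Subtype.val h2
  have f3 : jqFix (jqRepW (jqC :: jqWd (jqXw i) ++ jqCi :: jqWd (jqXw i)) 4) = false := by
    rw [← Bool.not_eq_true, jqFix_iff]
    intro h
    apply h3
    have hm : (jqRepG (jqc :: (jqXw i).map jqGen ++ jqci :: (jqXw i).map jqGen) 4).prod ∈ P315 := by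
      apply jqRepG_mem
      rw [p2]
      exact (jqCg * x * jqCg⁻¹ * x).2
    have e4 := jq_eq_of_sig _ _ _ [] (jqRepW_rep _ _ r2 4) List.Forall₂.nil hm
      (Subgroup.one_mem _) h
    rw [jqRepG_prod, p2] at e4
    apply Subtype.ext
    exact e4
  have hany := jqPat_spec i hp f1 f2 f3
  rw [List.any_eq_true] at hany
  obtain ⟨o, ho, hbeq⟩ := hany
  have ho2 : o = jqXs i := Nat.eq_of_beq_eq_true hbeq
  obtain ⟨j, hj, hoj⟩ := List.getElem_of_mem ho
  have hlen : jqOrbSig.length = 14 := jqChkOrb.1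
  have hD : jqOrbSig.getD j 0 = jqSig (jqWd (jqXw i)) := by
    rw [List.getD_eq_getElem _ _ hj, hoj, ho2, jqXs_eq i hi]
  have fin : ∀ (j' : ℕ) (T : ℕ) (t : Equiv.Perm (Fin 315)), JqRep T t → t ∈ P315 →
      jqSig (jqRepW [jqC] j' ++ T :: jqRepW [jqCi] j') = jqSig (jqWd (jqXw i)) →
      x.1 = jqc ^ j' * t * (jqc ^ j')⁻¹ := by
    intro j' T t ht htm hs
    have hm : (jqRepG [jqc] j' ++ t :: jqRepG [jqci] j').prod ∈ P315 := by
      rw [jqOrb_prod]
      exact Subgroup.mul_mem _ (Subgroup.mul_mem _ (Subgroup.pow_mem _ jqc_mem _) htm)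
        (Subgroup.inv_mem _ (Subgroup.pow_mem _ jqc_mem _))
    have := jq_eq_of_sig _ _ _ _ (jqOrb_elt j' T t ht) (jqPw_rep (jqXw i)) hm (jqPw_mem _) hs
    rw [jqOrb_prod] at this
    rw [e, this]
    rfl
  by_cases hj7 : j < 7
  · refine ⟨j, Or.inl ?_⟩
    apply Subtype.ext
    rw [fin j jqA jqa jqa_rep jqa_mem (by rw [← jqChkOrb.2.1 j hj7, hD])]
    rfl
  · refine ⟨j - 7, Or.inr ?_⟩
    apply Subtype.ext
    have hj' : j - 7 < 7 := by omega
    have hjj : j - 7 + 7 = j := by omega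
    rw [fin (j - 7) jqA2 jqa2 jqa2_rep jqa2_mem (by rw [← jqChkOrb.2.2 (j - 7) hj', hjj, hD])]
    rfl

theorem jqSigma_sq (x : P315) : jqSigma (jqSigma x) = x := jqSigma.left_inv x

theorem jq_center : Subgroup.center P315 = ⊥ := by
  have := P315_simple
  rcases (Subgroup.center P315).normal_of_characteristic.eq_bot_or_eq_top with h | h
  · exact h
  · exfalso
    obtain ⟨a, b, hab⟩ := P315_noncomm
    apply hab
    have ha : a ∈ Subgroup.center P315 := h ▸ Subgroup.mem_top a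
    exact ((Subgroup.mem_center_iff.1 ha) b).symm

theorem jqSigma_not_inn : jqSigma ∉ Cfsg.Inn P315 := by
  rintro ⟨g, hg⟩
  have hconj : ∀ x : P315, g * x * g⁻¹ = jqSigma x := by
    intro x
    rw [← hg]
    rfl
  have hgc : g * jqCg * g⁻¹ = jqCg := by
    rw [hconj]
    apply Subtype.ext
    exact jqZ_c
  have hga : g * jqAg * g⁻¹ = jqA2g := by
    rw [hconj]
    rfl
  have hsq : g * g ∈ Subgroup.center P315 := by
    rw [Subgroup.mem_center_iff]
    intro x
    have := jqSigma_sq x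
    rw [← hconj, ← hconj] at this
    calc x * (g * g) = (g * (g * x * g⁻¹) * g⁻¹) * (g * g) := by rw [this]
      _ = g * g * x := by group
  rw [jq_center, Subgroup.mem_bot] at hsq
  have hg1 : g ≠ 1 := by
    intro h
    rw [h, one_mul, inv_one, mul_one] at hga
    exact jqa_ne_a2 (congrArg Subtype.val hga)
  have hg1' : g.1 ≠ 1 := fun h => hg1 (Subtype.ext h)
  obtain ⟨i, hi, e⟩ := jq_invol_listed g.1 g.2 (congrArg Subtype.val hsq) hg1'
  have hcomm : g.1 * jqc = jqc * g.1 := by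
    have h1 : g * jqCg = jqCg * g := by
      calc g * jqCg = (g * jqCg * g⁻¹) * g := by group
        _ = jqCg * g := by rw [hgc]
    exact congrArg Subtype.val h1
  have hnc : jqNc i = true := (jqAll_iff _ _ _).1 jqChkM i (Nat.zero_le _) (by omega)
  unfold jqNc at hnc
  have hs : jqSig (jqWd (jqXw i) ++ [jqC]) = jqSig (jqC :: jqWd (jqXw i)) := by
    apply jqSig_of_eq _ _ ((jqXw i).map jqGen ++ [jqc]) (jqc :: (jqXw i).map jqGen)
      (jqRep_append _ _ _ _ (jqPw_rep _) (List.Forall₂.cons jqc_rep List.Forall₂.nil))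
      (List.Forall₂.cons jqc_rep (jqPw_rep _))
    rw [List.prod_append, List.prod_cons, List.prod_cons, List.prod_nil, mul_one]
    rw [e] at hcomm
    exact hcomm
  rw [hs, Nat.beq_refl] at hnc
  exact Bool.false_ne_true hnc

end Cfsg.Agent.Lib.helper4
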