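import Mathlib
import Cfsg.Agent.Lib.helper4.J2OMain3

set_option autoImplicit false

namespace Cfsg.Agent.Lib.helper4

open Cfsg.Agent.Lib.Lead.J2 Cfsg.Agent.Lib.helper23

theorem jqg_fac : (Nat.card P315).factorization 7 = 1 := by rw [P315_card]; exact jqFact7

theorem jqg_u : jqUg * jqCg * jqUg⁻¹ = jqCg ^ 3 := by
  apply Subtype.ext
  rw [Subgroup.coe_mul, Subgroup.coe_mul, Subgroup.coe_inv, Subgroup.coe_pow]
  exact jqu_conj

theorem jqg_P1 : (jqCg * jqAg) ^ 3 = 1 := by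
  apply Subtype.ext
  rw [Subgroup.coe_pow, Subgroup.coe_mul]
  exact jqP1

theorem jqg_P2 : (jqCg * jqAg * jqCg⁻¹ * jqAg) ^ 12 = 1 := by
  apply Subtype.ext
  rw [Subgroup.coe_pow, Subgroup.coe_mul, Subgroup.coe_mul, Subgroup.coe_mul, Subgroup.coe_inv]
  exact jqP2

theorem jqg_P3 : (jqCg * jqAg * jqCg⁻¹ * jqAg) ^ 4 ≠ 1 := by
  intro h
  apply jqP3
  have := congrArg Subtype.val h
  rw [Subgroup.coe_pow, Subgroup.coe_mul, Subgroup.coe_mul, Subgroup.coe_mul, Subgroup.coe_inv]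
    at this
  exact this

theorem jqg_sc : jqSigma jqCg = jqCg := by
  apply Subtype.ext
  rw [jqSigma_apply]
  exact jqZ_c

theorem jqg_sa : jqSigma jqAg = jqA2g := by
  apply Subtype.ext
  rw [jqSigma_apply]
  rfl

/-- the outer automorphism group of the group on 315 points has order two -/
theorem jq_out_card : Nat.card (Cfsg.Out P315) = 2 :=
  out_card_two_seven jqCg jqAg jqUg jqA2g jqSigma jqg_fac jqCg_order
    jqg_u jq_gen jqAg_order jqg_P1 jqg_P2 jqg_P3 jq_hE jqg_sc jqg_sa jqSigma_not_inn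

end Cfsg.Agent.Lib.helper4
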