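import Mathlib
import Cfsg.Agent.Lib.helper4.J3Ord
import Cfsg.Agent.Lib.helper4.J3CData

set_option autoImplicit false

/-! The subgroup of order 1920 centralising an involution in the triple cover of the third Janko
group: lookups and the tests run by the kernel. -/

namespace Cfsg.Agent.Lib.helper4

/-- the code at a position -/
def dLook (i : ℕ) : ℕ := ktab16 jcDT 162 5846006549323611672814739330865132078623730171903 i

/-- the entry of the table of products -/
def dnLook (i : ℕ) : ℕ := Nat.land (Nat.shiftRight jcDN (Nat.mul 22 i)) 4194303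

/-- the entry of the tree -/
def dpLook (i : ℕ) : ℕ := Nat.land (Nat.shiftRight jcDP (Nat.mul 18 i)) 262143

/-- the entry of the table of conjugating elements -/
def diLook (i : ℕ) : ℕ := Nat.land (Nat.shiftRight jcDI (Nat.mul 13 i)) 8191

/-- the depth in the tree -/
def dDep (i : ℕ) : ℕ := Nat.div (dpLook i) 4096

/-- the position of the product with a generator -/
def dNxt (k i : ℕ) : ℕ :=
  match k with
  | 0 => Nat.mod (dnLook i) 2048
  | _ => Nat.div (dnLook i) 2048

/-- the codes increase -/
def dChkS (i : ℕ) : Bool := Nat.blt (dLook i) (dLook (Nat.succ i))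

/-- the products with the generators are listed, and the scalar is not -/
def dChkA (i : ℕ) : Bool :=
  kforceNat (dLook i) fun u => kforceNat (dNxt 0 i) fun n1 => kforceNat (dNxt 1 i) fun n2 =>
    Nat.blt n1 1920 && (Nat.blt n2 1920 && (Nat.beq (cmul jcA1 u) (dLook n1) &&
      (Nat.beq (cmul jcA2 u) (dLook n2) && !(Nat.beq u jcW))))

/-- the tree -/
def dChkB (i : ℕ) : Bool :=
  Nat.beq i jcI0 || (kforceNat (dpLook i) fun e =>
    kforceNat (Nat.mod e 2048) fun p =>
      Nat.blt p 1920 && (Nat.blt (dDep p) (Nat.div e 4096) &&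
        Nat.beq (dNxt (Nat.mod (Nat.div e 2048) 2) p) i))

/-- the involutions are conjugate to the representatives -/
def dChkC (i : ℕ) : Bool :=
  kforceNat (dLook i) fun u =>
    match Nat.beq (csq u) cid && !(Nat.beq u cid) with
    | false => true
    | true => kforceNat (diLook i) fun e => kforceNat (Nat.mod e 2048) fun j =>
        Nat.blt j 1920 && (Nat.blt (Nat.div e 2048) 3 && kforceNat (dLook j) fun dj =>
          Nat.beq (cmul dj u) (cmul (jcR.getD (Nat.div e 2048) 0) dj))

/-- the codes of the normal subgroup of order 32 -/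
def jcQ : List ℕ := jcQi.map dLook

/-- a code is in a list -/
def cmem (a : ℕ) (L : List ℕ) : Bool := L.any fun b => Nat.beq a b

/-- the tests on the normal subgroup -/
def qChk1 : Bool :=
  jcQi.all (fun i => Nat.blt i 1920) && (cmem cid jcQ && (cmem jcT jcQ &&
    jcQ.all fun a => jcQ.all fun b => kforceNat (cmul a b) fun ab => kforceNat (cmul b a) fun ba =>
      cmem ab jcQ && (Nat.beq ab ba || Nat.beq ab (cmul jcT ba))))

def qChk2 : Bool :=
  jcQ.all fun a => kforceNat (csq a) fun s =>
    Nat.beq (cmul a jcT) (cmul jcT a) && ((Nat.beq s cid || Nat.beq s jcT) &&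
      (Nat.beq a cid || (Nat.beq a jcT || jcQ.any fun b => !(Nat.beq (cmul a b) (cmul b a)))))

def qChk3 : Bool :=
  jcQ.all fun a => jcQ.all fun b =>
    !(Nat.beq (csq a) cid) || (!(Nat.beq (csq b) cid) || (!(Nat.beq (cmul a b) (cmul b a)) ||
      (Nat.beq a cid || (Nat.beq a jcT || (Nat.beq b cid || (Nat.beq b jcT ||
        (Nat.beq b a || Nat.beq b (cmul a jcT))))))))

/-- the inverses of the generators -/
def jcA1i : ℕ := cword (jcGw1.reverse.map fun l => Nat.mod (Nat.add l 8) 16)

def jcA2i : ℕ := cword (jcGw2.reverse.map fun l => Nat.mod (Nat.add l 8) 16)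

/-- two elements of the normal subgroup do not commute -/
def qChk5 : Bool :=
  jcQ.any fun a => jcQ.any fun b => !(Nat.beq (cmul a b) (cmul b a))

def qChk4 : Bool :=
  [jcA1, jcA2, jcA1i, jcA2i].all fun g => jcQ.all fun a =>
    kforceNat (cmul g a) fun ga => jcQ.any fun b => Nat.beq ga (cmul b g)

end Cfsg.Agent.Lib.helper4
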