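import Mathlib
import Cfsg.Agent.Lib.helper4.J3CDefs

set_option autoImplicit false

/-! Kernel checks for the subgroup of order 1920 centralising an involution in the triple cover of
the third Janko group. -/

namespace Cfsg.Agent.Lib.helper4

set_option maxRecDepth 10000000 in
theorem jcChkS : krangeAll dChkS 1919 0 = true := by decide +kernel

set_option maxRecDepth 10000000 in
theorem jcChkA : krangeAll dChkA 1920 0 = true := by decide +kernel

set_option maxRecDepth 10000000 in
theorem jcChkB : krangeAll dChkB 1920 0 = true := by decide +kernel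

set_option maxRecDepth 10000000 in
theorem jcChkC : krangeAll dChkC 1920 0 = true := by decide +kernel

set_option maxRecDepth 10000000 in
theorem jcChkQ1 : qChk1 = true := by decide +kernel

set_option maxRecDepth 10000000 in
theorem jcChkQ2 : qChk2 = true := by decide +kernel

set_option maxRecDepth 10000000 in
theorem jcChkQ3 : qChk3 = true := by decide +kernel

set_option maxRecDepth 10000000 in
theorem jcChkQ4 : qChk4 = true := by decide +kernel

set_option maxRecDepth 10000000 in
theorem jcChkQ5 : qChk5 = true := by decide +kernel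

set_option maxRecDepth 10000000 in
theorem jcChkW : dLook jcI0 = cid ∧ cword jcGw1 = jcA1 ∧ cword jcGw2 = jcA2 ∧ cword [6] = jcT ∧
    cword [7] = jcW ∧ cmul jcA1 jcT = cmul jcT jcA1 ∧ cmul jcA2 jcT = cmul jcT jcA2 ∧
    (∀ r, r < 3 → cmul (cword (jcWi.getD r [])) (jcR.getD r 0) =
      cmul jcT (cword (jcWi.getD r []))) ∧
    cmul jcA1 jcA1i = cid ∧ cmul jcA2 jcA2i = cid ∧
    (∀ l ∈ jcGw1, l < 16) ∧ (∀ l ∈ jcGw2, l < 16) ∧ (∀ r, r < 3 → ∀ l ∈ jcWi.getD r [], l < 16) ∧
    jcQ.Nodup ∧ jcQ.length = 32 ∧ jcW < 262144 ^ 9 ∧ jcT < 262144 ^ 9 := by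
  decide +kernel

set_option maxRecDepth 10000000 in
theorem jcChkXY : Nat.blt jcIX 1920 = true ∧ Nat.blt jcIY 1920 = true ∧
    cmul (dLook jcIX) (csq (dLook jcIX)) = cid ∧ dLook jcIX ≠ cid ∧
    cmul (dLook jcIY) (csq (csq (dLook jcIY))) = cid ∧
    csq (cmul (dLook jcIX) (dLook jcIY)) = cid := by
  decide +kernel

end Cfsg.Agent.Lib.helper4
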