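import Mathlib
import Cfsg.Agent.Lib.helper4.J3CDefs
import Cfsg.Agent.Lib.helper4.J3CIData

set_option autoImplicit false

/-! The class of involutions of the triple cover of the third Janko group: lookups and the tests
run by the kernel. -/

namespace Cfsg.Agent.Lib.helper4

/-- the code at a position -/
def iLook (i : ℕ) : ℕ := ktab16 jcIT 162 5846006549323611672814739330865132078623730171903 i

/-- the entry of the tree -/
def ipLook (i : ℕ) : ℕ := Nat.land (Nat.shiftRight jcIP (Nat.mul 23 i)) 8388607

/-- the depth in the tree -/
def iDep (i : ℕ) : ℕ := Nat.div (ipLook i) 524288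

/-- the codes increase -/
def iChkS (i : ℕ) : Bool := Nat.blt (iLook i) (iLook (Nat.succ i))

/-- each code is the involution or a conjugate of an earlier one by a generator -/
def iChk (i : ℕ) : Bool :=
  kforceNat (iLook i) fun u => Nat.beq u jcT || (kforceNat (ipLook i) fun e =>
    kforceNat (Nat.mod e 32768) fun p => kforceNat (Nat.mod (Nat.div e 32768) 16) fun l =>
      Nat.blt p 26163 && (Nat.blt l 7 && (Nat.blt (iDep p) (Nat.div e 524288) &&
        Nat.beq (cletter l (iLook p)) (cmul u (jcLet.getD l 0)))))

end Cfsg.Agent.Lib.helper4
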