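import Mathlib
import Cfsg.Agent.Lib.helper4.J3CIDefs

set_option autoImplicit false

/-! Kernel check for the class of involutions of the triple cover of the third Janko group,
part 3. -/

namespace Cfsg.Agent.Lib.helper4

set_option maxRecDepth 10000000 in
theorem jcIChk3 : krangeAll iChk 6540 19623 = true := by decide +kernel

end Cfsg.Agent.Lib.helper4
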