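import Mathlib
import Cfsg.Agent.Lib.helper4.J3CIDefs

set_option autoImplicit false

/-! Kernel check for the class of involutions of the triple cover of the third Janko group: the
codes increase, and the codes of the generators. -/

namespace Cfsg.Agent.Lib.helper4

set_option maxRecDepth 10000000 in
theorem jcIChkS : krangeAll iChkS 26162 0 = true := by decide +kernel

theorem jcLet_chk : ∀ l, l < 7 → jcLet.getD l 0 = cword [l] := by decide +kernel

end Cfsg.Agent.Lib.helper4
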