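import Mathlib
import Cfsg.Agent.Lib.helper4.J3CChk

set_option autoImplicit false

/-! What the kernel checks on the subgroup of order 1920 say, for numbers. -/

namespace Cfsg.Agent.Lib.helper4

theorem nat_beq_false (a b : ℕ) (h : a ≠ b) : Nat.beq a b = false := by
  cases hb : Nat.beq a b
  · rfl
  · exact absurd (Nat.eq_of_beq_eq_true hb) h

theorem ktab16_lt (Ts : List ℕ) (bits mask i : ℕ) : ktab16 Ts bits mask i ≤ mask := by
  unfold ktab16
  exact Nat.and_le_right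

theorem dLook_lt (i : ℕ) : dLook i < 262144 ^ 9 := by
  have := ktab16_lt jcDT 162 5846006549323611672814739330865132078623730171903 i
  unfold dLook
  have e : (262144 : ℕ) ^ 9 = 5846006549323611672814739330865132078623730171904 := by norm_num
  rw [e]
  omega

theorem dLook_succ (i : ℕ) (hi : i < 1919) : dLook i < dLook (i + 1) := by
  have h := krangeAll_spec _ _ _ jcChkS i (Nat.zero_le _) (by omega)
  unfold dChkS at h
  exact Nat.le_of_ble_eq_true h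

theorem dLook_mono (i j : ℕ) (hij : i < j) (hj : j < 1920) : dLook i < dLook j := by
  induction j with
  | zero => omega
  | succ j ih =>
    rcases Nat.lt_succ_iff_lt_or_eq.1 hij with h | h
    · exact lt_trans (ih h (by omega)) (dLook_succ j (by omega))
    · rw [h]
      exact dLook_succ j (by omega)

theorem dLook_inj (i j : ℕ) (hi : i < 1920) (hj : j < 1920) (h : dLook i = dLook j) : i = j := by
  rcases lt_trichotomy i j with h1 | h1 | h1
  · exact absurd h (ne_of_lt (dLook_mono i j h1 hj))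
  · exact h1
  · exact absurd h.symm (ne_of_lt (dLook_mono j i h1 hi))

theorem dChkA_spec (i : ℕ) (hi : i < 1920) : dNxt 0 i < 1920 ∧ dNxt 1 i < 1920 ∧
    cmul jcA1 (dLook i) = dLook (dNxt 0 i) ∧ cmul jcA2 (dLook i) = dLook (dNxt 1 i) ∧
    dLook i ≠ jcW := by
  have h := krangeAll_spec _ _ _ jcChkA i (Nat.zero_le _) (by omega)
  unfold dChkA at h
  rw [kforceNat_eq, kforceNat_eq, kforceNat_eq, Bool.and_eq_true, Bool.and_eq_true,
    Bool.and_eq_true, Bool.and_eq_true] at h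
  obtain ⟨h1, h2, h3, h4, h5⟩ := h
  refine ⟨Nat.le_of_ble_eq_true h1, Nat.le_of_ble_eq_true h2, Nat.eq_of_beq_eq_true h3,
    Nat.eq_of_beq_eq_true h4, ?_⟩
  intro e
  rw [e] at h5
  revert h5
  decide

theorem dChkB_spec (i : ℕ) (hi : i < 1920) (h0 : i ≠ jcI0) :
    ∃ p k, p < 1920 ∧ dDep p < dDep i ∧ k < 2 ∧ dNxt k p = i := by
  have h := krangeAll_spec _ _ _ jcChkB i (Nat.zero_le _) (by omega)
  unfold dChkB at h
  rw [Bool.or_eq_true] at h
  rcases h with h | h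
  · exact absurd (Nat.eq_of_beq_eq_true h) h0
  · rw [kforceNat_eq, kforceNat_eq, Bool.and_eq_true, Bool.and_eq_true] at h
    obtain ⟨h1, h2, h3⟩ := h
    exact ⟨_, _, Nat.le_of_ble_eq_true h1, Nat.le_of_ble_eq_true h2, Nat.mod_lt _ (by norm_num),
      Nat.eq_of_beq_eq_true h3⟩

theorem dChkC_spec (i : ℕ) (hi : i < 1920) (h1 : csq (dLook i) = cid) (h2 : dLook i ≠ cid) :
    ∃ j r, j < 1920 ∧ r < 3 ∧ cmul (dLook j) (dLook i) = cmul (jcR.getD r 0) (dLook j) := by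
  have h := krangeAll_spec _ _ _ jcChkC i (Nat.zero_le _) (by omega)
  unfold dChkC at h
  rw [kforceNat_eq] at h
  have e : (Nat.beq (csq (dLook i)) cid && !(Nat.beq (dLook i) cid)) = true := by
    rw [Bool.and_eq_true, Bool.not_eq_true']
    refine ⟨?_, nat_beq_false _ _ h2⟩
    rw [h1]
    exact Nat.beq_refl _
  rw [e] at h
  change (kforceNat (diLook i) fun e => kforceNat (Nat.mod e 2048) fun j =>
    Nat.blt j 1920 && (Nat.blt (Nat.div e 2048) 3 && kforceNat (dLook j) fun dj =>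
      Nat.beq (cmul dj (dLook i)) (cmul (jcR.getD (Nat.div e 2048) 0) dj))) = true at h
  rw [kforceNat_eq, kforceNat_eq, Bool.and_eq_true, Bool.and_eq_true, kforceNat_eq] at h
  obtain ⟨h3, h4, h5⟩ := h
  exact ⟨_, _, Nat.le_of_ble_eq_true h3, Nat.le_of_ble_eq_true h4, Nat.eq_of_beq_eq_true h5⟩

theorem cmem_iff (a : ℕ) (L : List ℕ) : cmem a L = true ↔ a ∈ L := by
  unfold cmem
  rw [List.any_eq_true]
  constructor
  · rintro ⟨b, hb, e⟩
    rw [Nat.eq_of_beq_eq_true e]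
    exact hb
  · intro h
    exact ⟨a, h, Nat.beq_refl a⟩

theorem jcW_I0 : dLook jcI0 = cid := by
  obtain ⟨a0, a1, a2, a3, a4, a5, a6, a7, a8, a9, a10, a11, a12, a13, a14, a15, a16⟩ := jcChkW
  exact a0

theorem jcW_A1 : cword jcGw1 = jcA1 := by
  obtain ⟨a0, a1, a2, a3, a4, a5, a6, a7, a8, a9, a10, a11, a12, a13, a14, a15, a16⟩ := jcChkW
  exact a1

theorem jcW_A2 : cword jcGw2 = jcA2 := by
  obtain ⟨a0, a1, a2, a3, a4, a5, a6, a7, a8, a9, a10, a11, a12, a13, a14, a15, a16⟩ := jcChkW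
  exact a2

theorem jcW_T : cword [6] = jcT := by
  obtain ⟨a0, a1, a2, a3, a4, a5, a6, a7, a8, a9, a10, a11, a12, a13, a14, a15, a16⟩ := jcChkW
  exact a3

theorem jcW_W : cword [7] = jcW := by
  obtain ⟨a0, a1, a2, a3, a4, a5, a6, a7, a8, a9, a10, a11, a12, a13, a14, a15, a16⟩ := jcChkW
  exact a4

theorem jcW_c1 : cmul jcA1 jcT = cmul jcT jcA1 := by
  obtain ⟨a0, a1, a2, a3, a4, a5, a6, a7, a8, a9, a10, a11, a12, a13, a14, a15, a16⟩ := jcChkW
  exact a5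

theorem jcW_c2 : cmul jcA2 jcT = cmul jcT jcA2 := by
  obtain ⟨a0, a1, a2, a3, a4, a5, a6, a7, a8, a9, a10, a11, a12, a13, a14, a15, a16⟩ := jcChkW
  exact a6

theorem jcW_Wi : ∀ r, r < 3 → cmul (cword (jcWi.getD r [])) (jcR.getD r 0) =
      cmul jcT (cword (jcWi.getD r [])) := by
  obtain ⟨a0, a1, a2, a3, a4, a5, a6, a7, a8, a9, a10, a11, a12, a13, a14, a15, a16⟩ := jcChkW
  exact a7

theorem jcW_i1 : cmul jcA1 jcA1i = cid := by
  obtain ⟨a0, a1, a2, a3, a4, a5, a6, a7, a8, a9, a10, a11, a12, a13, a14, a15, a16⟩ := jcChkW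
  exact a8

theorem jcW_i2 : cmul jcA2 jcA2i = cid := by
  obtain ⟨a0, a1, a2, a3, a4, a5, a6, a7, a8, a9, a10, a11, a12, a13, a14, a15, a16⟩ := jcChkW
  exact a9

theorem jcW_l1 : ∀ l ∈ jcGw1, l < 16 := by
  obtain ⟨a0, a1, a2, a3, a4, a5, a6, a7, a8, a9, a10, a11, a12, a13, a14, a15, a16⟩ := jcChkW
  exact a10

theorem jcW_l2 : ∀ l ∈ jcGw2, l < 16 := by
  obtain ⟨a0, a1, a2, a3, a4, a5, a6, a7, a8, a9, a10, a11, a12, a13, a14, a15, a16⟩ := jcChkW
  exact a11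

theorem jcW_lW : ∀ r, r < 3 → ∀ l ∈ jcWi.getD r [], l < 16 := by
  obtain ⟨a0, a1, a2, a3, a4, a5, a6, a7, a8, a9, a10, a11, a12, a13, a14, a15, a16⟩ := jcChkW
  exact a12

theorem jcW_nd : jcQ.Nodup := by
  obtain ⟨a0, a1, a2, a3, a4, a5, a6, a7, a8, a9, a10, a11, a12, a13, a14, a15, a16⟩ := jcChkW
  exact a13

theorem jcW_len : jcQ.length = 32 := by
  obtain ⟨a0, a1, a2, a3, a4, a5, a6, a7, a8, a9, a10, a11, a12, a13, a14, a15, a16⟩ := jcChkW
  exact a14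

theorem jcW_Wlt : jcW < 262144 ^ 9 := by
  obtain ⟨a0, a1, a2, a3, a4, a5, a6, a7, a8, a9, a10, a11, a12, a13, a14, a15, a16⟩ := jcChkW
  exact a15

theorem jcW_Tlt : jcT < 262144 ^ 9 := by
  obtain ⟨a0, a1, a2, a3, a4, a5, a6, a7, a8, a9, a10, a11, a12, a13, a14, a15, a16⟩ := jcChkW
  exact a16

theorem nat_beq_iff (a b : ℕ) : Nat.beq a b = true ↔ a = b :=
  ⟨Nat.eq_of_beq_eq_true, fun h => by rw [h]; exact Nat.beq_refl b⟩

theorem nat_beq_false_iff (a b : ℕ) : Nat.beq a b = false ↔ a ≠ b :=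
  ⟨Nat.ne_of_beq_eq_false, nat_beq_false a b⟩

theorem qChk1_spec : (∀ i ∈ jcQi, i < 1920) ∧ cid ∈ jcQ ∧ jcT ∈ jcQ ∧ ∀ a ∈ jcQ, ∀ b ∈ jcQ,
    cmul a b ∈ jcQ ∧ (cmul a b = cmul b a ∨ cmul a b = cmul jcT (cmul b a)) := by
  have h := jcChkQ1
  unfold qChk1 at h
  simp only [Bool.and_eq_true, List.all_eq_true, kforceNat_eq, cmem_iff, Bool.or_eq_true,
    nat_beq_iff] at h
  obtain ⟨h1, h2, h3, h4⟩ := h
  exact ⟨fun i hi => Nat.le_of_ble_eq_true (h1 i hi), h2, h3, h4⟩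

theorem qChk2_spec : ∀ a ∈ jcQ, cmul a jcT = cmul jcT a ∧ (csq a = cid ∨ csq a = jcT) ∧
    (a = cid ∨ a = jcT ∨ ∃ b ∈ jcQ, cmul a b ≠ cmul b a) := by
  have h := jcChkQ2
  unfold qChk2 at h
  simp only [Bool.and_eq_true, List.all_eq_true, kforceNat_eq, Bool.or_eq_true,
    nat_beq_iff, List.any_eq_true, Bool.not_eq_true', nat_beq_false_iff] at h
  exact h

theorem qChk3_spec : ∀ a ∈ jcQ, ∀ b ∈ jcQ, csq a = cid → csq b = cid → cmul a b = cmul b a →
    a = cid ∨ a = jcT ∨ b = cid ∨ b = jcT ∨ b = a ∨ b = cmul a jcT := by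
  have h := jcChkQ3
  unfold qChk3 at h
  simp only [List.all_eq_true, Bool.or_eq_true, nat_beq_iff, Bool.not_eq_true',
    nat_beq_false_iff] at h
  intro a ha b hb h1 h2 h3
  rcases h a ha b hb with h | h | h | h
  · exact absurd h1 h
  · exact absurd h2 h
  · exact absurd h3 h
  · exact h

theorem qChk4_spec : ∀ g ∈ [jcA1, jcA2, jcA1i, jcA2i], ∀ a ∈ jcQ, ∃ b ∈ jcQ,
    cmul g a = cmul b g := by
  have h := jcChkQ4
  unfold qChk4 at h
  simp only [List.all_eq_true, kforceNat_eq, List.any_eq_true, nat_beq_iff] at h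
  exact h

theorem qChk5_spec : ∃ a ∈ jcQ, ∃ b ∈ jcQ, cmul a b ≠ cmul b a := by
  have h := jcChkQ5
  unfold qChk5 at h
  simp only [List.any_eq_true, Bool.not_eq_true', nat_beq_false_iff] at h
  exact h

theorem jcXY_spec : jcIX < 1920 ∧ jcIY < 1920 ∧
    cmul (dLook jcIX) (csq (dLook jcIX)) = cid ∧ dLook jcIX ≠ cid ∧
    cmul (dLook jcIY) (csq (csq (dLook jcIY))) = cid ∧
    csq (cmul (dLook jcIX) (dLook jcIY)) = cid := by
  obtain ⟨a0, a1, a2, a3, a4, a5⟩ := jcChkXY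
  exact ⟨Nat.le_of_ble_eq_true a0, Nat.le_of_ble_eq_true a1, a2, a3, a4, a5⟩

end Cfsg.Agent.Lib.helper4
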