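import Mathlib
import Cfsg.Agent.Lib.helper4.J3CSpec
import Cfsg.Agent.Lib.helper4.J3CInj

set_option autoImplicit false

/-! The subgroup of order 1920 centralising an involution in the triple cover of the third Janko
group: what the kernel checks give for the matrices. -/

namespace Cfsg.Agent.Lib.helper4

open Cfsg.Agent.Lib.Lead.F4 Cfsg.Spor Matrix
open scoped MatrixGroups

theorem jcI0_lt : jcI0 < 1920 := by decide

section
variable {F : Type} [Field F] (ω : F) (h2 : (2 : F) = 0) (hω : ω * ω = ω + 1)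

/-- the involution -/
noncomputable def jcTg : GL F9 F := gword ω h2 hω [6]

/-- the subgroup of order 1920 -/
def jcD : Subgroup (GL F9 F) :=
  Subgroup.closure {gword ω h2 hω jcGw1, gword ω h2 hω jcGw2}

theorem crep_jcA1 : CRep ω h2 hω jcA1 (gword ω h2 hω jcGw1) := by
  rw [← jcW_A1]
  exact crep_word ω h2 hω jcGw1 jcW_l1

theorem crep_jcA2 : CRep ω h2 hω jcA2 (gword ω h2 hω jcGw2) := by
  rw [← jcW_A2]
  exact crep_word ω h2 hω jcGw2 jcW_l2

theorem crep_jcT : CRep ω h2 hω jcT (jcTg ω h2 hω) := by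
  rw [← jcW_T]
  exact crep_word ω h2 hω [6] (by decide)

/-- every listed code is the code of an element of the subgroup -/
theorem jcD_rep (i : ℕ) (hi : i < 1920) : ∃ g ∈ jcD ω h2 hω, CRep ω h2 hω (dLook i) g := by
  induction' hd : dDep i using Nat.strong_induction_on with d ih generalizing i
  by_cases h0 : i = jcI0
  · subst h0
    rw [jcW_I0]
    exact ⟨1, Subgroup.one_mem _, crep_one ω h2 hω⟩
  · obtain ⟨p, k, hp, hdep, hk, hn⟩ := dChkB_spec i hi h0
    obtain ⟨g, hg, hr⟩ := ih (dDep p) (by omega) p hp rfl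
    obtain ⟨-, -, e1, e2, -⟩ := dChkA_spec p hp
    interval_cases k
    · refine ⟨gword ω h2 hω jcGw1 * g,
        Subgroup.mul_mem _ (Subgroup.subset_closure (Set.mem_insert _ _)) hg, ?_⟩
      rw [← hn, ← e1]
      exact crep_cmul ω h2 hω _ _ _ _ (crep_jcA1 ω h2 hω) hr
    · refine ⟨gword ω h2 hω jcGw2 * g,
        Subgroup.mul_mem _ (Subgroup.subset_closure (Set.mem_insert_of_mem _ rfl)) hg, ?_⟩
      rw [← hn, ← e2]
      exact crep_cmul ω h2 hω _ _ _ _ (crep_jcA2 ω h2 hω) hr

variable [Fintype F]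

/-- every element of the subgroup has a listed code -/
theorem jcD_mem (g : GL F9 F) (hg : g ∈ jcD ω h2 hω) :
    ∃ i, i < 1920 ∧ CRep ω h2 hω (dLook i) g := by
  let S : Set (GL F9 F) := {x | ∃ i, i < 1920 ∧ CRep ω h2 hω (dLook i) x}
  have key : ∀ g ∈ jcD ω h2 hω, ∀ x ∈ S, g * x ∈ S := by
    intro g hg
    induction hg using Subgroup.closure_induction with
    | mem s hs =>
      rcases hs with rfl | hs
      · rintro x ⟨i, hi, hr⟩
        obtain ⟨n1, -, e1, -, -⟩ := dChkA_spec i hi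
        refine ⟨dNxt 0 i, n1, ?_⟩
        rw [← e1]
        exact crep_cmul ω h2 hω _ _ _ _ (crep_jcA1 ω h2 hω) hr
      · rw [Set.mem_singleton_iff] at hs
        subst hs
        rintro x ⟨i, hi, hr⟩
        obtain ⟨-, n2, -, e2, -⟩ := dChkA_spec i hi
        refine ⟨dNxt 1 i, n2, ?_⟩
        rw [← e2]
        exact crep_cmul ω h2 hω _ _ _ _ (crep_jcA2 ω h2 hω) hr
    | one => intro x hx; simpa using hx
    | mul a c _ _ iha ihc =>
      intro x hx
      rw [mul_assoc]
      exact iha _ (ihc x hx)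
    | inv a _ iha => exact ss_inv_mul_subset S a iha
  have h1 : (1 : GL F9 F) ∈ S := by
    refine ⟨jcI0, jcI0_lt, ?_⟩
    rw [jcW_I0]
    exact crep_one ω h2 hω
  have := key g hg 1 h1
  rw [mul_one] at this
  exact this

/-- the order of the subgroup -/
theorem jcD_card : Nat.card (jcD ω h2 hω) = 1920 := by
  have hrep := jcD_rep ω h2 hω
  choose! gOf hgOf hgRep using hrep
  let f : Fin 1920 → jcD ω h2 hω := fun i => ⟨gOf i.1, hgOf i.1 i.2⟩
  have hf : Function.Bijective f := by
    constructor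
    · intro i j hij
      have e : gOf i.1 = gOf j.1 := congrArg Subtype.val hij
      have h1 := hgRep i.1 i.2
      have h3 := hgRep j.1 j.2
      rw [e] at h1
      apply Fin.ext
      exact dLook_inj _ _ i.2 j.2
        (crep_inj ω h2 hω _ _ (dLook_lt _) (dLook_lt _) _ h1 h3)
    · rintro ⟨g, hg⟩
      obtain ⟨i, hi, hr⟩ := jcD_mem ω h2 hω g hg
      refine ⟨⟨i, hi⟩, ?_⟩
      apply Subtype.ext
      exact crep_eq ω h2 hω _ _ _ (hgRep i hi) hr
  rw [← Nat.card_congr (Equiv.ofBijective f hf), Nat.card_eq_fintype_card, Fintype.card_fin]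

omit [Fintype F] in
theorem jcD_le : jcD ω h2 hω ≤ threeJ3 F ω := by
  unfold jcD
  rw [Subgroup.closure_le]
  rintro x (rfl | hx)
  · exact gword_mem ω h2 hω _ (j3G_mem ω h2 hω) _
  · rw [Set.mem_singleton_iff] at hx
    subst hx
    exact gword_mem ω h2 hω _ (j3G_mem ω h2 hω) _

omit [Fintype F] in
/-- the subgroup centralises the involution -/
theorem jcD_comm (g : GL F9 F) (hg : g ∈ jcD ω h2 hω) :
    g * jcTg ω h2 hω = jcTg ω h2 hω * g := by
  have hT := crep_jcT ω h2 hω
  have hcen : jcD ω h2 hω ≤ Subgroup.centralizer {jcTg ω h2 hω} := by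
    unfold jcD
    rw [Subgroup.closure_le]
    rintro x (rfl | hx)
    · rw [SetLike.mem_coe, Subgroup.mem_centralizer_iff]
      intro y hy
      rw [Set.mem_singleton_iff] at hy
      subst hy
      have e1 := crep_cmul ω h2 hω _ _ _ _ (crep_jcA1 ω h2 hω) hT
      have e2 := crep_cmul ω h2 hω _ _ _ _ hT (crep_jcA1 ω h2 hω)
      rw [jcW_c1] at e1
      exact crep_eq ω h2 hω _ _ _ e2 e1
    · rw [Set.mem_singleton_iff] at hx
      subst hx
      rw [SetLike.mem_coe, Subgroup.mem_centralizer_iff]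
      intro y hy
      rw [Set.mem_singleton_iff] at hy
      subst hy
      have e1 := crep_cmul ω h2 hω _ _ _ _ (crep_jcA2 ω h2 hω) hT
      have e2 := crep_cmul ω h2 hω _ _ _ _ hT (crep_jcA2 ω h2 hω)
      rw [jcW_c2] at e1
      exact crep_eq ω h2 hω _ _ _ e2 e1
  have := Subgroup.mem_centralizer_iff.1 (hcen hg) _ (Set.mem_singleton _)
  exact this.symm

/-- the scalar is not in the subgroup -/
theorem jcD_not_scalar : gword ω h2 hω [7] ∉ jcD ω h2 hω := by
  intro hmem
  obtain ⟨i, hi, hr⟩ := jcD_mem ω h2 hω _ hmem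
  have hw : CRep ω h2 hω jcW (gword ω h2 hω [7]) := by
    rw [← jcW_W]
    exact crep_word ω h2 hω [7] (by decide)
  have e := crep_inj ω h2 hω _ _ (dLook_lt _) jcW_Wlt _ hr hw
  exact (dChkA_spec i hi).2.2.2.2 e

end

end Cfsg.Agent.Lib.helper4
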