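import Mathlib
import Cfsg.Agent.Lib.helper4.J3CSound

set_option autoImplicit false

/-! The subgroup of order 1920 centralising an involution in the triple cover of the third Janko
group: its involutions, its normal subgroup of order 32, and two elements generating a
complement. -/

namespace Cfsg.Agent.Lib.helper4

open Cfsg.Agent.Lib.Lead.F4 Cfsg.Spor Matrix
open scoped MatrixGroups

theorem cpack_lt (c0 c1 c2 c3 c4 c5 c6 c7 c8 : ℕ) (h0 : c0 < 262144) (h1 : c1 < 262144)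
    (h2 : c2 < 262144) (h3 : c3 < 262144) (h4 : c4 < 262144) (h5 : c5 < 262144)
    (h6 : c6 < 262144) (h7 : c7 < 262144) (h8 : c8 < 262144) :
    cpack c0 c1 c2 c3 c4 c5 c6 c7 c8 < 262144 ^ 9 := by
  rw [cpack_eq]
  norm_num
  omega

theorem cmul_lt (A B : ℕ) : cmul A B < 262144 ^ 9 := by
  unfold cmul cmap
  exact cpack_lt _ _ _ _ _ _ _ _ _ (capp_spec A _).1 (capp_spec A _).1 (capp_spec A _).1
    (capp_spec A _).1 (capp_spec A _).1 (capp_spec A _).1 (capp_spec A _).1 (capp_spec A _).1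
    (capp_spec A _).1

theorem csq_eq (A : ℕ) : csq A = cmul A A := by
  unfold csq
  rw [kforceNat_eq]

theorem cid_lt : cid < 262144 ^ 9 := by
  unfold cid
  exact cpack_lt _ _ _ _ _ _ _ _ _ (by norm_num) (by norm_num) (by norm_num) (by norm_num)
    (by norm_num) (by norm_num) (by norm_num) (by norm_num) (by norm_num)

section
variable {F : Type} [Field F] (ω : F) (h2 : (2 : F) = 0) (hω : ω * ω = ω + 1)

theorem crep_mat (C : ℕ) (g : GL F9 F) (h : CRep ω h2 hω C g) :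
    (g : Matrix F9 F9 F) = cmF ω h2 hω C := h

/-- the code of a product is the product of codes, the other way round -/
theorem crep_mul_eq (A B C : ℕ) (a b c : GL F9 F) (ha : CRep ω h2 hω A a) (hb : CRep ω h2 hω B b)
    (hc : CRep ω h2 hω C c) (h : cmul A B = C) : a * b = c :=
  crep_eq ω h2 hω C _ _ (h ▸ crep_cmul ω h2 hω A B a b ha hb) hc

/-- if the product is an element with a code then the codes agree -/
theorem crep_mul_code (A B C : ℕ) (a b c : GL F9 F) (ha : CRep ω h2 hω A a)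
    (hb : CRep ω h2 hω B b) (hc : CRep ω h2 hω C c) (hC : C < 262144 ^ 9) (h : a * b = c) :
    cmul A B = C := by
  have := crep_cmul ω h2 hω A B a b ha hb
  rw [h] at this
  exact crep_inj ω h2 hω _ _ (cmul_lt A B) hC c this hc

variable [Fintype F]

/-- the involutions of the subgroup are conjugate to the involution in the big group -/
theorem jcD_invol (g : GL F9 F) (hg : g ∈ jcD ω h2 hω) (hsq : g * g = 1) (h1 : g ≠ 1) :
    ∃ h ∈ threeJ3 F ω, h * g = jcTg ω h2 hω * h := by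
  obtain ⟨i, hi, hr⟩ := jcD_mem ω h2 hω g hg
  have hs : csq (dLook i) = cid := by
    rw [csq_eq]
    exact crep_mul_code ω h2 hω _ _ _ g g 1 hr hr (crep_one ω h2 hω) cid_lt hsq
  have hne : dLook i ≠ cid := by
    intro e
    rw [e] at hr
    exact h1 (crep_eq ω h2 hω _ _ _ hr (crep_one ω h2 hω))
  obtain ⟨j, r, hj, hr3, e⟩ := dChkC_spec i hi hs hne
  obtain ⟨d, hd, hdr⟩ := jcD_rep ω h2 hω j hj
  have hw : CRep ω h2 hω (cword (jcWi.getD r [])) (gword ω h2 hω (jcWi.getD r [])) :=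
    crep_word ω h2 hω _ (jcW_lW r hr3)
  refine ⟨gword ω h2 hω (jcWi.getD r []) * d,
    Subgroup.mul_mem _ (gword_mem ω h2 hω _ (j3G_mem ω h2 hω) _) (jcD_le ω h2 hω hd), ?_⟩
  apply Units.ext
  rw [Units.val_mul, Units.val_mul, Units.val_mul, Units.val_mul, crep_mat ω h2 hω _ _ hw,
    crep_mat ω h2 hω _ _ hdr, crep_mat ω h2 hω _ _ hr, crep_mat ω h2 hω _ _ (crep_jcT ω h2 hω)]
  rw [mul_assoc, ← cmF_cmul, e, cmF_cmul, ← mul_assoc, ← cmF_cmul, jcW_Wi r hr3, cmF_cmul,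
    mul_assoc]

/-- the elements with code in the list of the normal subgroup -/
def jcQS : Set (GL F9 F) := {g | ∃ c ∈ jcQ, CRep ω h2 hω c g}

omit [Fintype F] in
theorem jcQ_lt (c : ℕ) (hc : c ∈ jcQ) : c < 262144 ^ 9 := by
  unfold jcQ at hc
  obtain ⟨i, -, rfl⟩ := List.mem_map.1 hc
  exact dLook_lt i

omit [Fintype F] in
theorem jcQS_one : (1 : GL F9 F) ∈ jcQS ω h2 hω := ⟨cid, qChk1_spec.2.1, crep_one ω h2 hω⟩

omit [Fintype F] in
theorem jcQS_mul (a : GL F9 F) (ha : a ∈ jcQS ω h2 hω) (b : GL F9 F) (hb : b ∈ jcQS ω h2 hω) :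
    a * b ∈ jcQS ω h2 hω := by
  obtain ⟨A, hA, ra⟩ := ha
  obtain ⟨B, hB, rb⟩ := hb
  exact ⟨cmul A B, (qChk1_spec.2.2.2 A hA B hB).1, crep_cmul ω h2 hω _ _ _ _ ra rb⟩

/-- the normal subgroup of order 32 -/
def jcQG : Subgroup (GL F9 F) :=
  finSubgroup (jcQS ω h2 hω) (jcQS_one ω h2 hω) (jcQS_mul ω h2 hω)

theorem mem_jcQG (g : GL F9 F) : g ∈ jcQG ω h2 hω ↔ ∃ c ∈ jcQ, CRep ω h2 hω c g := Iff.rfl

theorem jcQG_le : jcQG ω h2 hω ≤ jcD ω h2 hω := by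
  rintro g ⟨c, hc, hr⟩
  unfold jcQ at hc
  obtain ⟨i, hi, rfl⟩ := List.mem_map.1 hc
  obtain ⟨g', hg', hr'⟩ := jcD_rep ω h2 hω i (qChk1_spec.1 i hi)
  rw [crep_eq ω h2 hω _ _ _ hr hr']
  exact hg'

theorem jcT_mem_Q : jcTg ω h2 hω ∈ jcQG ω h2 hω := ⟨jcT, qChk1_spec.2.2.1, crep_jcT ω h2 hω⟩

/-- commutators in the normal subgroup -/
theorem jcQG_comm (q : GL F9 F) (hq : q ∈ jcQG ω h2 hω) (r : GL F9 F) (hr : r ∈ jcQG ω h2 hω) :
    q * r = r * q ∨ q * r = jcTg ω h2 hω * (r * q) := by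
  obtain ⟨A, hA, ra⟩ := hq
  obtain ⟨B, hB, rb⟩ := hr
  rcases (qChk1_spec.2.2.2 A hA B hB).2 with e | e
  · left
    exact crep_mul_eq ω h2 hω _ _ _ _ _ _ ra rb (crep_cmul ω h2 hω _ _ _ _ rb ra) e
  · right
    exact crep_mul_eq ω h2 hω _ _ _ _ _ _ ra rb
      (crep_cmul ω h2 hω _ _ _ _ (crep_jcT ω h2 hω) (crep_cmul ω h2 hω _ _ _ _ rb ra)) e

/-- squares in the normal subgroup -/
theorem jcQG_sq (q : GL F9 F) (hq : q ∈ jcQG ω h2 hω) :
    q * q = 1 ∨ q * q = jcTg ω h2 hω := by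
  obtain ⟨A, hA, ra⟩ := hq
  rcases (qChk2_spec A hA).2.1 with e | e
  · left
    rw [csq_eq] at e
    exact crep_mul_eq ω h2 hω _ _ _ _ _ _ ra ra (crep_one ω h2 hω) e
  · right
    rw [csq_eq] at e
    exact crep_mul_eq ω h2 hω _ _ _ _ _ _ ra ra (crep_jcT ω h2 hω) e

/-- the centre of the normal subgroup -/
theorem jcQG_center (q : GL F9 F) (hq : q ∈ jcQG ω h2 hω)
    (hc : ∀ r ∈ jcQG ω h2 hω, q * r = r * q) : q = 1 ∨ q = jcTg ω h2 hω := by
  obtain ⟨A, hA, ra⟩ := hq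
  rcases (qChk2_spec A hA).2.2 with e | e | ⟨B, hB, e⟩
  · left
    rw [e] at ra
    exact crep_eq ω h2 hω _ _ _ ra (crep_one ω h2 hω)
  · right
    rw [e] at ra
    exact crep_eq ω h2 hω _ _ _ ra (crep_jcT ω h2 hω)
  · exfalso
    apply e
    unfold jcQ at hB
    obtain ⟨i, hi, rfl⟩ := List.mem_map.1 hB
    obtain ⟨r, hr, rr⟩ := jcD_rep ω h2 hω i (qChk1_spec.1 i hi)
    have hrQ : r ∈ jcQG ω h2 hω := ⟨dLook i, List.mem_map.2 ⟨i, hi, rfl⟩, rr⟩
    exact crep_mul_code ω h2 hω _ _ _ _ _ _ ra rr (crep_cmul ω h2 hω _ _ _ _ rr ra)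
      (cmul_lt _ _) (hc r hrQ)

/-- the normal subgroup is not commutative -/
theorem jcQG_nonab : ∃ q ∈ jcQG ω h2 hω, ∃ r ∈ jcQG ω h2 hω, q * r ≠ r * q := by
  obtain ⟨A, hA, B, hB, e⟩ := qChk5_spec
  have key : ∀ c ∈ jcQ, ∃ g, g ∈ jcQG ω h2 hω ∧ CRep ω h2 hω c g := by
    intro c hc
    have hc' := hc
    unfold jcQ at hc
    obtain ⟨i, hi, rfl⟩ := List.mem_map.1 hc
    obtain ⟨r, -, rr⟩ := jcD_rep ω h2 hω i (qChk1_spec.1 i hi)
    exact ⟨r, ⟨dLook i, hc', rr⟩, rr⟩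
  obtain ⟨q, hq, rq⟩ := key A hA
  obtain ⟨r, hr, rr⟩ := key B hB
  refine ⟨q, hq, r, hr, fun h => e ?_⟩
  exact crep_mul_code ω h2 hω _ _ _ _ _ _ rq rr (crep_cmul ω h2 hω _ _ _ _ rr rq)
    (cmul_lt _ _) h

/-- commuting involutions of the normal subgroup -/
theorem jcQG_elem (q : GL F9 F) (hq : q ∈ jcQG ω h2 hω) (r : GL F9 F) (hr : r ∈ jcQG ω h2 hω)
    (hqq : q * q = 1) (hrr : r * r = 1) (hqr : q * r = r * q) :
    q = 1 ∨ q = jcTg ω h2 hω ∨ r = 1 ∨ r = jcTg ω h2 hω ∨ r = q ∨ r = q * jcTg ω h2 hω := by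
  obtain ⟨A, hA, ra⟩ := hq
  obtain ⟨B, hB, rb⟩ := hr
  have e1 : csq A = cid := by
    rw [csq_eq]
    exact crep_mul_code ω h2 hω _ _ _ _ _ _ ra ra (crep_one ω h2 hω) cid_lt hqq
  have e2 : csq B = cid := by
    rw [csq_eq]
    exact crep_mul_code ω h2 hω _ _ _ _ _ _ rb rb (crep_one ω h2 hω) cid_lt hrr
  have e3 : cmul A B = cmul B A :=
    crep_mul_code ω h2 hω _ _ _ _ _ _ ra rb (crep_cmul ω h2 hω _ _ _ _ rb ra) (cmul_lt _ _) hqr
  rcases qChk3_spec A hA B hB e1 e2 e3 with e | e | e | e | e | e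
  · left
    rw [e] at ra
    exact crep_eq ω h2 hω _ _ _ ra (crep_one ω h2 hω)
  · right; left
    rw [e] at ra
    exact crep_eq ω h2 hω _ _ _ ra (crep_jcT ω h2 hω)
  · right; right; left
    rw [e] at rb
    exact crep_eq ω h2 hω _ _ _ rb (crep_one ω h2 hω)
  · right; right; right; left
    rw [e] at rb
    exact crep_eq ω h2 hω _ _ _ rb (crep_jcT ω h2 hω)
  · right; right; right; right; left
    rw [e] at rb
    exact crep_eq ω h2 hω _ _ _ rb ra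
  · right; right; right; right; right
    rw [e] at rb
    exact crep_eq ω h2 hω _ _ _ rb (crep_cmul ω h2 hω _ _ _ _ ra (crep_jcT ω h2 hω))

end

end Cfsg.Agent.Lib.helper4
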