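import Mathlib
import Cfsg.Agent.Lib.helper4.J3CQ

set_option autoImplicit false

/-! The normal subgroup of order 32 of the centraliser of an involution in the triple cover of
the third Janko group: normality and order; two elements generating a complement. -/

namespace Cfsg.Agent.Lib.helper4

open Cfsg.Agent.Lib.Lead.F4 Cfsg.Spor Matrix
open scoped MatrixGroups

theorem jcInvWord_lt (w : List ℕ) : ∀ l ∈ w.reverse.map fun l => Nat.mod (Nat.add l 8) 16,
    l < 16 := by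
  intro l hl
  obtain ⟨k, -, rfl⟩ := List.mem_map.1 hl
  exact Nat.mod_lt _ (by norm_num)

section
variable {F : Type} [Field F] [Fintype F] (ω : F) (h2 : (2 : F) = 0) (hω : ω * ω = ω + 1)

/-- every code of the list is the code of an element of the normal subgroup -/
theorem jcQ_rep (c : ℕ) (hc : c ∈ jcQ) : ∃ g, g ∈ jcQG ω h2 hω ∧ CRep ω h2 hω c g := by
  have hc' := hc
  unfold jcQ at hc
  obtain ⟨i, hi, rfl⟩ := List.mem_map.1 hc
  obtain ⟨r, -, rr⟩ := jcD_rep ω h2 hω i (qChk1_spec.1 i hi)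
  exact ⟨r, ⟨dLook i, hc', rr⟩, rr⟩

theorem jcQG_normalizer (g gi : GL F9 F) (G Gi : ℕ) (hg : CRep ω h2 hω G g)
    (hgi : CRep ω h2 hω Gi gi) (hinv : cmul G Gi = cid)
    (h1 : ∀ a ∈ jcQ, ∃ b ∈ jcQ, cmul G a = cmul b G)
    (h3 : ∀ a ∈ jcQ, ∃ b ∈ jcQ, cmul Gi a = cmul b Gi) :
    g ∈ Subgroup.normalizer (jcQG ω h2 hω : Set (GL F9 F)) := by
  have hgi' : g * gi = 1 := crep_mul_eq ω h2 hω _ _ _ _ _ _ hg hgi (crep_one ω h2 hω) hinv
  have hgi'' : gi = g⁻¹ := (inv_eq_of_mul_eq_one_right hgi').symm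
  rw [Subgroup.mem_normalizer_iff]
  intro h
  constructor
  · rintro ⟨A, hA, ra⟩
    obtain ⟨B, hB, e⟩ := h1 A hA
    obtain ⟨b, hb, rb⟩ := jcQ_rep ω h2 hω B hB
    have : g * h = b * g :=
      crep_mul_eq ω h2 hω _ _ _ _ _ _ hg ra (crep_cmul ω h2 hω _ _ _ _ rb hg) e
    rw [this, mul_assoc, mul_inv_cancel, mul_one]
    exact hb
  · rintro ⟨A, hA, ra⟩
    obtain ⟨B, hB, e⟩ := h3 A hA
    obtain ⟨b, hb, rb⟩ := jcQ_rep ω h2 hω B hB
    have : gi * (g * h * g⁻¹) = b * gi :=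
      crep_mul_eq ω h2 hω _ _ _ _ _ _ hgi ra (crep_cmul ω h2 hω _ _ _ _ rb hgi) e
    rw [hgi''] at this
    have e2 : h = b := by
      have e3 : g⁻¹ * (g * h * g⁻¹) = h * g⁻¹ := by group
      rw [e3] at this
      exact mul_right_cancel this
    rw [e2]
    exact hb

/-- the subgroup of order 1920 normalises the subgroup of order 32 -/
theorem jcQG_conj (d : GL F9 F) (hd : d ∈ jcD ω h2 hω) (q : GL F9 F) (hq : q ∈ jcQG ω h2 hω) :
    d * q * d⁻¹ ∈ jcQG ω h2 hω := by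
  have hle : jcD ω h2 hω ≤ Subgroup.normalizer (jcQG ω h2 hω : Set (GL F9 F)) := by
    unfold jcD
    rw [Subgroup.closure_le]
    rintro x (rfl | hx)
    · refine jcQG_normalizer ω h2 hω _ _ jcA1 jcA1i (crep_jcA1 ω h2 hω)
        (crep_word ω h2 hω _ (jcInvWord_lt jcGw1)) jcW_i1 ?_ ?_
      · exact qChk4_spec jcA1 (by simp)
      · exact qChk4_spec jcA1i (by simp)
    · rw [Set.mem_singleton_iff] at hx
      subst hx
      refine jcQG_normalizer ω h2 hω _ _ jcA2 jcA2i (crep_jcA2 ω h2 hω)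
        (crep_word ω h2 hω _ (jcInvWord_lt jcGw2)) jcW_i2 ?_ ?_
      · exact qChk4_spec jcA2 (by simp)
      · exact qChk4_spec jcA2i (by simp)
  exact (Subgroup.mem_normalizer_iff.1 (hle hd) q).1 hq

/-- the order of the normal subgroup -/
theorem jcQG_card : Nat.card (jcQG ω h2 hω) = 32 := by
  have hrep := jcQ_rep ω h2 hω
  choose! gOf hgOf hgRep using hrep
  have hlen := jcW_len
  let f : Fin 32 → jcQG ω h2 hω := fun k =>
    ⟨gOf (jcQ.get ⟨k.1, by rw [hlen]; exact k.2⟩), hgOf _ (List.get_mem _ _)⟩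
  have hf : Function.Bijective f := by
    constructor
    · intro i j hij
      have e : gOf (jcQ.get ⟨i.1, by rw [hlen]; exact i.2⟩) =
          gOf (jcQ.get ⟨j.1, by rw [hlen]; exact j.2⟩) := congrArg Subtype.val hij
      have h1 := hgRep _ (List.get_mem jcQ ⟨i.1, by rw [hlen]; exact i.2⟩)
      have h3 := hgRep _ (List.get_mem jcQ ⟨j.1, by rw [hlen]; exact j.2⟩)
      rw [e] at h1
      have e2 := crep_inj ω h2 hω _ _ (jcQ_lt _ (List.get_mem _ _)) (jcQ_lt _ (List.get_mem _ _))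
        _ h1 h3
      have e3 := (List.Nodup.get_inj_iff jcW_nd).1 e2
      apply Fin.ext
      exact congrArg Fin.val e3
    · rintro ⟨g, c, hc, hr⟩
      obtain ⟨k, hk⟩ := List.mem_iff_get.1 hc
      refine ⟨⟨k.1, by rw [← hlen]; exact k.2⟩, ?_⟩
      apply Subtype.ext
      show gOf (jcQ.get ⟨k.1, _⟩) = g
      have : jcQ.get ⟨k.1, k.2⟩ = c := hk
      have h1 := hgRep _ (List.get_mem jcQ k)
      rw [hk] at h1
      have e4 : gOf (jcQ.get ⟨k.1, k.2⟩) = gOf c := by rw [this]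
      rw [e4]
      exact crep_eq ω h2 hω _ _ _ h1 hr
  rw [← Nat.card_congr (Equiv.ofBijective f hf), Nat.card_eq_fintype_card, Fintype.card_fin]

/-- two elements of the subgroup of order 1920 generating a complement -/
theorem jcD_xy : ∃ x ∈ jcD ω h2 hω, ∃ y ∈ jcD ω h2 hω,
    x ^ 3 = 1 ∧ y ^ 5 = 1 ∧ (x * y) ^ 2 = 1 ∧ x ≠ 1 := by
  obtain ⟨hx, hy, e1, e2, e3, e4⟩ := jcXY_spec
  obtain ⟨x, hxD, rx⟩ := jcD_rep ω h2 hω jcIX hx
  obtain ⟨y, hyD, ry⟩ := jcD_rep ω h2 hω jcIY hy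
  refine ⟨x, hxD, y, hyD, ?_, ?_, ?_, ?_⟩
  · have h1 : CRep ω h2 hω (csq (dLook jcIX)) (x * x) := by
      rw [csq_eq]
      exact crep_cmul ω h2 hω _ _ _ _ rx rx
    have h3 := crep_mul_eq ω h2 hω _ _ _ _ _ _ rx h1 (crep_one ω h2 hω) e1
    rw [← h3, pow_succ, pow_two, mul_assoc]
  · have h1 : CRep ω h2 hω (csq (dLook jcIY)) (y * y) := by
      rw [csq_eq]
      exact crep_cmul ω h2 hω _ _ _ _ ry ry
    have h1' : CRep ω h2 hω (csq (csq (dLook jcIY))) (y * y * (y * y)) := by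
      rw [csq_eq]
      exact crep_cmul ω h2 hω _ _ _ _ h1 h1
    have h3 := crep_mul_eq ω h2 hω _ _ _ _ _ _ ry h1' (crep_one ω h2 hω) e3
    rw [← h3]
    simp only [pow_succ, pow_zero, one_mul, mul_assoc]
  · have h1 : CRep ω h2 hω (csq (cmul (dLook jcIX) (dLook jcIY))) (x * y * (x * y)) := by
      rw [csq_eq]
      exact crep_cmul ω h2 hω _ _ _ _ (crep_cmul ω h2 hω _ _ _ _ rx ry)
        (crep_cmul ω h2 hω _ _ _ _ rx ry)
    rw [e4] at h1
    rw [pow_two]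
    exact crep_eq ω h2 hω _ _ _ h1 (crep_one ω h2 hω)
  · intro h
    rw [h] at rx
    exact e2 (crep_inj ω h2 hω _ _ (dLook_lt _) cid_lt _ rx (crep_one ω h2 hω))

end

end Cfsg.Agent.Lib.helper4
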