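import Mathlib
import Cfsg.Agent.Lib.helper4.J3CIChk0
import Cfsg.Agent.Lib.helper4.J3CIChk1
import Cfsg.Agent.Lib.helper4.J3CIChk2
import Cfsg.Agent.Lib.helper4.J3CIChk3
import Cfsg.Agent.Lib.helper4.J3CIChkS
import Cfsg.Agent.Lib.helper4.J3CQ2

set_option autoImplicit false

/-! The class of involutions of the triple cover of the third Janko group: 26163 different
conjugates of the involution. -/

namespace Cfsg.Agent.Lib.helper4

open Cfsg.Agent.Lib.Lead.F4 Cfsg.Spor Matrix
open scoped MatrixGroups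

theorem iLook_lt (i : ℕ) : iLook i < 262144 ^ 9 := by
  have := ktab16_lt jcIT 162 5846006549323611672814739330865132078623730171903 i
  unfold iLook
  have e : (262144 : ℕ) ^ 9 = 5846006549323611672814739330865132078623730171904 := by norm_num
  rw [e]
  omega

theorem iLook_succ (i : ℕ) (hi : i < 26162) : iLook i < iLook (i + 1) := by
  have h := krangeAll_spec _ _ _ jcIChkS i (Nat.zero_le _) (by omega)
  unfold iChkS at h
  exact Nat.le_of_ble_eq_true h

theorem iLook_mono (i j : ℕ) (hij : i < j) (hj : j < 26163) : iLook i < iLook j := by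
  induction j with
  | zero => omega
  | succ j ih =>
    rcases Nat.lt_succ_iff_lt_or_eq.1 hij with h | h
    · exact lt_trans (ih h (by omega)) (iLook_succ j (by omega))
    · rw [h]
      exact iLook_succ j (by omega)

theorem iLook_inj (i j : ℕ) (hi : i < 26163) (hj : j < 26163) (h : iLook i = iLook j) :
    i = j := by
  rcases lt_trichotomy i j with h1 | h1 | h1
  · exact absurd h (ne_of_lt (iLook_mono i j h1 hj))
  · exact h1
  · exact absurd h.symm (ne_of_lt (iLook_mono j i h1 hi))

theorem iChk_all (i : ℕ) (hi : i < 26163) : iChk i = true := by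
  by_cases h0 : i < 6541
  · exact krangeAll_spec _ _ _ jcIChk0 i (by omega) (by omega)
  by_cases h1 : i < 13082
  · exact krangeAll_spec _ _ _ jcIChk1 i (by omega) (by omega)
  by_cases h3 : i < 19623
  · exact krangeAll_spec _ _ _ jcIChk2 i (by omega) (by omega)
  · exact krangeAll_spec _ _ _ jcIChk3 i (by omega) (by omega)

theorem iChk_spec (i : ℕ) (hi : i < 26163) : iLook i = jcT ∨ ∃ p l, p < 26163 ∧ l < 7 ∧
    iDep p < iDep i ∧ cletter l (iLook p) = cmul (iLook i) (cword [l]) := by
  have h := iChk_all i hi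
  unfold iChk at h
  rw [kforceNat_eq, Bool.or_eq_true] at h
  rcases h with h | h
  · left
    exact Nat.eq_of_beq_eq_true h
  · right
    rw [kforceNat_eq, kforceNat_eq, kforceNat_eq, Bool.and_eq_true, Bool.and_eq_true,
      Bool.and_eq_true] at h
    obtain ⟨h1, h2, h3, h4⟩ := h
    have hl : Nat.mod (Nat.div (ipLook i) 32768) 16 < 7 := Nat.le_of_ble_eq_true h2
    refine ⟨_, _, Nat.le_of_ble_eq_true h1, hl, Nat.le_of_ble_eq_true h3, ?_⟩
    rw [← jcLet_chk _ hl]
    exact Nat.eq_of_beq_eq_true h4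

section
variable {F : Type} [Field F] (ω : F) (h2 : (2 : F) = 0) (hω : ω * ω = ω + 1)

/-- every listed code is the code of a conjugate of the involution -/
theorem jcI_rep (i : ℕ) (hi : i < 26163) :
    ∃ g ∈ threeJ3 F ω, CRep ω h2 hω (iLook i) (g * jcTg ω h2 hω * g⁻¹) := by
  induction' hd : iDep i using Nat.strong_induction_on with d ih generalizing i
  rcases iChk_spec i hi with h0 | ⟨p, l, hp, hl, hdep, e⟩
  · refine ⟨1, Subgroup.one_mem _, ?_⟩
    rw [h0, one_mul, inv_one, mul_one]
    exact crep_jcT ω h2 hω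
  · obtain ⟨g, hg, hr⟩ := ih (iDep p) (by omega) p hp rfl
    have hL : j3L ω h2 hω l ∈ threeJ3 F ω := by
      rw [j3L_of_lt ω h2 hω l (by omega)]
      exact j3G_mem ω h2 hω l (by omega)
    refine ⟨j3L ω h2 hω l * g, Subgroup.mul_mem _ hL hg, ?_⟩
    have h1 := crep_cletter ω h2 hω l (by omega) _ _ hr
    rw [e] at h1
    have hw : CRep ω h2 hω (cword [l]) (j3L ω h2 hω l) := by
      have := crep_word ω h2 hω [l] (by intro k hk; rw [List.mem_singleton] at hk; omega)
      simpa [gword] using this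
    -- the matrix of `L * x_p` is `cmF (iLook i) * L`
    have h3 : ((j3L ω h2 hω l * (g * jcTg ω h2 hω * g⁻¹) : GL F9 F) : Matrix F9 F9 F) =
        cmF ω h2 hω (iLook i) * (j3L ω h2 hω l : Matrix F9 F9 F) := by
      rw [crep_mat ω h2 hω _ _ h1, cmF_cmul, ← crep_mat ω h2 hω _ _ hw]
    show ((j3L ω h2 hω l * g * jcTg ω h2 hω * (j3L ω h2 hω l * g)⁻¹ : GL F9 F) :
      Matrix F9 F9 F) = cmF ω h2 hω (iLook i)
    have e5 : j3L ω h2 hω l * g * jcTg ω h2 hω * (j3L ω h2 hω l * g)⁻¹ =
        (j3L ω h2 hω l * (g * jcTg ω h2 hω * g⁻¹)) * (j3L ω h2 hω l)⁻¹ := by group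
    rw [e5, Units.val_mul, h3, mul_assoc, ← Units.val_mul, mul_inv_cancel, Units.val_one, mul_one]

end

end Cfsg.Agent.Lib.helper4
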