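import Mathlib
import Cfsg.Agent.Lib.helper4.J3CI
import Cfsg.Agent.Lib.helper4.J3CAbs
import Cfsg.Agent.Lib.helper4.J3CSyl

set_option autoImplicit false

/-! The centraliser of an involution in a central quotient of the triple cover of the third
Janko group. -/

namespace Cfsg.Agent.Lib.helper4

open Cfsg.Agent.Lib.Lead.F4 Cfsg.Spor Matrix
open scoped MatrixGroups

theorem jcT_sq_chk : cmul jcT jcT = cid ∧ jcT ≠ cid := by decide +kernel

section
variable {F : Type} [Field F] [Fintype F] (ω : F) (h2 : (2 : F) = 0) (hω : ω * ω = ω + 1)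

omit [Fintype F] in
theorem jcTg_mem : jcTg ω h2 hω ∈ threeJ3 F ω :=
  gword_mem ω h2 hω _ (j3G_mem ω h2 hω) _

omit [Fintype F] in
theorem jcTg_sq : jcTg ω h2 hω * jcTg ω h2 hω = 1 :=
  crep_mul_eq ω h2 hω _ _ _ _ _ _ (crep_jcT ω h2 hω) (crep_jcT ω h2 hω) (crep_one ω h2 hω)
    jcT_sq_chk.1

omit [Fintype F] in
theorem jcTg_ne : jcTg ω h2 hω ≠ 1 := by
  intro h
  have h1 := crep_jcT ω h2 hω
  rw [h] at h1
  exact jcT_sq_chk.2 (crep_inj ω h2 hω _ _ jcW_Tlt cid_lt _ h1 (crep_one ω h2 hω))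

theorem jcTg_memD : jcTg ω h2 hω ∈ jcD ω h2 hω := jcQG_le ω h2 hω (jcT_mem_Q ω h2 hω)

omit [Fintype F] in
theorem gword7 : gword ω h2 hω [7] = j3G ω h2 hω 7 := by
  show j3L ω h2 hω 7 * 1 = _
  rw [mul_one, j3L_of_lt ω h2 hω 7 (by norm_num)]

/-- an element of the subgroup of order 1920 that is central in the big group is trivial -/
theorem jcD_center (hF : Fintype.card F = 4) (d : GL F9 F) (hd : d ∈ jcD ω h2 hω)
    (hc : (⟨d, jcD_le ω h2 hω hd⟩ : threeJ3 F ω) ∈ Subgroup.center (threeJ3 F ω)) : d = 1 := by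
  set zw : threeJ3 F ω := ⟨j3G ω h2 hω 7, j3G_mem ω h2 hω 7 (by norm_num)⟩ with hzw
  have hz3 : orderOf zw = 3 := by
    have := j3_center_card ω h2 hω hF
    rw [j3_center_eq ω h2 hω hF, Nat.card_zpowers] at this
    exact this
  have hzz : zw ^ 3 = 1 := by
    have := pow_orderOf_eq_one zw
    rwa [hz3] at this
  rw [j3_center_eq ω h2 hω hF, Subgroup.mem_zpowers_iff] at hc
  obtain ⟨k, hk⟩ := hc
  have hk' := zpow_mod_orderOf zw k
  rw [hz3, hk] at hk'
  have h0 : 0 ≤ k % ((3 : ℕ) : ℤ) := Int.emod_nonneg _ (by norm_num)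
  have h3 : k % ((3 : ℕ) : ℤ) < 3 := Int.emod_lt_of_pos _ (by norm_num)
  generalize k % ((3 : ℕ) : ℤ) = r at hk' h0 h3
  have hnot := jcD_not_scalar ω h2 hω
  rw [gword7] at hnot
  interval_cases r
  · rw [zpow_zero] at hk'
    exact (congrArg (fun x : threeJ3 F ω => (x : GL F9 F)) hk').symm
  · exfalso
    rw [zpow_one] at hk'
    have : j3G ω h2 hω 7 = d := congrArg (fun x : threeJ3 F ω => (x : GL F9 F)) hk'
    rw [this] at hnot
    exact hnot hd
  · exfalso
    have e : zw ^ (2 : ℤ) * zw ^ (2 : ℤ) = zw := by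
      rw [← _root_.zpow_add]
      show zw ^ (4 : ℤ) = zw
      have : zw ^ (4 : ℤ) = zw ^ 3 * zw := by
        rw [← zpow_natCast, ← _root_.zpow_add_one]
        norm_num
      rw [this, hzz, one_mul]
    rw [hk'] at e
    have : d * d = j3G ω h2 hω 7 := congrArg (fun x : threeJ3 F ω => (x : GL F9 F)) e
    rw [← this] at hnot
    exact hnot (Subgroup.mul_mem _ hd hd)

variable {G : Type*} [Group G] (Ψ : threeJ3 F ω →* G)

/-- the map from the subgroup of order 1920 -/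
def jcΦ : jcD ω h2 hω →* G := Ψ.comp (Subgroup.inclusion (jcD_le ω h2 hω))

omit [Fintype F] in
theorem jcΦ_apply (d : jcD ω h2 hω) :
    jcΦ ω h2 hω Ψ d = Ψ ⟨d.1, jcD_le ω h2 hω d.2⟩ := rfl

/-- the image of the involution -/
noncomputable def jcTG : G := Ψ ⟨jcTg ω h2 hω, jcTg_mem ω h2 hω⟩

theorem jcΦ_inj (hF : Fintype.card F = 4) (hk : Ψ.ker = Subgroup.center (threeJ3 F ω)) :
    Function.Injective (jcΦ ω h2 hω Ψ) := by
  rw [injective_iff_map_eq_one]
  intro d hd
  rw [jcΦ_apply, ← MonoidHom.mem_ker, hk] at hd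
  apply Subtype.ext
  exact jcD_center ω h2 hω hF d.1 d.2 hd

include h2 hω in
theorem jcG_card (hF : Fintype.card F = 4) (hs : Function.Surjective Ψ)
    (hk : Ψ.ker = Subgroup.center (threeJ3 F ω)) : Nat.card G = 50232960 := by
  have e := QuotientGroup.quotientKerEquivOfSurjective Ψ hs
  have h := Subgroup.card_eq_card_quotient_mul_card_subgroup Ψ.ker
  rw [Nat.card_congr e.toEquiv, threeJ3_card ω h2 hω hF, hk, j3_center_card ω h2 hω hF] at h
  omega

omit [Fintype F] in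
theorem jcTG_sq : jcTG ω h2 hω Ψ * jcTG ω h2 hω Ψ = 1 := by
  unfold jcTG
  rw [← map_mul]
  have : (⟨jcTg ω h2 hω, jcTg_mem ω h2 hω⟩ : threeJ3 F ω) * ⟨jcTg ω h2 hω, jcTg_mem ω h2 hω⟩ = 1 :=
    Subtype.ext (jcTg_sq ω h2 hω)
  rw [this, map_one]

theorem jcTG_ne (hF : Fintype.card F = 4) (hk : Ψ.ker = Subgroup.center (threeJ3 F ω)) :
    jcTG ω h2 hω Ψ ≠ 1 := by
  intro h
  unfold jcTG at h
  rw [← MonoidHom.mem_ker, hk] at h
  exact jcTg_ne ω h2 hω (jcD_center ω h2 hω hF _ (jcTg_memD ω h2 hω) h)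

theorem jcTG_order (hF : Fintype.card F = 4) (hk : Ψ.ker = Subgroup.center (threeJ3 F ω)) :
    orderOf (jcTG ω h2 hω Ψ) = 2 := by
  have : Fact (Nat.Prime 2) := ⟨Nat.prime_two⟩
  apply orderOf_eq_prime
  · rw [pow_two]
    exact jcTG_sq ω h2 hω Ψ
  · exact jcTG_ne ω h2 hω Ψ hF hk

omit [Fintype F] in
/-- the image of the subgroup of order 1920 centralises the image of the involution -/
theorem jcΦ_cent (d : jcD ω h2 hω) :
    jcΦ ω h2 hω Ψ d ∈ Subgroup.centralizer ({jcTG ω h2 hω Ψ} : Set G) := by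
  rw [Subgroup.mem_centralizer_iff]
  intro y hy
  rw [Set.mem_singleton_iff] at hy
  subst hy
  rw [jcΦ_apply]
  unfold jcTG
  rw [← map_mul, ← map_mul]
  congr 1
  apply Subtype.ext
  exact (jcD_comm ω h2 hω d.1 d.2).symm

include h2 hω in
/-- elements of square one of the big group with the same image are equal -/
theorem jcInv_inj (hF : Fintype.card F = 4) (hk : Ψ.ker = Subgroup.center (threeJ3 F ω))
    (u v : threeJ3 F ω) (hu : u * u = 1) (hv : v * v = 1) (h : Ψ u = Ψ v) : u = v := by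
  have hsc : u⁻¹ * v ∈ Subgroup.center (threeJ3 F ω) := by
    rw [← hk, MonoidHom.mem_ker, map_mul, map_inv, h, inv_mul_cancel]
  set s := u⁻¹ * v with hs
  have hvs : v = u * s := by rw [hs]; group
  have hcomm : ∀ g : threeJ3 F ω, g * s = s * g := fun g => Subgroup.mem_center_iff.1 hsc g
  have hss : s * s = 1 := by
    have e : v * v = u * u * (s * s) := by
      rw [hvs]
      calc u * s * (u * s) = u * (s * u) * s := by group
        _ = u * (u * s) * s := by rw [hcomm u]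
        _ = u * u * (s * s) := by group
    rw [hv, hu, one_mul] at e
    exact e.symm
  have hs3 : s ^ 3 = 1 := by
    have := pow_card_eq_one' (G := Subgroup.center (threeJ3 F ω)) (x := ⟨s, hsc⟩)
    rw [j3_center_card ω h2 hω hF] at this
    exact congrArg Subtype.val this
  have hs1 : s = 1 := by
    calc s = s ^ 3 * (s * s)⁻¹ := by group
      _ = 1 := by rw [hs3, hss]; simp
  rw [hvs, hs1, mul_one]

/-- the centraliser of the image of the involution has at most 1920 elements -/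
theorem jcC_card_le (hF : Fintype.card F = 4) (hs : Function.Surjective Ψ)
    (hk : Ψ.ker = Subgroup.center (threeJ3 F ω)) :
    Nat.card (Subgroup.centralizer ({jcTG ω h2 hω Ψ} : Set G)) ≤ 1920 := by
  have hGfin : Finite G := Finite.of_surjective Ψ hs
  have hrep := jcI_rep ω h2 hω
  choose! gI hgI hrI using hrep
  set t := jcTG ω h2 hω Ψ with ht
  set C := Subgroup.centralizer ({t} : Set G) with hC
  let tt : threeJ3 F ω := ⟨jcTg ω h2 hω, jcTg_mem ω h2 hω⟩
  have htt : tt * tt = 1 := Subtype.ext (jcTg_sq ω h2 hω)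
  let gg : Fin 26163 → threeJ3 F ω := fun i => ⟨gI i.1, hgI i.1 i.2⟩
  let f : Fin 26163 → G ⧸ C := fun i => ((Ψ (gg i) : G) : G ⧸ C)
  have hf : Function.Injective f := by
    intro i j hij
    have h1 : (Ψ (gg i))⁻¹ * Ψ (gg j) ∈ C := QuotientGroup.eq.1 hij
    have h3 := (Subgroup.mem_centralizer_iff.1 h1) t rfl
    have h4 : Ψ (gg i * tt * (gg i)⁻¹) = Ψ (gg j * tt * (gg j)⁻¹) := by
      simp only [map_mul, map_inv]
      have e : Ψ tt = t := rfl
      rw [e]
      calc Ψ (gg i) * t * (Ψ (gg i))⁻¹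
          = Ψ (gg i) * (t * ((Ψ (gg i))⁻¹ * Ψ (gg j))) * (Ψ (gg j))⁻¹ := by group
        _ = Ψ (gg i) * ((Ψ (gg i))⁻¹ * Ψ (gg j) * t) * (Ψ (gg j))⁻¹ := by rw [h3]
        _ = Ψ (gg j) * t * (Ψ (gg j))⁻¹ := by group
    have hsq : ∀ g : threeJ3 F ω, (g * tt * g⁻¹) * (g * tt * g⁻¹) = 1 := by
      intro g
      calc (g * tt * g⁻¹) * (g * tt * g⁻¹) = g * (tt * tt) * g⁻¹ := by group
        _ = 1 := by rw [htt]; group
    have h5 := jcInv_inj ω h2 hω Ψ hF hk _ _ (hsq (gg i)) (hsq (gg j)) h4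
    have h6 : gI i.1 * jcTg ω h2 hω * (gI i.1)⁻¹ = gI j.1 * jcTg ω h2 hω * (gI j.1)⁻¹ :=
      congrArg (fun x : threeJ3 F ω => (x : GL F9 F)) h5
    have r1 := hrI i.1 i.2
    have r2 := hrI j.1 j.2
    rw [h6] at r1
    apply Fin.ext
    exact iLook_inj _ _ i.2 j.2 (crep_inj ω h2 hω _ _ (iLook_lt _) (iLook_lt _) _ r1 r2)
  have hle : 26163 ≤ C.index := by
    have := Nat.card_le_card_of_injective f hf
    rw [Nat.card_fin] at this
    exact this
  have hmul := Subgroup.card_mul_index C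
  rw [jcG_card ω h2 hω Ψ hF hs hk] at hmul
  have := Nat.mul_le_mul_left (Nat.card C) hle
  omega

end

end Cfsg.Agent.Lib.helper4
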