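import Mathlib
import Cfsg.Agent.Lib.helper4.J3CMain

set_option autoImplicit false

/-! The centraliser of an involution in a central quotient of the triple cover of the third
Janko group: its order, the conjugacy of involutions, and its shape. -/

namespace Cfsg.Agent.Lib.helper4

open Cfsg.Agent.Lib.Lead.F4 Cfsg.Spor Matrix
open scoped MatrixGroups

theorem jcFact2 : (50232960 : ℕ).factorization 2 = 7 := by
  have e : (50232960 : ℕ) = 2 ^ 7 * 392445 := by norm_num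
  rw [e, Nat.factorization_mul (by norm_num) (by norm_num),
    Nat.Prime.factorization_pow Nat.prime_two]
  have : (392445 : ℕ).factorization 2 = 0 := Nat.factorization_eq_zero_of_not_dvd (by norm_num)
  simp [this]

section
variable {F : Type} [Field F] [Fintype F] (ω : F) (h2 : (2 : F) = 0) (hω : ω * ω = ω + 1)
variable {G : Type*} [Group G] (Ψ : threeJ3 F ω →* G)

/-- the centraliser is the image of the subgroup of order 1920 -/
theorem jcΦ_range (hF : Fintype.card F = 4) (hs : Function.Surjective Ψ)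
    (hk : Ψ.ker = Subgroup.center (threeJ3 F ω)) :
    (jcΦ ω h2 hω Ψ).range = Subgroup.centralizer ({jcTG ω h2 hω Ψ} : Set G) ∧
      Nat.card (Subgroup.centralizer ({jcTG ω h2 hω Ψ} : Set G)) = 1920 := by
  have hGfin : Finite G := Finite.of_surjective Ψ hs
  have hle : (jcΦ ω h2 hω Ψ).range ≤ Subgroup.centralizer ({jcTG ω h2 hω Ψ} : Set G) := by
    rintro _ ⟨d, rfl⟩
    exact jcΦ_cent ω h2 hω Ψ d
  have hcr : Nat.card (jcΦ ω h2 hω Ψ).range = 1920 := by
    rw [← jcD_card ω h2 hω]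
    exact (Nat.card_congr (MonoidHom.ofInjective (jcΦ_inj ω h2 hω Ψ hF hk)).toEquiv).symm
  have hC := jcC_card_le ω h2 hω Ψ hF hs hk
  have heq := Subgroup.eq_of_le_of_card_ge hle (by rw [hcr]; exact hC)
  refine ⟨heq, ?_⟩
  rw [← heq, hcr]

/-- all involutions are conjugate -/
theorem jc_invol_conj (hF : Fintype.card F = 4) (hs : Function.Surjective Ψ)
    (hk : Ψ.ker = Subgroup.center (threeJ3 F ω)) (x : G) (hx : orderOf x = 2) :
    IsConj x (jcTG ω h2 hω Ψ) := by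
  have hGfin : Finite G := Finite.of_surjective Ψ hs
  haveI : Fact (Nat.Prime 2) := ⟨Nat.prime_two⟩
  obtain ⟨hrange, hcardC⟩ := jcΦ_range ω h2 hω Ψ hF hs hk
  have hfac : (Nat.card G).factorization 2 = 7 := by
    rw [jcG_card ω h2 hω Ψ hF hs hk]
    exact jcFact2
  obtain ⟨g, hg⟩ := conj_into_subgroup 2 (Subgroup.centralizer ({jcTG ω h2 hω Ψ} : Set G)) 7
    hfac (by rw [hcardC]; norm_num) x hx
  rw [← hrange] at hg
  obtain ⟨d, hd⟩ := hg
  have hx2 : x * x = 1 := by rw [← pow_two, ← hx, pow_orderOf_eq_one]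
  have hx1 : x ≠ 1 := by
    intro h
    rw [h, orderOf_one] at hx
    norm_num at hx
  have hdd : d * d = 1 := by
    apply jcΦ_inj ω h2 hω Ψ hF hk
    rw [map_mul, hd, map_one]
    calc g⁻¹ * x * g * (g⁻¹ * x * g) = g⁻¹ * (x * x) * g := by group
      _ = 1 := by rw [hx2]; group
  have hd1 : d ≠ 1 := by
    intro h
    rw [h, map_one] at hd
    apply hx1
    calc x = g * (g⁻¹ * x * g) * g⁻¹ := by group
      _ = 1 := by rw [← hd]; group
  obtain ⟨h, hh3, hconj⟩ := jcD_invol ω h2 hω d.1 d.2 (congrArg Subtype.val hdd)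
    (fun e => hd1 (Subtype.ext e))
  have hG : Ψ ⟨h, hh3⟩ * jcΦ ω h2 hω Ψ d = jcTG ω h2 hω Ψ * Ψ ⟨h, hh3⟩ := by
    rw [jcΦ_apply]
    unfold jcTG
    rw [← map_mul, ← map_mul]
    congr 1
    exact Subtype.ext hconj
  rw [isConj_iff]
  refine ⟨Ψ ⟨h, hh3⟩ * g⁻¹, ?_⟩
  calc Ψ ⟨h, hh3⟩ * g⁻¹ * x * (Ψ ⟨h, hh3⟩ * g⁻¹)⁻¹
      = Ψ ⟨h, hh3⟩ * (g⁻¹ * x * g) * (Ψ ⟨h, hh3⟩)⁻¹ := by group
    _ = Ψ ⟨h, hh3⟩ * jcΦ ω h2 hω Ψ d * (Ψ ⟨h, hh3⟩)⁻¹ := by rw [hd]
    _ = jcTG ω h2 hω Ψ := by rw [hG]; group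

end

end Cfsg.Agent.Lib.helper4
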