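import Mathlib
import Cfsg.Agent.Lib.helper4.J3CMain2

set_option autoImplicit false

/-! The shape of the centraliser of an involution in a central quotient of the triple cover of
the third Janko group. -/

namespace Cfsg.Agent.Lib.helper4

open Cfsg.Agent.Lib.Lead.F4 Cfsg.Spor Matrix
open scoped MatrixGroups

section
variable {F : Type} [Field F] [Fintype F] (ω : F) (h2 : (2 : F) = 0) (hω : ω * ω = ω + 1)
variable {G : Type*} [Group G] (Ψ : threeJ3 F ω →* G)

local notation "Φ" => jcΦ ω h2 hω Ψ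
local notation "t" => jcTG ω h2 hω Ψ
local notation "D" => jcD ω h2 hω
local notation "QG" => jcQG ω h2 hω

theorem jc_cent_shape (hF : Fintype.card F = 4) (hs : Function.Surjective Ψ)
    (hk : Ψ.ker = Subgroup.center (threeJ3 F ω)) :
    ∃ (Q' : Subgroup ↥(Subgroup.centralizer ({jcTG ω h2 hω Ψ} : Set G))) (_ : Q'.Normal),
      Cfsg.IsExtraspecial 2 Q' ∧ Nat.card Q' = 32 ∧
      (∀ E : Subgroup Q', Cfsg.IsElementaryAbelian 2 E → Nat.card E ≤ 2 ^ 2) ∧
      (∃ H : Subgroup ↥(Subgroup.centralizer ({jcTG ω h2 hω Ψ} : Set G)), Q'.IsComplement' H) ∧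
      Nonempty (↥(Subgroup.centralizer ({jcTG ω h2 hω Ψ} : Set G)) ⧸ Q' ≃*
        ↥(alternatingGroup (Fin 5))) := by
  have hGfin : Finite G := Finite.of_surjective Ψ hs
  obtain ⟨hrange, hcardC⟩ := jcΦ_range ω h2 hω Ψ hF hs hk
  have hinj := jcΦ_inj ω h2 hω Ψ hF hk
  have hQD : QG ≤ D := jcQG_le ω h2 hω
  let Q : Subgroup G := (Subgroup.subgroupOf QG D).map Φ
  have hQmem : ∀ y ∈ Q, ∃ q : D, (q : GL F9 F) ∈ QG ∧ Φ q = y := by
    intro y hy
    obtain ⟨q, hq, rfl⟩ := Subgroup.mem_map.1 hy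
    exact ⟨q, Subgroup.mem_subgroupOf.1 hq, rfl⟩
  have hQof : ∀ q : D, (q : GL F9 F) ∈ QG → Φ q ∈ Q := by
    intro q hq
    exact Subgroup.mem_map.2 ⟨q, Subgroup.mem_subgroupOf.2 hq, rfl⟩
  have hCmem : ∀ c ∈ Subgroup.centralizer ({t} : Set G), ∃ d : D, Φ d = c := by
    intro c hc
    rw [← hrange] at hc
    exact MonoidHom.mem_range.1 hc
  let tD : D := ⟨jcTg ω h2 hω, jcTg_memD ω h2 hω⟩
  have htD : Φ tD = t := rfl
  have hval : ∀ a b : D, (a : GL F9 F) = (b : GL F9 F) → Φ a = Φ b := by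
    intro a b h
    rw [Subtype.ext h]
  have hvalinv : ∀ a b : D, Φ a = Φ b → (a : GL F9 F) = (b : GL F9 F) := by
    intro a b h
    rw [hinj h]
  obtain ⟨x0, hx0, y0, hy0, hx3, hy5, hxy, hx1⟩ := jcD_xy ω h2 hω
  refine cent_shape t Q ?_ ?_ ?_ ?_ ?_ ?_ ?_ ?_ ?_ ?_ ?_ (Φ ⟨x0, hx0⟩) (Φ ⟨y0, hy0⟩) ?_ ?_ ?_ ?_
    ?_ ?_ hcardC
  · -- Q ≤ C
    intro y hy
    obtain ⟨q, -, rfl⟩ := hQmem y hy
    exact jcΦ_cent ω h2 hω Ψ q
  · -- normal
    intro c hc y hy
    obtain ⟨d, rfl⟩ := hCmem c hc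
    obtain ⟨q, hq, rfl⟩ := hQmem y hy
    rw [← map_inv, ← map_mul, ← map_mul]
    apply hQof
    exact jcQG_conj ω h2 hω d.1 d.2 q.1 hq
  · -- t ∈ Q
    rw [← htD]
    exact hQof tD (jcT_mem_Q ω h2 hω)
  · exact jcTG_ne ω h2 hω Ψ hF hk
  · exact jcTG_sq ω h2 hω Ψ
  · -- centre
    intro y hy hcen
    obtain ⟨q, hq, rfl⟩ := hQmem y hy
    have hc : ∀ r ∈ QG, (q : GL F9 F) * r = r * q := by
      intro r hr
      have h1 := hcen (Φ ⟨r, hQD hr⟩) (hQof ⟨r, hQD hr⟩ hr)
      rw [← map_mul, ← map_mul] at h1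
      exact hvalinv _ _ h1
    rcases jcQG_center ω h2 hω q.1 hq hc with h | h
    · left
      rw [← map_one Φ]
      exact hval _ _ h
    · right
      rw [← htD]
      exact hval _ _ h
  · -- commutators
    intro y hy r hr
    obtain ⟨q, hq, rfl⟩ := hQmem y hy
    obtain ⟨r0, hr0, rfl⟩ := hQmem r hr
    rcases jcQG_comm ω h2 hω q.1 hq r0.1 hr0 with h | h
    · left
      rw [← map_mul, ← map_mul]
      exact hval _ _ h
    · right
      rw [← htD, ← map_mul, ← map_mul, ← map_mul]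
      exact hval _ _ h
  · -- squares
    intro y hy
    obtain ⟨q, hq, rfl⟩ := hQmem y hy
    rcases jcQG_sq ω h2 hω q.1 hq with h | h
    · left
      rw [← map_mul, ← map_one Φ]
      exact hval _ _ h
    · right
      rw [← map_mul, ← htD]
      exact hval _ _ h
  · -- not commutative
    obtain ⟨q, hq, r, hr, hne⟩ := jcQG_nonab ω h2 hω
    refine ⟨Φ ⟨q, hQD hq⟩, hQof _ hq, Φ ⟨r, hQD hr⟩, hQof _ hr, ?_⟩
    intro h
    rw [← map_mul, ← map_mul] at h
    exact hne (hvalinv _ _ h)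
  · -- the order
    have h1 : Nat.card Q = Nat.card (Subgroup.subgroupOf QG D) := Subgroup.card_map_of_injective hinj
    rw [h1, Nat.card_congr (Subgroup.subgroupOfEquivOfLe hQD).toEquiv]
    exact jcQG_card ω h2 hω
  · -- commuting involutions
    intro y hy r hr hyy hrr hyr
    obtain ⟨q, hq, rfl⟩ := hQmem y hy
    obtain ⟨r0, hr0, rfl⟩ := hQmem r hr
    have e1 : (q : GL F9 F) * q = 1 := by
      rw [← map_mul, ← map_one Φ] at hyy
      exact hvalinv _ _ hyy
    have e2 : (r0 : GL F9 F) * r0 = 1 := by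
      rw [← map_mul, ← map_one Φ] at hrr
      exact hvalinv _ _ hrr
    have e3 : (q : GL F9 F) * r0 = r0 * q := by
      rw [← map_mul, ← map_mul] at hyr
      exact hvalinv _ _ hyr
    rcases jcQG_elem ω h2 hω q.1 hq r0.1 hr0 e1 e2 e3 with h | h | h | h | h | h
    · left
      rw [← map_one Φ]
      exact hval _ _ h
    · right; left
      rw [← htD]
      exact hval _ _ h
    · right; right; left
      rw [← map_one Φ]
      exact hval _ _ h
    · right; right; right; left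
      rw [← htD]
      exact hval _ _ h
    · right; right; right; right; left
      exact hval _ _ h
    · right; right; right; right; right
      rw [← htD, ← map_mul]
      exact hval _ _ h
  · exact jcΦ_cent ω h2 hω Ψ _
  · exact jcΦ_cent ω h2 hω Ψ _
  · rw [← map_pow, ← map_one Φ]
    apply hval
    rw [Subgroup.coe_pow]
    exact hx3
  · rw [← map_pow, ← map_one Φ]
    apply hval
    rw [Subgroup.coe_pow]
    exact hy5
  · rw [← map_mul, ← map_pow, ← map_one Φ]
    apply hval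
    rw [Subgroup.coe_pow]
    exact hxy
  · intro h
    rw [← map_one Φ] at h
    exact hx1 (hvalinv _ _ h)

end

end Cfsg.Agent.Lib.helper4
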