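import Mathlib
import Cfsg.Agent.Lib.helper4.J3CMain3
import Cfsg.Agent.Lib.helper4.J3Iota

set_option autoImplicit false

/-! The involutions of the third Janko group over any field with four elements: one class, and
the shape of the centraliser. -/

namespace Cfsg.Agent.Lib.helper4

open Cfsg.Agent.Lib.Lead.F4 Cfsg.Spor Matrix
open scoped MatrixGroups

theorem f4c_two : (2 : F4c) = 0 := by decide

theorem f4c_w : F4c.w * F4c.w = F4c.w + 1 := by decide

theorem f4c_card : Fintype.card F4c = 4 := rfl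

section
universe u
variable {F : Type u} [Field F] [Fintype F] (ω : F) (h2 : (2 : F) = 0) (hω : ω * ω = ω + 1)

/-- the involution of the third Janko group -/
noncomputable def j3Inv (hF : Fintype.card F = 4) : J3 F ω :=
  jcTG F4c.w f4c_two f4c_w (jiΨ ω h2 hω hF)

theorem j3Inv_order (hF : Fintype.card F = 4) : orderOf (j3Inv ω h2 hω hF) = 2 :=
  jcTG_order F4c.w f4c_two f4c_w (jiΨ ω h2 hω hF) f4c_card (jiΨ_ker ω h2 hω hF)

theorem j3Inv_conj (hF : Fintype.card F = 4) (x : J3 F ω) (hx : orderOf x = 2) :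
    IsConj x (j3Inv ω h2 hω hF) :=
  jc_invol_conj F4c.w f4c_two f4c_w (jiΨ ω h2 hω hF) f4c_card (jiΨ_surj ω h2 hω hF)
    (jiΨ_ker ω h2 hω hF) x hx

theorem j3Inv_shape (hF : Fintype.card F = 4) :
    ∃ (Q' : Subgroup ↥(Subgroup.centralizer ({j3Inv ω h2 hω hF} : Set (J3 F ω))))
      (_ : Q'.Normal),
      Cfsg.IsExtraspecial 2 Q' ∧ Nat.card Q' = 32 ∧
      (∀ E : Subgroup Q', Cfsg.IsElementaryAbelian 2 E → Nat.card E ≤ 2 ^ 2) ∧
      (∃ H : Subgroup ↥(Subgroup.centralizer ({j3Inv ω h2 hω hF} : Set (J3 F ω))),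
        Q'.IsComplement' H) ∧
      Nonempty (↥(Subgroup.centralizer ({j3Inv ω h2 hω hF} : Set (J3 F ω))) ⧸ Q' ≃*
        ↥(alternatingGroup (Fin 5))) :=
  jc_cent_shape F4c.w f4c_two f4c_w (jiΨ ω h2 hω hF) f4c_card (jiΨ_surj ω h2 hω hF)
    (jiΨ_ker ω h2 hω hF)

end

end Cfsg.Agent.Lib.helper4
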