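import Mathlib

set_option autoImplicit false

/-! Data for the fusion system of the third Janko group: a subgroup of order 128 of the subgroup
of order 1920, generated by three involutions, as a tree. -/

namespace Cfsg.Agent.Lib.helper4

/-- the positions of the subgroup of order 128 in the list of the subgroup of order 1920 -/
def jgSi : List ℕ := [576, 1, 6, 96, 28, 743, 27, 336, 436, 800, 877, 983, 0, 943, 269, 846, 184, 1040, 175, 1402, 245, 1758, 1497, 1521, 101, 1622, 263, 1433, 1202, 41, 71, 1546, 979, 136, 1389, 923, 221, 681, 915, 699, 1762, 578, 1064, 1313, 629, 779, 1460, 801, 1568, 1765, 967, 109, 196, 1257, 796, 1209, 474, 1237, 177, 545, 339, 81, 1602, 546, 70, 360, 1538, 444, 426, 1085, 193, 1585, 1770, 1133, 1360, 453, 1856, 361, 450, 1516, 1601, 996, 277, 85, 1470, 580, 1304, 1203, 1375, 451, 927, 842, 375, 1857, 119, 411, 725, 1832, 599, 552, 1181, 986, 1598, 452, 469, 600, 110, 1459,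 883, 768, 1603, 1600, 976, 572, 226, 688, 990, 1274, 570, 1879, 1214, 254, 1022, 1617, 588, 751, 528, 303]

/-- the tree: the earlier element -/
def jgPar : List ℕ := [0, 0, 0, 0, 1, 1, 2, 2, 3, 4, 4, 5, 6, 6, 7, 8, 8, 9, 9, 10, 11, 11, 12, 12, 13, 14, 14, 15, 15, 16, 17, 17, 18, 19, 19, 20, 20, 21, 22, 22, 23, 24, 24, 25, 25, 26, 27, 27, 28, 29, 29, 30, 30, 31, 32, 32, 33, 33, 34, 35, 35, 36, 37, 37, 38, 38, 39, 40, 40, 41, 41, 42, 43, 43, 44, 45, 45, 46, 46, 47, 48, 48, 49, 49, 50, 51, 51, 52, 53, 53, 54, 54, 55, 56, 56, 57, 58, 58, 59, 59, 60, 61, 61, 62, 62, 63, 64, 65, 66, 67, 69, 72, 73, 76, 79, 85, 86, 87, 88, 90, 93, 94, 97, 100, 108, 109, 117, 118]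

/-- the tree: the generator -/
def jgGn : List ℕ := [0, 0, 1, 2, 1, 2, 0, 2, 1, 0, 2, 1, 1, 2, 1, 0, 2, 1, 2, 1, 0, 2, 0, 2, 1, 0, 2, 1, 2, 1, 0, 2, 1, 0, 2, 1, 2, 1, 1, 2, 1, 0, 2, 1, 2, 1, 0, 2, 1, 0, 2, 1, 2, 1, 0, 2, 1, 2, 1, 0, 2, 1, 0, 2, 0, 2, 1, 0, 2, 1, 2, 1, 0, 2, 1, 0, 2, 1, 2, 1, 0, 2, 1, 2, 1, 0, 2, 1, 0, 2, 1, 2, 1, 0, 2, 1, 0, 2, 1, 2, 1, 0, 2, 1, 2, 1, 1, 1, 0, 1, 0, 2, 1, 1, 0, 1, 1, 0, 1, 0, 2, 1, 1, 0, 1, 2, 1, 2]

/-- the products with the three generators -/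
def jgNx : List (List ℕ) := [[1, 2, 3],
  [0, 4, 5],
  [6, 0, 7],
  [5, 8, 0],
  [9, 1, 10],
  [3, 11, 1],
  [2, 12, 13],
  [13, 14, 2],
  [15, 3, 16],
  [4, 17, 18],
  [18, 19, 4],
  [20, 5, 21],
  [22, 6, 23],
  [7, 24, 6],
  [25, 7, 26],
  [8, 27, 28],
  [28, 29, 8],
  [30, 9, 31],
  [10, 32, 9],
  [33, 10, 34],
  [11, 35, 36],
  [36, 37, 11],
  [12, 38, 39],
  [39, 40, 12],
  [41, 13, 42],
  [14, 43, 44],
  [44, 45, 14],
  [46, 15, 47],
  [16, 48, 15],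
  [49, 16, 50],
  [17, 51, 52],
  [52, 53, 17],
  [54, 18, 55],
  [19, 56, 57],
  [57, 58, 19],
  [59, 20, 60],
  [21, 61, 20],
  [62, 21, 63],
  [64, 22, 65],
  [23, 66, 22],
  [67, 23, 68],
  [24, 69, 70],
  [70, 71, 24],
  [72, 25, 73],
  [26, 74, 25],
  [75, 26, 76],
  [27, 77, 78],
  [78, 79, 27],
  [80, 28, 81],
  [29, 82, 83],
  [83, 84, 29],
  [85, 30, 86],
  [31, 87, 30],
  [88, 31, 89],
  [32, 90, 91],
  [91, 92, 32],
  [93, 33, 94],
  [34, 95, 33],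
  [96, 34, 97],
  [35, 98, 99],
  [99, 100, 35],
  [101, 36, 102],
  [37, 103, 104],
  [104, 105, 37],
  [38, 106, 105],
  [105, 107, 38],
  [108, 39, 92],
  [40, 109, 95],
  [95, 101, 40],
  [110, 41, 100],
  [42, 96, 41],
  [103, 42, 87],
  [43, 102, 111],
  [111, 112, 43],
  [89, 44, 88],
  [45, 91, 98],
  [98, 113, 45],
  [97, 46, 96],
  [47, 111, 46],
  [114, 47, 90],
  [48, 89, 107],
  [107, 93, 48],
  [92, 49, 108],
  [50, 110, 49],
  [86, 50, 85],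
  [51, 115, 84],
  [84, 116, 51],
  [117, 52, 71],
  [53, 118, 74],
  [74, 80, 53],
  [119, 54, 79],
  [55, 75, 54],
  [82, 55, 66],
  [56, 81, 120],
  [120, 121, 56],
  [68, 57, 67],
  [58, 70, 77],
  [77, 122, 58],
  [76, 59, 75],
  [60, 120, 59],
  [123, 60, 69],
  [61, 68, 116],
  [116, 72, 61],
  [71, 62, 117],
  [63, 119, 62],
  [65, 63, 64],
  [115, 64, 122],
  [81, 65, 80],
  [66, 124, 82],
  [118, 67, 125],
  [69, 83, 123],
  [73, 78, 72],
  [121, 73, 124],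
  [122, 76, 115],
  [79, 125, 119],
  [106, 85, 113],
  [102, 86, 101],
  [87, 126, 103],
  [109, 88, 127],
  [90, 104, 114],
  [94, 99, 93],
  [112, 94, 126],
  [113, 97, 106],
  [100, 127, 110],
  [126, 108, 112],
  [127, 114, 109],
  [124, 117, 121],
  [125, 123, 118]]

/-- the positions of the three involutions generating the subgroup of order 128 -/
def jgYi : List ℕ := [1, 6, 96]

/-- the positions of four generators of the subgroup of order 32 -/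
def jgQg : List ℕ := [6, 41, 81, 119]

/-- the positions of involutions with products the two generators of the subgroup of order 1920 -/
def jgX : List ℕ := [9, 500, 0, 915]

end Cfsg.Agent.Lib.helper4
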