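import Mathlib
import Cfsg.Agent.Lib.helper4.J3CSpec
import Cfsg.Agent.Lib.helper4.J3FData

set_option autoImplicit false

/-! The fusion system of the third Janko group: the tests run by the kernel. -/

namespace Cfsg.Agent.Lib.helper4

/-- the code at a position of the subgroup of order 128 -/
def jgS (k : ℕ) : ℕ := dLook (jgSi.getD k 0)

/-- the code of one of the three involutions -/
def jgY (g : ℕ) : ℕ := dLook (jgYi.getD g 0)

/-- the tree of the subgroup of order 128 and its products with the three involutions -/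
def jgChkT (k : ℕ) : Bool :=
  Nat.blt (jgSi.getD k 0) 1920 &&
    ((Nat.beq k 0 || (Nat.blt (jgPar.getD k 0) k && (Nat.blt (jgGn.getD k 0) 3 &&
      Nat.beq (jgS k) (cmul (jgY (jgGn.getD k 0)) (jgS (jgPar.getD k 0)))))) &&
    [0, 1, 2].all fun g => Nat.blt ((jgNx.getD k []).getD g 0) 128 &&
      Nat.beq (cmul (jgY g) (jgS k)) (jgS ((jgNx.getD k []).getD g 0)))

/-- the centre of the subgroup of order 128 -/
def jgChkZ (k : ℕ) : Bool :=
  !([0, 1, 2].all fun g => Nat.beq (cmul (jgS k) (jgY g)) (cmul (jgY g) (jgS k))) ||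
    (Nat.beq (jgS k) cid || Nat.beq (jgS k) jcT)

/-- the centraliser of the subgroup of order 32 in the subgroup of order 1920 -/
def jgChkC (i : ℕ) : Bool :=
  kforceNat (dLook i) fun d =>
    !(jgQg.all fun q => Nat.beq (cmul d (dLook q)) (cmul (dLook q) d)) ||
      jcQi.any fun j => Nat.beq j i

set_option maxRecDepth 10000000 in
theorem jgChk1 : krangeAll jgChkT 128 0 = true := by decide +kernel

set_option maxRecDepth 10000000 in
theorem jgChk2 : krangeAll jgChkZ 128 0 = true := by decide +kernel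

set_option maxRecDepth 10000000 in
theorem jgChk3 : krangeAll jgChkC 1920 0 = true := by decide +kernel

set_option maxRecDepth 10000000 in
theorem jgChkW : jgSi.length = 128 ∧ jgSi.Nodup ∧ jgSi.getD 0 0 = jcI0 ∧
    (∀ g, g < 3 → jgYi.getD g 0 < 1920 ∧ csq (jgY g) = cid ∧ jgY g ≠ cid) ∧
    (∀ i ∈ jcQi, i ∈ jgSi) ∧ (∀ q ∈ jgQg, q ∈ jcQi) ∧ (∀ x ∈ jgX, x < 1920) ∧
    (∀ x ∈ jgX, csq (dLook x) = cid) ∧
    cmul (dLook (jgX.getD 0 0)) (dLook (jgX.getD 1 0)) = jcA1 ∧
    cmul (dLook (jgX.getD 2 0)) (dLook (jgX.getD 3 0)) = jcA2 ∧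
    (∃ k, k < 128 ∧ jgS k = jcT) := by
  decide +kernel

end Cfsg.Agent.Lib.helper4
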