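import Mathlib
import Cfsg.Agent.Lib.helper4.J3CMain3
import Cfsg.Agent.Lib.helper4.J3FDefs

set_option autoImplicit false

/-! The fusion system of the third Janko group: the subgroup of order 128 of the triple cover. -/

namespace Cfsg.Agent.Lib.helper4

open Cfsg.Agent.Lib.Lead.F4 Cfsg.Spor Matrix
open scoped MatrixGroups

theorem jgChkT_spec (k : ℕ) (hk : k < 128) : jgSi.getD k 0 < 1920 ∧
    (k = 0 ∨ (jgPar.getD k 0 < k ∧ jgGn.getD k 0 < 3 ∧
      jgS k = cmul (jgY (jgGn.getD k 0)) (jgS (jgPar.getD k 0)))) ∧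
    ∀ g, g < 3 → (jgNx.getD k []).getD g 0 < 128 ∧
      cmul (jgY g) (jgS k) = jgS ((jgNx.getD k []).getD g 0) := by
  have h := krangeAll_spec _ _ _ jgChk1 k (Nat.zero_le _) (by omega)
  unfold jgChkT at h
  rw [Bool.and_eq_true, Bool.and_eq_true] at h
  obtain ⟨h1, h3, h4⟩ := h
  refine ⟨Nat.le_of_ble_eq_true h1, ?_, ?_⟩
  · rw [Bool.or_eq_true] at h3
    rcases h3 with h3 | h3
    · left
      exact Nat.eq_of_beq_eq_true h3
    · right
      rw [Bool.and_eq_true, Bool.and_eq_true] at h3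
      exact ⟨Nat.le_of_ble_eq_true h3.1, Nat.le_of_ble_eq_true h3.2.1,
        Nat.eq_of_beq_eq_true h3.2.2⟩
  · rw [List.all_eq_true] at h4
    intro g hg
    have := h4 g (by interval_cases g <;> simp)
    rw [Bool.and_eq_true] at this
    exact ⟨Nat.le_of_ble_eq_true this.1, Nat.eq_of_beq_eq_true this.2⟩

section
variable {F : Type} [Field F] [Fintype F] (ω : F) (h2 : (2 : F) = 0) (hω : ω * ω = ω + 1)

/-- the element of the subgroup of order 1920 at a position -/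
noncomputable def jcEl (i : ℕ) : GL F9 F :=
  if h : i < 1920 then Classical.choose (jcD_rep ω h2 hω i h) else 1

theorem jcEl_mem (i : ℕ) : jcEl ω h2 hω i ∈ jcD ω h2 hω := by
  unfold jcEl
  split
  · rename_i h
    exact (Classical.choose_spec (jcD_rep ω h2 hω i h)).1
  · exact Subgroup.one_mem _

theorem jcEl_rep (i : ℕ) (hi : i < 1920) : CRep ω h2 hω (dLook i) (jcEl ω h2 hω i) := by
  unfold jcEl
  rw [dif_pos hi]
  exact (Classical.choose_spec (jcD_rep ω h2 hω i hi)).2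

/-- the three involutions -/
noncomputable def jgYe (g : ℕ) : GL F9 F := jcEl ω h2 hω (jgYi.getD g 0)

theorem jgYe_rep (g : ℕ) (hg : g < 3) : CRep ω h2 hω (jgY g) (jgYe ω h2 hω g) :=
  jcEl_rep ω h2 hω _ (jgChkW.2.2.2.1 g hg).1

/-- the subgroup of order 128 -/
def jgSG : Subgroup (GL F9 F) := Subgroup.closure (Set.range fun g : Fin 3 => jgYe ω h2 hω g.1)

/-- the listed elements of the subgroup of order 128 -/
noncomputable def jgSe (k : ℕ) : GL F9 F := jcEl ω h2 hω (jgSi.getD k 0)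

theorem jgSe_rep (k : ℕ) (hk : k < 128) : CRep ω h2 hω (jgS k) (jgSe ω h2 hω k) :=
  jcEl_rep ω h2 hω _ (jgChkT_spec k hk).1

theorem jgSe_zero : jgSe ω h2 hω 0 = 1 := by
  have h := jgSe_rep ω h2 hω 0 (by norm_num)
  have e : jgS 0 = cid := by
    unfold jgS
    rw [jgChkW.2.2.1]
    exact jcW_I0
  rw [e] at h
  exact crep_eq ω h2 hω _ _ _ h (crep_one ω h2 hω)

theorem jgSe_mem (k : ℕ) (hk : k < 128) : jgSe ω h2 hω k ∈ jgSG ω h2 hω := by
  induction k using Nat.strong_induction_on with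
  | _ k ih =>
    rcases (jgChkT_spec k hk).2.1 with h0 | ⟨hp, hg, e⟩
    · rw [h0, jgSe_zero]
      exact Subgroup.one_mem _
    · have hpm := ih _ hp (by omega)
      have hr := crep_cmul ω h2 hω _ _ _ _ (jgYe_rep ω h2 hω _ hg)
        (jgSe_rep ω h2 hω (jgPar.getD k 0) (by omega))
      rw [← e] at hr
      rw [crep_eq ω h2 hω _ _ _ (jgSe_rep ω h2 hω k hk) hr]
      exact Subgroup.mul_mem _ (Subgroup.subset_closure ⟨⟨_, hg⟩, rfl⟩) hpm

/-- every element of the subgroup of order 128 is listed -/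
theorem jgSG_mem (x : GL F9 F) (hx : x ∈ jgSG ω h2 hω) : ∃ k, k < 128 ∧ x = jgSe ω h2 hω k := by
  let S : Set (GL F9 F) := {x | ∃ k, k < 128 ∧ x = jgSe ω h2 hω k}
  have key : ∀ g ∈ jgSG ω h2 hω, ∀ x ∈ S, g * x ∈ S := by
    intro g hg
    unfold jgSG at hg
    induction hg using Subgroup.closure_induction with
    | mem s hs =>
      obtain ⟨g, rfl⟩ := hs
      rintro x ⟨k, hk, rfl⟩
      obtain ⟨hn, e⟩ := (jgChkT_spec k hk).2.2 g.1 g.2
      refine ⟨_, hn, ?_⟩
      have hr := crep_cmul ω h2 hω _ _ _ _ (jgYe_rep ω h2 hω g.1 g.2) (jgSe_rep ω h2 hω k hk)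
      rw [e] at hr
      exact crep_eq ω h2 hω _ _ _ hr (jgSe_rep ω h2 hω _ hn)
    | one => intro x hx; simpa using hx
    | mul a c _ _ iha ihc =>
      intro x hx
      rw [mul_assoc]
      exact iha _ (ihc x hx)
    | inv a _ iha => exact ss_inv_mul_subset S a iha
  have h1 : (1 : GL F9 F) ∈ S := ⟨0, by norm_num, (jgSe_zero ω h2 hω).symm⟩
  have := key x hx 1 h1
  rw [mul_one] at this
  exact this

theorem jgSi_inj (i j : ℕ) (hi : i < 128) (hj : j < 128)
    (h : jgSi.getD i 0 = jgSi.getD j 0) : i = j := by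
  have hl := jgChkW.1
  have hnd := jgChkW.2.1
  rw [List.getD_eq_getElem _ _ (by omega), List.getD_eq_getElem _ _ (by omega)] at h
  exact (List.Nodup.getElem_inj_iff hnd).1 h

theorem jgSe_inj (i j : ℕ) (hi : i < 128) (hj : j < 128)
    (h : jgSe ω h2 hω i = jgSe ω h2 hω j) : i = j := by
  have h1 := jgSe_rep ω h2 hω i hi
  have h3 := jgSe_rep ω h2 hω j hj
  rw [h] at h1
  have e := crep_inj ω h2 hω _ _ (dLook_lt _) (dLook_lt _) _ h1 h3
  exact jgSi_inj i j hi hj (dLook_inj _ _ (jgChkT_spec i hi).1 (jgChkT_spec j hj).1 e)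

theorem jgSG_card : Nat.card (jgSG ω h2 hω) = 128 := by
  let f : Fin 128 → jgSG ω h2 hω := fun k => ⟨jgSe ω h2 hω k.1, jgSe_mem ω h2 hω k.1 k.2⟩
  have hf : Function.Bijective f := by
    constructor
    · intro i j hij
      apply Fin.ext
      exact jgSe_inj ω h2 hω _ _ i.2 j.2 (congrArg Subtype.val hij)
    · rintro ⟨x, hx⟩
      obtain ⟨k, hk, e⟩ := jgSG_mem ω h2 hω x hx
      exact ⟨⟨k, hk⟩, Subtype.ext e.symm⟩
  rw [← Nat.card_congr (Equiv.ofBijective f hf), Nat.card_eq_fintype_card, Fintype.card_fin]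

theorem jgSG_le : jgSG ω h2 hω ≤ jcD ω h2 hω := by
  unfold jgSG
  rw [Subgroup.closure_le]
  rintro _ ⟨g, rfl⟩
  exact jcEl_mem ω h2 hω _

/-- the subgroup of order 32 lies in the subgroup of order 128 -/
theorem jcQG_le_jgSG : jcQG ω h2 hω ≤ jgSG ω h2 hω := by
  rintro q ⟨c, hc, hr⟩
  unfold jcQ at hc
  obtain ⟨i, hi, rfl⟩ := List.mem_map.1 hc
  have hi' := jgChkW.2.2.2.2.1 i hi
  obtain ⟨k, hk, e⟩ := List.getElem_of_mem hi'
  have hk' : k < 128 := by rw [← jgChkW.1]; exact hk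
  have hr' := jgSe_rep ω h2 hω k hk'
  unfold jgS at hr'
  rw [List.getD_eq_getElem _ _ hk, e] at hr'
  rw [crep_eq ω h2 hω _ _ _ hr hr']
  exact jgSe_mem ω h2 hω k hk'

end

end Cfsg.Agent.Lib.helper4
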