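import Mathlib
import Cfsg.Agent.Lib.helper4.J3FSyl

set_option autoImplicit false

/-! The fusion system of the third Janko group: centre, centraliser and generation in the triple
cover. -/

namespace Cfsg.Agent.Lib.helper4

open Cfsg.Agent.Lib.Lead.F4 Cfsg.Spor Matrix
open scoped MatrixGroups

section
variable {F : Type} [Field F] [Fintype F] (ω : F) (h2 : (2 : F) = 0) (hω : ω * ω = ω + 1)

/-- the centre of the subgroup of order 128 -/
theorem jgSG_center (a : GL F9 F) (ha : a ∈ jgSG ω h2 hω)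
    (hc : ∀ b ∈ jgSG ω h2 hω, a * b = b * a) : a = 1 ∨ a = jcTg ω h2 hω := by
  obtain ⟨k, hk, rfl⟩ := jgSG_mem ω h2 hω a ha
  have h := krangeAll_spec _ _ _ jgChk2 k (Nat.zero_le _) (by omega)
  unfold jgChkZ at h
  have hall : ([0, 1, 2].all fun g => Nat.beq (cmul (jgS k) (jgY g)) (cmul (jgY g) (jgS k))) =
      true := by
    rw [List.all_eq_true]
    intro g hg
    have hg3 : g < 3 := by
      simp only [List.mem_cons, List.not_mem_nil, or_false] at hg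
      omega
    have hm : jgYe ω h2 hω g ∈ jgSG ω h2 hω := Subgroup.subset_closure ⟨⟨g, hg3⟩, rfl⟩
    have e := crep_mul_code ω h2 hω _ _ _ _ _ _ (jgSe_rep ω h2 hω k hk) (jgYe_rep ω h2 hω g hg3)
      (crep_cmul ω h2 hω _ _ _ _ (jgYe_rep ω h2 hω g hg3) (jgSe_rep ω h2 hω k hk))
      (cmul_lt _ _) (hc _ hm)
    rw [e]
    exact Nat.beq_refl _
  rw [hall] at h
  simp only [Bool.not_true, Bool.false_or, Bool.or_eq_true] at h
  have hr := jgSe_rep ω h2 hω k hk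
  rcases h with h | h
  · left
    rw [Nat.eq_of_beq_eq_true h] at hr
    exact crep_eq ω h2 hω _ _ _ hr (crep_one ω h2 hω)
  · right
    rw [Nat.eq_of_beq_eq_true h] at hr
    exact crep_eq ω h2 hω _ _ _ hr (crep_jcT ω h2 hω)

/-- the subgroup of order 32 contains its centraliser in the subgroup of order 1920 -/
theorem jcD_centQ (d : GL F9 F) (hd : d ∈ jcD ω h2 hω)
    (hc : ∀ q ∈ jcQG ω h2 hω, d * q = q * d) : d ∈ jcQG ω h2 hω := by
  obtain ⟨i, hi, hr⟩ := jcD_mem ω h2 hω d hd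
  have h := krangeAll_spec _ _ _ jgChk3 i (Nat.zero_le _) (by omega)
  unfold jgChkC at h
  rw [kforceNat_eq] at h
  have hall : (jgQg.all fun q => Nat.beq (cmul (dLook i) (dLook q)) (cmul (dLook q) (dLook i))) =
      true := by
    rw [List.all_eq_true]
    intro q hq
    have hqQ : q ∈ jcQi := jgChkW.2.2.2.2.2.1 q hq
    have hq1920 : q < 1920 := qChk1_spec.1 q hqQ
    have hqr := jcEl_rep ω h2 hω q hq1920
    have hm : jcEl ω h2 hω q ∈ jcQG ω h2 hω := ⟨dLook q, List.mem_map.2 ⟨q, hqQ, rfl⟩, hqr⟩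
    have e := crep_mul_code ω h2 hω _ _ _ _ _ _ hr hqr
      (crep_cmul ω h2 hω _ _ _ _ hqr hr) (cmul_lt _ _) (hc _ hm)
    rw [e]
    exact Nat.beq_refl _
  rw [hall] at h
  simp only [Bool.not_true, Bool.false_or, List.any_eq_true] at h
  obtain ⟨j, hj, e⟩ := h
  have : j = i := Nat.eq_of_beq_eq_true e
  rw [this] at hj
  exact ⟨dLook i, List.mem_map.2 ⟨i, hj, rfl⟩, hr⟩

/-- the subgroup of order 1920 is generated by elements of square one -/
theorem jcD_le_invol : jcD ω h2 hω ≤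
    Subgroup.closure {x : GL F9 F | x ∈ jcD ω h2 hω ∧ x * x = 1} := by
  have hx : ∀ x ∈ jgX, jcEl ω h2 hω x ∈
      Subgroup.closure {x : GL F9 F | x ∈ jcD ω h2 hω ∧ x * x = 1} := by
    intro x hx
    apply Subgroup.subset_closure
    refine ⟨jcEl_mem ω h2 hω x, ?_⟩
    have hlt := jgChkW.2.2.2.2.2.2.1 x hx
    have hsq := jgChkW.2.2.2.2.2.2.2.1 x hx
    rw [csq_eq] at hsq
    exact crep_mul_eq ω h2 hω _ _ _ _ _ _ (jcEl_rep ω h2 hω x hlt) (jcEl_rep ω h2 hω x hlt)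
      (crep_one ω h2 hω) hsq
  have hlt : ∀ k, k < 4 → jgX.getD k 0 < 1920 ∧ jgX.getD k 0 ∈ jgX := by
    intro k hk
    have hl : jgX.length = 4 := rfl
    have hm : jgX.getD k 0 ∈ jgX := by
      rw [List.getD_eq_getElem _ _ (by omega)]
      exact List.getElem_mem _
    exact ⟨jgChkW.2.2.2.2.2.2.1 _ hm, hm⟩
  have hgen : ∀ x ∈ ({gword ω h2 hω jcGw1, gword ω h2 hω jcGw2} : Set (GL F9 F)),
      x ∈ Subgroup.closure {x : GL F9 F | x ∈ jcD ω h2 hω ∧ x * x = 1} := by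
    rintro x (hx' | hx')
    · have e := crep_mul_eq ω h2 hω _ _ _ _ _ _ (jcEl_rep ω h2 hω _ (hlt 0 (by norm_num)).1)
        (jcEl_rep ω h2 hω _ (hlt 1 (by norm_num)).1) (crep_jcA1 ω h2 hω) jgChkW.2.2.2.2.2.2.2.2.1
      rw [hx', ← e]
      exact Subgroup.mul_mem _ (hx _ (hlt 0 (by norm_num)).2) (hx _ (hlt 1 (by norm_num)).2)
    · rw [Set.mem_singleton_iff] at hx'
      have e := crep_mul_eq ω h2 hω _ _ _ _ _ _ (jcEl_rep ω h2 hω _ (hlt 2 (by norm_num)).1)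
        (jcEl_rep ω h2 hω _ (hlt 3 (by norm_num)).1) (crep_jcA2 ω h2 hω)
        jgChkW.2.2.2.2.2.2.2.2.2.1
      rw [hx', ← e]
      exact Subgroup.mul_mem _ (hx _ (hlt 2 (by norm_num)).2) (hx _ (hlt 3 (by norm_num)).2)
  exact (Subgroup.closure_le _).2 hgen

/-- the involution lies in the subgroup of order 128 -/
theorem jcTg_mem_jgSG : jcTg ω h2 hω ∈ jgSG ω h2 hω :=
  jcQG_le_jgSG ω h2 hω (jcT_mem_Q ω h2 hω)

/-- the three involutions have square one and are not trivial -/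
theorem jgYe_sq (g : ℕ) (hg : g < 3) :
    jgYe ω h2 hω g * jgYe ω h2 hω g = 1 ∧ jgYe ω h2 hω g ≠ 1 := by
  obtain ⟨-, hsq, hne⟩ := jgChkW.2.2.2.1 g hg
  rw [csq_eq] at hsq
  refine ⟨crep_mul_eq ω h2 hω _ _ _ _ _ _ (jgYe_rep ω h2 hω g hg) (jgYe_rep ω h2 hω g hg)
    (crep_one ω h2 hω) hsq, ?_⟩
  intro h
  apply hne
  have hr := jgYe_rep ω h2 hω g hg
  rw [h] at hr
  exact crep_inj ω h2 hω _ _ (dLook_lt _) cid_lt _ hr (crep_one ω h2 hω)

end

end Cfsg.Agent.Lib.helper4
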