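import Mathlib
import Cfsg.Agent.Lib.helper4.J3FCen
import Cfsg.Agent.Lib.helper4.FusGen2
import Cfsg.Agent.Lib.helper4.J2FNorm

set_option autoImplicit false

/-! The fusion system on a Sylow 2-subgroup of a central quotient of the triple cover of the third
Janko group is simple. -/

namespace Cfsg.Agent.Lib.helper4

open Cfsg.Agent.Lib.Lead.F4 Cfsg.Spor Matrix
open scoped MatrixGroups

section
variable {F : Type} [Field F] [Fintype F] (ω : F) (h2 : (2 : F) = 0) (hω : ω * ω = ω + 1)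
variable {G : Type*} [Group G] (Ψ : threeJ3 F ω →* G)

/-- the image of the subgroup of order 128 -/
def jgP0 : Subgroup G := ((jgSG ω h2 hω).subgroupOf (jcD ω h2 hω)).map (jcΦ ω h2 hω Ψ)

/-- the image of the subgroup of order 32 -/
def jgQ0 : Subgroup G := ((jcQG ω h2 hω).subgroupOf (jcD ω h2 hω)).map (jcΦ ω h2 hω Ψ)

theorem mem_jgP0 (y : G) : y ∈ jgP0 ω h2 hω Ψ ↔
    ∃ d : jcD ω h2 hω, d.1 ∈ jgSG ω h2 hω ∧ jcΦ ω h2 hω Ψ d = y := by
  unfold jgP0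
  rw [Subgroup.mem_map]
  constructor
  · rintro ⟨d, hd, e⟩
    exact ⟨d, Subgroup.mem_subgroupOf.1 hd, e⟩
  · rintro ⟨d, hd, e⟩
    exact ⟨d, Subgroup.mem_subgroupOf.2 hd, e⟩

theorem mem_jgQ0 (y : G) : y ∈ jgQ0 ω h2 hω Ψ ↔
    ∃ d : jcD ω h2 hω, d.1 ∈ jcQG ω h2 hω ∧ jcΦ ω h2 hω Ψ d = y := by
  unfold jgQ0
  rw [Subgroup.mem_map]
  constructor
  · rintro ⟨d, hd, e⟩
    exact ⟨d, Subgroup.mem_subgroupOf.1 hd, e⟩
  · rintro ⟨d, hd, e⟩
    exact ⟨d, Subgroup.mem_subgroupOf.2 hd, e⟩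

/-- membership in a subgroup of the images of a generated subgroup -/
theorem jcΦ_closure (A : Set (GL F9 F)) (hA : A ⊆ jcD ω h2 hω) (K : Subgroup G)
    (hK : ∀ y (hy : y ∈ A), jcΦ ω h2 hω Ψ ⟨y, hA hy⟩ ∈ K) :
    ∀ y, y ∈ Subgroup.closure A → ∀ hd : y ∈ jcD ω h2 hω, jcΦ ω h2 hω Ψ ⟨y, hd⟩ ∈ K := by
  have hle : Subgroup.closure A ≤ jcD ω h2 hω := (Subgroup.closure_le _).2 hA
  intro y hy
  induction hy using Subgroup.closure_induction with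
  | mem x hx =>
    intro hd
    exact hK x hx
  | one =>
    intro hd
    have : (⟨1, hd⟩ : jcD ω h2 hω) = 1 := rfl
    rw [this, map_one]
    exact Subgroup.one_mem _
  | mul a b ha hb iha ihb =>
    intro hd
    have e : (⟨a * b, hd⟩ : jcD ω h2 hω) = ⟨a, hle ha⟩ * ⟨b, hle hb⟩ := rfl
    rw [e, map_mul]
    exact Subgroup.mul_mem _ (iha _) (ihb _)
  | inv a ha iha =>
    intro hd
    have e : (⟨a⁻¹, hd⟩ : jcD ω h2 hω) = (⟨a, hle ha⟩)⁻¹ := rfl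
    rw [e, map_inv]
    exact Subgroup.inv_mem _ (iha _)

theorem jgQ0_le : jgQ0 ω h2 hω Ψ ≤ jgP0 ω h2 hω Ψ := by
  intro y hy
  rw [mem_jgQ0] at hy
  rw [mem_jgP0]
  obtain ⟨d, hd, e⟩ := hy
  exact ⟨d, jcQG_le_jgSG ω h2 hω hd, e⟩

/-- the image of the involution -/
theorem jcTG_eq : jcTG ω h2 hω Ψ = jcΦ ω h2 hω Ψ ⟨jcTg ω h2 hω, jcTg_memD ω h2 hω⟩ := rfl

theorem jcTG_mem_Q0 : jcTG ω h2 hω Ψ ∈ jgQ0 ω h2 hω Ψ := by
  rw [mem_jgQ0]
  exact ⟨⟨jcTg ω h2 hω, jcTg_memD ω h2 hω⟩, jcT_mem_Q ω h2 hω, rfl⟩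

/-- the images of the subgroup of order 1920 conjugate the image of the subgroup of order 32 into
itself -/
theorem jgQ0_conj (d : jcD ω h2 hω) (x : G) (hx : x ∈ jgQ0 ω h2 hω Ψ) :
    jcΦ ω h2 hω Ψ d * x * (jcΦ ω h2 hω Ψ d)⁻¹ ∈ jgQ0 ω h2 hω Ψ := by
  rw [mem_jgQ0] at hx ⊢
  obtain ⟨q, hq, rfl⟩ := hx
  refine ⟨d * q * d⁻¹, ?_, by rw [map_mul, map_mul, map_inv]⟩
  exact jcQG_conj ω h2 hω d.1 d.2 q.1 hq

variable [Finite G]

/-- the image of the subgroup of order 128 has order 128 -/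
theorem jgP0_card (hF : Fintype.card F = 4) (hk : Ψ.ker = Subgroup.center (threeJ3 F ω)) :
    Nat.card (jgP0 ω h2 hω Ψ) = 128 := by
  unfold jgP0
  rw [Subgroup.card_map_of_injective (jcΦ_inj ω h2 hω Ψ hF hk),
    Nat.card_congr (Subgroup.subgroupOfEquivOfLe (jgSG_le ω h2 hω)).toEquiv, jgSG_card]

/-- an element of the image of the subgroup of order 128 commuting with it is trivial or the
image of the involution -/
theorem jgP0_center (hF : Fintype.card F = 4) (hk : Ψ.ker = Subgroup.center (threeJ3 F ω))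
    (a : G) (ha : a ∈ jgP0 ω h2 hω Ψ) (hc : ∀ b ∈ jgP0 ω h2 hω Ψ, a * b = b * a) :
    a = 1 ∨ a = jcTG ω h2 hω Ψ := by
  rw [mem_jgP0] at ha
  obtain ⟨d, hd, rfl⟩ := ha
  have hcen : ∀ b ∈ jgSG ω h2 hω, d.1 * b = b * d.1 := by
    intro b hb
    have hbD : b ∈ jcD ω h2 hω := jgSG_le ω h2 hω hb
    have := hc (jcΦ ω h2 hω Ψ ⟨b, hbD⟩) ((mem_jgP0 ω h2 hω Ψ _).2 ⟨⟨b, hbD⟩, hb, rfl⟩)
    rw [← map_mul, ← map_mul] at this
    exact congrArg Subtype.val (jcΦ_inj ω h2 hω Ψ hF hk this)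
  rcases jgSG_center ω h2 hω d.1 hd hcen with h | h
  · left
    have : d = 1 := Subtype.ext h
    rw [this, map_one]
  · right
    have : d = ⟨jcTg ω h2 hω, jcTg_memD ω h2 hω⟩ := Subtype.ext h
    rw [this]
    rfl

include h2 hω in
/-- the fusion system on a Sylow 2-subgroup is simple -/
theorem jg_fus_simple (hF : Fintype.card F = 4) (hs : Function.Surjective Ψ)
    (hk : Ψ.ker = Subgroup.center (threeJ3 F ω)) (S : Sylow 2 G) :
    (Cfsg.groupFusionSystem (S : Subgroup G)).IsSimple 2 := by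
  have : Fact (Nat.Prime 2) := ⟨Nat.prime_two⟩
  obtain ⟨hrange, -⟩ := jcΦ_range ω h2 hω Ψ hF hs hk
  have hinj := jcΦ_inj ω h2 hω Ψ hF hk
  have htne := jcTG_ne ω h2 hω Ψ hF hk
  have htP : jcTG ω h2 hω Ψ ∈ jgP0 ω h2 hω Ψ := jgQ0_le ω h2 hω Ψ (jcTG_mem_Q0 ω h2 hω Ψ)
  have hPcomm : ∀ y ∈ jgP0 ω h2 hω Ψ, jcTG ω h2 hω Ψ * y = y * jcTG ω h2 hω Ψ := by
    intro y hy
    rw [mem_jgP0] at hy
    obtain ⟨d, -, rfl⟩ := hy
    have := jcΦ_cent ω h2 hω Ψ d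
    rw [Subgroup.mem_centralizer_iff] at this
    exact this _ rfl
  have hcardP : Nat.card (jgP0 ω h2 hω Ψ) = 2 ^ (Nat.card G).factorization 2 := by
    rw [jgP0_card ω h2 hω Ψ hF hk, jcG_card ω h2 hω Ψ hF hs hk, jcFact2]
    norm_num
  let P : Sylow 2 G := Sylow.ofCard (jgP0 ω h2 hω Ψ) hcardP
  have hPcoe : (P : Subgroup G) = jgP0 ω h2 hω Ψ := rfl
  have hcent : ∀ g : G, g * jcTG ω h2 hω Ψ * g⁻¹ = jcTG ω h2 hω Ψ →
      ∃ d : jcD ω h2 hω, jcΦ ω h2 hω Ψ d = g := by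
    intro g hg
    have : g ∈ Subgroup.centralizer ({jcTG ω h2 hω Ψ} : Set G) := by
      rw [Subgroup.mem_centralizer_iff]
      intro y hy
      rw [Set.mem_singleton_iff] at hy
      subst hy
      calc jcTG ω h2 hω Ψ * g = (g * jcTG ω h2 hω Ψ * g⁻¹) * g := by rw [hg]
        _ = g * jcTG ω h2 hω Ψ := by group
    rw [← hrange] at this
    exact this
  have hfinQ : Finite (jgQ0 ω h2 hω Ψ) := inferInstance
  apply fus_simple_of_cert2 2 P (jgQ0 ω h2 hω Ψ)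
  · rw [hPcoe]
    intro h
    rw [h, Subgroup.mem_bot] at htP
    exact htne htP
  · rw [hPcoe]
    exact jgQ0_le ω h2 hω Ψ
  · rw [hPcoe]
    intro s hs x hx
    rw [mem_jgP0] at hs
    obtain ⟨d, -, rfl⟩ := hs
    exact jgQ0_conj ω h2 hω Ψ d x hx
  · intro g hg
    obtain ⟨d, rfl⟩ := hcent g (hg _ (jcTG_mem_Q0 ω h2 hω Ψ))
    rw [mem_jgQ0]
    refine ⟨d, ?_, rfl⟩
    apply jcD_centQ ω h2 hω d.1 d.2
    intro q hq
    have hqD : q ∈ jcD ω h2 hω := jcQG_le ω h2 hω hq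
    have := hg (jcΦ ω h2 hω Ψ ⟨q, hqD⟩) ((mem_jgQ0 ω h2 hω Ψ _).2 ⟨⟨q, hqD⟩, hq, rfl⟩)
    rw [← map_inv, ← map_mul, ← map_mul] at this
    have e : d * ⟨q, hqD⟩ * d⁻¹ = ⟨q, hqD⟩ := hinj this
    have e2 : d.1 * q * d.1⁻¹ = q := congrArg Subtype.val e
    calc d.1 * q = (d.1 * q * d.1⁻¹) * d.1 := by group
      _ = q * d.1 := by rw [e2]
  · rw [hPcoe]
    intro g hg
    -- `g` centralises the image of the involution
    have hconjmem : g * jcTG ω h2 hω Ψ * g⁻¹ ∈ jgP0 ω h2 hω Ψ := hg _ htP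
    have hsurj : ∀ y ∈ jgP0 ω h2 hω Ψ, ∃ y' ∈ jgP0 ω h2 hω Ψ, g * y' * g⁻¹ = y := by
      let c : jgP0 ω h2 hω Ψ → jgP0 ω h2 hω Ψ := fun s => ⟨g * s.1 * g⁻¹, hg s.1 s.2⟩
      have hc : Function.Injective c := by
        intro a b hab
        apply Subtype.ext
        have := congrArg Subtype.val hab
        exact mul_left_cancel (mul_right_cancel this)
      intro y hy
      obtain ⟨s, hs⟩ := Finite.surjective_of_injective hc ⟨y, hy⟩
      exact ⟨s.1, s.2, congrArg Subtype.val hs⟩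
    have hcen : ∀ b ∈ jgP0 ω h2 hω Ψ,
        (g * jcTG ω h2 hω Ψ * g⁻¹) * b = b * (g * jcTG ω h2 hω Ψ * g⁻¹) := by
      intro b hb
      obtain ⟨b', hb', rfl⟩ := hsurj b hb
      have := hPcomm b' hb'
      calc g * jcTG ω h2 hω Ψ * g⁻¹ * (g * b' * g⁻¹)
          = g * (jcTG ω h2 hω Ψ * b') * g⁻¹ := by group
        _ = g * (b' * jcTG ω h2 hω Ψ) * g⁻¹ := by rw [this]
        _ = g * b' * g⁻¹ * (g * jcTG ω h2 hω Ψ * g⁻¹) := by group
    have hfix : g * jcTG ω h2 hω Ψ * g⁻¹ = jcTG ω h2 hω Ψ := by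
      rcases jgP0_center ω h2 hω Ψ hF hk _ hconjmem hcen with h | h
      · exfalso
        apply htne
        calc jcTG ω h2 hω Ψ = g⁻¹ * (g * jcTG ω h2 hω Ψ * g⁻¹) * g := by group
          _ = 1 := by rw [h]; group
      · exact h
    obtain ⟨d, rfl⟩ := hcent g hfix
    have hd := jcD_le_invol ω h2 hω d.2
    refine jcΦ_closure ω h2 hω Ψ {x : GL F9 F | x ∈ jcD ω h2 hω ∧ x * x = 1} (fun x hx => hx.1)
      _ ?_ d.1 hd d.2
    intro y hy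
    apply Subgroup.subset_closure
    refine ⟨?_, ?_⟩
    · exact mem_normalizer_of_conj_mem _ _ (jgQ0_conj ω h2 hω Ψ ⟨y, hy.1⟩)
    · have hsq : (jcΦ ω h2 hω Ψ ⟨y, hy.1⟩) ^ 2 = 1 := by
        rw [pow_two, ← map_mul]
        have : (⟨y, hy.1⟩ : jcD ω h2 hω) * ⟨y, hy.1⟩ = 1 := Subtype.ext hy.2
        rw [this, map_one]
      have hd2 : orderOf (jcΦ ω h2 hω Ψ ⟨y, hy.1⟩) ∣ 2 ^ 1 := by
        rw [pow_one]
        exact orderOf_dvd_of_pow_eq_one hsq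
      obtain ⟨m, -, hm⟩ := (Nat.dvd_prime_pow Nat.prime_two).1 hd2
      exact ⟨m, hm⟩
  · rw [hPcoe]
    intro T hT hne hfus
    -- an involution of `T`
    have hTfin : Finite T := inferInstance
    have hP2 : IsPGroup 2 (jgP0 ω h2 hω Ψ) := by
      apply IsPGroup.of_card (n := 7)
      rw [jgP0_card ω h2 hω Ψ hF hk]
      norm_num
    have hT2 : IsPGroup 2 T := hP2.to_le hT
    have hTnt : Nontrivial T := (Subgroup.nontrivial_iff_ne_bot T).2 hne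
    obtain ⟨m, hm⟩ := (IsPGroup.iff_card).1 hT2
    have hm0 : m ≠ 0 := by
      intro h0
      rw [h0, pow_zero] at hm
      have := (Nat.card_eq_one_iff_unique.1 hm).1
      exact not_subsingleton T this
    have h2dvd : 2 ∣ Nat.card T := by
      rw [hm]
      exact dvd_pow_self 2 hm0
    obtain ⟨x, hx⟩ := exists_prime_orderOf_dvd_card' 2 h2dvd
    have hx2 : orderOf (x : G) = 2 := by
      rw [Subgroup.orderOf_coe]
      exact hx
    have hgen : ∀ g, g < 3 → jcΦ ω h2 hω Ψ ⟨jgYe ω h2 hω g, jcEl_mem ω h2 hω _⟩ ∈ T := by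
      intro g hg
      set y := jcΦ ω h2 hω Ψ ⟨jgYe ω h2 hω g, jcEl_mem ω h2 hω _⟩ with hy
      have hyP : y ∈ jgP0 ω h2 hω Ψ :=
        (mem_jgP0 ω h2 hω Ψ _).2 ⟨_, Subgroup.subset_closure ⟨⟨g, hg⟩, rfl⟩, rfl⟩
      have hy2 : orderOf y = 2 := by
        apply orderOf_eq_prime
        · rw [pow_two, hy, ← map_mul]
          have : (⟨jgYe ω h2 hω g, jcEl_mem ω h2 hω _⟩ : jcD ω h2 hω) *
              ⟨jgYe ω h2 hω g, jcEl_mem ω h2 hω _⟩ = 1 := Subtype.ext (jgYe_sq ω h2 hω g hg).1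
          rw [this, map_one]
        · intro h1
          rw [hy, ← map_one (jcΦ ω h2 hω Ψ)] at h1
          exact (jgYe_sq ω h2 hω g hg).2 (congrArg Subtype.val (hinj h1))
      have c1 := jc_invol_conj ω h2 hω Ψ hF hs hk (x : G) hx2
      have c2 := jc_invol_conj ω h2 hω Ψ hF hs hk y hy2
      obtain ⟨c, hc⟩ := isConj_iff.1 (c1.trans c2.symm)
      rw [← hc]
      apply hfus _ x.2
      rw [hc]
      exact hyP
    intro y hy
    rw [mem_jgP0] at hy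
    obtain ⟨d, hd, rfl⟩ := hy
    refine jcΦ_closure ω h2 hω Ψ (Set.range fun g : Fin 3 => jgYe ω h2 hω g.1)
      ?_ T ?_ d.1 hd d.2
    · rintro _ ⟨g, rfl⟩
      exact jcEl_mem ω h2 hω _
    · rintro _ ⟨g, rfl⟩
      exact hgen g.1 g.2

end

end Cfsg.Agent.Lib.helper4
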