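import Mathlib
import Cfsg.Prelude.Def_Spor_J3
import Cfsg.Agent.Lib.Lead.F4c

set_option autoImplicit false

/-! Vectors and matrices of size nine over the concrete field with four elements, with
kernel-friendly operations, for the triple cover of the third Janko group. -/

namespace Cfsg.Agent.Lib.helper4

open Cfsg.Agent.Lib.Lead.F4 Cfsg.Spor

/-- `acc + c * x`, skipping zero coefficients -/
def kfma (c x acc : F4c) : F4c :=
  match c with
  | .z => acc
  | .o => F4c.add x acc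
  | .w => F4c.add (F4c.mul .w x) acc
  | .v => F4c.add (F4c.mul .v x) acc

theorem kfma_eq (c x acc : F4c) : kfma c x acc = c * x + acc := by
  cases c <;> cases x <;> cases acc <;> rfl

/-- a vector of nine entries; the entry of index `(x, y)` is the one in place `3x + y` -/
@[ext] structure KVec where
  c0 : F4c
  c1 : F4c
  c2 : F4c
  c3 : F4c
  c4 : F4c
  c5 : F4c
  c6 : F4c
  c7 : F4c
  c8 : F4c
  deriving DecidableEq

/-- a matrix as nine rows -/
@[ext] structure KMat where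
  r0 : KVec
  r1 : KVec
  r2 : KVec
  r3 : KVec
  r4 : KVec
  r5 : KVec
  r6 : KVec
  r7 : KVec
  r8 : KVec
  deriving DecidableEq

/-- the function of a vector -/
def KVec.toFun (v : KVec) : F9 → F4c := fun z =>
  ![![v.c0, v.c1, v.c2], ![v.c3, v.c4, v.c5], ![v.c6, v.c7, v.c8]] z.1 z.2

/-- the vector of a function -/
def KVec.ofFun (f : F9 → F4c) : KVec :=
  ⟨f (0, 0), f (0, 1), f (0, 2), f (1, 0), f (1, 1), f (1, 2), f (2, 0), f (2, 1), f (2, 2)⟩

theorem f9_cases (P : F9 → Prop) (h0 : P (0, 0)) (h1 : P (0, 1)) (h2 : P (0, 2)) (h3 : P (1, 0))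
    (h4 : P (1, 1)) (h5 : P (1, 2)) (h6 : P (2, 0)) (h7 : P (2, 1)) (h8 : P (2, 2)) :
    ∀ z, P z := by
  rintro ⟨x, y⟩
  fin_cases x <;> fin_cases y <;> assumption

theorem KVec.toFun_ofFun (f : F9 → F4c) : (KVec.ofFun f).toFun = f := by
  funext z
  revert z
  apply f9_cases <;> rfl

theorem KVec.ofFun_toFun (v : KVec) : KVec.ofFun v.toFun = v := rfl

theorem KVec.toFun_injective : Function.Injective KVec.toFun := by
  intro a b h
  rw [← KVec.ofFun_toFun a, ← KVec.ofFun_toFun b, h]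

theorem sum_f9 {α : Type*} [AddCommMonoid α] (f : F9 → α) :
    ∑ z, f z = f (0, 0) + f (0, 1) + f (0, 2) + f (1, 0) + f (1, 1) + f (1, 2) + f (2, 0) +
      f (2, 1) + f (2, 2) := by
  rw [Fintype.sum_prod_type]
  show ∑ x : Fin 3, ∑ y : Fin 3, f (x, y) = _
  simp only [Fin.sum_univ_three]
  abel

/-- row of a matrix -/
def KMat.row (M : KMat) (z : F9) : KVec :=
  ![![M.r0, M.r1, M.r2], ![M.r3, M.r4, M.r5], ![M.r6, M.r7, M.r8]] z.1 z.2

/-- the matrix of a table -/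
def kdecM (M : KMat) : Matrix F9 F9 F4c := Matrix.of fun i j => (M.row i).toFun j

/-- dot product, skipping zero coefficients of the first argument -/
def kdot (r v : KVec) : F4c :=
  kfma r.c0 v.c0 (kfma r.c1 v.c1 (kfma r.c2 v.c2 (kfma r.c3 v.c3 (kfma r.c4 v.c4
    (kfma r.c5 v.c5 (kfma r.c6 v.c6 (kfma r.c7 v.c7 (kfma r.c8 v.c8 .z))))))))

theorem kdot_eq (r v : KVec) : kdot r v = ∑ z, r.toFun z * v.toFun z := by
  rw [sum_f9]
  unfold kdot
  simp only [kfma_eq]
  show _ = r.c0 * v.c0 + r.c1 * v.c1 + r.c2 * v.c2 + r.c3 * v.c3 + r.c4 * v.c4 + r.c5 * v.c5 +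
    r.c6 * v.c6 + r.c7 * v.c7 + r.c8 * v.c8
  have : (F4c.z : F4c) = 0 := rfl
  rw [this]
  ring

/-- matrix times vector -/
def kmv (M : KMat) (v : KVec) : KVec :=
  ⟨kdot M.r0 v, kdot M.r1 v, kdot M.r2 v, kdot M.r3 v, kdot M.r4 v, kdot M.r5 v, kdot M.r6 v,
    kdot M.r7 v, kdot M.r8 v⟩

theorem kmv_toFun (M : KMat) (v : KVec) : (kmv M v).toFun = (kdecM M).mulVec v.toFun := by
  funext z
  revert z
  apply f9_cases <;>
  · simp only [Matrix.mulVec, dotProduct, kdecM, Matrix.of_apply]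
    rw [← kdot_eq]
    rfl

/-- scalar multiple -/
def ksmul (c : F4c) (v : KVec) : KVec :=
  ⟨F4c.mul c v.c0, F4c.mul c v.c1, F4c.mul c v.c2, F4c.mul c v.c3, F4c.mul c v.c4,
    F4c.mul c v.c5, F4c.mul c v.c6, F4c.mul c v.c7, F4c.mul c v.c8⟩

theorem ksmul_toFun (c : F4c) (v : KVec) : (ksmul c v).toFun = c • v.toFun := by
  funext z
  revert z
  apply f9_cases <;> rfl

/-- the first of two entries that is not zero -/
def kfnz (x rest : F4c) : F4c :=
  match x with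
  | .z => rest
  | .o => .o
  | .w => .w
  | .v => .v

/-- the first nonzero entry of a vector -/
def kfirst (v : KVec) : F4c :=
  kfnz v.c0 (kfnz v.c1 (kfnz v.c2 (kfnz v.c3 (kfnz v.c4 (kfnz v.c5 (kfnz v.c6 (kfnz v.c7
    (kfnz v.c8 .z))))))))

/-- the multiple whose first nonzero entry is one -/
def knorm (v : KVec) : KVec :=
  match kfirst v with
  | .z => v
  | .o => v
  | .w => ksmul .v v
  | .v => ksmul .w v

theorem kfnz_mul (c x rest : F4c) (hc : c ≠ 0) : kfnz (c * x) (c * rest) = c * kfnz x rest := by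
  revert hc; revert c x rest; decide

theorem kfirst_ksmul (c : F4c) (v : KVec) (hc : c ≠ 0) : kfirst (ksmul c v) = c * kfirst v := by
  have hz : (F4c.z : F4c) = c * F4c.z := by revert c; decide
  have e : ∀ a b : F4c, F4c.mul a b = a * b := fun _ _ => rfl
  show kfnz (F4c.mul c v.c0) (kfnz (F4c.mul c v.c1) (kfnz (F4c.mul c v.c2) (kfnz (F4c.mul c v.c3)
    (kfnz (F4c.mul c v.c4) (kfnz (F4c.mul c v.c5) (kfnz (F4c.mul c v.c6) (kfnz (F4c.mul c v.c7)
      (kfnz (F4c.mul c v.c8) .z)))))))) = c * kfirst v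
  conv_lhs => rw [hz]
  simp only [e, kfnz_mul _ _ _ hc]
  rfl

theorem kfnz_eq_zero (x rest : F4c) : kfnz x rest = 0 ↔ x = 0 ∧ rest = 0 := by
  revert x rest; decide

/-- the zero vector -/
def kzero : KVec := ⟨.z, .z, .z, .z, .z, .z, .z, .z, .z⟩

theorem kfirst_eq_zero (v : KVec) : kfirst v = 0 ↔ v = kzero := by
  unfold kfirst
  simp only [kfnz_eq_zero]
  constructor
  · rintro ⟨h0, h1, h2, h3, h4, h5, h6, h7, h8, -⟩
    ext <;> assumption
  · rintro rfl
    exact ⟨rfl, rfl, rfl, rfl, rfl, rfl, rfl, rfl, rfl, rfl⟩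

theorem ksmul_kzero (c : F4c) : ksmul c kzero = kzero := by
  revert c; decide

theorem ksmul_ksmul (a b : F4c) (v : KVec) : ksmul a (ksmul b v) = ksmul (a * b) v := by
  apply KVec.toFun_injective
  rw [ksmul_toFun, ksmul_toFun, ksmul_toFun, smul_smul]

theorem ksmul_one (v : KVec) : ksmul 1 v = v := by
  apply KVec.toFun_injective
  rw [ksmul_toFun, one_smul]

theorem knorm_eq (v : KVec) : knorm v = ksmul (if kfirst v = 0 then 1 else (kfirst v)⁻¹) v := by
  unfold knorm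
  generalize kfirst v = c
  cases c
  · exact (ksmul_one v).symm
  · exact (ksmul_one v).symm
  · rfl
  · rfl

theorem knorm_ksmul (c : F4c) (v : KVec) (hc : c ≠ 0) : knorm (ksmul c v) = knorm v := by
  rw [knorm_eq, knorm_eq, kfirst_ksmul c v hc, ksmul_ksmul]
  by_cases h : kfirst v = 0
  · rw [(kfirst_eq_zero v).1 h, ksmul_kzero, ksmul_kzero]
  · rw [if_neg h, if_neg (mul_ne_zero hc h), mul_inv, mul_assoc, mul_comm (kfirst v)⁻¹,
      ← mul_assoc, inv_mul_cancel₀ hc, one_mul]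

/-- sum of two vectors -/
def kadd (u v : KVec) : KVec :=
  ⟨F4c.add u.c0 v.c0, F4c.add u.c1 v.c1, F4c.add u.c2 v.c2, F4c.add u.c3 v.c3, F4c.add u.c4 v.c4,
    F4c.add u.c5 v.c5, F4c.add u.c6 v.c6, F4c.add u.c7 v.c7, F4c.add u.c8 v.c8⟩

theorem kadd_toFun (u v : KVec) : (kadd u v).toFun = u.toFun + v.toFun := by
  funext z
  revert z
  apply f9_cases <;> rfl

theorem kmv_kadd (M : KMat) (u v : KVec) : kmv M (kadd u v) = kadd (kmv M u) (kmv M v) := by
  apply KVec.toFun_injective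
  rw [kmv_toFun, kadd_toFun, kadd_toFun, kmv_toFun, kmv_toFun, Matrix.mulVec_add]

theorem kzero_toFun : kzero.toFun = 0 := by
  funext z
  revert z
  apply f9_cases <;> rfl

/-- the table of a scalar matrix -/
def kscal (c : F4c) : KMat :=
  ⟨⟨c, .z, .z, .z, .z, .z, .z, .z, .z⟩, ⟨.z, c, .z, .z, .z, .z, .z, .z, .z⟩,
    ⟨.z, .z, c, .z, .z, .z, .z, .z, .z⟩, ⟨.z, .z, .z, c, .z, .z, .z, .z, .z⟩,
    ⟨.z, .z, .z, .z, c, .z, .z, .z, .z⟩, ⟨.z, .z, .z, .z, .z, c, .z, .z, .z⟩,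
    ⟨.z, .z, .z, .z, .z, .z, c, .z, .z⟩, ⟨.z, .z, .z, .z, .z, .z, .z, c, .z⟩,
    ⟨.z, .z, .z, .z, .z, .z, .z, .z, c⟩⟩

theorem kmv_kscal (c : F4c) (v : KVec) : kmv (kscal c) v = ksmul c v := by
  obtain ⟨a0, a1, a2, a3, a4, a5, a6, a7, a8⟩ := v
  apply KVec.ext
  · show kfma c a0 .z = F4c.mul c a0
    cases c <;> cases a0 <;> rfl
  · show kfma c a1 .z = F4c.mul c a1
    cases c <;> cases a1 <;> rfl
  · show kfma c a2 .z = F4c.mul c a2
    cases c <;> cases a2 <;> rfl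
  · show kfma c a3 .z = F4c.mul c a3
    cases c <;> cases a3 <;> rfl
  · show kfma c a4 .z = F4c.mul c a4
    cases c <;> cases a4 <;> rfl
  · show kfma c a5 .z = F4c.mul c a5
    cases c <;> cases a5 <;> rfl
  · show kfma c a6 .z = F4c.mul c a6
    cases c <;> cases a6 <;> rfl
  · show kfma c a7 .z = F4c.mul c a7
    cases c <;> cases a7 <;> rfl
  · show kfma c a8 .z = F4c.mul c a8
    cases c <;> cases a8 <;> rfl

end Cfsg.Agent.Lib.helper4
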