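import Mathlib
import Cfsg.Agent.Lib.helper4.J3Vec

set_option autoImplicit false

/-! Vectors of the nine-dimensional space over the field with four elements as numbers below
`4⁹`, and linear maps on them by tables. -/

namespace Cfsg.Agent.Lib.helper4

open Cfsg.Agent.Lib.Lead.F4 Cfsg.Spor

/-- entry from a number below four -/
def kofNat (n : ℕ) : F4c :=
  match n with
  | 0 => .z
  | 1 => .o
  | 2 => .w
  | _ => .v

/-- number of an entry -/
def ktoNat (x : F4c) : ℕ :=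
  match x with
  | .z => 0
  | .o => 1
  | .w => 2
  | .v => 3

theorem ktoNat_lt (x : F4c) : ktoNat x < 4 := by cases x <;> decide

theorem kofNat_ktoNat (x : F4c) : kofNat (ktoNat x) = x := by cases x <;> rfl

theorem ktoNat_kofNat (n : ℕ) (h : n < 4) : ktoNat (kofNat n) = n := by
  interval_cases n <;> rfl

theorem ktoNat_add (x y : F4c) : ktoNat (F4c.add x y) = Nat.xor (ktoNat x) (ktoNat y) := by
  cases x <;> cases y <;> rfl

/-- the number of a vector: its entries in base four, first entry lowest -/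
def kkey (v : KVec) : ℕ :=
  Nat.add (ktoNat v.c0) (Nat.mul 4 (Nat.add (ktoNat v.c1) (Nat.mul 4 (Nat.add (ktoNat v.c2)
    (Nat.mul 4 (Nat.add (ktoNat v.c3) (Nat.mul 4 (Nat.add (ktoNat v.c4) (Nat.mul 4
      (Nat.add (ktoNat v.c5) (Nat.mul 4 (Nat.add (ktoNat v.c6) (Nat.mul 4 (Nat.add (ktoNat v.c7)
        (Nat.mul 4 (ktoNat v.c8))))))))))))))))

theorem kkey_eq (v : KVec) : kkey v = ktoNat v.c0 + 4 * (ktoNat v.c1 + 4 * (ktoNat v.c2 +
    4 * (ktoNat v.c3 + 4 * (ktoNat v.c4 + 4 * (ktoNat v.c5 + 4 * (ktoNat v.c6 +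
      4 * (ktoNat v.c7 + 4 * ktoNat v.c8))))))) := rfl

theorem kkey_lt (v : KVec) : kkey v < 262144 := by
  rw [kkey_eq]
  have h0 := ktoNat_lt v.c0
  have h1 := ktoNat_lt v.c1
  have h2 := ktoNat_lt v.c2
  have h3 := ktoNat_lt v.c3
  have h4 := ktoNat_lt v.c4
  have h5 := ktoNat_lt v.c5
  have h6 := ktoNat_lt v.c6
  have h7 := ktoNat_lt v.c7
  have h8 := ktoNat_lt v.c8
  omega

/-- evaluate a number before passing it on -/
def kforceNat {α : Type} (x : ℕ) (k : ℕ → α) : α :=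
  match x with
  | 0 => k Nat.zero
  | t + 1 => k (Nat.succ t)

theorem kforceNat_eq {α : Type} (x : ℕ) (k : ℕ → α) : kforceNat x k = k x := by
  cases x <;> rfl

/-- the vector of a number -/
def kvecOfKey (n : ℕ) : KVec :=
  kforceNat (Nat.div n 4) fun n1 => kforceNat (Nat.div n1 4) fun n2 =>
  kforceNat (Nat.div n2 4) fun n3 => kforceNat (Nat.div n3 4) fun n4 =>
  kforceNat (Nat.div n4 4) fun n5 => kforceNat (Nat.div n5 4) fun n6 =>
  kforceNat (Nat.div n6 4) fun n7 => kforceNat (Nat.div n7 4) fun n8 =>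
    ⟨kofNat (Nat.mod n 4), kofNat (Nat.mod n1 4), kofNat (Nat.mod n2 4), kofNat (Nat.mod n3 4),
      kofNat (Nat.mod n4 4), kofNat (Nat.mod n5 4), kofNat (Nat.mod n6 4), kofNat (Nat.mod n7 4),
      kofNat (Nat.mod n8 4)⟩

theorem kvecOfKey_eq (n : ℕ) : kvecOfKey n =
    ⟨kofNat (n % 4), kofNat (n / 4 % 4), kofNat (n / 16 % 4), kofNat (n / 64 % 4),
      kofNat (n / 256 % 4), kofNat (n / 1024 % 4), kofNat (n / 4096 % 4), kofNat (n / 16384 % 4),
      kofNat (n / 65536 % 4)⟩ := by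
  unfold kvecOfKey
  simp only [kforceNat_eq]
  have e : ∀ a b : ℕ, Nat.div a b = a / b := fun _ _ => rfl
  have e' : ∀ a b : ℕ, Nat.mod a b = a % b := fun _ _ => rfl
  simp only [e, e', Nat.div_div_eq_div_mul]

theorem kvecOfKey_kkey (v : KVec) : kvecOfKey (kkey v) = v := by
  rw [kvecOfKey_eq, kkey_eq]
  have h0 := ktoNat_lt v.c0
  have h1 := ktoNat_lt v.c1
  have h2 := ktoNat_lt v.c2
  have h3 := ktoNat_lt v.c3
  have h4 := ktoNat_lt v.c4
  have h5 := ktoNat_lt v.c5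
  have h6 := ktoNat_lt v.c6
  have h7 := ktoNat_lt v.c7
  have h8 := ktoNat_lt v.c8
  set K := ktoNat v.c0 + 4 * (ktoNat v.c1 + 4 * (ktoNat v.c2 +
    4 * (ktoNat v.c3 + 4 * (ktoNat v.c4 + 4 * (ktoNat v.c5 + 4 * (ktoNat v.c6 +
      4 * (ktoNat v.c7 + 4 * ktoNat v.c8))))))) with hK
  have e0 : K % 4 = ktoNat v.c0 := by omega
  have e1 : K / 4 % 4 = ktoNat v.c1 := by omega
  have e2 : K / 16 % 4 = ktoNat v.c2 := by omega
  have e3 : K / 64 % 4 = ktoNat v.c3 := by omega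
  have e4 : K / 256 % 4 = ktoNat v.c4 := by omega
  have e5 : K / 1024 % 4 = ktoNat v.c5 := by omega
  have e6 : K / 4096 % 4 = ktoNat v.c6 := by omega
  have e7 : K / 16384 % 4 = ktoNat v.c7 := by omega
  have e8 : K / 65536 % 4 = ktoNat v.c8 := by omega
  rw [e0, e1, e2, e3, e4, e5, e6, e7, e8]
  simp only [kofNat_ktoNat]

theorem kkey_kvecOfKey (n : ℕ) (h : n < 262144) : kkey (kvecOfKey n) = n := by
  rw [kvecOfKey_eq, kkey_eq]
  simp only []
  rw [ktoNat_kofNat _ (Nat.mod_lt _ (by norm_num)), ktoNat_kofNat _ (Nat.mod_lt _ (by norm_num)),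
    ktoNat_kofNat _ (Nat.mod_lt _ (by norm_num)), ktoNat_kofNat _ (Nat.mod_lt _ (by norm_num)),
    ktoNat_kofNat _ (Nat.mod_lt _ (by norm_num)), ktoNat_kofNat _ (Nat.mod_lt _ (by norm_num)),
    ktoNat_kofNat _ (Nat.mod_lt _ (by norm_num)), ktoNat_kofNat _ (Nat.mod_lt _ (by norm_num)),
    ktoNat_kofNat _ (Nat.mod_lt _ (by norm_num))]
  omega

theorem kkey_injective : Function.Injective kkey := by
  intro a b h
  rw [← kvecOfKey_kkey a, ← kvecOfKey_kkey b, h]

theorem xor_base_four (a b A B : ℕ) (ha : a < 4) (hb : b < 4) :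
    Nat.xor (a + 4 * A) (b + 4 * B) = Nat.xor a b + 4 * Nat.xor A B := by
  have hx : Nat.xor a b < 4 := Nat.xor_lt_two_pow (n := 2) ha hb
  apply Nat.eq_of_testBit_eq
  intro i
  have e1 : a + 4 * A = 2 ^ 2 * A + a := by ring
  have e2 : b + 4 * B = 2 ^ 2 * B + b := by ring
  have e3 : Nat.xor a b + 4 * Nat.xor A B = 2 ^ 2 * Nat.xor A B + Nat.xor a b := by ring
  rw [e3, Nat.testBit_two_pow_mul_add _ hx]
  show ((a + 4 * A) ^^^ (b + 4 * B)).testBit i = _
  rw [Nat.testBit_xor, e1, e2, Nat.testBit_two_pow_mul_add _ ha, Nat.testBit_two_pow_mul_add _ hb]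
  split_ifs
  · show _ = (a ^^^ b).testBit i
    rw [Nat.testBit_xor]
  · show _ = (A ^^^ B).testBit (i - 2)
    rw [Nat.testBit_xor]

theorem kkey_kadd (u v : KVec) : kkey (kadd u v) = Nat.xor (kkey u) (kkey v) := by
  rw [kkey_eq, kkey_eq, kkey_eq]
  simp only [kadd, ktoNat_add]
  rw [xor_base_four _ _ _ _ (ktoNat_lt _) (ktoNat_lt _),
    xor_base_four _ _ _ _ (ktoNat_lt _) (ktoNat_lt _),
    xor_base_four _ _ _ _ (ktoNat_lt _) (ktoNat_lt _),
    xor_base_four _ _ _ _ (ktoNat_lt _) (ktoNat_lt _),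
    xor_base_four _ _ _ _ (ktoNat_lt _) (ktoNat_lt _),
    xor_base_four _ _ _ _ (ktoNat_lt _) (ktoNat_lt _),
    xor_base_four _ _ _ _ (ktoNat_lt _) (ktoNat_lt _),
    xor_base_four _ _ _ _ (ktoNat_lt _) (ktoNat_lt _)]

/-- entry `i` of a table of entries of 18 bits -/
def klook (T i : ℕ) : ℕ := Nat.land (Nat.shiftRight T (Nat.mul 18 i)) 262143

/-- the linear map given by a table for the four lowest entries and a table for the five highest
entries -/
def kapp (T : ℕ × ℕ) (x : ℕ) : ℕ :=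
  Nat.xor (klook T.1 (Nat.mod x 256)) (klook T.2 (Nat.div x 256))

/-- the tables agree with the matrix -/
def ktabChk (M : KMat) (T : ℕ × ℕ) : Bool :=
  ((List.range 256).all fun i => Nat.beq (kkey (kmv M (kvecOfKey i))) (klook T.1 i)) &&
    ((List.range 1024).all fun i =>
      Nat.beq (kkey (kmv M (kvecOfKey (Nat.mul 256 i)))) (klook T.2 i))

theorem kvecOfKey_split (x : ℕ) :
    kvecOfKey x = kadd (kvecOfKey (x % 256)) (kvecOfKey (256 * (x / 256))) := by
  rw [kvecOfKey_eq, kvecOfKey_eq, kvecOfKey_eq]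
  have hz : ∀ a : F4c, F4c.add a .z = a := by decide
  have hz' : ∀ a : F4c, F4c.add .z a = a := by decide
  have k0 : kofNat 0 = .z := rfl
  simp only [kadd, KVec.mk.injEq]
  have a0 : 256 * (x / 256) % 4 = 0 := by omega
  have b0 : x % 4 = x % 256 % 4 := by omega
  have a1 : 256 * (x / 256) / 4 % 4 = 0 := by omega
  have b1 : x / 4 % 4 = x % 256 / 4 % 4 := by omega
  have a2 : 256 * (x / 256) / 16 % 4 = 0 := by omega
  have b2 : x / 16 % 4 = x % 256 / 16 % 4 := by omega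
  have a3 : 256 * (x / 256) / 64 % 4 = 0 := by omega
  have b3 : x / 64 % 4 = x % 256 / 64 % 4 := by omega
  have a4 : x % 256 / 256 % 4 = 0 := by omega
  have b4 : x / 256 % 4 = 256 * (x / 256) / 256 % 4 := by omega
  have a5 : x % 256 / 1024 % 4 = 0 := by omega
  have b5 : x / 1024 % 4 = 256 * (x / 256) / 1024 % 4 := by omega
  have a6 : x % 256 / 4096 % 4 = 0 := by omega
  have b6 : x / 4096 % 4 = 256 * (x / 256) / 4096 % 4 := by omega
  have a7 : x % 256 / 16384 % 4 = 0 := by omega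
  have b7 : x / 16384 % 4 = 256 * (x / 256) / 16384 % 4 := by omega
  have a8 : x % 256 / 65536 % 4 = 0 := by omega
  have b8 : x / 65536 % 4 = 256 * (x / 256) / 65536 % 4 := by omega
  rw [a0, a1, a2, a3, a4, a5, a6, a7, a8, b0, b1, b2, b3, b4, b5, b6, b7, b8]
  simp only [k0, hz, hz', and_self]

theorem kapp_eq (M : KMat) (T : ℕ × ℕ) (h : ktabChk M T = true) (x : ℕ) (hx : x < 262144) :
    kapp T x = kkey (kmv M (kvecOfKey x)) := by
  unfold ktabChk at h
  rw [Bool.and_eq_true, List.all_eq_true, List.all_eq_true] at h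
  have h1 := h.1 (x % 256) (List.mem_range.2 (Nat.mod_lt _ (by norm_num)))
  have h2 := h.2 (x / 256) (List.mem_range.2 (by omega))
  have h1' := Nat.eq_of_beq_eq_true h1
  have h2' := Nat.eq_of_beq_eq_true h2
  rw [kvecOfKey_split x, kmv_kadd, kkey_kadd]
  unfold kapp
  show Nat.xor (klook T.1 (x % 256)) (klook T.2 (x / 256)) = _
  rw [← h1', ← h2']
  rfl

/-- the first nonzero digit in base four -/
def kfirstN : ℕ → ℕ → ℕ
  | 0, _ => 0
  | m + 1, x =>
    match Nat.mod x 4 with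
    | 0 => kfirstN m (Nat.div x 4)
    | d + 1 => Nat.succ d

theorem kfirstN_step (m a r : ℕ) (ha : a < 4) :
    kfirstN (m + 1) (a + 4 * r) = if a = 0 then kfirstN m r else a := by
  have h1 : Nat.mod (a + 4 * r) 4 = a := by show (a + 4 * r) % 4 = a; omega
  have h2 : Nat.div (a + 4 * r) 4 = r := by show (a + 4 * r) / 4 = r; omega
  rw [kfirstN, h1, h2]
  rcases a with _ | a
  · simp
  · simp

theorem ktoNat_kfnz (x rest : F4c) :
    ktoNat (kfnz x rest) = if ktoNat x = 0 then ktoNat rest else ktoNat x := by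
  cases x <;> rfl

theorem kfirstN_kkey (v : KVec) : kfirstN 9 (kkey v) = ktoNat (kfirst v) := by
  rw [kkey_eq]
  unfold kfirst
  simp only [ktoNat_kfnz]
  rw [kfirstN_step _ _ _ (ktoNat_lt _), kfirstN_step _ _ _ (ktoNat_lt _),
    kfirstN_step _ _ _ (ktoNat_lt _), kfirstN_step _ _ _ (ktoNat_lt _),
    kfirstN_step _ _ _ (ktoNat_lt _), kfirstN_step _ _ _ (ktoNat_lt _),
    kfirstN_step _ _ _ (ktoNat_lt _), kfirstN_step _ _ _ (ktoNat_lt _)]
  have h9 : kfirstN 1 (ktoNat v.c8) = if ktoNat v.c8 = 0 then ktoNat F4c.z else ktoNat v.c8 := by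
    have := kfirstN_step 0 (ktoNat v.c8) 0 (ktoNat_lt _)
    rw [mul_zero, add_zero] at this
    rw [this]
    rfl
  rw [h9]

/-- the multiple with first nonzero digit one, by the tables of the scalars `ω` and `ω²` -/
def knormN (Tw Tv : ℕ × ℕ) (x : ℕ) : ℕ :=
  match kfirstN 9 x with
  | 2 => kapp Tv x
  | 3 => kapp Tw x
  | _ => x

theorem knormN_kkey (Tw Tv : ℕ × ℕ) (hw : ktabChk (kscal .w) Tw = true)
    (hv : ktabChk (kscal .v) Tv = true) (v : KVec) :
    knormN Tw Tv (kkey v) = kkey (knorm v) := by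
  unfold knormN knorm
  rw [kfirstN_kkey]
  cases h : kfirst v
  · rfl
  · rfl
  · show kapp Tv (kkey v) = _
    rw [kapp_eq _ _ hv _ (kkey_lt v), kvecOfKey_kkey, kmv_kscal]
  · show kapp Tw (kkey v) = _
    rw [kapp_eq _ _ hw _ (kkey_lt v), kvecOfKey_kkey, kmv_kscal]

end Cfsg.Agent.Lib.helper4
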