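import Mathlib
import Cfsg.Prelude.Def_Classical
import Cfsg.Agent.Lib.helper4.J3Final

set_option autoImplicit false

/-! The triple cover of the third Janko group preserves the standard Hermitian form of its space
of dimension nine over a field with four elements. -/

namespace Cfsg.Agent.Lib.helper4

open Cfsg.Agent.Lib.Lead.F4 Cfsg.Spor Matrix
open scoped MatrixGroups

/-- the squares of the entries of a vector -/
def ksqV (v : KVec) : KVec :=
  ⟨v.c0 * v.c0, v.c1 * v.c1, v.c2 * v.c2, v.c3 * v.c3, v.c4 * v.c4, v.c5 * v.c5, v.c6 * v.c6,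
    v.c7 * v.c7, v.c8 * v.c8⟩

/-- the squares of the entries of a matrix -/
def kfrobM (M : KMat) : KMat :=
  ⟨ksqV M.r0, ksqV M.r1, ksqV M.r2, ksqV M.r3, ksqV M.r4, ksqV M.r5, ksqV M.r6, ksqV M.r7,
    ksqV M.r8⟩

theorem kdecM_kfrobM (M : KMat) (i j : F9) :
    kdecM (kfrobM M) i j = kdecM M i j * kdecM M i j := by
  revert j
  revert i
  apply f9_cases <;> (apply f9_cases <;> rfl)

theorem j3Unit_chk : ∀ l ∈ j3K1,
    kmm (ktr (j3Mat16.getD l kone)) (kfrobM (j3Mat16.getD l kone)) = kone := by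
  decide +kernel

theorem j3Sq6_chk : kmm (j3Mat16.getD 6 kone) (j3Mat16.getD 6 kone) = kone := by decide +kernel

theorem j3Off6_chk : kdecM (j3Mat16.getD 6 kone) (0, 1) (1, 0) = F4c.o := by decide +kernel

section
variable {F : Type} [Field F] (ω : F) (h2 : (2 : F) = 0) (hω : ω * ω = ω + 1)

/-- the Hermitian form -/
def hermF9 (u v : F9 → F) : F := ∑ z, u z * (v z) ^ 2

theorem kmF_ktr (M : KMat) :
    kmF (toFHom ω h2 hω) (ktr M) = (kmF (toFHom ω h2 hω) M).transpose := by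
  unfold kmF
  rw [kdecM_ktr, Matrix.transpose_map]

theorem kmF_kfrobM (M : KMat) :
    kmF (toFHom ω h2 hω) (kfrobM M) = (kmF (toFHom ω h2 hω) M).map (fun x => x ^ 2) := by
  ext i j
  show toFHom ω h2 hω (kdecM (kfrobM M) i j) = (toFHom ω h2 hω (kdecM M i j)) ^ 2
  rw [kdecM_kfrobM, map_mul, sq]

include h2 in
theorem sq_sum_char_two {ι : Type} (s : Finset ι) (f : ι → F) :
    (∑ i ∈ s, f i) ^ 2 = ∑ i ∈ s, (f i) ^ 2 := by
  classical
  induction s using Finset.induction_on with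
  | empty => simp
  | insert a s ha ih =>
    rw [Finset.sum_insert ha, Finset.sum_insert ha, ← ih]
    linear_combination (f a * ∑ i ∈ s, f i) * h2

include h2 in
/-- a matrix with `Mᵀ M^(2) = 1` preserves the Hermitian form -/
theorem hermF9_of_unit (M : Matrix F9 F9 F) (hM : M.transpose * M.map (fun x => x ^ 2) = 1)
    (u v : F9 → F) : hermF9 (M *ᵥ u) (M *ᵥ v) = hermF9 u v := by
  have e1 : (fun z => (M *ᵥ v) z ^ 2) = M.map (fun x => x ^ 2) *ᵥ (fun z => v z ^ 2) := by
    funext z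
    simp only [Matrix.mulVec, dotProduct, Matrix.map_apply]
    rw [sq_sum_char_two h2]
    apply Finset.sum_congr rfl
    intro j _
    rw [mul_pow]
  have e2 : hermF9 (M *ᵥ u) (M *ᵥ v) = (M *ᵥ u) ⬝ᵥ (fun z => (M *ᵥ v) z ^ 2) := rfl
  have e3 : hermF9 u v = u ⬝ᵥ (fun z => v z ^ 2) := rfl
  rw [e2, e3, e1, Matrix.dotProduct_mulVec, Matrix.vecMul_mulVec, ← Matrix.dotProduct_mulVec]
  rw [hM, Matrix.one_mulVec]

end

end Cfsg.Agent.Lib.helper4
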