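import Mathlib
import Cfsg.Agent.Lib.helper4.J3CIDefs
import Cfsg.Agent.Lib.helper4.J3SUa
import Cfsg.Agent.Lib.helper4.J3OData

set_option autoImplicit false

/-! The outer automorphism group of the third Janko group: the tests run by the kernel. -/

namespace Cfsg.Agent.Lib.helper4

/-- the code is one of the three scalars -/
def cscalQ (x : ℕ) : Bool := Nat.beq x cid || (Nat.beq x jcW || Nat.beq x joV)

/-- the code of the cube -/
def ccube (y : ℕ) : ℕ := kforceNat y fun y' => cmul y' (cmul y' y')

/-- the code of the seventeenth power -/
def cpow17 (y : ℕ) : ℕ :=
  kforceNat (csq y) fun y2 => kforceNat (csq y2) fun y4 => kforceNat (csq y4) fun y8 =>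
    kforceNat (csq y8) fun y16 => cmul y16 y

/-- the image of the first basis vector under the cube of a product -/
def ofilt (c x : ℕ) : ℕ :=
  kforceNat (capp x 1) fun w1 => kforceNat (capp c w1) fun w2 => kforceNat (capp x w2) fun w3 =>
    kforceNat (capp c w3) fun w4 => kforceNat (capp x w4) fun w5 => capp c w5

/-- the pairs with the pattern of orders lie in one orbit of the powers -/
def oChk (c ci a : ℕ) (i : ℕ) : Bool :=
  kforceNat (iLook i) fun x => kforceNat (ofilt c x) fun f =>
    match Nat.beq f 1 || (Nat.beq f 2 || Nat.beq f 3) with
    | false => true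
    | true => kforceNat (cmul c x) fun y =>
      match cscalQ (ccube y) with
      | false => true
      | true => kforceNat (cmul (cmul y ci) x) fun z =>
          match cscalQ (cpow17 z) with
          | false => true
          | true => joCp.any fun p => Nat.beq (cmul p a) (cmul x p)

/-- the squares of the entries of a column -/
def cfrobcol (x : ℕ) : ℕ := kkey (ksqV (kvecOfKey x))

/-- the squares of the entries of a matrix -/
def cfrob (C : ℕ) : ℕ := cmap cfrobcol C

/-- the code of the image under the outer automorphism -/
def csig (C : ℕ) : ℕ := cmul joX (cmul (cfrob C) joXi)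

/-- the code of a word in the element of order 19, its inverse and the involution -/
def cwordS : List ℕ → ℕ
  | [] => cid
  | l :: w => cmul ([joC, joCi, joA].getD l cid) (cwordS w)

end Cfsg.Agent.Lib.helper4
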