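import Mathlib
import Cfsg.Agent.Lib.helper4.J3ODefs

set_option autoImplicit false

/-! Kernel checks for the outer automorphism group of the third Janko group: single codes. -/

namespace Cfsg.Agent.Lib.helper4

set_option maxRecDepth 10000000 in
theorem joChkW : cword joCw = joC ∧ cword joAw = joA ∧ cword joUw = joU ∧ cword [15] = joV ∧
    cmul joC joCi = cid ∧ cpow19 joC = cid ∧ cscalQ joC = false ∧
    cmul joU joC = cmul (csq (csq joC)) joU ∧ csq joA = cid ∧ joA ≠ cid ∧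
    cscalQ (ccube (cmul joC joA)) = true ∧
    cscalQ (cpow17 (cmul (cmul (cmul joC joA) joCi) joA)) = true ∧
    (∀ l ∈ joCw, l < 16) ∧ (∀ l ∈ joAw, l < 16) ∧ (∀ l ∈ joUw, l < 16) ∧
    joCp.length = 19 ∧ joCp.getD 0 0 = cid ∧
    (∀ j, j < 18 → joCp.getD (j + 1) 0 = cmul joC (joCp.getD j 0)) := by
  decide +kernel

set_option maxRecDepth 10000000 in
theorem joChkG : cwordS joG3 = cword [3] ∧ cwordS joG5 = cword [5] ∧ cwordS joG6 = cword [6] ∧
    (∀ l ∈ joG3, l < 3) ∧ (∀ l ∈ joG5, l < 3) ∧ (∀ l ∈ joG6, l < 3) := by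
  decide +kernel

set_option maxRecDepth 10000000 in
theorem joChkX : cmul joX joXi = cid ∧ cmul joXi joX = cid ∧ csig (cword [3]) = cword joI3 ∧
    csig (cword [5]) = cword joI5 ∧ csig (cword [6]) = cword joI6 ∧ csig joC = joCi ∧
    csig joA = joA2 ∧ (∀ l ∈ joI3, l < 16) ∧ (∀ l ∈ joI5, l < 16) ∧ (∀ l ∈ joI6, l < 16) := by
  decide +kernel

end Cfsg.Agent.Lib.helper4
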