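import Mathlib
import Cfsg.Agent.Lib.helper4.J3ODefs

set_option autoImplicit false

/-! Kernel check for the outer automorphism group of the third Janko group: the involutions with
the pattern of orders relative to the element of order 19, part M3. -/

namespace Cfsg.Agent.Lib.helper4

set_option maxRecDepth 10000000 in
theorem joChkM3 : krangeAll (oChk joCi joC joA2) 6540 19623 = true := by decide +kernel

end Cfsg.Agent.Lib.helper4
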