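import Mathlib
import Cfsg.Agent.Lib.helper4.J3OChk
import Cfsg.Agent.Lib.helper4.J3OChkP0
import Cfsg.Agent.Lib.helper4.J3OChkP1
import Cfsg.Agent.Lib.helper4.J3OChkP2
import Cfsg.Agent.Lib.helper4.J3OChkP3
import Cfsg.Agent.Lib.helper4.J3OChkM0
import Cfsg.Agent.Lib.helper4.J3OChkM1
import Cfsg.Agent.Lib.helper4.J3OChkM2
import Cfsg.Agent.Lib.helper4.J3OChkM3
import Cfsg.Agent.Lib.helper4.J3CMain2

set_option autoImplicit false

/-! The outer automorphism group of the third Janko group: what the kernel checks give. -/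

namespace Cfsg.Agent.Lib.helper4

open Cfsg.Agent.Lib.Lead.F4 Cfsg.Spor Matrix
open scoped MatrixGroups

/-- applying a product of codes -/
theorem capp_cmul (A B v : ℕ) : capp (cmul A B) v = capp A (capp B v) := by
  have h1 := cdec_mulVec (cmul A B) v
  have h3 := cdec_mulVec A (capp B v)
  rw [← cdec_mulVec B v, Matrix.mulVec_mulVec, ← cdec_cmul, h1] at h3
  have h4 := KVec.toFun_injective h3
  rw [← kkey_kvecOfKey _ (capp_spec (cmul A B) v).1, ← kkey_kvecOfKey _ (capp_spec A (capp B v)).1,
    h4]

theorem ccube_eq (y : ℕ) : ccube y = cmul y (cmul y y) := by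
  unfold ccube
  rw [kforceNat_eq]

theorem ofilt_eq (c x : ℕ) : ofilt c x = capp (ccube (cmul c x)) 1 := by
  unfold ofilt
  simp only [kforceNat_eq]
  rw [ccube_eq, capp_cmul, capp_cmul, capp_cmul, capp_cmul, capp_cmul]

theorem cscalQ_iff (x : ℕ) : cscalQ x = true ↔ x = cid ∨ x = jcW ∨ x = joV := by
  unfold cscalQ
  rw [Bool.or_eq_true, Bool.or_eq_true, nat_beq_iff, nat_beq_iff, nat_beq_iff]

theorem capp_scal_one : capp cid 1 = 1 ∧ capp jcW 1 = 2 ∧ capp joV 1 = 3 := by decide +kernel

theorem oChk_all (s : Bool) (i : ℕ) (hi : i < 26163) :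
    (match s with
      | true => oChk joC joCi joA i
      | false => oChk joCi joC joA2 i) = true := by
  cases s
  · show oChk joCi joC joA2 i = true
    by_cases h0 : i < 6541
    · exact krangeAll_spec _ _ _ joChkM0 i (by omega) (by omega)
    by_cases h1 : i < 13082
    · exact krangeAll_spec _ _ _ joChkM1 i (by omega) (by omega)
    by_cases h3 : i < 19623
    · exact krangeAll_spec _ _ _ joChkM2 i (by omega) (by omega)
    · exact krangeAll_spec _ _ _ joChkM3 i (by omega) (by omega)
  · show oChk joC joCi joA i = true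
    by_cases h0 : i < 6541
    · exact krangeAll_spec _ _ _ joChkP0 i (by omega) (by omega)
    by_cases h1 : i < 13082
    · exact krangeAll_spec _ _ _ joChkP1 i (by omega) (by omega)
    by_cases h3 : i < 19623
    · exact krangeAll_spec _ _ _ joChkP2 i (by omega) (by omega)
    · exact krangeAll_spec _ _ _ joChkP3 i (by omega) (by omega)

/-- what the test says -/
theorem oChk_spec (c ci a i : ℕ) (h : oChk c ci a i = true)
    (h1 : cscalQ (ccube (cmul c (iLook i))) = true)
    (h3 : cscalQ (cpow17 (cmul (cmul (cmul c (iLook i)) ci) (iLook i))) = true) :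
    ∃ p ∈ joCp, cmul p a = cmul (iLook i) p := by
  unfold oChk at h
  rw [kforceNat_eq, kforceNat_eq] at h
  have hf : (Nat.beq (ofilt c (iLook i)) 1 ||
      (Nat.beq (ofilt c (iLook i)) 2 || Nat.beq (ofilt c (iLook i)) 3)) = true := by
    rw [ofilt_eq, Bool.or_eq_true, Bool.or_eq_true, nat_beq_iff, nat_beq_iff, nat_beq_iff]
    rcases (cscalQ_iff _).1 h1 with e | e | e
    · left; rw [e]; exact capp_scal_one.1
    · right; left; rw [e]; exact capp_scal_one.2.1
    · right; right; rw [e]; exact capp_scal_one.2.2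
  rw [hf] at h
  change (kforceNat (cmul c (iLook i)) fun y =>
      match cscalQ (ccube y) with
      | false => true
      | true => kforceNat (cmul (cmul y ci) (iLook i)) fun z =>
          match cscalQ (cpow17 z) with
          | false => true
          | true => joCp.any fun p => Nat.beq (cmul p a) (cmul (iLook i) p)) = true at h
  rw [kforceNat_eq, h1] at h
  change (kforceNat (cmul (cmul (cmul c (iLook i)) ci) (iLook i)) fun z =>
          match cscalQ (cpow17 z) with
          | false => true
          | true => joCp.any fun p => Nat.beq (cmul p a) (cmul (iLook i) p)) = true at h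
  rw [kforceNat_eq, h3] at h
  change (joCp.any fun p => Nat.beq (cmul p a) (cmul (iLook i) p)) = true at h
  rw [List.any_eq_true] at h
  obtain ⟨p, hp, e⟩ := h
  exact ⟨p, hp, Nat.eq_of_beq_eq_true e⟩

end Cfsg.Agent.Lib.helper4
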