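import Mathlib
import Cfsg.Agent.Lib.helper4.J3OSound

set_option autoImplicit false

/-! The outer automorphism group of the third Janko group: the elements of the triple cover
behind the codes. -/

namespace Cfsg.Agent.Lib.helper4

open Cfsg.Agent.Lib.Lead.F4 Cfsg.Spor Matrix
open scoped MatrixGroups

theorem joChkB : joC < 262144 ^ 9 ∧ joCi < 262144 ^ 9 ∧ joA < 262144 ^ 9 ∧ joA2 < 262144 ^ 9 ∧
    joV < 262144 ^ 9 := by decide +kernel

section
variable {F : Type} [Field F] (ω : F) (h2 : (2 : F) = 0) (hω : ω * ω = ω + 1)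

/-- the element of order 19 -/
noncomputable def joCg : GL F9 F := gword ω h2 hω joCw

/-- the involution -/
noncomputable def joAg : GL F9 F := gword ω h2 hω joAw

/-- the normalising element -/
noncomputable def joUg : GL F9 F := gword ω h2 hω joUw

theorem crep_joC : CRep ω h2 hω joC (joCg ω h2 hω) := by
  obtain ⟨a0, a1, a2, a3, a4, a5, a6, a7, a8, a9, a10, a11, a12, a13, a14, a15, a16, a17⟩ := joChkW
  have := crep_word ω h2 hω joCw a12
  rwa [a0] at this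

theorem crep_joA : CRep ω h2 hω joA (joAg ω h2 hω) := by
  obtain ⟨a0, a1, a2, a3, a4, a5, a6, a7, a8, a9, a10, a11, a12, a13, a14, a15, a16, a17⟩ := joChkW
  have := crep_word ω h2 hω joAw a13
  rwa [a1] at this

theorem crep_joU : CRep ω h2 hω joU (joUg ω h2 hω) := by
  obtain ⟨a0, a1, a2, a3, a4, a5, a6, a7, a8, a9, a10, a11, a12, a13, a14, a15, a16, a17⟩ := joChkW
  have := crep_word ω h2 hω joUw a14
  rwa [a2] at this

theorem crep_joV : CRep ω h2 hω joV (gword ω h2 hω [15]) := by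
  obtain ⟨a0, a1, a2, a3, a4, a5, a6, a7, a8, a9, a10, a11, a12, a13, a14, a15, a16, a17⟩ := joChkW
  have := crep_word ω h2 hω [15] (by simp)
  rwa [a3] at this

theorem crep_jcW : CRep ω h2 hω jcW (gword ω h2 hω [7]) := by
  have := crep_word ω h2 hω [7] (by simp)
  rwa [jcW_W] at this

/-- the code of the inverse -/
theorem crep_inv (A B : ℕ) (g : GL F9 F) (hA : CRep ω h2 hω A g) (h : cmul A B = cid) :
    CRep ω h2 hω B g⁻¹ := by
  unfold CRep at *
  have e : (g : Matrix F9 F9 F) * cmF ω h2 hω B = 1 := by rw [hA, ← cmF_cmul, h, cmF_cid]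
  calc ((g⁻¹ : GL F9 F) : Matrix F9 F9 F)
      = ((g⁻¹ : GL F9 F) : Matrix F9 F9 F) * ((g : Matrix F9 F9 F) * cmF ω h2 hω B) := by
        rw [e, mul_one]
    _ = cmF ω h2 hω B := by
        rw [← mul_assoc, ← Units.val_mul, inv_mul_cancel, Units.val_one, one_mul]

theorem crep_joCi : CRep ω h2 hω joCi (joCg ω h2 hω)⁻¹ := by
  obtain ⟨a0, a1, a2, a3, a4, a5, a6, a7, a8, a9, a10, a11, a12, a13, a14, a15, a16, a17⟩ := joChkW
  exact crep_inv ω h2 hω _ _ _ (crep_joC ω h2 hω) a4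

theorem joCg_pow : joCg ω h2 hω ^ 19 = 1 := by
  obtain ⟨a0, a1, a2, a3, a4, a5, a6, a7, a8, a9, a10, a11, a12, a13, a14, a15, a16, a17⟩ := joChkW
  have := crep_pow19 ω h2 hω _ _ (crep_joC ω h2 hω)
  rw [a5] at this
  exact crep_eq ω h2 hω _ _ _ this (crep_one ω h2 hω)

theorem joUg_conj : joUg ω h2 hω * joCg ω h2 hω = joCg ω h2 hω ^ 4 * joUg ω h2 hω := by
  obtain ⟨a0, a1, a2, a3, a4, a5, a6, a7, a8, a9, a10, a11, a12, a13, a14, a15, a16, a17⟩ := joChkW
  have hc := crep_joC ω h2 hω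
  have hu := crep_joU ω h2 hω
  have e2 := crep_cmul ω h2 hω _ _ _ _ hc hc
  have e4 := crep_cmul ω h2 hω _ _ _ _ e2 e2
  have l := crep_cmul ω h2 hω _ _ _ _ hu hc
  have r := crep_cmul ω h2 hω _ _ _ _ e4 hu
  rw [a7, csq_eq, csq_eq] at l
  have p : joCg ω h2 hω * joCg ω h2 hω * (joCg ω h2 hω * joCg ω h2 hω) = joCg ω h2 hω ^ 4 := by
    rw [← pow_two (joCg ω h2 hω), ← pow_add]
  rw [p] at r
  exact crep_eq ω h2 hω _ _ _ l r

theorem joAg_sq : joAg ω h2 hω * joAg ω h2 hω = 1 := by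
  obtain ⟨a0, a1, a2, a3, a4, a5, a6, a7, a8, a9, a10, a11, a12, a13, a14, a15, a16, a17⟩ := joChkW
  rw [csq_eq] at a8
  exact crep_mul_eq ω h2 hω _ _ _ _ _ _ (crep_joA ω h2 hω) (crep_joA ω h2 hω) (crep_one ω h2 hω) a8

theorem joAg_ne : joAg ω h2 hω ≠ 1 := by
  obtain ⟨a0, a1, a2, a3, a4, a5, a6, a7, a8, a9, a10, a11, a12, a13, a14, a15, a16, a17⟩ := joChkW
  intro h
  have h1 := crep_joA ω h2 hω
  rw [h] at h1
  exact a9 (crep_inj ω h2 hω _ _ joChkB.2.2.1 cid_lt _ h1 (crep_one ω h2 hω))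

/-- the codes of the powers -/
theorem crep_joCp (j : ℕ) (hj : j < 19) : CRep ω h2 hω (joCp.getD j 0) (joCg ω h2 hω ^ j) := by
  obtain ⟨a0, a1, a2, a3, a4, a5, a6, a7, a8, a9, a10, a11, a12, a13, a14, a15, a16, a17⟩ := joChkW
  induction j with
  | zero =>
    rw [a16, pow_zero]
    exact crep_one ω h2 hω
  | succ j ih =>
    rw [a17 j (by omega), pow_succ']
    exact crep_cmul ω h2 hω _ _ _ _ (crep_joC ω h2 hω) (ih (by omega))

theorem joCp_mem (p : ℕ) (hp : p ∈ joCp) : ∃ j : ℕ, CRep ω h2 hω p (joCg ω h2 hω ^ j) := by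
  obtain ⟨a0, a1, a2, a3, a4, a5, a6, a7, a8, a9, a10, a11, a12, a13, a14, a15, a16, a17⟩ := joChkW
  obtain ⟨j, hj, e⟩ := List.getElem_of_mem hp
  refine ⟨j, ?_⟩
  have := crep_joCp ω h2 hω j (by omega)
  rwa [List.getD_eq_getElem _ _ hj, e] at this

theorem crep_ccube (Y : ℕ) (y : GL F9 F) (h : CRep ω h2 hω Y y) :
    CRep ω h2 hω (ccube Y) (y ^ 3) := by
  rw [ccube_eq]
  have e2 := crep_cmul ω h2 hω _ _ _ _ h h
  have e3 := crep_cmul ω h2 hω _ _ _ _ h e2
  have p : y * (y * y) = y ^ 3 := by rw [← pow_two y, ← pow_succ']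
  rwa [p] at e3

theorem cpow17_eq (y : ℕ) :
    cpow17 y = cmul (csq (csq (csq (csq y)))) y := by
  unfold cpow17
  simp only [kforceNat_eq]

theorem crep_cpow17 (Y : ℕ) (y : GL F9 F) (h : CRep ω h2 hω Y y) :
    CRep ω h2 hω (cpow17 Y) (y ^ 17) := by
  rw [cpow17_eq, csq_eq, csq_eq, csq_eq, csq_eq]
  have e2 := crep_cmul ω h2 hω _ _ _ _ h h
  have e4 := crep_cmul ω h2 hω _ _ _ _ e2 e2
  have e8 := crep_cmul ω h2 hω _ _ _ _ e4 e4
  have e16 := crep_cmul ω h2 hω _ _ _ _ e8 e8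
  have e17 := crep_cmul ω h2 hω _ _ _ _ e16 h
  have p2 : y * y = y ^ 2 := (pow_two y).symm
  have p4 : y ^ 2 * y ^ 2 = y ^ 4 := (pow_add y 2 2).symm
  have p8 : y ^ 4 * y ^ 4 = y ^ 8 := (pow_add y 4 4).symm
  have p16 : y ^ 8 * y ^ 8 = y ^ 16 := (pow_add y 8 8).symm
  have p17 : y ^ 16 * y = y ^ 17 := (pow_succ y 16).symm
  rwa [p2, p4, p8, p16, p17] at e17

theorem gword15 : gword ω h2 hω [15] = (j3G ω h2 hω 7)⁻¹ := by
  show j3L ω h2 hω 15 * 1 = _
  rw [mul_one]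
  unfold j3L
  rw [if_neg (by norm_num)]

end

section
variable {F : Type} [Field F] [Fintype F] (ω : F) (h2 : (2 : F) = 0) (hω : ω * ω = ω + 1)

omit [Fintype F] in
theorem joCg_mem : joCg ω h2 hω ∈ threeJ3 F ω := gword_mem ω h2 hω _ (j3G_mem ω h2 hω) _

omit [Fintype F] in
theorem joAg_mem : joAg ω h2 hω ∈ threeJ3 F ω := gword_mem ω h2 hω _ (j3G_mem ω h2 hω) _

omit [Fintype F] in
theorem joUg_mem : joUg ω h2 hω ∈ threeJ3 F ω := gword_mem ω h2 hω _ (j3G_mem ω h2 hω) _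

/-- the three central elements -/
theorem j3_center_cases (hF : Fintype.card F = 4) (c : threeJ3 F ω)
    (hc : c ∈ Subgroup.center (threeJ3 F ω)) :
    (c : GL F9 F) = 1 ∨ (c : GL F9 F) = gword ω h2 hω [7] ∨ (c : GL F9 F) = gword ω h2 hω [15] := by
  set zw : threeJ3 F ω := ⟨j3G ω h2 hω 7, j3G_mem ω h2 hω 7 (by norm_num)⟩ with hzw
  have hz3 : orderOf zw = 3 := by
    have := j3_center_card ω h2 hω hF
    rw [j3_center_eq ω h2 hω hF, Nat.card_zpowers] at this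
    exact this
  have hzz : zw ^ 3 = 1 := by
    have := pow_orderOf_eq_one zw
    rwa [hz3] at this
  rw [j3_center_eq ω h2 hω hF, Subgroup.mem_zpowers_iff] at hc
  obtain ⟨k, hk⟩ := hc
  have hk' := zpow_mod_orderOf zw k
  rw [hz3, hk] at hk'
  have h0 : 0 ≤ k % ((3 : ℕ) : ℤ) := Int.emod_nonneg _ (by norm_num)
  have h3 : k % ((3 : ℕ) : ℤ) < 3 := Int.emod_lt_of_pos _ (by norm_num)
  generalize k % ((3 : ℕ) : ℤ) = r at hk' h0 h3
  rw [gword7, gword15]
  interval_cases r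
  · left
    rw [zpow_zero] at hk'
    exact (congrArg (fun x : threeJ3 F ω => (x : GL F9 F)) hk').symm
  · right; left
    rw [zpow_one] at hk'
    exact (congrArg (fun x : threeJ3 F ω => (x : GL F9 F)) hk').symm
  · right; right
    have e : zw ^ (2 : ℤ) = zw⁻¹ := by
      apply eq_inv_of_mul_eq_one_left
      have : zw ^ (2 : ℤ) * zw = zw ^ 3 := by
        rw [← zpow_natCast, ← _root_.zpow_add_one]
        norm_num
      rw [this, hzz]
    rw [e] at hk'
    exact (congrArg (fun x : threeJ3 F ω => (x : GL F9 F)) hk').symm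

/-- central elements have scalar codes -/
theorem j3_center_code (hF : Fintype.card F = 4) (c : threeJ3 F ω)
    (hc : c ∈ Subgroup.center (threeJ3 F ω)) (X : ℕ) (hX : X < 262144 ^ 9)
    (hr : CRep ω h2 hω X c.1) : cscalQ X = true := by
  rw [cscalQ_iff]
  rcases j3_center_cases ω h2 hω hF c hc with e | e | e
  · left
    rw [e] at hr
    exact crep_inj ω h2 hω _ _ hX cid_lt _ hr (crep_one ω h2 hω)
  · right; left
    rw [e] at hr
    exact crep_inj ω h2 hω _ _ hX jcW_Wlt _ hr (crep_jcW ω h2 hω)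
  · right; right
    rw [e] at hr
    exact crep_inj ω h2 hω _ _ hX joChkB.2.2.2.2 _ hr (crep_joV ω h2 hω)

/-- elements with scalar codes are central -/
theorem j3_code_center (hF : Fintype.card F = 4) (c : threeJ3 F ω) (X : ℕ)
    (hr : CRep ω h2 hω X c.1) (hX : cscalQ X = true) : c ∈ Subgroup.center (threeJ3 F ω) := by
  rw [cscalQ_iff] at hX
  set zw : threeJ3 F ω := ⟨j3G ω h2 hω 7, j3G_mem ω h2 hω 7 (by norm_num)⟩ with hzw
  have hzc : zw ∈ Subgroup.center (threeJ3 F ω) := by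
    rw [j3_center_eq ω h2 hω hF]
    exact Subgroup.mem_zpowers _
  rcases hX with e | e | e
  · rw [e] at hr
    have : c = 1 := Subtype.ext (crep_eq ω h2 hω _ _ _ hr (crep_one ω h2 hω))
    rw [this]
    exact Subgroup.one_mem _
  · rw [e] at hr
    have : c = zw := Subtype.ext ((crep_eq ω h2 hω _ _ _ hr (crep_jcW ω h2 hω)).trans
      (gword7 ω h2 hω))
    rw [this]
    exact hzc
  · rw [e] at hr
    have : c = zw⁻¹ := Subtype.ext ((crep_eq ω h2 hω _ _ _ hr (crep_joV ω h2 hω)).trans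
      (gword15 ω h2 hω))
    rw [this]
    exact Subgroup.inv_mem _ hzc

end

end Cfsg.Agent.Lib.helper4
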