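import Mathlib
import Cfsg.Agent.Lib.helper4.J3OSound2

set_option autoImplicit false

/-! The outer automorphism group of the third Janko group: the field automorphism followed by
a conjugation, as an automorphism of the triple cover. -/

namespace Cfsg.Agent.Lib.helper4

open Cfsg.Agent.Lib.Lead.F4 Cfsg.Spor Matrix
open scoped MatrixGroups

theorem ksqV_toFun (v : KVec) : ∀ i : F9, (ksqV v).toFun i = v.toFun i * v.toFun i := by
  apply f9_cases <;> rfl

theorem cfrobcol_lt (x : ℕ) : cfrobcol x < 262144 := kkey_lt _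

theorem cdec_cfrob (C : ℕ) (i j : F9) : cdec (cfrob C) i j = cdec C i j * cdec C i j := by
  show (kvecOfKey (ccol (cfrob C) (kidx j))).toFun i =
    (kvecOfKey (ccol C (kidx j))).toFun i * (kvecOfKey (ccol C (kidx j))).toFun i
  unfold cfrob
  rw [ccol_cmap cfrobcol (fun x _ => cfrobcol_lt x) C _ (kidx_lt j)]
  unfold cfrobcol
  rw [kvecOfKey_kkey, ksqV_toFun]

section
variable {F : Type} [Field F] (ω : F) (h2 : (2 : F) = 0) (hω : ω * ω = ω + 1)

/-- squaring, a ring endomorphism in characteristic two -/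
def joFrobHom : F →+* F where
  toFun x := x * x
  map_one' := mul_one 1
  map_mul' x y := by ring
  map_zero' := mul_zero 0
  map_add' x y := by linear_combination (x * y) * h2

theorem joFrobHom_apply (x : F) : joFrobHom h2 x = x * x := rfl

theorem cmF_cfrob (C : ℕ) :
    cmF ω h2 hω (cfrob C) = (cmF ω h2 hω C).map (joFrobHom h2) := by
  ext i j
  show toFHom ω h2 hω (cdec (cfrob C) i j) =
    joFrobHom h2 (toFHom ω h2 hω (cdec C i j))
  rw [cdec_cfrob, map_mul, joFrobHom_apply]

/-- the field automorphism on invertible matrices -/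
def joFGL : GL F9 F →* GL F9 F := Units.map (RingHom.mapMatrix (joFrobHom h2)).toMonoidHom

theorem joFGL_val (g : GL F9 F) :
    ((joFGL h2 g : GL F9 F) : Matrix F9 F9 F) = (g : Matrix F9 F9 F).map (joFrobHom h2) := rfl

theorem joFGL_inj : Function.Injective (joFGL (F := F) h2) := by
  apply Units.map_injective
  intro A B h
  exact Matrix.map_injective (joFrobHom h2).injective h

/-- the conjugating matrix -/
def joXg : GL F9 F :=
  ⟨cmF ω h2 hω joX, cmF ω h2 hω joXi, by rw [← cmF_cmul, joChkX.1, cmF_cid],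
    by rw [← cmF_cmul, joChkX.2.1, cmF_cid]⟩

/-- the automorphism of the group of invertible matrices -/
def joSigGL : GL F9 F →* GL F9 F := (MulAut.conj (joXg ω h2 hω)).toMonoidHom.comp (joFGL h2)

theorem joSigGL_apply (g : GL F9 F) :
    joSigGL ω h2 hω g = joXg ω h2 hω * joFGL h2 g * (joXg ω h2 hω)⁻¹ := rfl

theorem joSigGL_inj : Function.Injective (joSigGL ω h2 hω) := by
  intro a b h
  rw [joSigGL_apply, joSigGL_apply] at h
  apply joFGL_inj h2
  exact mul_left_cancel (mul_right_cancel h)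

theorem crep_csig (C : ℕ) (g : GL F9 F) (h : CRep ω h2 hω C g) :
    CRep ω h2 hω (csig C) (joSigGL ω h2 hω g) := by
  unfold CRep at *
  rw [joSigGL_apply, Units.val_mul, Units.val_mul, joFGL_val, h, ← cmF_cfrob]
  unfold csig
  rw [cmF_cmul, cmF_cmul, mul_assoc]
  rfl

theorem joSigGL_gen (l : ℕ) (hl : l ∈ j3K1) : joSigGL ω h2 hω (j3G ω h2 hω l) ∈ threeJ3 F ω := by
  have hl' : l = 3 ∨ l = 5 ∨ l = 6 := by
    revert l
    decide
  obtain ⟨b0, b1, b2, b3, b4, b5, b6, b7, b8, b9⟩ := joChkX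
  have key : ∀ (w : List ℕ), (∀ k ∈ w, k < 16) → l < 16 → csig (cword [l]) = cword w →
      joSigGL ω h2 hω (j3G ω h2 hω l) ∈ threeJ3 F ω := by
    intro w hw hl16 e
    have h1 := crep_csig ω h2 hω _ _ (crep_word ω h2 hω [l] (by simpa using hl16))
    rw [e, gword_single ω h2 hω l (j3K1_lt l hl)] at h1
    rw [crep_eq ω h2 hω _ _ _ h1 (crep_word ω h2 hω w hw)]
    exact gword_mem ω h2 hω _ (j3G_mem ω h2 hω) _
  rcases hl' with rfl | rfl | rfl
  · exact key joI3 b7 (by norm_num) b2
  · exact key joI5 b8 (by norm_num) b3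
  · exact key joI6 b9 (by norm_num) b4

theorem joSigGL_mem (g : GL F9 F) (hg : g ∈ threeJ3 F ω) : joSigGL ω h2 hω g ∈ threeJ3 F ω := by
  have : threeJ3 F ω ≤ (threeJ3 F ω).comap (joSigGL ω h2 hω) := by
    conv_lhs => rw [threeJ3_eq_top ω h2 hω]
    unfold j3TopGrp
    rw [Subgroup.closure_le]
    rintro g ⟨l, hl, rfl⟩
    exact joSigGL_gen ω h2 hω l hl
  exact this hg

/-- the automorphism on the triple cover -/
def joSig3 : threeJ3 F ω →* threeJ3 F ω :=
  ((joSigGL ω h2 hω).comp (threeJ3 F ω).subtype).codRestrict (threeJ3 F ω)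
    (fun x => joSigGL_mem ω h2 hω x.1 x.2)

theorem joSig3_coe (x : threeJ3 F ω) : (joSig3 ω h2 hω x : GL F9 F) = joSigGL ω h2 hω x.1 := rfl

theorem joSig3_inj : Function.Injective (joSig3 ω h2 hω) := by
  intro a b h
  apply Subtype.ext
  apply joSigGL_inj ω h2 hω
  rw [← joSig3_coe, ← joSig3_coe, h]

end

section
variable {F : Type} [Field F] [Fintype F] (ω : F) (h2 : (2 : F) = 0) (hω : ω * ω = ω + 1)

theorem joSig3_surj : Function.Surjective (joSig3 ω h2 hω) :=
  Finite.surjective_of_injective (joSig3_inj ω h2 hω)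

theorem joSig3_center (x : threeJ3 F ω) (hx : x ∈ Subgroup.center (threeJ3 F ω)) :
    joSig3 ω h2 hω x ∈ Subgroup.center (threeJ3 F ω) := by
  rw [Subgroup.mem_center_iff] at *
  intro g
  obtain ⟨g', rfl⟩ := joSig3_surj ω h2 hω g
  rw [← map_mul, ← map_mul, hx g']

end

end Cfsg.Agent.Lib.helper4
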