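import Mathlib
import Cfsg.Agent.Lib.helper4.J3OSig

set_option autoImplicit false

/-! The outer automorphism group of the third Janko group: the element of order 19 and its
inverse have different traces. -/

namespace Cfsg.Agent.Lib.helper4

open Cfsg.Agent.Lib.Lead.F4 Cfsg.Spor Matrix
open scoped MatrixGroups

/-- the trace of the matrix of a code -/
def ctr (C : ℕ) : F4c :=
  F4c.add (kvecOfKey (ccol C 0)).c0 (F4c.add (kvecOfKey (ccol C 1)).c1
    (F4c.add (kvecOfKey (ccol C 2)).c2 (F4c.add (kvecOfKey (ccol C 3)).c3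
      (F4c.add (kvecOfKey (ccol C 4)).c4 (F4c.add (kvecOfKey (ccol C 5)).c5
        (F4c.add (kvecOfKey (ccol C 6)).c6 (F4c.add (kvecOfKey (ccol C 7)).c7
          (kvecOfKey (ccol C 8)).c8)))))))

theorem ctr_chk : ctr joC ≠ ctr joCi := by decide +kernel

theorem trace_cdec (C : ℕ) : Matrix.trace (cdec C) = ctr C := by
  unfold Matrix.trace
  rw [sum_f9]
  show (kvecOfKey (ccol C 0)).c0 + (kvecOfKey (ccol C 1)).c1 + (kvecOfKey (ccol C 2)).c2 +
    (kvecOfKey (ccol C 3)).c3 + (kvecOfKey (ccol C 4)).c4 + (kvecOfKey (ccol C 5)).c5 +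
    (kvecOfKey (ccol C 6)).c6 + (kvecOfKey (ccol C 7)).c7 + (kvecOfKey (ccol C 8)).c8 = _
  unfold ctr
  show _ = (kvecOfKey (ccol C 0)).c0 + ((kvecOfKey (ccol C 1)).c1 + ((kvecOfKey (ccol C 2)).c2 +
    ((kvecOfKey (ccol C 3)).c3 + ((kvecOfKey (ccol C 4)).c4 + ((kvecOfKey (ccol C 5)).c5 +
    ((kvecOfKey (ccol C 6)).c6 + ((kvecOfKey (ccol C 7)).c7 + (kvecOfKey (ccol C 8)).c8)))))))
  abel

section
variable {F : Type} [Field F] (ω : F) (h2 : (2 : F) = 0) (hω : ω * ω = ω + 1)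

theorem trace_cmF (C : ℕ) : Matrix.trace (cmF ω h2 hω C) = toFHom ω h2 hω (ctr C) := by
  rw [← trace_cdec]
  unfold cmF Matrix.trace
  rw [map_sum]
  rfl

/-- the element of order 19 is not conjugate to its inverse -/
theorem joCg_not_conj (g : GL F9 F) :
    g * joCg ω h2 hω * g⁻¹ ≠ (joCg ω h2 hω)⁻¹ := by
  intro h
  have h1 := congrArg (fun x : GL F9 F => Matrix.trace (x : Matrix F9 F9 F)) h
  simp only [Units.val_mul] at h1
  rw [Matrix.trace_units_conj, crep_joC ω h2 hω, crep_joCi ω h2 hω, trace_cmF, trace_cmF] at h1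
  exact ctr_chk (toFHom_injective ω h2 hω h1)

end

end Cfsg.Agent.Lib.helper4
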