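import Mathlib
import Cfsg.Agent.Lib.helper4.J3OTr
import Cfsg.Agent.Lib.helper4.J3OAbs

set_option autoImplicit false

/-! The outer automorphism group of a central quotient of the triple cover of the third Janko
group with trivial centre: the facts about the quotient. -/

namespace Cfsg.Agent.Lib.helper4

open Cfsg.Agent.Lib.Lead.F4 Cfsg.Spor Matrix
open scoped MatrixGroups

theorem joFact19 : (50232960 : ℕ).factorization 19 = 1 := by
  have e : (50232960 : ℕ) = 19 ^ 1 * 2643840 := by norm_num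
  rw [e, Nat.factorization_mul (by norm_num) (by norm_num),
    Nat.Prime.factorization_pow (by norm_num)]
  have : (2643840 : ℕ).factorization 19 = 0 := Nat.factorization_eq_zero_of_not_dvd (by norm_num)
  simp [this]

section
variable {F : Type} [Field F] (ω : F) (h2 : (2 : F) = 0) (hω : ω * ω = ω + 1)

/-- the invertible matrix of a word in the element of order 19, its inverse and the involution -/
noncomputable def gwordS : List ℕ → GL F9 F
  | [] => 1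
  | l :: w => ([joCg ω h2 hω, (joCg ω h2 hω)⁻¹, joAg ω h2 hω].getD l 1) * gwordS w

theorem crep_wordS (w : List ℕ) (h : ∀ l ∈ w, l < 3) :
    CRep ω h2 hω (cwordS w) (gwordS ω h2 hω w) := by
  induction w with
  | nil => exact crep_one ω h2 hω
  | cons l w ih =>
    have hl : l < 3 := h l (by simp)
    have ih' := ih (fun k hk => h k (by simp [hk]))
    interval_cases l
    · exact crep_cmul ω h2 hω _ _ _ _ (crep_joC ω h2 hω) ih'
    · exact crep_cmul ω h2 hω _ _ _ _ (crep_joCi ω h2 hω) ih'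
    · exact crep_cmul ω h2 hω _ _ _ _ (crep_joA ω h2 hω) ih'

theorem gwordS_mem (K : Subgroup (GL F9 F)) (hc : joCg ω h2 hω ∈ K) (ha : joAg ω h2 hω ∈ K)
    (w : List ℕ) : gwordS ω h2 hω w ∈ K := by
  induction w with
  | nil => exact K.one_mem
  | cons l w ih =>
    refine K.mul_mem ?_ ih
    rcases l with _ | _ | _ | n
    · exact hc
    · exact K.inv_mem hc
    · exact ha
    · exact K.one_mem

/-- the three generators are words in the element of order 19 and the involution -/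
theorem j3G_wordS (l : ℕ) (hl : l ∈ j3K1) : ∃ w : List ℕ, j3G ω h2 hω l = gwordS ω h2 hω w := by
  have hl' : l = 3 ∨ l = 5 ∨ l = 6 := by
    revert l
    decide
  obtain ⟨c0, c1, c2, c3, c4, c5⟩ := joChkG
  have key : ∀ (w : List ℕ), (∀ k ∈ w, k < 3) → l < 16 → cwordS w = cword [l] →
      j3G ω h2 hω l = gwordS ω h2 hω w := by
    intro w hw hl16 e
    have h1 := crep_word ω h2 hω [l] (by simpa using hl16)
    rw [gword_single ω h2 hω l (j3K1_lt l hl), ← e] at h1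
    exact crep_eq ω h2 hω _ _ _ h1 (crep_wordS ω h2 hω w hw)
  rcases hl' with rfl | rfl | rfl
  · exact ⟨joG3, key joG3 c3 (by norm_num) c0⟩
  · exact ⟨joG5, key joG5 c4 (by norm_num) c1⟩
  · exact ⟨joG6, key joG6 c5 (by norm_num) c2⟩

/-- the element of order 19 in the triple cover -/
noncomputable def joCt : threeJ3 F ω := ⟨joCg ω h2 hω, joCg_mem ω h2 hω⟩

/-- the involution in the triple cover -/
noncomputable def joAt : threeJ3 F ω := ⟨joAg ω h2 hω, joAg_mem ω h2 hω⟩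

/-- the normalising element in the triple cover -/
noncomputable def joUt : threeJ3 F ω := ⟨joUg ω h2 hω, joUg_mem ω h2 hω⟩

theorem joCt_pow : joCt ω h2 hω ^ 19 = 1 := Subtype.ext (joCg_pow ω h2 hω)

theorem joAt_sq : joAt ω h2 hω * joAt ω h2 hω = 1 := Subtype.ext (joAg_sq ω h2 hω)

theorem joUt_conj : joUt ω h2 hω * joCt ω h2 hω = joCt ω h2 hω ^ 4 * joUt ω h2 hω :=
  Subtype.ext (joUg_conj ω h2 hω)

theorem joSig3_joCt : joSig3 ω h2 hω (joCt ω h2 hω) = (joCt ω h2 hω)⁻¹ := by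
  obtain ⟨b0, b1, b2, b3, b4, b5, b6, b7, b8, b9⟩ := joChkX
  apply Subtype.ext
  have h1 := crep_csig ω h2 hω _ _ (crep_joC ω h2 hω)
  rw [b5] at h1
  exact crep_eq ω h2 hω _ _ _ h1 (crep_joCi ω h2 hω)

theorem crep_joA2 : CRep ω h2 hω joA2 (joSig3 ω h2 hω (joAt ω h2 hω)).1 := by
  obtain ⟨b0, b1, b2, b3, b4, b5, b6, b7, b8, b9⟩ := joChkX
  have h1 := crep_csig ω h2 hω _ _ (crep_joA ω h2 hω)
  rw [b6] at h1
  exact h1

end

section
variable {F : Type} [Field F] [Fintype F] (ω : F) (h2 : (2 : F) = 0) (hω : ω * ω = ω + 1)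
variable {G : Type*} [Group G] (Ψ : threeJ3 F ω →* G)

theorem jo_ker_code (hF : Fintype.card F = 4) (hk : Ψ.ker = Subgroup.center (threeJ3 F ω))
    (x : threeJ3 F ω) (X : ℕ) (hX : X < 262144 ^ 9) (hr : CRep ω h2 hω X x.1) (h : Ψ x = 1) :
    cscalQ X = true :=
  j3_center_code ω h2 hω hF x (by rw [← hk]; exact h) X hX hr

theorem jo_code_ker (hF : Fintype.card F = 4) (hk : Ψ.ker = Subgroup.center (threeJ3 F ω))
    (x : threeJ3 F ω) (X : ℕ) (hr : CRep ω h2 hω X x.1) (hX : cscalQ X = true) : Ψ x = 1 := by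
  have := j3_code_center ω h2 hω hF x X hr hX
  rw [← hk] at this
  exact this

theorem joCG_order (hF : Fintype.card F = 4) (hk : Ψ.ker = Subgroup.center (threeJ3 F ω)) :
    orderOf (Ψ (joCt ω h2 hω)) = 19 := by
  obtain ⟨a0, a1, a2, a3, a4, a5, a6, a7, a8, a9, a10, a11, a12, a13, a14, a15, a16, a17⟩ := joChkW
  have : Fact (Nat.Prime 19) := ⟨by norm_num⟩
  apply orderOf_eq_prime
  · rw [← map_pow, joCt_pow, map_one]
  · intro h
    have := jo_ker_code ω h2 hω Ψ hF hk (joCt ω h2 hω) joC joChkB.1 (crep_joC ω h2 hω) h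
    rw [a6] at this
    exact Bool.false_ne_true this

omit [Fintype F] in
theorem joUG_conj : Ψ (joUt ω h2 hω) * Ψ (joCt ω h2 hω) * (Ψ (joUt ω h2 hω))⁻¹ =
    Ψ (joCt ω h2 hω) ^ 4 := by
  rw [← map_mul, joUt_conj, map_mul, map_pow, mul_inv_cancel_right]

include h2 hω in
theorem joAG_order (hF : Fintype.card F = 4) (hk : Ψ.ker = Subgroup.center (threeJ3 F ω)) :
    orderOf (Ψ (joAt ω h2 hω)) = 2 := by
  have : Fact (Nat.Prime 2) := ⟨Nat.prime_two⟩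
  have hsq := joAt_sq ω h2 hω
  apply orderOf_eq_prime
  · rw [pow_two, ← map_mul, hsq, map_one]
  · intro h
    have := jcInv_inj ω h2 hω Ψ hF hk (joAt ω h2 hω) 1 hsq (mul_one 1) (by rw [h, map_one])
    exact joAg_ne ω h2 hω (congrArg Subtype.val this)

theorem joP1 (hF : Fintype.card F = 4) (hk : Ψ.ker = Subgroup.center (threeJ3 F ω)) :
    (Ψ (joCt ω h2 hω) * Ψ (joAt ω h2 hω)) ^ 3 = 1 := by
  obtain ⟨a0, a1, a2, a3, a4, a5, a6, a7, a8, a9, a10, a11, a12, a13, a14, a15, a16, a17⟩ := joChkW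
  rw [← map_mul, ← map_pow]
  exact jo_code_ker ω h2 hω Ψ hF hk _ _
    (crep_ccube ω h2 hω _ _ (crep_cmul ω h2 hω _ _ _ _ (crep_joC ω h2 hω) (crep_joA ω h2 hω))) a10

theorem joP2 (hF : Fintype.card F = 4) (hk : Ψ.ker = Subgroup.center (threeJ3 F ω)) :
    (Ψ (joCt ω h2 hω) * Ψ (joAt ω h2 hω) * (Ψ (joCt ω h2 hω))⁻¹ * Ψ (joAt ω h2 hω)) ^ 17 = 1 := by
  obtain ⟨a0, a1, a2, a3, a4, a5, a6, a7, a8, a9, a10, a11, a12, a13, a14, a15, a16, a17⟩ := joChkW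
  rw [← map_inv, ← map_mul, ← map_mul, ← map_mul, ← map_pow]
  exact jo_code_ker ω h2 hω Ψ hF hk _ _
    (crep_cpow17 ω h2 hω _ _ (crep_cmul ω h2 hω _ _ _ _ (crep_cmul ω h2 hω _ _ _ _
      (crep_cmul ω h2 hω _ _ _ _ (crep_joC ω h2 hω) (crep_joA ω h2 hω)) (crep_joCi ω h2 hω))
      (crep_joA ω h2 hω))) a11

omit [Fintype F] in
theorem jo_gen (hs : Function.Surjective Ψ) :
    Subgroup.closure {Ψ (joCt ω h2 hω), Ψ (joAt ω h2 hω)} = ⊤ := by
  obtain ⟨H, hH⟩ : ∃ H : Subgroup G,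
    H = Subgroup.closure {Ψ (joCt ω h2 hω), Ψ (joAt ω h2 hω)} := ⟨_, rfl⟩
  rw [← hH]
  obtain ⟨K, hK⟩ : ∃ K : Subgroup (GL F9 F), K = (H.comap Ψ).map (threeJ3 F ω).subtype :=
    ⟨_, rfl⟩
  have hcK : joCg ω h2 hω ∈ K := by
    rw [hK]
    refine ⟨joCt ω h2 hω, ?_, rfl⟩
    show Ψ (joCt ω h2 hω) ∈ H
    rw [hH]
    exact Subgroup.subset_closure (by simp)
  have haK : joAg ω h2 hω ∈ K := by
    rw [hK]
    refine ⟨joAt ω h2 hω, ?_, rfl⟩
    show Ψ (joAt ω h2 hω) ∈ H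
    rw [hH]
    exact Subgroup.subset_closure (by simp)
  have hle : threeJ3 F ω ≤ K := by
    conv_lhs => rw [threeJ3_eq_top ω h2 hω]
    unfold j3TopGrp
    rw [Subgroup.closure_le]
    rintro g ⟨l, hl, rfl⟩
    obtain ⟨w, hw⟩ := j3G_wordS ω h2 hω l hl
    rw [hw]
    exact gwordS_mem ω h2 hω K hcK haK w
  rw [eq_top_iff]
  intro y _
  obtain ⟨x, rfl⟩ := hs y
  have hx := hle x.2
  rw [hK] at hx
  obtain ⟨x', hx', e⟩ := hx
  have : x' = x := Subtype.ext e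
  rw [← this]
  exact hx'

/-- every involution is the image of an element with a code on the list -/
theorem jo_cover (hF : Fintype.card F = 4) (hs : Function.Surjective Ψ)
    (hk : Ψ.ker = Subgroup.center (threeJ3 F ω)) (x : G) (hx : orderOf x = 2) :
    ∃ i, i < 26163 ∧ ∃ u : threeJ3 F ω, CRep ω h2 hω (iLook i) u.1 ∧ Ψ u = x := by
  have hGfin : Finite G := Finite.of_surjective Ψ hs
  have hrep := jcI_rep ω h2 hω
  choose! gI hgI hrI using hrep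
  obtain ⟨t, ht⟩ : ∃ t : G, t = jcTG ω h2 hω Ψ := ⟨_, rfl⟩
  obtain ⟨C, hC⟩ : ∃ C : Subgroup G, C = Subgroup.centralizer ({t} : Set G) := ⟨_, rfl⟩
  let tt : threeJ3 F ω := ⟨jcTg ω h2 hω, jcTg_mem ω h2 hω⟩
  have htt : tt * tt = 1 := Subtype.ext (jcTg_sq ω h2 hω)
  have hΨtt : Ψ tt = t := ht.symm
  let gg : Fin 26163 → threeJ3 F ω := fun i => ⟨gI i.1, hgI i.1 i.2⟩
  let f : Fin 26163 → G ⧸ C := fun i => ((Ψ (gg i) : G) : G ⧸ C)
  have hf : Function.Injective f := by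
    intro i j hij
    have h1 : (Ψ (gg i))⁻¹ * Ψ (gg j) ∈ C := QuotientGroup.eq.1 hij
    rw [hC] at h1
    have h3 := (Subgroup.mem_centralizer_iff.1 h1) t rfl
    have h4 : Ψ (gg i * tt * (gg i)⁻¹) = Ψ (gg j * tt * (gg j)⁻¹) := by
      simp only [map_mul, map_inv]
      rw [hΨtt]
      calc Ψ (gg i) * t * (Ψ (gg i))⁻¹
          = Ψ (gg i) * (t * ((Ψ (gg i))⁻¹ * Ψ (gg j))) * (Ψ (gg j))⁻¹ := by group
        _ = Ψ (gg i) * ((Ψ (gg i))⁻¹ * Ψ (gg j) * t) * (Ψ (gg j))⁻¹ := by rw [h3]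
        _ = Ψ (gg j) * t * (Ψ (gg j))⁻¹ := by group
    have hsq : ∀ g : threeJ3 F ω, (g * tt * g⁻¹) * (g * tt * g⁻¹) = 1 := by
      intro g
      calc (g * tt * g⁻¹) * (g * tt * g⁻¹) = g * (tt * tt) * g⁻¹ := by group
        _ = 1 := by rw [htt]; group
    have h5 := jcInv_inj ω h2 hω Ψ hF hk _ _ (hsq (gg i)) (hsq (gg j)) h4
    have h6 : gI i.1 * jcTg ω h2 hω * (gI i.1)⁻¹ = gI j.1 * jcTg ω h2 hω * (gI j.1)⁻¹ :=
      congrArg (fun x : threeJ3 F ω => (x : GL F9 F)) h5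
    have r1 := hrI i.1 i.2
    have r2 := hrI j.1 j.2
    rw [h6] at r1
    apply Fin.ext
    exact iLook_inj _ _ i.2 j.2 (crep_inj ω h2 hω _ _ (iLook_lt _) (iLook_lt _) _ r1 r2)
  have hcard : Nat.card (G ⧸ C) = 26163 := by
    have hmul := Subgroup.card_mul_index C
    rw [jcG_card ω h2 hω Ψ hF hs hk, hC, ht, (jcΦ_range ω h2 hω Ψ hF hs hk).2] at hmul
    rw [hC, ht]
    show (Subgroup.centralizer ({jcTG ω h2 hω Ψ} : Set G)).index = 26163
    omega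
  have hsurj : Function.Surjective f :=
    ((Nat.bijective_iff_injective_and_card f).2 ⟨hf, by rw [Nat.card_fin, hcard]⟩).2
  obtain ⟨g, hg⟩ := isConj_iff.1 (jc_invol_conj ω h2 hω Ψ hF hs hk x hx)
  rw [← ht] at hg
  obtain ⟨i, hi⟩ := hsurj ((g⁻¹ : G) : G ⧸ C)
  have h1 : (Ψ (gg i))⁻¹ * g⁻¹ ∈ C := QuotientGroup.eq.1 hi
  rw [hC] at h1
  have h3 := (Subgroup.mem_centralizer_iff.1 h1) t rfl
  refine ⟨i.1, i.2, gg i * tt * (gg i)⁻¹, hrI i.1 i.2, ?_⟩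
  rw [map_mul, map_mul, map_inv, hΨtt]
  calc Ψ (gg i) * t * (Ψ (gg i))⁻¹
      = g⁻¹ * (((Ψ (gg i))⁻¹ * g⁻¹)⁻¹ * (t * ((Ψ (gg i))⁻¹ * g⁻¹))) * g := by group
    _ = g⁻¹ * (((Ψ (gg i))⁻¹ * g⁻¹)⁻¹ * ((Ψ (gg i))⁻¹ * g⁻¹ * t)) * g := by rw [h3]
    _ = g⁻¹ * t * g := by group
    _ = x := by rw [← hg]; group

/-- the pairs with the pattern of orders form one orbit of the powers -/
theorem jo_orbit (hF : Fintype.card F = 4) (hs : Function.Surjective Ψ)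
    (hk : Ψ.ker = Subgroup.center (threeJ3 F ω)) (C Ci A : ℕ)
    (hall : ∀ i, i < 26163 → oChk C Ci A i = true) (d a' : threeJ3 F ω)
    (hd : CRep ω h2 hω C d.1) (hdi : CRep ω h2 hω Ci (d⁻¹).1) (ha' : CRep ω h2 hω A a'.1)
    (x : G) (hx : orderOf x = 2) (h1 : (Ψ d * x) ^ 3 = 1)
    (h3 : (Ψ d * x * (Ψ d)⁻¹ * x) ^ 17 = 1) :
    ∃ j : ℕ, x = Ψ (joCt ω h2 hω) ^ j * Ψ a' * (Ψ (joCt ω h2 hω) ^ j)⁻¹ := by
  obtain ⟨i, hi, u, hu, rfl⟩ := jo_cover ω h2 hω Ψ hF hs hk x hx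
  have c1 : cscalQ (ccube (cmul C (iLook i))) = true := by
    apply jo_ker_code ω h2 hω Ψ hF hk ((d * u) ^ 3) _ (by rw [ccube_eq]; exact cmul_lt _ _)
      (crep_ccube ω h2 hω _ _ (crep_cmul ω h2 hω _ _ _ _ hd hu))
    rw [map_pow, map_mul]
    exact h1
  have c3 : cscalQ (cpow17 (cmul (cmul (cmul C (iLook i)) Ci) (iLook i))) = true := by
    apply jo_ker_code ω h2 hω Ψ hF hk ((d * u * d⁻¹ * u) ^ 17) _
      (by rw [cpow17_eq]; exact cmul_lt _ _)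
      (crep_cpow17 ω h2 hω _ _ (crep_cmul ω h2 hω _ _ _ _ (crep_cmul ω h2 hω _ _ _ _
        (crep_cmul ω h2 hω _ _ _ _ hd hu) hdi) hu))
    rw [map_pow, map_mul, map_mul, map_mul, map_inv]
    exact h3
  obtain ⟨p, hp, e⟩ := oChk_spec C Ci A i (hall i hi) c1 c3
  obtain ⟨j, hj⟩ := joCp_mem ω h2 hω p hp
  refine ⟨j, ?_⟩
  have e1 : joCg ω h2 hω ^ j * a'.1 = u.1 * joCg ω h2 hω ^ j :=
    crep_eq ω h2 hω _ _ _ (crep_cmul ω h2 hω _ _ _ _ hj ha')
      (e ▸ crep_cmul ω h2 hω _ _ _ _ hu hj)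
  have e2 : u = joCt ω h2 hω ^ j * a' * (joCt ω h2 hω ^ j)⁻¹ := by
    apply Subtype.ext
    show u.1 = joCg ω h2 hω ^ j * a'.1 * (joCg ω h2 hω ^ j)⁻¹
    rw [e1, mul_inv_cancel_right]
  rw [← map_pow, ← map_inv, ← map_mul, ← map_mul, ← e2]

end

end Cfsg.Agent.Lib.helper4
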