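import Mathlib
import Cfsg.Agent.Lib.helper4.J3OMain

set_option autoImplicit false

/-! The outer automorphism group of a central quotient of the triple cover of the third Janko
group with trivial centre has order two. -/

namespace Cfsg.Agent.Lib.helper4

open Cfsg.Agent.Lib.Lead.F4 Cfsg.Spor Matrix
open scoped MatrixGroups

section
variable {F : Type} [Field F] [Fintype F] (ω : F) (h2 : (2 : F) = 0) (hω : ω * ω = ω + 1)
variable {G : Type*} [Group G] (Ψ : threeJ3 F ω →* G)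

/-- the endomorphism of the quotient -/
noncomputable def joSigHom (hs : Function.Surjective Ψ)
    (hk : Ψ.ker = Subgroup.center (threeJ3 F ω)) : G →* G :=
  Ψ.liftOfSurjective hs ⟨Ψ.comp (joSig3 ω h2 hω), by
    intro x hx
    rw [hk] at hx
    rw [MonoidHom.mem_ker, MonoidHom.comp_apply, ← MonoidHom.mem_ker, hk]
    exact joSig3_center ω h2 hω x hx⟩

theorem joSigHom_apply (hs : Function.Surjective Ψ)
    (hk : Ψ.ker = Subgroup.center (threeJ3 F ω)) (x : threeJ3 F ω) :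
    joSigHom ω h2 hω Ψ hs hk (Ψ x) = Ψ (joSig3 ω h2 hω x) :=
  MonoidHom.liftOfRightInverse_comp_apply _ _ _ _ x

theorem joSigHom_surj (hs : Function.Surjective Ψ)
    (hk : Ψ.ker = Subgroup.center (threeJ3 F ω)) :
    Function.Surjective (joSigHom ω h2 hω Ψ hs hk) := by
  intro y
  obtain ⟨z, rfl⟩ := hs y
  obtain ⟨z', rfl⟩ := joSig3_surj ω h2 hω z
  exact ⟨Ψ z', joSigHom_apply ω h2 hω Ψ hs hk z'⟩

/-- the automorphism of the quotient -/
noncomputable def joSigG (hs : Function.Surjective Ψ)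
    (hk : Ψ.ker = Subgroup.center (threeJ3 F ω)) : MulAut G :=
  haveI : Finite G := Finite.of_surjective Ψ hs
  MulEquiv.ofBijective (joSigHom ω h2 hω Ψ hs hk)
    ⟨Finite.injective_iff_surjective.2 (joSigHom_surj ω h2 hω Ψ hs hk),
      joSigHom_surj ω h2 hω Ψ hs hk⟩

theorem joSigG_apply (hs : Function.Surjective Ψ)
    (hk : Ψ.ker = Subgroup.center (threeJ3 F ω)) (x : threeJ3 F ω) :
    joSigG ω h2 hω Ψ hs hk (Ψ x) = Ψ (joSig3 ω h2 hω x) :=
  joSigHom_apply ω h2 hω Ψ hs hk x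

/-- the automorphism is not inner -/
theorem joSigG_not_inner (hF : Fintype.card F = 4) (hs : Function.Surjective Ψ)
    (hk : Ψ.ker = Subgroup.center (threeJ3 F ω)) :
    joSigG ω h2 hω Ψ hs hk ∉ Cfsg.Inn G := by
  rintro ⟨gb, hgb⟩
  obtain ⟨g, rfl⟩ := hs gb
  obtain ⟨c, hc⟩ : ∃ c : threeJ3 F ω, c = joCt ω h2 hω := ⟨_, rfl⟩
  have hc19 : c ^ 19 = 1 := by rw [hc]; exact joCt_pow ω h2 hω
  have h1 : Ψ (g * c * g⁻¹ * c) = 1 := by
    have := congrArg (fun α : MulAut G => α (Ψ c)) hgb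
    simp only [MulAut.conj_apply] at this
    rw [map_mul, map_mul, map_mul, map_inv, this, joSigG_apply, hc, joSig3_joCt, map_inv,
      inv_mul_cancel]
  obtain ⟨y, hy⟩ : ∃ y : threeJ3 F ω, y = g * c * g⁻¹ * c := ⟨_, rfl⟩
  rw [← hy] at h1
  have hyc : y ∈ Subgroup.center (threeJ3 F ω) := by
    rw [← hk]
    exact h1
  have hy3 : y ^ 3 = 1 := by
    have := pow_card_eq_one' (G := Subgroup.center (threeJ3 F ω)) (x := ⟨y, hyc⟩)
    rw [j3_center_card ω h2 hω hF] at this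
    exact congrArg Subtype.val this
  have hcomm : Commute y c⁻¹ := (Subgroup.mem_center_iff.1 hyc c⁻¹).symm
  have hconj : g * c * g⁻¹ = y * c⁻¹ := by rw [hy]; group
  have h19 : (y * c⁻¹) ^ 19 = 1 := by
    rw [← hconj, conj_pow, hc19]
    group
  rw [hcomm.mul_pow, inv_pow, hc19, inv_one, mul_one] at h19
  have hy1 : y = 1 := by
    calc y = y ^ 19 * ((y ^ 3) ^ 6)⁻¹ := by group
      _ = 1 := by rw [h19, hy3]; simp
  rw [hy1, one_mul] at hconj
  have hconj' : g.1 * joCg ω h2 hω * (g.1)⁻¹ = (joCg ω h2 hω)⁻¹ := by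
    have := congrArg (fun x : threeJ3 F ω => (x : GL F9 F)) hconj
    rw [hc] at this
    exact this
  exact joCg_not_conj ω h2 hω g.1 hconj'

include h2 hω in
/-- the outer automorphism group has order two -/
theorem jo_out_card (hF : Fintype.card F = 4) (hs : Function.Surjective Ψ)
    (hk : Ψ.ker = Subgroup.center (threeJ3 F ω)) : Nat.card (Cfsg.Out G) = 2 := by
  have : Finite G := Finite.of_surjective Ψ hs
  refine out_card_two (Ψ (joCt ω h2 hω)) (Ψ (joAt ω h2 hω)) (Ψ (joUt ω h2 hω))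
    (Ψ (joSig3 ω h2 hω (joAt ω h2 hω))) (joSigG ω h2 hω Ψ hs hk) ?_
    (joCG_order ω h2 hω Ψ hF hk) (joUG_conj ω h2 hω Ψ) (jo_gen ω h2 hω Ψ hs)
    (joAG_order ω h2 hω Ψ hF hk) (joP1 ω h2 hω Ψ hF hk) (joP2 ω h2 hω Ψ hF hk) ?_ ?_ ?_
    (joSigG_apply ω h2 hω Ψ hs hk _) (joSigG_not_inner ω h2 hω Ψ hF hs hk)
  · rw [jcG_card ω h2 hω Ψ hF hs hk]
    exact joFact19
  · intro x hx h1 h3
    exact jo_orbit ω h2 hω Ψ hF hs hk joC joCi joA (fun i hi => oChk_all true i hi)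
      (joCt ω h2 hω) (joAt ω h2 hω) (crep_joC ω h2 hω) (crep_joCi ω h2 hω) (crep_joA ω h2 hω)
      x hx h1 h3
  · intro x hx h1 h3
    have hdi : CRep ω h2 hω joC ((joCt ω h2 hω)⁻¹⁻¹).1 := by
      rw [inv_inv]
      exact crep_joC ω h2 hω
    have h1' : (Ψ (joCt ω h2 hω)⁻¹ * x) ^ 3 = 1 := by rw [map_inv]; exact h1
    have h3' : (Ψ (joCt ω h2 hω)⁻¹ * x * (Ψ (joCt ω h2 hω)⁻¹)⁻¹ * x) ^ 17 = 1 := by
      rw [map_inv, inv_inv]
      exact h3
    exact jo_orbit ω h2 hω Ψ hF hs hk joCi joC joA2 (fun i hi => oChk_all false i hi)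
      (joCt ω h2 hω)⁻¹ (joSig3 ω h2 hω (joAt ω h2 hω)) (crep_joCi ω h2 hω) hdi
      (crep_joA2 ω h2 hω) x hx h1' h3'
  · rw [joSigG_apply, joSig3_joCt, map_inv]

end

end Cfsg.Agent.Lib.helper4
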