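import Mathlib
import Cfsg.Agent.Lib.helper4.J3OMain2
import Cfsg.Agent.Lib.helper4.J3CFinal

set_option autoImplicit false

/-! The outer automorphism group of the third Janko group over any field with four elements has
order two. -/

namespace Cfsg.Agent.Lib.helper4

open Cfsg.Agent.Lib.Lead.F4 Cfsg.Spor Matrix
open scoped MatrixGroups

section
universe u
variable {F : Type u} [Field F] [Fintype F] (ω : F) (h2 : (2 : F) = 0) (hω : ω * ω = ω + 1)

include h2 hω in
theorem j3_out_card (hF : Fintype.card F = 4) : Nat.card (Cfsg.Out (J3 F ω)) = 2 :=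
  jo_out_card F4c.w f4c_two f4c_w (jiΨ ω h2 hω hF) f4c_card (jiΨ_surj ω h2 hω hF)
    (jiΨ_ker ω h2 hω hF)

end

end Cfsg.Agent.Lib.helper4
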