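import Mathlib
import Cfsg.Prelude.Def_Classical
import Cfsg.Agent.Lib.helper4.J3SUa

set_option autoImplicit false

/-! The triple cover of the third Janko group has determinant one and preserves the Hermitian
form; the resulting subgroup of the special unitary group of dimension nine. -/

namespace Cfsg.Agent.Lib.helper4

open Cfsg.Agent.Lib.Lead.F4 Cfsg.Spor Matrix
open scoped MatrixGroups

theorem j3_map_center_equiv {A B : Type*} [Group A] [Group B] (e : A ≃* B) :
    (Subgroup.center A).map (e : A →* B) = Subgroup.center B := by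
  ext x
  rw [Subgroup.mem_map, Subgroup.mem_center_iff]
  constructor
  · rintro ⟨a, ha, rfl⟩ b
    rw [Subgroup.mem_center_iff] at ha
    have := ha (e.symm b)
    have h2 := congrArg e this
    rw [map_mul, map_mul, e.apply_symm_apply] at h2
    exact h2
  · intro h
    refine ⟨e.symm x, ?_, e.apply_symm_apply x⟩
    rw [Subgroup.mem_center_iff]
    intro a
    have := h (e a)
    have h2 := congrArg e.symm this
    rw [map_mul, map_mul, e.symm_apply_apply] at h2
    exact h2

section
variable {F : Type} [Field F] (ω : F)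

theorem j3G_unit (h2 : (2 : F) = 0) (hω : ω * ω = ω + 1) (l : ℕ) (hl : l ∈ j3K1) :
    (j3G ω h2 hω l : Matrix F9 F9 F).transpose *
      (j3G ω h2 hω l : Matrix F9 F9 F).map (fun x => x ^ 2) = 1 := by
  rw [j3G_val ω h2 hω l (j3K1_lt l hl), ← kmF_ktr, ← kmF_kfrobM, ← kmF_kmm, j3Unit_chk l hl,
    kmF_kone]

/-- the group preserves the Hermitian form -/
theorem j3_herm (h2 : (2 : F) = 0) (hω : ω * ω = ω + 1) (g : GL F9 F) (hg : g ∈ threeJ3 F ω)
    (u v : F9 → F) :
    hermF9 ((g : Matrix F9 F9 F) *ᵥ u) ((g : Matrix F9 F9 F) *ᵥ v) = hermF9 u v := by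
  rw [threeJ3_eq_top ω h2 hω] at hg
  unfold j3TopGrp at hg
  induction hg using Subgroup.closure_induction generalizing u v with
  | mem g hg =>
    obtain ⟨l, hl, rfl⟩ := hg
    exact hermF9_of_unit h2 _ (j3G_unit ω h2 hω l hl) u v
  | one => rw [Units.val_one, Matrix.one_mulVec, Matrix.one_mulVec]
  | mul a b _ _ ha hb =>
    rw [Units.val_mul, ← Matrix.mulVec_mulVec, ← Matrix.mulVec_mulVec, ha, hb]
  | inv a _ ha =>
    have h := ha ((a⁻¹ : GL F9 F).1 *ᵥ u) ((a⁻¹ : GL F9 F).1 *ᵥ v)
    rw [Matrix.mulVec_mulVec, Matrix.mulVec_mulVec, ← Units.val_mul, mul_inv_cancel,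
      Units.val_one, Matrix.one_mulVec, Matrix.one_mulVec] at h
    exact h.symm

end

section
variable {F : Type} [Field F] [Fintype F] (ω : F)

theorem j3G6_det (h2 : (2 : F) = 0) (hω : ω * ω = ω + 1) :
    (j3G ω h2 hω 6 : Matrix F9 F9 F).det = 1 := by
  have hsq : (j3G ω h2 hω 6 : Matrix F9 F9 F) * (j3G ω h2 hω 6 : Matrix F9 F9 F) = 1 := by
    rw [j3G_val ω h2 hω 6 (by norm_num), ← kmF_kmm, j3Sq6_chk, kmF_kone]
  have hd := congrArg Matrix.det hsq
  rw [Matrix.det_mul, Matrix.det_one] at hd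
  have : ((j3G ω h2 hω 6 : Matrix F9 F9 F).det - 1) ^ 2 = 0 := by
    linear_combination hd + (1 - (j3G ω h2 hω 6 : Matrix F9 F9 F).det) * h2
  have := pow_eq_zero_iff (two_ne_zero) |>.1 this
  linear_combination this

/-- the group has determinant one -/
theorem j3_det (h2 : (2 : F) = 0) (hω : ω * ω = ω + 1) (hF : Fintype.card F = 4)
    (g : GL F9 F) (hg : g ∈ threeJ3 F ω) : (g : Matrix F9 F9 F).det = 1 := by
  classical
  let dt : threeJ3 F ω →* Fˣ :=
    (Matrix.GeneralLinearGroup.det (n := F9) (R := F)).comp (threeJ3 F ω).subtype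
  have hdt : ∀ x : threeJ3 F ω, ((dt x : Fˣ) : F) = ((x : GL F9 F) : Matrix F9 F9 F).det := by
    intro x
    show ((Matrix.GeneralLinearGroup.det (x : GL F9 F) : Fˣ) : F) = _
    rw [Matrix.GeneralLinearGroup.val_det_apply]
  have hsimple := j3_simple ω h2 hω hF
  -- the centre has determinant one
  have hZ : Subgroup.center (threeJ3 F ω) ≤ dt.ker := by
    rw [j3_center_eq ω h2 hω hF, Subgroup.zpowers_le, MonoidHom.mem_ker]
    apply Units.ext
    rw [hdt]
    show (j3G ω h2 hω 7 : Matrix F9 F9 F).det = 1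
    rw [j3G7_val ω h2 hω, Matrix.det_smul, Matrix.det_one, mul_one]
    have h9 : Fintype.card F9 = 9 := by decide
    rw [h9]
    have : ω ^ 3 = 1 := by linear_combination (ω + 1) * hω + ω * h2
    calc ω ^ 9 = (ω ^ 3) ^ 3 := by ring
      _ = 1 := by rw [this, one_pow]
  -- the generator of order two
  let c6 : threeJ3 F ω := ⟨j3G ω h2 hω 6, j3G_mem ω h2 hω 6 (by norm_num)⟩
  have hc6 : c6 ∈ dt.ker := by
    rw [MonoidHom.mem_ker]
    apply Units.ext
    rw [hdt]
    exact j3G6_det ω h2 hω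
  have hc6Z : c6 ∉ Subgroup.center (threeJ3 F ω) := by
    intro h
    obtain ⟨μ, -, e⟩ := j3_central_scalar ω h2 hω hF c6 h
    have e1 := congrFun (congrFun e (0, 1)) (1, 0)
    change (j3G ω h2 hω 6 : Matrix F9 F9 F) (0, 1) (1, 0) = _ at e1
    rw [j3G_val ω h2 hω 6 (by norm_num), Matrix.smul_apply,
      Matrix.one_apply_ne (by decide), smul_zero] at e1
    change toFHom ω h2 hω (kdecM (j3Mat16.getD 6 kone) (0, 1) (1, 0)) = 0 at e1
    rw [j3Off6_chk] at e1
    exact one_ne_zero (α := F) e1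
  -- the image of the kernel in the quotient
  have hN : (dt.ker.map (QuotientGroup.mk' (Subgroup.center (threeJ3 F ω)))).Normal :=
    Subgroup.Normal.map inferInstance _ (QuotientGroup.mk'_surjective _)
  have hker : dt.ker = ⊤ := by
    rcases hN.eq_bot_or_eq_top with h | h
    · exfalso
      have : QuotientGroup.mk' (Subgroup.center (threeJ3 F ω)) c6 ∈
          dt.ker.map (QuotientGroup.mk' (Subgroup.center (threeJ3 F ω))) :=
        Subgroup.mem_map_of_mem _ hc6
      rw [h, Subgroup.mem_bot] at this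
      exact hc6Z ((QuotientGroup.eq_one_iff _).1 this)
    · rw [eq_top_iff]
      rintro x -
      have : QuotientGroup.mk' (Subgroup.center (threeJ3 F ω)) x ∈
          dt.ker.map (QuotientGroup.mk' (Subgroup.center (threeJ3 F ω))) := by
        rw [h]
        trivial
      obtain ⟨k, hk, e⟩ := this
      have hz : k⁻¹ * x ∈ Subgroup.center (threeJ3 F ω) := QuotientGroup.eq.1 e
      have : x = k * (k⁻¹ * x) := by group
      rw [this]
      exact Subgroup.mul_mem _ hk (hZ hz)
  have : (⟨g, hg⟩ : threeJ3 F ω) ∈ dt.ker := by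
    rw [hker]
    trivial
  rw [MonoidHom.mem_ker] at this
  have h3 := hdt ⟨g, hg⟩
  rw [this, Units.val_one] at h3
  exact h3.symm

end

end Cfsg.Agent.Lib.helper4
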