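import Mathlib
import Cfsg.Prelude.Def_Classical
import Cfsg.Prelude.Def_Sporadic
import Cfsg.Agent.Lib.helper4.J3SUb

set_option autoImplicit false

/-! The triple cover of the third Janko group as a subgroup of the special unitary group of
dimension nine over a field with four elements. -/

namespace Cfsg.Agent.Lib.helper4

open Cfsg.Agent.Lib.Lead.F4 Cfsg.Spor Matrix
open scoped MatrixGroups

/-- numbering the nine indices -/
noncomputable def j3e9 : F9 ≃ Fin 9 := Fintype.equivFinOfCardEq (by decide : Fintype.card F9 = 9)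

section
variable {F : Type} [Field F] [Fintype F] (ω : F)

/-- the matrix with indices renumbered -/
noncomputable def j3Re (M : Matrix F9 F9 F) : Matrix (Fin 9) (Fin 9) F :=
  Matrix.reindexAlgEquiv F F j3e9 M

omit [Fintype F] in
theorem j3Re_mulVec (M : Matrix F9 F9 F) (u : Fin 9 → F) :
    j3Re M *ᵥ u = (M *ᵥ (u ∘ j3e9)) ∘ j3e9.symm := by
  unfold j3Re
  rw [Matrix.reindexAlgEquiv_apply, Matrix.reindex_apply, Matrix.submatrix_mulVec_equiv]
  rfl

omit [Fintype F] in
theorem hermForm_comp (w w' : F9 → F) :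
    Cfsg.hermForm 9 F 2 (w ∘ j3e9.symm) (w' ∘ j3e9.symm) = hermF9 w w' := by
  unfold Cfsg.hermForm hermF9
  exact Equiv.sum_comp j3e9.symm (fun z => w z * w' z ^ 2)

/-- the group as a group of matrices of determinant one -/
noncomputable def j3ToSL (h2 : (2 : F) = 0) (hω : ω * ω = ω + 1) (hF : Fintype.card F = 4) :
    threeJ3 F ω →* Matrix.SpecialLinearGroup (Fin 9) F where
  toFun g := ⟨j3Re ((g : GL F9 F) : Matrix F9 F9 F), by
    unfold j3Re
    rw [Matrix.det_reindexAlgEquiv]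
    exact j3_det ω h2 hω hF g.1 g.2⟩
  map_one' := by
    apply Subtype.ext
    show j3Re (((1 : threeJ3 F ω) : GL F9 F) : Matrix F9 F9 F) = 1
    unfold j3Re
    rw [Subgroup.coe_one, Units.val_one, map_one]
  map_mul' a b := by
    apply Subtype.ext
    show j3Re (((a * b : threeJ3 F ω) : GL F9 F) : Matrix F9 F9 F) =
      j3Re ((a : GL F9 F) : Matrix F9 F9 F) * j3Re ((b : GL F9 F) : Matrix F9 F9 F)
    unfold j3Re
    rw [Subgroup.coe_mul, Units.val_mul, map_mul]

theorem j3ToSL_mem (h2 : (2 : F) = 0) (hω : ω * ω = ω + 1) (hF : Fintype.card F = 4)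
    (g : threeJ3 F ω) : j3ToSL ω h2 hω hF g ∈ Cfsg.SU 9 F 2 := by
  intro u v
  show Cfsg.hermForm 9 F 2 (j3Re ((g : GL F9 F) : Matrix F9 F9 F) *ᵥ u)
    (j3Re ((g : GL F9 F) : Matrix F9 F9 F) *ᵥ v) = Cfsg.hermForm 9 F 2 u v
  rw [j3Re_mulVec, j3Re_mulVec, hermForm_comp, j3_herm ω h2 hω g.1 g.2, ← hermForm_comp]
  congr 1 <;> (funext i; simp)

/-- the group as a subgroup of the special unitary group -/
noncomputable def j3ToSU (h2 : (2 : F) = 0) (hω : ω * ω = ω + 1) (hF : Fintype.card F = 4) :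
    threeJ3 F ω →* Cfsg.SU 9 F 2 :=
  (j3ToSL ω h2 hω hF).codRestrict (Cfsg.SU 9 F 2) (j3ToSL_mem ω h2 hω hF)

theorem j3ToSU_injective (h2 : (2 : F) = 0) (hω : ω * ω = ω + 1) (hF : Fintype.card F = 4) :
    Function.Injective (j3ToSU ω h2 hω hF) := by
  intro a b h
  have h1 := congrArg (fun x : Cfsg.SU 9 F 2 =>
    ((x : Matrix.SpecialLinearGroup (Fin 9) F) : Matrix (Fin 9) (Fin 9) F)) h
  change j3Re ((a : GL F9 F) : Matrix F9 F9 F) = j3Re ((b : GL F9 F) : Matrix F9 F9 F) at h1
  unfold j3Re at h1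
  exact Subtype.ext (Units.ext ((Matrix.reindexAlgEquiv F F j3e9).injective h1))

/-- a subgroup of the special unitary group with centre of order three and the quotient by the
centre simple of the order of the third Janko group -/
theorem j3_in_SU (h2 : (2 : F) = 0) (hω : ω * ω = ω + 1) (hF : Fintype.card F = 4) :
    ∃ H : Subgroup (Cfsg.SU 9 F 2), Nat.card (Subgroup.center H) = 3 ∧
      Cfsg.IsJ3 (H ⧸ Subgroup.center H) := by
  let ψ := j3ToSU ω h2 hω hF
  let e : threeJ3 F ω ≃* ψ.range := MonoidHom.ofInjective (j3ToSU_injective ω h2 hω hF)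
  refine ⟨ψ.range, ?_, ?_⟩
  · rw [← Nat.card_congr (Subgroup.centerCongr e).toEquiv]
    exact j3_center_card ω h2 hω hF
  · let q : J3 F ω ≃* ψ.range ⧸ Subgroup.center ψ.range :=
      QuotientGroup.congr _ _ e (j3_map_center_equiv e)
    haveI := j3_simple ω h2 hω hF
    exact ⟨q.symm.isSimpleGroup, by
      rw [← Nat.card_congr q.toEquiv]
      exact j3_quot_card ω h2 hω hF⟩

end

end Cfsg.Agent.Lib.helper4
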