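import Mathlib
import Cfsg.Agent.Lib.helper4.J3Key

set_option autoImplicit false

/-! Sets of numbers given as numbers (the positions of the bits), for kernel checks. -/

namespace Cfsg.Agent.Lib.helper4

/-- forcing the evaluation of a number through its successor (the kernel then never sees a
successor of a large numeral, which would slow down its caches) -/
def kforceP {α : Type} (n : ℕ) (f : ℕ → α) : α :=
  match Nat.succ n with
  | 0 => f 0
  | t + 1 => f t

theorem kforceP_eq {α : Type} (n : ℕ) (f : ℕ → α) : kforceP n f = f n := rfl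

/-- membership in a set of numbers given as a number -/
def kmem (B x : ℕ) : Bool := Nat.beq (Nat.land (Nat.shiftRight B x) 1) 1

/-- insertion -/
def kins (B x : ℕ) : ℕ := Nat.lor B (Nat.shiftLeft 1 x)

theorem kmem_eq (B x : ℕ) : kmem B x = B.testBit x := by
  unfold kmem
  show Nat.beq ((B >>> x) &&& 1) 1 = _
  rw [Nat.testBit, Nat.and_comm]
  have h : (1 &&& B >>> x) = 0 ∨ (1 &&& B >>> x) = 1 := by
    have := Nat.and_le_left (n := 1) (m := B >>> x)
    omega
  rcases h with h | h <;> rw [h] <;> rfl

theorem kmem_kins (B x y : ℕ) : kmem (kins B x) y = (decide (y = x) || kmem B y) := by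
  rw [kmem_eq, kmem_eq]
  unfold kins
  show (B ||| 1 <<< x).testBit y = _
  rw [Nat.testBit_or, Nat.one_shiftLeft, Nat.testBit_two_pow, Bool.or_comm]
  congr 1
  apply decide_eq_decide.2
  exact eq_comm

theorem kmem_zero (y : ℕ) : kmem 0 y = false := by
  rw [kmem_eq, Nat.zero_testBit]

end Cfsg.Agent.Lib.helper4
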