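import Mathlib
import Cfsg.Agent.Lib.helper14.MPe
import Cfsg.Agent.Lib.helper23.PgW
import Cfsg.Agent.Lib.helper4.MCOBase
import Cfsg.Agent.Lib.helper4.MCFData

set_option autoImplicit false

/-! The fusion system of the McLaughlin group on 275 points: the tests run by the kernel. -/

namespace Cfsg.Agent.Lib.helper4

open Cfsg.Agent.Lib.helper23

/-- the word of an element of the subgroup of order 128 in the sixteen letters -/
def mcfSw (j : ℕ) : List ℕ := (mcfSW.getD j []).flatMap fun k => mcfSgw.getD k []

/-- two coded permutations agree on the five points -/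
def mcfIn (T Y : ℕ) : Bool :=
  mlAll (fun i => Nat.beq (mlLook Y (mlB.getD i 0)) (mlLook T (mlB.getD i 0))) 5 0

/-- `Y T` and `T S` agree on the five points -/
def mcfAgr (T S Y : ℕ) : Bool :=
  mlAll (fun i => Nat.beq (mlLook Y (mlLook T (mlB.getD i 0)))
    (mlLook T (mlLook S (mlB.getD i 0)))) 5 0

/-- the coded permutation is one of the 128 listed ones, or it conjugates one of the five
involutions to none of them -/
def mcfTestT (T : ℕ) : Bool :=
  mcfY.any (fun Y => mcfIn T Y) || mcfSg.any (fun S => !(mcfY.any (fun Y => mcfAgr T S Y)))

/-- the test at the leaves of the search -/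
def mcfTest (f : ℕ → ℕ) : Bool := pgForce (pgMk 9 275 f) mcfTestT

/-- the condition on the images of the points chosen so far: the point 0 is fixed, and the
images are compatible with the central involution -/
def mcfPrune (l : List (ℕ × ℕ)) : Bool :=
  pgAllL l (fun q => cond (Nat.beq q.1 0) (Nat.beq q.2 0) true) &&
    pgCentPrune (fun p => mlLook mcfZ p) l

/-- a listed element commutes with the five involutions only if it is the first or the second -/
def mcfCen (j : ℕ) : Bool :=
  !(mcfSg.all fun S => mlEqB [mcfY.getD j 0, S] [S, mcfY.getD j 0]) ||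
    (Nat.beq j 0 || Nat.beq j 1)

/-- a point other than 0 is moved by one of the five involutions -/
def mcfMoved (p : ℕ) : Bool :=
  Nat.beq p 0 || mcfSg.any fun S => !(Nat.beq (mlLook S p) p)

end Cfsg.Agent.Lib.helper4
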