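import Mathlib
import Cfsg.Agent.Lib.helper4.MCFDefs

set_option autoImplicit false

/-! The fusion system of the McLaughlin group on 275 points: the checks. -/

namespace Cfsg.Agent.Lib.helper4

open Cfsg.Agent.Lib.helper23 Cfsg.Agent.Lib.helper14.MP

set_option maxRecDepth 100000 in
theorem mcfChkS1 : mcfSw 0 = [] ∧ mcfSW.length = 128 ∧ mcfY.length = 128 ∧ mcfSg.length = 5 ∧
    mcfSgw.length = 5 ∧
    (∀ k, k < mcfSgw.length → ∀ j, j < 128 → (mcfNxtS.getD k []).getD j 0 < 128 ∧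
      mlEqB (mlWd (mcfSgw.getD k [] ++ mcfSw j))
        (mlWd (mcfSw ((mcfNxtS.getD k []).getD j 0))) = true) := by
  decide +kernel

set_option maxRecDepth 100000 in
theorem mcfChkS3 : (∀ k, k < 127 → mlSig (mlWd (mcfSw (mcfSord.getD k 0))) <
      mlSig (mlWd (mcfSw (mcfSord.getD (k + 1) 0)))) ∧
    (∀ j, j < 128 → mcfSrk.getD j 0 < 128 ∧ mcfSord.getD (mcfSrk.getD j 0) 0 = j) := by
  decide +kernel

set_option maxRecDepth 100000 in
theorem mcfChkY : ∀ j, j < 128 → mlEqW [mcfY.getD j 0] (mlWd (mcfSw j)) = true := by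
  decide +kernel

set_option maxRecDepth 100000 in
theorem mcfChkG : ∀ k, k < 5 → mlEqW [mcfSg.getD k 0] (mlWd (mcfSgw.getD k [])) = true := by
  decide +kernel

set_option maxRecDepth 100000 in
theorem mcfChkZ : mlEqW [mcfZ] (mlWd mcfZw) = true ∧ mcfSgw.getD 0 [] = mcfZw ∧
    mcfSW.getD 1 [] = [0] := by
  decide +kernel

set_option maxRecDepth 100000 in
theorem mcfChkC : ∀ k, k < 5 → mlEqB (mlWd (mcfCw.getD k [] ++ mcfZw))
    (mlWd (mcfSgw.getD k [] ++ mcfCw.getD k [])) = true := by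
  decide +kernel

set_option maxRecDepth 100000 in
theorem mcfChkZc : ∀ k, k < 5 → mlEqB [mcfZ, mcfSg.getD k 0] [mcfSg.getD k 0, mcfZ] = true := by
  decide +kernel

set_option maxRecDepth 100000 in
theorem mcfChkCen : ∀ j, j < 128 → mcfCen j = true := by
  decide +kernel

set_option maxRecDepth 100000 in
theorem mcfChkFix : (∀ k, k < 5 → mlLook (mcfSg.getD k 0) 0 = 0) ∧
    ∀ p, p < 275 → mcfMoved p = true := by
  decide +kernel

end Cfsg.Agent.Lib.helper4
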