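import Mathlib
import Cfsg.Agent.Lib.helper4.MCFDefs

set_option autoImplicit false

/-! The fusion system of the McLaughlin group on 275 points: the search for the elements
normalising the subgroup of order 128. -/

namespace Cfsg.Agent.Lib.helper4

open Cfsg.Agent.Lib.helper23 Cfsg.Agent.Lib.helper14.MP

set_option maxRecDepth 1000000 in
theorem mcfChkN : pgEnumM 275 9 mcfPrune mcfTest mpC 5 (fun p => p) [] = true := by
  decide +kernel

end Cfsg.Agent.Lib.helper4
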