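import Mathlib
import Cfsg.Agent.Lib.helper4.MCOBase

set_option autoImplicit false

/-! The tests run by the kernel for the outer automorphism group of the McLaughlin group on
275 points. -/

namespace Cfsg.Agent.Lib.helper4

/-- the word raised to a power -/
def mlRepW (w : List ℕ) : ℕ → List ℕ
  | 0 => []
  | n + 1 => w ++ mlRepW w n

/-- the pattern of orders relative to a coded element with its square and cube, or membership in
a list -/
def mlPatW (C C2 C3 : ℕ) (O : List ℕ) (X : List ℕ) (s : ℕ) : Bool :=
  match mlEqB (mlRepW (C :: X) 6) [] with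
  | false => true
  | true =>
    match mlEqB (mlRepW (C :: X ++ (C3 :: X ++ C2 :: X)) 3) [] with
    | false => true
    | true => O.any fun o => Nat.beq o s

/-- the pattern relative to the element of order 11 -/
def mlPat (i : ℕ) : Bool :=
  mlPatW mlC (mlCA.getD 1 0) (mlCA.getD 2 0) (mlOrbSigP ++ mlOrbSigM) (mlXc i) (mlXs i)

/-- the pattern relative to its inverse -/
def mlPatM (i : ℕ) : Bool :=
  mlPatW mlCi (mlCA.getD 8 0) (mlCA.getD 7 0) [] (mlXc i) (mlXs i)

/-- the conjugate of a listed involution under a generator is listed -/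
def mlCl (k i : ℕ) : Bool :=
  Nat.blt (mlNx k i) 22275 &&
    Nat.beq (mlSig (mlG.getD k 0 :: mlXc i ++ [mlG.getD (Nat.add k 8) 0])) (mlXs (mlNx k i))

/-- the involution does not commute with the element of order 11 -/
def mlNc (i : ℕ) : Bool :=
  !(mlEqB (mlXc i ++ [mlC]) (mlC :: mlXc i))

/-- the stored images are the images -/
def mlSg (i : ℕ) : Bool := Nat.beq (mlXs i) (mlSig (mlXc i))

end Cfsg.Agent.Lib.helper4
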