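import Mathlib
import Cfsg.Agent.Lib.helper4.MCOChkDefs

set_option autoImplicit false

/-! Kernel checks for the outer automorphism group of the McLaughlin group on 275 points. -/

namespace Cfsg.Agent.Lib.helper4

set_option maxRecDepth 100000 in
theorem mlChkI : mlG.length = 16 ∧ mlEw.length = 16 ∧
    (∀ l, l < 16 → mlEqW [mlG.getD (Nat.mod (Nat.add l 8) 16) 0, mlG.getD l 0] [] = true) ∧
    (∀ l, l < 16 → mlEqW [mlG.getD l 0] (mlWdB (mlEw.getD l [])) = true) := by decide +kernel

set_option maxRecDepth 100000 in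
theorem mlChkC : mlEqW [mlC] (mlWd mlCw) = true := by decide +kernel

set_option maxRecDepth 100000 in
theorem mlChkCi : mlEqW [mlCi, mlC] [] = true := by decide +kernel

set_option maxRecDepth 100000 in
theorem mlChkA : mlEqW [mlA] (mlWd mlAw) = true := by decide +kernel

set_option maxRecDepth 100000 in
theorem mlChkU : mlEqW [mlU] (mlWd mlUw) = true := by decide +kernel

set_option maxRecDepth 100000 in
theorem mlChkTA : mlEqW [mlTA] (mlWd mlTAw) = true := by decide +kernel

set_option maxRecDepth 100000 in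
theorem mlChkTB : mlEqW [mlTB] (mlWd mlTBw) = true := by decide +kernel

set_option maxRecDepth 100000 in
theorem mlChkUC : mlEqW [mlU, mlC] [mlC, mlC, mlC, mlU] = true := by decide +kernel

set_option maxRecDepth 100000 in
theorem mlChkC11 : mlEqW (mlRepW [mlC] 11) [] = true := by decide +kernel

set_option maxRecDepth 100000 in
theorem mlChkC1 : mlEqW (mlRepW [mlC] 1) [] = false := by decide +kernel

set_option maxRecDepth 100000 in
theorem mlChkAA : mlEqW [mlA, mlA] [] = true := by decide +kernel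

set_option maxRecDepth 100000 in
theorem mlChkA1 : mlEqW (mlRepW [mlA] 1) [] = false := by decide +kernel

set_option maxRecDepth 100000 in
theorem mlChkP1 : mlEqW (mlRepW [mlC, mlA] 6) [] = true := by decide +kernel

set_option maxRecDepth 100000 in
theorem mlChkP2 : mlEqW (mlRepW [mlC, mlA, mlCA.getD 2 0, mlA, mlCA.getD 1 0, mlA] 3) [] = true := by
  decide +kernel

set_option maxRecDepth 100000 in
theorem mlChkAA2 : mlEqW [mlA] [mlA2] = false := by decide +kernel

set_option maxRecDepth 100000 in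
theorem mlChkCA : mlCA.length = 11 ∧
    (∀ k, k < 10 → mlEqW [mlCA.getD k 0] (mlRepW [mlC] (k + 1)) = true) ∧
    mlCA.getD 10 0 = mlA := by
  decide +kernel

set_option maxRecDepth 100000 in
theorem mlChkGen : ∀ k, k < 2 → mlEqW [mlG.getD k 0] (mlWd3 (mlGw.getD k [])) = true := by
  decide +kernel

set_option maxRecDepth 100000 in
theorem mlChkGw : ∀ k, k < 2 → ∀ l ∈ mlGw.getD k [], l < 11 := by decide +kernel

set_option maxRecDepth 100000 in
theorem mlChkZZ : mlEqW [mlZ, mlZ] [] = true := by decide +kernel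

set_option maxRecDepth 100000 in
theorem mlChkZg : ∀ k, k < 2 → mlEqW [mlZ, mlG.getD k 0, mlZ] (mlWd (mlZw.getD k [])) = true := by
  decide +kernel

set_option maxRecDepth 100000 in
theorem mlChkZC : mlEqW [mlZ, mlC, mlZ] [mlC] = true := by decide +kernel

set_option maxRecDepth 100000 in
theorem mlChkZA : mlEqW [mlA2] [mlZ, mlA, mlZ] = true := by decide +kernel

set_option maxRecDepth 100000 in
theorem mlChkZlt : ∀ i, i < 275 → mlLook mlZ i < 275 := by decide +kernel

set_option maxRecDepth 100000 in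
theorem mlChkOrb : mlOrbSigP.length = 11 ∧ mlOrbSigM.length = 11 ∧
    (∀ j, j < 11 → mlOrbSigP.getD j 0 = mlSig (mlRepW [mlC] j ++ mlA :: mlRepW [mlCi] j)) ∧
    (∀ j, j < 11 → mlOrbSigM.getD j 0 = mlSig (mlRepW [mlC] j ++ mlA2 :: mlRepW [mlCi] j)) := by
  decide +kernel

set_option maxRecDepth 100000 in
theorem mlChkS1 : mlSw 0 = [] ∧ mlSW.length = 128 ∧
    (∀ k, k < mlSgw.length → ∀ j, j < 128 → (mlNxtS.getD k []).getD j 0 < 128 ∧
      mlEqB (mlWd (mlSgw.getD k [] ++ mlSw j))
        (mlWd (mlSw ((mlNxtS.getD k []).getD j 0))) = true) := by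
  decide +kernel

set_option maxRecDepth 100000 in
theorem mlChkS3 : (∀ k, k < 127 → mlSig (mlWd (mlSw (mlSord.getD k 0))) <
      mlSig (mlWd (mlSw (mlSord.getD (k + 1) 0)))) ∧
    (∀ j, j < 128 → mlSrk.getD j 0 < 128 ∧ mlSord.getD (mlSrk.getD j 0) 0 = j) := by
  decide +kernel

set_option maxRecDepth 100000 in
theorem mlChkS4 : ∀ j, j < 128 → mlEqB (mlWd (mlSw j ++ mlSw j)) [] = true →
    mlEqB (mlWd (mlSw j)) [] = false →
    mlIdxS.getD j 0 < 22275 ∧ mlXs (mlIdxS.getD j 0) = mlSig (mlWd (mlSw j)) := by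
  decide +kernel

end Cfsg.Agent.Lib.helper4
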