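import Mathlib
import Cfsg.Agent.Lib.helper14.MPe
import Cfsg.Agent.Lib.helper4.MCOChk

set_option autoImplicit false

/-! The model of the McLaughlin group on 275 points used for its outer automorphism group. -/

namespace Cfsg.Agent.Lib.helper4

open Cfsg.Agent.Lib.helper14.MP Cfsg.Agent.Lib.helper23

/-- the group on 275 points -/
abbrev MLQ : Subgroup (Equiv.Perm (Fin 275)) := M275

/-- its two generators -/
def mlg (k : Fin 2) : Equiv.Perm (Fin 275) :=
  match k with
  | 0 => mpSa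
  | 1 => mpSg

theorem MLQ_eq : MLQ = Subgroup.closure (Set.range mlg) := by
  have : Set.range mlg = {mpSa, mpSg} := by
    ext x
    constructor
    · rintro ⟨k, rfl⟩
      rcases k with ⟨k, hk⟩
      interval_cases k
      · exact Set.mem_insert _ _
      · exact Set.mem_insert_of_mem _ rfl
    · rintro (rfl | rfl)
      · exact ⟨0, rfl⟩
      · exact ⟨1, rfl⟩
  rw [this]
  rfl

theorem MLQ_card : Nat.card MLQ = 898128000 := M275_card

/-- the points whose images determine an element -/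
def mlPt (k : ℕ) : Fin 275 := ⟨mlB.getD k 0 % 275, Nat.mod_lt _ (by norm_num)⟩

set_option maxRecDepth 1000000 in
theorem MLQ_rigid (g : Equiv.Perm (Fin 275)) (hg : g ∈ MLQ)
    (h : ∀ k, k < 5 → g (mlPt k) = mlPt k) : g = 1 := by
  have hc1 : pgChkW 275 (mpRigidTop 275).base [mcL1, mcL2, mcL3, mcL4, mcL5] = true := mpchkC
  have hc := hc1
  rw [pgChkW_cons, Bool.and_eq_true] at hc
  have hc2 : pgChkW 275 (mpRigidTop 275).base [mcL2, mcL3, mcL4, mcL5] = true := hc.2
  have hc' := hc.2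
  rw [pgChkW_cons, Bool.and_eq_true] at hc'
  have hc3 : pgChkW 275 (mpRigidTop 275).base [mcL3, mcL4, mcL5] = true := hc'.2
  have hc'' := hc'.2
  rw [pgChkW_cons, Bool.and_eq_true] at hc''
  have hc4 : pgChkW 275 (mpRigidTop 275).base [mcL4, mcL5] = true := hc''.2
  have hc''' := hc''.2
  rw [pgChkW_cons, Bool.and_eq_true] at hc'''
  have hc5 : pgChkW 275 (mpRigidTop 275).base [mcL5] = true := hc'''.2
  have hg' : g ∈ pgGrpW 275 [mcL1, mcL2, mcL3, mcL4, mcL5] := by
    have hh : g ∈ M275 := hg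
    rw [M275_eq] at hh
    exact hh
  obtain ⟨hb1, k1, -, -, -⟩ := pgLvlW_main (mpRigidTop 275) hc1 le_top
  obtain ⟨hb2, k2, -, -, -⟩ := pgLvlW_main (mpRigidTop 275) hc2 le_top
  obtain ⟨hb3, k3, -, -, -⟩ := pgLvlW_main (mpRigidTop 275) hc3 le_top
  obtain ⟨hb4, k4, -, -, -⟩ := pgLvlW_main (mpRigidTop 275) hc4 le_top
  obtain ⟨hb5, k5, -, -, -⟩ := pgLvlW_main (mpRigidTop 275) hc5 le_top
  have e0 : (⟨mcL1.b, hb1⟩ : Fin 275) = mlPt 0 := Fin.ext (show mcL1.b = mlB.getD 0 0 % 275 by decide)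
  have e1 : (⟨mcL2.b, hb2⟩ : Fin 275) = mlPt 1 := Fin.ext (show mcL2.b = mlB.getD 1 0 % 275 by decide)
  have e2 : (⟨mcL3.b, hb3⟩ : Fin 275) = mlPt 2 := Fin.ext (show mcL3.b = mlB.getD 2 0 % 275 by decide)
  have e3 : (⟨mcL4.b, hb4⟩ : Fin 275) = mlPt 3 := Fin.ext (show mcL4.b = mlB.getD 3 0 % 275 by decide)
  have e4 : (⟨mcL5.b, hb5⟩ : Fin 275) = mlPt 4 := Fin.ext (show mcL5.b = mlB.getD 4 0 % 275 by decide)
  have g1 := k1 g hg' (by rw [e0]; exact h 0 (by norm_num))
  have g2 := k2 g g1 (by rw [e1]; exact h 1 (by norm_num))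
  have g3 := k3 g g2 (by rw [e2]; exact h 2 (by norm_num))
  have g4 := k4 g g3 (by rw [e3]; exact h 3 (by norm_num))
  have g5 := k5 g g4 (by rw [e4]; exact h 4 (by norm_num))
  rw [pgGrpW_nil, Subgroup.mem_bot] at g5
  exact g5

theorem ml_noncomm : mpSa * mpSg ≠ mpSg * mpSa := by
  intro h
  have := congrArg (fun f : Equiv.Perm (Fin 275) => (f 0).1) h
  revert this
  decide

theorem MLQ_center : Subgroup.center MLQ = ⊥ := by
  obtain ⟨e⟩ := M275_equiv
  have : Nontrivial MLQ := by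
    refine ⟨⟨⟨mpSa * mpSg, ?_⟩, ⟨mpSg * mpSa, ?_⟩, fun h => ml_noncomm (congrArg Subtype.val h)⟩⟩
    · exact Subgroup.mul_mem _ (Subgroup.subset_closure (Set.mem_insert _ _))
        (Subgroup.subset_closure (Set.mem_insert_of_mem _ rfl))
    · exact Subgroup.mul_mem _ (Subgroup.subset_closure (Set.mem_insert_of_mem _ rfl))
        (Subgroup.subset_closure (Set.mem_insert _ _))
  have hs : IsSimpleGroup MLQ := IsSimpleGroup.isSimpleGroup_of_surjective e.toMonoidHom e.surjective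
  rcases (Subgroup.center MLQ).normal_of_characteristic.eq_bot_or_eq_top with h | h
  · exact h
  · exfalso
    have ha : mpSa ∈ MLQ := Subgroup.subset_closure (Set.mem_insert _ _)
    have hb : mpSg ∈ MLQ := Subgroup.subset_closure (Set.mem_insert_of_mem _ rfl)
    have hz : (⟨mpSa, ha⟩ : MLQ) ∈ Subgroup.center MLQ := h ▸ Subgroup.mem_top _
    have := (Subgroup.mem_center_iff.1 hz) ⟨mpSg, hb⟩
    exact ml_noncomm (congrArg Subtype.val this).symm

set_option maxRecDepth 100000 in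
theorem mlChkG : ∀ k : Fin 2, ∀ i : Fin 275, (mlg k i).1 = mlLook (mlG.getD k.1 0) i.1 := by
  intro k i
  rcases k with ⟨k, hk⟩
  interval_cases k
  · show mpA.getD i.1 0 = mlLook (mlG.getD 0 0) i.1
    revert i
    decide +kernel
  · show mpG.getD i.1 0 = mlLook (mlG.getD 1 0) i.1
    revert i
    decide +kernel

end Cfsg.Agent.Lib.helper4
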