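import Mathlib
import Cfsg.Agent.Lib.helper4.MCOModel

set_option autoImplicit false

/-! The McLaughlin group on 275 points: words in the letters, their codes, and the five
points that determine an element. -/

namespace Cfsg.Agent.Lib.helper4

/-- elements that agree on the five points are equal -/
theorem ml_eq_of_base (g h : Equiv.Perm (Fin 275)) (hg : g ∈ MLQ) (hh : h ∈ MLQ)
    (hb : ∀ k, k < 5 → g (mlPt k) = h (mlPt k)) : g = h := by
  have := MLQ_rigid (h⁻¹ * g) (Subgroup.mul_mem _ (Subgroup.inv_mem _ hh) hg) (by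
    intro k hk
    rw [Equiv.Perm.mul_apply, hb k hk]
    simp)
  calc g = h * (h⁻¹ * g) := by group
    _ = h := by rw [this, mul_one]

/-- the generators and their inverses, indexed by all numbers -/
noncomputable def mlGb (l : ℕ) : Equiv.Perm (Fin 275) :=
  match l % 4 with
  | 0 => mlg 0
  | 1 => mlg 1
  | 2 => (mlg 0)⁻¹
  | _ => (mlg 1)⁻¹

theorem mlGb_mem (l : ℕ) : mlGb l ∈ MLQ := by
  have h0 : mlg 0 ∈ MLQ := by rw [MLQ_eq]; exact Subgroup.subset_closure ⟨0, rfl⟩
  have h1 : mlg 1 ∈ MLQ := by rw [MLQ_eq]; exact Subgroup.subset_closure ⟨1, rfl⟩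
  unfold mlGb
  split
  · exact h0
  · exact h1
  · exact Subgroup.inv_mem _ h0
  · exact Subgroup.inv_mem _ h1

theorem mlRep_g0 : MlRep (mlG.getD 0 0) (mlg 0) := fun i => mlChkG 0 i

theorem mlRep_g1 : MlRep (mlG.getD 1 0) (mlg 1) := fun i => mlChkG 1 i

theorem mlRep_gb (l : ℕ) :
    MlRep ([mlG.getD 0 0, mlG.getD 1 0, mlG.getD 8 0, mlG.getD 9 0].getD (Nat.mod l 4) 0)
      (mlGb l) := by
  have hl : Nat.mod l 4 = l % 4 := rfl
  have h4 : l % 4 < 4 := Nat.mod_lt _ (by norm_num)
  unfold mlGb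
  rw [hl]
  generalize l % 4 = r at h4
  interval_cases r
  · exact mlRep_g0
  · exact mlRep_g1
  · exact mlRep_inv _ _ _ mlRep_g0 (mlChkI.2.2.1 0 (by norm_num))
  · exact mlRep_inv _ _ _ mlRep_g1 (mlChkI.2.2.1 1 (by norm_num))

/-- the element of a word in the generators and their inverses -/
noncomputable def mlPb (w : List ℕ) : Equiv.Perm (Fin 275) := (w.map mlGb).prod

theorem mlPb_mem (w : List ℕ) : mlPb w ∈ MLQ := by
  induction w with
  | nil => exact Subgroup.one_mem _
  | cons l w ih =>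
    unfold mlPb
    rw [List.map_cons, List.prod_cons]
    exact Subgroup.mul_mem _ (mlGb_mem l) ih

theorem mlPb_rep (w : List ℕ) : List.Forall₂ MlRep (mlWdB w) (w.map mlGb) := by
  induction w with
  | nil => exact List.Forall₂.nil
  | cons l w ih => exact List.Forall₂.cons (mlRep_gb l) ih

/-- the sixteen letters, indexed by all numbers -/
noncomputable def mlGen (l : ℕ) : Equiv.Perm (Fin 275) := mlPb (mlEw.getD (l % 16) [])

theorem mlGen_mem (l : ℕ) : mlGen l ∈ MLQ := mlPb_mem _

theorem mlRep_gen (l : ℕ) : MlRep (mlG.getD (Nat.mod l 16) 0) (mlGen l) := by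
  have h16 : l % 16 < 16 := Nat.mod_lt _ (by norm_num)
  exact mlRep_of_eqW _ _ _ (mlPb_rep _) (mlChkI.2.2.2 (l % 16) h16)

theorem mlGen_mod (l : ℕ) : mlGen (l % 16) = mlGen l := by
  unfold mlGen
  rw [Nat.mod_mod]

theorem mlGen_zero : mlGen 0 = mlg 0 := by
  apply mlRep_eq _ _ _ (mlRep_gen 0) mlRep_g0

theorem mlGen_one : mlGen 1 = mlg 1 := by
  apply mlRep_eq _ _ _ (mlRep_gen 1) mlRep_g1

theorem mlGen_add (l : ℕ) : mlGen (Nat.mod (Nat.add l 8) 16) * mlGen l = 1 := by
  have h16 : l % 16 < 16 := Nat.mod_lt _ (by norm_num)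
  have h := mlChkI.2.2.1 (l % 16) h16
  have e : Nat.mod (Nat.add (l % 16) 8) 16 = Nat.mod (Nat.add l 8) 16 := by
    show (l % 16 + 8) % 16 = (l + 8) % 16
    omega
  rw [e] at h
  have r1 : MlRep (mlG.getD (Nat.mod (Nat.add l 8) 16) 0) (mlGen (Nat.mod (Nat.add l 8) 16)) := by
    have := mlRep_gen (Nat.mod (Nat.add l 8) 16)
    rw [show Nat.mod (Nat.mod (Nat.add l 8) 16) 16 = Nat.mod (Nat.add l 8) 16 from
      Nat.mod_mod _ _] at this
    exact this
  have := mlEqW_prod _ _ [mlGen (Nat.mod (Nat.add l 8) 16), mlGen l] []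
    (List.Forall₂.cons r1 (List.Forall₂.cons (mlRep_gen l) List.Forall₂.nil))
    List.Forall₂.nil h
  rw [List.prod_cons, List.prod_cons, List.prod_nil, mul_one] at this
  exact this

theorem mlGen_inv (l : ℕ) : (mlGen l)⁻¹ = mlGen (Nat.mod (Nat.add l 8) 16) :=
  inv_eq_of_mul_eq_one_left (mlGen_add l)

/-- the element of a word in the letters -/
noncomputable def mlPw (w : List ℕ) : Equiv.Perm (Fin 275) := (w.map mlGen).prod

theorem mlPw_nil : mlPw [] = 1 := rfl

theorem mlPw_cons (l : ℕ) (w : List ℕ) : mlPw (l :: w) = mlGen l * mlPw w := by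
  unfold mlPw
  rw [List.map_cons, List.prod_cons]

theorem mlPw_append (w v : List ℕ) : mlPw (w ++ v) = mlPw w * mlPw v := by
  unfold mlPw
  rw [List.map_append, List.prod_append]

theorem mlPw_mem (w : List ℕ) : mlPw w ∈ MLQ := by
  induction w with
  | nil => exact Subgroup.one_mem _
  | cons l w ih =>
    rw [mlPw_cons]
    exact Subgroup.mul_mem _ (mlGen_mem l) ih

theorem mlPw_invW (w : List ℕ) : mlPw (mlInvW w) = (mlPw w)⁻¹ := by
  induction w with
  | nil => simp [mlPw, mlInvW]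
  | cons l w ih =>
    have e : mlInvW (l :: w) = mlInvW w ++ [Nat.mod (Nat.add l 8) 16] := by
      unfold mlInvW
      rw [List.reverse_cons, List.map_append]
      rfl
    rw [e, mlPw_append, ih, mlPw_cons, mlPw_cons, mlPw_nil, mul_one, mul_inv_rev, mlGen_inv]

theorem mlPw_rep (w : List ℕ) : List.Forall₂ MlRep (mlWd w) (w.map mlGen) := by
  induction w with
  | nil => exact List.Forall₂.nil
  | cons l w ih => exact List.Forall₂.cons (mlRep_gen l) ih

theorem mlRep_append (w v : List ℕ) (gs hs : List (Equiv.Perm (Fin 275)))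
    (h1 : List.Forall₂ MlRep w gs) (h2 : List.Forall₂ MlRep v hs) :
    List.Forall₂ MlRep (w ++ v) (gs ++ hs) := by
  induction h1 with
  | nil => exact h2
  | cons hT _ ih => exact List.Forall₂.cons hT ih

theorem mlLook_lt (T p : ℕ) : mlLook T p < 512 := by
  unfold mlLook
  exact Nat.lt_succ_of_le Nat.and_le_right

theorem mlEv_lt (w : List ℕ) (p : ℕ) (hp : p < 512) : mlEv w p < 512 := by
  cases w with
  | nil => exact hp
  | cons T w => exact mlLook_lt _ _

theorem mlB_lt : ∀ k, mlB.getD k 0 < 275 := by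
  intro k
  by_cases hk : k < mlB.length
  · revert k
    decide
  · rw [List.getD_eq_default _ _ (by omega)]
    norm_num

theorem mlPt_val (k : ℕ) : (mlPt k).1 = mlB.getD k 0 := Nat.mod_eq_of_lt (mlB_lt k)

/-- the packed images of the five points determine the images -/
theorem mlSig_inj (w v : List ℕ) (h : mlSig w = mlSig v) :
    ∀ k, k < 5 → mlEv w (mlB.getD k 0) = mlEv v (mlB.getD k 0) := by
  unfold mlSig at h
  have hb : ∀ k, mlB.getD k 0 < 512 := fun k => lt_trans (mlB_lt k) (by norm_num)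
  have a0 := mlEv_lt w _ (hb 0)
  have a1 := mlEv_lt w _ (hb 1)
  have a2 := mlEv_lt w _ (hb 2)
  have a3 := mlEv_lt w _ (hb 3)
  have a4 := mlEv_lt w _ (hb 4)
  have b0 := mlEv_lt v _ (hb 0)
  have b1 := mlEv_lt v _ (hb 1)
  have b2 := mlEv_lt v _ (hb 2)
  have b3 := mlEv_lt v _ (hb 3)
  have b4 := mlEv_lt v _ (hb 4)
  simp only [Nat.add_eq, Nat.mul_eq] at h
  intro k hk
  interval_cases k <;> omega

theorem mlSig_congr (w v : List ℕ)
    (h : ∀ k, k < 5 → mlEv w (mlB.getD k 0) = mlEv v (mlB.getD k 0)) : mlSig w = mlSig v := by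
  unfold mlSig
  rw [h 0 (by norm_num), h 1 (by norm_num), h 2 (by norm_num), h 3 (by norm_num),
    h 4 (by norm_num)]

theorem mlEqB_iff (w v : List ℕ) : mlEqB w v = true ↔ mlSig w = mlSig v := by
  unfold mlEqB
  simp only [Bool.and_eq_true]
  constructor
  · rintro ⟨h0, h1, h2, h3, h4⟩
    apply mlSig_congr
    intro k hk
    interval_cases k
    · exact Nat.eq_of_beq_eq_true h0
    · exact Nat.eq_of_beq_eq_true h1
    · exact Nat.eq_of_beq_eq_true h2
    · exact Nat.eq_of_beq_eq_true h3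
    · exact Nat.eq_of_beq_eq_true h4
  · intro h
    have := mlSig_inj w v h
    rw [this 0 (by norm_num), this 1 (by norm_num), this 2 (by norm_num), this 3 (by norm_num),
      this 4 (by norm_num)]
    simp [Nat.beq_refl]

/-- products in the group with the same packed images are equal -/
theorem ml_eq_of_sig (w v : List ℕ) (gs hs : List (Equiv.Perm (Fin 275)))
    (hw : List.Forall₂ MlRep w gs) (hv : List.Forall₂ MlRep v hs) (hg : gs.prod ∈ MLQ)
    (hh : hs.prod ∈ MLQ) (h : mlSig w = mlSig v) : gs.prod = hs.prod := by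
  have e := mlSig_inj w v h
  apply ml_eq_of_base _ _ hg hh
  intro k hk
  apply Fin.ext
  rw [mlRep_ev w gs hw, mlRep_ev v hs hv, mlPt_val]
  exact e k hk

/-- equal products have the same packed images -/
theorem mlSig_of_eq (w v : List ℕ) (gs hs : List (Equiv.Perm (Fin 275)))
    (hw : List.Forall₂ MlRep w gs) (hv : List.Forall₂ MlRep v hs) (h : gs.prod = hs.prod) :
    mlSig w = mlSig v := by
  apply mlSig_congr
  intro k hk
  have := mlPt_val k
  rw [← this, ← mlRep_ev w gs hw, ← mlRep_ev v hs hv, h]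

end Cfsg.Agent.Lib.helper4
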