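import Mathlib
import Cfsg.Agent.Lib.helper4.MCOSound
import Cfsg.Agent.Lib.helper4.MCFChk
import Cfsg.Agent.Lib.helper4.SchreierStep

set_option autoImplicit false

/-! The McLaughlin group on 275 points: a subgroup of order 128 generated by five involutions,
its centre, and the only point it fixes. -/

namespace Cfsg.Agent.Lib.helper4

/-- the five involutions generating the subgroup of order 128 -/
noncomputable def mcfSgen (k : ℕ) : Equiv.Perm (Fin 275) := mlPw (mcfSgw.getD k [])

/-- the subgroup of order 128 -/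
noncomputable def mcfS : Subgroup (Equiv.Perm (Fin 275)) :=
  Subgroup.closure (Set.range mcfSgen)

theorem mcfS_le : mcfS ≤ MLQ := by
  unfold mcfS
  rw [Subgroup.closure_le]
  rintro _ ⟨k, rfl⟩
  exact mlPw_mem _

theorem mcfSgen_mem (k : ℕ) : mcfSgen k ∈ mcfS := Subgroup.subset_closure ⟨k, rfl⟩

/-- the listed elements of the subgroup of order 128 -/
noncomputable def mcfEl (j : ℕ) : Equiv.Perm (Fin 275) := mlPw (mcfSw j)

theorem mcfPw_flatMap (l : List ℕ) :
    mlPw (l.flatMap fun k => mcfSgw.getD k []) ∈ mcfS := by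
  induction l with
  | nil => exact Subgroup.one_mem _
  | cons k l ih =>
    rw [List.flatMap_cons, mlPw_append]
    exact Subgroup.mul_mem _ (Subgroup.subset_closure ⟨k, rfl⟩) ih

theorem mcfEl_mem (j : ℕ) : mcfEl j ∈ mcfS := mcfPw_flatMap _

theorem mcfEl_zero : mcfEl 0 = 1 := by
  unfold mcfEl
  rw [mcfChkS1.1]
  rfl

theorem mcfSgen_big (k : ℕ) (hk : mcfSgw.length ≤ k) : mcfSgen k = 1 := by
  unfold mcfSgen
  rw [List.getD_eq_default _ _ hk]
  rfl

/-- every element of the subgroup of order 128 is listed -/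
theorem mcfS_mem (g : Equiv.Perm (Fin 275)) (hg : g ∈ mcfS) : ∃ j, j < 128 ∧ g = mcfEl j := by
  let S : Set (Equiv.Perm (Fin 275)) := {x | ∃ j, j < 128 ∧ x = mcfEl j}
  have key : ∀ g ∈ mcfS, ∀ x ∈ S, g * x ∈ S := by
    intro g hg
    induction hg using Subgroup.closure_induction with
    | mem s hs =>
      obtain ⟨k, rfl⟩ := hs
      rintro x ⟨j, hj, rfl⟩
      by_cases hk : k < mcfSgw.length
      · obtain ⟨h1, h2⟩ := mcfChkS1.2.2.2.2.2 k hk j hj
        refine ⟨_, h1, ?_⟩
        rw [mlEqB_iff] at h2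
        have e := ml_eq_of_sig _ _ _ _ (mlPw_rep (mcfSgw.getD k [] ++ mcfSw j))
          (mlPw_rep (mcfSw ((mcfNxtS.getD k []).getD j 0))) (mlPw_mem _) (mlPw_mem _) h2
        change mlPw (mcfSgw.getD k [] ++ mcfSw j) =
          mlPw (mcfSw ((mcfNxtS.getD k []).getD j 0)) at e
        rw [mlPw_append] at e
        exact e
      · rw [mcfSgen_big k (by omega), one_mul]
        exact ⟨j, hj, rfl⟩
    | one => intro x hx; simpa using hx
    | mul a c _ _ iha ihc =>
      intro x hx
      rw [mul_assoc]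
      exact iha _ (ihc x hx)
    | inv a _ iha => exact ss_inv_mul_subset S a iha
  have h1 : (1 : Equiv.Perm (Fin 275)) ∈ S := ⟨0, by norm_num, mcfEl_zero.symm⟩
  have := key g hg 1 h1
  rw [mul_one] at this
  exact this

/-- the packed images of the listed elements in their order -/
def mcfSs (k : ℕ) : ℕ := mlSig (mlWd (mcfSw (mcfSord.getD k 0)))

theorem mcfSs_mono (a b : ℕ) (hab : a < b) (hb : b < 128) : mcfSs a < mcfSs b := by
  induction b with
  | zero => omega
  | succ b ih =>
    have hstep : mcfSs b < mcfSs (b + 1) := mcfChkS3.1 b (by omega)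
    rcases Nat.lt_succ_iff_lt_or_eq.1 hab with h | h
    · exact lt_trans (ih h (by omega)) hstep
    · rw [h]
      exact hstep

theorem mcfEl_inj (i j : ℕ) (hi : i < 128) (hj : j < 128) (h : mcfEl i = mcfEl j) : i = j := by
  have hs : mlSig (mlWd (mcfSw i)) = mlSig (mlWd (mcfSw j)) :=
    mlSig_of_eq _ _ _ _ (mlPw_rep _) (mlPw_rep _) h
  obtain ⟨ri, ei⟩ := mcfChkS3.2 i hi
  obtain ⟨rj, ej⟩ := mcfChkS3.2 j hj
  have hs' : mcfSs (mcfSrk.getD i 0) = mcfSs (mcfSrk.getD j 0) := by
    unfold mcfSs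
    rw [ei, ej]
    exact hs
  rcases Nat.lt_trichotomy (mcfSrk.getD i 0) (mcfSrk.getD j 0) with hlt | heq | hgt
  · exact absurd hs' (ne_of_lt (mcfSs_mono _ _ hlt rj))
  · rw [← ei, ← ej, heq]
  · exact absurd hs'.symm (ne_of_lt (mcfSs_mono _ _ hgt ri))

/-- the order of the subgroup -/
theorem mcfS_card : Nat.card mcfS = 128 := by
  let f : Fin 128 → mcfS := fun j => ⟨mcfEl j.1, mcfEl_mem j.1⟩
  have hf : Function.Bijective f := by
    constructor
    · intro i j hij
      apply Fin.ext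
      exact mcfEl_inj _ _ i.2 j.2 (congrArg Subtype.val hij)
    · rintro ⟨g, hg⟩
      obtain ⟨j, hj, e⟩ := mcfS_mem g hg
      exact ⟨⟨j, hj⟩, Subtype.ext e.symm⟩
  rw [← Nat.card_congr (Equiv.ofBijective f hf), Nat.card_eq_fintype_card, Fintype.card_fin]

instance mcfS_finite : Finite mcfS := Nat.finite_of_card_ne_zero (by rw [mcfS_card]; norm_num)

theorem mcfEl_rep (j : ℕ) (hj : j < 128) : MlRep (mcfY.getD j 0) (mcfEl j) :=
  mlRep_of_eqW _ _ _ (mlPw_rep _) (mcfChkY j hj)

theorem mcfSgen_rep (k : ℕ) (hk : k < 5) : MlRep (mcfSg.getD k 0) (mcfSgen k) :=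
  mlRep_of_eqW _ _ _ (mlPw_rep _) (mcfChkG k hk)

/-- the central involution -/
noncomputable def mcfz : Equiv.Perm (Fin 275) := mlPw mcfZw

theorem mcfz_rep : MlRep mcfZ mcfz := mlRep_of_eqW _ _ _ (mlPw_rep _) mcfChkZ.1

theorem mcfz_eq_gen : mcfz = mcfSgen 0 := by
  unfold mcfz mcfSgen
  rw [mcfChkZ.2.1]

theorem mcfz_eq_el : mcfz = mcfEl 1 := by
  unfold mcfz mcfEl mcfSw
  rw [mcfChkZ.2.2, List.flatMap_cons, List.flatMap_nil, List.append_nil, mcfChkZ.2.1]

theorem mcfz_mem : mcfz ∈ mcfS := by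
  rw [mcfz_eq_gen]
  exact mcfSgen_mem 0

theorem mcfz_mem' : mcfz ∈ MLQ := mlPw_mem _

/-- an element of the subgroup of order 128 commuting with it is trivial or the central
involution -/
theorem mcf_center (w : Equiv.Perm (Fin 275)) (hw : w ∈ mcfS)
    (hc : ∀ y ∈ mcfS, w * y = y * w) : w = 1 ∨ w = mcfz := by
  obtain ⟨j, hj, rfl⟩ := mcfS_mem w hw
  have h := mcfChkCen j hj
  unfold mcfCen at h
  have hall : (mcfSg.all fun S => mlEqB [mcfY.getD j 0, S] [S, mcfY.getD j 0]) = true := by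
    rw [List.all_eq_true]
    intro s hs
    obtain ⟨k, hk, e⟩ := List.getElem_of_mem hs
    have hk5 : k < 5 := by
      have := mcfChkS1.2.2.2.1
      omega
    have hr : MlRep s (mcfSgen k) := by
      have := mcfSgen_rep k hk5
      rw [List.getD_eq_getElem _ _ hk, e] at this
      exact this
    have hcomm := hc (mcfSgen k) (mcfSgen_mem k)
    rw [mlEqB_iff]
    apply mlSig_of_eq [mcfY.getD j 0, s] [s, mcfY.getD j 0] [mcfEl j, mcfSgen k]
      [mcfSgen k, mcfEl j]
      (List.Forall₂.cons (mcfEl_rep j hj) (List.Forall₂.cons hr List.Forall₂.nil))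
      (List.Forall₂.cons hr (List.Forall₂.cons (mcfEl_rep j hj) List.Forall₂.nil))
    rw [List.prod_cons, List.prod_cons, List.prod_nil, mul_one, List.prod_cons, List.prod_cons,
      List.prod_nil, mul_one]
    exact hcomm
  rw [hall] at h
  simp only [Bool.not_true, Bool.false_or, Bool.or_eq_true] at h
  rcases h with h | h
  · left
    rw [Nat.eq_of_beq_eq_true h]
    exact mcfEl_zero
  · right
    rw [Nat.eq_of_beq_eq_true h, mcfz_eq_el]

/-- the five involutions are conjugates of the central involution -/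
theorem mcfSgen_conj (k : ℕ) (hk : k < 5) :
    mlPw (mcfCw.getD k []) * mcfz * (mlPw (mcfCw.getD k []))⁻¹ = mcfSgen k := by
  have h := mcfChkC k hk
  rw [mlEqB_iff] at h
  have e := ml_eq_of_sig _ _ _ _ (mlPw_rep (mcfCw.getD k [] ++ mcfZw))
    (mlPw_rep (mcfSgw.getD k [] ++ mcfCw.getD k [])) (mlPw_mem _) (mlPw_mem _) h
  change mlPw (mcfCw.getD k [] ++ mcfZw) = mlPw (mcfSgw.getD k [] ++ mcfCw.getD k []) at e
  rw [mlPw_append, mlPw_append] at e
  unfold mcfz mcfSgen
  rw [e]
  group

/-- the subgroup of order 128 fixes the point 0 -/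
theorem mcfS_fix (s : Equiv.Perm (Fin 275)) (hs : s ∈ mcfS) : s 0 = 0 := by
  unfold mcfS at hs
  induction hs using Subgroup.closure_induction with
  | mem x hx =>
    obtain ⟨k, rfl⟩ := hx
    by_cases hk : k < 5
    · apply Fin.ext
      rw [mcfSgen_rep k hk 0]
      exact mcfChkFix.1 k hk
    · rw [mcfSgen_big k (by have := mcfChkS1.2.2.2.2.1; omega)]
      rfl
  | one => rfl
  | mul a b _ _ iha ihb => rw [Equiv.Perm.mul_apply, ihb, iha]
  | inv a _ iha =>
    rw [Equiv.Perm.inv_eq_iff_eq]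
    exact iha.symm

/-- a point fixed by the five involutions is the point 0 -/
theorem mcf_fix_unique (p : Fin 275) (hp : ∀ k, k < 5 → mcfSgen k p = p) : p = 0 := by
  have h := mcfChkFix.2 p.1 p.2
  unfold mcfMoved at h
  rw [Bool.or_eq_true] at h
  rcases h with h | h
  · apply Fin.ext
    exact Nat.eq_of_beq_eq_true h
  · exfalso
    rw [List.any_eq_true] at h
    obtain ⟨s, hs, hne⟩ := h
    obtain ⟨k, hk, e⟩ := List.getElem_of_mem hs
    have hk5 : k < 5 := by
      have := mcfChkS1.2.2.2.1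
      omega
    have h1 := hp k hk5
    have h3 := mcfSgen_rep k hk5 p
    rw [h1, List.getD_eq_getElem _ _ hk, e] at h3
    rw [← h3] at hne
    simp at hne

/-- an element normalising the subgroup of order 128 fixes the point 0 -/
theorem mcf_fix_of_norm (g : Equiv.Perm (Fin 275))
    (hn : ∀ s ∈ mcfS, g * s * g⁻¹ ∈ mcfS) : g 0 = 0 := by
  apply mcf_fix_unique
  intro k hk
  let c : mcfS → mcfS := fun s => ⟨g * s.1 * g⁻¹, hn s.1 s.2⟩
  have hc : Function.Injective c := by
    intro a b hab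
    apply Subtype.ext
    have := congrArg Subtype.val hab
    exact mul_left_cancel (mul_right_cancel this)
  have hs := Finite.surjective_of_injective hc
  obtain ⟨s, hs⟩ := hs ⟨mcfSgen k, mcfSgen_mem k⟩
  have e : mcfSgen k = g * s.1 * g⁻¹ := (congrArg Subtype.val hs).symm
  rw [e, Equiv.Perm.mul_apply, Equiv.Perm.mul_apply]
  have : g⁻¹ (g 0) = 0 := by simp
  rw [this, mcfS_fix s.1 s.2]

/-- the central involution commutes with the subgroup of order 128 -/
theorem mcfz_comm (y : Equiv.Perm (Fin 275)) (hy : y ∈ mcfS) : mcfz * y = y * mcfz := by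
  unfold mcfS at hy
  induction hy using Subgroup.closure_induction with
  | mem x hx =>
    obtain ⟨k, rfl⟩ := hx
    by_cases hk : k < 5
    · have h := mcfChkZc k hk
      rw [mlEqB_iff] at h
      have e := ml_eq_of_sig [mcfZ, mcfSg.getD k 0] [mcfSg.getD k 0, mcfZ] [mcfz, mcfSgen k]
        [mcfSgen k, mcfz]
        (List.Forall₂.cons mcfz_rep (List.Forall₂.cons (mcfSgen_rep k hk) List.Forall₂.nil))
        (List.Forall₂.cons (mcfSgen_rep k hk) (List.Forall₂.cons mcfz_rep List.Forall₂.nil))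
        (by
          rw [List.prod_cons, List.prod_cons, List.prod_nil, mul_one]
          exact Subgroup.mul_mem _ mcfz_mem' (mlPw_mem _))
        (by
          rw [List.prod_cons, List.prod_cons, List.prod_nil, mul_one]
          exact Subgroup.mul_mem _ (mlPw_mem _) mcfz_mem') h
      rw [List.prod_cons, List.prod_cons, List.prod_nil, mul_one, List.prod_cons, List.prod_cons,
        List.prod_nil, mul_one] at e
      exact e
    · rw [mcfSgen_big k (by have := mcfChkS1.2.2.2.2.1; omega), mul_one, one_mul]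
  | one => rw [mul_one, one_mul]
  | mul a b _ _ iha ihb => rw [← mul_assoc, iha, mul_assoc, ihb, mul_assoc]
  | inv a _ iha =>
    calc mcfz * a⁻¹ = a⁻¹ * (a * mcfz) * a⁻¹ := by group
      _ = a⁻¹ * (mcfz * a) * a⁻¹ := by rw [iha]
      _ = a⁻¹ * mcfz := by group

theorem mcfz_ne_one : mcfz ≠ 1 := by
  intro h
  rw [mcfz_eq_el, ← mcfEl_zero] at h
  have := mcfEl_inj 1 0 (by norm_num) (by norm_num) h
  omega

/-- an element normalising the subgroup of order 128 commutes with the central involution -/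
theorem mcf_comm_of_norm (g : Equiv.Perm (Fin 275))
    (hn : ∀ s ∈ mcfS, g * s * g⁻¹ ∈ mcfS) : g * mcfz = mcfz * g := by
  let c : mcfS → mcfS := fun s => ⟨g * s.1 * g⁻¹, hn s.1 s.2⟩
  have hc : Function.Injective c := by
    intro a b hab
    apply Subtype.ext
    have := congrArg Subtype.val hab
    exact mul_left_cancel (mul_right_cancel this)
  have hsurj := Finite.surjective_of_injective hc
  have hcen : ∀ y ∈ mcfS, (g * mcfz * g⁻¹) * y = y * (g * mcfz * g⁻¹) := by
    intro y hy
    obtain ⟨s, hs⟩ := hsurj ⟨y, hy⟩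
    have e : y = g * s.1 * g⁻¹ := (congrArg Subtype.val hs).symm
    have hzc : mcfz * s.1 = s.1 * mcfz := mcfz_comm s.1 s.2
    rw [e]
    calc g * mcfz * g⁻¹ * (g * s.1 * g⁻¹) = g * (mcfz * s.1) * g⁻¹ := by group
      _ = g * (s.1 * mcfz) * g⁻¹ := by rw [hzc]
      _ = g * s.1 * g⁻¹ * (g * mcfz * g⁻¹) := by group
  rcases mcf_center _ (hn mcfz mcfz_mem) hcen with h | h
  · exfalso
    apply mcfz_ne_one
    calc mcfz = g⁻¹ * (g * mcfz * g⁻¹) * g := by group
      _ = 1 := by rw [h]; group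
  · calc g * mcfz = (g * mcfz * g⁻¹) * g := by group
      _ = mcfz * g := by rw [h]

end Cfsg.Agent.Lib.helper4
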