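import Mathlib
import Cfsg.Agent.Lib.helper4.MCFSyl
import Cfsg.Agent.Lib.helper4.MCFChkN

set_option autoImplicit false

/-! The McLaughlin group on 275 points: the subgroup of order 128 is its own normaliser. -/

namespace Cfsg.Agent.Lib.helper4

open Cfsg.Agent.Lib.helper23 Cfsg.Agent.Lib.helper14.MP

theorem mcfLk_eq (T i : ℕ) : pgLk 9 T i = mlLook T i := rfl

/-- an element of the group normalising the subgroup of order 128 lies in it -/
theorem mcf_norm (h : Equiv.Perm (Fin 275)) (hh : h ∈ MLQ)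
    (hn : ∀ s ∈ mcfS, h * s * h⁻¹ ∈ mcfS) : h ∈ mcfS := by
  have hh' : h ∈ pgGrpW 275 mpC := by
    have h1 : h ∈ M275 := hh
    rw [M275_eq] at h1
    exact h1
  have hfix := mcf_fix_of_norm h hn
  have hcomm := mcf_comm_of_norm h hn
  have hc : ∀ p : Fin 275, h (mcfz p) = mcfz (h p) := by
    intro p
    rw [← Equiv.Perm.mul_apply, ← Equiv.Perm.mul_apply, hcomm]
  have hv : ∀ p : Fin 275, (fun p => mlLook mcfZ p) p.1 = (mcfz p).1 :=
    fun p => (mcfz_rep p).symm
  have hprune : ∀ l : List (ℕ × ℕ), (∀ q ∈ l, ∃ hq : q.1 < 275, (h ⟨q.1, hq⟩).1 = q.2) →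
      mcfPrune l = true := by
    intro l hl
    unfold mcfPrune
    rw [Bool.and_eq_true]
    constructor
    · rw [pgAllL_iff]
      intro q hq
      obtain ⟨hq1, hq2⟩ := hl q hq
      cases hb : Nat.beq q.1 0 with
      | false => rfl
      | true =>
        have e : q.1 = 0 := Nat.eq_of_beq_eq_true hb
        show Nat.beq q.2 0 = true
        rw [← hq2]
        have e0 : (⟨q.1, hq1⟩ : Fin 275) = 0 := Fin.ext e
        rw [e0, hfix]
        rfl
    · exact pgCentPrune_sound hv hc l hl
  obtain ⟨f, hf, ht⟩ := pgEnumM_sound (w := 9) (by norm_num) (mpRigidTop 275) mcfPrune mcfTest h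
    hprune mpC mpchkC le_top 5 (fun p => p) 1 [] (fun _ => rfl)
    (fun _ hq => absurd hq List.not_mem_nil) mcfChkN h hh' (one_mul h).symm
  unfold mcfTest at ht
  rw [pgForce_eq] at ht
  have hrep : MlRep (pgMk 9 275 f) h := by
    intro i
    have h1 : pgLk 9 (pgMk 9 275 f) i.1 = f i.1 := by
      apply pgMk_lk 9 275 f _ i.1 i.2
      intro k hk
      rw [hf ⟨k, hk⟩]
      exact lt_of_lt_of_le (h ⟨k, hk⟩).2 (by norm_num)
    rw [← hf i, ← h1]
    rfl
  generalize pgMk 9 275 f = T at ht hrep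
  unfold mcfTestT at ht
  rw [Bool.or_eq_true] at ht
  rcases ht with ht | ht
  · rw [List.any_eq_true] at ht
    obtain ⟨Y, hY, hin⟩ := ht
    obtain ⟨j, hj, e⟩ := List.getElem_of_mem hY
    have hj128 : j < 128 := by
      have := mcfChkS1.2.2.1
      omega
    have hYrep : MlRep Y (mcfEl j) := by
      have := mcfEl_rep j hj128
      rw [List.getD_eq_getElem _ _ hj, e] at this
      exact this
    have e2 : h = mcfEl j := by
      apply ml_eq_of_base _ _ hh (mcfS_le (mcfEl_mem j))
      intro k hk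
      apply Fin.ext
      rw [hrep, hYrep, mlPt_val]
      unfold mcfIn at hin
      rw [mlAll_iff] at hin
      exact (Nat.eq_of_beq_eq_true (hin k (Nat.zero_le _) (by omega))).symm
    rw [e2]
    exact mcfEl_mem j
  · exfalso
    rw [List.any_eq_true] at ht
    obtain ⟨S, hS, hno⟩ := ht
    obtain ⟨k, hk, e⟩ := List.getElem_of_mem hS
    have hk5 : k < 5 := by
      have := mcfChkS1.2.2.2.1
      omega
    have hSrep : MlRep S (mcfSgen k) := by
      have := mcfSgen_rep k hk5
      rw [List.getD_eq_getElem _ _ hk, e] at this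
      exact this
    obtain ⟨j, hj, ej⟩ := mcfS_mem _ (hn _ (mcfSgen_mem k))
    have hlen : mcfY.length = 128 := mcfChkS1.2.2.1
    have hany : mcfY.any (fun Y => mcfAgr T S Y) = true := by
      rw [List.any_eq_true]
      refine ⟨mcfY.getD j 0, ?_, ?_⟩
      · rw [List.getD_eq_getElem _ _ (by omega)]
        exact List.getElem_mem _
      · unfold mcfAgr
        rw [mlAll_iff]
        intro i _ hi
        have hb := mlB_lt i
        have e1 : mlLook T (mlB.getD i 0) = (h ⟨mlB.getD i 0, hb⟩).1 := (hrep ⟨_, hb⟩).symm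
        have e2 : mlLook S (mlB.getD i 0) = (mcfSgen k ⟨mlB.getD i 0, hb⟩).1 :=
          (hSrep ⟨_, hb⟩).symm
        rw [e1, e2, ← mcfEl_rep j hj (h ⟨_, hb⟩), ← hrep (mcfSgen k ⟨_, hb⟩), ← ej]
        have e3 : (h * mcfSgen k * h⁻¹) (h ⟨mlB.getD i 0, hb⟩) =
            h (mcfSgen k ⟨mlB.getD i 0, hb⟩) := by
          rw [Equiv.Perm.mul_apply, Equiv.Perm.mul_apply]
          simp
        rw [e3]
        exact Nat.beq_refl _
    rw [hany] at hno
    simp at hno

end Cfsg.Agent.Lib.helper4
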