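import Mathlib
import Cfsg.Agent.Lib.Helper1.Nilp
import Cfsg.Agent.Lib.helper4.FusGen3
import Cfsg.Agent.Lib.helper4.MCFNorm

set_option autoImplicit false

/-! The fusion system on a Sylow 2-subgroup of a group isomorphic to the McLaughlin group on 275
points is simple. -/

namespace Cfsg.Agent.Lib.helper4

/-- a nontrivial subgroup of a finite `p`-group normalised by it contains a nontrivial element
commuting with the whole `p`-group -/
theorem exists_central_of_normalised_pgrp {Ω : Type*} [Group Ω] (p : ℕ) [Fact p.Prime]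
    (P T : Subgroup Ω) [Finite P] (hP : IsPGroup p P) (hT : T ≤ P) (hne : T ≠ ⊥)
    (hnorm : ∀ x ∈ T, ∀ s ∈ P, s * x * s⁻¹ ∈ T) :
    ∃ w ∈ T, w ≠ 1 ∧ ∀ y ∈ P, w * y = y * w := by
  have : Group.IsNilpotent P := hP.isNilpotent
  let N : Subgroup P := T.subgroupOf P
  have : N.Normal := by
    constructor
    intro n hn s
    rw [Subgroup.mem_subgroupOf] at hn ⊢
    simpa using hnorm _ hn _ s.2
  have hN : N ≠ ⊥ := by
    intro h
    apply hne
    rw [eq_bot_iff]
    intro x hx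
    have : (⟨x, hT hx⟩ : P) ∈ N := by
      show (⟨x, hT hx⟩ : P) ∈ T.subgroupOf P
      rw [Subgroup.mem_subgroupOf]; exact hx
    rw [h, Subgroup.mem_bot] at this
    rw [Subgroup.mem_bot]
    exact congrArg Subtype.val this
  have h1 := Cfsg.Agent.Lib.Helper1.normal_inf_center_ne_bot N hN
  obtain ⟨⟨w, hw⟩, hw0⟩ := (Subgroup.ne_bot_iff_exists_ne_one).mp h1
  have hw1 : w ≠ 1 := fun h => hw0 (Subtype.ext h)
  obtain ⟨hwN, hwZ⟩ := Subgroup.mem_inf.mp hw
  have hwT : ((w : P) : Ω) ∈ T := by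
    have : (w : P) ∈ T.subgroupOf P := hwN
    rwa [Subgroup.mem_subgroupOf] at this
  refine ⟨w.1, hwT, fun h => hw1 (Subtype.ext h), ?_⟩
  intro y hy
  rw [Subgroup.mem_center_iff] at hwZ
  have := hwZ ⟨y, hy⟩
  exact (congrArg Subtype.val this).symm

theorem mcfS_isPGroup : IsPGroup 2 mcfS := by
  have : Fact (Nat.Prime 2) := ⟨Nat.prime_two⟩
  apply IsPGroup.of_card (n := 7)
  rw [mcfS_card]
  norm_num

theorem mcfFact2 : (898128000 : ℕ).factorization 2 = 7 := by
  have e : (898128000 : ℕ) = 2 ^ 7 * 7016625 := by norm_num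
  rw [e, Nat.factorization_mul (by norm_num) (by norm_num),
    Nat.Prime.factorization_pow Nat.prime_two]
  have : (7016625 : ℕ).factorization 2 = 0 := Nat.factorization_eq_zero_of_not_dvd (by norm_num)
  simp [this]

theorem mcfS_ne_bot : mcfS ≠ ⊥ := by
  intro h
  have h1 : mcfz ∈ mcfS := mcfz_mem
  rw [h, Subgroup.mem_bot] at h1
  exact mcfz_ne_one h1

/-- the elements of the subgroup of order 128 have order a power of two -/
theorem mcfS_order (h : Equiv.Perm (Fin 275)) (hh : h ∈ mcfS) : ∃ k : ℕ, orderOf h = 2 ^ k := by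
  have h1 : orderOf (⟨h, hh⟩ : mcfS) ∣ Nat.card mcfS := orderOf_dvd_natCard _
  rw [mcfS_card, show (128 : ℕ) = 2 ^ 7 by norm_num] at h1
  obtain ⟨m, -, hm⟩ := (Nat.dvd_prime_pow Nat.prime_two).1 h1
  refine ⟨m, ?_⟩
  rw [← hm]
  exact (Subgroup.orderOf_mk h hh).symm

/-- a nontrivial subgroup of the subgroup of order 128 closed under fusion is the whole of it -/
theorem mcf_hT (T : Subgroup (Equiv.Perm (Fin 275))) (hT : T ≤ mcfS) (hne : T ≠ ⊥)
    (hfus : ∀ x ∈ T, ∀ g ∈ MLQ, g * x * g⁻¹ ∈ mcfS → g * x * g⁻¹ ∈ T) : mcfS ≤ T := by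
  have : Fact (Nat.Prime 2) := ⟨Nat.prime_two⟩
  obtain ⟨w, hwT, hw1, hwc⟩ := exists_central_of_normalised_pgrp 2 mcfS T mcfS_isPGroup hT hne (by
    intro x hx s hs
    exact hfus x hx s (mcfS_le hs) (Subgroup.mul_mem _ (Subgroup.mul_mem _ hs (hT hx))
      (Subgroup.inv_mem _ hs)))
  have hz : mcfz ∈ T := by
    rcases mcf_center w (hT hwT) hwc with h | h
    · exact absurd h hw1
    · rw [← h]; exact hwT
  have hgen : ∀ k, mcfSgen k ∈ T := by
    intro k
    by_cases hk : k < 5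
    · rw [← mcfSgen_conj k hk]
      apply hfus _ hz _ (mlPw_mem _)
      rw [mcfSgen_conj k hk]
      exact mcfSgen_mem k
    · rw [mcfSgen_big k (by have := mcfChkS1.2.2.2.2.1; omega)]
      exact Subgroup.one_mem _
  unfold mcfS
  rw [Subgroup.closure_le]
  rintro _ ⟨k, rfl⟩
  exact hgen k

theorem mcf_fus_simple {G : Type*} [Group G] [Finite G] (e : G ≃* MLQ) (S : Sylow 2 G) :
    (Cfsg.groupFusionSystem (S : Subgroup G)).IsSimple 2 := by
  have : Fact (Nat.Prime 2) := ⟨Nat.prime_two⟩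
  let f : G →* Equiv.Perm (Fin 275) := MLQ.subtype.comp e.toMonoidHom
  have hfg : ∀ g : G, f g = ((e g : MLQ) : Equiv.Perm (Fin 275)) := fun g => rfl
  have hf : Function.Injective f := by
    intro a b hab
    apply e.injective
    apply Subtype.ext
    exact hab
  have hmem : ∀ g : G, f g ∈ MLQ := fun g => (e g).2
  have hrange : ∀ x : Equiv.Perm (Fin 275), x ∈ MLQ → ∃ g : G, f g = x := by
    intro x hx
    refine ⟨e.symm ⟨x, hx⟩, ?_⟩
    rw [hfg, MulEquiv.apply_symm_apply]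
  apply fus_simple_of_cert2_emb f hf 2 7 mcfS mcfS
  · intro x hx
    obtain ⟨g, hg⟩ := hrange x (mcfS_le hx)
    exact ⟨g, hg⟩
  · rw [mcfS_card]
    norm_num
  · rw [Nat.card_congr e.toEquiv, MLQ_card]
    exact mcfFact2
  · exact mcfS_ne_bot
  · exact le_refl _
  · intro s hs x hx
    exact Subgroup.mul_mem _ (Subgroup.mul_mem _ hs hx) (Subgroup.inv_mem _ hs)
  · intro g hc
    apply mcf_norm (f g) (hmem g)
    intro s hs
    rw [hc s hs]
    exact hs
  · intro g hn
    have h1 := mcf_norm (f g) (hmem g) hn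
    apply Subgroup.subset_closure
    exact ⟨⟨g, rfl⟩, Subgroup.le_normalizer h1, mcfS_order _ h1⟩
  · intro T hT hne hfus
    apply mcf_hT T hT hne
    intro x hx g hg hgx
    obtain ⟨g', rfl⟩ := hrange g hg
    exact hfus x hx g' hgx

end Cfsg.Agent.Lib.helper4
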