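import Mathlib
import Cfsg.Prelude.Def_KGroupFacts
import Cfsg.Agent.Lib.helper4.HSOAbs

set_option autoImplicit false

/-! A finite group generated by an element `c` and an element `a`, in which every automorphism
sends `c` to a conjugate of `c` or of its inverse, the elements with the pattern of `a` relative to
`c` form two orbits under the powers of `c`, exchanged by an automorphism fixing `c` that is not
inner, and no element has that pattern relative to the inverse of `c`: the outer automorphism
group has order two. -/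

namespace Cfsg.Agent.Lib.helper4

theorem out_card_two_pat2 {G : Type*} [Group G] [Finite G] (c a a2 : G) (σ : MulAut G)
    (Pat : G → G → Prop)
    (hPat : ∀ (α : MulAut G) (x y : G), Pat x y → Pat (α x) (α y))
    (hstep : ∀ α : MulAut G, ∃ g : G, g * α c * g⁻¹ = c ∨ g * α c * g⁻¹ = c⁻¹)
    (hgen : Subgroup.closure {c, a} = ⊤) (hP : Pat c a)
    (hEp : ∀ x : G, Pat c x →
      ∃ j : ℕ, x = c ^ j * a * (c ^ j)⁻¹ ∨ x = c ^ j * a2 * (c ^ j)⁻¹)
    (hEm : ∀ x : G, ¬ Pat c⁻¹ x)
    (hσc : σ c = c) (hσa : σ a = a2) (hσ : σ ∉ Cfsg.Inn G) :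
    Nat.card (Cfsg.Out G) = 2 := by
  classical
  have key : ∀ α : MulAut G, α ∈ Cfsg.Inn G ∨ ∃ ι ∈ Cfsg.Inn G, α = ι * σ := by
    intro α
    obtain ⟨g, hg⟩ := hstep α
    set β : MulAut G := MulAut.conj g * α with hβ
    have hβc : β c = g * α c * g⁻¹ := by
      rw [hβ, MulAut.mul_apply, MulAut.conj_apply]
    have hPβ : Pat (β c) (β a) := hPat β c a hP
    rcases hg with hg | hg
    · have hβc' : β c = c := by rw [hβc, hg]
      rw [hβc'] at hPβ
      obtain ⟨j, hj⟩ := hEp (β a) hPβ
      rcases hj with hj | hj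
      · left
        set γ : MulAut G := MulAut.conj (c ^ j)⁻¹ * β with hγ
        have hγ1 : γ = 1 := by
          apply aut_eq_of_gen c a hgen
          · rw [hγ, MulAut.mul_apply, MulAut.conj_apply, hβc', MulAut.one_apply]
            group
          · rw [hγ, MulAut.mul_apply, MulAut.conj_apply, hj, MulAut.one_apply]
            group
        have hα : α = (MulAut.conj ((c ^ j)⁻¹ * g))⁻¹ := by
          apply eq_inv_of_mul_eq_one_right
          rw [map_mul, mul_assoc, ← hβ, ← hγ, hγ1]
        rw [hα]
        exact Subgroup.inv_mem _ ⟨_, rfl⟩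
      · right
        set γ : MulAut G := MulAut.conj (c ^ j)⁻¹ * β with hγ
        have hγσ : γ = σ := by
          apply aut_eq_of_gen c a hgen
          · rw [hγ, MulAut.mul_apply, MulAut.conj_apply, hβc', hσc]
            group
          · rw [hγ, MulAut.mul_apply, MulAut.conj_apply, hj, hσa]
            group
        refine ⟨(MulAut.conj ((c ^ j)⁻¹ * g))⁻¹, Subgroup.inv_mem _ ⟨_, rfl⟩, ?_⟩
        rw [eq_inv_mul_iff_mul_eq, map_mul, mul_assoc, ← hβ, ← hγ, hγσ]
    · exfalso
      have hβc' : β c = c⁻¹ := by rw [hβc, hg]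
      rw [hβc'] at hPβ
      exact hEm _ hPβ
  rw [Nat.card_eq_two_iff]
  refine ⟨((1 : MulAut G) : Cfsg.Out G), ((σ : MulAut G) : Cfsg.Out G), ?_, ?_⟩
  · intro h
    rw [QuotientGroup.eq, inv_one, one_mul] at h
    exact hσ h
  · apply Set.eq_univ_of_forall
    intro q
    obtain ⟨α, rfl⟩ := QuotientGroup.mk_surjective q
    rcases key α with h | ⟨ι, hι, h⟩
    · left
      symm
      rw [QuotientGroup.eq, inv_one, one_mul]
      exact h
    · right
      rw [Set.mem_singleton_iff]
      symm
      rw [QuotientGroup.eq, h]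
      have : σ⁻¹ * (ι * σ) = σ⁻¹ * ι * σ := by group
      rw [this]
      exact (Cfsg.innNormal G).conj_mem' ι hι σ

end Cfsg.Agent.Lib.helper4
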