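import Mathlib
import Cfsg.Agent.Lib.helper4.MCOChkDefs

set_option autoImplicit false

/-! Kernel check: no involution commutes with the element of order 11. -/

namespace Cfsg.Agent.Lib.helper4

set_option maxRecDepth 10000000 in
theorem mlChkMx0 : mlAll (mlNc) 2475 0 = true := by decide +kernel

set_option maxRecDepth 10000000 in
theorem mlChkMx1 : mlAll (mlNc) 2475 2475 = true := by decide +kernel

set_option maxRecDepth 10000000 in
theorem mlChkMx2 : mlAll (mlNc) 2475 4950 = true := by decide +kernel

set_option maxRecDepth 10000000 in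
theorem mlChkMx3 : mlAll (mlNc) 2475 7425 = true := by decide +kernel

set_option maxRecDepth 10000000 in
theorem mlChkMx4 : mlAll (mlNc) 2475 9900 = true := by decide +kernel

set_option maxRecDepth 10000000 in
theorem mlChkMx5 : mlAll (mlNc) 2475 12375 = true := by decide +kernel

set_option maxRecDepth 10000000 in
theorem mlChkMx6 : mlAll (mlNc) 2475 14850 = true := by decide +kernel

set_option maxRecDepth 10000000 in
theorem mlChkMx7 : mlAll (mlNc) 2475 17325 = true := by decide +kernel

set_option maxRecDepth 10000000 in
theorem mlChkMx8 : mlAll (mlNc) 2475 19800 = true := by decide +kernel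

theorem mlChkM (i : ℕ) (hi : i < 22275) : (mlNc) i = true :=
  mlAll_nine _ mlChkMx0 mlChkMx1 mlChkMx2 mlChkMx3 mlChkMx4 mlChkMx5 mlChkMx6
    mlChkMx7 mlChkMx8 i hi

end Cfsg.Agent.Lib.helper4
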