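import Mathlib
import Cfsg.Agent.Lib.helper4.MCOChkDefs

set_option autoImplicit false

/-! Kernel check: the list of involutions is closed under conjugation by generator 0. -/

namespace Cfsg.Agent.Lib.helper4

set_option maxRecDepth 10000000 in
theorem mlChkN0x0 : mlAll (mlCl 0) 2475 0 = true := by decide +kernel

set_option maxRecDepth 10000000 in
theorem mlChkN0x1 : mlAll (mlCl 0) 2475 2475 = true := by decide +kernel

set_option maxRecDepth 10000000 in
theorem mlChkN0x2 : mlAll (mlCl 0) 2475 4950 = true := by decide +kernel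

set_option maxRecDepth 10000000 in
theorem mlChkN0x3 : mlAll (mlCl 0) 2475 7425 = true := by decide +kernel

set_option maxRecDepth 10000000 in
theorem mlChkN0x4 : mlAll (mlCl 0) 2475 9900 = true := by decide +kernel

set_option maxRecDepth 10000000 in
theorem mlChkN0x5 : mlAll (mlCl 0) 2475 12375 = true := by decide +kernel

set_option maxRecDepth 10000000 in
theorem mlChkN0x6 : mlAll (mlCl 0) 2475 14850 = true := by decide +kernel

set_option maxRecDepth 10000000 in
theorem mlChkN0x7 : mlAll (mlCl 0) 2475 17325 = true := by decide +kernel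

set_option maxRecDepth 10000000 in
theorem mlChkN0x8 : mlAll (mlCl 0) 2475 19800 = true := by decide +kernel

theorem mlChkN0 (i : ℕ) (hi : i < 22275) : (mlCl 0) i = true :=
  mlAll_nine _ mlChkN0x0 mlChkN0x1 mlChkN0x2 mlChkN0x3 mlChkN0x4 mlChkN0x5 mlChkN0x6
    mlChkN0x7 mlChkN0x8 i hi

end Cfsg.Agent.Lib.helper4
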