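import Mathlib
import Cfsg.Agent.Lib.helper4.MCOChkDefs

set_option autoImplicit false

/-! Kernel check: no involution has the pattern of orders relative to the inverse. -/

namespace Cfsg.Agent.Lib.helper4

set_option maxRecDepth 10000000 in
theorem mlChkQx0 : mlAll (mlPatM) 2475 0 = true := by decide +kernel

set_option maxRecDepth 10000000 in
theorem mlChkQx1 : mlAll (mlPatM) 2475 2475 = true := by decide +kernel

set_option maxRecDepth 10000000 in
theorem mlChkQx2 : mlAll (mlPatM) 2475 4950 = true := by decide +kernel

set_option maxRecDepth 10000000 in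
theorem mlChkQx3 : mlAll (mlPatM) 2475 7425 = true := by decide +kernel

set_option maxRecDepth 10000000 in
theorem mlChkQx4 : mlAll (mlPatM) 2475 9900 = true := by decide +kernel

set_option maxRecDepth 10000000 in
theorem mlChkQx5 : mlAll (mlPatM) 2475 12375 = true := by decide +kernel

set_option maxRecDepth 10000000 in
theorem mlChkQx6 : mlAll (mlPatM) 2475 14850 = true := by decide +kernel

set_option maxRecDepth 10000000 in
theorem mlChkQx7 : mlAll (mlPatM) 2475 17325 = true := by decide +kernel

set_option maxRecDepth 10000000 in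
theorem mlChkQx8 : mlAll (mlPatM) 2475 19800 = true := by decide +kernel

theorem mlChkQ (i : ℕ) (hi : i < 22275) : (mlPatM) i = true :=
  mlAll_nine _ mlChkQx0 mlChkQx1 mlChkQx2 mlChkQx3 mlChkQx4 mlChkQx5 mlChkQx6
    mlChkQx7 mlChkQx8 i hi

end Cfsg.Agent.Lib.helper4
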