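import Mathlib
import Cfsg.Agent.Lib.helper4.MCOSound
import Cfsg.Agent.Lib.helper4.MCOChkL
import Cfsg.Agent.Lib.helper4.MCOChkN0
import Cfsg.Agent.Lib.helper4.MCOChkN1
import Cfsg.Agent.Lib.helper4.SchreierStep
import Cfsg.Agent.Lib.helper4.J3CSyl
import Cfsg.Agent.Lib.helper4.ConjClosed

set_option autoImplicit false

/-! The McLaughlin group on 275 points: the list of all its involutions is complete. -/

namespace Cfsg.Agent.Lib.helper4

/-- the first involution -/
noncomputable def mltA : Equiv.Perm (Fin 275) := mlPw mlTAw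

/-- the second involution -/
noncomputable def mltB : Equiv.Perm (Fin 275) := mlPw mlTBw

theorem mltA_rep : MlRep mlTA mltA := mlRep_of_eqW _ _ _ (mlPw_rep _) mlChkTA

theorem mltB_rep : MlRep mlTB mltB := mlRep_of_eqW _ _ _ (mlPw_rep _) mlChkTB

/-- the involution of the class of a position -/
noncomputable def mlT (i : ℕ) : Equiv.Perm (Fin 275) := cond (Nat.blt i 22275) mltA mltB

theorem mlT_rep (i : ℕ) : MlRep (cond (Nat.blt i 22275) mlTA mlTB) (mlT i) := by
  unfold mlT
  cases Nat.blt i 22275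
  · exact mltB_rep
  · exact mltA_rep

theorem mlT_mem (i : ℕ) : mlT i ∈ MLQ := by
  unfold mlT
  cases Nat.blt i 22275
  · exact mlPw_mem _
  · exact mlPw_mem _

/-- the involution of a position -/
noncomputable def mlX (i : ℕ) : Equiv.Perm (Fin 275) :=
  mlPw (mlLWd i) * mlT i * (mlPw (mlLWd i))⁻¹

theorem mlX_mem (i : ℕ) : mlX i ∈ MLQ :=
  Subgroup.mul_mem _ (Subgroup.mul_mem _ (mlPw_mem _) (mlT_mem i)) (Subgroup.inv_mem _ (mlPw_mem _))

/-- the factors of the involution of a position -/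
noncomputable def mlXg (i : ℕ) : List (Equiv.Perm (Fin 275)) :=
  (mlLWd i).map mlGen ++ (mlT i :: (mlInvW (mlLWd i)).map mlGen)

theorem mlXg_prod (i : ℕ) : (mlXg i).prod = mlX i := by
  unfold mlXg mlX
  rw [List.prod_append, List.prod_cons]
  change mlPw (mlLWd i) * (mlT i * mlPw (mlInvW (mlLWd i))) = _
  rw [mlPw_invW, mul_assoc]

theorem mlXg_rep (i : ℕ) : List.Forall₂ MlRep (mlXc i) (mlXg i) :=
  mlRep_append _ _ _ _ (mlPw_rep _) (List.Forall₂.cons (mlT_rep i) (mlPw_rep _))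

theorem mlXs_eq (i : ℕ) (hi : i < 22275) : mlXs i = mlSig (mlXc i) :=
  Nat.eq_of_beq_eq_true (mlChkL i hi)

theorem mlCl_all (k i : ℕ) (hk : k < 2) (hi : i < 22275) : mlCl k i = true := by
  interval_cases k
  · exact mlChkN0 i hi
  · exact mlChkN1 i hi

/-- the conjugate of a listed involution under a generator is listed -/
theorem mlX_conj (k i : ℕ) (hk : k < 2) (hi : i < 22275) :
    mlNx k i < 22275 ∧ mlGen k * mlX i * (mlGen k)⁻¹ = mlX (mlNx k i) := by
  have h := mlCl_all k i hk hi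
  unfold mlCl at h
  rw [Bool.and_eq_true] at h
  have hlt : mlNx k i < 22275 := by
    have := h.1
    simpa using this
  refine ⟨hlt, ?_⟩
  have hs := Nat.eq_of_beq_eq_true h.2
  rw [mlXs_eq _ hlt] at hs
  have r1 : MlRep (mlG.getD k 0) (mlGen k) := by
    have := mlRep_gen k
    rw [show Nat.mod k 16 = k from Nat.mod_eq_of_lt (by omega)] at this
    exact this
  have r2 : MlRep (mlG.getD (Nat.add k 8) 0) (mlGen (Nat.add k 8)) := by
    have := mlRep_gen (Nat.add k 8)
    rw [show Nat.mod (Nat.add k 8) 16 = Nat.add k 8 from Nat.mod_eq_of_lt (by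
      show k + 8 < 16
      omega)] at this
    exact this
  have hinv : (mlGen k)⁻¹ = mlGen (Nat.add k 8) := by
    rw [mlGen_inv]
    exact mlGen_mod (Nat.add k 8)
  have hrep : List.Forall₂ MlRep (mlG.getD k 0 :: mlXc i ++ [mlG.getD (Nat.add k 8) 0])
      (mlGen k :: mlXg i ++ [mlGen (Nat.add k 8)]) :=
    List.Forall₂.cons r1 (mlRep_append _ _ _ _ (mlXg_rep i)
      (List.Forall₂.cons r2 List.Forall₂.nil))
  have hmem : (mlGen k :: mlXg i ++ [mlGen (Nat.add k 8)]).prod ∈ MLQ := by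
    rw [List.cons_append, List.prod_cons, List.prod_append, mlXg_prod, List.prod_cons, List.prod_nil,
      mul_one]
    exact Subgroup.mul_mem _ (mlGen_mem _) (Subgroup.mul_mem _ (mlX_mem _) (mlGen_mem _))
  have e := ml_eq_of_sig _ _ _ _ hrep (mlXg_rep (mlNx k i)) hmem
    (by rw [mlXg_prod]; exact mlX_mem _) hs
  rw [List.cons_append, List.prod_cons, List.prod_append, mlXg_prod, List.prod_cons, List.prod_nil,
    mul_one, mlXg_prod, ← hinv, ← mul_assoc] at e
  exact e

/-- the generators of the subgroup of order 128 -/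
noncomputable def mlSgen (k : ℕ) : Equiv.Perm (Fin 275) := mlPw (mlSgw.getD k [])

/-- the subgroup of order 128 -/
noncomputable def mlS : Subgroup (Equiv.Perm (Fin 275)) := Subgroup.closure (Set.range mlSgen)

theorem mlS_le : mlS ≤ MLQ := by
  unfold mlS
  rw [Subgroup.closure_le]
  rintro _ ⟨k, rfl⟩
  exact mlPw_mem _

/-- the listed elements of the subgroup of order 128 -/
noncomputable def mlY (j : ℕ) : Equiv.Perm (Fin 275) := mlPw (mlSw j)

theorem mlPw_flatMap (l : List ℕ) :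
    mlPw (l.flatMap fun k => mlSgw.getD k []) ∈ mlS := by
  induction l with
  | nil => exact Subgroup.one_mem _
  | cons k l ih =>
    rw [List.flatMap_cons, mlPw_append]
    exact Subgroup.mul_mem _ (Subgroup.subset_closure ⟨k, rfl⟩) ih

theorem mlY_mem (j : ℕ) : mlY j ∈ mlS := mlPw_flatMap _

theorem mlY_zero : mlY 0 = 1 := by
  unfold mlY
  rw [mlChkS1.1]
  rfl

theorem mlSgen_big (k : ℕ) (hk : mlSgw.length ≤ k) : mlSgen k = 1 := by
  unfold mlSgen
  rw [List.getD_eq_default _ _ hk]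
  rfl

/-- every element of the subgroup of order 128 is listed -/
theorem mlS_mem (g : Equiv.Perm (Fin 275)) (hg : g ∈ mlS) : ∃ j, j < 128 ∧ g = mlY j := by
  let S : Set (Equiv.Perm (Fin 275)) := {x | ∃ j, j < 128 ∧ x = mlY j}
  have key : ∀ g ∈ mlS, ∀ x ∈ S, g * x ∈ S := by
    intro g hg
    induction hg using Subgroup.closure_induction with
    | mem s hs =>
      obtain ⟨k, rfl⟩ := hs
      rintro x ⟨j, hj, rfl⟩
      by_cases hk : k < mlSgw.length
      · obtain ⟨h1, h2⟩ := mlChkS1.2.2 k hk j hj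
        refine ⟨_, h1, ?_⟩
        rw [mlEqB_iff] at h2
        have e := ml_eq_of_sig _ _ _ _ (mlPw_rep (mlSgw.getD k [] ++ mlSw j))
          (mlPw_rep (mlSw ((mlNxtS.getD k []).getD j 0))) (mlPw_mem _) (mlPw_mem _) h2
        change mlPw (mlSgw.getD k [] ++ mlSw j) = mlPw (mlSw ((mlNxtS.getD k []).getD j 0)) at e
        rw [mlPw_append] at e
        exact e
      · rw [mlSgen_big k (by omega), one_mul]
        exact ⟨j, hj, rfl⟩
    | one => intro x hx; simpa using hx
    | mul a c _ _ iha ihc =>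
      intro x hx
      rw [mul_assoc]
      exact iha _ (ihc x hx)
    | inv a _ iha => exact ss_inv_mul_subset S a iha
  have h1 : (1 : Equiv.Perm (Fin 275)) ∈ S := ⟨0, by norm_num, mlY_zero.symm⟩
  have := key g hg 1 h1
  rw [mul_one] at this
  exact this

/-- the packed images of the listed elements in their order -/
def mlSs (k : ℕ) : ℕ := mlSig (mlWd (mlSw (mlSord.getD k 0)))

theorem mlSs_mono (a b : ℕ) (hab : a < b) (hb : b < 128) : mlSs a < mlSs b := by
  induction b with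
  | zero => omega
  | succ b ih =>
    have hstep : mlSs b < mlSs (b + 1) := mlChkS3.1 b (by omega)
    rcases Nat.lt_succ_iff_lt_or_eq.1 hab with h | h
    · exact lt_trans (ih h (by omega)) hstep
    · rw [h]
      exact hstep

theorem mlY_inj (i j : ℕ) (hi : i < 128) (hj : j < 128) (h : mlY i = mlY j) : i = j := by
  have hs : mlSig (mlWd (mlSw i)) = mlSig (mlWd (mlSw j)) :=
    mlSig_of_eq _ _ _ _ (mlPw_rep _) (mlPw_rep _) h
  obtain ⟨ri, ei⟩ := mlChkS3.2 i hi
  obtain ⟨rj, ej⟩ := mlChkS3.2 j hj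
  have hs' : mlSs (mlSrk.getD i 0) = mlSs (mlSrk.getD j 0) := by
    unfold mlSs
    rw [ei, ej]
    exact hs
  rcases Nat.lt_trichotomy (mlSrk.getD i 0) (mlSrk.getD j 0) with hlt | heq | hgt
  · exact absurd hs' (ne_of_lt (mlSs_mono _ _ hlt rj))
  · rw [← ei, ← ej, heq]
  · exact absurd hs'.symm (ne_of_lt (mlSs_mono _ _ hgt ri))

/-- the order of the subgroup -/
theorem mlS_card : Nat.card mlS = 128 := by
  let f : Fin 128 → mlS := fun j => ⟨mlY j.1, mlY_mem j.1⟩
  have hf : Function.Bijective f := by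
    constructor
    · intro i j hij
      apply Fin.ext
      exact mlY_inj _ _ i.2 j.2 (congrArg Subtype.val hij)
    · rintro ⟨g, hg⟩
      obtain ⟨j, hj, e⟩ := mlS_mem g hg
      exact ⟨⟨j, hj⟩, Subtype.ext e.symm⟩
  rw [← Nat.card_congr (Equiv.ofBijective f hf), Nat.card_eq_fintype_card, Fintype.card_fin]

/-- the involutions of the subgroup of order 128 are listed -/
theorem mlS_invol (d : Equiv.Perm (Fin 275)) (hd : d ∈ mlS) (h2 : d * d = 1) (h1 : d ≠ 1) :
    ∃ i, i < 22275 ∧ d = mlX i := by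
  obtain ⟨j, hj, rfl⟩ := mlS_mem d hd
  have hf2 : mlEqB (mlWd (mlSw j ++ mlSw j)) [] = true := by
    rw [mlEqB_iff]
    apply mlSig_of_eq _ _ _ _ (mlPw_rep (mlSw j ++ mlSw j)) List.Forall₂.nil
    change mlPw (mlSw j ++ mlSw j) = 1
    rw [mlPw_append]
    exact h2
  have hf1 : mlEqB (mlWd (mlSw j)) [] = false := by
    rw [← Bool.not_eq_true, mlEqB_iff]
    intro h
    apply h1
    have e := ml_eq_of_sig _ _ _ _ (mlPw_rep (mlSw j)) List.Forall₂.nil (mlPw_mem _)
      (Subgroup.one_mem _) h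
    exact e
  obtain ⟨hlt, hs⟩ := mlChkS4 j hj hf2 hf1
  refine ⟨_, hlt, ?_⟩
  rw [mlXs_eq _ hlt] at hs
  have e := ml_eq_of_sig _ _ _ _ (mlXg_rep _) (mlPw_rep (mlSw j))
    (by rw [mlXg_prod]; exact mlX_mem _) (mlPw_mem _) hs
  rw [mlXg_prod] at e
  exact e.symm

theorem mlFact2 : (898128000 : ℕ).factorization 2 = 7 := by
  have e : (898128000 : ℕ) = 2 ^ 7 * 7016625 := by norm_num
  rw [e, Nat.factorization_mul (by norm_num) (by norm_num),
    Nat.Prime.factorization_pow Nat.prime_two]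
  have : (7016625 : ℕ).factorization 2 = 0 := Nat.factorization_eq_zero_of_not_dvd (by norm_num)
  simp [this]

/-- the set of listed involutions -/
def mlLset : Set (Equiv.Perm (Fin 275)) := {x | ∃ i, i < 22275 ∧ x = mlX i}

theorem mlLset_finite : mlLset.Finite := by
  have : mlLset ⊆ (fun i : ℕ => mlX i) '' (Set.Iio 22275) := by
    rintro x ⟨i, hi, rfl⟩
    exact ⟨i, hi, rfl⟩
  exact Set.Finite.subset ((Set.finite_Iio 22275).image _) this

/-- the conjugates of the listed involutions are listed -/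
theorem mlX_conj_all (g : Equiv.Perm (Fin 275)) (hg : g ∈ MLQ) (x : Equiv.Perm (Fin 275))
    (hx : x ∈ mlLset) : g * x * g⁻¹ ∈ mlLset := by
  rw [MLQ_eq] at hg
  refine conj_closed_of_gens mlLset mlLset_finite _ ?_ g hg x hx
  rintro _ ⟨k, rfl⟩ y ⟨i, hi, rfl⟩
  have hk : mlg k = mlGen k.1 := by
    have h2 := k.2
    rcases k with ⟨k, hk⟩
    interval_cases k
    · exact mlGen_zero.symm
    · exact mlGen_one.symm
  obtain ⟨h1, h2⟩ := mlX_conj k.1 i k.2 hi
  exact ⟨_, h1, by rw [hk]; exact h2⟩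

/-- every involution of the group is listed -/
theorem ml_invol_listed (x : Equiv.Perm (Fin 275)) (hx : x ∈ MLQ) (h2 : x * x = 1)
    (h1 : x ≠ 1) : ∃ i, i < 22275 ∧ x = mlX i := by
  have : Fact (Nat.Prime 2) := ⟨Nat.prime_two⟩
  have hord : orderOf (⟨x, hx⟩ : MLQ) = 2 := by
    apply orderOf_eq_prime
    · rw [pow_two]
      exact Subtype.ext h2
    · intro h
      exact h1 (congrArg Subtype.val h)
  have hfac : (Nat.card MLQ).factorization 2 = 7 := by
    rw [MLQ_card]
    exact mlFact2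
  have hcard : Nat.card (mlS.subgroupOf MLQ) = 128 := by
    rw [Nat.card_congr (Subgroup.subgroupOfEquivOfLe mlS_le).toEquiv, mlS_card]
  obtain ⟨g, hg⟩ := conj_into_subgroup 2 (mlS.subgroupOf MLQ) 7 hfac
    (by rw [hcard]; norm_num) ⟨x, hx⟩ hord
  rw [Subgroup.mem_subgroupOf] at hg
  have hd : (g : Equiv.Perm (Fin 275))⁻¹ * x * g ∈ mlS := hg
  have hd2 : ((g : Equiv.Perm (Fin 275))⁻¹ * x * g) * ((g : Equiv.Perm (Fin 275))⁻¹ * x * g) = 1 := by
    calc ((g : Equiv.Perm (Fin 275))⁻¹ * x * g) * ((g : Equiv.Perm (Fin 275))⁻¹ * x * g)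
        = (g : Equiv.Perm (Fin 275))⁻¹ * (x * x) * g := by group
      _ = 1 := by rw [h2]; group
  have hd1 : (g : Equiv.Perm (Fin 275))⁻¹ * x * g ≠ 1 := by
    intro h
    apply h1
    calc x = g * ((g : Equiv.Perm (Fin 275))⁻¹ * x * g) * (g : Equiv.Perm (Fin 275))⁻¹ := by group
      _ = 1 := by rw [h]; group
  obtain ⟨i, hi, e⟩ := mlS_invol _ hd hd2 hd1
  have := mlX_conj_all g.1 g.2 _ ⟨i, hi, e⟩
  have e2 : (g : Equiv.Perm (Fin 275)) * ((g : Equiv.Perm (Fin 275))⁻¹ * x * g) *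
      (g : Equiv.Perm (Fin 275))⁻¹ = x := by group
  rw [e2] at this
  exact this

end Cfsg.Agent.Lib.helper4
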