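import Mathlib
import Cfsg.Agent.Lib.helper4.MCOComp
import Cfsg.Agent.Lib.helper4.MCOAbs

set_option autoImplicit false

/-! The McLaughlin group on 275 points: the element of order 11, the involution, the outer
involution and the automorphism it induces. -/

namespace Cfsg.Agent.Lib.helper4

/-- the powers of a list of factors -/
def mlRepG (gs : List (Equiv.Perm (Fin 275))) : ℕ → List (Equiv.Perm (Fin 275))
  | 0 => []
  | n + 1 => gs ++ mlRepG gs n

theorem mlRepG_prod (gs : List (Equiv.Perm (Fin 275))) (n : ℕ) :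
    (mlRepG gs n).prod = gs.prod ^ n := by
  induction n with
  | zero => rfl
  | succ n ih =>
    show (gs ++ mlRepG gs n).prod = _
    rw [List.prod_append, ih, pow_succ']

theorem mlRepW_rep (w : List ℕ) (gs : List (Equiv.Perm (Fin 275)))
    (h : List.Forall₂ MlRep w gs) (n : ℕ) :
    List.Forall₂ MlRep (mlRepW w n) (mlRepG gs n) := by
  induction n with
  | zero => exact List.Forall₂.nil
  | succ n ih => exact mlRep_append _ _ _ _ h ih

theorem mlPow_eq_one (w : List ℕ) (gs : List (Equiv.Perm (Fin 275)))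
    (h : List.Forall₂ MlRep w gs) (n : ℕ) (hchk : mlEqW (mlRepW w n) [] = true) :
    gs.prod ^ n = 1 := by
  rw [← mlRepG_prod]
  exact mlEqW_prod _ _ _ [] (mlRepW_rep w gs h n) List.Forall₂.nil hchk

theorem mlPow_ne_one (w : List ℕ) (gs : List (Equiv.Perm (Fin 275)))
    (h : List.Forall₂ MlRep w gs) (n : ℕ) (hchk : mlEqW (mlRepW w n) [] = false) :
    gs.prod ^ n ≠ 1 := by
  intro h1
  rw [← mlRepG_prod] at h1
  have := mlEqW_of_prod _ _ _ [] (mlRepW_rep w gs h n) List.Forall₂.nil h1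
  rw [hchk] at this
  exact Bool.false_ne_true this

theorem mlRepG_mem (gs : List (Equiv.Perm (Fin 275))) (h : gs.prod ∈ MLQ) (n : ℕ) :
    (mlRepG gs n).prod ∈ MLQ := by
  rw [mlRepG_prod]
  exact Subgroup.pow_mem _ h n

/-- the element of order 11 -/
noncomputable def mlc : Equiv.Perm (Fin 275) := mlPw mlCw

/-- the involution -/
noncomputable def mla : Equiv.Perm (Fin 275) := mlPw mlAw

/-- the element normalising the subgroup of order 11 -/
noncomputable def mlu : Equiv.Perm (Fin 275) := mlPw mlUw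

theorem mlc_rep : MlRep mlC mlc := mlRep_of_eqW _ _ _ (mlPw_rep _) mlChkC

theorem mlci_rep : MlRep mlCi mlc⁻¹ := mlRep_inv _ _ _ mlc_rep mlChkCi

theorem mla_rep : MlRep mlA mla := mlRep_of_eqW _ _ _ (mlPw_rep _) mlChkA

theorem mlu_rep : MlRep mlU mlu := mlRep_of_eqW _ _ _ (mlPw_rep _) mlChkU

theorem mlc_mem : mlc ∈ MLQ := mlPw_mem _

theorem mla_mem : mla ∈ MLQ := mlPw_mem _

theorem mlu_mem : mlu ∈ MLQ := mlPw_mem _

/-- the outer involution -/
def mlZp : Equiv.Perm (Fin 275) where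
  toFun i := ⟨mlLook mlZ i.1, mlChkZlt i.1 i.2⟩
  invFun i := ⟨mlLook mlZ i.1, mlChkZlt i.1 i.2⟩
  left_inv i := by
    apply Fin.ext
    exact (mlEqW_iff _ _).1 mlChkZZ i.1 i.2
  right_inv i := by
    apply Fin.ext
    exact (mlEqW_iff _ _).1 mlChkZZ i.1 i.2

theorem mlZp_rep : MlRep mlZ mlZp := fun _ => rfl

theorem mlZp_sq : mlZp * mlZp = 1 := by
  have := mlEqW_prod [mlZ, mlZ] [] [mlZp, mlZp] []
    (List.Forall₂.cons mlZp_rep (List.Forall₂.cons mlZp_rep List.Forall₂.nil)) List.Forall₂.nil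
    mlChkZZ
  simpa using this

theorem mlZp_inv : mlZp⁻¹ = mlZp := inv_eq_of_mul_eq_one_left mlZp_sq

theorem mlGen_lt (k : ℕ) (hk : k < 16) : MlRep (mlG.getD k 0) (mlGen k) := by
  have := mlRep_gen k
  rw [show Nat.mod k 16 = k from Nat.mod_eq_of_lt hk] at this
  exact this

/-- the outer involution normalises the group: generators -/
theorem mlZ_gen (k : ℕ) (hk : k < 2) : mlZp * mlGen k * mlZp = mlPw (mlZw.getD k []) := by
  have := mlEqW_prod [mlZ, mlG.getD k 0, mlZ] (mlWd (mlZw.getD k [])) [mlZp, mlGen k, mlZp] _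
    (List.Forall₂.cons mlZp_rep (List.Forall₂.cons (mlGen_lt k (by omega))
      (List.Forall₂.cons mlZp_rep List.Forall₂.nil))) (mlPw_rep _) (mlChkZg k hk)
  rw [List.prod_cons, List.prod_cons, List.prod_cons, List.prod_nil, mul_one, ← mul_assoc] at this
  exact this

theorem mlZ_norm (g : Equiv.Perm (Fin 275)) (hg : g ∈ MLQ) : mlZp * g * mlZp ∈ MLQ := by
  rw [MLQ_eq] at hg
  induction hg using Subgroup.closure_induction with
  | mem s hs =>
    obtain ⟨k, rfl⟩ := hs
    have hk : mlg k = mlGen k.1 := by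
      rcases k with ⟨k, hk⟩
      interval_cases k
      · exact mlGen_zero.symm
      · exact mlGen_one.symm
    rw [hk, mlZ_gen k.1 k.2]
    exact mlPw_mem _
  | one =>
    rw [mul_one, mlZp_sq]
    exact Subgroup.one_mem _
  | mul a b _ _ iha ihb =>
    have : mlZp * (a * b) * mlZp = (mlZp * a * mlZp) * (mlZp * b * mlZp) := by
      calc mlZp * (a * b) * mlZp = mlZp * a * 1 * b * mlZp := by group
        _ = (mlZp * a * mlZp) * (mlZp * b * mlZp) := by rw [← mlZp_sq]; group
    rw [this]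
    exact Subgroup.mul_mem _ iha ihb
  | inv a _ iha =>
    have : mlZp * a⁻¹ * mlZp = (mlZp * a * mlZp)⁻¹ := by
      rw [mul_inv_rev, mul_inv_rev, mlZp_inv, mul_assoc]
    rw [this]
    exact Subgroup.inv_mem _ iha

/-- the second involution -/
noncomputable def mla2 : Equiv.Perm (Fin 275) := mlZp * mla * mlZp

theorem mla2_mem : mla2 ∈ MLQ := mlZ_norm _ mla_mem

theorem mla2_rep : MlRep mlA2 mla2 := by
  have := mlRep_of_eqW mlA2 [mlZ, mlA, mlZ] [mlZp, mla, mlZp]
    (List.Forall₂.cons mlZp_rep (List.Forall₂.cons mla_rep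
      (List.Forall₂.cons mlZp_rep List.Forall₂.nil))) mlChkZA
  rw [List.prod_cons, List.prod_cons, List.prod_cons, List.prod_nil, mul_one, ← mul_assoc] at this
  exact this

/-- the automorphism induced by the outer involution -/
noncomputable def mlSigma : MulAut MLQ where
  toFun g := ⟨mlZp * g.1 * mlZp, mlZ_norm g.1 g.2⟩
  invFun g := ⟨mlZp * g.1 * mlZp, mlZ_norm g.1 g.2⟩
  left_inv g := by
    apply Subtype.ext
    show mlZp * (mlZp * g.1 * mlZp) * mlZp = g.1
    calc mlZp * (mlZp * g.1 * mlZp) * mlZp = (mlZp * mlZp) * g.1 * (mlZp * mlZp) := by group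
      _ = g.1 := by rw [mlZp_sq, one_mul, mul_one]
  right_inv g := by
    apply Subtype.ext
    show mlZp * (mlZp * g.1 * mlZp) * mlZp = g.1
    calc mlZp * (mlZp * g.1 * mlZp) * mlZp = (mlZp * mlZp) * g.1 * (mlZp * mlZp) := by group
      _ = g.1 := by rw [mlZp_sq, one_mul, mul_one]
  map_mul' g h := by
    apply Subtype.ext
    show mlZp * (g.1 * h.1) * mlZp = (mlZp * g.1 * mlZp) * (mlZp * h.1 * mlZp)
    calc mlZp * (g.1 * h.1) * mlZp = mlZp * g.1 * 1 * h.1 * mlZp := by group
      _ = (mlZp * g.1 * mlZp) * (mlZp * h.1 * mlZp) := by rw [← mlZp_sq]; group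

theorem mlSigma_apply (g : MLQ) : (mlSigma g : Equiv.Perm (Fin 275)) = mlZp * g.1 * mlZp := rfl

/-- the elements as members of the group -/
noncomputable def mlCg : MLQ := ⟨mlc, mlc_mem⟩

/-- the involution as a member of the group -/
noncomputable def mlAg : MLQ := ⟨mla, mla_mem⟩

/-- the normalising element as a member of the group -/
noncomputable def mlUg : MLQ := ⟨mlu, mlu_mem⟩

/-- the second involution as a member of the group -/
noncomputable def mlA2g : MLQ := ⟨mla2, mla2_mem⟩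

theorem mlc_pow11 : mlc ^ 11 = 1 := by
  have := mlPow_eq_one [mlC] [mlc] (List.Forall₂.cons mlc_rep List.Forall₂.nil) 11 mlChkC11
  rw [List.prod_cons, List.prod_nil, mul_one] at this
  exact this

theorem mlc_ne : mlc ≠ 1 := by
  have := mlPow_ne_one [mlC] [mlc] (List.Forall₂.cons mlc_rep List.Forall₂.nil) 1 mlChkC1
  rw [List.prod_cons, List.prod_nil, mul_one, pow_one] at this
  exact this

theorem mlCg_order : orderOf mlCg = 11 := by
  have : Fact (Nat.Prime 11) := ⟨by norm_num⟩
  apply orderOf_eq_prime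
  · apply Subtype.ext
    exact mlc_pow11
  · intro h
    exact mlc_ne (congrArg Subtype.val h)

theorem mla_sq : mla * mla = 1 := by
  have := mlEqW_prod [mlA, mlA] [] [mla, mla] []
    (List.Forall₂.cons mla_rep (List.Forall₂.cons mla_rep List.Forall₂.nil)) List.Forall₂.nil
    mlChkAA
  simpa using this

theorem mla_ne : mla ≠ 1 := by
  have := mlPow_ne_one [mlA] [mla] (List.Forall₂.cons mla_rep List.Forall₂.nil) 1 mlChkA1
  rw [List.prod_cons, List.prod_nil, mul_one, pow_one] at this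
  exact this

theorem mlu_conj : mlu * mlc * mlu⁻¹ = mlc ^ 3 := by
  have := mlEqW_prod [mlU, mlC] [mlC, mlC, mlC, mlU] [mlu, mlc] [mlc, mlc, mlc, mlu]
    (List.Forall₂.cons mlu_rep (List.Forall₂.cons mlc_rep List.Forall₂.nil))
    (List.Forall₂.cons mlc_rep (List.Forall₂.cons mlc_rep (List.Forall₂.cons mlc_rep
      (List.Forall₂.cons mlu_rep List.Forall₂.nil)))) mlChkUC
  simp only [List.prod_cons, List.prod_nil, mul_one] at this
  rw [this, pow_succ, pow_two]
  simp only [mul_assoc, mul_inv_cancel, mul_one]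

theorem mlc2_rep : MlRep (mlCA.getD 1 0) (mlc ^ 2) := by
  have h1 := mlRep_of_eqW (mlCA.getD 1 0) _ _
    (mlRepW_rep [mlC] [mlc] (List.Forall₂.cons mlc_rep List.Forall₂.nil) 2) (mlChkCA.2.1 1 (by norm_num))
  rw [mlRepG_prod, List.prod_cons, List.prod_nil, mul_one] at h1
  exact h1

theorem mlc3_rep : MlRep (mlCA.getD 2 0) (mlc ^ 3) := by
  have h1 := mlRep_of_eqW (mlCA.getD 2 0) _ _
    (mlRepW_rep [mlC] [mlc] (List.Forall₂.cons mlc_rep List.Forall₂.nil) 3) (mlChkCA.2.1 2 (by norm_num))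
  rw [mlRepG_prod, List.prod_cons, List.prod_nil, mul_one] at h1
  exact h1

theorem mlP1 : (mlc * mla) ^ 6 = 1 := by
  have := mlPow_eq_one [mlC, mlA] [mlc, mla]
    (List.Forall₂.cons mlc_rep (List.Forall₂.cons mla_rep List.Forall₂.nil)) 6 mlChkP1
  rw [List.prod_cons, List.prod_cons, List.prod_nil, mul_one] at this
  exact this

theorem mlP2 : (mlc * mla * mlc ^ 3 * mla * mlc ^ 2 * mla) ^ 3 = 1 := by
  have := mlPow_eq_one [mlC, mlA, mlCA.getD 2 0, mlA, mlCA.getD 1 0, mlA]
    [mlc, mla, mlc ^ 3, mla, mlc ^ 2, mla]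
    (List.Forall₂.cons mlc_rep (List.Forall₂.cons mla_rep (List.Forall₂.cons mlc3_rep
      (List.Forall₂.cons mla_rep (List.Forall₂.cons mlc2_rep
        (List.Forall₂.cons mla_rep List.Forall₂.nil)))))) 3 mlChkP2
  rw [List.prod_cons, List.prod_cons, List.prod_cons, List.prod_cons, List.prod_cons,
    List.prod_cons, List.prod_nil, mul_one, ← mul_assoc, ← mul_assoc, ← mul_assoc, ← mul_assoc]
    at this
  exact this

theorem mlZ_c : mlZp * mlc * mlZp = mlc := by
  have := mlEqW_prod [mlZ, mlC, mlZ] [mlC] [mlZp, mlc, mlZp] [mlc]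
    (List.Forall₂.cons mlZp_rep (List.Forall₂.cons mlc_rep
      (List.Forall₂.cons mlZp_rep List.Forall₂.nil)))
    (List.Forall₂.cons mlc_rep List.Forall₂.nil) mlChkZC
  simp only [List.prod_cons, List.prod_nil, mul_one] at this
  rw [← mul_assoc] at this
  exact this

theorem mlFact11 : (898128000 : ℕ).factorization 11 = 1 := by
  have e : (898128000 : ℕ) = 11 ^ 1 * 81648000 := by norm_num
  rw [e, Nat.factorization_mul (by norm_num) (by norm_num),
    Nat.Prime.factorization_pow (by norm_num)]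
  have : (81648000 : ℕ).factorization 11 = 0 := Nat.factorization_eq_zero_of_not_dvd (by norm_num)
  simp [this]

end Cfsg.Agent.Lib.helper4

namespace Cfsg.Agent.Lib.helper4

theorem mla2_def : mla2 = mlZp * mla * mlZp := rfl

theorem mlAg_coe : (mlAg : MLQ).1 = mla := rfl

theorem mlCg_coe : (mlCg : MLQ).1 = mlc := rfl

theorem mlA2g_coe : (mlA2g : MLQ).1 = mla2 := rfl

theorem mlUg_coe : (mlUg : MLQ).1 = mlu := rfl

theorem mla_ne_a2 : mla ≠ mla2 := by
  intro h
  have := mlEqW_of_prod [mlA] [mlA2] [mla] [mla2]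
    (List.Forall₂.cons mla_rep List.Forall₂.nil) (List.Forall₂.cons mla2_rep List.Forall₂.nil)
    (by rw [List.prod_cons, List.prod_cons, h])
  rw [mlChkAA2] at this
  exact Bool.false_ne_true this

attribute [irreducible] mla2 mlZp

end Cfsg.Agent.Lib.helper4
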