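import Mathlib
import Cfsg.Agent.Lib.helper4.MCOMain
import Cfsg.Agent.Lib.helper4.MCOChkM
import Cfsg.Agent.Lib.helper4.MCOChkP
import Cfsg.Agent.Lib.helper4.MCOChkQ

set_option autoImplicit false

/-! The McLaughlin group on 275 points: generation by the element of order 11 and the
involution, the involutions with the pattern, and the outer automorphism group. -/

namespace Cfsg.Agent.Lib.helper4

/-- the letters of the words in the powers of the element of order 11 and the involution -/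
noncomputable def mlLet (l : ℕ) : Equiv.Perm (Fin 275) := if l < 10 then mlc ^ (l + 1) else mla

theorem mlLet_rep (l : ℕ) (hl : l < 11) : MlRep (mlCA.getD l 0) (mlLet l) := by
  unfold mlLet
  by_cases h : l < 10
  · rw [if_pos h]
    have h1 := mlRep_of_eqW (mlCA.getD l 0) _ _
      (mlRepW_rep [mlC] [mlc] (List.Forall₂.cons mlc_rep List.Forall₂.nil) (l + 1))
      (mlChkCA.2.1 l h)
    rw [mlRepG_prod, List.prod_cons, List.prod_nil, mul_one] at h1
    exact h1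
  · rw [if_neg h]
    have : l = 10 := by omega
    rw [this, mlChkCA.2.2]
    exact mla_rep

theorem mlWd3_rep (w : List ℕ) (hw : ∀ l ∈ w, l < 11) :
    List.Forall₂ MlRep (mlWd3 w) (w.map mlLet) := by
  induction w with
  | nil => exact List.Forall₂.nil
  | cons l w ih =>
    exact List.Forall₂.cons (mlLet_rep l (hw l List.mem_cons_self))
      (ih fun l' h' => hw l' (List.mem_cons_of_mem _ h'))

theorem mlLet_mem (l : ℕ) :
    mlLet l ∈ Subgroup.closure ({mlc, mla} : Set (Equiv.Perm (Fin 275))) := by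
  unfold mlLet
  split
  · exact Subgroup.pow_mem _ (Subgroup.subset_closure (Set.mem_insert _ _)) _
  · exact Subgroup.subset_closure (Set.mem_insert_of_mem _ rfl)

theorem mlLet_prod_mem (w : List ℕ) :
    (w.map mlLet).prod ∈ Subgroup.closure ({mlc, mla} : Set (Equiv.Perm (Fin 275))) := by
  induction w with
  | nil => exact Subgroup.one_mem _
  | cons l w ih =>
    rw [List.map_cons, List.prod_cons]
    exact Subgroup.mul_mem _ (mlLet_mem l) ih

theorem mlGen_closure (k : ℕ) (hk : k < 2) :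
    mlGen k ∈ Subgroup.closure ({mlc, mla} : Set (Equiv.Perm (Fin 275))) := by
  have h1 := mlRep_of_eqW (mlG.getD k 0) _ _ (mlWd3_rep (mlGw.getD k []) (mlChkGw k hk))
    (mlChkGen k hk)
  rw [mlRep_eq _ _ _ (mlGen_lt k (by omega)) h1]
  exact mlLet_prod_mem _

theorem ml_le_closure : MLQ ≤ Subgroup.closure ({mlc, mla} : Set (Equiv.Perm (Fin 275))) := by
  rw [MLQ_eq, Subgroup.closure_le]
  rintro _ ⟨k, rfl⟩
  have hk : mlg k = mlGen k.1 := by
    rcases k with ⟨k, hk⟩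
    interval_cases k
    · exact mlGen_zero.symm
    · exact mlGen_one.symm
  rw [hk]
  exact mlGen_closure k.1 k.2

theorem ml_gen : Subgroup.closure {mlCg, mlAg} = (⊤ : Subgroup MLQ) := by
  rw [eq_top_iff]
  intro g _
  have hm : (Subgroup.closure {mlCg, mlAg}).map (MLQ : Subgroup (Equiv.Perm (Fin 275))).subtype =
      Subgroup.closure ({mlc, mla} : Set (Equiv.Perm (Fin 275))) := by
    rw [MonoidHom.map_closure]
    congr 1
    rw [Set.image_pair]
    rfl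
  have hg := ml_le_closure g.2
  rw [← hm] at hg
  obtain ⟨g', hg', e⟩ := hg
  have : g' = g := Subtype.ext e
  rwa [this] at hg'

theorem mlPatW_spec (C C2 C3 : ℕ) (O X : List ℕ) (s : ℕ) (hp : mlPatW C C2 C3 O X s = true)
    (f1 : mlEqB (mlRepW (C :: X) 6) [] = true)
    (f2 : mlEqB (mlRepW (C :: X ++ (C3 :: X ++ C2 :: X)) 3) [] = true) :
    (O.any fun o => Nat.beq o s) = true := by
  unfold mlPatW at hp
  rw [f1] at hp
  dsimp only at hp
  rw [f2] at hp
  exact hp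

theorem mlOrb_elt (j : ℕ) (T : ℕ) (t : Equiv.Perm (Fin 275)) (ht : MlRep T t) :
    List.Forall₂ MlRep (mlRepW [mlC] j ++ T :: mlRepW [mlCi] j)
      (mlRepG [mlc] j ++ t :: mlRepG [mlc⁻¹] j) :=
  mlRep_append _ _ _ _ (mlRepW_rep _ _ (List.Forall₂.cons mlc_rep List.Forall₂.nil) j)
    (List.Forall₂.cons ht (mlRepW_rep _ _ (List.Forall₂.cons mlci_rep List.Forall₂.nil) j))

theorem mlOrb_prod (j : ℕ) (t : Equiv.Perm (Fin 275)) :
    (mlRepG [mlc] j ++ t :: mlRepG [mlc⁻¹] j).prod = mlc ^ j * t * (mlc ^ j)⁻¹ := by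
  rw [List.prod_append, List.prod_cons, mlRepG_prod, mlRepG_prod, List.prod_cons, List.prod_nil,
    mul_one, List.prod_cons, List.prod_nil, mul_one, inv_pow, mul_assoc]

/-- the pattern of orders of an element relative to another -/
def MlPat (x y : MLQ) : Prop :=
  y * y = 1 ∧ y ≠ 1 ∧ (x * y) ^ 6 = 1 ∧ (x * y * x ^ 3 * y * x ^ 2 * y) ^ 3 = 1

theorem mlPat_aut (α : MulAut MLQ) (x y : MLQ) (h : MlPat x y) : MlPat (α x) (α y) := by
  obtain ⟨h1, h2, h3, h4⟩ := h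
  refine ⟨?_, ?_, ?_, ?_⟩
  · rw [← map_mul, h1, map_one]
  · intro h
    apply h2
    apply α.injective
    rw [h, map_one]
  · rw [← map_mul, ← map_pow, h3, map_one]
  · rw [← map_pow, ← map_pow, ← map_mul, ← map_mul, ← map_mul, ← map_mul, ← map_mul, ← map_pow, h4,
      map_one]

theorem mlPat_ca1 : mlAg * mlAg = 1 := by
  apply Subtype.ext
  rw [Subgroup.coe_mul, Subgroup.coe_one, mlAg_coe]
  exact mla_sq

theorem mlPat_ca2 : mlAg ≠ 1 := by
  intro h
  have := congrArg Subtype.val h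
  rw [Subgroup.coe_one, mlAg_coe] at this
  exact mla_ne this

theorem mlPat_ca3 : (mlCg * mlAg) ^ 6 = 1 := by
  apply Subtype.ext
  rw [Subgroup.coe_pow, Subgroup.coe_mul, Subgroup.coe_one, mlAg_coe, mlCg_coe]
  exact mlP1

theorem mlPat_ca4 : (mlCg * mlAg * mlCg ^ 3 * mlAg * mlCg ^ 2 * mlAg) ^ 3 = 1 := by
  apply Subtype.ext
  rw [Subgroup.coe_pow, Subgroup.coe_mul, Subgroup.coe_mul, Subgroup.coe_mul, Subgroup.coe_mul,
      Subgroup.coe_mul, Subgroup.coe_pow, Subgroup.coe_pow, Subgroup.coe_one, mlAg_coe, mlCg_coe]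
  exact mlP2

theorem mlPat_ca : MlPat mlCg mlAg := ⟨mlPat_ca1, mlPat_ca2, mlPat_ca3, mlPat_ca4⟩

/-- the involutions with the pattern relative to a coded element are in the list given -/
theorem ml_hE_core (C C2 C3 : ℕ) (cc : Equiv.Perm (Fin 275)) (hC : MlRep C cc)
    (hC2 : MlRep C2 (cc ^ 2)) (hC3 : MlRep C3 (cc ^ 3)) (O : List ℕ)
    (hchk : ∀ i, i < 22275 → mlPatW C C2 C3 O (mlXc i) (mlXs i) = true)
    (x : Equiv.Perm (Fin 275)) (hx : x ∈ MLQ) (hx2 : x * x = 1) (hx1 : x ≠ 1)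
    (h1 : (cc * x) ^ 6 = 1) (h2 : (cc * x * cc ^ 3 * x * cc ^ 2 * x) ^ 3 = 1) :
    ∃ i, i < 22275 ∧ x = mlX i ∧ (O.any fun o => Nat.beq o (mlSig (mlXc i))) = true := by
  obtain ⟨i, hi, e⟩ := ml_invol_listed x hx hx2 hx1
  have hp := hchk i hi
  have r1 : List.Forall₂ MlRep (C :: mlXc i) (cc :: mlXg i) := List.Forall₂.cons hC (mlXg_rep i)
  have r2 : List.Forall₂ MlRep (C :: mlXc i ++ (C3 :: mlXc i ++ C2 :: mlXc i))
      (cc :: mlXg i ++ (cc ^ 3 :: mlXg i ++ cc ^ 2 :: mlXg i)) :=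
    mlRep_append _ _ _ _ r1 (mlRep_append _ _ _ _ (List.Forall₂.cons hC3 (mlXg_rep i))
      (List.Forall₂.cons hC2 (mlXg_rep i)))
  have p1 : (cc :: mlXg i).prod = cc * x := by
    rw [List.prod_cons, mlXg_prod, e]
  have p2 : (cc :: mlXg i ++ (cc ^ 3 :: mlXg i ++ cc ^ 2 :: mlXg i)).prod =
      cc * x * cc ^ 3 * x * cc ^ 2 * x := by
    rw [List.prod_append, List.prod_cons, List.prod_append, List.prod_cons, List.prod_cons,
      mlXg_prod, e]
    simp only [mul_assoc]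
  have f1 : mlEqB (mlRepW (C :: mlXc i) 6) [] = true := by
    rw [mlEqB_iff]
    apply mlSig_of_eq _ _ _ [] (mlRepW_rep _ _ r1 6) List.Forall₂.nil
    rw [mlRepG_prod, p1]
    exact h1
  have f2 : mlEqB (mlRepW (C :: mlXc i ++ (C3 :: mlXc i ++ C2 :: mlXc i)) 3) [] = true := by
    rw [mlEqB_iff]
    apply mlSig_of_eq _ _ _ [] (mlRepW_rep _ _ r2 3) List.Forall₂.nil
    rw [mlRepG_prod, p2]
    exact h2
  have hany := mlPatW_spec C C2 C3 O (mlXc i) (mlXs i) hp f1 f2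
  rw [mlXs_eq i hi] at hany
  exact ⟨i, hi, e, hany⟩

theorem ml_pat_coe (x y : MLQ) (h : MlPat x y) :
    y.1 * y.1 = 1 ∧ y.1 ≠ 1 ∧ (x.1 * y.1) ^ 6 = 1 ∧
      (x.1 * y.1 * x.1 ^ 3 * y.1 * x.1 ^ 2 * y.1) ^ 3 = 1 := by
  obtain ⟨h1, h2, h3, h4⟩ := h
  refine ⟨congrArg Subtype.val h1, fun h => h2 (Subtype.ext h), ?_, ?_⟩
  · have := congrArg Subtype.val h3
    rw [Subgroup.coe_pow, Subgroup.coe_mul] at this
    exact this
  · have := congrArg Subtype.val h4
    rw [Subgroup.coe_pow, Subgroup.coe_mul, Subgroup.coe_mul, Subgroup.coe_mul, Subgroup.coe_mul,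
      Subgroup.coe_mul, Subgroup.coe_pow, Subgroup.coe_pow] at this
    exact this

theorem ml_orb_eq (j : ℕ) (T : ℕ) (t : Equiv.Perm (Fin 275)) (hT : MlRep T t) (htm : t ∈ MLQ)
    (i : ℕ) (hs : mlSig (mlRepW [mlC] j ++ T :: mlRepW [mlCi] j) = mlSig (mlXc i)) :
    mlX i = mlc ^ j * t * (mlc ^ j)⁻¹ := by
  have hm : (mlRepG [mlc] j ++ t :: mlRepG [mlc⁻¹] j).prod ∈ MLQ := by
    rw [mlOrb_prod]
    exact Subgroup.mul_mem _ (Subgroup.mul_mem _ (Subgroup.pow_mem _ mlc_mem _) htm)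
      (Subgroup.inv_mem _ (Subgroup.pow_mem _ mlc_mem _))
  have := ml_eq_of_sig _ _ _ _ (mlOrb_elt j T t hT) (mlXg_rep i) hm
    (by rw [mlXg_prod]; exact mlX_mem _) hs
  rw [mlOrb_prod, mlXg_prod] at this
  exact this.symm

theorem ml_hEp (x : MLQ) (h : MlPat mlCg x) :
    ∃ j : ℕ, x = mlCg ^ j * mlAg * (mlCg ^ j)⁻¹ ∨ x = mlCg ^ j * mlA2g * (mlCg ^ j)⁻¹ := by
  obtain ⟨h1, h2, h3, h4⟩ := ml_pat_coe _ _ h
  obtain ⟨i, hi, e, hany⟩ := ml_hE_core mlC (mlCA.getD 1 0) (mlCA.getD 2 0) mlc mlc_rep mlc2_rep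
    mlc3_rep (mlOrbSigP ++ mlOrbSigM) mlChkP x.1 x.2 h1 h2 h3 h4
  rw [List.any_eq_true] at hany
  obtain ⟨o, ho, hbeq⟩ := hany
  have ho2 : o = mlSig (mlXc i) := Nat.eq_of_beq_eq_true hbeq
  rw [List.mem_append] at ho
  rcases ho with ho | ho
  · obtain ⟨j, hj, hoj⟩ := List.getElem_of_mem ho
    have hj11 : j < 11 := by rw [← mlChkOrb.1]; exact hj
    have hs : mlSig (mlRepW [mlC] j ++ mlA :: mlRepW [mlCi] j) = mlSig (mlXc i) := by
      rw [← mlChkOrb.2.2.1 j hj11, List.getD_eq_getElem _ _ hj, hoj, ho2]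
    refine ⟨j, Or.inl (Subtype.ext ?_)⟩
    rw [e, ml_orb_eq j mlA mla mla_rep mla_mem i hs]
    rfl
  · obtain ⟨j, hj, hoj⟩ := List.getElem_of_mem ho
    have hj11 : j < 11 := by rw [← mlChkOrb.2.1]; exact hj
    have hs : mlSig (mlRepW [mlC] j ++ mlA2 :: mlRepW [mlCi] j) = mlSig (mlXc i) := by
      rw [← mlChkOrb.2.2.2 j hj11, List.getD_eq_getElem _ _ hj, hoj, ho2]
    refine ⟨j, Or.inr (Subtype.ext ?_)⟩
    rw [e, ml_orb_eq j mlA2 mla2 mla2_rep mla2_mem i hs]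
    rfl

theorem mlci2_rep : MlRep (mlCA.getD 8 0) (mlc⁻¹ ^ 2) := by
  have h1 := mlRep_of_eqW (mlCA.getD 8 0) _ _
    (mlRepW_rep [mlC] [mlc] (List.Forall₂.cons mlc_rep List.Forall₂.nil) 9) (mlChkCA.2.1 8 (by norm_num))
  rw [mlRepG_prod, List.prod_cons, List.prod_nil, mul_one] at h1
  have e : mlc⁻¹ ^ 2 = mlc ^ 9 := by
    rw [inv_pow]
    apply inv_eq_of_mul_eq_one_left
    rw [← pow_add]
    exact mlc_pow11
  rw [e]
  exact h1

theorem mlci3_rep : MlRep (mlCA.getD 7 0) (mlc⁻¹ ^ 3) := by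
  have h1 := mlRep_of_eqW (mlCA.getD 7 0) _ _
    (mlRepW_rep [mlC] [mlc] (List.Forall₂.cons mlc_rep List.Forall₂.nil) 8) (mlChkCA.2.1 7 (by norm_num))
  rw [mlRepG_prod, List.prod_cons, List.prod_nil, mul_one] at h1
  have e : mlc⁻¹ ^ 3 = mlc ^ 8 := by
    rw [inv_pow]
    apply inv_eq_of_mul_eq_one_left
    rw [← pow_add]
    exact mlc_pow11
  rw [e]
  exact h1

theorem ml_hEm (x : MLQ) : ¬ MlPat mlCg⁻¹ x := by
  intro h
  obtain ⟨h1, h2, h3, h4⟩ := ml_pat_coe _ _ h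
  rw [Subgroup.coe_inv] at h3 h4
  obtain ⟨i, hi, e, hany⟩ := ml_hE_core mlCi (mlCA.getD 8 0) (mlCA.getD 7 0) mlc⁻¹ mlci_rep
    mlci2_rep mlci3_rep [] mlChkQ x.1 x.2 h1 h2 h3 h4
  simp at hany

theorem mlSigma_sq (x : MLQ) : mlSigma (mlSigma x) = x := mlSigma.left_inv x

theorem mlSigma_not_inn : mlSigma ∉ Cfsg.Inn MLQ := by
  rintro ⟨g, hg⟩
  have hconj : ∀ x : MLQ, g * x * g⁻¹ = mlSigma x := by
    intro x
    rw [← hg]
    rfl
  have hgc : g * mlCg * g⁻¹ = mlCg := by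
    rw [hconj]
    apply Subtype.ext
    exact mlZ_c
  have hga : g * mlAg * g⁻¹ = mlA2g := by
    rw [hconj]
    apply Subtype.ext
    rw [mlSigma_apply]
    exact mla2_def.symm
  have hsq : g * g ∈ Subgroup.center MLQ := by
    rw [Subgroup.mem_center_iff]
    intro x
    have := mlSigma_sq x
    rw [← hconj, ← hconj] at this
    calc x * (g * g) = (g * (g * x * g⁻¹) * g⁻¹) * (g * g) := by rw [this]
      _ = g * g * x := by group
  rw [MLQ_center, Subgroup.mem_bot] at hsq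
  have hg1 : g ≠ 1 := by
    intro h
    rw [h, one_mul, inv_one, mul_one] at hga
    have := congrArg Subtype.val hga
    rw [mlAg_coe, mlA2g_coe] at this
    exact mla_ne_a2 this
  have hg1' : g.1 ≠ 1 := fun h => hg1 (Subtype.ext h)
  obtain ⟨i, hi, e⟩ := ml_invol_listed g.1 g.2 (congrArg Subtype.val hsq) hg1'
  have hcomm : g.1 * mlc = mlc * g.1 := by
    have h1 : g * mlCg = mlCg * g := by
      calc g * mlCg = (g * mlCg * g⁻¹) * g := by group
        _ = mlCg * g := by rw [hgc]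
    exact congrArg Subtype.val h1
  have hnc : mlNc i = true := mlChkM i hi
  unfold mlNc at hnc
  have hs : mlEqB (mlXc i ++ [mlC]) (mlC :: mlXc i) = true := by
    rw [mlEqB_iff]
    apply mlSig_of_eq _ _ (mlXg i ++ [mlc]) (mlc :: mlXg i)
      (mlRep_append _ _ _ _ (mlXg_rep i) (List.Forall₂.cons mlc_rep List.Forall₂.nil))
      (List.Forall₂.cons mlc_rep (mlXg_rep i))
    rw [List.prod_append, List.prod_cons, List.prod_cons, List.prod_nil, mul_one, mlXg_prod, ← e]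
    exact hcomm
  rw [hs] at hnc
  exact Bool.false_ne_true hnc

theorem mlg_u : mlUg * mlCg * mlUg⁻¹ = mlCg ^ 3 := by
  apply Subtype.ext
  rw [Subgroup.coe_mul, Subgroup.coe_mul, Subgroup.coe_inv, Subgroup.coe_pow]
  exact mlu_conj

theorem mlg_sc : mlSigma mlCg = mlCg := by
  apply Subtype.ext
  rw [mlSigma_apply]
  exact mlZ_c

theorem mlg_sa : mlSigma mlAg = mlA2g := by
  apply Subtype.ext
  rw [mlSigma_apply]
  exact mla2_def.symm

/-- the outer automorphism group of the group on 275 points has order two -/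
theorem ml_out_card : Nat.card (Cfsg.Out MLQ) = 2 := by
  have hfac : (Nat.card MLQ).factorization 11 = 1 := by rw [MLQ_card]; exact mlFact11
  have : Finite MLQ := Nat.finite_of_card_ne_zero (by rw [MLQ_card]; norm_num)
  exact out_card_two_pat2 mlCg mlAg mlA2g mlSigma MlPat mlPat_aut
    (out_step_eleven mlCg mlUg hfac mlCg_order mlg_u) ml_gen mlPat_ca ml_hEp ml_hEm mlg_sc mlg_sa
    mlSigma_not_inn

end Cfsg.Agent.Lib.helper4
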