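import Mathlib
import Cfsg.Agent.Lib.Helper18.PRL.Defs
import Cfsg.Agent.Lib.Helper1.Fitting
import Cfsg.Agent.Lib.Helper20.PRLSR1
import Cfsg.Agent.Lib.Helper21.MaxClassP
import Cfsg.Agent.Lib.Helper10.MCPPOW
import Cfsg.Agent.Lib.Helper19.MCPAGE
import Cfsg.Agent.Lib.Helper29.MCPCLS
import Cfsg.Agent.Lib.Helper29.MCPGEN

/-!
# Project MCP (S5238), piece SEC (backup by the leader): every subgroup is `p`-generated
-/

set_option autoImplicit false

namespace Cfsg.Agent.Lib.helper4.MCP

open Cfsg.Agent.Lib.Helper18.PRL
open scoped commutatorElement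

universe u

section mc
variable {p : ℕ} [Fact p.Prime] {G : Type u} [Group G] [Finite G] {n : ℕ}

omit [Finite G] in
theorem h4sec_card_centralizer_conj (g s : G) :
    Nat.card (Subgroup.centralizer ({g * s * g⁻¹} : Set G)) =
      Nat.card (Subgroup.centralizer ({s} : Set G)) := by
  have key : Subgroup.centralizer ({g * s * g⁻¹} : Set G) =
      (Subgroup.centralizer ({s} : Set G)).map (MulAut.conj g).toMonoidHom := by
    ext x
    rw [Subgroup.mem_map]
    constructor
    · intro hx
      refine ⟨g⁻¹ * x * g, ?_, by simp [MulAut.conj_apply]; group⟩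
      rw [Subgroup.mem_centralizer_iff] at hx ⊢
      intro y hy
      rw [Set.mem_singleton_iff] at hy
      subst hy
      have h1 := hx (g * y * g⁻¹) rfl
      calc y * (g⁻¹ * x * g) = g⁻¹ * ((g * y * g⁻¹) * x) * g := by group
        _ = g⁻¹ * (x * (g * y * g⁻¹)) * g := by rw [h1]
        _ = g⁻¹ * x * g * y := by group
    · rintro ⟨z, hz, rfl⟩
      rw [Subgroup.mem_centralizer_iff] at hz ⊢
      intro y hy
      rw [Set.mem_singleton_iff] at hy
      subst hy
      have h1 := hz s rfl
      simp only [MulEquiv.coe_toMonoidHom, MulAut.conj_apply]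
      calc g * s * g⁻¹ * (g * z * g⁻¹) = g * (s * z) * g⁻¹ := by group
        _ = g * (z * s) * g⁻¹ := by rw [h1]
        _ = g * z * g⁻¹ * (g * s * g⁻¹) := by group
  rw [key]
  exact Nat.card_congr
    ((Subgroup.centralizer ({s} : Set G)).equivMapOfInjective _
      (MulAut.conj g).injective).symm.toEquiv

/-- MCP-SEC -/
theorem sectional_rank_le (h : MC p G n) (hn : 4 ≤ n) (s : G)
    (hs : Nat.card (Subgroup.centralizer ({s} : Set G)) ≤ p ^ 2) (H : Subgroup G) :
    ∃ T : Finset G, T.card ≤ p ∧ Subgroup.closure (T : Set G) = H := by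
  classical
  have hp : p.Prime := Fact.out
  have hpg : IsPGroup p G := IsPGroup.of_card h.1
  by_cases hcase : ∃ g : G, g * s * g⁻¹ ∈ H
  · obtain ⟨g, hg⟩ := hcase
    obtain ⟨T, hT, hcl⟩ := two_gen_of_card_centralizer hpg (g * s * g⁻¹)
      (by rw [h4sec_card_centralizer_conj]; exact hs) H hg
    exact ⟨T, hT.trans hp.two_le, hcl⟩
  · push Not at hcase
    set C : Subgroup G := commutator G with hC
    have hCidx : C.index = p ^ 2 :=
      (Cfsg.Agent.Lib.Helper21.mc_p_index p n G (by omega) h.1 h.2).1
    -- `H ⊔ C ≠ ⊤`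
    have hne : H ⊔ C ≠ ⊤ := by
      intro htop
      have hs' : s ∈ H ⊔ C := by rw [htop]; exact Subgroup.mem_top s
      have hmem : s ∈ ((H ⊔ C : Subgroup G) : Set G) := hs'
      rw [Subgroup.mul_normal H C] at hmem
      obtain ⟨x, hx, c, hc, hxc⟩ := Set.mem_mul.mp hmem
      have hx' : x = s * c⁻¹ := by rw [← hxc]; group
      obtain ⟨g, hg⟩ := conj_of_mem_commutator h (by omega) s hs c⁻¹ (C.inv_mem hc)
      apply hcase g
      rw [hg, ← hx']
      exact hx
    -- `|H : H ⊓ C| ≤ p`
    have hrel : C.relIndex H ∣ p := by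
      have h1 : C.relIndex (H ⊔ C) = C.relIndex H := Subgroup.relIndex_sup_right H C
      have h2 : C.relIndex (H ⊔ C) * (H ⊔ C).index = C.index :=
        Subgroup.relIndex_mul_index le_sup_right
      rw [h1, hCidx] at h2
      have hKidx : p ∣ (H ⊔ C).index := by
        obtain ⟨k, hk⟩ := hpg.index (H ⊔ C)
        rcases Nat.eq_zero_or_pos k with hk0 | hk0
        · exfalso
          rw [hk0, pow_zero] at hk
          exact hne (Subgroup.index_eq_one.mp hk)
        · rw [hk]
          exact dvd_pow_self p (by omega)
      obtain ⟨m, hm⟩ := hKidx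
      rw [hm] at h2
      have h3 : C.relIndex H * m * p = p * p := by
        have : p ^ 2 = p * p := by ring
        rw [← this, ← h2]; ring
      have h4 : C.relIndex H * m = p := Nat.eq_of_mul_eq_mul_right hp.pos h3
      exact ⟨m, h4.symm⟩
    set H1 : Subgroup G := H ⊓ C with hH1
    have hH1C : H1 ≤ C := inf_le_right
    have hH1H : H1 ≤ H := inf_le_left
    have hrel1 : H1.relIndex H ∣ p := by
      rw [hH1, inf_comm, Subgroup.inf_relIndex_right]
      exact hrel
    -- generators of `H ⊓ C`
    have hU : ∀ i, i ≤ n - 2 → ∀ y ∈ Z G i, y ^ p ∈ Z G (i - (p - 1)) :=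
      fun i hi => (power_structure h hn s hs i hi).1
    have hL : ∀ i, p ≤ i → i ≤ n - 2 → ∀ y ∈ Z G i, y ∉ Z G (i - 1) → y ^ p ∉ Z G (i - p) :=
      fun i hpi hi => (power_structure h hn s hs i hi).2 hpi
    have hage := card_le_agemo h (by omega) hU hL H1 hH1C
    obtain ⟨T1, hT1, hcl1⟩ := gen_of_card_le_agemo (p := p) hpg H1 (p - 1) hage
    by_cases hHH : H1 = H
    · exact ⟨T1, hT1.trans (Nat.sub_le p 1), hHH ▸ hcl1⟩
    · obtain ⟨x, hxH, hxH1⟩ : ∃ x ∈ H, x ∉ H1 := by
        by_contra hcon
        push Not at hcon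
        exact hHH (le_antisymm hH1H hcon)
      refine ⟨insert x T1, ?_, ?_⟩
      · have := Finset.card_insert_le x T1
        have hp1 := hp.pos
        omega
      · set K : Subgroup G := Subgroup.closure ((insert x T1 : Finset G) : Set G) with hK
        have hKH : K ≤ H := by
          rw [hK, Subgroup.closure_le]
          intro y hy
          rw [Finset.coe_insert] at hy
          rcases hy with rfl | hy
          · exact hxH
          · exact hH1H (hcl1 ▸ Subgroup.subset_closure hy)
        have hH1K : H1 ≤ K := by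
          rw [← hcl1, hK]
          apply Subgroup.closure_mono
          rw [Finset.coe_insert]
          exact Set.subset_insert _ _
        have hxK : x ∈ K := by
          rw [hK]
          apply Subgroup.subset_closure
          rw [Finset.coe_insert]
          exact Set.mem_insert _ _
        -- orders
        have c1 : Nat.card H1 * H1.relIndex K = Nat.card K :=
          Cfsg.Agent.Lib.Helper1.card_mul_relIndex_of_le hH1K
        have c2 : Nat.card H1 * H1.relIndex H = Nat.card H :=
          Cfsg.Agent.Lib.Helper1.card_mul_relIndex_of_le hH1H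
        have c3 : H1.relIndex K * K.relIndex H = H1.relIndex H :=
          Subgroup.relIndex_mul_relIndex H1 K H hH1K hKH
        have hne1 : H1.relIndex K ≠ 1 := by
          intro h1
          have : K ≤ H1 := by
            have := Subgroup.relIndex_eq_one.mp h1
            exact this
          exact hxH1 (this hxK)
        -- `H1.relIndex K` divides `p` and is not one
        have hd : H1.relIndex K ∣ p := Dvd.dvd.trans ⟨_, c3.symm⟩ hrel1
        have hKp : H1.relIndex K = p := by
          rcases (Nat.dvd_prime hp).mp hd with h1 | h1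
          · exact absurd h1 hne1
          · exact h1
        have hHp : H1.relIndex H = p := by
          rcases (Nat.dvd_prime hp).mp hrel1 with h1 | h1
          · exfalso
            rw [h1] at c3
            exact hne1 (Nat.eq_one_of_mul_eq_one_right c3)
          · exact h1
        have hcard : Nat.card K = Nat.card H := by rw [← c1, ← c2, hKp, hHp]
        exact Subgroup.eq_of_le_of_card_ge hKH hcard.ge

end mc

end Cfsg.Agent.Lib.helper4.MCP
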