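import Mathlib
import Cfsg.Agent.Lib.helper4.WielandtFamily

set_option autoImplicit false

namespace Cfsg.Agent.Lib.helper4

open Subgroup
open Pointwise

universe u

/-- relative form of the Wielandt family lemma -/
theorem wielandt_family_rel {G : Type u} [Group G] [Finite G] (M : Subgroup G)
    (S S₀ : Set (Subgroup G))
    (hle : ∀ U ∈ S, U ≤ M) (hS : ∀ U ∈ S, (U.subgroupOf M).IsSubnormal)
    (hconj : ∀ U ∈ S, ∀ m ∈ M, MulAut.conj m • U ∈ S) (h₀ : S₀ ⊂ S) :
    ∃ X ∈ S, X ∉ S₀ ∧ X ≤ Subgroup.normalizer ((sSup S₀ : Subgroup G) : Set G) := by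
  obtain ⟨U₁, hU₁S, hU₁⟩ := Set.exists_of_ssubset h₀
  have hle₀ : ∀ U ∈ S₀, U ≤ M := fun U hU => hle U (h₀.subset hU)
  obtain ⟨X', hX'S, hX'0, hX'n⟩ := wielandt_family (G := M)
    {V : Subgroup M | V.map M.subtype ∈ S} {V : Subgroup M | V.map M.subtype ∈ S₀}
    (by
      intro V hV
      have h := hS _ hV
      rwa [Subgroup.subgroupOf, Subgroup.comap_map_eq_self_of_injective M.subtype_injective] at h)
    (by
      intro V hV g
      show (MulAut.conj g • V).map M.subtype ∈ S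
      rw [map_subtype_conj_smul]
      exact hconj _ hV _ g.2)
    (by
      rw [Set.ssubset_def]
      refine ⟨fun V hV => h₀.subset hV, fun hrev => ?_⟩
      have h1 : (U₁.subgroupOf M).map M.subtype = U₁ :=
        Subgroup.map_subgroupOf_eq_of_le (hle U₁ hU₁S)
      have h2 : U₁.subgroupOf M ∈ {V : Subgroup M | V.map M.subtype ∈ S} := by
        show (U₁.subgroupOf M).map M.subtype ∈ S
        rw [h1]; exact hU₁S
      have h3 := hrev h2
      change (U₁.subgroupOf M).map M.subtype ∈ S₀ at h3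
      rw [h1] at h3
      exact hU₁ h3)
  refine ⟨X'.map M.subtype, hX'S, hX'0, ?_⟩
  apply Cfsg.Agent.Lib.Helper20.le_normalizer_of_conj_mem'
  rintro _ ⟨k', hk', rfl⟩ y hy
  rw [← map_subtype_sSup M S₀ hle₀] at hy ⊢
  obtain ⟨y', hy', rfl⟩ := hy
  have := Cfsg.Agent.Lib.Helper20.conj_mem_of_le_normalizer' hX'n hk' hy'
  exact ⟨_, this, rfl⟩

theorem le_normalizer_sSup_of_conj_closed {G : Type*} [Group G] (M : Subgroup G)
    (T : Set (Subgroup G)) (h : ∀ U ∈ T, ∀ m ∈ M, MulAut.conj m • U ∈ T) :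
    M ≤ Subgroup.normalizer ((sSup T : Subgroup G) : Set G) := by
  apply Cfsg.Agent.Lib.Helper20.le_normalizer_of_conj_mem'
  intro m hm x hx
  have h1 := conj_smul_sSup_le T m (fun U hU => h U hU m hm)
  apply h1
  have h2 := Subgroup.smul_mem_pointwise_smul x (MulAut.conj m) (sSup T) hx
  rwa [MulAut.smul_def, MulAut.conj_apply] at h2

end Cfsg.Agent.Lib.helper4
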