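import Mathlib
import Cfsg.Agent.Lib.helper4.WielandtFamilyB
import Cfsg.Agent.Lib.Helper21.Zipper
import Cfsg.Agent.Lib.Helper1.WielandtCrit2

set_option autoImplicit false

namespace Cfsg.Agent.Lib.helper4

open Subgroup
open Pointwise

universe u

section

variable {G : Type u} [Group G]

/-- `matK Z Y g = ⟨(Z^g)^y : y ∈ Y⟩` -/
def matK (Z Y : Subgroup G) (g : G) : Subgroup G := ⨆ y ∈ Y, MulAut.conj (y * g) • Z

theorem matK_eq_sSup (Z Y : Subgroup G) (g : G) :
    matK Z Y g = sSup ((fun y => MulAut.conj (y * g) • Z) '' (Y : Set G)) := by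
  rw [sSup_image]
  rfl

theorem le_matK (Z Y : Subgroup G) (g : G) (y : G) (hy : y ∈ Y) :
    MulAut.conj (y * g) • Z ≤ matK Z Y g :=
  le_iSup₂ (f := fun (y : G) (_ : y ∈ Y) => MulAut.conj (y * g) • Z) y hy

theorem le_normalizer_matK (Z Y : Subgroup G) (g : G) :
    Y ≤ Subgroup.normalizer ((matK Z Y g : Subgroup G) : Set G) := by
  rw [matK_eq_sSup]
  apply le_normalizer_sSup_of_conj_closed
  rintro _ ⟨y, hy, rfl⟩ m hm
  refine ⟨m * y, Y.mul_mem hm hy, ?_⟩
  show MulAut.conj (m * y * g) • Z = MulAut.conj m • MulAut.conj (y * g) • Z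
  rw [← mul_smul, ← map_mul, mul_assoc]

/-- the subgroup generated by the conjugates of `Z` inside `T` -/
def matW (Z T : Subgroup G) : Subgroup G :=
  sSup {B | (∃ g : G, B = MulAut.conj g • Z) ∧ B ≤ T}

theorem matW_le (Z T : Subgroup G) : matW Z T ≤ T :=
  sSup_le fun _ hB => hB.2

theorem matW_mono (Z : Subgroup G) {T T' : Subgroup G} (h : T ≤ T') : matW Z T ≤ matW Z T' :=
  sSup_le_sSup fun _ hB => ⟨hB.1, hB.2.trans h⟩

theorem le_matW (Z T : Subgroup G) (g : G) (h : MulAut.conj g • Z ≤ T) :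
    MulAut.conj g • Z ≤ matW Z T :=
  le_sSup ⟨⟨g, rfl⟩, h⟩

theorem mem_normalizer_sup {A B : Subgroup G} {y : G}
    (hA : y ∈ Subgroup.normalizer (A : Set G)) (hB : y ∈ Subgroup.normalizer (B : Set G)) :
    y ∈ Subgroup.normalizer ((A ⊔ B : Subgroup G) : Set G) := by
  rw [← Cfsg.Agent.Lib.Helper21.conj_smul_eq_iff_mem_normalizer] at hA hB ⊢
  rw [Subgroup.smul_sup, hA, hB]

end

theorem matsuyama {G : Type u} [Group G] [Finite G] (p : ℕ) [Fact p.Prime] (Z Y : Subgroup G)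
    (h : ∀ g : G, IsPGroup p ↥(⨆ y ∈ Y, MulAut.conj (y * g) • Z)) :
    ∃ P : Sylow p G, Y ≤ Subgroup.normalizer
      ((⨆ g ∈ {g : G | MulAut.conj g • Z ≤ (P : Subgroup G)}, MulAut.conj g • Z : Subgroup G) :
        Set G) := by
  classical
  have hK : ∀ g, IsPGroup p (matK Z Y g) := h
  let 𝒯 : Set (Subgroup G) :=
    {T | IsPGroup p T ∧ Y ≤ Subgroup.normalizer (T : Set G) ∧ matW Z T = T}
  have h𝒯 : 𝒯.Nonempty := by
    refine ⟨matK Z Y 1, hK 1, le_normalizer_matK Z Y 1, le_antisymm (matW_le _ _) ?_⟩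
    refine iSup₂_le fun y hy => ?_
    exact le_matW Z _ (y * 1) (le_matK Z Y 1 y hy)
  obtain ⟨T, hT, hTmax⟩ := Set.exists_max_image 𝒯 (fun T => Nat.card T) (Set.toFinite _) h𝒯
  obtain ⟨hTp, hTY, hTW⟩ := hT
  obtain ⟨P, hTP⟩ := hTp.exists_le_sylow
  refine ⟨P, ?_⟩
  set S : Set (Subgroup G) := {B | (∃ g : G, B = MulAut.conj g • Z) ∧ B ≤ (P : Subgroup G)} with hSdef
  set S₀ : Set (Subgroup G) := {B | (∃ g : G, B = MulAut.conj g • Z) ∧ B ≤ T} with hS₀def
  have hsub : S₀ ⊆ S := fun B hB => ⟨hB.1, hB.2.trans hTP⟩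
  by_cases heq : S ⊆ S₀
  · -- the weak closure is T
    have : (⨆ g ∈ {g : G | MulAut.conj g • Z ≤ (P : Subgroup G)}, MulAut.conj g • Z : Subgroup G)
        = T := by
      apply le_antisymm
      · refine iSup₂_le fun g hg => ?_
        exact (heq ⟨⟨g, rfl⟩, hg⟩ : MulAut.conj g • Z ∈ S₀).2
      · conv_lhs => rw [← hTW]
        refine sSup_le ?_
        rintro _ ⟨⟨g, rfl⟩, hB⟩
        exact le_iSup₂ (f := fun (g : G) (_ : g ∈ {g : G | MulAut.conj g • Z ≤ (P : Subgroup G)}) =>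
          MulAut.conj g • Z) g (hB.trans hTP)
    rw [this]
    exact hTY
  · exfalso
    have hss : S₀ ⊂ S := ⟨hsub, heq⟩
    haveI : Group.IsNilpotent (P : Subgroup G) := P.2.isNilpotent
    obtain ⟨X, hXS, hXn, hXN⟩ := wielandt_family_rel (P : Subgroup G) S S₀
      (fun B hB => hB.2)
      (fun B _ => Cfsg.Agent.Lib.Helper1.isSubnormal_of_nilpotent _)
      (by
        rintro _ ⟨⟨g, rfl⟩, hB⟩ m hm
        refine ⟨⟨m * g, ?_⟩, Subgroup.conj_smul_le_of_le hB ⟨m, hm⟩⟩
        rw [map_mul, mul_smul])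
      hss
    obtain ⟨⟨g, rfl⟩, hXP⟩ := hXS
    have hXT : ¬ MulAut.conj g • Z ≤ T := fun hle => hXn ⟨⟨g, rfl⟩, hle⟩
    have hXN' : MulAut.conj g • Z ≤ Subgroup.normalizer (T : Set G) := by
      have : sSup S₀ = T := hTW
      rwa [this] at hXN
    -- K g normalizes T
    have hKN : matK Z Y g ≤ Subgroup.normalizer (T : Set G) := by
      refine iSup₂_le fun y hy => ?_
      have e : MulAut.conj (y * g) • Z = MulAut.conj y • MulAut.conj g • Z := by
        rw [map_mul, mul_smul]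
      rw [e]
      rintro _ ⟨x, hx, rfl⟩
      have hy' := hTY hy
      have hx' := hXN' hx
      show y * x * y⁻¹ ∈ Subgroup.normalizer (T : Set G)
      exact Subgroup.mul_mem _ (Subgroup.mul_mem _ hy' hx') (Subgroup.inv_mem _ hy')
    have hT' : T ⊔ matK Z Y g ∈ 𝒯 := by
      refine ⟨IsPGroup.to_sup_of_normal_left' hTp (hK g) hKN, ?_, ?_⟩
      · intro y hy
        exact mem_normalizer_sup (hTY hy) (le_normalizer_matK Z Y g hy)
      · apply le_antisymm (matW_le _ _)
        apply sup_le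
        · conv_lhs => rw [← hTW]
          exact matW_mono Z le_sup_left
        · refine iSup₂_le fun y hy => ?_
          exact le_matW Z _ (y * g) ((le_matK Z Y g y hy).trans le_sup_right)
    have hlt : T < T ⊔ matK Z Y g := by
      refine lt_of_le_of_ne le_sup_left ?_
      intro he
      apply hXT
      have h1 : MulAut.conj (1 * g) • Z ≤ matK Z Y g := le_matK Z Y g 1 Y.one_mem
      rw [one_mul] at h1
      rw [he]
      exact h1.trans le_sup_right
    have hcard : Nat.card T < Nat.card (T ⊔ matK Z Y g : Subgroup G) := by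
      by_contra hge
      exact hlt.ne (Subgroup.eq_of_le_of_card_ge hlt.le (not_lt.mp hge))
    have := hTmax _ hT'
    exact absurd hcard (not_lt.mpr this)

end Cfsg.Agent.Lib.helper4
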