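import Mathlib
import Cfsg.Agent.Lib.helper7.NPC.Defs

/-!
# Project NPC (S3875), piece A5 : `card_ge_of_action`
-/

set_option autoImplicit false
set_option linter.unusedVariables false
set_option linter.unusedSectionVars false
set_option linter.style.haveILetI false

namespace Cfsg.Agent.Lib.helper7.NPC

universe u

variable {H : Type u} [Group H] [Finite H] {p : ℕ} [Fact p.Prime]

/-- conjugation by `x` as a self-map of `S` -/
def npca5_conj (S : Subgroup H) (x : H) (hxS : ∀ s ∈ S, x * s * x⁻¹ ∈ S) : Function.End ↥S :=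
  fun s => ⟨x * (s : H) * x⁻¹, hxS _ s.2⟩

theorem npca5_conj_pow (S : Subgroup H) (x : H) (hxS : ∀ s ∈ S, x * s * x⁻¹ ∈ S) (n : ℕ) (s : ↥S) :
    (((npca5_conj S x hxS) ^ n) s : H) = x ^ n * (s : H) * (x ^ n)⁻¹ := by
  induction n generalizing s with
  | zero =>
    rw [pow_zero]
    show (s : H) = _
    simp
  | succ n ih =>
    rw [pow_succ']
    show x * ((((npca5_conj S x hxS) ^ n) s : ↥S) : H) * x⁻¹ = _
    rw [ih]
    simp only [pow_succ', mul_inv_rev]
    group

/-- A5 : an `r`-group `S` with a non-trivial automorphism of order `p ≠ r` has order at least `r ^ k` for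
some `k ≥ 1` with `r ^ k ≡ 1 mod p` (`|S| = r^a`, `|C_S(x)| = r^b`, `b < a`, `r^a ≡ r^b mod p`, `k = a - b`). -/
theorem card_ge_of_action (r : ℕ) (hr : r.Prime) (hrp : r ≠ p) (S : Subgroup H) (hS : IsPGroup r ↥S)
    (x : H) (hx : orderOf x = p) (hxS : ∀ s ∈ S, x * s * x⁻¹ ∈ S) (hxc : ∃ s ∈ S, x * s ≠ s * x) :
    ∃ k : ℕ, 0 < k ∧ r ^ k % p = 1 ∧ r ^ k ≤ Nat.card ↥S := by
  have hp : p.Prime := Fact.out
  have : Fact r.Prime := ⟨hr⟩
  letI : Fintype ↥S := Fintype.ofFinite _
  letI : DecidableEq ↥S := Classical.decEq _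
  set f : Function.End ↥S := npca5_conj S x hxS with hf
  have hfp : f ^ p ^ 1 = 1 := by
    funext s
    apply Subtype.ext
    rw [pow_one, npca5_conj_pow, ← hx, pow_orderOf_eq_one]
    show _ = (s : H)
    simp
  have hmod := Equiv.Perm.card_fixedPoints_modEq (p := p) (n := 1) hfp
  -- the centralizer of `x` in `S`
  set K : Subgroup H := S ⊓ Subgroup.centralizer {x} with hK
  have hKS : K ≤ S := inf_le_left
  have hfix : Nat.card (Function.fixedPoints f) = Nat.card ↥K := by
    apply Nat.card_congr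
    refine
      { toFun := fun s => ⟨(s.1 : H), ⟨s.1.2, ?_⟩⟩
        invFun := fun k => ⟨⟨(k : H), hKS k.2⟩, ?_⟩
        left_inv := fun s => rfl
        right_inv := fun k => rfl }
    · show (s.1 : H) ∈ Subgroup.centralizer {x}
      rw [Subgroup.mem_centralizer_iff]
      intro y hy
      rw [Set.mem_singleton_iff] at hy
      rw [hy]
      have h1 : f s.1 = s.1 := s.2
      have h2 : x * (s.1 : H) * x⁻¹ = (s.1 : H) := congrArg Subtype.val h1
      calc x * (s.1 : H) = (x * (s.1 : H) * x⁻¹) * x := by group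
        _ = (s.1 : H) * x := by rw [h2]
    · show f ⟨(k : H), hKS k.2⟩ = ⟨(k : H), hKS k.2⟩
      apply Subtype.ext
      show x * (k : H) * x⁻¹ = (k : H)
      have h1 : (k : H) ∈ Subgroup.centralizer {x} := k.2.2
      rw [Subgroup.mem_centralizer_iff] at h1
      have h2 := h1 x (Set.mem_singleton x)
      calc x * (k : H) * x⁻¹ = (k : H) * x * x⁻¹ := by rw [h2]
        _ = (k : H) := by group
  rw [Fintype.card_eq_nat_card, Fintype.card_eq_nat_card, hfix] at hmod
  obtain ⟨a, ha⟩ := hS.exists_card_eq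
  have hKp : IsPGroup r ↥K := hS.to_le hKS
  obtain ⟨b, hb⟩ := hKp.exists_card_eq
  have hdvd : Nat.card ↥K ∣ Nat.card ↥S := Subgroup.card_dvd_of_le hKS
  rw [ha, hb] at hdvd
  have hba : b ≤ a := (Nat.pow_dvd_pow_iff_le_right hr.one_lt).mp hdvd
  have hne : b ≠ a := by
    intro hEq
    have hcard : Nat.card ↥S ≤ Nat.card ↥K := by rw [ha, hb, hEq]
    have hEqK : K = S := Subgroup.eq_of_le_of_card_ge hKS hcard
    obtain ⟨s, hs, hsx⟩ := hxc
    have hsK : s ∈ K := hEqK ▸ hs
    have h1 : s ∈ Subgroup.centralizer {x} := hsK.2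
    rw [Subgroup.mem_centralizer_iff] at h1
    exact hsx (h1 x (Set.mem_singleton x))
  have hlt : b < a := lt_of_le_of_ne hba hne
  refine ⟨a - b, Nat.sub_pos_of_lt hlt, ?_, ?_⟩
  · rw [ha, hb] at hmod
    have hcop : Nat.Coprime p (r ^ b) := by
      apply Nat.Coprime.pow_right
      exact (Nat.coprime_primes hp hr).mpr (Ne.symm hrp)
    have h3 : r ^ b * r ^ (a - b) ≡ r ^ b * 1 [MOD p] := by
      rw [← pow_add, Nat.add_sub_cancel' hba, mul_one]
      exact hmod
    have h4 : r ^ (a - b) ≡ 1 [MOD p] := Nat.ModEq.cancel_left_of_coprime hcop h3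
    have h5 : r ^ (a - b) % p = 1 % p := h4
    rw [h5, Nat.mod_eq_of_lt hp.one_lt]
  · rw [ha]
    exact Nat.pow_le_pow_right hr.pos (Nat.sub_le a b)

end Cfsg.Agent.Lib.helper7.NPC
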