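import Mathlib
import Cfsg.Agent.Lib.helper7.NPC.Defs

/-!
# Project NPC (S3875), piece W1 : `witness_affine`
-/

set_option autoImplicit false
set_option linter.unusedVariables false
set_option linter.unusedSectionVars false
set_option linter.style.haveILetI false

namespace Cfsg.Agent.Lib.helper7.NPC

universe u

variable {H : Type u} [Group H] [Finite H] {p : ℕ} [Fact p.Prime]

/-- a subgroup `μ` of `Fˣ` acting on the additive group of `F` by multiplication -/
def npcw1_phi (F : Type) [Field F] (μ : Subgroup Fˣ) : ↥μ →* MulAut (Multiplicative F) where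
  toFun a :=
    { toFun := fun x => Multiplicative.ofAdd ((((a : Fˣ) : F)) * Multiplicative.toAdd x)
      invFun := fun x => Multiplicative.ofAdd (((((a : Fˣ)⁻¹ : Fˣ) : F)) * Multiplicative.toAdd x)
      left_inv := fun x => by simp
      right_inv := fun x => by simp
      map_mul' := fun x y => by simp [mul_add] }
  map_one' := by
    ext x
    simp
  map_mul' := fun a b => by
    ext x
    simp [mul_assoc]

theorem npcw1_phi_apply (F : Type) [Field F] (μ : Subgroup Fˣ) (a : ↥μ) (x : Multiplicative F) :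
    npcw1_phi F μ a x = Multiplicative.ofAdd ((((a : Fˣ) : F)) * Multiplicative.toAdd x) := rfl

theorem npcw1_not_normal (F : Type) [Field F] (μ : Subgroup Fˣ) (ζ : Fˣ) (hζμ : ζ ∈ μ) (hζ1 : ζ ≠ 1) :
    ¬ ((SemidirectProduct.inr : ↥μ →* Multiplicative F ⋊[npcw1_phi F μ] ↥μ).range).Normal := by
  intro hn
  have hmem := hn.conj_mem _ ⟨⟨ζ, hζμ⟩, rfl⟩
    (SemidirectProduct.inl (Multiplicative.ofAdd (1 : F)) : Multiplicative F ⋊[npcw1_phi F μ] ↥μ)
  obtain ⟨b, hb⟩ := hmem
  have hleft : (1 : Multiplicative F) =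
      Multiplicative.ofAdd (1 : F) *
        npcw1_phi F μ ⟨ζ, hζμ⟩ (Multiplicative.ofAdd (1 : F))⁻¹ := by
    have h := congrArg SemidirectProduct.left hb
    simpa using h
  rw [npcw1_phi_apply] at hleft
  have h2 : (0 : F) = 1 + (ζ : F) * (-1) := by
    have h3 := congrArg Multiplicative.toAdd hleft
    simpa using h3
  have h4 : ((ζ : Fˣ) : F) = 1 := by
    linear_combination h2
  exact hζ1 (Units.ext h4)

theorem npcw1_field (F : Type) [Field F] [Finite F] (hpF : p ∣ Nat.card F - 1) :
    ∃ (K : Type) (_ : Group K) (_ : Finite K), Nat.card K = p * Nat.card F ∧ ¬ Cfsg.IsPClosed p K := by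
  have hp : p.Prime := Fact.out
  have hcu : Nat.card Fˣ = Nat.card F - 1 := Nat.card_units F
  obtain ⟨ζ, hζ⟩ := exists_prime_orderOf_dvd_card' (G := Fˣ) p (by rw [hcu]; exact hpF)
  set μ : Subgroup Fˣ := Subgroup.zpowers ζ with hμ
  have hcμ : Nat.card ↥μ = p := by rw [hμ, Nat.card_zpowers, hζ]
  have hF2 : 2 ≤ Nat.card F := Finite.one_lt_card
  have hpndvd : ¬ p ∣ Nat.card F := by
    intro h
    have h1 : p ∣ Nat.card F - (Nat.card F - 1) := Nat.dvd_sub h hpF
    have h2 : Nat.card F - (Nat.card F - 1) = 1 := by omega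
    rw [h2] at h1
    exact hp.one_lt.ne' (Nat.dvd_one.mp h1)
  refine ⟨Multiplicative F ⋊[npcw1_phi F μ] ↥μ, inferInstance,
    Finite.of_equiv _ SemidirectProduct.equivProd.symm, ?_, ?_⟩
  · rw [SemidirectProduct.card, hcμ, mul_comm]
    rfl
  · intro hcl
    set K := Multiplicative F ⋊[npcw1_phi F μ] ↥μ with hKdef
    haveI : Finite K := Finite.of_equiv _ SemidirectProduct.equivProd.symm
    set Q : Subgroup K := (SemidirectProduct.inr : ↥μ →* K).range with hQ
    have hcQ : Nat.card ↥Q = p := by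
      rw [← hcμ]
      exact (Nat.card_congr (MonoidHom.ofInjective SemidirectProduct.inr_injective).toEquiv).symm
    have hcK : Nat.card K = Nat.card F * p := by
      rw [SemidirectProduct.card, hcμ]
      rfl
    have hfac : (Nat.card K).factorization p = 1 := by
      rw [hcK, Nat.factorization_mul (by omega) hp.ne_zero]
      simp [hp.factorization_self, Nat.factorization_eq_zero_of_not_dvd hpndvd]
    have hQcard : Nat.card ↥Q = p ^ (Nat.card K).factorization p := by rw [hfac, pow_one, hcQ]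
    have hn : ((Sylow.ofCard Q hQcard : Sylow p K) : Subgroup K).Normal := hcl _
    rw [Sylow.coe_ofCard] at hn
    refine npcw1_not_normal F μ ζ (Subgroup.mem_zpowers ζ) ?_ hn
    intro h5
    rw [h5, orderOf_one] at hζ
    exact hp.one_lt.ne' hζ.symm

/-- W1 : a non-`p`-closed group of order `p m` for a prime power `m ≡ 1 mod p`
(`F = GaloisField r k`, `m = r^k`, `μ ≤ Fˣ` of order `p`, `SemidirectProduct (Multiplicative F) μ`:
the complement `μ` is a Sylow `p`-subgroup and is not normal). -/
theorem witness_affine (m : ℕ) (hm : IsPrimePow m) (hm1 : m % p = 1) :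
    ∃ (K : Type) (_ : Group K) (_ : Finite K), Nat.card K = p * m ∧ ¬ Cfsg.IsPClosed p K := by
  obtain ⟨r, k, hr, hk, rfl⟩ := (isPrimePow_nat_iff _).mp hm
  haveI : Fact r.Prime := ⟨hr⟩
  have hF : Nat.card (GaloisField r k) = r ^ k := GaloisField.card r k hk.ne'
  have hdvd : p ∣ Nat.card (GaloisField r k) - 1 := by
    rw [hF]
    exact (Nat.modEq_iff_dvd' (Nat.one_le_pow _ _ hr.pos)).mp
      (show 1 ≡ r ^ k [MOD p] from by
        unfold Nat.ModEq
        rw [hm1, Nat.mod_eq_of_lt (Fact.out : p.Prime).one_lt])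
  obtain ⟨K, hG, hfin, hc, hncl⟩ := npcw1_field (p := p) (GaloisField r k) hdvd
  exact ⟨K, hG, hfin, by rw [hc, hF], hncl⟩

end Cfsg.Agent.Lib.helper7.NPC
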