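import Mathlib
import Cfsg.Agent.Lib.Helper16.O7F.Defs

set_option autoImplicit false

/-! Project O7F (helper16, S2647), piece F1 (helper4), part a: kernel-decided finite checks for `D8 ≤ A_7`. -/

namespace Cfsg.Agent.Lib.helper4.O7F

open Equiv Matrix Cfsg.Agent.Lib.Helper5.OSyl
open Cfsg.Agent.Lib.Helper16.O7F

set_option maxRecDepth 1000000 in
theorem DL_mul : ∀ a ∈ DL, ∀ b ∈ DL, a * b ∈ DL := by decide +kernel

set_option maxRecDepth 1000000 in
theorem DL_inv : ∀ a ∈ DL, a⁻¹ ∈ DL := by decide +kernel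

set_option maxRecDepth 1000000 in
theorem DL_sign : ∀ a ∈ DL, Perm.sign a = 1 := by decide +kernel

set_option maxRecDepth 1000000 in
theorem DL_nodup : DL.Nodup := by decide +kernel

set_option maxRecDepth 1000000 in
set_option maxHeartbeats 4000000 in
theorem norm_D8_aux : ∀ σ : Perm (Fin 7), Perm.sign σ = 1 → σ * pa * σ⁻¹ ∈ DL → σ * pb * σ⁻¹ ∈ DL →
    σ ∈ DL := by decide +kernel

set_option maxRecDepth 1000000 in
theorem pb_sq : pb * pb = 1 := by decide +kernel

set_option maxRecDepth 1000000 in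
theorem conj_pb : ∃ τ : Perm (Fin 7), Perm.sign τ = 1 ∧ τ * pb * τ⁻¹ = pa * pb := by
  refine ⟨⟨![0, 3, 4, 5, 1, 2, 6], ![0, 4, 5, 1, 2, 3, 6], by decide, by decide⟩, ?_, ?_⟩
  · decide +kernel
  · decide +kernel

end Cfsg.Agent.Lib.helper4.O7F
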