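import Mathlib
import Cfsg.Agent.Lib.Helper16.O7F.Defs
import Cfsg.Agent.Lib.helper4.O7FF1a

set_option autoImplicit false

/-! Project O7F (helper16, S2647), piece F1 (helper4): the dihedral group `D8 ≤ A_7`, finite checks. -/

namespace Cfsg.Agent.Lib.helper4.O7F

open Equiv Matrix Cfsg.Agent.Lib.Helper5.OSyl
open Cfsg.Agent.Lib.Helper16.O7F

theorem pa_mem_D8 : pa ∈ D8 := Subgroup.subset_closure (by simp)

theorem pb_mem_D8 : pb ∈ D8 := Subgroup.subset_closure (by simp)

theorem mem_D8_iff (σ : Perm (Fin 7)) : σ ∈ D8 ↔ σ ∈ DL := by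
  constructor
  · intro h
    unfold D8 at h
    induction h using Subgroup.closure_induction with
    | mem x hx =>
      rcases hx with rfl | rfl
      · simp [DL]
      · simp [DL]
    | one => simp [DL]
    | mul x y _ _ hx hy => exact DL_mul x hx y hy
    | inv x _ hx => exact DL_inv x hx
  · intro h
    have ha := pa_mem_D8
    have hb := pb_mem_D8
    simp only [DL, List.mem_cons, List.not_mem_nil, or_false] at h
    rcases h with rfl | rfl | rfl | rfl | rfl | rfl | rfl | rfl
    · exact D8.one_mem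
    · exact ha
    · exact D8.mul_mem ha ha
    · exact D8.mul_mem (D8.mul_mem ha ha) ha
    · exact hb
    · exact D8.mul_mem ha hb
    · exact D8.mul_mem (D8.mul_mem ha ha) hb
    · exact D8.mul_mem (D8.mul_mem (D8.mul_mem ha ha) ha) hb

theorem D8_le_alt : ∀ σ ∈ D8, Perm.sign σ = 1 := by
  intro σ hσ
  exact DL_sign σ ((mem_D8_iff σ).1 hσ)

theorem card_D8 : Nat.card D8 = 8 := by
  have h : (D8 : Set (Perm (Fin 7))) = (DL.toFinset : Set (Perm (Fin 7))) := by
    ext σ
    rw [SetLike.mem_coe, mem_D8_iff, Finset.mem_coe, List.mem_toFinset]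
  have h2 : Nat.card D8 = (D8 : Set (Perm (Fin 7))).ncard := rfl
  rw [h2, h, Set.ncard_coe_finset, List.toFinset_card_of_nodup DL_nodup]
  rfl

/-- `D8` is self-normalizing in `A_7` -/
theorem norm_D8 : ∀ σ : Perm (Fin 7), Perm.sign σ = 1 → (∀ d ∈ D8, σ * d * σ⁻¹ ∈ D8) → σ ∈ D8 := by
  intro σ hs h
  rw [mem_D8_iff]
  apply norm_D8_aux σ hs
  · rw [← mem_D8_iff]; exact h _ pa_mem_D8
  · rw [← mem_D8_iff]; exact h _ pb_mem_D8

theorem D8_le_closure : D8 ≤ Subgroup.closure {pb, pa * pb} := by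
  unfold D8
  rw [Subgroup.closure_le]
  intro x hx
  have hb : pb ∈ Subgroup.closure ({pb, pa * pb} : Set (Perm (Fin 7))) :=
    Subgroup.subset_closure (by simp)
  have hab : pa * pb ∈ Subgroup.closure ({pb, pa * pb} : Set (Perm (Fin 7))) :=
    Subgroup.subset_closure (by simp)
  rcases hx with rfl | rfl
  · have hpa : pa = (pa * pb) * pb := by rw [mul_assoc, pb_sq, mul_one]
    have hm := Subgroup.mul_mem _ hab hb
    rw [← hpa] at hm
    exact hm
  · exact hb

theorem exists_two_outside : ∀ a b : Fin 7, ∃ c d : Fin 7, c ≠ d ∧ c ≠ a ∧ c ≠ b ∧ d ≠ a ∧ d ≠ b := by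
  decide

/-- `A_7` is transitive on ordered pairs of distinct points -/
theorem exists_even_map (a b i j : Fin 7) (hab : a ≠ b) (hij : i ≠ j) :
    ∃ τ : Perm (Fin 7), Perm.sign τ = 1 ∧ τ a = i ∧ τ b = j := by
  set b' := swap a i b with hb'
  have hb'i : b' ≠ i := by
    intro h
    have : swap a i b = swap a i a := by rw [← hb', h, swap_apply_left]
    exact hab ((swap a i).injective this).symm
  let τ₀ : Perm (Fin 7) := swap b' j * swap a i
  have h1 : τ₀ a = i := by
    change swap b' j (swap a i a) = i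
    rw [swap_apply_left, swap_apply_of_ne_of_ne hb'i.symm hij]
  have h2 : τ₀ b = j := by
    change swap b' j (swap a i b) = j
    rw [← hb', swap_apply_left]
  rcases Int.units_eq_one_or (Perm.sign τ₀) with hs | hs
  · exact ⟨τ₀, hs, h1, h2⟩
  · obtain ⟨c, d, hcd, hca, hcb, hda, hdb⟩ := exists_two_outside a b
    refine ⟨τ₀ * swap c d, ?_, ?_, ?_⟩
    · rw [Perm.sign_mul, hs, Perm.sign_swap hcd]; rfl
    · rw [Perm.mul_apply, swap_apply_of_ne_of_ne hca.symm hda.symm, h1]
    · rw [Perm.mul_apply, swap_apply_of_ne_of_ne hcb.symm hdb.symm, h2]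

end Cfsg.Agent.Lib.helper4.O7F
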