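import Mathlib
import Cfsg.Agent.Lib.Helper16.O7F.Defs

set_option autoImplicit false

/-! Project O7F (helper16, S2647), piece F2 (helper4), part a: kernel-decided finite checks in `SP`. -/

namespace Cfsg.Agent.Lib.helper4.O7F

open Equiv Matrix Cfsg.Agent.Lib.Helper5.OSyl
open Cfsg.Agent.Lib.Helper16.O7F

/-- an even sign vector as a product of double sign changes `eps2 i 6` -/
def eDec (ε : Fin 7 → ℤˣ) : List SP :=
  (List.finRange 6).map fun i => if ε i.castSucc = -1 then dg (eps2 i.castSucc 6) else 1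

/-- sign from a Boolean -/
def sgnB (b : Bool) : ℤˣ := if b then -1 else 1

/-- sign vector from seven Booleans -/
def svB (b0 b1 b2 b3 b4 b5 b6 : Bool) : Fin 7 → ℤˣ :=
  ![sgnB b0, sgnB b1, sgnB b2, sgnB b3, sgnB b4, sgnB b5, sgnB b6]

set_option maxRecDepth 1000000 in
set_option maxHeartbeats 4000000 in
theorem eDec_prod_B : ∀ b0 b1 b2 b3 b4 b5 b6 : Bool, ∏ i, svB b0 b1 b2 b3 b4 b5 b6 i = 1 →
    (eDec (svB b0 b1 b2 b3 b4 b5 b6)).prod.left = svB b0 b1 b2 b3 b4 b5 b6 ∧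
    (eDec (svB b0 b1 b2 b3 b4 b5 b6)).prod.right = 1 := by decide +kernel

set_option maxRecDepth 1000000 in
theorem eps2_prod : ∀ i j : Fin 7, i ≠ j → ∏ k, eps2 i j k = 1 := by decide +kernel

theorem exists_two_outside4 : ∀ a b c d : Fin 7, ∃ e f : Fin 7, e ≠ f ∧ a ≠ e ∧ a ≠ f ∧ b ≠ e ∧ b ≠ f ∧
    c ≠ e ∧ c ≠ f ∧ d ≠ e ∧ d ≠ f := by decide

end Cfsg.Agent.Lib.helper4.O7F
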