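import Mathlib
import Cfsg.Agent.Lib.Helper16.O7F.Defs
import Cfsg.Agent.Lib.helper4.O7FF1
import Cfsg.Agent.Lib.helper4.O7FF2a

set_option autoImplicit false

/-! Project O7F (helper16, S2647), piece F2 (helper4): generation and orders in `SP`. -/

namespace Cfsg.Agent.Lib.helper4.O7F

open Equiv Matrix Cfsg.Agent.Lib.Helper5.OSyl
open Cfsg.Agent.Lib.Helper16.O7F

theorem dg_eq_inl (ε : Fin 7 → ℤˣ) : dg ε = SemidirectProduct.inl ε := rfl

theorem pm_eq_inr (σ : Perm (Fin 7)) : pm σ = SemidirectProduct.inr σ := rfl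

theorem eq_dg_mul_pm (x : SP) : x = dg x.left * pm x.right := by
  rw [dg_eq_inl, pm_eq_inr, SemidirectProduct.inl_left_mul_inr_right]

theorem sq_signs (ε : Fin 7 → ℤˣ) : ε * ε = 1 := by
  funext k
  rw [Pi.mul_apply, Pi.one_apply, Int.units_mul_self]

theorem swap_swap_sq (i j k l : Fin 7) (hij : i ≠ j) (hkl : k ≠ l) (hik : i ≠ k) (hil : i ≠ l)
    (hjk : j ≠ k) (hjl : j ≠ l) :
    (swap i j * swap k l) * (swap i j * swap k l) = 1 := by
  have hd : Perm.Disjoint (swap i j) (swap k l) := by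
    apply Perm.disjoint_swap_swap
    simp [hij, hkl, hik, hil, hjk, hjl]
  have hc : swap i j * swap k l = swap k l * swap i j := hd.commute.eq
  calc (swap i j * swap k l) * (swap i j * swap k l)
      = (swap i j * swap k l) * (swap k l * swap i j) := by rw [← hc]
    _ = swap i j * (swap k l * swap k l) * swap i j := by simp only [mul_assoc]
    _ = 1 := by rw [Equiv.swap_mul_self, mul_one, Equiv.swap_mul_self]

theorem Gen_sq : ∀ y ∈ Gen, y * y = 1 := by
  rintro y (⟨i, j, _, rfl⟩ | ⟨i, j, k, l, hij, hkl, hik, hil, hjk, hjl, rfl⟩)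
  · rw [dg_eq_inl, ← map_mul, sq_signs, map_one]
  · rw [pm_eq_inr, ← map_mul, swap_swap_sq i j k l hij hkl hik hil hjk hjl, map_one]

theorem Gen_le_N0' : Gen ⊆ (N0' : Set SP) := by
  rintro y (⟨i, j, hij, rfl⟩ | ⟨i, j, k, l, hij, hkl, hik, hil, hjk, hjl, rfl⟩)
  · rw [SetLike.mem_coe, mem_N0']
    refine ⟨?_, ?_⟩
    · change Perm.sign (1 : Perm (Fin 7)) = 1
      exact Perm.sign_one
    · exact eps2_prod i j hij
  · rw [SetLike.mem_coe, mem_N0']
    refine ⟨?_, ?_⟩
    · change Perm.sign (swap i j * swap k l) = 1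
      rw [Perm.sign_mul, Perm.sign_swap hij, Perm.sign_swap hkl]; rfl
    · change ∏ i : Fin 7, (1 : Fin 7 → ℤˣ) i = 1
      simp

theorem sgnB_decide (u : ℤˣ) : sgnB (decide (u = -1)) = u := by
  rcases Int.units_eq_one_or u with h | h
  · subst h; rfl
  · subst h; rfl

theorem svB_eq (ε : Fin 7 → ℤˣ) :
    svB (decide (ε 0 = -1)) (decide (ε 1 = -1)) (decide (ε 2 = -1)) (decide (ε 3 = -1))
      (decide (ε 4 = -1)) (decide (ε 5 = -1)) (decide (ε 6 = -1)) = ε := by
  funext i
  unfold svB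
  fin_cases i <;> simp [sgnB_decide]

theorem eDec_prod (ε : Fin 7 → ℤˣ) (h : ∏ i, ε i = 1) : (eDec ε).prod = dg ε := by
  have := eDec_prod_B (decide (ε 0 = -1)) (decide (ε 1 = -1)) (decide (ε 2 = -1)) (decide (ε 3 = -1))
      (decide (ε 4 = -1)) (decide (ε 5 = -1)) (decide (ε 6 = -1))
  rw [svB_eq] at this
  obtain ⟨h1, h2⟩ := this h
  exact SemidirectProduct.ext h1 h2

theorem dg_mem_closure (ε : Fin 7 → ℤˣ) (h : ∏ i, ε i = 1) :
    dg ε ∈ Subgroup.closure {x : SP | ∃ i j : Fin 7, i ≠ j ∧ x = dg (eps2 i j)} := by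
  rw [← eDec_prod ε h]
  apply Subgroup.list_prod_mem
  intro x hx
  unfold eDec at hx
  rw [List.mem_map] at hx
  obtain ⟨i, -, rfl⟩ := hx
  split_ifs
  · apply Subgroup.subset_closure
    refine ⟨i.castSucc, 6, ?_, rfl⟩
    intro h6
    have := congrArg Fin.val h6
    simp at this
    omega
  · exact Subgroup.one_mem _

theorem E0'_le_closure :
    E0' ≤ Subgroup.closure {x : SP | ∃ i j : Fin 7, i ≠ j ∧ x = dg (eps2 i j)} := by
  intro x hx
  rw [mem_E0'] at hx
  have hx' : x = dg x.left := by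
    apply SemidirectProduct.ext
    · rfl
    · exact hx.1
  rw [hx']
  exact dg_mem_closure x.left hx.2

theorem dg_mem_closure_Gen (ε : Fin 7 → ℤˣ) (h : ∏ i, ε i = 1) : dg ε ∈ Subgroup.closure Gen := by
  have h1 := dg_mem_closure ε h
  have h2 : {x : SP | ∃ i j : Fin 7, i ≠ j ∧ x = dg (eps2 i j)} ⊆ Gen := by
    rintro x ⟨i, j, hij, rfl⟩
    exact Or.inl ⟨i, j, hij, rfl⟩
  exact Subgroup.closure_mono h2 h1

theorem pm_swap_swap_mem (a b c d : Fin 7) (hab : a ≠ b) (hcd : c ≠ d) :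
    pm (swap a b * swap c d) ∈ Subgroup.closure Gen := by
  obtain ⟨e, f, hef, hae, haf, hbe, hbf, hce, hcf, hde, hdf⟩ := exists_two_outside4 a b c d
  have h : swap a b * swap c d = (swap a b * swap e f) * (swap e f * swap c d) := by
    rw [mul_assoc, ← mul_assoc (swap e f), Equiv.swap_mul_self, one_mul]
  rw [h, pm_eq_inr, map_mul]
  apply Subgroup.mul_mem
  · apply Subgroup.subset_closure
    exact Or.inr ⟨a, b, e, f, hab, hef, hae, haf, hbe, hbf, rfl⟩
  · apply Subgroup.subset_closure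
    exact Or.inr ⟨e, f, c, d, hef, hcd, hce.symm, hde.symm, hcf.symm, hdf.symm, rfl⟩

theorem pm_mem_closure_Gen (σ : Perm (Fin 7)) (hσ : Perm.sign σ = 1) :
    pm σ ∈ Subgroup.closure Gen := by
  have hσ' : σ ∈ alternatingGroup (Fin 7) := Perm.mem_alternatingGroup.2 hσ
  suffices hind : ∀ (n : ℕ) (l : List (Perm (Fin 7))) (_ : ∀ g, g ∈ l → Perm.IsSwap g)
      (_ : l.length = 2 * n), pm l.prod ∈ Subgroup.closure Gen by
    obtain ⟨l, rfl, hl⟩ := Perm.truncSwapFactors σ
    obtain ⟨n, hn⟩ := (Perm.prod_list_swap_mem_alternatingGroup_iff_even_length hl).1 hσ'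
    rw [← two_mul] at hn
    exact hind n l hl hn
  intro n
  induction n with
  | zero =>
    intro l _ hn
    rw [List.length_eq_zero_iff.1 hn, List.prod_nil]
    exact Subgroup.one_mem _
  | succ n ih =>
    intro l hl hn
    rw [Nat.mul_succ] at hn
    obtain ⟨a, l, rfl⟩ := l.exists_of_length_succ hn
    rw [List.length_cons, Nat.succ_inj] at hn
    obtain ⟨b, l, rfl⟩ := l.exists_of_length_succ hn
    rw [List.length_cons, Nat.succ_inj] at hn
    rw [List.prod_cons, List.prod_cons, ← mul_assoc, pm_eq_inr, map_mul]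
    apply Subgroup.mul_mem
    · obtain ⟨x, y, hxy, rfl⟩ := hl a (by simp)
      obtain ⟨z, w, hzw, rfl⟩ := hl b (by simp)
      exact pm_swap_swap_mem x y z w hxy hzw
    · apply ih l _ hn
      intro g hg
      exact hl g (by simp [hg])

theorem N0'_le_closure : N0' ≤ Subgroup.closure Gen := by
  intro x hx
  rw [mem_N0'] at hx
  rw [eq_dg_mul_pm x]
  exact Subgroup.mul_mem _ (dg_mem_closure_Gen _ hx.2) (pm_mem_closure_Gen _ hx.1)

theorem P0'_le_closure :
    P0' ≤ Subgroup.closure ((E0' : Set SP) ∪ {pm pb, pm (pa * pb)}) := by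
  intro x hx
  rw [mem_P0'] at hx
  rw [eq_dg_mul_pm x]
  apply Subgroup.mul_mem
  · apply Subgroup.subset_closure
    left
    rw [SetLike.mem_coe, mem_E0']
    exact ⟨rfl, hx.2⟩
  · have h1 := D8_le_closure hx.1
    have h2 : pm x.right ∈ (Subgroup.closure ({pb, pa * pb} : Set (Perm (Fin 7)))).map
        (SemidirectProduct.inr : Perm (Fin 7) →* SP) := ⟨x.right, h1, rfl⟩
    rw [MonoidHom.map_closure] at h2
    refine Subgroup.closure_mono ?_ h2
    rintro y ⟨σ, hσ, rfl⟩
    right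
    rcases hσ with rfl | rfl
    · left; rfl
    · right; rfl

/-- a homomorphism onto `{±1}` has a kernel of index two -/
theorem card_ker_mul_two {G : Type*} [Group G] (f : G →* ℤˣ) (h : ∃ g, f g = -1) :
    Nat.card f.ker * 2 = Nat.card G := by
  have hs : Function.Surjective f := by
    intro u
    rcases Int.units_eq_one_or u with rfl | rfl
    · exact ⟨1, map_one f⟩
    · exact h
  have h1 := Subgroup.card_mul_index f.ker
  rw [Subgroup.index_ker, MonoidHom.range_eq_top.2 hs] at h1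
  have h2 : Nat.card (⊤ : Subgroup ℤˣ) = 2 := by
    rw [Subgroup.card_top, Nat.card_eq_fintype_card, Fintype.card_units_int]
  rw [← h1, h2]

theorem card_signs : Nat.card (Fin 7 → ℤˣ) = 128 := by
  rw [Nat.card_eq_fintype_card, Fintype.card_pi]
  simp

/-- the product of the signs as a homomorphism on sign vectors -/
def prodSigns : (Fin 7 → ℤˣ) →* ℤˣ where
  toFun ε := ∏ i, ε i
  map_one' := by simp
  map_mul' ε δ := by simp [Finset.prod_mul_distrib]

theorem card_even_signs : Nat.card {ε : Fin 7 → ℤˣ // ∏ i, ε i = 1} = 64 := by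
  have h := card_ker_mul_two prodSigns ⟨Function.update 1 0 (-1), by
    change ∏ i, (Function.update (1 : Fin 7 → ℤˣ) 0 (-1)) i = -1
    rw [Fin.prod_univ_succ]
    simp [Function.update]⟩
  rw [card_signs] at h
  have h2 : Nat.card prodSigns.ker = Nat.card {ε : Fin 7 → ℤˣ // ∏ i, ε i = 1} := by
    apply Nat.card_congr
    exact Equiv.subtypeEquivRight (fun ε => MonoidHom.mem_ker)
  omega

/-- `P0'` as a set is the product of the even sign vectors and `D8` -/
def P0'Equiv : ↥P0' ≃ {ε : Fin 7 → ℤˣ // ∏ i, ε i = 1} × ↥D8 where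
  toFun x := (⟨x.1.left, ((mem_P0' x.1).1 x.2).2⟩, ⟨x.1.right, ((mem_P0' x.1).1 x.2).1⟩)
  invFun p := ⟨⟨p.1.1, p.2.1⟩, (mem_P0' _).2 ⟨p.2.2, p.1.2⟩⟩
  left_inv _ := rfl
  right_inv _ := rfl

theorem card_P0' : Nat.card P0' = 2 ^ 9 := by
  rw [Nat.card_congr P0'Equiv, Nat.card_prod, card_even_signs, card_D8]
  norm_num

theorem card_SP : Nat.card SP = 128 * 5040 := by
  rw [SemidirectProduct.card, card_signs, Nat.card_eq_fintype_card, Fintype.card_perm]
  rfl

theorem card_SO' : Nat.card SO' = 2 ^ 10 * 315 := by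
  have h := card_ker_mul_two (signHom * prodHom) ⟨dg (Function.update 1 0 (-1)), by
    rw [MonoidHom.mul_apply, signHom_apply, prodHom_apply]
    change Perm.sign (1 : Perm (Fin 7)) * ∏ i, (Function.update (1 : Fin 7 → ℤˣ) 0 (-1)) i = -1
    rw [Perm.sign_one, one_mul, Fin.prod_univ_succ]
    simp [Function.update]⟩
  rw [card_SP] at h
  change Nat.card SO' * 2 = 128 * 5040 at h
  omega

end Cfsg.Agent.Lib.helper4.O7F
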