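import Mathlib
import Cfsg.Agent.Lib.Helper18.ONE.Defs

/-!
# Project ONE, row UNIPEX, part (a): the nilpotent map `N` of the explicit unipotent element.

Coordinates `c = v e₀`, `a j = v (e_j)`, `b j = v (f_j)`, `Q v = c² + Σ a_j b_j`.  With `ε j = 1, -1, 0` for
`j <, >, = rev j` (`rev j = d - 1 - j`), `τ ∈ {0, 1}`, `j₀` an index:
`(N v) e₀ = τ b_{j₀}`, `(N v) (e_j) = ε_j b_{rev j} + [j = j₀] τ (-2 c - b_{j₀})`, `(N v) (f_j) = 0`.
`1 + N` is an isometry of `Q` (for any `j₀`, `τ² = τ`), `N³ = 0`.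
-/

set_option autoImplicit false
set_option linter.unusedVariables false

namespace Cfsg.Agent.Lib.Helper18.ONE

open Module

variable {F : Type*} [Field F]

/-- the sign `ε j` -/
def oneunipex_eps (d : ℕ) (F : Type*) [Field F] (j : Fin d) : F :=
  if j < Fin.rev j then 1 else if Fin.rev j < j then -1 else 0

theorem oneunipex_eps_rev (d : ℕ) (j : Fin d) :
    oneunipex_eps d F (Fin.rev j) = - oneunipex_eps d F j := by
  unfold oneunipex_eps
  rw [Fin.rev_rev]
  rcases lt_trichotomy j (Fin.rev j) with h | h | h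
  · simp only [if_pos h, if_neg (lt_asymm h)]
  · have h1 : ¬ j < Fin.rev j := by rw [← h]; exact lt_irrefl j
    have h2 : ¬ Fin.rev j < j := by rw [← h]; exact lt_irrefl j
    simp only [if_neg h1, if_neg h2, neg_zero]
  · simp only [if_neg (lt_asymm h), if_pos h, neg_neg]

theorem oneunipex_eps_eq_zero (d : ℕ) (j : Fin d) :
    oneunipex_eps d F j = 0 ↔ 2 * j.val + 1 = d := by
  unfold oneunipex_eps
  have hv : (Fin.rev j).val = d - (j.val + 1) := Fin.val_rev j
  have hj := j.2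
  constructor
  · intro h
    by_cases h1 : j < Fin.rev j
    · rw [if_pos h1] at h
      exact absurd h one_ne_zero
    · rw [if_neg h1] at h
      by_cases h2 : Fin.rev j < j
      · rw [if_pos h2] at h
        exact absurd h (neg_ne_zero.mpr one_ne_zero)
      · rw [Fin.lt_def] at h1 h2
        omega
  · intro h
    have h1 : ¬ j < Fin.rev j := by rw [Fin.lt_def]; omega
    have h2 : ¬ Fin.rev j < j := by rw [Fin.lt_def]; omega
    rw [if_neg h1, if_neg h2]

theorem oneunipex_rev_eq (d : ℕ) (j : Fin d) : Fin.rev j = j ↔ 2 * j.val + 1 = d := by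
  have hv : (Fin.rev j).val = d - (j.val + 1) := Fin.val_rev j
  have hj := j.2
  rw [Fin.ext_iff]
  omega

/-- `Σ ε_j b_{rev j} b_j = 0` -/
theorem oneunipex_sum {d : ℕ} (h2 : (2 : F) ≠ 0) (b : Fin d → F) :
    ∑ j, oneunipex_eps d F j * b (Fin.rev j) * b j = 0 := by
  have h := Equiv.sum_comp Fin.revPerm (fun j => oneunipex_eps d F j * b (Fin.rev j) * b j)
  simp only [Fin.revPerm_apply, Fin.rev_rev, oneunipex_eps_rev] at h
  have h' : ∑ j, oneunipex_eps d F j * b (Fin.rev j) * b j =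
      - ∑ j, oneunipex_eps d F j * b (Fin.rev j) * b j := by
    rw [← Finset.sum_neg_distrib, ← h]
    apply Finset.sum_congr rfl
    intro j _
    ring
  have h3 : (2 : F) * ∑ j, oneunipex_eps d F j * b (Fin.rev j) * b j = 0 := by
    linear_combination h'
  exact (mul_eq_zero.mp h3).resolve_left h2

/-- the algebraic identity behind `Q ((1 + N) v) = Q v` -/
theorem oneunipex_alg {d : ℕ} (h2 : (2 : F) ≠ 0) (τ : F) (hτ : τ * τ = τ) (j₀ : Fin d) (c : F)
    (a b : Fin d → F) :
    (c + τ * b j₀) ^ 2 + ∑ j, (a j + (oneunipex_eps d F j * b (Fin.rev j) +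
        if j = j₀ then τ * (-2 * c - b j₀) else 0)) * b j = c ^ 2 + ∑ j, a j * b j := by
  have hS := oneunipex_sum h2 b
  have h1 : ∑ j, (a j + (oneunipex_eps d F j * b (Fin.rev j) +
        if j = j₀ then τ * (-2 * c - b j₀) else 0)) * b j =
      ∑ j, a j * b j + ∑ j, oneunipex_eps d F j * b (Fin.rev j) * b j +
        τ * (-2 * c - b j₀) * b j₀ := by
    have h3 : ∀ j, (a j + (oneunipex_eps d F j * b (Fin.rev j) +
        if j = j₀ then τ * (-2 * c - b j₀) else 0)) * b j =
        (a j * b j + oneunipex_eps d F j * b (Fin.rev j) * b j) +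
          (if j = j₀ then τ * (-2 * c - b j₀) * b j₀ else 0) := by
      intro j
      by_cases h : j = j₀
      · subst h
        rw [if_pos rfl, if_pos rfl]
        ring
      · rw [if_neg h, if_neg h]
        ring
    rw [Finset.sum_congr rfl (fun j _ => h3 j), Finset.sum_add_distrib, Finset.sum_add_distrib,
      Finset.sum_ite_eq' Finset.univ j₀ (fun _ => τ * (-2 * c - b j₀) * b j₀),
      if_pos (Finset.mem_univ j₀)]
  rw [h1, hS]
  linear_combination (b j₀) ^ 2 * hτ

/-- the nilpotent map `N` -/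
noncomputable def oneunipex_N (d : ℕ) (F : Type*) [Field F] (τ : F) (j₀ : Fin d) :
    Module.End F (Unit ⊕ (Fin d ⊕ Fin d) → F) where
  toFun v := Sum.elim (fun _ => τ * v (Sum.inr (Sum.inr j₀)))
    (Sum.elim (fun j => oneunipex_eps d F j * v (Sum.inr (Sum.inr (Fin.rev j))) +
        (if j = j₀ then τ * (-2 * v (Sum.inl ()) - v (Sum.inr (Sum.inr j₀))) else 0))
      (fun _ => 0))
  map_add' u v := by
    funext i
    rcases i with _ | j | j
    · simp only [Sum.elim_inl, Pi.add_apply]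
      ring
    · simp only [Sum.elim_inr, Sum.elim_inl, Pi.add_apply]
      by_cases h : j = j₀
      · rw [if_pos h, if_pos h, if_pos h]
        ring
      · rw [if_neg h, if_neg h, if_neg h]
        ring
    · simp only [Sum.elim_inr, Pi.add_apply, add_zero]
  map_smul' c v := by
    funext i
    rcases i with _ | j | j
    · simp only [Sum.elim_inl, Pi.smul_apply, smul_eq_mul, RingHom.id_apply]
      ring
    · simp only [Sum.elim_inr, Sum.elim_inl, Pi.smul_apply, smul_eq_mul, RingHom.id_apply]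
      by_cases h : j = j₀
      · rw [if_pos h, if_pos h]
        ring
      · rw [if_neg h, if_neg h]
        ring
    · simp only [Sum.elim_inr, Pi.smul_apply, smul_eq_mul, RingHom.id_apply, mul_zero]

theorem oneunipex_N_inl (d : ℕ) (τ : F) (j₀ : Fin d) (v : Unit ⊕ (Fin d ⊕ Fin d) → F) :
    oneunipex_N d F τ j₀ v (Sum.inl ()) = τ * v (Sum.inr (Sum.inr j₀)) := rfl

theorem oneunipex_N_e (d : ℕ) (τ : F) (j₀ : Fin d) (v : Unit ⊕ (Fin d ⊕ Fin d) → F) (j : Fin d) :
    oneunipex_N d F τ j₀ v (Sum.inr (Sum.inl j)) =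
      oneunipex_eps d F j * v (Sum.inr (Sum.inr (Fin.rev j))) +
        (if j = j₀ then τ * (-2 * v (Sum.inl ()) - v (Sum.inr (Sum.inr j₀))) else 0) := rfl

theorem oneunipex_N_f (d : ℕ) (τ : F) (j₀ : Fin d) (v : Unit ⊕ (Fin d ⊕ Fin d) → F) (j : Fin d) :
    oneunipex_N d F τ j₀ v (Sum.inr (Sum.inr j)) = 0 := rfl

/-- `1 + N` preserves `Q` -/
theorem oneunipex_iso (d : ℕ) (h2 : (2 : F) ≠ 0) (τ : F) (hτ : τ * τ = τ) (j₀ : Fin d)
    (v : Unit ⊕ (Fin d ⊕ Fin d) → F) :
    Cfsg.quadFormOdd d F (v + oneunipex_N d F τ j₀ v) = Cfsg.quadFormOdd d F v := by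
  unfold Cfsg.quadFormOdd
  simp only [Pi.add_apply, oneunipex_N_inl, oneunipex_N_e, oneunipex_N_f, add_zero]
  exact oneunipex_alg h2 τ hτ j₀ (v (Sum.inl ())) (fun j => v (Sum.inr (Sum.inl j)))
    (fun j => v (Sum.inr (Sum.inr j)))

/-- `N² v` -/
theorem oneunipex_N_sq (d : ℕ) (τ : F) (j₀ : Fin d) (v : Unit ⊕ (Fin d ⊕ Fin d) → F) :
    oneunipex_N d F τ j₀ (oneunipex_N d F τ j₀ v) =
      (τ * (-2 * (τ * v (Sum.inr (Sum.inr j₀))))) •
        (Pi.single (Sum.inr (Sum.inl j₀)) (1 : F) : Unit ⊕ (Fin d ⊕ Fin d) → F) := by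
  funext i
  rcases i with _ | j | j
  · rw [oneunipex_N_inl, oneunipex_N_f, mul_zero, Pi.smul_apply, Pi.single_eq_of_ne (by simp),
      smul_zero]
  · rw [oneunipex_N_e, oneunipex_N_f, oneunipex_N_f, oneunipex_N_inl, mul_zero, zero_add, sub_zero,
      Pi.smul_apply]
    by_cases h : j = j₀
    · subst h
      rw [if_pos rfl, Pi.single_eq_same, smul_eq_mul, mul_one]
    · rw [if_neg h, Pi.single_eq_of_ne (by simpa using h), smul_zero]
  · rw [oneunipex_N_f, Pi.smul_apply, Pi.single_eq_of_ne (by simp), smul_zero]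

/-- `N³ = 0` -/
theorem oneunipex_N_cube (d : ℕ) (τ : F) (j₀ : Fin d) : (oneunipex_N d F τ j₀) ^ 3 = 0 := by
  apply LinearMap.ext
  intro v
  rw [pow_succ, pow_two, Module.End.mul_apply, Module.End.mul_apply, oneunipex_N_sq, oneunipex_N_f,
    mul_zero, mul_zero, mul_zero, zero_smul, LinearMap.zero_apply]

end Cfsg.Agent.Lib.Helper18.ONE
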