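import Mathlib
import Cfsg.Agent.Lib.Helper18.ONE.Defs
import Cfsg.Agent.Lib.helper4.ONEUNIPEXa

/-!
# Project ONE, row UNIPEX, part (b): kernel and range of `N`, the Jordan block count `hone`.
Hypotheses on `(τ, j₀)`: `τ ∈ {0, 1}`; `ε j = 0` only for `τ = 1`, `j = j₀`; if `τ = 1` then `ε j₀ = 0`, `rev j₀ = j₀`
(`d` even: `τ = 0`; `d` odd: `τ = 1`, `j₀` the middle index).
-/

set_option autoImplicit false
set_option linter.unusedVariables false

namespace Cfsg.Agent.Lib.Helper18.ONE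

open Module

variable {F : Type*} [Field F]

/-- the kernel of `N` -/
theorem oneunipex_ker (d : ℕ) (h2 : (2 : F) ≠ 0) (τ : F) (j₀ : Fin d) (H1 : τ = 0 ∨ τ = 1)
    (H2 : ∀ j, oneunipex_eps d F j = 0 → τ = 1 ∧ j = j₀)
    (H3 : τ = 1 → oneunipex_eps d F j₀ = 0 ∧ Fin.rev j₀ = j₀)
    (v : Unit ⊕ (Fin d ⊕ Fin d) → F) (hv : oneunipex_N d F τ j₀ v = 0) :
    (∀ k, v (Sum.inr (Sum.inr k)) = 0) ∧ τ * v (Sum.inl ()) = 0 := by
  have hinl : τ * v (Sum.inr (Sum.inr j₀)) = 0 := by
    have h5 := congrFun hv (Sum.inl ())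
    rwa [oneunipex_N_inl] at h5
  have he : ∀ j, oneunipex_eps d F j * v (Sum.inr (Sum.inr (Fin.rev j))) +
      (if j = j₀ then τ * (-2 * v (Sum.inl ()) - v (Sum.inr (Sum.inr j₀))) else 0) = 0 := by
    intro j
    have h5 := congrFun hv (Sum.inr (Sum.inl j))
    rwa [oneunipex_N_e] at h5
  rcases H1 with h0 | h1
  · subst h0
    refine ⟨fun k => ?_, by rw [zero_mul]⟩
    have h5 := he (Fin.rev k)
    rw [Fin.rev_rev] at h5
    have hne : oneunipex_eps d F (Fin.rev k) ≠ 0 := fun h => zero_ne_one (H2 _ h).1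
    have h6 : (if Fin.rev k = j₀ then
        (0 : F) * (-2 * v (Sum.inl ()) - v (Sum.inr (Sum.inr j₀))) else 0) = 0 := by
      split_ifs
      · rw [zero_mul]
      · rfl
    rw [h6, add_zero] at h5
    exact (mul_eq_zero.mp h5).resolve_left hne
  · subst h1
    obtain ⟨hε0, hrev0⟩ := H3 rfl
    rw [one_mul] at hinl
    have hb : ∀ k, v (Sum.inr (Sum.inr k)) = 0 := by
      intro k
      by_cases hk : k = j₀
      · rw [hk]
        exact hinl
      · have hrk : Fin.rev k ≠ j₀ := by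
          intro h
          apply hk
          rw [← Fin.rev_rev k, h, hrev0]
        have h5 := he (Fin.rev k)
        rw [Fin.rev_rev, if_neg hrk, add_zero] at h5
        have hne : oneunipex_eps d F (Fin.rev k) ≠ 0 := fun h => hrk (H2 _ h).2
        exact (mul_eq_zero.mp h5).resolve_left hne
    refine ⟨hb, ?_⟩
    have h5 := he j₀
    rw [if_pos rfl, hε0, zero_mul, zero_add, hb j₀, sub_zero, one_mul] at h5
    rw [one_mul]
    have h6 : (2 : F) * v (Sum.inl ()) = 0 := by linear_combination -h5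
    exact (mul_eq_zero.mp h6).resolve_left h2

/-- `e_k ∈ ker N` -/
theorem oneunipex_e_ker (d : ℕ) (τ : F) (j₀ k : Fin d) :
    oneunipex_N d F τ j₀ (Pi.single (Sum.inr (Sum.inl k)) 1) = 0 := by
  funext i
  rcases i with _ | j | j
  · rw [oneunipex_N_inl, Pi.single_eq_of_ne (by simp), mul_zero, Pi.zero_apply]
  · rw [oneunipex_N_e, Pi.single_eq_of_ne (by simp), Pi.single_eq_of_ne (by simp),
      Pi.single_eq_of_ne (by simp), mul_zero, mul_zero, sub_zero, mul_zero, zero_add, Pi.zero_apply]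
    split_ifs <;> rfl
  · rw [oneunipex_N_f, Pi.zero_apply]

/-- `e_k ∈ range N` -/
theorem oneunipex_e_range (d : ℕ) (h2 : (2 : F) ≠ 0) (τ : F) (j₀ : Fin d) (H1 : τ = 0 ∨ τ = 1)
    (H2 : ∀ j, oneunipex_eps d F j = 0 → τ = 1 ∧ j = j₀)
    (H3 : τ = 1 → oneunipex_eps d F j₀ = 0 ∧ Fin.rev j₀ = j₀) (k : Fin d) :
    ∃ u, oneunipex_N d F τ j₀ u = Pi.single (Sum.inr (Sum.inl k)) 1 := by
  by_cases hk : oneunipex_eps d F k = 0
  · obtain ⟨hτ, hkj⟩ := H2 k hk
    subst hτ
    subst hkj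
    obtain ⟨u, hu⟩ : ∃ u : Unit ⊕ (Fin d ⊕ Fin d) → F, u = (-(2 : F)⁻¹) • Pi.single (Sum.inl ()) 1 :=
      ⟨_, rfl⟩
    have hu_f : ∀ m : Fin d, u (Sum.inr (Sum.inr m)) = 0 := by
      intro m
      rw [hu, Pi.smul_apply, Pi.single_eq_of_ne (by simp), smul_zero]
    have hu_inl : u (Sum.inl ()) = -(2 : F)⁻¹ := by
      rw [hu, Pi.smul_apply, Pi.single_eq_same, smul_eq_mul, mul_one]
    refine ⟨u, ?_⟩
    funext i
    rcases i with _ | j | j
    · rw [oneunipex_N_inl, hu_f, mul_zero, Pi.single_eq_of_ne (by simp)]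
    · rw [oneunipex_N_e, hu_f, hu_f, hu_inl, mul_zero, zero_add, sub_zero, one_mul]
      by_cases hj : j = k
      · subst hj
        rw [if_pos rfl, Pi.single_eq_same]
        field_simp
      · rw [if_neg hj, Pi.single_eq_of_ne (by simpa using hj)]
    · rw [oneunipex_N_f, Pi.single_eq_of_ne (by simp)]
  · refine ⟨(oneunipex_eps d F k)⁻¹ • Pi.single (Sum.inr (Sum.inr (Fin.rev k))) 1, ?_⟩
    have hτk : τ = 0 ∨ j₀ ≠ Fin.rev k := by
      rcases H1 with h | h
      · left
        exact h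
      · right
        intro hr
        obtain ⟨h5, h6⟩ := H3 h
        apply hk
        have h7 : k = j₀ := by rw [← Fin.rev_rev k, ← hr, h6]
        rw [h7]
        exact h5
    have hz : τ * ((oneunipex_eps d F k)⁻¹ •
        (Pi.single (Sum.inr (Sum.inr (Fin.rev k))) (1 : F) : Unit ⊕ (Fin d ⊕ Fin d) → F))
          (Sum.inr (Sum.inr j₀)) = 0 := by
      rcases hτk with h | h
      · rw [h, zero_mul]
      · rw [Pi.smul_apply, Pi.single_eq_of_ne (by simpa using h), smul_zero, mul_zero]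
    funext i
    rcases i with _ | j | j
    · rw [oneunipex_N_inl, hz, Pi.single_eq_of_ne (by simp)]
    · rw [oneunipex_N_e]
      have h8 : τ * (-2 * ((oneunipex_eps d F k)⁻¹ •
          (Pi.single (Sum.inr (Sum.inr (Fin.rev k))) (1 : F) : Unit ⊕ (Fin d ⊕ Fin d) → F))
            (Sum.inl ()) - ((oneunipex_eps d F k)⁻¹ •
          (Pi.single (Sum.inr (Sum.inr (Fin.rev k))) (1 : F) : Unit ⊕ (Fin d ⊕ Fin d) → F))
            (Sum.inr (Sum.inr j₀))) = 0 := by
        rw [Pi.smul_apply, Pi.single_eq_of_ne (by simp), smul_zero, mul_zero, zero_sub, mul_neg, hz,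
          neg_zero]
      rw [h8]
      have h9 : (if j = j₀ then (0 : F) else 0) = 0 := by split_ifs <;> rfl
      rw [h9, add_zero, Pi.smul_apply, smul_eq_mul]
      by_cases hj : j = k
      · subst hj
        rw [Pi.single_eq_same, Pi.single_eq_same, mul_one, mul_inv_cancel₀ hk]
      · have h10 : Fin.rev j ≠ Fin.rev k := fun h => hj (Fin.rev_injective h)
        rw [Pi.single_eq_of_ne (by simpa using h10), mul_zero, mul_zero,
          Pi.single_eq_of_ne (by simpa using hj)]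
    · rw [oneunipex_N_f, Pi.single_eq_of_ne (by simp)]

/-- the span of the `e_k` has dimension `d` -/
theorem oneunipex_finrank_E (d : ℕ) :
    finrank F (Submodule.span F (Set.range (fun k : Fin d =>
      (Pi.single (Sum.inr (Sum.inl k)) (1 : F) : Unit ⊕ (Fin d ⊕ Fin d) → F)))) = d := by
  have hli : LinearIndependent F (fun k : Fin d =>
      (Pi.single (Sum.inr (Sum.inl k)) (1 : F) : Unit ⊕ (Fin d ⊕ Fin d) → F)) := by
    have h := (Pi.basisFun F (Unit ⊕ (Fin d ⊕ Fin d))).linearIndependent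
    have h' := h.comp (fun k : Fin d => (Sum.inr (Sum.inl k) : Unit ⊕ (Fin d ⊕ Fin d)))
      (fun a b hab => by simpa using hab)
    have h3 : (⇑(Pi.basisFun F (Unit ⊕ (Fin d ⊕ Fin d))) ∘
        fun k : Fin d => (Sum.inr (Sum.inl k) : Unit ⊕ (Fin d ⊕ Fin d))) =
        fun k : Fin d => (Pi.single (Sum.inr (Sum.inl k)) (1 : F) :
          Unit ⊕ (Fin d ⊕ Fin d) → F) := by
      funext k
      rw [Function.comp_apply, Pi.basisFun_apply]
    rw [h3] at h'
    exact h'
  rw [finrank_span_eq_card hli, Fintype.card_fin]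

theorem oneunipex_finrank_V (d : ℕ) : finrank F (Unit ⊕ (Fin d ⊕ Fin d) → F) = 2 * d + 1 := by
  rw [Module.finrank_fintype_fun_eq_card, Fintype.card_sum, Fintype.card_sum, Fintype.card_fin,
    Fintype.card_unit]
  ring

/-- the vectors with `b = 0` form a subspace of dimension `d + 1` -/
theorem oneunipex_finrank_kb (d : ℕ) :
    finrank F (LinearMap.ker (LinearMap.funLeft F F
      (fun k : Fin d => (Sum.inr (Sum.inr k) : Unit ⊕ (Fin d ⊕ Fin d))))) = d + 1 := by
  have hsurj : LinearMap.range (LinearMap.funLeft F F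
      (fun k : Fin d => (Sum.inr (Sum.inr k) : Unit ⊕ (Fin d ⊕ Fin d)))) = ⊤ := by
    rw [LinearMap.range_eq_top]
    intro b
    refine ⟨Sum.elim 0 (Sum.elim 0 b), ?_⟩
    funext k
    rfl
  have h := LinearMap.finrank_range_add_finrank_ker (LinearMap.funLeft F F
      (fun k : Fin d => (Sum.inr (Sum.inr k) : Unit ⊕ (Fin d ⊕ Fin d))))
  rw [hsurj, finrank_top, oneunipex_finrank_V, Module.finrank_fintype_fun_eq_card,
    Fintype.card_fin] at h
  omega

/-- the vectors with `b = 0`, `c = 0` form a subspace of dimension `d` -/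
theorem oneunipex_finrank_kbc (d : ℕ) :
    finrank F (LinearMap.ker ((LinearMap.funLeft F F
      (fun k : Fin d => (Sum.inr (Sum.inr k) : Unit ⊕ (Fin d ⊕ Fin d)))).prod
        (LinearMap.proj (R := F) (φ := fun _ : Unit ⊕ (Fin d ⊕ Fin d) => F) (Sum.inl ())))) = d := by
  have hsurj : LinearMap.range ((LinearMap.funLeft F F
      (fun k : Fin d => (Sum.inr (Sum.inr k) : Unit ⊕ (Fin d ⊕ Fin d)))).prod
        (LinearMap.proj (R := F) (φ := fun _ : Unit ⊕ (Fin d ⊕ Fin d) => F) (Sum.inl ()))) = ⊤ := by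
    rw [LinearMap.range_eq_top]
    rintro ⟨b, c⟩
    refine ⟨Sum.elim (fun _ => c) (Sum.elim 0 b), ?_⟩
    rfl
  have h := LinearMap.finrank_range_add_finrank_ker ((LinearMap.funLeft F F
      (fun k : Fin d => (Sum.inr (Sum.inr k) : Unit ⊕ (Fin d ⊕ Fin d)))).prod
        (LinearMap.proj (R := F) (φ := fun _ : Unit ⊕ (Fin d ⊕ Fin d) => F) (Sum.inl ())))
  rw [hsurj, finrank_top, oneunipex_finrank_V, Module.finrank_prod,
    Module.finrank_fintype_fun_eq_card, Fintype.card_fin, Module.finrank_self] at h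
  omega

/-- the Jordan block count -/
theorem oneunipex_hone (d : ℕ) (h2 : (2 : F) ≠ 0) (τ : F) (j₀ : Fin d) (H1 : τ = 0 ∨ τ = 1)
    (H2 : ∀ j, oneunipex_eps d F j = 0 → τ = 1 ∧ j = j₀)
    (H3 : τ = 1 → oneunipex_eps d F j₀ = 0 ∧ Fin.rev j₀ = j₀) :
    finrank F (LinearMap.ker (oneunipex_N d F τ j₀)) +
        finrank F (LinearMap.range ((oneunipex_N d F τ j₀) ^ 2)) ≤
      finrank F ↥(LinearMap.range (oneunipex_N d F τ j₀) ⊓ LinearMap.ker (oneunipex_N d F τ j₀)) + 1 := by
  -- `E ≤ range N ⊓ ker N`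
  have hE : d ≤ finrank F ↥(LinearMap.range (oneunipex_N d F τ j₀) ⊓
      LinearMap.ker (oneunipex_N d F τ j₀)) := by
    refine le_trans (le_of_eq (oneunipex_finrank_E (F := F) d).symm) ?_
    apply Submodule.finrank_mono
    rw [Submodule.span_le]
    rintro _ ⟨k, rfl⟩
    refine ⟨?_, ?_⟩
    · obtain ⟨u, hu⟩ := oneunipex_e_range d h2 τ j₀ H1 H2 H3 k
      exact ⟨u, hu⟩
    · rw [SetLike.mem_coe, LinearMap.mem_ker]
      exact oneunipex_e_ker d τ j₀ k
  rcases H1 with h0 | h1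
  · -- `d` even
    have hsq : (oneunipex_N d F τ j₀) ^ 2 = 0 := by
      apply LinearMap.ext
      intro v
      rw [pow_two, Module.End.mul_apply, oneunipex_N_sq, h0, zero_mul, zero_smul,
        LinearMap.zero_apply]
    have hk : finrank F (LinearMap.ker (oneunipex_N d F τ j₀)) ≤ d + 1 := by
      refine le_trans ?_ (le_of_eq (oneunipex_finrank_kb (F := F) d))
      apply Submodule.finrank_mono
      intro v hv
      rw [LinearMap.mem_ker] at hv ⊢
      funext k
      exact (oneunipex_ker d h2 τ j₀ (Or.inl h0) H2 H3 v hv).1 k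
    rw [hsq, LinearMap.range_zero, finrank_bot]
    omega
  · -- `d` odd
    have hr : finrank F (LinearMap.range ((oneunipex_N d F τ j₀) ^ 2)) ≤ 1 := by
      have hne : (Pi.single (Sum.inr (Sum.inl j₀)) (1 : F) : Unit ⊕ (Fin d ⊕ Fin d) → F) ≠ 0 := by
        intro h
        have := congrFun h (Sum.inr (Sum.inl j₀))
        rw [Pi.single_eq_same, Pi.zero_apply] at this
        exact one_ne_zero this
      rw [← finrank_span_singleton (K := F) hne]
      apply Submodule.finrank_mono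
      rintro _ ⟨v, rfl⟩
      rw [pow_two, Module.End.mul_apply, oneunipex_N_sq]
      exact Submodule.smul_mem _ _ (Submodule.mem_span_singleton_self _)
    have hk : finrank F (LinearMap.ker (oneunipex_N d F τ j₀)) ≤ d := by
      refine le_trans ?_ (le_of_eq (oneunipex_finrank_kbc (F := F) d))
      apply Submodule.finrank_mono
      intro v hv
      rw [LinearMap.mem_ker] at hv ⊢
      obtain ⟨h5, h6⟩ := oneunipex_ker d h2 τ j₀ (Or.inr h1) H2 H3 v hv
      rw [h1, one_mul] at h6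
      rw [LinearMap.prod_apply]
      refine Prod.ext ?_ ?_
      · funext k
        exact h5 k
      · exact h6
    omega

end Cfsg.Agent.Lib.Helper18.ONE
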