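import Mathlib
import Cfsg.Agent.Lib.Helper18.ONE.Defs
import Cfsg.Agent.Lib.helper4.ONEUNIPEXa
import Cfsg.Agent.Lib.helper4.ONEUNIPEXb
import Cfsg.Agent.Lib.helper4.ONEUNIPABS
import Cfsg.Agent.Lib.Lead.ONEFROZEN
import Cfsg.Agent.Lib.helper17.ONENDPERPS
import Cfsg.Agent.Lib.helper15.S5972STDO
import Cfsg.Agent.Lib.Helper25.S5972OMEGAODD
import Cfsg.Agent.Lib.Helper16.SpinA

/-!
# Project ONE, row UNIPEX: an explicit unipotent element of order `p` of `Ω_{2d+1}(q)` (type `(2^d, 1)` for `d` even,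
`(3, 2^(d-1))` for `d` odd) all of whose invariant non-degenerate even-dimensional subspaces are of plus type.
-/

set_option autoImplicit false
set_option linter.unusedVariables false

namespace Cfsg.Agent.Lib.Helper18.ONE

open Polynomial Module Matrix Cfsg.Agent.Lib.Helper13.S5955 Cfsg.Agent.Lib.helper15.S5972

theorem oneunipex_toMatrix'_pow {F : Type*} [Field F] {ι : Type*} [Fintype ι] [DecidableEq ι]
    (X : Module.End F (ι → F)) (m : ℕ) :
    LinearMap.toMatrix' (X ^ m) = (LinearMap.toMatrix' X) ^ m := by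
  induction m with
  | zero => rw [pow_zero, pow_zero]; exact LinearMap.toMatrix'_id
  | succ m ih => rw [pow_succ, pow_succ, Module.End.mul_eq_comp, LinearMap.toMatrix'_comp, ih]

theorem oneunipex_toLin'_pow {F : Type*} [Field F] {ι : Type*} [Fintype ι] [DecidableEq ι]
    (A : Matrix ι ι F) (m : ℕ) : Matrix.toLin' (A ^ m) = (Matrix.toLin' A) ^ m := by
  induction m with
  | zero => rw [pow_zero, pow_zero, Matrix.toLin'_one]; rfl
  | succ m ih => rw [pow_succ, pow_succ, Matrix.toLin'_mul, ih]; rfl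

/-- UNIPEX [L] -/
theorem unip_ex {F : Type*} [Field F] [Fintype F] {p : ℕ} [Fact p.Prime] [CharP F p]
    (hodd : Odd (Fintype.card F)) (d : ℕ) (hd : 3 ≤ d) :
    ∃ x : GL (Unit ⊕ (Fin d ⊕ Fin d)) F, x ∈ Cfsg.Geo.omegaGL (Cfsg.quadFormOdd d F) ∧
      orderOf x = p ∧
      ∀ W : Submodule F (Unit ⊕ (Fin d ⊕ Fin d) → F), Even (Module.finrank F ↥W) →
        Cfsg.Geo.IsNondegenerateOn (QuadraticMap.polar (Cfsg.quadFormOdd d F)) W →
        W.map (Matrix.toLin' (x : Matrix (Unit ⊕ (Fin d ⊕ Fin d)) (Unit ⊕ (Fin d ⊕ Fin d)) F)) ≤ W →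
        Cfsg.Geo.IsPlusTypeOn (Cfsg.quadFormOdd d F) W := by
  classical
  have hp : p.Prime := Fact.out
  have h2 : (2 : F) ≠ 0 := s5972omegaodd_two_ne hodd
  have hp2 : p ≠ 2 := by
    rintro rfl
    apply h2
    have := CharP.cast_eq_zero F 2
    exact_mod_cast this
  have hpodd : Odd p := hp.odd_of_ne_two hp2
  have hp3 : 3 ≤ p := by
    have := hp.two_le
    omega
  -- the parameters
  obtain ⟨τ, hτdef⟩ : ∃ τ : F, τ = if Odd d then 1 else 0 := ⟨_, rfl⟩
  obtain ⟨j₀, hj₀⟩ : ∃ j₀ : Fin d, j₀.val = d / 2 := ⟨⟨d / 2, by omega⟩, rfl⟩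
  have H1 : τ = 0 ∨ τ = 1 := by
    rw [hτdef]
    split_ifs
    · right; rfl
    · left; rfl
  have hτ : τ * τ = τ := by
    rcases H1 with h | h <;> rw [h] <;> ring
  have H2 : ∀ j, oneunipex_eps d F j = 0 → τ = 1 ∧ j = j₀ := by
    intro j hj
    rw [oneunipex_eps_eq_zero] at hj
    have hoddd : Odd d := ⟨j.val, by omega⟩
    refine ⟨by rw [hτdef, if_pos hoddd], ?_⟩
    apply Fin.ext
    rw [hj₀]
    omega
  have H3 : τ = 1 → oneunipex_eps d F j₀ = 0 ∧ Fin.rev j₀ = j₀ := by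
    intro h
    have hoddd : Odd d := by
      by_contra hcon
      rw [hτdef, if_neg hcon] at h
      exact zero_ne_one h
    obtain ⟨t, ht⟩ := hoddd
    have h5 : 2 * j₀.val + 1 = d := by
      rw [hj₀]
      omega
    exact ⟨(oneunipex_eps_eq_zero d j₀).mpr h5, (oneunipex_rev_eq d j₀).mpr h5⟩
  obtain ⟨N, hN⟩ : ∃ N : Module.End F (Unit ⊕ (Fin d ⊕ Fin d) → F), N = oneunipex_N d F τ j₀ :=
    ⟨_, rfl⟩
  have hN3 : N ^ 3 = 0 := by rw [hN]; exact oneunipex_N_cube d τ j₀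
  have hiso : ∀ v, Cfsg.quadFormOdd d F (v + N v) = Cfsg.quadFormOdd d F v := by
    intro v
    rw [hN]
    exact oneunipex_iso d h2 τ hτ j₀ v
  have hone : finrank F (LinearMap.ker N) + finrank F (LinearMap.range (N ^ 2)) ≤
      finrank F ↥(LinearMap.range N ⊓ LinearMap.ker N) + 1 := by
    rw [hN]
    exact oneunipex_hone d h2 τ j₀ H1 H2 H3
  have hNne : N ≠ 0 := by
    intro h0
    have h5 := (oneunipex_ker d h2 τ j₀ H1 H2 H3
      (Pi.single (Sum.inr (Sum.inr j₀)) 1) (by rw [← hN, h0, LinearMap.zero_apply])).1 j₀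
    rw [Pi.single_eq_same] at h5
    exact one_ne_zero h5
  -- the matrix
  obtain ⟨X, hX⟩ : ∃ X : Module.End F (Unit ⊕ (Fin d ⊕ Fin d) → F), X = 1 + N := ⟨_, rfl⟩
  have hXv : ∀ v, X v = v + N v := by
    intro v
    rw [hX, LinearMap.add_apply, Module.End.one_apply]
  have hXN : X - 1 = N := by rw [hX, add_sub_cancel_left]
  obtain ⟨M, hM⟩ : ∃ M : Matrix (Unit ⊕ (Fin d ⊕ Fin d)) (Unit ⊕ (Fin d ⊕ Fin d)) F,
      M = LinearMap.toMatrix' X := ⟨_, rfl⟩
  have hMv : ∀ v, M *ᵥ v = X v := fun v => by rw [hM]; exact LinearMap.toMatrix'_mulVec X v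
  have hMX : Matrix.toLin' M = X := by rw [hM, Matrix.toLin'_toMatrix']
  have hMp : M ^ p = 1 := by
    have hM1 : M = 1 + LinearMap.toMatrix' N := by
      rw [hM, hX, map_add, LinearMap.toMatrix'_one]
    have hNm3 : (LinearMap.toMatrix' N) ^ 3 = 0 := by
      rw [← oneunipex_toMatrix'_pow, hN3, map_zero]
    have hNmp : (LinearMap.toMatrix' N) ^ p = 0 := by
      obtain ⟨t, ht⟩ : ∃ t, p = 3 + t := ⟨p - 3, by omega⟩
      rw [ht, pow_add, hNm3, zero_mul]
    rw [hM1, add_pow_char_of_commute _ (Commute.one_left _), one_pow, hNmp, add_zero]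
  have hpp : p - 1 + 1 = p := by omega
  obtain ⟨x, hx⟩ : ∃ x : GL (Unit ⊕ (Fin d ⊕ Fin d)) F,
      (x : Matrix (Unit ⊕ (Fin d ⊕ Fin d)) (Unit ⊕ (Fin d ⊕ Fin d)) F) = M :=
    ⟨⟨M, M ^ (p - 1), by rw [← pow_succ', hpp, hMp], by rw [← pow_succ, hpp, hMp]⟩, rfl⟩
  have hxiso : x ∈ Cfsg.isometryGroup F (Cfsg.quadFormOdd d F) := by
    rw [Cfsg.Agent.Lib.Helper16.mem_iso_iff]
    intro v
    rw [hx, hMv, hXv, hiso]
  have hxp : x ^ p = 1 := by
    apply Units.ext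
    rw [Units.val_pow_eq_pow_val, hx, hMp, Units.val_one]
  have hx1 : x ≠ 1 := by
    intro h1
    apply hNne
    have h5 : M = 1 := by rw [← hx, h1, Units.val_one]
    have h6 : X = 1 := by rw [← hMX, h5, Matrix.toLin'_one]; rfl
    rw [← hXN, h6, sub_self]
  have hord : orderOf x = p := orderOf_eq_prime hxp hx1
  refine ⟨x, omega_of_odd hodd d hd x hxiso (by rw [hord]; exact hpodd), hord, ?_⟩
  intro W hev hnd hmap
  rw [hx, hMX] at hmap
  obtain ⟨hsymm, hndtop, -, -⟩ := stdO_facts (F := F) h2 d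
  have hpres : ∀ u v, stdO d F (X u) (X v) = stdO d F u v := by
    intro u v
    rw [stdO_apply, stdO_apply, ← map_add, hXv, hXv, hXv, hiso, hiso, hiso]
  have hXp : X ^ p = 1 := by
    rw [← hMX, ← oneunipex_toLin'_pow, hMp, Matrix.toLin'_one]
    rfl
  have hWinv : SInv X W := fun w hw => hmap (Submodule.mem_map_of_mem hw)
  have hWnd : SND (stdO d F) W := (frozen_iff h2 d W).1.mp hnd
  have htop : SND (stdO d F) (⊤ : Submodule F (Unit ⊕ (Fin d ⊕ Fin d) → F)) :=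
    fun u _ hu => hndtop u (fun v => hu v Submodule.mem_top)
  obtain ⟨hdisj, hsup, -, -, -⟩ := nd_perp_symm (stdO d F) hsymm ⊤ W htop le_top hWnd
  have hc : IsCompl W (⊤ ⊓ (stdO d F).orthogonal W) :=
    ⟨hdisj, codisjoint_iff.mpr hsup⟩
  have hW'inv : SInv X (⊤ ⊓ (stdO d F).orthogonal W) := by
    intro w' hw'
    refine ⟨Submodule.mem_top, ?_⟩
    show X w' ∈ (stdO d F).orthogonal W
    rw [LinearMap.BilinForm.mem_orthogonal_iff]
    intro w hw
    have h5 : (X ^ (p - 1)) w ∈ W := Cfsg.Agent.Lib.Helper24.el_pow_mem hWinv (p - 1) hw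
    have h6 : X ((X ^ (p - 1)) w) = w := by
      rw [← Module.End.mul_apply, ← pow_succ', hpp, hXp, Module.End.one_apply]
    have h7 := hpres ((X ^ (p - 1)) w) w'
    rw [h6] at h7
    rw [h7]
    exact (LinearMap.BilinForm.mem_orthogonal_iff.mp hw'.2) _ h5
  have hshyp := unip_abs (stdO d F) hsymm X hpres (by rw [hXN]; exact hN3)
    (by rw [hXN]; exact hone) W (⊤ ⊓ (stdO d F).orthogonal W) hWinv hW'inv hc hev
  exact (frozen_iff h2 d W).2.mpr hshyp

end Cfsg.Agent.Lib.Helper18.ONE
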