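import Mathlib
import Cfsg.Agent.Lib.Helper13.OTS.Defs

/-!
# Project OTS, row ARITHEX (`q_arith_ex`, THE verbatim copy on main; also under the name `otsarithex_h4_q_arith_ex`; helper29's copies are renamed spares), verbatim from `Helper13/OTS/Skel.lean.txt`.  (helper4)

Pure arithmetic: `c + FMin i c d ε ≤ 2 d` as soon as `c < 2 d`, or `c = 2 d` and the exceptional branch of `FMin` is not taken.
-/

set_option autoImplicit false

namespace Cfsg.Agent.Lib.Helper13.OTS

theorem otsarithex_add_mod (c n : ℕ) (hc : 0 < c) (hcn : c ≤ n) : c + n % c ≤ n := by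
  have h1 := Nat.div_add_mod n c
  have h2 : 1 ≤ n / c := Nat.div_pos hcn hc
  have h3 : c ≤ c * (n / c) := Nat.le_mul_of_pos_right c h2
  omega

theorem otsarithex_two_mul (c n : ℕ) (h0 : n % c = 0) (hcn : c < n) : 2 * c ≤ n := by
  obtain ⟨k, rfl⟩ := Nat.dvd_of_mod_eq_zero h0
  rcases k with _ | _ | k
  · simp at hcn
  · simp at hcn
  · have : c * (k + 1 + 1) = c * k + 2 * c := by ring
    omega

theorem otsarithex_fmin_le (i c d : ℕ) (ε : ℤ) (hc0 : 0 < c) : FMin i c d ε ≤ c := by
  unfold FMin
  split_ifs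
  · exact le_refl c
  · exact (Nat.mod_lt _ hc0).le

theorem otsarithex_main (i c d : ℕ) (ε : ℤ) (hc0 : 0 < c) (h : c < 2 * d) :
    c + FMin i c d ε ≤ 2 * d := by
  unfold FMin
  split_ifs with hcond
  · have := otsarithex_two_mul c (2 * d) hcond.1 h
    omega
  · exact otsarithex_add_mod c (2 * d) hc0 h.le

theorem otsarithex_main' (i c d : ℕ) (ε : ℤ) (hc0 : 0 < c) (h : c ≤ 2 * d)
    (hn : ¬ ((2 * d) % c = 0 ∧ ¬ (ε = 1 ↔ (Odd i ∨ Even ((2 * d) / i))))) :
    c + FMin i c d ε ≤ 2 * d := by
  unfold FMin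
  rw [if_neg hn]
  exact otsarithex_add_mod c (2 * d) hc0 h

theorem otsarithex_h4_q_arith_ex (i c d m : ℕ) (ε : ℤ) (hi : 1 ≤ i) (hc : c = if Even i then i else 2 * i)
    (hε : ε = 1 ∨ ε = -1) (hm : m + 1 ≤ d) (hj : HJi i d m ε) :
    c + FMin i c d ε ≤ 2 * d ∧ c ∣ 2 * d - FMin i c d ε ∧ Even (FMin i c d ε) ∧
      (FMin i c d ε = 0 → ε = SCy i (2 * d)) := by
  have hc0 : 0 < c := by
    rw [hc]
    split_ifs <;> omega
  have hce : Even c := by
    rw [hc]
    split_ifs with h
    · exact h
    · exact even_two_mul i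
  refine ⟨?_, ?_, ?_, ?_⟩
  · obtain ⟨j, hjm, hj⟩ := hj
    by_cases hie : Even i
    · have hci : c = i := by rw [hc, if_pos hie]
      have hi2 : 2 * (i / 2) = i := Nat.two_mul_div_two_of_even hie
      rcases hj with ⟨he, h1 | ⟨-, h1⟩⟩ | ⟨he, ⟨-, h1⟩ | h1⟩
      · have := Nat.le_of_dvd (by omega) h1
        exact otsarithex_main i c d ε hc0 (by omega)
      · have := Nat.mod_le (d - 1 - j) i
        exact otsarithex_main i c d ε hc0 (by omega)
      · have := Nat.mod_le (d - j) i
        have hle : c ≤ 2 * d := by omega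
        rcases Nat.lt_or_ge c (2 * d) with hlt | hge
        · exact otsarithex_main i c d ε hc0 hlt
        · have hcn : 2 * d = i := by omega
          apply otsarithex_main' i c d ε hc0 hle
          rintro ⟨-, hnot⟩
          apply hnot
          rw [hcn, Nat.div_self (by omega)]
          constructor
          · intro h
            omega
          · rintro (h | h)
            · exact absurd hie (Nat.not_even_iff_odd.mpr h)
            · exact absurd h Nat.not_even_one
      · have := Nat.le_of_dvd (by omega) h1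
        exact otsarithex_main i c d ε hc0 (by omega)
    · have hio : Odd i := Nat.not_even_iff_odd.mp hie
      have hci : c = 2 * i := by rw [hc, if_neg hie]
      rcases hj with ⟨he, h1 | ⟨h0, -⟩⟩ | ⟨he, ⟨h0, -⟩ | h1⟩
      · have := Nat.le_of_dvd (by omega) h1
        apply otsarithex_main' i c d ε hc0 (by omega)
        rintro ⟨-, hnot⟩
        exact hnot ⟨fun _ => Or.inl hio, fun _ => he⟩
      · exact absurd h0 hie
      · exact absurd h0 hie
      · have := Nat.le_of_dvd (by omega) h1
        exact otsarithex_main i c d ε hc0 (by omega)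
  · unfold FMin
    split_ifs with hcond
    · exact Nat.dvd_sub (Nat.dvd_of_mod_eq_zero hcond.1) (dvd_refl c)
    · exact Nat.dvd_sub_mod _
  · unfold FMin
    split_ifs with hcond
    · exact hce
    · rw [Nat.even_iff, Nat.mod_mod_of_dvd _ hce.two_dvd]
      omega
  · intro h0
    unfold FMin at h0
    unfold SCy
    split_ifs at h0 with hcond
    · omega
    · have hiff : ε = 1 ↔ (Odd i ∨ Even (2 * d / i)) := by
        by_contra hne
        exact hcond ⟨h0, hne⟩
      split_ifs with hP
      · exact hiff.mpr hP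
      · rcases hε with h | h
        · exact absurd (hiff.mp h) hP
        · exact h

/-- ARITHEX, the verbatim row. -/
theorem q_arith_ex (i c d m : ℕ) (ε : ℤ) (hi : 1 ≤ i) (hc : c = if Even i then i else 2 * i)
    (hε : ε = 1 ∨ ε = -1) (hm : m + 1 ≤ d) (hj : HJi i d m ε) :
    c + FMin i c d ε ≤ 2 * d ∧ c ∣ 2 * d - FMin i c d ε ∧ Even (FMin i c d ε) ∧
      (FMin i c d ε = 0 → ε = SCy i (2 * d)) :=
  otsarithex_h4_q_arith_ex i c d m ε hi hc hε hm hj

end Cfsg.Agent.Lib.Helper13.OTS
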