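import Mathlib
import Cfsg.Agent.Lib.Helper13.OTS.Defs

/-!
# Project OTS, row TYTOP: spare copy `otstytop_h4_q_ty_top` (the verbatim `q_ty_top` is Helper16/OTSTYTOP), statement from `Helper13/OTS/Skel.lean.txt`.  (helper4)

The type of a standard space, read on `⊤`.
-/

set_option autoImplicit false

namespace Cfsg.Agent.Lib.Helper13.OTS

open Module

theorem otstytop_h4_q_ty_top {F : Type*} [Field F] [Fintype F] {ι : Type} [Fintype ι] [DecidableEq ι]
    (Qs : QuadraticForm F (ι → F)) (d : ℕ) (ε : ℤ) (hs : QStd Qs d ε) :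
    QTy Qs (⊤ : Submodule F (ι → F)) ε ∧ finrank F (ι → F) = 2 * d ∧
      (∀ u, (∀ v, QuadraticMap.polar Qs u v = 0) → u = 0) := by
  have hfr : finrank F (ι → F) = 2 * d := by
    rw [Module.finrank_fintype_fun_eq_card, hs.card]
  refine ⟨?_, hfr, ?_⟩
  · unfold QTy
    rw [finrank_top, hfr, Nat.mul_div_cancel_left d (by norm_num : 0 < 2)]
    exact (Cfsg.Agent.Lib.Helper16.OSemi.isType_congr
      (Submodule.topEquiv (R := F) (M := ι → F)).toEquiv (⇑Qs)
      (fun w : ↥(⊤ : Submodule F (ι → F)) => Qs (w : ι → F)) (fun w' => rfl) d ε).mp hs.ty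
  · intro u hu
    apply hs.nd.1
    intro v
    rw [QuadraticMap.polarBilin_apply_apply]
    exact hu v

end Cfsg.Agent.Lib.Helper13.OTS
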