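import Mathlib
import Cfsg.Prelude.Def_Sporadic_a
import Cfsg.Prelude.Def_SporadicCombinatorics
import Cfsg.Agent.Lib.helper4.CodedOrbitsB
import Cfsg.Agent.Lib.helper4.OctadPairs

set_option autoImplicit false

namespace Cfsg.Agent.Lib.helper4

open Cfsg MulAction
open scoped Pointwise
open Cfsg.Agent.Lib.Helper12.Golay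

/-! ### Orbits of the stabiliser of an octad on trios and on sextets -/

def o10TrioRep : Fin 3 → Code3
  | ⟨0, _⟩ => (5279,1009728,15762208)
  | ⟨1, _⟩ => (10558,1250945,15515712)
  | ⟨2, _⟩ => (10558,902657,15864000)

def o10TrioIns : Fin 3 → List ℕ
  | ⟨0, _⟩ => [1,1,1,1,1,1,0,2,1,1,1,1,1,1,0,2]
  | ⟨1, _⟩ => [1,1,1,1,1,1,1,1,1,1,1,1,1,2,1,1,1,1,1,1,1,1,1,1,1,1,1,2,1,1,1,1,1,1,2,1,1,1,1,1,1,1,1,1,1,1,1,1,2,1,1,1,1,1,1,1,1,1,1,1,1,1,2,1,1,1,1,1,1,1,1,1,1,1,1,1,2,1,1,1,1,1,1,1,1,1,1,1,1,1,2,1,1,1,1,1,1,1,1,1,1,1,1,1,2,1,1,1,1,1,1,1,1,1,1,1,1,1,2,1,1,1,1,1,1,2,1,1,1,1,1,1,1,1,1,1,1,1,1,0,2,1,1,1,1,1,1,0,0,2,1,1,1,1,1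,1,1,1,1,1,1,1,1,2,1,1,1,1,1,1,1,1,1,1,1,1,1,2,1,1,1,1,1,1,1,1,1,1,1,1,1,2,1,1,1,1,1,1,2,1,1,1,1,1,1,1,1,1,1,1,1,1,2,1,1,1,1,1,1,2,1,1,1,1,1,1,2,1,1,1,1,1,1,1,1,1,1,1,1,1,2,1,1,1,1,1,1,1,1,1,1,1,1,1,0,0,2,1,1,1,1,1,1,1,1,1,1,1,1,1,0,0,2,1,1,1,1,1,1,0,2,1,1,1,1,1,1,1,1,1,1,1,1,1,0,0,2,1,1,1,1,1,1,1,1,1,1,1,1,1,2,1,1,1,1,1,1,1,1,1,1,1,1,1,0,2,1,1,1,1,1,1,1,1,1,1,1,1,1,2,1,1,1,1,1,1,1,1,1,1,1,1,1,0,0,0,0,2,1,1,1,1,1,1,0,0,0,0,0,0,0,0,2,1,1,1,1,1,1,1,1,1,1,1,1,1,0,2,1,1,1,1,1,1,1,1,1,1,1,1,1,0,2,1,1,1,1,1,1,1,1,1,1,1,1,1,0,0,0,0,0,0,2,1,1,1,1,1,1,0,0,0,0,0,0,0,0,0,0,0,0,0,0,0,0,0,0,0,0,0,0,0,0,0,0,2,1,1,1,1,1,1,0,0,2,1,1,1,1,1,1,0,2,1,1,1,1,1,1]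
  | ⟨2, _⟩ => [1,1,1,1,1,1,1,1,1,1,1,1,1,2,1,1,1,1,1,1,1,1,1,1,1,1,1,2,1,1,1,1,1,1,1,1,1,1,1,1,1,2,1,1,1,1,1,1,1,1,1,1,1,1,1,2,1,1,1,1,1,1,1,1,1,1,1,1,1,2,1,1,1,1,1,1,1,1,1,1,1,1,1,2,1,1,1,1,1,1,1,1,1,1,1,1,1,2,1,1,1,1,1,1,1,1,1,1,1,1,1,2,1,1,1,1,1,1,1,1,1,1,1,1,1,2,1,1,1,1,1,1,1,1,1,1,1,1,1,2,1,1,1,1,1,1,1,1,1,1,1,1,1,2,1,1,1,1,1,1,1,1,1,1,1,1,1,2,1,1,1,1,1,1,1,1,1,1,1,1,1,2,1,1,1,1,1,1,1,1,1,1,1,1,1,0,2,1,1,1,1,1,1,1,1,1,1,1,1,1,2,1,1,1,1,1,1,1,1,1,1,1,1,1,0,2,1,1,1,1,1,1,1,1,1,1,1,1,1,2,1,1,1,1,1,1,1,1,1,1,1,1,1,2,1,1,1,1,1,1,1,1,1,1,1,1,1,2,1,1,1,1,1,1,1,1,1,1,1,1,1,2,1,1,1,1,1,1,1,1,1,1,1,1,1,2,1,1,1,1,1,1,1,1,1,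1,1,1,1,2,1,1,1,1,1,1,1,1,1,1,1,1,1,2,1,1,1,1,1,1,1,1,1,1,1,1,1,2,1,1,1,1,1,1,1,1,1,1,1,1,1,2,1,1,1,1,1,1,1,1,1,1,1,1,1,2,1,1,1,1,1,1,1,1,1,1,1,1,1,2,1,1,1,1,1,1,1,1,1,1,1,1,1,2,1,1,1,1,1,1,1,1,1,1,1,1,1,0,2,1,1,1,1,1,1,1,1,1,1,1,1,1,2,1,1,1,1,1,1,1,1,1,1,1,1,1,2,1,1,1,1,1,1,1,1,1,1,1,1,1,2,1,1,1,1,1,1,1,1,1,1,1,1,1,0,0,2,1,1,1,1,1,1,1,1,1,1,1,1,1,2,1,1,1,1,1,1,1,1,1,1,1,1,1,2,1,1,1,1,1,1,1,1,1,1,1,1,1,2,1,1,1,1,1,1,1,1,1,1,1,1,1,2,1,1,1,1,1,1,1,1,1,1,1,1,1,2,1,1,1,1,1,1,1,1,1,1,1,1,1,2,1,1,1,1,1,1,1,1,1,1,1,1,1,2,1,1,1,1,1,1,1,1,1,1,1,1,1,2,1,1,1,1,1,1,1,1,1,1,1,1,1,2,1,1,1,1,1,1,1,1,1,1,1,1,1,2,1,1,1,1,1,1,1,1,1,1,1,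1,1,2,1,1,1,1,1,1,1,1,1,1,1,1,1,2,1,1,1,1,1,1,1,1,1,1,1,1,1,0,2,1,1,1,1,1,1,1,1,1,1,1,1,1,0,2,1,1,1,1,1,1,1,1,1,1,1,1,1,2,1,1,1,1,1,1,1,1,1,1,1,1,1,2,1,1,1,1,1,1,1,1,1,1,1,1,1,0,2,1,1,1,1,1,1,1,1,1,1,1,1,1,2,1,1,1,1,1,1,1,1,1,1,1,1,1,2,1,1,1,1,1,1,1,1,1,1,1,1,1,2,1,1,1,1,1,1,1,1,1,1,1,1,1,0,2,1,1,1,1,1,1,1,1,1,1,1,1,1,2,1,1,1,1,1,1,1,1,1,1,1,1,1,2,1,1,1,1,1,1,1,1,1,1,1,1,1,2,1,1,1,1,1,1,1,1,1,1,1,1,1,0,0,2,1,1,1,1,1,1,1,1,1,1,1,1,1,2,1,1,1,1,1,1,1,1,1,1,1,1,1,2,1,1,1,1,1,1,1,1,1,1,1,1,1,2,1,1,1,1,1,1,1,1,1,1,1,1,1,0,2,1,1,1,1,1,1,1,1,1,1,1,1,1,2,1,1,1,1,1,1,1,1,1,1,1,1,1,2,1,1,1,1,1,1,1,1,1,1,1,1,1,2,1,1,1,1,1,1,1,1,1,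1,1,1,1,0,0,0,2,1,1,1,1,1,1,1,1,1,1,1,1,1,0,2,1,1,1,1,1,1,1,1,1,1,1,1,1,2,1,1,1,1,1,1,1,1,1,1,1,1,1,2,1,1,1,1,1,1,1,1,1,1,1,1,1,2,1,1,1,1,1,1,1,1,1,1,1,1,1,2,1,1,1,1,1,1,1,1,1,1,1,1,1,2,1,1,1,1,1,1,1,1,1,1,1,1,1,2,1,1,1,1,1,1,1,1,1,1,1,1,1,2,1,1,1,1,1,1,1,1,1,1,1,1,1,2,1,1,1,1,1,1,1,1,1,1,1,1,1,2,1,1,1,1,1,1,1,1,1,1,1,1,1,2,1,1,1,1,1,1,1,1,1,1,1,1,1,2,1,1,1,1,1,1,1,1,1,1,1,1,1,2,1,1,1,1,1,1,1,1,1,1,1,1,1,0,2,1,1,1,1,1,1,1,1,1,1,1,1,1,0,0,2,1,1,1,1,1,1,1,1,1,1,1,1,1,2,1,1,1,1,1,1,1,1,1,1,1,1,1,2,1,1,1,1,1,1,1,1,1,1,1,1,1,2,1,1,1,1,1,1,1,1,1,1,1,1,1,2,1,1,1,1,1,1,1,1,1,1,1,1,1,2,1,1,1,1,1,1,1,1,1,1,1,1,1,2,1,1,1,1,1,1,1,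1,1,1,1,1,1,2,1,1,1,1,1,1,1,1,1,1,1,1,1,0,2,1,1,1,1,1,1,1,1,1,1,1,1,1,0,2,1,1,1,1,1,1,1,1,1,1,1,1,1,2,1,1,1,1,1,1,1,1,1,1,1,1,1,2,1,1,1,1,1,1,1,1,1,1,1,1,1,2,1,1,1,1,1,1,1,1,1,1,1,1,1,2,1,1,1,1,1,1,1,1,1,1,1,1,1,0,0,2,1,1,1,1,1,1,1,1,1,1,1,1,1,2,1,1,1,1,1,1,1,1,1,1,1,1,1,2,1,1,1,1,1,1,1,1,1,1,1,1,1,0,2,1,1,1,1,1,1,1,1,1,1,1,1,1,0,2,1,1,1,1,1,1,1,1,1,1,1,1,1,2,1,1,1,1,1,1,1,1,1,1,1,1,1,0,0,2,1,1,1,1,1,1,1,1,1,1,1,1,1,2,1,1,1,1,1,1,1,1,1,1,1,1,1,0,0,0,2,1,1,1,1,1,1,1,1,1,1,1,1,1,2,1,1,1,1,1,1,1,1,1,1,1,1,1,2,1,1,1,1,1,1,1,1,1,1,1,1,1,2,1,1,1,1,1,1,1,1,1,1,1,1,1,0,2,1,1,1,1,1,1,1,1,1,1,1,1,1,2,1,1,1,1,1,1,1,1,1,1,1,1,1,0,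2,1,1,1,1,1,1,1,1,1,1,1,1,1,0,2,1,1,1,1,1,1,1,1,1,1,1,1,1,0,0,0,0,0,2,1,1,1,1,1,1,1,1,1,1,1,1,1,0,2,1,1,1,1,1,1,1,1,1,1,1,1,1,0,2,1,1,1,1,1,1,1,1,1,1,1,1,1,2,1,1,1,1,1,1,1,1,1,1,1,1,1,0,0,2,1,1,1,1,1,1,1,1,1,1,1,1,1,2,1,1,1,1,1,1,1,1,1,1,1,1,1,2,1,1,1,1,1,1,1,1,1,1,1,1,1,0,2,1,1,1,1,1,1,1,1,1,1,1,1,1,2,1,1,1,1,1,1,1,1,1,1,1,1,1,0,2,1,1,1,1,1,1,1,1,1,1,1,1,1,0,2,1,1,1,1,1,1,1,1,1,1,1,1,1,0,2,1,1,1,1,1,1,1,1,1,1,1,1,1,2,1,1,1,1,1,1,1,1,1,1,1,1,1,0,2,1,1,1,1,1,1,1,1,1,1,1,1,1,2,1,1,1,1,1,1,1,1,1,1,1,1,1,0,0,2,1,1,1,1,1,1,1,1,1,1,1,1,1,0,2,1,1,1,1,1,1,1,1,1,1,1,1,1,0,2,1,1,1,1,1,1,1,1,1,1,1,1,1,0,0,0,2,1,1,1,1,1,1,1,1,1,1,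1,1,1,2,1,1,1,1,1,1,1,1,1,1,1,1,1,0,2,1,1,1,1,1,1,1,1,1,1,1,1,1,0,2,1,1,1,1,1,1,1,1,1,1,1,1,1,0,0,2,1,1,1,1,1,1,1,1,1,1,1,1,1,0,0,2,1,1,1,1,1,1,1,1,1,1,1,1,1,0,2,1,1,1,1,1,1,1,1,1,1,1,1,1,0,0,0,0,0,0,2,1,1,1,1,1,1,1,1,1,1,1,1,1,2,1,1,1,1,1,1,1,1,1,1,1,1,1,0,0,2,1,1,1,1,1,1,1,1,1,1,1,1,1,0,2,1,1,1,1,1,1,1,1,1,1,1,1,1,2,1,1,1,1,1,1,1,1,1,1,1,1,1,0,0,2,1,1,1,1,1,1,1,1,1,1,1,1,1,2,1,1,1,1,1,1,1,1,1,1,1,1,1,2,1,1,1,1,1,1,1,1,1,1,1,1,1,0,0,2,1,1,1,1,1,1,1,1,1,1,1,1,1,2,1,1,1,1,1,1,1,1,1,1,1,1,1,0,2,1,1,1,1,1,1,1,1,1,1,1,1,1,2,1,1,1,1,1,1,1,1,1,1,1,1,1,0,0,2,1,1,1,1,1,1,1,1,1,1,1,1,1,0,2,1,1,1,1,1,1,1,1,1,1,1,1,1,0,2,1,1,1,1,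1,1,1,1,1,1,1,1,1,0,0,2,1,1,1,1,1,1,1,1,1,1,1,1,1,0,0,0,2,1,1,1,1,1,1,1,1,1,1,1,1,1,0,2,1,1,1,1,1,1,1,1,1,1,1,1,1,0,0,0,0,0,0,0,2,1,1,1,1,1,1,1,1,1,1,1,1,1,2,1,1,1,1,1,1,1,1,1,1,1,1,1,0,2,1,1,1,1,1,1,1,1,1,1,1,1,1,2,1,1,1,1,1,1,1,1,1,1,1,1,1,0,2,1,1,1,1,1,1,1,1,1,1,1,1,1,2,1,1,1,1,1,1,1,1,1,1,1,1,1,2,1,1,1,1,1,1,1,1,1,1,1,1,1,0,2,1,1,1,1,1,1,1,1,1,1,1,1,1,2,1,1,1,1,1,1,1,1,1,1,1,1,1,2,1,1,1,1,1,1,1,1,1,1,1,1,1,0,2,1,1,1,1,1,1,1,1,1,1,1,1,1,0,0,0,2,1,1,1,1,1,1,1,1,1,1,1,1,1,2,1,1,1,1,1,1,1,1,1,1,1,1,1,0,0,0,0,0,2,1,1,1,1,1,1,1,1,1,1,1,1,1,0,2,1,1,1,1,1,1,1,1,1,1,1,1,1,0,0,2,1,1,1,1,1,1,1,1,1,1,1,1,1,2,1,1,1,1,1,1,1,1,1,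1,1,1,1,0,0,2,1,1,1,1,1,1,1,1,1,1,1,1,1,0,2,1,1,1,1,1,1,1,1,1,1,1,1,1,2,1,1,1,1,1,1,1,1,1,1,1,1,1,2,1,1,1,1,1,1,1,1,1,1,1,1,1,0,2,1,1,1,1,1,1,1,1,1,1,1,1,1,0,2,1,1,1,1,1,1,1,1,1,1,1,1,1,0,2,1,1,1,1,1,1,1,1,1,1,1,1,1,2,1,1,1,1,1,1,1,1,1,1,1,1,1,0,0,0,0,0,0,0,2,1,1,1,1,1,1,1,1,1,1,1,1,1,2,1,1,1,1,1,1,1,1,1,1,1,1,1,2,1,1,1,1,1,1,1,1,1,1,1,1,1,0,0,0,0,0,2,1,1,1,1,1,1,1,1,1,1,1,1,1,2,1,1,1,1,1,1,1,1,1,1,1,1,1,0,0,0,0,0,0,0,0,0,0,0,0,2,1,1,1,1,1,1,1,1,1,1,1,1,1,0,0,0,0,0,0,0,0,2,1,1,1,1,1,1,1,1,1,1,1,1,1,2,1,1,1,1,1,1,1,1,1,1,1,1,1,0,0,0,0,0,0,0,0,0,0,0,0,0,0,0,0,0,0,2,1,1,1,1,1,1,1,1,1,1,1,1,1,0,2,1,1,1,1,1,1,1,1,1,1,1,1,1,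0,0,0,0,0,2,1,1,1,1,1,1,1,1,1,1,1,1,1,0,2,1,1,1,1,1,1,1,1,1,1,1,1,1,0,0,2,1,1,1,1,1,1,1,1,1,1,1,1,1,0,0,0,0,0,0,0,0,2,1,1,1,1,1,1,1,1,1,1,1,1,1,0,0,2,1,1,1,1,1,1,1,1,1,1,1,1,1,0,0,0,0,2,1,1,1,1,1,1,1,1,1,1,1,1,1,0,2,1,1,1,1,1,1,1,1,1,1,1,1,1,0,0,0,0,0,0,0,0,0,0,2,1,1,1,1,1,1,1,1,1,1,1,1,1,2,1,1,1,1,1,1,1,1,1,1,1,1,1,0,0,2,1,1,1,1,1,1,1,1,1,1,1,1,1,0,0,0,0,0,0,0,0,0,2,1,1,1,1,1,1,1,1,1,1,1,1,1,0,0,0,0,2,1,1,1,1,1,1,1,1,1,1,1,1,1,0,2,1,1,1,1,1,1,1,1,1,1,1,1,1,0,2,1,1,1,1,1,1,1,1,1,1,1,1,1,0,0,0,0,2,1,1,1,1,1,1,1,1,1,1,1,1,1,0,0,0,0,0,0,0,0,2,1,1,1,1,1,1,1,1,1,1,1,1,1,0,0,0,0,0,2,1,1,1,1,1,1,1,1,1,1,1,1,1,0,0,0,0,0,0,2,1,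1,1,1,1,1,1,1,1,1,1,1,1,0,0,0,0,0,0,0,0,0,0,0,0,0,0,0,0,0,0,2,1,1,1,1,1,1,1,1,1,1,1,1,1,0,0,0,2,1,1,1,1,1,1,1,1,1,1,1,1,1,2,1,1,1,1,1,1,1,1,1,1,1,1,1,0,2,1,1,1,1,1,1,1,1,1,1,1,1,1,0,0,0,2,1,1,1,1,1,1,1,1,1,1,1,1,1,0,0,2,1,1,1,1,1,1,1,1,1,1,1,1,1,0,0,0,0,2,1,1,1,1,1,1,1,1,1,1,1,1,1,0,0,0,0,0,0,0,0,2,1,1,1,1,1,1,1,1,1,1,1,1,1,0,0,0,0,0,0,0,0,0,0,0,0,0,0,0,0,2,1,1,1,1,1,1,1,1,1,1,1,1,1,0,0,0,0,0,0,0,0,0,2,1,1,1,1,1,1,1,1,1,1,1,1,1,0,0,0,0,0,0,0,2,1,1,1,1,1,1,1,1,1,1,1,1,1,2,1,1,1,1,1,1,1,1,1,1,1,1,1,0,0,0,0,0,0,0,0,0,0,0,0,0,0,0,0,0,0,0,2,1,1,1,1,1,1,1,1,1,1,1,1,1,2,1,1,1,1,1,1,1,1,1,1,1,1,1,2,1,1,1,1,1,1,1,1,1,1,1,1,1,2,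1,1,1,1,1,1,1,1,1,1,1,1,1,0,0,0,0,0,0,0,0,0,0,0,0,0,0,0,0,0,0,0,0,0,0,0,0,0,0,0,0,0,0,0,0,0,0,0,0,0,0,0,0,0,0,0,2,1,1,1,1,1,1,1,1,1,1,1,1,1,0,2,1,1,1,1,1,1,1,1,1,1,1,1,1,0,0,0,0,0,0,0,0,0,0,0,0,0,0,0,0,2,1,1,1,1,1,1,1,1,1,1,1,1,1,0,0,0,0,0,0,0,0,0,0,0,0,0,0,0,0,0,0,0,0,0,0,0,0,0,0,0,0,2,1,1,1,1,1,1,1,1,1,1,1,1,1,0,0,0,0,0,0,0,2,1,1,1,1,1,1,1,1,1,1,1,1,1,0,0,0,0,0,0,0,0,0,0,0,0,0,0,0,0,0,0,0,0,0,0,0,0,0,0,0,0,0,0,0,0,0,0,0,0,0,0,0,0,0,0,0,0,0,0,0,0,2,1,1,1,1,1,1,1,1,1,1,1,1,1,0,0,2,1,1,1,1,1,1,1,1,1,1,1,1,1,0,2,1,1,1,1,1,1,1,1,1,1,1,1,1,2,1,1,1,1,1,1,1,1,1,1,1,1,1,0,0,0,0,0,0,0,0,0,0,0,0,0,0,0,2,1,1,1,1,1,1,1,1,1,1,1,1,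1,0,0,0,0,0,0,0,2,1,1,1,1,1,1,1,1,1,1,1,1,1,0,0,2,1,1,1,1,1,1,1,1,1,1,1,1,1,0,0,0,0,0,0,0,0,0,0,0,2,1,1,1,1,1,1,1,1,1,1,1,1,1,0,0,0,0,0,0,0,0,0,0,0,0,0,0,0,0,0,0,0,0,0,0,0,0,0,0,0,0,0,0,0,0,0,0,0,0,0,0,0,0,0,0,0,0,0,0,0,0,0,0,0,0,0,0,0,0,0,0,0,0,0,0,0,2,1,1,1,1,1,1,1,1,1,1,1,1,1,0,0,0,0,0,0,0,0,0,0,0,0,0,0,0,0,0,0,0,0,0,0,0,0,0,0,0,0,0,0,0,0,0,0,0,2,1,1,1,1,1,1,1,1,1,1,1,1,1,0,0,0,0,0,0,0,0,0,0,0,0,0,0,0,0,0,0,0,0,0,0,0,0,0,0,0,0,0,0,0,0,0,0,0,0,0,0,0,0,0,0,0,0,2,1,1,1,1,1,1,1,1,1,1,1,1,1,0,0,0,0,0,0,0,0,0,0,0,0,0,0,0,0,0,0,0,0,0,0,0,0,0,0,0,0,0,0,0,0,0,0,0,0,0,0,0,0,0,0,0,0,0,0,0,0,0,0,0,0,0,0,0,0,0,0,0,0,0,0,0,0,0,0,0,0,2,1,1,1,1,1,1,1,1,1,1,1,1,1]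

def o10TrioN : Fin 3 → ℕ
  | ⟨0, _⟩ => 15
  | ⟨1, _⟩ => 420
  | ⟨2, _⟩ => 3360

def o10SextRep : Fin 3 → ℕ
  | ⟨0, _⟩ => 102
  | ⟨1, _⟩ => 30
  | ⟨2, _⟩ => 15

def o10SextTet : Fin 3 → ℕ
  | ⟨0, _⟩ => 1161
  | ⟨1, _⟩ => 3336
  | ⟨2, _⟩ => 1668

def o10SextIns : Fin 3 → List ℕ
  | ⟨0, _⟩ => [1,1,1,1,1,1,0,2,1,1,1,1,1,1,2,1,1,1,1,1,1,0,0,0,0,2,1,1,1,1,1,1,0,2,1,1,1,1,1,1]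
  | ⟨1, _⟩ => [1,1,1,1,1,1,1,1,1,1,1,1,1,2,1,1,1,1,1,1,1,1,1,1,1,1,1,2,1,1,1,1,1,1,1,1,1,1,1,1,1,2,1,1,1,1,1,1,1,1,1,1,1,1,1,2,1,1,1,1,1,1,1,1,1,1,1,1,1,2,1,1,1,1,1,1,1,1,1,1,1,1,1,2,1,1,1,1,1,1,1,1,1,1,1,1,1,2,1,1,1,1,1,1,1,1,1,1,1,1,1,2,1,1,1,1,1,1,1,1,1,1,1,1,1,2,1,1,1,1,1,1,1,1,1,1,1,1,1,2,1,1,1,1,1,1,1,1,1,1,1,1,1,2,1,1,1,1,1,1,1,1,1,1,1,1,1,0,0,2,1,1,1,1,1,1,1,1,1,1,1,1,1,2,1,1,1,1,1,1,1,1,1,1,1,1,1,2,1,1,1,1,1,1,1,1,1,1,1,1,1,2,1,1,1,1,1,1,1,1,1,1,1,1,1,2,1,1,1,1,1,1,0,2,1,1,1,1,1,1,1,1,1,1,1,1,1,0,0,2,1,1,1,1,1,1,1,1,1,1,1,1,1,0,2,1,1,1,1,1,1,1,1,1,1,1,1,1,2,1,1,1,1,1,1,1,1,1,1,1,1,1,0,0,2,1,1,1,1,1,1,1,1,1,1,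1,1,1,2,1,1,1,1,1,1,1,1,1,1,1,1,1,0,2,1,1,1,1,1,1,1,1,1,1,1,1,1,0,2,1,1,1,1,1,1,1,1,1,1,1,1,1,2,1,1,1,1,1,1,1,1,1,1,1,1,1,2,1,1,1,1,1,1,1,1,1,1,1,1,1,0,0,2,1,1,1,1,1,1,2,1,1,1,1,1,1,1,1,1,1,1,1,1,2,1,1,1,1,1,1,1,1,1,1,1,1,1,2,1,1,1,1,1,1,1,1,1,1,1,1,1,2,1,1,1,1,1,1,1,1,1,1,1,1,1,2,1,1,1,1,1,1,1,1,1,1,1,1,1,2,1,1,1,1,1,1,1,1,1,1,1,1,1,2,1,1,1,1,1,1,2,1,1,1,1,1,1,1,1,1,1,1,1,1,0,0,2,1,1,1,1,1,1,1,1,1,1,1,1,1,0,0,0,2,1,1,1,1,1,1,1,1,1,1,1,1,1,2,1,1,1,1,1,1,1,1,1,1,1,1,1,2,1,1,1,1,1,1,1,1,1,1,1,1,1,0,0,2,1,1,1,1,1,1,0,0,0,0,0,0,2,1,1,1,1,1,1,1,1,1,1,1,1,1,0,2,1,1,1,1,1,1,2,1,1,1,1,1,1,1,1,1,1,1,1,1,2,1,1,1,1,1,1,1,1,1,1,1,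1,1,0,0,0,2,1,1,1,1,1,1,1,1,1,1,1,1,1,0,0,0,0,0,0,0,2,1,1,1,1,1,1,1,1,1,1,1,1,1,2,1,1,1,1,1,1,1,1,1,1,1,1,1,0,2,1,1,1,1,1,1,1,1,1,1,1,1,1,0,0,0,0,0,0,2,1,1,1,1,1,1,1,1,1,1,1,1,1,0,0,2,1,1,1,1,1,1,1,1,1,1,1,1,1,0,0,0,0,2,1,1,1,1,1,1,1,1,1,1,1,1,1,0,0,0,0,2,1,1,1,1,1,1,1,1,1,1,1,1,1,0,0,2,1,1,1,1,1,1,1,1,1,1,1,1,1,0,0,0,2,1,1,1,1,1,1,0,0,0,0,0,0,0,0,0,0,0,0,2,1,1,1,1,1,1,1,1,1,1,1,1,1,0,0,0,0,0,0,2,1,1,1,1,1,1,1,1,1,1,1,1,1,0,0,2,1,1,1,1,1,1,1,1,1,1,1,1,1,0,0,0,0,0,2,1,1,1,1,1,1,1,1,1,1,1,1,1,0,0,0,0,0,0,0,0,0,0,0,0,0,0,0,0,0,0,0,0,2,1,1,1,1,1,1,1,1,1,1,1,1,1,0,0,0,0,0,2,1,1,1,1,1,1,1,1,1,1,1,1,1,0,0,0,0,0,0,0,0,0,0,0,2,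1,1,1,1,1,1,1,1,1,1,1,1,1,0,0,0,0,0,0,0,0,0,0,0,0,0,0,0,0,0,0,0,0,0,0,0,0,0,0,0,0,0,0,0,0,0,0,0,0,0,0,0,0,0,0,0,0,0,0,0,0,0,0,0,2,1,1,1,1,1,1,0,0,0,0,0,0,0,0,0,0,0,0,0,0,0,0,0,0,0,0,0,0,0,0,0,0,0,0,0,0,0,0,0,0,0,0,0,0,0,0,0,0,0,0,0,0,0,0,0,0,0,0,0,0,0,0,0,0,0,0,0,0,0,0,0,0,0,0,0,0,0,0,0,0,0,0,0,0,0,0,0,0,2,1,1,1,1,1,1]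
  | ⟨2, _⟩ => [1,1,1,1,1,1,1,1,1,1,1,1,1,2,1,1,1,1,1,1,1,1,1,1,1,1,1,2,1,1,1,1,1,1,1,1,1,1,1,1,1,2,1,1,1,1,1,1,1,1,1,1,1,1,1,2,1,1,1,1,1,1,1,1,1,1,1,1,1,2,1,1,1,1,1,1,1,1,1,1,1,1,1,2,1,1,1,1,1,1,1,1,1,1,1,1,1,0,0,0,0,2,1,1,1,1,1,1,1,1,1,1,1,1,1,2,1,1,1,1,1,1,1,1,1,1,1,1,1,2,1,1,1,1,1,1,1,1,1,1,1,1,1,2,1,1,1,1,1,1,1,1,1,1,1,1,1,2,1,1,1,1,1,1,1,1,1,1,1,1,1,0,0,2,1,1,1,1,1,1,1,1,1,1,1,1,1,2,1,1,1,1,1,1,1,1,1,1,1,1,1,2,1,1,1,1,1,1,1,1,1,1,1,1,1,2,1,1,1,1,1,1,1,1,1,1,1,1,1,2,1,1,1,1,1,1,1,1,1,1,1,1,1,2,1,1,1,1,1,1,1,1,1,1,1,1,1,2,1,1,1,1,1,1,1,1,1,1,1,1,1,2,1,1,1,1,1,1,1,1,1,1,1,1,1,2,1,1,1,1,1,1,1,1,1,1,1,1,1,2,1,1,1,1,1,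1,1,1,1,1,1,1,1,2,1,1,1,1,1,1,1,1,1,1,1,1,1,2,1,1,1,1,1,1,1,1,1,1,1,1,1,2,1,1,1,1,1,1,1,1,1,1,1,1,1,0,2,1,1,1,1,1,1,1,1,1,1,1,1,1,2,1,1,1,1,1,1,1,1,1,1,1,1,1,2,1,1,1,1,1,1,1,1,1,1,1,1,1,0,2,1,1,1,1,1,1,1,1,1,1,1,1,1,2,1,1,1,1,1,1,1,1,1,1,1,1,1,0,2,1,1,1,1,1,1,1,1,1,1,1,1,1,0,0,0,0,2,1,1,1,1,1,1,1,1,1,1,1,1,1,0,2,1,1,1,1,1,1,1,1,1,1,1,1,1,2,1,1,1,1,1,1,1,1,1,1,1,1,1,0,2,1,1,1,1,1,1,1,1,1,1,1,1,1,2,1,1,1,1,1,1,1,1,1,1,1,1,1,0,0,0,0,0,0,0,2,1,1,1,1,1,1,1,1,1,1,1,1,1,0,2,1,1,1,1,1,1,1,1,1,1,1,1,1,2,1,1,1,1,1,1,1,1,1,1,1,1,1,2,1,1,1,1,1,1,1,1,1,1,1,1,1,2,1,1,1,1,1,1,1,1,1,1,1,1,1,0,2,1,1,1,1,1,1,1,1,1,1,1,1,1,0,0,0,2,1,1,1,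1,1,1,1,1,1,1,1,1,1,2,1,1,1,1,1,1,1,1,1,1,1,1,1,0,0,0,2,1,1,1,1,1,1,1,1,1,1,1,1,1,2,1,1,1,1,1,1,1,1,1,1,1,1,1,0,0,0,0,0,0,0,2,1,1,1,1,1,1,1,1,1,1,1,1,1,0,0,0,0,0,2,1,1,1,1,1,1,1,1,1,1,1,1,1,0,0,0,0,0,2,1,1,1,1,1,1,1,1,1,1,1,1,1,0,0,2,1,1,1,1,1,1,1,1,1,1,1,1,1,0,0,0,0,0,2,1,1,1,1,1,1,1,1,1,1,1,1,1,0,2,1,1,1,1,1,1,1,1,1,1,1,1,1,0,0,0,0,0,0,0,0,0,0,0,0,0,0,0,2,1,1,1,1,1,1,1,1,1,1,1,1,1,0,2,1,1,1,1,1,1,1,1,1,1,1,1,1,0,0,0,0,0,0,0,0,2,1,1,1,1,1,1,1,1,1,1,1,1,1,0,0,2,1,1,1,1,1,1,1,1,1,1,1,1,1,2,1,1,1,1,1,1,1,1,1,1,1,1,1,2,1,1,1,1,1,1,1,1,1,1,1,1,1,0,0,0,0,0,0,0,0,0,0,2,1,1,1,1,1,1,1,1,1,1,1,1,1,0,0,0,0,0,2,1,1,1,1,1,1,1,1,1,1,1,1,1,0,0,0,0,0,2,1,1,1,1,1,1,1,1,1,1,1,1,1,0,0,0,0,0,0,0,0,0,0,0,0,0,0,0,0,0,0,0,0,0,0,0,0,2,1,1,1,1,1,1,1,1,1,1,1,1,1,0,0,0,0,2,1,1,1,1,1,1,1,1,1,1,1,1,1,0,0,0,0,0,0,0,0,0,0,0,0,0,0,0,0,0,0,0,0,0,0,0,0,0,0,0,0,0,0,0,0,0,0,0,0,0,0,0,0,0,0,0,2,1,1,1,1,1,1,1,1,1,1,1,1,1]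

def o10SextN : Fin 3 → ℕ
  | ⟨0, _⟩ => 35
  | ⟨1, _⟩ => 840
  | ⟨2, _⟩ => 896

set_option maxRecDepth 1000000 in
theorem o10_trio_checks : (∀ i, isTrioK (o10TrioRep i) = true) ∧
    nodupBy key3 (List.flatten (List.ofFn fun i =>
      orbGen actT3 stabOGens (o10TrioIns i) (o10TrioRep i))) 0 = true ∧
    ∀ i, (orbGen actT3 stabOGens (o10TrioIns i) (o10TrioRep i)).length = o10TrioN i := by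
  decide +kernel

set_option maxRecDepth 1000000 in
theorem o10_sext_checks : (∀ i, Nat.beq (popcF (o10SextTet i)) 4 = true ∧
      Nat.ble (Nat.succ (o10SextTet i)) 16777216 = true ∧
      Nat.beq (syn (o10SextTet i)) (o10SextRep i) = true) ∧
    nodupBy id (List.flatten (List.ofFn fun i =>
      orbGen actS stabOGens (o10SextIns i) (o10SextRep i))) 0 = true ∧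
    ∀ i, (orbGen actS stabOGens (o10SextIns i) (o10SextRep i)).length = o10SextN i := by
  decide +kernel

end Cfsg.Agent.Lib.helper4
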