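import Mathlib
import Cfsg.Prelude.Def_Sporadic_a
import Cfsg.Prelude.Def_SporadicCombinatorics
import Cfsg.Agent.Lib.helper4.OctadOrbits

set_option autoImplicit false

namespace Cfsg.Agent.Lib.helper4

open Cfsg MulAction
open scoped Pointwise
open Cfsg.Agent.Lib.Helper12.Golay

theorem fs_o₀_mem : fs o₀ ∈ octads :=
  (isOctK_spec (m := o₀) (by decide +kernel)).2

theorem stabOGens_mem : ∀ T ∈ stabOGens, ValidT T ∧
    ∃ h : permT T ∈ M24, (⟨permT T, h⟩ : M24) ∈ stabilizer M24 (fs o₀) := by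
  intro T hT
  obtain ⟨hv, hM, hS⟩ := stabOGens_ok T hT
  exact ⟨hv, hM, hS⟩

theorem o10_arith_trio : ∀ (I : Finset (Fin 3)) (i : Fin 3), i ∈ I →
    (∑ j ∈ I, o10TrioN j) ∣ 322560 → I = {i} := by decide

theorem o10_arith_sext : ∀ (I : Finset (Fin 3)) (i : Fin 3), i ∈ I →
    (∑ j ∈ I, o10SextN j) ∣ 322560 → I = {i} := by decide

theorem octad_orbits_trios_sextets (o : Finset GolayPt) (ho : o ∈ octads) :
    (∃ X₁ ∈ trios, ∃ X₂ ∈ trios, ∃ X₃ ∈ trios,
      (orbit ↥(stabilizer M24 o) X₁).ncard = 15 ∧ (orbit ↥(stabilizer M24 o) X₂).ncard = 420 ∧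
      (orbit ↥(stabilizer M24 o) X₃).ncard = 3360 ∧
      trios = orbit ↥(stabilizer M24 o) X₁ ∪ orbit ↥(stabilizer M24 o) X₂ ∪
        orbit ↥(stabilizer M24 o) X₃) ∧
    (∃ Y₁ ∈ sextets, ∃ Y₂ ∈ sextets, ∃ Y₃ ∈ sextets,
      (orbit ↥(stabilizer M24 o) Y₁).ncard = 35 ∧ (orbit ↥(stabilizer M24 o) Y₂).ncard = 840 ∧
      (orbit ↥(stabilizer M24 o) Y₃).ncard = 896 ∧
      sextets = orbit ↥(stabilizer M24 o) Y₁ ∪ orbit ↥(stabilizer M24 o) Y₂ ∪
        orbit ↥(stabilizer M24 o) Y₃) := by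
  have hK : Nat.card ↥(stabilizer M24 (fs o₀)) = 322560 := card_stab_octad (fs o₀) fs_o₀_mem
  have hko : ∃ k : M24, k • fs o₀ = o := by
    obtain ⟨k, hk, hko⟩ := octads_transitive o ho
    exact ⟨⟨k, hk⟩, hko⟩
  constructor
  · obtain ⟨h1, h2, h3⟩ := o10_trio_checks
    obtain ⟨hc, hF⟩ := trio_orbits (stabilizer M24 (fs o₀)) stabOGens stabOGens_mem o10TrioIns
      o10TrioN (by rw [hK]; exact o10_arith_trio) o10TrioRep h1 h2 h3 (by decide)
    have hmem : ∀ i, D3 (o10TrioRep i) ∈ trios := fun i => (isTrioK_spec (h1 i)).2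
    exact three_orbits_transport (M := M24) (fs o₀) trios
      (fun g y hy => Cfsg.Agent.S1557.smul_trios g y hy) _ _ _ (hmem 0) (hmem 1) (hmem 2)
      15 420 3360 (hc 0) (hc 1) (hc 2) (by
        intro y
        rw [hF y]
        constructor
        · rintro ⟨i, hi⟩
          fin_cases i
          · exact Or.inl hi
          · exact Or.inr (Or.inl hi)
          · exact Or.inr (Or.inr hi)
        · rintro (h | h | h)
          · exact ⟨0, h⟩
          · exact ⟨1, h⟩
          · exact ⟨2, h⟩) o hko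
  · obtain ⟨h1, h2, h3⟩ := o10_sext_checks
    have hs : ∀ i, IsSext (o10SextRep i) := fun i => isSext_of_checks (h1 i)
    obtain ⟨hc, hF⟩ := sextet_orbits (stabilizer M24 (fs o₀)) stabOGens stabOGens_mem o10SextIns
      o10SextN (by rw [hK]; exact o10_arith_sext) o10SextRep hs h2 h3 (by decide)
    have hmem : ∀ i, sextetOfSyn (o10SextRep i) ∈ sextets := fun i => sextetOfSyn_mem (hs i)
    exact three_orbits_transport (M := M24) (fs o₀) sextets
      (fun g y hy => smul_sextets g.2 hy) _ _ _ (hmem 0) (hmem 1) (hmem 2)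
      35 840 896 (hc 0) (hc 1) (hc 2) (by
        intro y
        rw [hF y]
        constructor
        · rintro ⟨i, hi⟩
          fin_cases i
          · exact Or.inl hi
          · exact Or.inr (Or.inl hi)
          · exact Or.inr (Or.inr hi)
        · rintro (h | h | h)
          · exact ⟨0, h⟩
          · exact ⟨1, h⟩
          · exact ⟨2, h⟩) o hko

end Cfsg.Agent.Lib.helper4
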