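import Mathlib
import Cfsg.Prelude.Def_Sporadic_a
import Cfsg.Agent.Lib.helper4.M24Rigid
import Cfsg.Agent.Lib.helper4.OctadGraph

set_option autoImplicit false

namespace Cfsg.Agent.Lib.helper4

open Cfsg
open scoped Pointwise
open Cfsg.Agent.Lib.helper3

/-! ### The joint stabiliser of two octads meeting in two points acts faithfully on the six
points of the first octad outside the second -/

theorem gidx_eq_idx (p : GolayPt) : gidx p = Cfsg.Agent.Lib.Helper12.Golay.idx p := by
  cases p <;> rfl

theorem gset_eq_fs (m : ℕ) : gset m = Cfsg.Agent.Lib.Helper12.Golay.fs m := by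
  ext p
  rw [mem_gset, Cfsg.Agent.Lib.Helper12.Golay.mem_fs, gidx_eq_idx]

/-- Mask of the octad through the first five base points. -/
def obM : ℕ := 13062145
/-- Mask of an octad meeting `obM` in the points `22`, `23`. -/
def obM' : ℕ := 14688364

def kerSixCheck : Bool :=
  (List.range 24).all fun q5 => (List.range 24).all fun q6 =>
    !(m24Orb.getD 5 0).testBit q5 || !(m24Orb.getD 6 0).testBit q6 ||
      (compTbl (findTbl 5 q5) (findTbl 6 q6) == List.range 24) ||
      ((compTbl (findTbl 5 q5) (findTbl 6 q6)).getD 18 0 != 18) ||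
      !((List.range 24).all fun i => !obM'.testBit i ||
        obM'.testBit ((compTbl (findTbl 5 q5) (findTbl 6 q6)).getD i 0))

set_option maxRecDepth 1000000 in
theorem kerSixCheck_true : kerSixCheck = true := by decide +kernel

theorem base_mem_diff : ∀ j : Fin 7, j.val < 5 ∨ j.val = 6 →
    obM.testBit (bIdx j) = true ∧ obM'.testBit (bIdx j) = false := by decide

theorem kerSix_base {g : Equiv.Perm GolayPt} (hg : g ∈ M24)
    (hfix : ∀ p ∈ gset obM \ gset obM', g p = p) (hst : g • gset obM' = gset obM') : g = 1 := by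
  have hfixb : ∀ j : Fin 7, j.val < 5 ∨ j.val = 6 → g (bpt j) = bpt j := by
    intro j hj
    apply hfix
    obtain ⟨h1, h2⟩ := base_mem_diff j hj
    rw [Finset.mem_sdiff, mem_gset, mem_gset, gidx_bpt, h1, h2]
    simp
  have hK : g ∈ Kfix 5 := by
    rw [mem_Kfix]
    exact ⟨hg, fun j hj => hfixb ⟨j, by omega⟩ (Or.inl hj)⟩
  obtain ⟨q5, q6, h5, h6, ho5, ho6, hgT⟩ := Kfix5_tbl hK
  have hc := kerSixCheck_true
  unfold kerSixCheck at hc
  rw [List.all_eq_true] at hc
  have h1 := hc q5 (List.mem_range.2 h5)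
  rw [List.all_eq_true] at h1
  have h2 := h1 q6 (List.mem_range.2 h6)
  rw [ho5, ho6] at h2
  simp only [Bool.not_true, Bool.false_or, Bool.or_eq_true, beq_iff_eq, bne_iff_ne,
    Bool.not_eq_true', List.all_eq_false] at h2
  have hv5 := (tblCheck_spec (exists_level_tbl (i := 5) (by norm_num) h5 ho5).1).2.1
  set T := compTbl (findTbl 5 q5) (findTbl 6 q6) with hT
  have hTlt : ∀ i, i < 24 → T.getD i 0 < 24 := by
    intro i hi
    rw [hT, compTbl_getD _ _ hi]
    exact getD_lt_of_valid hv5 _
  rcases h2 with (h2 | h2) | h2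
  · ext p
    rw [hgT, h2, tblFun_range]
    rfl
  · exfalso
    apply h2
    have h3 := hfixb ⟨6, by norm_num⟩ (Or.inr rfl)
    rw [hgT] at h3
    have h4 : bpt 6 = gpt 18 := rfl
    rw [h4, tblFun_gpt (by norm_num)] at h3
    have h5' := congrArg gidx h3
    rw [gidx_gpt (hTlt 18 (by norm_num)), gidx_gpt (by norm_num)] at h5'
    exact h5'
  · exfalso
    obtain ⟨i, hi, hbad⟩ := h2
    rw [List.mem_range] at hi
    simp only [Bool.or_eq_true, Bool.not_eq_true', not_or, Bool.not_eq_false,
      Bool.not_eq_true] at hbad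
    obtain ⟨hb1, hb2⟩ := hbad
    have hmem : gpt i ∈ gset obM' := by rw [mem_gset, gidx_gpt hi]; exact hb1
    have hmem2 : g (gpt i) ∈ gset obM' := by
      rw [← hst]
      exact Finset.smul_mem_smul_finset hmem
    rw [hgT, tblFun_gpt hi, mem_gset, gidx_gpt (hTlt i hi), hb2] at hmem2
    exact Bool.false_ne_true hmem2

end Cfsg.Agent.Lib.helper4

namespace Cfsg.Agent.Lib.helper4

open Cfsg
open scoped Pointwise
open Cfsg.Agent.Lib.helper3

theorem gset_obM_mem : gset obM ∈ octads := by
  rw [gset_eq_fs]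
  exact fs_mem_octads_of (by decide) (by decide +kernel) (by decide +kernel)

theorem gset_obM'_mem : gset obM' ∈ octads := by
  rw [gset_eq_fs]
  exact fs_mem_octads_of (by decide) (by decide +kernel) (by decide +kernel)

theorem gset_obM_inter : (gset obM ∩ gset obM').card = 2 := by
  rw [gset_eq_fs, gset_eq_fs, ← Cfsg.Agent.Lib.Helper12.Golay.fs_and,
    Cfsg.Agent.Lib.Helper12.Golay.card_fs]
  decide

/-- Two pairs of octads with the same intersection size are conjugate. -/
theorem octad_pairs_conj (o o' x x' : Finset GolayPt) (ho : o ∈ octads) (ho' : o' ∈ octads)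
    (hx : x ∈ octads) (hx' : x' ∈ octads) (h : (o ∩ o').card = (x ∩ x').card) :
    ∃ k ∈ M24, k • x = o ∧ k • x' = o' := by
  obtain ⟨g1, hg1, h1, h1'⟩ := octad_pair_rep o o' ho ho'
  obtain ⟨g2, hg2, h2, h2'⟩ := octad_pair_rep x x' hx hx'
  rw [h] at h1'
  refine ⟨g1 * g2⁻¹, M24.mul_mem hg1 (M24.inv_mem hg2), ?_, ?_⟩
  · rw [mul_smul, ← h2, inv_smul_smul, h1]
  · rw [mul_smul, ← h2', inv_smul_smul, h1']

/-- An element of the group of the code which stabilises an octad `o'` and fixes every point of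
`o \ o'`, where `o` is an octad meeting `o'` in two points, is the identity. -/
theorem kerSix (o o' : Finset GolayPt) (ho : o ∈ octads) (ho' : o' ∈ octads)
    (h2 : (o ∩ o').card = 2) {g : Equiv.Perm GolayPt} (hg : g ∈ M24)
    (hfix : ∀ p ∈ o \ o', g p = p) (hst : g • o' = o') : g = 1 := by
  obtain ⟨k, hk, hko, hko'⟩ := octad_pairs_conj o o' (gset obM) (gset obM') ho ho' gset_obM_mem
    gset_obM'_mem (by rw [h2, gset_obM_inter])
  have h1 : k⁻¹ * g * k = 1 := by
    apply kerSix_base (M24.mul_mem (M24.mul_mem (M24.inv_mem hk) hg) hk)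
    · intro p hp
      rw [Finset.mem_sdiff] at hp
      have hkp : k p ∈ o \ o' := by
        rw [Finset.mem_sdiff, ← hko, ← hko']
        constructor
        · exact Finset.smul_mem_smul_finset hp.1
        · intro hc
          exact hp.2 ((Finset.smul_mem_smul_finset_iff k).mp hc)
      rw [Equiv.Perm.mul_apply, Equiv.Perm.mul_apply, hfix _ hkp]
      simp
    · rw [mul_smul, mul_smul, hko', hst, ← hko', inv_smul_smul]
  calc g = k * (k⁻¹ * g * k) * k⁻¹ := by group
    _ = 1 := by rw [h1]; group

theorem mem_sdiff_iff_of_stab {g : Equiv.Perm GolayPt} {o o' : Finset GolayPt} (h1 : g • o = o)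
    (h2 : g • o' = o') (x : GolayPt) : g x ∈ o \ o' ↔ x ∈ o \ o' := by
  have e1 : g x ∈ o ↔ x ∈ o := by
    conv_lhs => rw [← h1]
    exact Finset.smul_mem_smul_finset_iff g
  have e2 : g x ∈ o' ↔ x ∈ o' := by
    conv_lhs => rw [← h2]
    exact Finset.smul_mem_smul_finset_iff g
  rw [Finset.mem_sdiff, Finset.mem_sdiff, e1, e2]

/-- The action of the joint stabiliser of two sets `o`, `o'` on `o \ o'`. -/
noncomputable def sixHom (o o' : Finset GolayPt) :
    ↥(MulAction.stabilizer M24 o ⊓ MulAction.stabilizer M24 o') →* Equiv.Perm ↥(o \ o') :=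
  MonoidHom.mk' (fun g => (g.1.1 : Equiv.Perm GolayPt).subtypePerm
    (mem_sdiff_iff_of_stab (g := g.1.1) g.2.1 g.2.2)) (by
    intro a b
    ext x
    rfl)

theorem sixHom_apply (o o' : Finset GolayPt)
    (g : ↥(MulAction.stabilizer M24 o ⊓ MulAction.stabilizer M24 o')) (x : ↥(o \ o')) :
    ((sixHom o o' g) x : GolayPt) = g.1.1 x.1 := rfl

theorem sixHom_injective (o o' : Finset GolayPt) (ho : o ∈ octads) (ho' : o' ∈ octads)
    (h2 : (o ∩ o').card = 2) : Function.Injective (sixHom o o') := by
  rw [injective_iff_map_eq_one]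
  intro g hg1
  have h1 : (g.1.1 : Equiv.Perm GolayPt) = 1 := by
    apply kerSix o o' ho ho' h2 g.1.2
    · intro p hp
      have := sixHom_apply o o' g ⟨p, hp⟩
      rw [hg1] at this
      exact this.symm
    · exact g.2.2
  apply Subtype.ext
  apply Subtype.ext
  exact h1

/-- The joint stabiliser of two octads meeting in two points is isomorphic to the symmetric
group of degree 6. -/
theorem joint_stab_two_iso (o o' : Finset GolayPt) (ho : o ∈ octads) (ho' : o' ∈ octads)
    (h2 : (o ∩ o').card = 2) :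
    Nonempty (↥(MulAction.stabilizer M24 o ⊓ MulAction.stabilizer M24 o') ≃* Equiv.Perm (Fin 6)) := by
  have hcard : Nat.card ↥(MulAction.stabilizer M24 o ⊓ MulAction.stabilizer M24 o') = 720 := by
    have h1 := card_joint_stab_mul o o' ho ho'
    rw [h2, octad_pair_count_two o ho] at h1
    omega
  have h6 : (o \ o').card = 6 := by
    have := Finset.card_sdiff_add_card_inter o o'
    rw [h2, ho.2] at this
    omega
  have hperm : Nat.card (Equiv.Perm ↥(o \ o')) = 720 := by
    rw [Nat.card_eq_fintype_card, Fintype.card_perm, Fintype.card_coe, h6]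
    rfl
  have hbij : Function.Bijective (sixHom o o') :=
    (sixHom_injective o o' ho ho' h2).bijective_of_nat_card_le (by rw [hcard, hperm])
  have e1 := MulEquiv.ofBijective (sixHom o o') hbij
  have e2 : ↥(o \ o') ≃ Fin 6 := Fintype.equivFinOfCardEq (by rw [Fintype.card_coe, h6])
  exact ⟨e1.trans e2.permCongrHom⟩

end Cfsg.Agent.Lib.helper4
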