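import Mathlib
import Cfsg.Prelude.Def_Sporadic_a
import Cfsg.Prelude.Def_SporadicCombinatorics
import Cfsg.Agent.Lib.helper4.OctadGraph

set_option autoImplicit false

namespace Cfsg.Agent.Lib.helper4

open Cfsg
open scoped Pointwise
open Cfsg.Agent.Lib.Helper12.Golay

/-! ### Triples of octads: two octads disjoint from a third and meeting in four points -/

/-- Mask of a standard octad disjoint from the standard octad. -/
def a₀ : ℕ := 1009728
/-- Mask of a second standard octad disjoint from the standard octad, meeting `a₀` in four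
points. -/
def b₀ : ℕ := 1256224

/-- The joint stabiliser of the standard octad and the octad `a₀`. -/
def stabOA : Subgroup (Equiv.Perm GolayPt) :=
  stabO ⊓ MulAction.stabilizer (Equiv.Perm GolayPt) (fs a₀)

/-- Inverse tables of two elements of `stabOA`. -/
def stabOAGens : List (List ℕ) := [[1,4,2,7,3,5,18,10,23,8,12,16,0,19,6,9,14,17,13,11,15,20,21,22],[12,0,7,1,10,20,11,4,8,9,2,19,3,18,13,22,6,14,17,16,5,21,15,23]]

theorem stabOAGens_ok : ∀ T ∈ stabOAGens, ValidT T ∧ permT T ∈ stabOA := by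
  have h : ∀ T ∈ stabOAGens, okK T = true ∧ actK T o₀ = o₀ ∧ actK T a₀ = a₀ := by decide +kernel
  intro T hT
  obtain ⟨h1, h2, h3⟩ := h T hT
  exact ⟨okK_valid h1, ⟨permT_mem_M24' h1, permT_mem_stabilizer_fs (okK_valid h1) (by decide) h2⟩,
    permT_mem_stabilizer_fs (okK_valid h1) (by decide) h3⟩

theorem stabOA_le : stabOA ≤ M24 := inf_le_left.trans stabO_le

/-- Class values, representatives and instructions for the orbits of `stabOA` on the octads
disjoint from the standard octad. -/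
def tripleReps : List (ℕ × ℕ × List ℕ) := [(8, 1009728, []), (0, 15762208, []),
  (4, 1256224, [1,1,1,1,1,1,2,1,1,1,1,1,1,2,1,1,1,1,1,1,2,1,1,1,1,1,1])]

theorem tripleReps_ok : allL tripleReps (repOK stabOAGens 8 (fun m => Nat.beq (Nat.land o₀ m) 0)
    (fun m => popcF (Nat.land a₀ m))) = true := by decide +kernel

theorem tripleCases_ok : casesOK 8 (fun m => Nat.beq (Nat.land o₀ m) 0)
    (fun m => popcF (Nat.land a₀ m)) (tripleReps.map fun r => r.1) = true := by decide +kernel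

theorem repOf_zero : repOf pairReps 0 = a₀ := by decide

theorem repOf_triple_four : repOf tripleReps 4 = b₀ := by decide

/-- Three octads, the last two disjoint from the first and meeting in four points, are the
image of the standard triple. -/
theorem octad_triple_rep (o a b : Finset GolayPt) (ho : o ∈ octads) (ha : a ∈ octads)
    (hb : b ∈ octads) (hoa : Disjoint o a) (hob : Disjoint o b) (hab : (a ∩ b).card = 4) :
    ∃ g ∈ M24, g • fs o₀ = o ∧ g • fs a₀ = a ∧ g • fs b₀ = b := by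
  obtain ⟨k, hk, hko, hka⟩ := octad_pair_rep o a ho ha
  have h0 : (o ∩ a).card = 0 := by
    rw [Finset.card_eq_zero]; exact Finset.disjoint_iff_inter_eq_empty.mp hoa
  rw [h0, repOf_zero] at hka
  subst hko hka
  have hb' : k⁻¹ • b ∈ octads := smul_mem_octads (M24.inv_mem hk) hb
  have hd : Disjoint (fs o₀) (k⁻¹ • b) := by
    rw [← disjoint_smul_finset_iff k, smul_inv_smul]; exact hob
  have hc : (fun m => Nat.beq (Nat.land o₀ m) 0) (mask (k⁻¹ • b)) = true := by
    show Nat.beq (Nat.land o₀ (mask (k⁻¹ • b))) 0 = true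
    rw [land_eq_zero_of_disjoint (by decide) _ hd]
    rfl
  obtain ⟨g, hg, hg2⟩ := classes_rep stabOA stabOA_le stabOAGens stabOAGens_ok 8
    (fun m => Nat.beq (Nat.land o₀ m) 0) (fun m => popcF (Nat.land a₀ m)) tripleReps
    tripleReps_ok tripleCases_ok (k⁻¹ • b) hb' hc
  have h4 : popcF (Nat.land a₀ (mask (k⁻¹ • b))) = 4 := by
    rw [← card_fs_inter (by decide), ← card_smul_inter k (fs a₀) (k⁻¹ • b), smul_inv_smul]
    exact hab
  rw [h4, repOf_triple_four] at hg2
  refine ⟨k * g, M24.mul_mem hk (stabOA_le hg), ?_, ?_, ?_⟩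
  · rw [mul_smul]
    have : g • fs o₀ = fs o₀ := hg.1.2
    rw [this]
  · rw [mul_smul]
    have : g • fs a₀ = fs a₀ := hg.2
    rw [this]
  · rw [mul_smul, hg2, smul_inv_smul]

end Cfsg.Agent.Lib.helper4

namespace Cfsg.Agent.Lib.helper4

open Cfsg
open scoped Pointwise
open Cfsg.Agent.Lib.Helper12.Golay

theorem card_golayPt_fin : Fintype.card GolayPt = 24 := by
  rw [Fintype.card_option, ZMod.card]

/-- A trio is determined by two of its octads. -/
theorem trio_eq (T : Finset (Finset GolayPt)) (hT : T ∈ trios) (o a : Finset GolayPt)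
    (ho : o ∈ T) (ha : a ∈ T) (hne : o ≠ a) : T = {o, a, (o ∪ a)ᶜ} := by
  obtain ⟨h3, hoct, hdis⟩ := hT
  have hc : ((T.erase o).erase a).card = 1 := by
    rw [Finset.card_erase_of_mem (Finset.mem_erase.mpr ⟨Ne.symm hne, ha⟩),
      Finset.card_erase_of_mem ho, h3]
  obtain ⟨c, hcmem⟩ := Finset.card_pos.mp (by omega : 0 < ((T.erase o).erase a).card)
  rw [Finset.mem_erase, Finset.mem_erase] at hcmem
  obtain ⟨hca, hco, hcT⟩ := hcmem
  have hoa : Disjoint o a := hdis o ho a ha hne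
  have hoc : Disjoint o c := hdis o ho c hcT (Ne.symm hco)
  have hac : Disjoint a c := hdis a ha c hcT (Ne.symm hca)
  have hsub : c ⊆ (o ∪ a)ᶜ := by
    intro x hx
    rw [Finset.mem_compl, Finset.mem_union, not_or]
    exact ⟨fun h => Finset.disjoint_left.mp hoc h hx, fun h => Finset.disjoint_left.mp hac h hx⟩
  have hcc : c = (o ∪ a)ᶜ := by
    apply Finset.eq_of_subset_of_card_le hsub
    rw [Finset.card_compl, card_golayPt_fin, Finset.card_union_of_disjoint hoa, (hoct o ho).2,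
      (hoct a ha).2, (hoct c hcT).2]
  rw [← hcc]
  symm
  apply Finset.eq_of_subset_of_card_le
  · intro x hx
    rw [Finset.mem_insert, Finset.mem_insert, Finset.mem_singleton] at hx
    rcases hx with rfl | rfl | rfl
    · exact ho
    · exact ha
    · exact hcT
  · rw [h3, Finset.card_insert_of_notMem, Finset.card_insert_of_notMem, Finset.card_singleton]
    · simpa using Ne.symm hca
    · simp only [Finset.mem_insert, Finset.mem_singleton, not_or]
      exact ⟨hne, Ne.symm hco⟩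

theorem smul_trio_eq (g : Equiv.Perm GolayPt) (o a : Finset GolayPt) :
    g • ({o, a, (o ∪ a)ᶜ} : Finset (Finset GolayPt)) = {g • o, g • a, (g • o ∪ g • a)ᶜ} := by
  rw [Finset.smul_finset_insert, Finset.smul_finset_insert, Finset.smul_finset_singleton,
    Finset.compl_eq_univ_sdiff, Finset.smul_finset_sdiff, Finset.smul_finset_univ,
    Finset.smul_finset_union, ← Finset.compl_eq_univ_sdiff]

/-- A second octad of a trio containing `o`. -/
theorem exists_other (T : Finset (Finset GolayPt)) (hT : T ∈ trios) (o : Finset GolayPt)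
    (ho : o ∈ T) : ∃ a ∈ T, a ≠ o := by
  have hc : (T.erase o).card = 2 := by rw [Finset.card_erase_of_mem ho, hT.1]
  obtain ⟨a, ha⟩ := Finset.card_pos.mp (by omega : 0 < (T.erase o).card)
  rw [Finset.mem_erase] at ha
  exact ⟨a, ha.2, ha.1⟩

/-- Octads of two distinct trios through `o`, other than `o`, meet in four points. -/
theorem inter_four_of_trios (o : Finset GolayPt) (T₁ T₂ : Finset (Finset GolayPt))
    (h₁ : T₁ ∈ trios) (h₂ : T₂ ∈ trios) (ho₁ : o ∈ T₁) (ho₂ : o ∈ T₂) (hne : T₁ ≠ T₂)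
    (a b : Finset GolayPt) (ha : a ∈ T₁) (hb : b ∈ T₂) (hao : a ≠ o) (hbo : b ≠ o) :
    (a ∩ b).card = 4 := by
  have e₁ := trio_eq T₁ h₁ o a ho₁ ha (Ne.symm hao)
  have e₂ := trio_eq T₂ h₂ o b ho₂ hb (Ne.symm hbo)
  have hbT : b ∉ T₁ := by
    intro hbT
    apply hne
    rw [e₂]
    exact trio_eq T₁ h₁ o b ho₁ hbT (Ne.symm hbo)
  have hcT : (o ∪ a)ᶜ ∈ T₁ := by
    rw [e₁]; simp
  have hoo : o ∈ octads := h₁.2.1 o ho₁
  have hao' : a ∈ octads := h₁.2.1 a ha
  have hbo' : b ∈ octads := h₂.2.1 b hb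
  have hco : (o ∪ a)ᶜ ∈ octads := h₁.2.1 _ hcT
  have hob : Disjoint o b := h₂.2.2 o ho₂ b hb (Ne.symm hbo)
  have hoa : Disjoint o a := h₁.2.2 o ho₁ a ha (Ne.symm hao)
  -- b is contained in a ∪ c
  have hsplit : (a ∩ b).card + ((o ∪ a)ᶜ ∩ b).card = 8 := by
    have h1 : (a ∩ b) ∪ ((o ∪ a)ᶜ ∩ b) = b := by
      ext x
      simp only [Finset.mem_union, Finset.mem_inter, Finset.mem_compl, not_or]
      constructor
      · rintro (⟨_, h⟩ | ⟨_, h⟩) <;> exact h
      · intro hx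
        by_cases hxa : x ∈ a
        · exact Or.inl ⟨hxa, hx⟩
        · exact Or.inr ⟨⟨fun h => Finset.disjoint_left.mp hob h hx, hxa⟩, hx⟩
    have h2 : Disjoint (a ∩ b) ((o ∪ a)ᶜ ∩ b) := by
      rw [Finset.disjoint_left]
      intro x hx hx'
      rw [Finset.mem_inter] at hx hx'
      rw [Finset.mem_compl, Finset.mem_union, not_or] at hx'
      exact hx'.1.2 hx.1
    rw [← Finset.card_union_of_disjoint h2, h1, hbo'.2]
  rcases octad_inter_cases a b hao' hbo' with h | h | h | h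
  · exfalso
    apply hbT
    have h1 : a ∩ b = a := Finset.eq_of_subset_of_card_le Finset.inter_subset_left (by rw [h, hao'.2])
    have h2 : a ∩ b = b := Finset.eq_of_subset_of_card_le Finset.inter_subset_right (by rw [h, hbo'.2])
    rw [← h2, h1]; exact ha
  · exact h
  · exfalso
    rcases octad_inter_cases _ b hco hbo' with h' | h' | h' | h' <;> omega
  · exfalso
    apply hbT
    have h8 : ((o ∪ a)ᶜ ∩ b).card = 8 := by omega
    have h1 : (o ∪ a)ᶜ ∩ b = (o ∪ a)ᶜ :=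
      Finset.eq_of_subset_of_card_le Finset.inter_subset_left (by rw [h8, hco.2])
    have h2 : (o ∪ a)ᶜ ∩ b = b :=
      Finset.eq_of_subset_of_card_le Finset.inter_subset_right (by rw [h8, hbo'.2])
    rw [← h2, h1]; exact hcT

/-- The stabiliser of an octad is doubly transitive on the trios containing it. -/
theorem trios_two_trans (o : Finset GolayPt) (T₁ T₂ T₁' T₂' : Finset (Finset GolayPt))
    (h₁ : T₁ ∈ trios) (h₂ : T₂ ∈ trios) (h₁' : T₁' ∈ trios) (h₂' : T₂' ∈ trios) (ho₁ : o ∈ T₁)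
    (ho₂ : o ∈ T₂) (ho₁' : o ∈ T₁') (ho₂' : o ∈ T₂') (hne : T₁ ≠ T₂) (hne' : T₁' ≠ T₂') :
    ∃ g ∈ M24, g • o = o ∧ g • T₁ = T₁' ∧ g • T₂ = T₂' := by
  obtain ⟨a, ha, hao⟩ := exists_other T₁ h₁ o ho₁
  obtain ⟨b, hb, hbo⟩ := exists_other T₂ h₂ o ho₂
  obtain ⟨a', ha', hao'⟩ := exists_other T₁' h₁' o ho₁'
  obtain ⟨b', hb', hbo'⟩ := exists_other T₂' h₂' o ho₂'
  have hab := inter_four_of_trios o T₁ T₂ h₁ h₂ ho₁ ho₂ hne a b ha hb hao hbo
  have hab' := inter_four_of_trios o T₁' T₂' h₁' h₂' ho₁' ho₂' hne' a' b' ha' hb' hao' hbo'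
  have hoo : o ∈ octads := h₁.2.1 o ho₁
  obtain ⟨g1, hg1, e1, e2, e3⟩ := octad_triple_rep o a b hoo (h₁.2.1 a ha) (h₂.2.1 b hb)
    (h₁.2.2 o ho₁ a ha (Ne.symm hao)) (h₂.2.2 o ho₂ b hb (Ne.symm hbo)) hab
  obtain ⟨g2, hg2, e1', e2', e3'⟩ := octad_triple_rep o a' b' hoo (h₁'.2.1 a' ha')
    (h₂'.2.1 b' hb') (h₁'.2.2 o ho₁' a' ha' (Ne.symm hao')) (h₂'.2.2 o ho₂' b' hb' (Ne.symm hbo'))
    hab'
  have ko : (g2 * g1⁻¹) • o = o := by
    calc (g2 * g1⁻¹) • o = g2 • (g1⁻¹ • (g1 • fs o₀)) := by rw [mul_smul, e1]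
      _ = o := by rw [inv_smul_smul, e1']
  have ka : (g2 * g1⁻¹) • a = a' := by
    calc (g2 * g1⁻¹) • a = g2 • (g1⁻¹ • (g1 • fs a₀)) := by rw [mul_smul, e2]
      _ = a' := by rw [inv_smul_smul, e2']
  have kb : (g2 * g1⁻¹) • b = b' := by
    calc (g2 * g1⁻¹) • b = g2 • (g1⁻¹ • (g1 • fs b₀)) := by rw [mul_smul, e3]
      _ = b' := by rw [inv_smul_smul, e3']
  refine ⟨g2 * g1⁻¹, M24.mul_mem hg2 (M24.inv_mem hg1), ko, ?_, ?_⟩
  · rw [trio_eq T₁ h₁ o a ho₁ ha (Ne.symm hao), trio_eq T₁' h₁' o a' ho₁' ha' (Ne.symm hao'),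
      smul_trio_eq, ko, ka]
  · rw [trio_eq T₂ h₂ o b ho₂ hb (Ne.symm hbo), trio_eq T₂' h₂' o b' ho₂' hb' (Ne.symm hbo'),
      smul_trio_eq, ko, kb]

end Cfsg.Agent.Lib.helper4
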