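import Mathlib
import Cfsg.Prelude.Def_Sporadic_a
import Cfsg.Prelude.Def_SporadicCombinatorics
import Cfsg.Agent.Lib.helper4.OctadTrios
import Cfsg.Agent.Lib.Helper12.Golay.TrioClasses

set_option autoImplicit false

namespace Cfsg.Agent.Lib.helper4

open Cfsg
open scoped Pointwise
open Cfsg.Agent.Lib.Helper12.Golay

/-! ### The fifteen trios containing an octad -/

/-- The triple contains the standard octad. -/
def hasO (t : Code3) : Bool := Nat.beq t.1 o₀ || (Nat.beq t.2.1 o₀ || Nat.beq t.2.2 o₀)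

/-- The triples of the list of all trios that contain the standard octad. -/
def LTO : List Code3 := LTall.filter hasO

theorem LTO_length : LTO.length = 15 := by decide +kernel

theorem hasO_iff {t : Code3} (ht : Sorted3 t) : hasO t = true ↔ fs o₀ ∈ D3 t := by
  obtain ⟨h1, h2, h3⟩ := ht
  have l1 : t.1 < 2 ^ 24 := by omega
  have l2 : t.2.1 < 2 ^ 24 := by omega
  unfold hasO D3
  rw [Bool.or_eq_true, Bool.or_eq_true, natBeq_iff, natBeq_iff, natBeq_iff, Finset.mem_insert,
    Finset.mem_insert, Finset.mem_singleton]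
  constructor
  · rintro (h | h | h)
    · left; rw [h]
    · right; left; rw [h]
    · right; right; rw [h]
  · rintro (h | h | h)
    · left; exact (fs_inj (by decide) l1 h).symm
    · right; left; exact (fs_inj (by decide) l2 h).symm
    · right; right; exact (fs_inj (by decide) h3 h).symm

theorem trios_through_base :
    {T : Finset (Finset GolayPt) | T ∈ trios ∧ fs o₀ ∈ T}.ncard = 15 := by
  have hsub : LTO.Sublist LTall := List.filter_sublist
  have hnd : (LTO.map D3).Nodup := by
    obtain ⟨_, h2⟩ := nodupK3_spec lists_ok.1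
    have hL : LTall.Nodup := List.Nodup.of_map _ h2
    apply List.Nodup.map_on _ (hL.sublist hsub)
    intro a ha b hb hab
    exact D3_injOn (LTall_props a (hsub.subset ha)).1 (LTall_props b (hsub.subset hb)).1 hab
  have hset : {T : Finset (Finset GolayPt) | T ∈ trios ∧ fs o₀ ∈ T} =
      ↑((LTO.map D3).toFinset) := by
    ext X
    rw [Finset.mem_coe, List.mem_toFinset, List.mem_map]
    constructor
    · rintro ⟨h1, h2⟩
      obtain ⟨t, ht, rfl⟩ := trios_complete X h1
      refine ⟨t, ?_, rfl⟩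
      unfold LTO
      rw [List.mem_filter]
      exact ⟨ht, (hasO_iff (LTall_props t ht).1).mpr h2⟩
    · rintro ⟨t, ht, rfl⟩
      unfold LTO at ht
      rw [List.mem_filter] at ht
      exact ⟨(LTall_props t ht.1).2, (hasO_iff (LTall_props t ht.1).1).mp ht.2⟩
  rw [hset, Set.ncard_coe_finset, List.toFinset_card_of_nodup hnd, List.length_map, LTO_length]

/-- An octad lies in exactly fifteen trios. -/
theorem trios_through (o : Finset GolayPt) (ho : o ∈ octads) :
    {T : Finset (Finset GolayPt) | T ∈ trios ∧ o ∈ T}.ncard = 15 := by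
  obtain ⟨k, hk, hko⟩ := octads_transitive o ho
  have := ncard_invariant (G := M24) (A := Finset GolayPt) (B := Finset (Finset GolayPt)) trios
    (fun g b hb => Cfsg.Agent.S1557.smul_trios g b hb) (fun a T => a ∈ T)
    (fun g a b => propext (Finset.smul_mem_smul_finset_iff g))
    (fun t => t) ⟨k, hk⟩ (fs o₀)
  have hk' : (⟨k, hk⟩ : M24) • fs o₀ = o := hko
  rw [hk'] at this
  rw [← trios_through_base]
  exact this

end Cfsg.Agent.Lib.helper4

namespace Cfsg.Agent.Lib.helper4

open Cfsg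
open scoped Pointwise
open Cfsg.Agent.Lib.Helper12.Golay

/-- The stabiliser of an octad is transitive on the trios containing it. -/
theorem trios_one_trans (o : Finset GolayPt) (T T' : Finset (Finset GolayPt))
    (h : T ∈ trios) (h' : T' ∈ trios) (ho : o ∈ T) (ho' : o ∈ T') :
    ∃ g ∈ M24, g • o = o ∧ g • T = T' := by
  obtain ⟨a, ha, hao⟩ := exists_other T h o ho
  obtain ⟨a', ha', hao'⟩ := exists_other T' h' o ho'
  have hoo : o ∈ octads := h.2.1 o ho
  have d1 : (o ∩ a).card = 0 := by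
    rw [Finset.card_eq_zero]
    exact Finset.disjoint_iff_inter_eq_empty.mp (h.2.2 o ho a ha (Ne.symm hao))
  have d2 : (o ∩ a').card = 0 := by
    rw [Finset.card_eq_zero]
    exact Finset.disjoint_iff_inter_eq_empty.mp (h'.2.2 o ho' a' ha' (Ne.symm hao'))
  obtain ⟨g, hg1, hg2⟩ := octad_pair_homog o a a' hoo (h.2.1 a ha) (h'.2.1 a' ha')
    (d1.trans d2.symm)
  refine ⟨g.1, g.2, hg1, ?_⟩
  rw [trio_eq T h o a ho ha (Ne.symm hao), trio_eq T' h' o a' ho' ha' (Ne.symm hao'),
    smul_trio_eq]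
  have e1 : (g : Equiv.Perm GolayPt) • o = o := hg1
  have e2 : (g : Equiv.Perm GolayPt) • a = a' := hg2
  rw [e1, e2]

/-- An element of the group of the code fixing every point of an octad fixes every trio
containing the octad. -/
theorem fix_trios_of_fix_points (o : Finset GolayPt) (ho : o ∈ octads) (g : Equiv.Perm GolayPt)
    (hg : g ∈ M24) (hfix : ∀ p ∈ o, g p = p) (T : Finset (Finset GolayPt)) (hT : T ∈ trios)
    (hoT : o ∈ T) : g • T = T := by
  classical
  -- the set of trios through o, with the action of the octad stabiliser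
  let X : Type := {T : Finset (Finset GolayPt) // T ∈ trios ∧ o ∈ T}
  letI : MulAction ↥(octStab o) X :=
    { smul := fun s T => ⟨s.1 • T.1, Cfsg.Agent.S1557.smul_trios ⟨s.1, s.2.1⟩ T.1 T.2.1, by
        have h1 : s.1 • o = o := s.2.2
        have h2 := Finset.smul_mem_smul_finset (a := s.1) T.2.2
        rwa [h1] at h2⟩
      one_smul := fun T => Subtype.ext (one_smul _ T.1)
      mul_smul := fun s t T => Subtype.ext (mul_smul s.1 t.1 T.1) }
  have hsmul : ∀ (s : ↥(octStab o)) (T : X), ((s • T : X) : Finset (Finset GolayPt)) = s.1 • T.1 :=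
    fun _ _ => rfl
  have hXcard : Nat.card X = 15 := by
    have := trios_through o ho
    rw [← Nat.card_coe_set_eq] at this
    exact this
  have : Finite X := Nat.finite_of_card_ne_zero (by rw [hXcard]; norm_num)
  have hP : IsPGroup 2 ↥(resHom o).ker := by
    apply IsPGroup.of_card (n := 4)
    rw [card_ker_resHom o ho]
    norm_num
  have : Fact (Nat.Prime 2) := ⟨Nat.prime_two⟩
  obtain ⟨T₁, hT₁⟩ := IsPGroup.nonempty_fixed_point_of_prime_not_dvd_card hP X
    (by rw [hXcard]; norm_num)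
  rw [MulAction.mem_fixedPoints] at hT₁
  -- transport
  obtain ⟨h, hh, hho, hhT⟩ := trios_one_trans o T₁.1 T T₁.2.1 hT T₁.2.2 hoT
  have hhoi : h⁻¹ • o = o := by rw [inv_smul_eq_iff, hho]
  have hmem : ∀ p, h p ∈ o ↔ p ∈ o := (mem_stab_iff h o).mp (MulAction.mem_stabilizer_iff.mpr hho)
  have hconj_stab : h⁻¹ * g * h ∈ octStab o := by
    refine Subgroup.mem_inf.mpr ⟨M24.mul_mem (M24.mul_mem (M24.inv_mem hh) hg) hh, ?_⟩
    rw [MulAction.mem_stabilizer_iff, mul_smul, mul_smul, hho]
    have hgo : g • o = o := by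
      apply Finset.eq_of_subset_of_card_le
      · intro q hq
        obtain ⟨p, hp, rfl⟩ := Finset.mem_smul_finset.mp hq
        show g p ∈ o
        rw [hfix p hp]; exact hp
      · rw [Finset.card_smul_finset]
    rw [hgo, hhoi]
  have hker : (⟨h⁻¹ * g * h, hconj_stab⟩ : ↥(octStab o)) ∈ (resHom o).ker := by
    rw [mem_ker_resHom]
    intro x hx
    show (h⁻¹ * g * h) x = x
    rw [Equiv.Perm.mul_apply, Equiv.Perm.mul_apply, hfix _ ((hmem x).mpr hx)]
    simp
  have hfixT := hT₁ ⟨⟨h⁻¹ * g * h, hconj_stab⟩, hker⟩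
  have hfixT' : (h⁻¹ * g * h) • T₁.1 = T₁.1 := congrArg Subtype.val hfixT
  rw [← hhT]
  calc g • h • T₁.1 = h • ((h⁻¹ * g * h) • T₁.1) := by
        rw [← mul_smul, ← mul_smul]; congr 1; group
    _ = h • T₁.1 := by rw [hfixT']

end Cfsg.Agent.Lib.helper4

namespace Cfsg.Agent.Lib.helper4

open Cfsg
open scoped Pointwise
open Cfsg.Agent.Lib.Helper12.Golay

/-- The elements of the stabiliser of an octad fixing every trio through the octad. -/
def trioKer (o : Finset GolayPt) : Subgroup ↥(octStab o) where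
  carrier := {s | ∀ T ∈ trios, o ∈ T → s.1 • T = T}
  one_mem' := fun T _ _ => one_smul _ T
  mul_mem' := fun {a b} ha hb T hT hoT => by
    show (a.1 * b.1) • T = T
    rw [mul_smul, hb T hT hoT, ha T hT hoT]
  inv_mem' := fun {a} ha T hT hoT => by
    show a.1⁻¹ • T = T
    rw [inv_smul_eq_iff, ha T hT hoT]

theorem trioKer_normal (o : Finset GolayPt) : (trioKer o).Normal := by
  constructor
  intro n hn s T hT hoT
  show (s.1 * n.1 * s.1⁻¹) • T = T
  have hso : s.1⁻¹ • o = o := by
    rw [inv_smul_eq_iff]; exact s.2.2.symm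
  have hT' : s.1⁻¹ • T ∈ trios :=
    Cfsg.Agent.S1557.smul_trios ⟨s.1⁻¹, M24.inv_mem s.2.1⟩ T hT
  have hoT' : o ∈ s.1⁻¹ • T := by
    have := Finset.smul_mem_smul_finset (a := s.1⁻¹) hoT
    rwa [hso] at this
  rw [mul_smul, mul_smul, hn _ hT' hoT', smul_inv_smul]

/-- An element of the stabiliser of an octad fixing every trio through the octad fixes every
point of the octad. -/
theorem fix_points_of_fix_trios (o : Finset GolayPt) (ho : o ∈ octads) (g : Equiv.Perm GolayPt)
    (hg : g ∈ M24) (hgo : g • o = o) (hfixT : ∀ T ∈ trios, o ∈ T → g • T = T) :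
    ∀ p ∈ o, g p = p := by
  classical
  have hcard8 : Fintype.card ↥o = 8 := by rw [Fintype.card_coe]; exact ho.2
  have hs : IsSimpleGroup ↥(resHom o).range := by
    rw [range_resHom_eq o ho]
    exact alternatingGroup.isSimpleGroup (by rw [Nat.card_eq_fintype_card, hcard8]; norm_num)
  have hKn := trioKer_normal o
  have hNn : ((trioKer o).map (resHom o).rangeRestrict).Normal :=
    Subgroup.Normal.map hKn _ (resHom o).rangeRestrict_surjective
  have hPK : (resHom o).rangeRestrict.ker ≤ trioKer o := by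
    intro s hsK T hT hoT
    rw [MonoidHom.ker_rangeRestrict, mem_ker_resHom] at hsK
    exact fix_trios_of_fix_points o ho s.1 s.2.1 hsK T hT hoT
  have hgS : g ∈ octStab o := Subgroup.mem_inf.mpr ⟨hg, MulAction.mem_stabilizer_iff.mpr hgo⟩
  have hgK : (⟨g, hgS⟩ : ↥(octStab o)) ∈ trioKer o := hfixT
  rcases hs.eq_bot_or_eq_top_of_normal _ hNn with h | h
  · have hle := (Subgroup.map_eq_bot_iff (trioKer o)).mp h
    have := hle hgK
    rw [MonoidHom.ker_rangeRestrict, mem_ker_resHom] at this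
    exact this
  · exfalso
    have h1 := Subgroup.comap_map_eq (resHom o).rangeRestrict (trioKer o)
    rw [h, Subgroup.comap_top, sup_eq_left.mpr hPK] at h1
    -- two distinct trios through o
    have h15 := trios_through o ho
    obtain ⟨T₁, hT₁, T₂, hT₂, hne⟩ := (Set.one_lt_ncard (Set.toFinite _)).mp
      (by rw [h15]; norm_num : 1 < {T : Finset (Finset GolayPt) | T ∈ trios ∧ o ∈ T}.ncard)
    obtain ⟨k, hk, hko, hkT⟩ := trios_one_trans o T₁ T₂ hT₁.1 hT₂.1 hT₁.2 hT₂.2
    have hkS : k ∈ octStab o := Subgroup.mem_inf.mpr ⟨hk, MulAction.mem_stabilizer_iff.mpr hko⟩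
    have hkK : (⟨k, hkS⟩ : ↥(octStab o)) ∈ trioKer o := by rw [← h1]; exact Subgroup.mem_top _
    have := hkK T₁ hT₁.1 hT₁.2
    exact hne (this.symm.trans hkT)

/-- The three statements on the trios through an octad. -/
theorem octad_trios_main (o : Finset GolayPt) (ho : o ∈ octads) :
    {T : Finset (Finset GolayPt) | T ∈ trios ∧ o ∈ T}.ncard = 15 ∧
    (∀ T₁ T₂ T₁' T₂' : Finset (Finset GolayPt), T₁ ∈ trios → T₂ ∈ trios → T₁' ∈ trios →
      T₂' ∈ trios → o ∈ T₁ → o ∈ T₂ → o ∈ T₁' → o ∈ T₂' → T₁ ≠ T₂ → T₁' ≠ T₂' →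
      ∃ g ∈ M24, g • o = o ∧ g • T₁ = T₁' ∧ g • T₂ = T₂') ∧
    ∀ g ∈ M24, g • o = o → ((∀ T ∈ trios, o ∈ T → g • T = T) ↔ ∀ p ∈ o, g p = p) := by
  refine ⟨trios_through o ho, ?_, ?_⟩
  · intro T₁ T₂ T₁' T₂' h₁ h₂ h₁' h₂' ho₁ ho₂ ho₁' ho₂' hne hne'
    exact trios_two_trans o T₁ T₂ T₁' T₂' h₁ h₂ h₁' h₂' ho₁ ho₂ ho₁' ho₂' hne hne'
  · intro g hg hgo
    constructor
    · intro h
      exact fix_points_of_fix_trios o ho g hg hgo h
    · intro h T hT hoT
      exact fix_trios_of_fix_points o ho g hg h T hT hoT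

end Cfsg.Agent.Lib.helper4
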