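import Mathlib
import Cfsg.Agent.Lib.helper4.OrbitLists
import Cfsg.Agent.Lib.Helper12.Maximal

set_option autoImplicit false

namespace Cfsg.Agent.Lib.helper4

open MulAction
open scoped Pointwise

/-- Maximality of a point stabiliser from the list of its orbits on the orbit of the point,
when the orbit sizes are pairwise distinct and no proper union of orbits containing the point has
a size dividing the size of the whole orbit. -/
theorem isCoatom_of_orbits {G X : Type*} [Group G] [MulAction G X] {k : ℕ}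
    (x : Fin (k + 1) → X) (n : Fin (k + 1) → ℕ) (F : Set X) (hFfin : F.Finite)
    (htrans : ∀ y, y ∈ F ↔ ∃ g : G, g • x 0 = y)
    (hc : ∀ i, (orbit ↥(stabilizer G (x 0)) (x i)).ncard = n i)
    (hF : ∀ y, y ∈ F ↔ ∃ i, y ∈ orbit ↥(stabilizer G (x 0)) (x i))
    (hninj : Function.Injective n) (hk : 0 < k)
    (harith : ∀ I : Finset (Fin (k + 1)), (0 : Fin (k + 1)) ∈ I → (∀ i ∈ I, n i ≠ 0) →
      (∑ i ∈ I, n i) ∣ F.ncard → I = {0} ∨ ∀ i, n i ≠ 0 → i ∈ I) :
    IsCoatom (stabilizer G (x 0)) := by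
  classical
  -- distinct indices give disjoint orbits
  have hdis : ∀ i j y, y ∈ orbit ↥(stabilizer G (x 0)) (x i) →
      y ∈ orbit ↥(stabilizer G (x 0)) (x j) → i = j := by
    intro i j y hi hj
    apply hninj
    rw [← hc i, ← hc j, ← orbit_eq_iff.mpr hi, ← orbit_eq_iff.mpr hj]
  -- the class function
  set c : X → Fin (k + 1) := fun y =>
    if h : ∃ i, y ∈ orbit ↥(stabilizer G (x 0)) (x i) then h.choose else 0 with hcdef
  have hcy : ∀ y ∈ F, y ∈ orbit ↥(stabilizer G (x 0)) (x (c y)) := by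
    intro y hy
    have h := (hF y).mp hy
    have : c y = h.choose := by rw [hcdef]; simp only [dif_pos h]
    rw [this]
    exact h.choose_spec
  have hcu : ∀ y i, y ∈ orbit ↥(stabilizer G (x 0)) (x i) → c y = i := by
    intro y i hi
    have hy : y ∈ F := (hF y).mpr ⟨i, hi⟩
    exact hdis _ _ y (hcy y hy) hi
  have hx0 : x 0 ∈ F := (htrans _).mpr ⟨1, one_smul _ _⟩
  have hc0 : c (x 0) = 0 := hcu _ _ (mem_orbit_self _)
  have horb0 : ∀ y, y ∈ orbit ↥(stabilizer G (x 0)) (x 0) → y = x 0 := by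
    rintro y ⟨⟨g, hg⟩, rfl⟩
    exact hg
  apply Cfsg.Agent.Lib.Helper12.isCoatom_stabilizer_of_classes (x 0) F hFfin htrans c ?_ n ?_ ?_ ?_ ?_
  · intro y hy y' hy' hcc
    have h1 := hcy y hy
    have h2 := hcy y' hy'
    rw [hcc] at h1
    generalize c y' = i at h1 h2
    obtain ⟨g, hg⟩ := h1
    obtain ⟨g', hg'⟩ := h2
    refine ⟨(g' * g⁻¹ : ↥(stabilizer G (x 0))).1, (g' * g⁻¹).2, ?_⟩
    show (g' * g⁻¹) • y = y'
    rw [← hg, ← hg', mul_smul, inv_smul_smul]
  · intro i
    rw [← hc i]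
    congr 1
    ext y
    constructor
    · rintro ⟨hy, hci⟩
      have := hcy y hy
      rwa [hci] at this
    · intro hy
      exact ⟨(hF y).mpr ⟨i, hy⟩, hcu y i hy⟩
  · intro y hy hcy0
    rw [hc0] at hcy0
    have := hcy y hy
    rw [hcy0] at this
    exact horb0 y this
  · refine ⟨x ⟨1, by omega⟩, (hF _).mpr ⟨_, mem_orbit_self _⟩, ?_⟩
    intro h
    have h1 : (x ⟨1, by omega⟩) ∈ orbit ↥(stabilizer G (x 0)) (x 0) := by
      rw [h]; exact mem_orbit_self _
    have := hdis _ _ _ (mem_orbit_self (x ⟨1, by omega⟩)) h1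
    have h2 := congrArg Fin.val this
    simp at h2
  · intro I hI
    rw [hc0] at hI ⊢
    exact harith I hI

end Cfsg.Agent.Lib.helper4
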