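import Mathlib
import Cfsg.Prelude.Def_Sporadic_a
import Cfsg.Prelude.Def_SporadicCombinatorics
import Cfsg.Agent.Lib.helper4.OutM24Data

set_option autoImplicit false

namespace Cfsg.Agent.Lib.helper4

open Cfsg
open scoped Pointwise
open Cfsg.Agent.Lib.Helper12.Golay

/-! ### Automorphisms of the small groups of the length-24 code: common data -/

/-- The powers of `tC24`. -/
def Cpows5 : List (List ℕ) := [[0,1,2,3,4,5,6,7,8,9,10,11,12,13,14,15,16,17,18,19,20,21,22,23],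
  [0,18,6,3,2,21,1,5,16,12,7,19,8,9,17,15,13,11,4,22,10,20,14,23],
  [0,4,1,3,6,20,18,21,13,8,5,22,16,12,11,15,9,19,2,14,7,10,17,23],
  [0,2,18,3,1,10,4,20,9,16,21,14,13,8,19,15,12,22,6,17,5,7,11,23],
  [0,6,4,3,18,7,2,10,12,13,20,17,9,16,22,15,8,14,1,11,21,5,19,23]]

/-- The tables commuting with `tC24`. -/
def C60 : List (List ℕ) := [[0,1,2,3,4,5,6,7,8,9,10,11,12,13,14,15,16,17,18,19,20,21,22,23],
  [0,1,2,15,4,19,6,11,20,5,17,13,21,7,8,23,10,16,18,9,14,22,12,3],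
  [0,1,2,23,4,9,6,13,14,19,16,7,22,11,20,3,17,10,18,5,8,12,21,15],
  [0,2,18,3,1,10,4,20,9,16,21,14,13,8,19,15,12,22,6,17,5,7,11,23],
  [0,2,18,15,1,17,4,14,5,10,22,8,7,20,9,23,21,12,6,16,19,11,13,3],
  [0,2,18,23,1,16,4,8,19,17,12,20,11,14,5,3,22,21,6,10,9,13,7,15],
  [0,4,1,3,6,20,18,21,13,8,5,22,16,12,11,15,9,19,2,14,7,10,17,23],
  [0,4,1,15,6,14,18,22,7,20,19,12,10,21,13,23,5,9,2,8,11,17,16,3],
  [0,4,1,23,6,8,18,12,11,14,9,21,17,22,7,3,19,5,2,20,13,16,10,15],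
  [0,6,4,3,18,7,2,10,12,13,20,17,9,16,22,15,8,14,1,11,21,5,19,23],
  [0,6,4,15,18,11,2,17,21,7,14,16,5,10,12,23,20,8,1,13,22,19,9,3],
  [0,6,4,23,18,13,2,16,22,11,8,10,19,17,21,3,14,20,1,7,12,9,5,15],
  [0,18,6,3,2,21,1,5,16,12,7,19,8,9,17,15,13,11,4,22,10,20,14,23],
  [0,18,6,15,2,22,1,19,10,21,11,9,20,5,16,23,7,13,4,12,17,14,8,3],
  [0,18,6,23,2,12,1,9,17,22,13,5,14,19,10,3,11,7,4,21,16,8,20,15],
  [3,8,9,0,13,22,12,19,4,1,11,5,18,6,10,23,2,7,16,21,17,14,20,15],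
  [3,8,9,15,13,1,12,6,10,21,2,19,20,5,17,0,7,11,16,22,4,18,14,23],
  [3,8,9,23,13,21,12,5,17,22,7,6,14,19,4,15,11,2,16,1,10,20,18,0],
  [3,9,16,0,8,11,13,17,1,2,14,10,6,4,21,23,18,20,12,7,22,19,5,15],
  [3,9,16,15,8,2,13,4,21,7,18,17,5,10,22,0,20,14,12,11,1,6,19,23],
  [3,9,16,23,8,7,13,10,22,11,20,4,19,17,1,15,14,18,12,2,21,5,6,0],
  [3,12,13,0,16,19,9,11,18,6,17,7,1,2,20,23,4,10,8,5,14,22,21,15],
  [3,12,13,15,16,6,9,2,20,5,4,11,21,7,14,0,10,17,8,19,18,1,22,23],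
  [3,12,13,23,16,5,9,7,14,19,10,2,22,11,18,15,17,4,8,6,20,21,1,0],
  [3,13,8,0,12,17,16,14,6,4,22,20,2,18,5,23,1,21,9,10,19,11,7,15],
  [3,13,8,15,12,4,16,18,5,10,1,14,7,20,19,0,21,22,9,17,6,2,11,23],
  [3,13,8,23,12,10,16,20,19,17,21,18,11,14,6,15,22,1,9,4,5,7,2,0],
  [3,16,12,0,9,14,8,22,2,18,19,21,4,1,7,23,6,5,13,20,11,17,10,15],
  [3,16,12,15,9,18,8,1,7,20,6,22,10,21,11,0,5,19,13,14,2,4,17,23],
  [3,16,12,23,9,20,8,21,11,14,5,1,17,22,2,15,19,6,13,18,7,10,4,0],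
  [15,5,10,0,20,13,7,16,1,2,8,17,6,4,22,3,18,14,21,11,12,9,19,23],
  [15,5,10,3,20,11,7,17,12,13,14,4,9,16,1,23,8,18,21,2,22,19,6,0],
  [15,5,10,23,20,2,7,4,22,11,18,16,19,17,12,0,14,8,21,13,1,6,9,3],
  [15,7,20,0,21,16,10,8,6,4,12,14,2,18,19,3,1,22,5,17,9,13,11,23],
  [15,7,20,3,21,17,10,14,9,16,22,18,13,8,6,23,12,1,5,4,19,11,2,0],
  [15,7,20,23,21,4,10,18,19,17,1,8,11,14,9,0,22,12,5,16,6,2,13,3],
  [15,10,21,0,5,8,20,12,2,18,9,22,4,1,11,3,6,19,7,14,13,16,17,23],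
  [15,10,21,3,5,14,20,22,13,8,19,1,16,12,2,23,9,6,7,18,11,17,4,0],
  [15,10,21,23,5,18,20,1,11,14,6,12,17,22,13,0,19,9,7,8,2,4,16,3],
  [15,20,5,0,7,12,21,9,4,1,13,19,18,6,17,3,2,11,10,22,16,8,14,23],
  [15,20,5,3,7,22,21,19,16,12,11,6,8,9,4,23,13,2,10,1,17,14,18,0],
  [15,20,5,23,7,1,21,6,17,22,2,9,14,19,16,0,11,13,10,12,4,18,8,3],
  [15,21,7,0,10,9,5,13,18,6,16,11,1,2,14,3,4,17,20,19,8,12,22,23],
  [15,21,7,3,10,19,5,11,8,9,17,2,12,13,18,23,16,4,20,6,14,22,1,0],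
  [15,21,7,23,10,6,5,2,14,19,4,13,22,11,8,0,17,16,20,9,18,1,12,3],
  [23,11,14,0,22,10,17,20,6,4,21,8,2,18,9,15,1,12,19,16,5,7,13,3],
  [23,11,14,3,22,4,17,18,9,16,1,20,13,8,5,0,12,21,19,10,6,2,7,15],
  [23,11,14,15,22,16,17,8,5,10,12,18,7,20,6,3,21,1,19,4,9,13,2,0],
  [23,14,19,0,11,21,22,5,4,1,7,9,18,6,16,15,2,13,17,12,10,20,8,3],
  [23,14,19,3,11,1,22,6,16,12,2,5,8,9,10,0,13,7,17,21,4,18,20,15],
  [23,14,19,15,11,12,22,9,10,21,13,6,20,5,4,3,7,2,17,1,16,8,18,0],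
  [23,17,22,0,19,20,14,21,2,18,5,12,4,1,13,15,6,9,11,8,7,10,16,3],
  [23,17,22,3,19,18,14,1,13,8,6,21,16,12,7,0,9,5,11,20,2,4,10,15],
  [23,17,22,15,19,8,14,12,7,20,9,1,10,21,2,3,5,6,11,18,13,16,4,0],
  [23,19,17,0,14,7,11,10,1,2,20,16,6,4,12,15,18,8,22,13,21,5,9,3],
  [23,19,17,3,14,2,11,4,12,13,18,10,9,16,21,0,8,20,22,7,1,6,5,15],
  [23,19,17,15,14,13,11,16,21,7,8,4,5,10,1,3,20,18,22,2,12,9,6,0],
  [23,22,11,0,17,5,19,7,18,6,10,13,1,2,8,15,4,16,14,9,20,21,12,3],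
  [23,22,11,3,17,6,19,2,8,9,4,7,12,13,20,0,16,10,14,5,18,1,21,15],
  [23,22,11,15,17,9,19,13,20,5,16,2,21,7,18,3,10,4,14,6,8,12,1,0]]

/-- Equality test for lists of numbers. -/
def eqL : List ℕ → List ℕ → Bool
  | [], [] => true
  | a :: as, b :: bs => Nat.beq a b && eqL as bs
  | _, _ => false

theorem eqL_iff : ∀ (a b : List ℕ), eqL a b = true ↔ a = b
  | [], [] => by simp [eqL]
  | [], _ :: _ => by simp [eqL]
  | _ :: _, [] => by simp [eqL]
  | a :: as, b :: bs => by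
    rw [eqL, Bool.and_eq_true, natBeq_iff, eqL_iff as bs, List.cons.injEq]

/-- The table commutes with `tC24`. -/
def commC (T : List ℕ) : Bool :=
  (List.range 24).all fun i => Nat.beq (T.getD (tC24.getD i 0) 0) (tC24.getD (T.getD i 0) 0)

/-- The composite of the two tables commutes with `tC24` (lazy test). -/
def commCHK (H K : List ℕ) : Bool :=
  (List.range 24).all fun i =>
    Nat.beq (H.getD (K.getD (tC24.getD i 0) 0) 0) (tC24.getD (H.getD (K.getD i 0) 0) 0)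

/-- Five numbers are pairwise different. -/
def distinct5 (a b c d e : ℕ) : Bool :=
  !(Nat.beq a b || Nat.beq a c || Nat.beq a d || Nat.beq a e || Nat.beq b c || Nat.beq b d ||
    Nat.beq b e || Nat.beq c d || Nat.beq c e || Nat.beq d e)

/-- The cover test: the table `tab` lists, for the images `q1`, `q2` of two base points, an element
of the group with the forced images of the five base points; all its products with the 48 elements
fixing the base points that commute with `tC24` are in the list. -/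
def cCovOK (f : ℕ) (tab : List (List ℕ)) : Bool :=
  (List.range 24).all fun q1 => (List.range 24).all fun q2 =>
    forceList (tab.getD (q1 * 24 + q2) []) fun H =>
      !distinct5 f q1 q2 (tC24.getD (tC24.getD q1 0) 0) (tC24.getD q2 0) ||
      (okK H && Nat.beq (H.getD 0 0) f && Nat.beq (H.getD 12 0) q1 && Nat.beq (H.getD 14 0) q2 &&
        Nat.beq (H.getD 16 0) (tC24.getD (tC24.getD q1 0) 0) &&
        Nat.beq (H.getD 17 0) (tC24.getD q2 0) &&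
        K5L.all fun K => !commCHK H K || C60.contains (compTbl H K))

set_option maxRecDepth 1000000 in
theorem outmat_basic : Cpows5 = (List.range 5).map (powT tC24) ∧ powT tC24 5 = List.range 24 ∧
    tC24 ≠ List.range 24 ∧ compTbl tW24 tW24 = List.range 24 ∧
    compTbl tW24 tC24 = compTbl tC24 tW24 ∧ Upows11.contains tC24 = false ∧
    (∀ v ∈ List.range 24, tC24.getD v 0 = v → v ∈ [0, 3, 15, 23]) ∧
    tC24.getD 0 0 = 0 ∧ tC24.getD 12 0 = 8 ∧ tC24.getD 8 0 = 16 ∧ tC24.getD 14 0 = 17 ∧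
    tW24 ≠ List.range 24 := by
  decide +kernel

set_option maxRecDepth 1000000 in
theorem normU_check : ((List.range 11).all fun s => Nat.beq s 0 ||
    (List.range 2).any fun ε => (List.range 5).any fun j =>
      forceList (compTbl (powT tW24 ε) (powT tC24 j)) fun Y =>
        eqL (compTbl Y tU24) (compTbl (Upows11.getD s []) Y)) = true := by
  decide +kernel

set_option maxRecDepth 1000000 in
theorem frob_check : ((List.range 5).all fun j => (List.range 11).all fun i => Nat.beq j 0 ||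
    (List.range 11).any fun m =>
      Cpows5.contains (compTbl (compTbl (compTbl (Upows11.getD m []) (Cpows5.getD j []))
        (Upows11.getD i [])) (Upows11.getD ((11 - m) % 11) []))) = true := by
  decide +kernel

set_option maxRecDepth 1000000 in
theorem rigidC_check : ((List.range 5).all fun j => (List.range 11).all fun k =>
    Nat.beq k 0 || !(eqL (compTbl (Cpows5.getD j []) (Upows11.getD k []))
      (compTbl (powT (Upows11.getD k []) 3) (Cpows5.getD j []))) || Nat.beq j 1) = true := by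
  decide +kernel

end Cfsg.Agent.Lib.helper4
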