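import Mathlib
import Cfsg.Agent.Lib.helper15.PSL.Defs
import Cfsg.Agent.Lib.helper15.BH.Main

/-!
# Project PSL (S4504), piece M2Y : the members of `Y`
-/

set_option autoImplicit false
set_option linter.unusedVariables false
set_option linter.unusedSectionVars false
open scoped ComplexConjugate
open Classical

namespace Cfsg.Agent.Lib.helper15.PSL

open Cfsg.Agent.Lib.helper7 Cfsg.Agent.Lib.helper7.BR Cfsg.Agent.Lib.helper2 Cfsg.Agent.Lib.Helper25
  Cfsg.Agent.Lib.Helper29 Cfsg.Agent.Lib.helper15.BH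

universe u

section abstract

variable {G : Type u} [Group G] [Fintype G]
variable {p : ℕ} {C N P : Subgroup G} {hPC : P ≤ C} {π : ↥C →* ↥P}

/-- M2Y : the members of `Y` : degree `f` if `ε = 1`; degree at least `f + 1` and one of them is a constituent of
`χ conj χ` if `ε = -1` -/
theorem m2_Y (h : LeoSetup p C N P hPC π)
    (hsingC : ∀ c : ↥C, π c ≠ 1 → p ∣ orderOf (c : G)) {f : ℕ} (hpf : Nat.card ↥P = 2 * f + 1)
    {χ χ' : Cfsg.IrrCharacter G}
    {θ₁ θ₂ : Cfsg.IrrCharacter ↥C} (hM : M1Out h f χ χ' θ₁ θ₂)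
    {X Y : Finset (Cfsg.IrrCharacter G)} {a : Cfsg.IrrCharacter G → ℤ} {ε : ℤ}
    (hB0 : PB0 p f P X Y a ε) :
    (ε = 1 → ∀ η ∈ Y, leoDeg η = f) ∧
    (ε = -1 → (∃ η₀ ∈ Y,
        Cfsg.classInner (fun g => (χ : G → ℂ) g * conj ((χ : G → ℂ) g)) (η₀ : G → ℂ) ≠ 0) ∧
      ∀ η ∈ Y, f + 1 ≤ leoDeg η) := by
  set W : G → ℂ := fun g => (χ : G → ℂ) g * conj ((χ : G → ℂ) g) with hWdef
  set W' : G → ℂ := fun g => (χ : G → ℂ) g * conj ((χ' : G → ℂ) g) with hW'def
  have hW : Cfsg.IsCharacter G W :=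
    h7_isCharacter_mul (isCharacter_of_irr χ) (bg_isCharacter_conj (isCharacter_of_irr χ))
  have hW' : Cfsg.IsCharacter G W' :=
    h7_isCharacter_mul (isCharacter_of_irr χ) (bg_isCharacter_conj (isCharacter_of_irr χ'))
  have hnofix : ∀ η : Cfsg.IrrCharacter G, Cfsg.classInner W' (η : G → ℂ) ≠ 0 →
      leoA h (η : G → ℂ) = 0 := fun η hη =>
    conj_prod_no_fixed h χ χ' θ₁ θ₂ hM.hres hM.hres' hM.hdis η hη
  -- the sum of the inner products over `Y`
  have hsumY : ∑ η ∈ Y, (Cfsg.classInner W (η : G → ℂ) - Cfsg.classInner W' (η : G → ℂ)) =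
      -(ε : ℂ) := by
    have := inner_diff_of_const_sing p χ χ' hM.hne hM.hreg (fun g => ∑ η ∈ Y, (η : G → ℂ) g)
      (-(ε : ℂ)) hB0.sumY
    have e1 : ∀ V : G → ℂ, Cfsg.classInner V (fun g => ∑ η ∈ Y, (η : G → ℂ) g) =
        ∑ η ∈ Y, Cfsg.classInner V (η : G → ℂ) := by
      intro V
      have := h7_classInner_sum_right Y V (fun η => (η : G → ℂ))
      rw [← this]
      congr 1
      funext g
      simp
    rw [e1, e1, ← Finset.sum_sub_distrib] at this
    rw [this]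
    simp
  choose mW hmW using fun η : Cfsg.IrrCharacter G =>
    classInner_character_nat hW (isCharacter_of_irr η)
  choose mW' hmW' using fun η : Cfsg.IrrCharacter G =>
    classInner_character_nat hW' (isCharacter_of_irr η)
  have hsumZ : (∑ η ∈ Y, ((mW η : ℤ) - (mW' η : ℤ))) = -ε := by
    have h1 : ((∑ η ∈ Y, ((mW η : ℤ) - (mW' η : ℤ)) : ℤ) : ℂ) = ((-ε : ℤ) : ℂ) := by
      push_cast
      rw [← hsumY]
      apply Finset.sum_congr rfl
      intro η _
      rw [hmW η, hmW' η]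
    exact_mod_cast h1
  have hone : ¬ p ∣ orderOf (1 : G) := by
    rw [orderOf_one]
    intro hdvd
    have hp1 : p = 1 := Nat.dvd_one.mp hdvd
    -- `p = 1` is impossible: `P` has an element `x ≠ 1`, then `1 ∣ orderOf x` makes all of `X` constant...
    -- use the singular value at the identity: `trivIrr 1 = 1 = a`, harmless; instead use `sumY` at `1`
    have hs := hB0.sumY 1 (by rw [hp1]; exact one_dvd _)
    -- and the relation `rel`/`agree` are not needed: derive a contradiction from degrees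
    have hY2 := hB0.cardY
    -- `∑_{η ∈ Y} η(1) = -ε` but the left side is a positive natural number `≥ 2`
    have hpos : ∑ η ∈ Y, (η : G → ℂ) 1 = ((∑ η ∈ Y, leoDeg η : ℕ) : ℂ) := by
      push_cast
      exact Finset.sum_congr rfl (fun η _ => leoDeg_spec η)
    rw [hpos] at hs
    have hge : 2 ≤ ∑ η ∈ Y, leoDeg η := by
      calc 2 = ∑ η ∈ Y, 1 := by simp [hY2]
        _ ≤ ∑ η ∈ Y, leoDeg η := Finset.sum_le_sum (fun η _ => leoDeg_pos η)
    have hZ : ((∑ η ∈ Y, leoDeg η : ℕ) : ℤ) = -ε := by exact_mod_cast hs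
    rcases hB0.eps_pm with he | he <;> rw [he] at hZ <;> omega
  constructor
  · -- `ε = 1`
    intro hε η hη
    rw [hε] at hsumZ
    have hex : ∃ η₁ ∈ Y, mW' η₁ ≠ 0 := by
      by_contra hcon
      push Not at hcon
      have h1 : ∑ η ∈ Y, ((mW η : ℤ) - (mW' η : ℤ)) = ∑ η ∈ Y, (mW η : ℤ) :=
        Finset.sum_congr rfl (fun η hη => by rw [hcon η hη]; simp)
      rw [h1] at hsumZ
      have h2 : (0 : ℤ) ≤ ∑ η ∈ Y, (mW η : ℤ) := Finset.sum_nonneg (fun η _ => by positivity)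
      omega
    obtain ⟨η₁, hη₁, hne1⟩ := hex
    have hne1' : Cfsg.classInner W' (η₁ : G → ℂ) ≠ 0 := by
      rw [hmW' η₁]
      exact_mod_cast hne1
    have hA := hnofix η₁ hne1'
    have hdeg1 : (leoDeg η₁ : ℤ) = ε * (f : ℤ) :=
      ydeg h η₁ (ε * (f : ℤ)) (by rw [hB0.sumP η₁ hη₁]; push_cast; rfl) hA
    rw [hε, one_mul] at hdeg1
    have hdeq : (leoDeg η : ℂ) = (leoDeg η₁ : ℂ) := by
      rw [← leoDeg_spec η, ← leoDeg_spec η₁]
      exact hB0.agree η hη η₁ hη₁ 1 hone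
    have : leoDeg η = leoDeg η₁ := by exact_mod_cast hdeq
    rw [this]
    exact_mod_cast hdeg1
  · -- `ε = -1`
    intro hε
    rw [hε] at hsumZ
    constructor
    · have hex : ∃ η₀ ∈ Y, mW η₀ ≠ 0 := by
        by_contra hcon
        push Not at hcon
        have h1 : ∑ η ∈ Y, ((mW η : ℤ) - (mW' η : ℤ)) = ∑ η ∈ Y, (-(mW' η : ℤ)) :=
          Finset.sum_congr rfl (fun η hη => by rw [hcon η hη]; simp)
        rw [h1, Finset.sum_neg_distrib] at hsumZ
        have h2 : (0 : ℤ) ≤ ∑ η ∈ Y, (mW' η : ℤ) := Finset.sum_nonneg (fun η _ => by positivity)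
        omega
      obtain ⟨η₀, hη₀, hne0⟩ := hex
      refine ⟨η₀, hη₀, ?_⟩
      rw [hmW η₀]
      exact_mod_cast hne0
    · intro η hη
      have h1 := leo_sum_P_A h (η : G → ℂ) (isCharacter_of_irr η)
      rw [hB0.sumP η hη, leoDeg_spec, hε, hpf] at h1
      have h2 : ((leoDeg η : ℤ) : ℂ) + (f : ℂ) = (((2 * f + 1 : ℕ) : ℤ) : ℂ) * ((leoA h (η : G → ℂ) : ℤ) : ℂ) := by
        push_cast
        push_cast at h1
        linear_combination h1
      have h3 : (leoDeg η : ℤ) + (f : ℤ) = ((2 * f + 1 : ℕ) : ℤ) * (leoA h (η : G → ℂ) : ℤ) := by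
        exact_mod_cast h2
      have hdpos := leoDeg_pos η
      have hApos : 1 ≤ leoA h (η : G → ℂ) := by
        by_contra hcon
        have : leoA h (η : G → ℂ) = 0 := by omega
        rw [this] at h3
        push_cast at h3
        omega
      have h4 : ((2 * f + 1 : ℕ) : ℤ) * 1 ≤ ((2 * f + 1 : ℕ) : ℤ) * (leoA h (η : G → ℂ) : ℤ) := by
        apply mul_le_mul_of_nonneg_left
        · exact_mod_cast hApos
        · positivity
      push_cast at h3 h4
      omega

end abstract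

end Cfsg.Agent.Lib.helper15.PSL
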