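import Mathlib
import Cfsg.Agent.Lib.helper4.PrimSolv

set_option autoImplicit false

namespace Cfsg.Agent.Lib.helper4

open Subgroup

section action

variable {G : Type*} [Group G] {Ω : Type*} [MulAction G Ω]

theorem normalCore_stabilizer_eq_bot [FaithfulSMul G Ω] [MulAction.IsPretransitive G Ω] (ω : Ω) :
    (MulAction.stabilizer G ω).normalCore = ⊥ := by
  rw [eq_bot_iff]
  intro x hx
  rw [Subgroup.mem_bot]
  apply FaithfulSMul.eq_of_smul_eq_smul (α := Ω)
  intro ω'
  obtain ⟨g, rfl⟩ := MulAction.exists_smul_eq G ω ω'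
  rw [one_smul]
  have h1 : g⁻¹ * x * g⁻¹⁻¹ ∈ MulAction.stabilizer G ω := hx g⁻¹
  rw [MulAction.mem_stabilizer_iff] at h1
  calc x • g • ω = g • ((g⁻¹ * x * g⁻¹⁻¹) • ω) := by
        rw [inv_inv, ← mul_smul, ← mul_smul]
        congr 1
        group
    _ = g • ω := by rw [h1]

theorem nontrivial_of_ne_bot [FaithfulSMul G Ω] (M : Subgroup G) (hM : M ≠ ⊥) : Nontrivial Ω := by
  by_contra hnt
  rw [not_nontrivial_iff_subsingleton] at hnt
  apply hM
  rw [eq_bot_iff]
  intro x _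
  rw [Subgroup.mem_bot]
  apply FaithfulSMul.eq_of_smul_eq_smul (α := Ω)
  intro ω
  exact Subsingleton.elim _ _

theorem prim_solv_complement [Finite G] [Group.IsSolvable G] [FaithfulSMul G Ω]
    (hprim : MulAction.IsPreprimitive G Ω) (M : Subgroup G) [M.Normal] (hM : M ≠ ⊥)
    (hmin : ∀ K : Subgroup G, K.Normal → K ≤ M → K = ⊥ ∨ K = M) (ω : Ω) :
    Subgroup.IsComplement' M (MulAction.stabilizer G ω) ∧
    MulAction.stabilizer G ω ⊓ Subgroup.centralizer (M : Set G) = ⊥ ∧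
    ∀ K : Subgroup G, K ≤ M → MulAction.stabilizer G ω ≤ Subgroup.normalizer (K : Set G) →
      K = ⊥ ∨ K = M := by
  haveI := hprim
  haveI : MulAction.IsPretransitive G Ω := hprim.toIsPretransitive
  haveI : Nontrivial Ω := nontrivial_of_ne_bot M hM
  have hU : IsCoatom (MulAction.stabilizer G ω) :=
    MulAction.IsPreprimitive.isCoatom_stabilizer_of_isPreprimitive (G := G) (X := Ω) ω
  have hcore := normalCore_stabilizer_eq_bot (G := G) ω
  obtain ⟨hMc, -⟩ := Cfsg.Agent.Lib.Helper1.minimal_normal_of_solvable M hM hmin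
  exact ⟨isComplement'_of_corefree _ hU hcore M hM hMc hmin,
    inf_centralizer_eq_bot _ hU hcore M hM,
    fun K hKM hKU => eq_bot_or_eq_of_normalized _ hU hcore M hM hMc hmin K hKM hKU⟩

theorem prim_solv_regular [Finite G] [Group.IsSolvable G] [Nonempty Ω] [FaithfulSMul G Ω]
    (hprim : MulAction.IsPreprimitive G Ω) (M : Subgroup G) [M.Normal] (hM : M ≠ ⊥)
    (hmin : ∀ K : Subgroup G, K.Normal → K ≤ M → K = ⊥ ∨ K = M) :
    MulAction.IsPretransitive M Ω ∧ (∀ ω : Ω, MulAction.stabilizer M ω = ⊥) ∧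
    ∃ p d : ℕ, p.Prime ∧ 0 < d ∧ Nat.card Ω = p ^ d ∧ Nat.card M = p ^ d := by
  haveI := hprim
  haveI : MulAction.IsPretransitive G Ω := hprim.toIsPretransitive
  have hcomp := fun ω => (prim_solv_complement hprim M hM hmin ω).1
  refine ⟨⟨?_⟩, ?_, ?_⟩
  · intro ω ω'
    obtain ⟨g, hg⟩ := MulAction.exists_smul_eq G ω ω'
    have h1 : g ∈ (M ⊔ MulAction.stabilizer G ω : Subgroup G) := by
      rw [(hcomp ω).sup_eq_top]; exact Subgroup.mem_top g
    rw [← SetLike.mem_coe, Subgroup.normal_mul] at h1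
    obtain ⟨m, hm, u, hu, rfl⟩ := Set.mem_mul.mp h1
    refine ⟨⟨m, hm⟩, ?_⟩
    rw [← hg, mul_smul, MulAction.mem_stabilizer_iff.mp hu]
    rfl
  · intro ω
    rw [eq_bot_iff]
    intro x hx
    rw [Subgroup.mem_bot]
    have h1 : (x : G) ∈ M ⊓ MulAction.stabilizer G ω := ⟨x.2, hx⟩
    rw [disjoint_iff.mp (hcomp ω).disjoint, Subgroup.mem_bot] at h1
    exact Subtype.ext h1
  · obtain ⟨-, p, hp, hexp⟩ := Cfsg.Agent.Lib.Helper1.minimal_normal_of_solvable M hM hmin
    haveI : Fact p.Prime := ⟨hp⟩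
    have hMp : IsPGroup p M := by
      intro x
      refine ⟨1, ?_⟩
      rw [pow_one]
      apply Subtype.ext
      rw [Subgroup.coe_pow]
      exact hexp x x.2
    obtain ⟨d, hd⟩ := IsPGroup.iff_card.mp hMp
    obtain ⟨ω⟩ := ‹Nonempty Ω›
    refine ⟨p, d, hp, ?_, ?_, hd⟩
    · rcases Nat.eq_zero_or_pos d with h0 | h0
      · exfalso
        rw [h0, pow_zero] at hd
        exact hM (Subgroup.card_eq_one.mp hd)
      · exact h0
    · rw [← MulAction.index_stabilizer_of_transitive G ω, (hcomp ω).index_eq_card, hd]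

end action

end Cfsg.Agent.Lib.helper4
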