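import Mathlib
import Cfsg.Agent.Lib.Helper1.ConverseHall

set_option autoImplicit false

namespace Cfsg.Agent.Lib.helper4

universe u

/-- every nontrivial subgroup has, for each prime divisor `p` of its order, a proper subgroup of
`p`-power index -/
def HasPPIdx (G : Type u) [Group G] : Prop :=
  ∀ H : Subgroup G, H ≠ ⊥ → ∀ p : ℕ, p.Prime → p ∣ Nat.card H →
    ∃ K : Subgroup H, K ≠ ⊤ ∧ ∃ k : ℕ, K.index = p ^ k

theorem hasPPIdx_subgroup {G : Type u} [Group G] (h : HasPPIdx G) (L : Subgroup G) :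
    HasPPIdx L := by
  intro H' hH' p hp hpd
  have hinj : Function.Injective L.subtype := L.subtype_injective
  let e : H' ≃* H'.map L.subtype := H'.equivMapOfInjective L.subtype hinj
  have hne : H'.map L.subtype ≠ ⊥ := by
    intro hb
    exact hH' ((Subgroup.map_eq_bot_iff_of_injective H' hinj).mp hb)
  have hcard : Nat.card (H'.map L.subtype) = Nat.card H' := (Nat.card_congr e.toEquiv).symm
  obtain ⟨K, hK, k, hk⟩ := h (H'.map L.subtype) hne p hp (by rw [hcard]; exact hpd)
  have hidx : (K.comap e.toMonoidHom).index = K.index :=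
    Subgroup.index_comap_of_surjective K e.surjective
  refine ⟨K.comap e.toMonoidHom, ?_, k, by rw [hidx, hk]⟩
  intro htop
  rw [← Subgroup.index_eq_one, hidx, Subgroup.index_eq_one] at htop
  exact hK htop

theorem exists_proper_ppidx {G : Type u} [Group G] (h : HasPPIdx G) (p : ℕ) (hp : p.Prime)
    (hpd : p ∣ Nat.card G) : ∃ K : Subgroup G, K ≠ ⊤ ∧ ∃ k : ℕ, K.index = p ^ k := by
  have hne : (⊤ : Subgroup G) ≠ ⊥ := by
    intro hb
    have h1 : Nat.card (⊤ : Subgroup G) = 1 := by rw [hb]; exact Subgroup.card_bot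
    rw [Subgroup.card_top] at h1
    rw [h1] at hpd
    exact hp.one_lt.ne' (Nat.dvd_one.mp hpd)
  obtain ⟨K, hK, k, hk⟩ := h ⊤ hne p hp (by rw [Subgroup.card_top]; exact hpd)
  have hidx : (K.map (⊤ : Subgroup G).subtype).index = K.index := by
    rw [Subgroup.index_map_subtype, Subgroup.index_top, mul_one]
  refine ⟨K.map (⊤ : Subgroup G).subtype, ?_, k, by rw [hidx, hk]⟩
  intro htop
  rw [← Subgroup.index_eq_one, hidx, Subgroup.index_eq_one] at htop
  exact hK htop

theorem solvable_of_hasPPIdx_aux : ∀ (n : ℕ) (G : Type u) [Group G] [Finite G], Nat.card G = n →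
    HasPPIdx G → Group.IsSolvable G := by
  intro n
  induction n using Nat.strong_induction_on with
  | _ n ih =>
    intro G _ _ hn hG
    have hn0 : n ≠ 0 := hn ▸ Nat.card_pos.ne'
    by_cases h3 : ∃ p q r : ℕ, p.Prime ∧ q.Prime ∧ r.Prime ∧ p ≠ q ∧ p ≠ r ∧ q ≠ r ∧
        p ∣ n ∧ q ∣ n ∧ r ∣ n
    · obtain ⟨p, q, r, hp, hq, hr, hpq, hpr, hqr, hpn, hqn, hrn⟩ := h3
      obtain ⟨Hp, hHp, a, ha⟩ := exists_proper_ppidx hG p hp (hn ▸ hpn)
      obtain ⟨Hq, hHq, b, hb⟩ := exists_proper_ppidx hG q hq (hn ▸ hqn)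
      obtain ⟨Hr, hHr, c, hc⟩ := exists_proper_ppidx hG r hr (hn ▸ hrn)
      have solv : ∀ (H : Subgroup G), H ≠ ⊤ → Group.IsSolvable H := by
        intro H hH
        apply ih (Nat.card H) ?_ H rfl (hasPPIdx_subgroup hG H)
        rw [← hn]
        refine lt_of_le_of_ne (Subgroup.card_le_card_group H) ?_
        intro hc
        exact hH ((Subgroup.card_eq_iff_eq_top H).mp hc)
      have cop : ∀ (p q : ℕ) (hp : p.Prime) (hq : q.Prime) (hpq : p ≠ q) (a b : ℕ),
          (p ^ a).Coprime (q ^ b) := by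
        intro p q hp hq hpq a b
        exact Nat.Coprime.pow _ _ ((Nat.coprime_primes hp hq).mpr hpq)
      exact Cfsg.Agent.Lib.Helper1.three_solvable Hp Hq Hr (solv Hp hHp) (solv Hq hHq)
        (solv Hr hHr)
        (Cfsg.Agent.Lib.Helper1.exists_mul_of_coprime_index Hp Hq
          (by rw [ha, hb]; exact cop p q hp hq hpq a b))
        (Cfsg.Agent.Lib.Helper1.exists_mul_of_coprime_index Hp Hr
          (by rw [ha, hc]; exact cop p r hp hr hpr a c))
        (by rw [hb, hc]; exact cop q r hq hr hqr b c)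
    · obtain ⟨p, q, a, b, hp, hq, hnab⟩ :=
        Cfsg.Agent.Lib.Helper1.two_primes_of_not_three n hn0 h3
      exact Cfsg.Agent.Lib.helper2.burnside_pq p q a b hp hq (hn.trans hnab)

theorem solvable_of_hasPPIdx {G : Type u} [Group G] [Finite G] (h : HasPPIdx G) :
    Group.IsSolvable G :=
  solvable_of_hasPPIdx_aux _ G rfl h

end Cfsg.Agent.Lib.helper4
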