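import Mathlib
import Cfsg.Agent.Lib.Helper18.REELA.Defs
import Cfsg.Agent.Lib.Helper16.O9HKSUP

/-! REE block LA, row LA04 (`la_split`), helper4: core on the statement of LA03 (`la_charpoly`). -/

set_option autoImplicit false

namespace Cfsg.Agent.Lib.helper7.REE

open Matrix Polynomial

universe v

section finite

variable {K : Type v} [Field K] [Fintype K]

/-- an irreducible polynomial of degree `6` is coprime to `X - 1` -/
theorem reela04_coprime (p : K[X]) (hp : Irreducible p) (hdeg : p.natDegree = 6) :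
    IsCoprime (X - 1 : K[X]) p := by
  have hX1 : (X - 1 : K[X]) = X - C 1 := by rw [map_one]
  rw [hX1]
  refine ((irreducible_X_sub_C (1 : K)).coprime_iff_not_dvd).mpr ?_
  rintro ⟨c, hc⟩
  rcases hp.isUnit_or_isUnit hc with h | h
  · exact (irreducible_X_sub_C (1 : K)).not_isUnit h
  · have hc0 : c ≠ 0 := h.ne_zero
    have h1 : p.natDegree = 1 + c.natDegree := by
      rw [hc, natDegree_mul (X_sub_C_ne_zero 1) hc0, natDegree_X_sub_C]
    rw [natDegree_eq_zero_of_isUnit h] at h1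
    omega

/-- LA04 core: `h3` is the statement of LA03 for this `l` -/
theorem reela04_core (l : ℕ) (hl : l.Prime) (M : GL (Fin 7) K) (hM : orderOf M = l)
    (h3 : ∀ M' : Matrix (Fin 7) (Fin 7) K, M' ^ l = 1 → M' ≠ 1 →
      ∃ p : K[X], Irreducible p ∧ p.Monic ∧ p.natDegree = 6 ∧ M'.charpoly = (X - 1) * p) :
    ∃ p : K[X], p.natDegree = 6 ∧ LaSplit (laHom (Fin 7) K M) p := by
  have hMl : (M : Matrix (Fin 7) (Fin 7) K) ^ l = 1 := by
    have h1 := pow_orderOf_eq_one M
    rw [hM] at h1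
    have h2 := congrArg (fun u : GL (Fin 7) K => (u : Matrix (Fin 7) (Fin 7) K)) h1
    simpa using h2
  have hM1 : (M : Matrix (Fin 7) (Fin 7) K) ≠ 1 := by
    intro h
    have h1 : M = 1 := Units.ext h
    rw [h1, orderOf_one] at hM
    exact hl.one_lt.ne hM
  obtain ⟨p, hp, _, hdeg, hχ⟩ := h3 _ hMl hM1
  refine ⟨p, hdeg, ?_⟩
  have hcop : IsCoprime (X - 1 : K[X]) p := reela04_coprime p hp hdeg
  have hev : p.eval 1 ≠ 0 := by
    obtain ⟨u, w, huw⟩ := hcop
    intro h0
    have h1 := congrArg (Polynomial.eval 1) huw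
    simp [h0] at h1
  have hχ1 : (M : Matrix (Fin 7) (Fin 7) K).charpoly = (X - 1) ^ 1 * p := by
    rw [pow_one]; exact hχ
  obtain ⟨hd1, _, hd2⟩ := Cfsg.Agent.Lib.Helper16.O9H.ker_dim_one M 1 p hev hχ1
  have hcompl := Cfsg.Agent.Lib.Helper16.O9H.ker_sup M (X - 1) p hcop hχ
  have hker : LinearMap.ker (aeval (Matrix.toLin' (M : Matrix (Fin 7) (Fin 7) K)) (X - 1 : K[X])) =
      LinearMap.ker (laHom (Fin 7) K M - 1) := by
    rw [laHom_apply, map_sub, aeval_X, map_one]
  rw [pow_one] at hd1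
  constructor
  · exact hp
  · rw [← hker]; exact hd1
  · exact hd2
  · rw [← hker]; exact hcompl

end finite

end Cfsg.Agent.Lib.helper7.REE
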