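import Mathlib
import Cfsg.Agent.Lib.helper8.RSM.Defs
import Cfsg.Agent.Lib.helper4.RSMC1
import Cfsg.Agent.Lib.helper4.RSME5

/-! RSM row E6 (`proj_conj`), second copy by helper4 under the name `rsme6_h4`
(hypothesis `hD4` = the statement of D4 `U2_abelian`). -/

set_option autoImplicit false

namespace Cfsg.Agent.Lib.helper8.RSM

universe u v w

variable {G : Type u} [Group G] {K : Type v} [Field K] [Fintype K] {m : ℕ}
variable {Γ : Type w} [Group Γ] {σ : Γ →* G}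

/-- peel the first factor of the average -/
theorem rsme6_avg_succ' {Γ : Type w} [Group Γ] (H0 : Γ) (n : ℕ) (w : Γ) :
    avg H0 (n + 1) w = w * avg H0 n (H0 * w * H0⁻¹) := by
  induction n with
  | zero =>
    rw [rsme5_avg_succ, rsme5_avg_zero, rsme5_avg_zero, pow_zero, one_mul, one_mul, inv_one,
      mul_one]
  | succ n ih =>
    rw [rsme5_avg_succ, ih, rsme5_avg_succ H0 n (H0 * w * H0⁻¹)]
    have h1 : H0 ^ n * (H0 * w * H0⁻¹) * (H0 ^ n)⁻¹ = H0 ^ (n + 1) * w * (H0 ^ (n + 1))⁻¹ := by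
      rw [pow_succ]; group
    rw [h1, mul_assoc]

/-- `U₂` is closed under products -/
theorem rsme6_InU2_mul (RU : ReeU G K m) (g g' : G) (hg : RU.InU2 g) (hg' : RU.InU2 g') :
    RU.InU2 (g * g') := by
  obtain ⟨u, v, rfl⟩ := hg
  obtain ⟨u', v', rfl⟩ := hg'
  exact ⟨u + u', v + v', rsmc1_right RU 0 u v u' v'⟩

/-- conjugation by a lift of `h0 ^ i` preserves the preimage of `U₂` -/
theorem rsme6_InU2_conj (RU : ReeU G K m) (H0 : Γ) (hH0 : σ H0 = RU.h0) (i : ℕ) (w : Γ)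
    (hw : RU.InU2 (σ w)) : RU.InU2 (σ (H0 ^ i * w * (H0 ^ i)⁻¹)) := by
  induction i with
  | zero => simpa using hw
  | succ i ih =>
    obtain ⟨u, v, huv⟩ := ih
    have h1 : H0 ^ (i + 1) * w * (H0 ^ (i + 1))⁻¹ = H0 * (H0 ^ i * w * (H0 ^ i)⁻¹) * H0⁻¹ := by
      rw [pow_succ']; group
    rw [h1, map_mul, map_mul, map_inv, hH0, huv, RU.h0_conj, mul_zero]
    exact ⟨_, _, rfl⟩

/-- the average of an element over `U₂` lies over `U₂` -/
theorem rsme6_InU2_avg (RU : ReeU G K m) (H0 : Γ) (hH0 : σ H0 = RU.h0) (n : ℕ) (w : Γ)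
    (hw : RU.InU2 (σ w)) : RU.InU2 (σ (avg H0 n w)) := by
  induction n with
  | zero =>
    rw [rsme5_avg_zero, map_one]
    exact ⟨0, 0, (x_basic RU).1.symm⟩
  | succ n ih =>
    rw [rsme5_avg_succ, map_mul]
    exact rsme6_InU2_mul RU _ _ ih (rsme6_InU2_conj RU H0 hH0 n w hw)

/-- the case `i = 1` -/
theorem rsme6_step (RU : ReeU G K m)
    (hD4 : ∀ g g' : Γ, RU.InU2 (σ g) → RU.InU2 (σ g') → g * g' = g' * g)
    (H0 : Γ) (hH0 : σ H0 = RU.h0) (hpow : H0 ^ (3 ^ (2 * m + 1) - 1) = 1) (w : Γ)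
    (hw : RU.InU2 (σ w)) : proj H0 m (H0 * w * H0⁻¹) = proj H0 m w := by
  unfold proj
  have h1 := rsme6_avg_succ' H0 (3 ^ (2 * m + 1) - 1) w
  have h2 := rsme5_avg_succ H0 (3 ^ (2 * m + 1) - 1) w
  rw [hpow, one_mul, inv_one, mul_one] at h2
  have h3 : avg H0 (3 ^ (2 * m + 1) - 1) w * w = w * avg H0 (3 ^ (2 * m + 1) - 1) w :=
    hD4 _ _ (rsme6_InU2_avg RU H0 hH0 _ w hw) hw
  have h4 : w * avg H0 (3 ^ (2 * m + 1) - 1) (H0 * w * H0⁻¹) =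
      w * avg H0 (3 ^ (2 * m + 1) - 1) w := by rw [← h1, h2, h3]
  rw [mul_left_cancel h4]

/-- E6 (second copy): `hD4` is the statement of D4 `U2_abelian` -/
theorem rsme6_h4 (RU : ReeU G K m)
    (hD4 : ∀ g g' : Γ, RU.InU2 (σ g) → RU.InU2 (σ g') → g * g' = g' * g)
    (H0 : Γ) (hH0 : σ H0 = RU.h0) (hpow : H0 ^ (3 ^ (2 * m + 1) - 1) = 1) (i : ℕ) (w : Γ)
    (hw : RU.InU2 (σ w)) : proj H0 m (H0 ^ i * w * (H0 ^ i)⁻¹) = proj H0 m w := by
  induction i with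
  | zero => simp
  | succ i ih =>
    have h1 : H0 ^ (i + 1) * w * (H0 ^ (i + 1))⁻¹ = H0 * (H0 ^ i * w * (H0 ^ i)⁻¹) * H0⁻¹ := by
      rw [pow_succ']; group
    rw [h1, rsme6_step RU hD4 H0 hH0 hpow _ (rsme6_InU2_conj RU H0 hH0 i w hw), ih]

/-- E4 (second copy): `hD4` is the statement of D4 `U2_abelian` -/
theorem rsme4_h4 (RU : ReeU G K m)
    (hD4 : ∀ g g' : Γ, RU.InU2 (σ g) → RU.InU2 (σ g') → g * g' = g' * g)
    (H0 : Γ) (hH0 : σ H0 = RU.h0) (w w' : Γ)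
    (hw : RU.InU2 (σ w)) (hw' : RU.InU2 (σ w')) :
    proj H0 m (w * w') = proj H0 m w * proj H0 m w' := by
  have havg : ∀ n, avg H0 n (w * w') = avg H0 n w * avg H0 n w' := by
    intro n
    induction n with
    | zero => rw [rsme5_avg_zero, rsme5_avg_zero, rsme5_avg_zero, one_mul]
    | succ n ih =>
      rw [rsme5_avg_succ, rsme5_avg_succ H0 n w, rsme5_avg_succ H0 n w', ih]
      have hc : avg H0 n w' * (H0 ^ n * w * (H0 ^ n)⁻¹) =
          (H0 ^ n * w * (H0 ^ n)⁻¹) * avg H0 n w' :=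
        hD4 _ _ (rsme6_InU2_avg RU H0 hH0 n w' hw') (rsme6_InU2_conj RU H0 hH0 n w hw)
      have h1 : H0 ^ n * (w * w') * (H0 ^ n)⁻¹ =
          (H0 ^ n * w * (H0 ^ n)⁻¹) * (H0 ^ n * w' * (H0 ^ n)⁻¹) := by group
      rw [h1]
      calc avg H0 n w * avg H0 n w' * ((H0 ^ n * w * (H0 ^ n)⁻¹) * (H0 ^ n * w' * (H0 ^ n)⁻¹))
          = avg H0 n w * (avg H0 n w' * (H0 ^ n * w * (H0 ^ n)⁻¹)) * (H0 ^ n * w' * (H0 ^ n)⁻¹) := by
            simp only [mul_assoc]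
        _ = avg H0 n w * ((H0 ^ n * w * (H0 ^ n)⁻¹) * avg H0 n w') * (H0 ^ n * w' * (H0 ^ n)⁻¹) := by
            rw [hc]
        _ = avg H0 n w * (H0 ^ n * w * (H0 ^ n)⁻¹) * (avg H0 n w' * (H0 ^ n * w' * (H0 ^ n)⁻¹)) := by
            simp only [mul_assoc]
  unfold proj
  rw [havg, ← mul_inv_rev]
  have hc : avg H0 (3 ^ (2 * m + 1) - 1) w * avg H0 (3 ^ (2 * m + 1) - 1) w' =
      avg H0 (3 ^ (2 * m + 1) - 1) w' * avg H0 (3 ^ (2 * m + 1) - 1) w :=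
    hD4 _ _ (rsme6_InU2_avg RU H0 hH0 _ w hw) (rsme6_InU2_avg RU H0 hH0 _ w' hw')
  rw [hc]

end Cfsg.Agent.Lib.helper8.RSM
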