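import Mathlib
import Cfsg.Agent.Lib.helper8.RSM.Defs

/-! RSM row G1 (`e8_seven`), helper4. -/

set_option autoImplicit false

namespace Cfsg.Agent.Lib.helper8.RSM

universe u v w

/-- G1 [M]. `7 ∣ 168`: Cauchy gives `g ∈ N(S)` of order 7; `g ∉ C(S) = S` (a 2-group).  The 7-group
`⟨g⟩` acts on `S` by conjugation, so `|C_S(g)| ≡ 8 ≡ 1 mod 7` (`IsPGroup.card_modEq_card_fixedPoints`
or by hand) and `|C_S(g)| ∣ 8`, `≠ 8`: `C_S(g) = 1`. -/
theorem e8_seven {G : Type u} [Group G] [Finite G] (S : Sylow 2 G) (h8 : Nat.card S = 8)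
    (hC : Subgroup.centralizer ((S : Subgroup G) : Set G) = S)
    (hN : Nat.card (Subgroup.normalizer ((S : Subgroup G) : Set G)) = 168) :
    ∃ g : G, g ^ 7 = 1 ∧ (∀ x ∈ S, g * x * g⁻¹ ∈ S) ∧ ∀ x ∈ S, g * x * g⁻¹ = x → x = 1 := by
  classical
  haveI : Fact (Nat.Prime 7) := ⟨by norm_num⟩
  obtain ⟨g', hg'⟩ := exists_prime_orderOf_dvd_card'
    (G := ↥(Subgroup.normalizer ((S : Subgroup G) : Set G))) 7 (by rw [hN]; norm_num)
  have hgo : orderOf (g' : G) = 7 := by rw [Subgroup.orderOf_coe]; exact hg'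
  have hg7 : (g' : G) ^ 7 = 1 := by rw [← hgo]; exact pow_orderOf_eq_one _
  have hgN : ∀ x, x ∈ (S : Subgroup G) ↔ (g' : G) * x * (g' : G)⁻¹ ∈ (S : Subgroup G) :=
    Subgroup.mem_normalizer_iff.mp g'.2
  refine ⟨g', hg7, fun x hx => (hgN x).mp hx, ?_⟩
  haveI : Fintype (S : Subgroup G) := Fintype.ofFinite _
  let f : Function.End (S : Subgroup G) := fun x => ⟨(g' : G) * x.1 * (g' : G)⁻¹, (hgN x.1).mp x.2⟩
  have hfpow : ∀ k : ℕ, ∀ x : (S : Subgroup G),
      ((f ^ k) x).1 = (g' : G) ^ k * x.1 * ((g' : G) ^ k)⁻¹ := by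
    intro k
    induction k with
    | zero =>
      intro x
      simp
      rfl
    | succ k ih =>
      intro x
      have h1 : (f ^ (k + 1)) x = f ((f ^ k) x) := by rw [pow_succ']; rfl
      rw [h1]
      show (g' : G) * ((f ^ k) x).1 * (g' : G)⁻¹ = _
      rw [ih, pow_succ']
      group
  have hf7 : f ^ 7 ^ 1 = 1 := by
    rw [pow_one]
    have h1 : ∀ x, (f ^ 7) x = x := by
      intro x
      apply Subtype.ext
      rw [hfpow, hg7]
      simp
    exact funext h1
  have hmod := Equiv.Perm.card_fixedPoints_modEq (f := f) (p := 7) (n := 1) hf7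
  have hcardS : Fintype.card (S : Subgroup G) = 8 := by
    rw [← Nat.card_eq_fintype_card]; exact h8
  rw [hcardS] at hmod
  -- not every element is fixed
  have hnotall : ∃ x : (S : Subgroup G), ¬ f x = x := by
    by_contra hall
    rw [not_exists] at hall
    have hall : ∀ x : (S : Subgroup G), f x = x := fun x => not_not.mp (hall x)
    have hgc : (g' : G) ∈ Subgroup.centralizer ((S : Subgroup G) : Set G) := by
      rw [Subgroup.mem_centralizer_iff]
      intro h hh
      have h1 := congrArg Subtype.val (hall ⟨h, hh⟩)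
      have h2 : (g' : G) * h * (g' : G)⁻¹ = h := h1
      have h3 : (g' : G) * h * (g' : G)⁻¹ * (g' : G) = h * (g' : G) := by rw [h2]
      rw [inv_mul_cancel_right] at h3
      exact h3.symm
    rw [hC] at hgc
    have h1 : orderOf (g' : G) ∣ Nat.card (S : Subgroup G) := Subgroup.orderOf_dvd_natCard _ hgc
    rw [hgo] at h1
    have h2 : Nat.card (S : Subgroup G) = 8 := h8
    rw [h2] at h1
    omega
  obtain ⟨x0, hx0⟩ := hnotall
  have hlt : Fintype.card (Function.fixedPoints f) < Fintype.card (S : Subgroup G) :=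
    Fintype.card_subtype_lt (p := fun x => x ∈ Function.fixedPoints f) (x := x0) hx0
  rw [hcardS] at hlt
  have hcard1 : Fintype.card (Function.fixedPoints f) = 1 := by
    have h1 : 8 % 7 = Fintype.card (Function.fixedPoints f) % 7 := hmod
    omega
  intro x hx hfix
  have hxf : (⟨x, hx⟩ : (S : Subgroup G)) ∈ Function.fixedPoints f := Subtype.ext hfix
  have h1f : (1 : (S : Subgroup G)) ∈ Function.fixedPoints f := by
    apply Subtype.ext
    show (g' : G) * (1 : G) * (g' : G)⁻¹ = 1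
    group
  have hsub := Fintype.card_le_one_iff.mp (le_of_eq hcard1)
    ⟨(⟨x, hx⟩ : (S : Subgroup G)), hxf⟩ ⟨(1 : (S : Subgroup G)), h1f⟩
  have h2 := congrArg (fun y : Function.fixedPoints f => ((y : (S : Subgroup G)) : G)) hsub
  exact h2

end Cfsg.Agent.Lib.helper8.RSM
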