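import Mathlib
import Cfsg.Agent.Lib.Helper19.S5954.Defs
import Cfsg.Agent.Lib.helper4.S5954.NSDefs

/-!
# Project S5954, part NS, rows NSDIMGE and NSMINSP (cores).  (helper4)
-/

set_option autoImplicit false
set_option linter.unusedVariables false
set_option linter.unusedSectionVars false

namespace Cfsg.Agent.Lib.Helper19.S5954

open Polynomial Module Cfsg.Agent.Lib.Helper13.S5955

variable {F : Type*} [Field F] {V : Type*} [AddCommGroup V] [Module F V]

/-- NSDIMGE, core: `hind` is the conclusion of NSIND. -/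
theorem s5954nsdimge_core [FiniteDimensional F V] {r : ℕ} (x : Module.End F V)
    (hind : ∀ u : V, u ≠ 0 → LinearIndependent F (fun k : Fin r => (x ^ (k : ℕ)) u))
    (U : Submodule F V) (hU : SInv x U) (hU0 : U ≠ ⊥) : r ≤ finrank F U := by
  obtain ⟨u, huU, hu0⟩ := Submodule.exists_mem_ne_zero_of_ne_bot hU0
  have hli : LinearIndependent F (fun k : Fin r =>
      (⟨(x ^ (k : ℕ)) u, Cfsg.Agent.Lib.Helper24.el_pow_mem hU (k : ℕ) huU⟩ : U)) := by
    apply LinearIndependent.of_comp U.subtype
    exact hind u hu0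
  have h := hli.fintype_card_le_finrank
  rwa [Fintype.card_fin] at h

/-- NSMINSP, core: an invariant subspace with a non-isotropic eigenvector contains an invariant nondegenerate line. -/
theorem s5954nsminsp_core {σ : F →+* F} {B : V →ₛₗ[σ] V →ₗ[F] F} {y : Module.End F V}
    (N : Submodule F V) (u : V) (hu : u ∈ N) (c : F) (hyu : y u = c • u) (huu : B u u ≠ 0) :
    ∃ L : Submodule F V, L ≤ N ∧ SInv y L ∧ HND B L ∧ finrank F L = 1 := by
  have hu0 : u ≠ 0 := by
    rintro rfl
    apply huu
    rw [map_zero]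
  refine ⟨Submodule.span F {u}, ?_, ?_, ?_, finrank_span_singleton hu0⟩
  · rw [Submodule.span_singleton_le_iff_mem]
    exact hu
  · intro w hw
    obtain ⟨a, rfl⟩ := Submodule.mem_span_singleton.mp hw
    rw [map_smul, hyu, smul_smul]
    exact Submodule.smul_mem _ _ (Submodule.mem_span_singleton_self u)
  · intro w hw hw'
    obtain ⟨a, rfl⟩ := Submodule.mem_span_singleton.mp hw
    have h1 := hw' u (Submodule.mem_span_singleton_self u)
    rw [LinearMap.map_smulₛₗ₂, smul_eq_mul] at h1
    rcases mul_eq_zero.mp h1 with h2 | h2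
    · rw [map_eq_zero] at h2
      rw [h2, zero_smul]
    · exact absurd h2 huu

end Cfsg.Agent.Lib.Helper19.S5954
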