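import Mathlib
import Cfsg.Agent.Lib.Helper19.S5954.Defs
import Cfsg.Agent.Lib.helper4.S5954.NSDefs
import Cfsg.Agent.Lib.Helper10.S5954UPEEL
import Cfsg.Agent.Lib.Helper20.S5954USUPND

/-!
# Project S5954, part NS, row NSLADDER: the generic ladder of invariant nondegenerate subspaces.  (helper4)
-/

set_option autoImplicit false
set_option linter.unusedVariables false
set_option linter.unusedSectionVars false

namespace Cfsg.Agent.Lib.Helper19.S5954

open Polynomial Module Cfsg.Agent.Lib.Helper13.S5955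

variable {F : Type*} [Field F] {V : Type*} [AddCommGroup V] [Module F V]

/-- NSLADDER [M]: generic ladder. -/
theorem ns_ladder [FiniteDimensional F V] {R : ℕ} (hR : 0 < R) {σ : F →+* F} {B : V →ₛₗ[σ] V →ₗ[F] F}
    {x : Module.End F V} (h : HCtx R σ B x) (d : ℕ)
    (hmin : ∀ N : Submodule F V, SInv x N → HND B N → N ≠ ⊥ →
      ∃ L : Submodule F V, L ≤ N ∧ SInv x L ∧ HND B L ∧ finrank F L = d)
    (t : ℕ) (ht : d * t ≤ finrank F V) :
    ∃ W : Submodule F V, SInv x W ∧ HND B W ∧ finrank F W = d * t := by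
  induction t with
  | zero =>
    refine ⟨⊥, ?_, ?_, ?_⟩
    · intro w hw
      rw [Submodule.mem_bot] at hw ⊢
      rw [hw, map_zero]
    · intro u hu _
      exact (Submodule.mem_bot F).mp hu
    · rw [finrank_bot, mul_zero]
  | succ t ih =>
    obtain ⟨W, hW, hWnd, hWd⟩ := ih (le_trans (Nat.mul_le_mul_left d (Nat.le_succ t)) ht)
    rcases Nat.eq_zero_or_pos d with hd0 | hdpos
    · subst hd0
      refine ⟨W, hW, hWnd, ?_⟩
      rw [hWd, zero_mul, zero_mul]
    · have hTinv : SInv x ⊤ := fun w _ => Submodule.mem_top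
      have hTnd : HND B ⊤ := fun u _ hu => h.nd u (fun v => hu v Submodule.mem_top)
      obtain ⟨N', -, hN', hN'nd, horth, -, hdim⟩ := h_peel hR h ⊤ W hTinv hTnd le_top hW hWnd
      rw [finrank_top] at hdim
      have hN'0 : N' ≠ ⊥ := by
        intro h0
        rw [h0, finrank_bot] at hdim
        rw [Nat.mul_succ] at ht
        omega
      obtain ⟨L, hLN, hL, hLnd, hLd⟩ := hmin N' hN' hN'nd hN'0
      have horth' : HOrth B W L := fun u hu w hw => horth u hu w (hLN hw)
      obtain ⟨hS, hSnd, hSd⟩ := h_sup_nd h W L hW hL hWnd hLnd horth'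
      exact ⟨W ⊔ L, hS, hSnd, by rw [hSd, hWd, hLd, Nat.mul_succ]⟩

end Cfsg.Agent.Lib.Helper19.S5954
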