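import Mathlib
import Cfsg.Agent.Lib.Helper19.S5954.Defs
import Cfsg.Agent.Lib.helper4.S5954.NSDefs

/-!
# Project S5954, part NS, row NSMINNS (core): the cyclic subspace of a non-isotropic vector is invariant and
nondegenerate of dimension `r`; the outputs of rows NSANISO (`v`), NSIND (`hind`), NSDIMGE (`hdimge`) are hypotheses.  (helper4)
-/

set_option autoImplicit false
set_option linter.unusedVariables false
set_option linter.unusedSectionVars false

namespace Cfsg.Agent.Lib.Helper19.S5954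

open Polynomial Module Cfsg.Agent.Lib.Helper13.S5955

variable {F : Type*} [Field F] {V : Type*} [AddCommGroup V] [Module F V]

/-- the radical of `B` on `L`, as a submodule. -/
def s5954nsminns_rad {σ : F →+* F} (B : V →ₛₗ[σ] V →ₗ[F] F) (L : Submodule F V) : Submodule F V where
  carrier := {u | u ∈ L ∧ ∀ v' ∈ L, B u v' = 0}
  add_mem' := by
    rintro a b ⟨ha, ha'⟩ ⟨hb, hb'⟩
    refine ⟨L.add_mem ha hb, fun v' hv' => ?_⟩
    rw [map_add, LinearMap.add_apply, ha' v' hv', hb' v' hv', add_zero]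
  zero_mem' := ⟨L.zero_mem, fun v' _ => by rw [map_zero, LinearMap.zero_apply]⟩
  smul_mem' := by
    rintro c a ⟨ha, ha'⟩
    refine ⟨L.smul_mem c ha, fun v' hv' => ?_⟩
    rw [LinearMap.map_smulₛₗ₂, ha' v' hv', smul_zero]

theorem s5954nsminns_core [FiniteDimensional F V] {r : ℕ} (hr0 : 0 < r) {σ : F →+* F} {B : V →ₛₗ[σ] V →ₗ[F] F}
    {x : Module.End F V} {z : F} (h : NSCtx r σ B x z) (hz0 : z ≠ 0)
    (N : Submodule F V) (hN : SInv x N) (v : V) (hv : v ∈ N) (hvv : B v v ≠ 0)
    (hind : LinearIndependent F (fun k : Fin r => (x ^ (k : ℕ)) v))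
    (hdimge : ∀ U : Submodule F V, SInv x U → U ≠ ⊥ → r ≤ finrank F U) :
    ∃ L : Submodule F V, L ≤ N ∧ SInv x L ∧ HND B L ∧ finrank F L = r := by
  classical
  obtain ⟨L, hLdef⟩ : ∃ L : Submodule F V,
      L = Submodule.span F (Set.range (fun k : Fin r => (x ^ (k : ℕ)) v)) := ⟨_, rfl⟩
  have hgen : ∀ k : ℕ, k < r → (x ^ k) v ∈ L := by
    intro k hk
    rw [hLdef]
    exact Submodule.subset_span ⟨⟨k, hk⟩, rfl⟩
  have hvL : v ∈ L := by
    have := hgen 0 hr0
    rwa [pow_zero, Module.End.one_apply] at this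
  have hLN : L ≤ N := by
    rw [hLdef, Submodule.span_le]
    rintro _ ⟨k, rfl⟩
    exact Cfsg.Agent.Lib.Helper24.el_pow_mem hN (k : ℕ) hv
  have hLinv : SInv x L := by
    have hle : L ≤ L.comap x := by
      conv_lhs => rw [hLdef]
      rw [Submodule.span_le]
      rintro _ ⟨k, rfl⟩
      show x ((x ^ (k : ℕ)) v) ∈ L
      rw [← Module.End.mul_apply, ← pow_succ']
      by_cases hk : (k : ℕ) + 1 < r
      · exact hgen _ hk
      · have hk' : (k : ℕ) + 1 = r := by
          have := k.isLt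
          omega
        rw [hk', h.pow, LinearMap.smul_apply, Module.End.one_apply]
        exact L.smul_mem z hvL
    intro w hw
    exact hle hw
  have hLd : finrank F L = r := by
    rw [hLdef, finrank_span_eq_card hind, Fintype.card_fin]
  -- the radical
  have hRle : s5954nsminns_rad B L ≤ L := fun u hu => hu.1
  have hxi : ∀ v' ∈ L, ∃ w' ∈ L, x w' = v' := by
    intro v' hv'
    refine ⟨z⁻¹ • (x ^ (r - 1)) v', L.smul_mem _ (Cfsg.Agent.Lib.Helper24.el_pow_mem hLinv (r - 1) hv'), ?_⟩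
    rw [map_smul, ← Module.End.mul_apply, ← pow_succ', Nat.sub_add_cancel hr0, h.pow,
      LinearMap.smul_apply, Module.End.one_apply, smul_smul, inv_mul_cancel₀ hz0, one_smul]
  have hRinv : SInv x (s5954nsminns_rad B L) := by
    rintro u ⟨huL, hu⟩
    refine ⟨hLinv u huL, fun v' hv' => ?_⟩
    obtain ⟨w', hw'L, hw'⟩ := hxi v' hv'
    rw [← hw', h.pres]
    exact hu w' hw'L
  have hvR : v ∉ s5954nsminns_rad B L := fun hvR => hvv (hvR.2 v hvL)
  have hR0 : s5954nsminns_rad B L = ⊥ := by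
    by_contra hne
    have h1 := hdimge _ hRinv hne
    have h2 : s5954nsminns_rad B L = L :=
      Submodule.eq_of_le_of_finrank_le hRle (by rw [hLd]; exact h1)
    apply hvR
    rw [h2]
    exact hvL
  refine ⟨L, hLN, hLinv, ?_, hLd⟩
  intro u hu hu'
  have : u ∈ s5954nsminns_rad B L := ⟨hu, hu'⟩
  rw [hR0] at this
  exact (Submodule.mem_bot F).mp this

end Cfsg.Agent.Lib.Helper19.S5954
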