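import Mathlib
import Cfsg.Agent.Lib.Helper19.S5954.Defs
import Cfsg.Agent.Lib.Helper19.S5954.DefsTop
import Cfsg.Agent.Lib.Helper19.S5954.X
import Cfsg.Agent.Lib.helper4.S5954.NSDefs
import Cfsg.Agent.Lib.helper4.S5954NSLADDER
import Cfsg.Agent.Lib.helper4.S5954NSMINNScore
import Cfsg.Agent.Lib.helper4.S5954NSDIMGEcore
import Cfsg.Agent.Lib.helper8.SFOTYPEB
import Cfsg.Agent.Lib.Helper24.S5954NSB
import Cfsg.Agent.Lib.Helper28.S5954NSANISO
import Cfsg.Agent.Lib.Helper28.S5954NSIND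
import Cfsg.Agent.Lib.Helper28.S5954NSEIG

/-!
# Project S5954, TOP row TIS (`top_i2_suff`): `r` odd, `r ∣ q + 1`, sufficiency.  (helper4)

Split case (`z = w ^ r`): `y = w⁻¹ • x` is an isometry with `y ^ r = 1` (`x_ctx`); non-isotropic eigenvectors (NSANISO, NSEIG)
give invariant nondegenerate lines, the ladder (NSLADDER) every dimension.  Non-split case: `typeB` + NSARITH1 force `r ∣ m`;
cyclic subspaces of non-isotropic vectors are invariant nondegenerate of dimension `r` (NSIND, NSDIMGE, NSMINNS), ladder.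
-/

set_option autoImplicit false
set_option linter.unusedVariables false
set_option linter.unusedSectionVars false

namespace Cfsg.Agent.Lib.Helper19.S5954

open Polynomial Module Cfsg.Agent.Lib.Helper13.S5955

variable {F : Type*} [Field F] [Fintype F] {p : ℕ} [Fact p.Prime] [CharP F p] {q : ℕ}

theorem s5954tis_toLin_pow {n : ℕ} (M : Matrix (Fin n) (Fin n) F) (k : ℕ) :
    Matrix.toLin' (M ^ k) = (Matrix.toLin' M) ^ k := by
  induction k with
  | zero =>
    rw [pow_zero, pow_zero, Matrix.toLin'_one]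
    rfl
  | succ k ih =>
    rw [pow_succ, pow_succ, Matrix.toLin'_mul, ih]
    rfl

/-- TIS [M] (r odd, `r ∣ q + 1`, sufficiency; part NS). -/
theorem top_i2_suff (hq : Fintype.card F = q ^ 2) (r : ℕ) [Fact r.Prime] (hrp : r ≠ p) (hr2 : 2 < r)
    (hi : orderOf (q : ZMod r) = 2) (n m : ℕ) (hn : 3 ≤ n) (hm : 1 ≤ m) (hmn : 2 * m < n)
    (h : r ∣ m ∨ padicValNat r n ≤ padicValNat r (q + 1)) : AllFix F n m q r := by
  classical
  unfold AllFix
  intro x hx hxr hns
  obtain ⟨z, hz⟩ := hxr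
  have hr : r.Prime := Fact.out
  obtain ⟨σ, hσ, hσσ, hne⟩ := x_frob hq
  have hzN : z ^ (q + 1) = 1 := x_norm n (by omega) x hx r z hz
  have hrF : (r : F) ≠ 0 := by
    intro h0
    have h1 := (CharP.cast_eq_zero_iff F p r).mp h0
    have hp : p.Prime := Fact.out
    exact hrp ((Nat.prime_dvd_prime_iff_eq hp hr).mp h1).symm
  have hn' : m ≤ finrank F (Fin n → F) := by
    rw [Module.finrank_fin_fun]
    omega
  have hzM : (x : Matrix (Fin n) (Fin n) F) ^ r = z • 1 := by
    rw [← Matrix.SpecialLinearGroup.coe_pow]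
    exact hz
  by_cases hsp : ∃ b : F, b ^ r = z
  · -- the split case
    obtain ⟨w, hw⟩ := hsp
    have hwN : w ^ (q + 1) = 1 := ns_root hq r hi z w hzN hw
    have hw0 : w ≠ 0 := by
      rintro rfl
      rw [zero_pow (by omega)] at hwN
      exact zero_ne_one hwN
    obtain ⟨l, hl, hl1, hlN⟩ := ns_lam (F := F) hq r hi
    have hlσ : σ l * l = 1 := by
      rw [hσ, ← pow_succ]
      exact hlN
    have hy : HCtx r σ (stdH n σ) (w⁻¹ • Matrix.toLin' (x : Matrix (Fin n) (Fin n) F)) :=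
      x_ctx σ hσ hσσ hne n x hx r w hwN (by rw [hw]; exact hz)
    have hmin : ∀ N : Submodule F (Fin n → F),
        SInv (w⁻¹ • Matrix.toLin' (x : Matrix (Fin n) (Fin n) F)) N → HND (stdH n σ) N → N ≠ ⊥ →
        ∃ L : Submodule F (Fin n → F), L ≤ N ∧
          SInv (w⁻¹ • Matrix.toLin' (x : Matrix (Fin n) (Fin n) F)) L ∧ HND (stdH n σ) L ∧
          finrank F L = 1 := by
      intro N hN hNnd hN0
      obtain ⟨v, hv, hvv⟩ := ns_aniso hne hy.symm N hN0 hNnd
      obtain ⟨u, hu, c, hyu, huu⟩ := ns_eig hr hy hrF l hl hl1 hlσ N hN v hv hvv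
      exact s5954nsminsp_core N u hu c hyu huu
    obtain ⟨W, hW, hWnd, hWd⟩ := ns_ladder hr.pos hy 1 hmin m (by rw [one_mul]; exact hn')
    rw [one_mul] at hWd
    exact (x_fixes σ hσ hσσ n m (x : Matrix (Fin n) (Fin n) F) w hw0).mpr ⟨W, hW, hWnd, hWd⟩
  · -- the non-split case
    push Not at hsp
    have hdet : (x : Matrix (Fin n) (Fin n) F).det = 1 := x.det_coe
    obtain ⟨hrn, hzn⟩ := Cfsg.Agent.Lib.helper8.SFO.typeB r (by omega)
      (x : Matrix (Fin n) (Fin n) F) hdet z hzM hsp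
    have hv := ns_arith1 hq r hi n (by omega) z hzN hsp hrn hzn
    have hrm : r ∣ m := h.resolve_right (by omega)
    obtain ⟨t, rfl⟩ := hrm
    have hf1 : HCtx (r * (q + 1)) σ (stdH n σ)
        ((1 : F)⁻¹ • Matrix.toLin' (x : Matrix (Fin n) (Fin n) F)) :=
      x_ctx σ hσ hσσ hne n x hx (r * (q + 1)) 1 (one_pow _) (by
        rw [Matrix.SpecialLinearGroup.coe_pow, pow_mul, hzM, _root_.smul_pow, one_pow, hzN, one_pow])
    rw [inv_one, one_smul] at hf1
    have hpow : (Matrix.toLin' (x : Matrix (Fin n) (Fin n) F)) ^ r = z • 1 := by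
      rw [← s5954tis_toLin_pow, hzM, map_smul, Matrix.toLin'_one]
      rfl
    have hnsc : NSCtx r σ (stdH n σ) (Matrix.toLin' (x : Matrix (Fin n) (Fin n) F)) z :=
      ⟨hf1.inv, hf1.ne, hf1.symm, hf1.nd, hf1.pres, hpow⟩
    have hz0 : z ≠ 0 := by
      rintro rfl
      exact hsp 0 (zero_pow hr.ne_zero)
    have hind : ∀ u : Fin n → F, u ≠ 0 → LinearIndependent F
        (fun k : Fin r => ((Matrix.toLin' (x : Matrix (Fin n) (Fin n) F)) ^ (k : ℕ)) u) :=
      fun u hu => ns_indep hr (Matrix.toLin' (x : Matrix (Fin n) (Fin n) F)) z hpow hsp u hu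
    have hdimge : ∀ U : Submodule F (Fin n → F),
        SInv (Matrix.toLin' (x : Matrix (Fin n) (Fin n) F)) U → U ≠ ⊥ → r ≤ finrank F U :=
      fun U hU hU0 =>
        s5954nsdimge_core (Matrix.toLin' (x : Matrix (Fin n) (Fin n) F)) hind U hU hU0
    have hmin : ∀ N : Submodule F (Fin n → F),
        SInv (Matrix.toLin' (x : Matrix (Fin n) (Fin n) F)) N → HND (stdH n σ) N → N ≠ ⊥ →
        ∃ L : Submodule F (Fin n → F), L ≤ N ∧
          SInv (Matrix.toLin' (x : Matrix (Fin n) (Fin n) F)) L ∧ HND (stdH n σ) L ∧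
          finrank F L = r := by
      intro N hN hNnd hN0
      obtain ⟨v, hv, hvv⟩ := ns_aniso hne hf1.symm N hN0 hNnd
      have hv0 : v ≠ 0 := by
        rintro rfl
        apply hvv
        rw [map_zero]
      exact s5954nsminns_core hr.pos hnsc hz0 N hN v hv hvv (hind v hv0) hdimge
    obtain ⟨W, hW, hWnd, hWd⟩ :=
      ns_ladder (Nat.mul_pos hr.pos (Nat.succ_pos q)) hf1 r hmin t hn'
    refine (x_fixes σ hσ hσσ n (r * t) (x : Matrix (Fin n) (Fin n) F) 1 one_ne_zero).mpr ?_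
    rw [inv_one, one_smul]
    exact ⟨W, hW, hWnd, hWd⟩

end Cfsg.Agent.Lib.Helper19.S5954
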