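import Mathlib
import Cfsg.Agent.Lib.Helper19.S5954.Defs
import Cfsg.Agent.Lib.Helper19.S5954.DefsTop
import Cfsg.Agent.Lib.Helper19.S5954.X
import Cfsg.Agent.Lib.Helper19.S5954OBR
import Cfsg.Agent.Lib.Helper26.S5954TONcore
import Cfsg.Agent.Lib.helper6.S5954OSUFFcore
import Cfsg.Agent.Lib.Helper27.S5954OCYCDVD
import Cfsg.Agent.Lib.Helper27.S5954OMIN0
import Cfsg.Agent.Lib.Helper5.S5954OMIN2

/-!
# Project S5954, TOP row TOS (`top_odd_suff`): `r` odd, `r ∤ q + 1`, sufficiency.  (helper4)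

`z = w ^ r` with `w` of norm one (`x_root`, `gcd (r, q + 1) = 1`), `y = w⁻¹ • x` is an isometry with `y ^ r = 1` (`x_ctx`);
bridge to helper3's context (`o_bridge`), the abstract sufficiency theorem OSUFF (`o_suff`), back through `x_fixes`.
-/

set_option autoImplicit false
set_option linter.unusedVariables false
set_option linter.unusedSectionVars false

namespace Cfsg.Agent.Lib.Helper19.S5954

open Cfsg.Agent.Lib.helper3.S5953 (cc)

variable {F : Type*} [Field F] [Fintype F] {p : ℕ} [Fact p.Prime] [CharP F p] {q : ℕ}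

/-- TOS [M] (r odd, `r ∤ q + 1`, sufficiency; part O). -/
theorem top_odd_suff (hq : Fintype.card F = q ^ 2) (r : ℕ) [Fact r.Prime] (hrp : r ≠ p) (hr2 : 2 < r)
    (i : ℕ) (hi : i = orderOf (q : ZMod r)) (hi2 : i ≠ 2) (n m : ℕ) (hn : 3 ≤ n) (hm : 1 ≤ m) (hmn : 2 * m < n)
    (hcm : cc i ≤ m) (hk : m % cc i ≤ n % cc i) : AllFix F n m q r := by
  classical
  unfold AllFix
  intro x hx hxr hns
  obtain ⟨z, hz⟩ := hxr
  subst hi
  obtain ⟨σ, hσ, hσσ, hne⟩ := x_frob hq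
  have hzN : z ^ (q + 1) = 1 := x_norm n (by omega) x hx r z hz
  have hco : Nat.Coprime r (q + 1) := s5954ton_coprime r hr2 hi2
  obtain ⟨w, hwN, hw⟩ := x_root r hco z hzN
  have hw0 : w ≠ 0 := by
    rintro rfl
    rw [zero_pow (by omega)] at hwN
    exact zero_ne_one hwN
  have hy : HCtx r σ (stdH n σ) (w⁻¹ • Matrix.toLin' (x : Matrix (Fin n) (Fin n) F)) :=
    x_ctx σ hσ hσσ hne n x hx r w hwN (by rw [hw]; exact hz)
  have hbr := o_bridge σ hσ hσσ hne n r (w⁻¹ • Matrix.toLin' (x : Matrix (Fin n) (Fin n) F))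
  have hy' := hbr.1.mp hy
  have hr2' : r ≠ 2 := by omega
  have hsuff := s5954osuff_core2 hq hrp hy' m (by omega) hk
    (fun N hN hNc hNnd => o_cyc_dvd hq hrp hr2' hy' N hN hNc hNnd)
    (fun hi N hN hNc hNnd hN0 => o_min_nd_two hq hrp hr2' hi hy' N hN hNc hNnd hN0)
    (fun hi N hN hNc hNnd hN0 => o_min_nd_zero hq hrp hr2' hi hy' N hN hNc hNnd hN0)
  exact (x_fixes σ hσ hσσ n m (x : Matrix (Fin n) (Fin n) F) w hw0).mpr ((hbr.2.2.2 m).mpr hsuff)

end Cfsg.Agent.Lib.Helper19.S5954
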