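import Mathlib
import Cfsg.Agent.Lib.Helper19.S5954.Defs
import Cfsg.Agent.Lib.helper4.S5954UEXTYPEcore
import Cfsg.Agent.Lib.helper14.S5954UBLK

/-!
# Project S5954 (designer helper19), row UEXTYPE (`h_exists_type`), verbatim.  (helper4)
-/

set_option autoImplicit false
set_option linter.unusedVariables false
set_option linter.unusedSectionVars false

namespace Cfsg.Agent.Lib.Helper19.S5954

open Polynomial Module Cfsg.Agent.Lib.Helper13.S5955 Cfsg.Agent.Lib.helper14.JTa Cfsg.Agent.Lib.Helper11.S5956U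

variable {F : Type*} [Field F] {V : Type*} [AddCommGroup V] [Module F V]

/-- UEXTYPE [M] (UBLK, UPROD; `Multiset.induction_on`; pattern of helper4/S5956UEXTYPEcore.lean; `μ = 0`: `n = 0`, `y = 1`, `HCtx` by USTD). -/
theorem h_exists_type [Finite F] {p : ℕ} [Fact p.Prime] [CharP F p] (σ : F →+* F)
    (hσσ : ∀ a, σ (σ a) = a) (hne : ∃ a, σ a ≠ a) (μ : Multiset ℕ) (hμ : ∀ a ∈ μ, 0 < a ∧ a ≤ p)
    (n : ℕ) (hn : μ.sum = n) :
    ∃ y : Module.End F (Fin n → F), HCtx p σ (stdH n σ) y ∧ ∀ j, dk (y - 1) j = tyf μ j :=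
  s5954uextype_core σ hσσ hne (fun s hs hsp => h_blk σ hσσ hne s hs hsp) μ hμ n hn

end Cfsg.Agent.Lib.Helper19.S5954
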