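import Mathlib
import Cfsg.Agent.Lib.Helper11.S5956U.Defs
import Cfsg.Agent.Lib.helper4.S5956UEXTYPEcore
import Cfsg.Agent.Lib.helper4.S5956UPRODCTX
import Cfsg.Agent.Lib.helper6.S5956UBLKEVEN
import Cfsg.Agent.Lib.helper6.S5956UBLKODD

/-! # Project S5956U, row EXTYPE (verbatim wrapper of `s5956uextype_core`). -/

set_option autoImplicit false

namespace Cfsg.Agent.Lib.Helper11.S5956U

open Polynomial Module Cfsg.Agent.Lib.Helper13.S5955 Cfsg.Agent.Lib.helper14.JTa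

variable {F : Type*} [Field F] {V : Type*} [AddCommGroup V] [Module F V]

/-- EXTYPE [M-L] (BLKEVEN, BLKODD, PRODCTX; induction on `μ`): an isometry of the standard space of prescribed admissible type. -/
theorem exists_type {p : ℕ} [Fact p.Prime] [CharP F p] (hp2 : 2 < p) (μ : Multiset ℕ)
    (hμ : SpTy p μ) (d : ℕ) (hd : μ.sum = 2 * d) :
    ∃ y : Module.End F (Fin d ⊕ Fin d → F), SCtx p (stdB d F) y ∧ ∀ j, dk (y - 1) j = tyf μ j :=
  s5956uextype_core (fun k hk hkp => blk_even hp2 k hk hkp)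
    (fun s hs hsp => blk_odd hp2 s hs hsp)
    (fun d₁ d₂ y₁ y₂ h₁ h₂ => prod_ctx d₁ d₂ y₁ y₂ h₁ h₂)
    _ μ rfl hμ d hd

end Cfsg.Agent.Lib.Helper11.S5956U
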