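import Mathlib
import Cfsg.Agent.Lib.helper14.SL2Card

set_option autoImplicit false

namespace Cfsg.Agent.Lib.helper4

open Matrix

section general

variable {R : Type*} [CommRing R]

/-- the shape of the matrices commuting with `single 0 1 1` -/
def IsTC (g : Matrix (Fin 5) (Fin 5) R) : Prop :=
  (∀ i, i ≠ 0 → g i 0 = 0) ∧ (∀ j, j ≠ 1 → g 1 j = 0) ∧ g 0 0 = g 1 1

theorem commute_single_iff (g : Matrix (Fin 5) (Fin 5) R) :
    Commute (single (0 : Fin 5) 1 (1 : R)) g ↔ IsTC g := by
  constructor
  · intro h
    exact ⟨fun i hi => col_eq_zero_of_commute_single h hi,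
      fun j hj => row_eq_zero_of_commute_single h hj, diag_eq_of_commute_single h⟩
  · rintro ⟨hcol, hrow, hd⟩
    show single (0 : Fin 5) 1 (1 : R) * g = g * single (0 : Fin 5) 1 (1 : R)
    ext a b
    by_cases ha : a = 0
    · subst ha
      by_cases hb : b = 1
      · subst hb
        rw [single_mul_apply_same, mul_single_apply_same, one_mul, mul_one, hd]
      · rw [single_mul_apply_same, mul_single_apply_of_ne (hbj := hb), one_mul, hrow b hb]
    · by_cases hb : b = 1
      · subst hb
        rw [single_mul_apply_of_ne (h := ha), mul_single_apply_same, hcol a ha, zero_mul]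
      · rw [single_mul_apply_of_ne (h := ha), mul_single_apply_of_ne (hbj := hb)]

theorem commute_transvection_iff (g : Matrix (Fin 5) (Fin 5) R) :
    transvection (0 : Fin 5) 1 (1 : R) * g = g * transvection (0 : Fin 5) 1 (1 : R) ↔ IsTC g := by
  rw [← commute_single_iff]
  unfold transvection
  rw [add_mul, mul_add, one_mul, mul_one]
  constructor
  · intro h
    exact add_left_cancel h
  · intro h
    rw [h.eq]

theorem det_of_isTC (g : Matrix (Fin 5) (Fin 5) R) (h : IsTC g) :
    g.det = g 0 0 * g 1 1 *
      (g.submatrix (fun i : Fin 3 => (i.succ.succ : Fin 5)) (fun j : Fin 3 => j.succ.succ)).det := by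
  obtain ⟨hcol, hrow, -⟩ := h
  rw [Matrix.det_succ_column_zero, Finset.sum_eq_single 0]
  · rw [Fin.val_zero, pow_zero, one_mul, Fin.succAbove_zero, Matrix.det_succ_row_zero,
      Finset.sum_eq_single 0]
    · rw [Fin.val_zero, pow_zero, one_mul, Fin.succAbove_zero, Matrix.submatrix_submatrix]
      rw [mul_assoc]
      rfl
    · intro j _ hj
      have : g 1 j.succ = 0 := by
        apply hrow
        intro h1
        apply hj
        have : j.succ = Fin.succ 0 := h1
        exact Fin.succ_injective _ this
      show (-1) ^ (j : ℕ) * g (Fin.succ 0) j.succ * _ = 0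
      rw [show (Fin.succ 0 : Fin 5) = 1 from rfl, this, mul_zero, zero_mul]
    · intro h0
      exact absurd (Finset.mem_univ _) h0
  · intro i _ hi
    rw [hcol i hi, mul_zero, zero_mul]
  · intro h0
    exact absurd (Finset.mem_univ _) h0

end general

end Cfsg.Agent.Lib.helper4
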