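import Mathlib
import Cfsg.Agent.Lib.helper4.SL5Trans

set_option autoImplicit false

namespace Cfsg.Agent.Lib.helper4

open Matrix

section param

variable {R : Type*} [CommRing R]

/-- the matrix with first row `(1, a)`, second row `e₁`, and rows `(0, b i, M i)`. -/
def tcMat (a : Fin 4 → R) (b : Fin 3 → R) (M : Matrix (Fin 3) (Fin 3) R) :
    Matrix (Fin 5) (Fin 5) R :=
  Matrix.of fun i j =>
    Fin.cases (motive := fun _ => R)
      (Fin.cases (motive := fun _ => R) 1 (fun j' : Fin 4 => a j') j)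
      (fun i' : Fin 4 => Fin.cases (motive := fun _ => R)
        (Fin.cases (motive := fun _ => R) 0
          (fun j' : Fin 4 => Fin.cases (motive := fun _ => R) 1 (fun _ => 0) j') j)
        (fun i'' : Fin 3 => Fin.cases (motive := fun _ => R) 0
          (fun j' : Fin 4 => Fin.cases (motive := fun _ => R) (b i'')
            (fun j'' : Fin 3 => M i'' j'') j') j) i') i

@[simp] theorem tcMat_00 (a : Fin 4 → R) (b : Fin 3 → R) (M : Matrix (Fin 3) (Fin 3) R) :
    tcMat a b M 0 0 = 1 := rfl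

@[simp] theorem tcMat_0s (a : Fin 4 → R) (b : Fin 3 → R) (M : Matrix (Fin 3) (Fin 3) R)
    (j : Fin 4) : tcMat a b M 0 j.succ = a j := by
  simp only [tcMat, Matrix.of_apply, Fin.cases_succ, Fin.cases_zero]

@[simp] theorem tcMat_10 (a : Fin 4 → R) (b : Fin 3 → R) (M : Matrix (Fin 3) (Fin 3) R) :
    tcMat a b M (Fin.succ 0) 0 = 0 := by
  simp only [tcMat, Matrix.of_apply, Fin.cases_succ, Fin.cases_zero]

@[simp] theorem tcMat_11 (a : Fin 4 → R) (b : Fin 3 → R) (M : Matrix (Fin 3) (Fin 3) R) :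
    tcMat a b M (Fin.succ 0) (Fin.succ 0) = 1 := by
  simp only [tcMat, Matrix.of_apply, Fin.cases_succ, Fin.cases_zero]

@[simp] theorem tcMat_1ss (a : Fin 4 → R) (b : Fin 3 → R) (M : Matrix (Fin 3) (Fin 3) R)
    (j : Fin 3) : tcMat a b M (Fin.succ 0) j.succ.succ = 0 := by
  simp only [tcMat, Matrix.of_apply, Fin.cases_succ, Fin.cases_zero]

@[simp] theorem tcMat_ss0 (a : Fin 4 → R) (b : Fin 3 → R) (M : Matrix (Fin 3) (Fin 3) R)
    (i : Fin 3) : tcMat a b M i.succ.succ 0 = 0 := by
  simp only [tcMat, Matrix.of_apply, Fin.cases_succ, Fin.cases_zero]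

@[simp] theorem tcMat_ss1 (a : Fin 4 → R) (b : Fin 3 → R) (M : Matrix (Fin 3) (Fin 3) R)
    (i : Fin 3) : tcMat a b M i.succ.succ (Fin.succ 0) = b i := by
  simp only [tcMat, Matrix.of_apply, Fin.cases_succ, Fin.cases_zero]

@[simp] theorem tcMat_ssss (a : Fin 4 → R) (b : Fin 3 → R) (M : Matrix (Fin 3) (Fin 3) R)
    (i j : Fin 3) : tcMat a b M i.succ.succ j.succ.succ = M i j := by
  simp only [tcMat, Matrix.of_apply, Fin.cases_succ, Fin.cases_zero]

theorem tcMat_isTC (a : Fin 4 → R) (b : Fin 3 → R) (M : Matrix (Fin 3) (Fin 3) R) :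
    IsTC (tcMat a b M) := by
  refine ⟨?_, ?_, ?_⟩
  · intro i
    refine Fin.cases ?_ (fun i' => ?_) i
    · intro h; exact absurd rfl h
    · intro _
      refine Fin.cases ?_ (fun i'' => ?_) i'
      · exact tcMat_10 a b M
      · exact tcMat_ss0 a b M i''
  · intro j
    refine Fin.cases ?_ (fun j' => ?_) j
    · intro _; exact tcMat_10 a b M
    · refine Fin.cases ?_ (fun j'' => ?_) j'
      · intro h; exact absurd rfl h
      · intro _; exact tcMat_1ss a b M j''
  · show tcMat a b M 0 0 = tcMat a b M (Fin.succ 0) (Fin.succ 0)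
    rw [tcMat_00, tcMat_11]

theorem tcMat_submatrix (a : Fin 4 → R) (b : Fin 3 → R) (M : Matrix (Fin 3) (Fin 3) R) :
    (tcMat a b M).submatrix (fun i : Fin 3 => (i.succ.succ : Fin 5)) (fun j : Fin 3 => j.succ.succ)
      = M := by
  ext i j
  simp

theorem tcMat_det (a : Fin 4 → R) (b : Fin 3 → R) (M : Matrix (Fin 3) (Fin 3) R) :
    (tcMat a b M).det = M.det := by
  rw [det_of_isTC _ (tcMat_isTC a b M), tcMat_submatrix]
  show tcMat a b M 0 0 * tcMat a b M (Fin.succ 0) (Fin.succ 0) * M.det = M.det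
  rw [tcMat_00, tcMat_11, one_mul, one_mul]

/-- reconstruct a matrix of the right shape from its parameters -/
theorem tcMat_eq_self (g : Matrix (Fin 5) (Fin 5) R) (h : IsTC g) (h00 : g 0 0 = 1) :
    tcMat (fun j => g 0 j.succ) (fun i => g i.succ.succ 1)
      (g.submatrix (fun i : Fin 3 => (i.succ.succ : Fin 5)) (fun j : Fin 3 => j.succ.succ)) = g := by
  obtain ⟨hcol, hrow, hd⟩ := h
  ext i j
  refine Fin.cases ?_ (fun i' => ?_) i
  · refine Fin.cases ?_ (fun j' => ?_) j
    · rw [tcMat_00, h00]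
    · rw [tcMat_0s]
  · refine Fin.cases ?_ (fun i'' => ?_) i'
    · refine Fin.cases ?_ (fun j' => ?_) j
      · rw [tcMat_10]
        exact (hcol (Fin.succ 0) (by decide)).symm
      · refine Fin.cases ?_ (fun j'' => ?_) j'
        · rw [tcMat_11]
          have : g (Fin.succ 0) (Fin.succ 0) = g 1 1 := rfl
          rw [this, ← hd, h00]
        · rw [tcMat_1ss]
          refine (hrow j''.succ.succ ?_).symm
          intro h1
          have h2 : (j''.succ.succ : Fin 5).val = 1 := by rw [h1]; rfl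
          simp at h2
    · refine Fin.cases ?_ (fun j' => ?_) j
      · rw [tcMat_ss0]
        refine (hcol i''.succ.succ ?_).symm
        intro h1
        have h2 : (i''.succ.succ : Fin 5).val = 0 := by rw [h1]; rfl
        simp at h2
      · refine Fin.cases ?_ (fun j'' => ?_) j'
        · rw [tcMat_ss1]
          rfl
        · rw [tcMat_ssss]
          rfl

end param

end Cfsg.Agent.Lib.helper4
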