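import Mathlib
import Cfsg.Agent.Lib.helper4.SL5TransB

set_option autoImplicit false

namespace Cfsg.Agent.Lib.helper4

open Matrix

theorem card_SL3_two : Nat.card (Matrix.SpecialLinearGroup (Fin 3) (ZMod 2)) = 168 := by
  have h1 := Cfsg.Agent.Lib.helper14.card_GL_eq_card_SL_mul (F := ZMod 2) 3 (by norm_num)
  have h2 := Matrix.card_GL_field (𝔽 := ZMod 2) 3
  rw [h2] at h1
  have hu : Nat.card (ZMod 2)ˣ = 1 := by
    rw [Nat.card_eq_fintype_card, Fintype.card_units]
    rfl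
  rw [hu, mul_one] at h1
  rw [← h1]
  simp [Fin.prod_univ_succ, ZMod.card]

theorem zmod2_eq_one_of_ne_zero : ∀ x : ZMod 2, x ≠ 0 → x = 1 := by decide

theorem cent_data (s : Matrix.SpecialLinearGroup (Fin 5) (ZMod 2))
    (hs : (s : Matrix (Fin 5) (Fin 5) (ZMod 2)) = Matrix.transvection 0 1 1)
    (x : Matrix.SpecialLinearGroup (Fin 5) (ZMod 2))
    (hx : x ∈ Subgroup.centralizer ({s} : Set (Matrix.SpecialLinearGroup (Fin 5) (ZMod 2)))) :
    IsTC x.1 ∧ x.1 0 0 = 1 ∧
      (x.1.submatrix (fun i : Fin 3 => (i.succ.succ : Fin 5)) (fun j : Fin 3 => j.succ.succ)).det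
        = 1 := by
  have h1 : s * x = x * s := (Subgroup.mem_centralizer_iff.mp hx) s rfl
  have h2 : (s : Matrix (Fin 5) (Fin 5) (ZMod 2)) * x.1 = x.1 * s.1 := by
    have := congrArg Subtype.val h1
    simpa using this
  rw [hs, commute_transvection_iff] at h2
  have hdet := det_of_isTC x.1 h2
  rw [x.2] at hdet
  have h00 : x.1 0 0 = 1 := by
    apply zmod2_eq_one_of_ne_zero
    intro h0
    rw [h0, zero_mul, zero_mul] at hdet
    exact one_ne_zero hdet
  refine ⟨h2, h00, ?_⟩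
  rw [← h2.2.2, h00, one_mul, one_mul] at hdet
  exact hdet.symm

theorem tcMat_mem_cent (s : Matrix.SpecialLinearGroup (Fin 5) (ZMod 2))
    (hs : (s : Matrix (Fin 5) (Fin 5) (ZMod 2)) = Matrix.transvection 0 1 1)
    (x : Matrix.SpecialLinearGroup (Fin 5) (ZMod 2)) (hx : IsTC x.1) :
    x ∈ Subgroup.centralizer ({s} : Set (Matrix.SpecialLinearGroup (Fin 5) (ZMod 2))) := by
  rw [Subgroup.mem_centralizer_iff]
  intro y hy
  rw [Set.mem_singleton_iff] at hy
  subst hy
  apply Subtype.ext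
  show (y : Matrix (Fin 5) (Fin 5) (ZMod 2)) * x.1 = x.1 * y.1
  rw [hs, commute_transvection_iff]
  exact hx

noncomputable def centEquiv (s : Matrix.SpecialLinearGroup (Fin 5) (ZMod 2))
    (hs : (s : Matrix (Fin 5) (Fin 5) (ZMod 2)) = Matrix.transvection 0 1 1) :
    ↥(Subgroup.centralizer ({s} : Set (Matrix.SpecialLinearGroup (Fin 5) (ZMod 2)))) ≃
      (Fin 4 → ZMod 2) × (Fin 3 → ZMod 2) × Matrix.SpecialLinearGroup (Fin 3) (ZMod 2) where
  toFun x := (fun j => x.1.1 0 j.succ, fun i => x.1.1 i.succ.succ 1,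
    ⟨x.1.1.submatrix (fun i : Fin 3 => (i.succ.succ : Fin 5)) (fun j : Fin 3 => j.succ.succ),
      (cent_data s hs x.1 x.2).2.2⟩)
  invFun y := ⟨⟨tcMat y.1 y.2.1 y.2.2.1, by rw [tcMat_det]; exact y.2.2.2⟩,
    tcMat_mem_cent s hs _ (tcMat_isTC _ _ _)⟩
  left_inv x := by
    apply Subtype.ext
    apply Subtype.ext
    exact tcMat_eq_self x.1.1 (cent_data s hs x.1 x.2).1 (cent_data s hs x.1 x.2).2.1
  right_inv y := by
    obtain ⟨a, b, M⟩ := y
    refine Prod.ext ?_ (Prod.ext ?_ ?_)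
    · funext j
      exact tcMat_0s a b M.1 j
    · funext i
      exact tcMat_ss1 a b M.1 i
    · apply Subtype.ext
      exact tcMat_submatrix a b M.1

theorem card_centralizer_transvection (s : Matrix.SpecialLinearGroup (Fin 5) (ZMod 2))
    (hs : (s : Matrix (Fin 5) (Fin 5) (ZMod 2)) = Matrix.transvection 0 1 1) :
    Nat.card (Subgroup.centralizer ({s} : Set (Matrix.SpecialLinearGroup (Fin 5) (ZMod 2))))
      = 21504 := by
  rw [Nat.card_congr (centEquiv s hs), Nat.card_prod, Nat.card_prod, card_SL3_two]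
  simp [Nat.card_eq_fintype_card, ZMod.card]

end Cfsg.Agent.Lib.helper4
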