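import Mathlib
import Cfsg.Agent.Lib.Helper1.SLN.Defs
import Cfsg.Agent.Lib.helper4.SLNF8core

/-!
# SLN (Helper1 skeleton) F8a (`exists_coxeter_w`) and F8 (`psl_two_gen`), verbatim.
-/

set_option autoImplicit false

namespace Cfsg.Agent.Lib.Helper1.SLN

open Matrix Equiv
open Cfsg.Agent.Lib.helper17.SLP

universe u v

section FF

variable {F : Type u} [Field F]

/-- F8a [M]  The signed `(n+1)`-cycle matrix of S2402 / S2403 has determinant one. -/
theorem exists_coxeter_w (n : ℕ) :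
    ∃ w : Matrix.SpecialLinearGroup (Fin (n + 1)) F,
      (w : Matrix (Fin (n + 1)) (Fin (n + 1)) F) =
        Matrix.of (fun i j => if j.val = i.val + 1 then 1 else if i.val = n ∧ j.val = 0 then (-1) ^ n else 0) :=
  Cfsg.Agent.Lib.helper4.slnf8_exists_w n

/-- F8 [M]  `PSL_n(F)` is generated by two elements (S2402, S2403). -/
theorem psl_two_gen [Fintype F] (n : ℕ) (hn : 2 ≤ n) :
    ∃ a b : Matrix.ProjectiveSpecialLinearGroup (Fin n) F,
      Subgroup.closure ({a, b} : Set (Matrix.ProjectiveSpecialLinearGroup (Fin n) F)) = ⊤ := by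
  obtain ⟨m, rfl⟩ : ∃ m, n = m + 1 := ⟨n - 1, by omega⟩
  exact Cfsg.Agent.Lib.helper4.slnf8_two_gen m (by omega)

end FF

end Cfsg.Agent.Lib.Helper1.SLN
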