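import Mathlib
import Cfsg.Agent.Lib.Helper1.SLN.Defs
import Cfsg.Agent.Lib.Helper21.SAPTietze
import Cfsg.Agent.Lib.helper17.SLPMAIN
import Cfsg.Agent.Lib.helper17.SL3X
import Cfsg.Agent.Lib.Helper11.SLNP4
import Cfsg.Agent.Lib.Helper22.SL7P6
import Cfsg.Agent.Lib.Helper22.SLNF7
import Cfsg.Agent.Lib.helper4.SLNF8

/-!
# SL7 FIN (`sln_s2290`, Helper1 skeleton): core on the statement of F4 (`sln_pres`).
-/

set_option autoImplicit false

namespace Cfsg.Agent.Lib.Helper1.SLN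

open Matrix Equiv
open Cfsg.Agent.Lib.helper17.SLP

universe u v

/-- FIN core: the assembly of S2290 from the statement of F4 (`sln_pres`, at `kT = 2`). -/
theorem sl7fin_core {F : Type u} [Field F] [Fintype F]
    (hF4 : ∀ (M : ℕ) (RT : Finset (FreeGroup (Fin 2)))
      (_ : PresentedGroup (↑RT : Set (FreeGroup (Fin 2))) ≃* alternatingGroup (Fin (M + 4)))
      (RL : Finset (FreeGroup (Fin 4)))
      (_ : PresentedGroup (↑RL : Set (FreeGroup (Fin 4))) ≃* Matrix.SpecialLinearGroup (Fin 3) F)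
      (τ₁ τ₂ : alternatingGroup (Fin (M + 4)))
      (_ : Subgroup.closure ({τ₁, τ₂} : Set (alternatingGroup (Fin (M + 4)))) = stab01 M),
      ∃ rels : Finset (FreeGroup (Fin (2 + 4))), rels.card ≤ RT.card + RL.card + 19 ∧
        Nonempty (PresentedGroup (↑rels : Set (FreeGroup (Fin (2 + 4)))) ≃*
          Matrix.SpecialLinearGroup (Fin (M + 4)) F))
    (hSAP : ∀ k : ℕ, ∃ rels : Finset (FreeGroup (Fin 2)), rels.card ≤ 8 ∧
      Nonempty (PresentedGroup (↑rels : Set (FreeGroup (Fin 2))) ≃* ↥(alternatingGroup (Fin k))))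
    (n : ℕ) (hn : 2 ≤ n) (h2 : n = 2 → 4 ≤ Fintype.card F) :
    ∃ rels : Finset (FreeGroup (Fin 2)), rels.card ≤ 80 ∧
      Nonempty (PresentedGroup (↑rels : Set (FreeGroup (Fin 2))) ≃*
        Matrix.ProjectiveSpecialLinearGroup (Fin n) F) := by
  obtain ⟨a, b, hab⟩ := psl_two_gen (F := F) n hn
  rcases Nat.lt_or_ge n 4 with hlt | hge
  · rcases (by omega : n = 2 ∨ n = 3) with rfl | rfl
    · -- `n = 2`
      obtain ⟨rels, hcard, ⟨e⟩⟩ := (slp_main (F := F)).2.1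
      obtain ⟨rels', hcard', e', -, -⟩ := Cfsg.Agent.Lib.Helper21.SAPT.change_gens_pair rels e a b hab
      exact ⟨rels', by omega, ⟨e'⟩⟩
    · -- `n = 3`
      obtain ⟨RL, hRL, ⟨eL⟩⟩ := Cfsg.Agent.Lib.helper17.SL3.sl3x_main (F := F)
      obtain ⟨rels, hcard, ⟨e⟩⟩ := psl_pres (F := F) 3 (by norm_num) RL eL
      obtain ⟨rels', hcard', e', -, -⟩ := Cfsg.Agent.Lib.Helper21.SAPT.change_gens_pair rels e a b hab
      exact ⟨rels', by omega, ⟨e'⟩⟩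
  · obtain ⟨M, rfl⟩ : ∃ M, n = M + 4 := ⟨n - 4, by omega⟩
    obtain ⟨RT, hRT, ⟨eT⟩⟩ := hSAP (M + 4)
    obtain ⟨R2, -, ⟨e2⟩⟩ := hSAP (M + 2)
    obtain ⟨a2, b2, hab2⟩ := two_gen_of_pres (↑R2 : Set (FreeGroup (Fin 2))) e2
    obtain ⟨τ₁, τ₂, hτ⟩ := stab01_gen M a2 b2 hab2
    obtain ⟨RL, hRL, ⟨eL⟩⟩ := Cfsg.Agent.Lib.helper17.SL3.sl3x_main (F := F)
    obtain ⟨rels0, hcard0, ⟨e0⟩⟩ := hF4 M RT eT RL eL τ₁ τ₂ hτ
    obtain ⟨rels, hcard, ⟨e⟩⟩ := psl_pres (F := F) (M + 4) (by omega) rels0 e0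
    obtain ⟨rels', hcard', e', -, -⟩ := Cfsg.Agent.Lib.Helper21.SAPT.change_gens_pair rels e a b hab
    exact ⟨rels', by omega, ⟨e'⟩⟩

end Cfsg.Agent.Lib.Helper1.SLN
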