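import Mathlib
import Cfsg.Agent.Lib.Helper1.SLN.Defs
import Cfsg.Agent.Lib.helper4.SL7FINcore
import Cfsg.Agent.Lib.Helper26.SLNF4

/-!
# SL7 FIN (`sln_s2290`, Helper1 skeleton), verbatim: S2290 with the second half of S2284 as hypothesis.
-/

set_option autoImplicit false

namespace Cfsg.Agent.Lib.Helper1.SLN

open Matrix Equiv
open Cfsg.Agent.Lib.helper17.SLP

universe u v

/-- FIN [M] -/
theorem sln_s2290 {F : Type u} [Field F] [Fintype F]
    (hSAP : ∀ k : ℕ, ∃ rels : Finset (FreeGroup (Fin 2)), rels.card ≤ 8 ∧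
      Nonempty (PresentedGroup (↑rels : Set (FreeGroup (Fin 2))) ≃* ↥(alternatingGroup (Fin k))))
    (n : ℕ) (hn : 2 ≤ n) (h2 : n = 2 → 4 ≤ Fintype.card F) :
    ∃ rels : Finset (FreeGroup (Fin 2)), rels.card ≤ 80 ∧
      Nonempty (PresentedGroup (↑rels : Set (FreeGroup (Fin 2))) ≃*
        Matrix.ProjectiveSpecialLinearGroup (Fin n) F) :=
  sl7fin_core (fun M RT eT RL eL τ₁ τ₂ hτ => sln_pres M RT eT RL eL τ₁ τ₂ hτ) hSAP n hn h2

end Cfsg.Agent.Lib.Helper1.SLN
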