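import Mathlib
import Cfsg.Agent.Lib.helper17.SLP.Defs

/-!
# SLP row FIN2 (`psl_odd`), core: `PSL₂(F)`, `F` of odd characteristic, has a presentation with three
generators and at most nine relations.  The statements of X1, C1, N2, N3, P1 (at `PSL₂(F)`),
M1 (`wM_hM`, `wM_sq`, `hM_neg_one_mem_center`), M3, M4, M5, M6, F4 are hypotheses;
`slpfin2_ev_wordsPE`, `slpfin2_ev_wordsPO` are own copies of parts of P2.
-/

set_option autoImplicit false

namespace Cfsg.Agent.Lib.helper17.SLP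

open Polynomial

universe u v

theorem slpfin2_ev_map {G : Type u} [Group G] {H : Type v} [Group H] (φ : G →* H) (u h w : G)
    (r : FreeGroup (Fin 3)) : ev (φ u) (φ h) (φ w) r = φ (ev u h w r) := by
  have key : ev (φ u) (φ h) (φ w) = φ.comp (ev u h w) := by
    apply FreeGroup.ext_hom
    intro i
    fin_cases i
    · show ev (φ u) (φ h) (φ w) gU = φ (ev u h w gU)
      rw [ev_gU, ev_gU]
    · show ev (φ u) (φ h) (φ w) gH = φ (ev u h w gH)
      rw [ev_gH, ev_gH]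
    · show ev (φ u) (φ h) (φ w) gW = φ (ev u h w gW)
      rw [ev_gW, ev_gW]
  rw [key]
  rfl

theorem slpfin2_ev_wordsPE {G : Type*} [Group G] (u h w : G) (az : FreeGroup (Fin 3)) :
    (∀ r ∈ wordsPE az, ev u h w r = 1) ↔
      (w * h * w⁻¹ = h⁻¹ ∧ w ^ 2 = 1 ∧ relK1 u w = 1 ∧ relK2 (ev u h w az) h w = 1) := by
  have e1 : ev u h w (gW * gH * gW⁻¹ * gH) = w * h * w⁻¹ * h := by
    simp only [map_mul, map_inv, ev_gW, ev_gH]
  have e2 : ev u h w (gW ^ 2) = w ^ 2 := by simp only [map_pow, ev_gW]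
  have e3 : ev u h w (relK1 gU gW) = relK1 u w := by rw [map_relK1, ev_gU, ev_gW]
  have e4 : ev u h w (relK2 az gH gW) = relK2 (ev u h w az) h w := by
    rw [map_relK2, ev_gH, ev_gW]
  constructor
  · intro H
    have h1 := H (gW * gH * gW⁻¹ * gH) (by simp [wordsPE])
    have h2 := H (gW ^ 2) (by simp [wordsPE])
    have h3 := H (relK1 gU gW) (by simp [wordsPE])
    have h4 := H (relK2 az gH gW) (by simp [wordsPE])
    rw [e1] at h1
    rw [e2] at h2
    rw [e3] at h3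
    rw [e4] at h4
    exact ⟨mul_eq_one_iff_eq_inv.1 h1, h2, h3, h4⟩
  · rintro ⟨a1, a2, a3, a4⟩ r hr
    simp only [wordsPE, List.mem_cons, List.not_mem_nil, or_false] at hr
    rcases hr with rfl | rfl | rfl | rfl
    · rw [e1]; exact mul_eq_one_iff_eq_inv.2 a1
    · rw [e2]; exact a2
    · rw [e3]; exact a3
    · rw [e4]; exact a4

theorem slpfin2_ev_wordsPO {G : Type*} [Group G] (u h w : G) (n : ℕ) (az : FreeGroup (Fin 3)) :
    (∀ r ∈ wordsPO n az, ev u h w r = 1) ↔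
      (w ^ 2 = 1 ∧ braid n (h * w) w = 1 ∧ relK1 u w = 1 ∧ relK2 (ev u h w az) h w = 1) := by
  have e1 : ev u h w (braid n (gH * gW) gW) = braid n (h * w) w := by
    rw [map_braid, map_mul, ev_gH, ev_gW]
  have e2 : ev u h w (gW ^ 2) = w ^ 2 := by simp only [map_pow, ev_gW]
  have e3 : ev u h w (relK1 gU gW) = relK1 u w := by rw [map_relK1, ev_gU, ev_gW]
  have e4 : ev u h w (relK2 az gH gW) = relK2 (ev u h w az) h w := by
    rw [map_relK2, ev_gH, ev_gW]
  constructor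
  · intro H
    have h1 := H (braid n (gH * gW) gW) (by simp [wordsPO])
    have h2 := H (gW ^ 2) (by simp [wordsPO])
    have h3 := H (relK1 gU gW) (by simp [wordsPO])
    have h4 := H (relK2 az gH gW) (by simp [wordsPO])
    rw [e1] at h1
    rw [e2] at h2
    rw [e3] at h3
    rw [e4] at h4
    exact ⟨h2, h1, h3, h4⟩
  · rintro ⟨a1, a2, a3, a4⟩ r hr
    simp only [wordsPO, List.mem_cons, List.not_mem_nil, or_false] at hr
    rcases hr with rfl | rfl | rfl | rfl
    · rw [e2]; exact a1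
    · rw [e1]; exact a2
    · rw [e3]; exact a3
    · rw [e4]; exact a4

/-- **FIN2 core**. -/
theorem slpfin2_core {F : Type u} [Field F] [Fintype F] (h2 : (2 : F) ≠ 0)
    (hX1 : ∀ ζ : Fˣ, (∀ y : Fˣ, y ∈ Subgroup.zpowers ζ) →
      ∃ (A : List (FreeGroup (Fin 3))) (az : FreeGroup (Fin 3)), A.length ≤ 5 ∧
        (∀ r ∈ A, ev (xM (1 : F)) (hM ζ) wM r = 1) ∧
        ev (xM (1 : F)) (hM ζ) wM az = xM (ζ : F) ∧
        ∀ (G : Type) [Group G] (u h w : G), (∀ r ∈ A, ev u h w r = 1) →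
          ∃ x : F → G, (∀ s t, x (s + t) = x s * x t) ∧
            (∀ t, h * x t * h⁻¹ = x ((ζ : F) ^ 2 * t)) ∧ x 1 = u ∧ x (ζ : F) = ev u h w az)
    (hC1 : ∀ (G : Type) [Group G] (ζ : Fˣ), (∀ y : Fˣ, y ∈ Subgroup.zpowers ζ) →
      ∀ (u h w : G) (N : ℕ), 0 < N → Subgroup.closure {u, h, w} = ⊤ →
      ∀ (x : F → G), (∀ s t, x (s + t) = x s * x t) →
      (∀ t, h * x t * h⁻¹ = x ((ζ : F) ^ 2 * t)) → x 1 = u →
      h ^ N = 1 → w * h * w⁻¹ = h⁻¹ → w ^ 2 ∈ Subgroup.zpowers h →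
      relK1 u w = 1 → relK2 (x (ζ : F)) h w = 1 →
      Finite G ∧ Nat.card G ≤ Fintype.card F * N * (Fintype.card F + 1))
    (hN2 : ∀ (G : Type) [Group G] (h w : G) (m : ℕ), w ^ 2 = 1 →
      braid (2 * m + 1) (h * w) w = 1 → w * h * w⁻¹ = h⁻¹ ∧ h ^ (2 * m + 1) = 1)
    (hN3 : ∀ (G : Type) [Group G] (lam : F) (x : F → G) (h w : G) (m : ℕ),
      (∀ s t, x (s + t) = x s * x t) → (∀ t, h * x t * h⁻¹ = x (lam * t)) →
      lam ^ m = -1 → w * h * w⁻¹ = h⁻¹ → w ^ 2 = 1 → relK1 (x 1) w = 1 → h ^ (2 * m) = 1)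
    (hP1 : ∀ (L : List (FreeGroup (Fin 3)))
      (a b c : Matrix.ProjectiveSpecialLinearGroup (Fin 2) F),
      Subgroup.closure {a, b, c} = ⊤ → (∀ r ∈ L, ev a b c r = 1) →
      (∀ (G : Type) [Group G] (u h w : G), Subgroup.closure {u, h, w} = ⊤ →
        (∀ r ∈ L, ev u h w r = 1) →
        Finite G ∧ Nat.card G ≤ Nat.card (Matrix.ProjectiveSpecialLinearGroup (Fin 2) F)) →
      Nonempty (PresentedGroup (↑L.toFinset : Set (FreeGroup (Fin 3))) ≃*
        Matrix.ProjectiveSpecialLinearGroup (Fin 2) F))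
    (hM1a : ∀ s : Fˣ, (wM * hM s * wM⁻¹ : Matrix.SpecialLinearGroup (Fin 2) F) = (hM s)⁻¹)
    (hM1b : (wM : Matrix.SpecialLinearGroup (Fin 2) F) ^ 2 = hM (-1))
    (hM1c : (hM (-1) : Matrix.SpecialLinearGroup (Fin 2) F) ∈
      Subgroup.center (Matrix.SpecialLinearGroup (Fin 2) F))
    (hM3a : relK1 (xM (1 : F)) wM = 1)
    (hM3b : ∀ s : Fˣ, relK2 (xM (s : F)) (hM s) wM = 1)
    (hM4 : ∀ ζ : Fˣ, (∀ y : Fˣ, y ∈ Subgroup.zpowers ζ) →
      Subgroup.closure {xM (1 : F), hM ζ, wM} = ⊤)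
    (hM5 : ∀ (s : Fˣ) (m : ℕ), braid (2 * m + 1) (hM s * wM) wM = hM (s ^ (2 * m + 1)))
    (hM6 : Nat.card (Matrix.ProjectiveSpecialLinearGroup (Fin 2) F) * 2 =
      Fintype.card F * (Fintype.card F - 1) * (Fintype.card F + 1))
    (hF4 : ∀ ζ : Fˣ, (∀ y : Fˣ, y ∈ Subgroup.zpowers ζ) →
      (ζ : F) ^ ((Fintype.card F - 1) / 2) = -1) :
    ∃ rels : Finset (FreeGroup (Fin 3)), rels.card ≤ 9 ∧
      Nonempty (PresentedGroup (↑rels : Set (FreeGroup (Fin 3))) ≃*
        Matrix.ProjectiveSpecialLinearGroup (Fin 2) F) := by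
  classical
  obtain ⟨ζ, hζ⟩ := IsCyclic.exists_generator (α := Fˣ)
  obtain ⟨A, az, hA5, hArel, hAaz, hAx⟩ := hX1 ζ hζ
  have hq2 : 2 ≤ Fintype.card F := Fintype.one_lt_card
  have hodd : Fintype.card F % 2 = 1 := by
    by_contra hne
    have h0 : Fintype.card F % 2 = 0 := by omega
    have hc : ringChar F = 2 := FiniteField.even_card_iff_char_two.2 h0
    apply h2
    have h3 := CharP.cast_eq_zero F (ringChar F)
    rw [hc] at h3
    exact_mod_cast h3
  obtain ⟨n, hn⟩ : ∃ n, n = (Fintype.card F - 1) / 2 := ⟨_, rfl⟩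
  have hq : Fintype.card F - 1 = 2 * n := by omega
  have hn0 : 0 < n := by omega
  have hF4' : (ζ : F) ^ n = -1 := by rw [hn]; exact hF4 ζ hζ
  have hζn : ζ ^ n = -1 := by
    apply Units.ext
    rw [Units.val_pow_eq_pow_val, Units.val_neg, Units.val_one]
    exact hF4'
  -- the quotient map
  obtain ⟨π, hπ⟩ : ∃ π : Matrix.SpecialLinearGroup (Fin 2) F →*
      Matrix.ProjectiveSpecialLinearGroup (Fin 2) F,
      π = QuotientGroup.mk' (Subgroup.center (Matrix.SpecialLinearGroup (Fin 2) F)) := ⟨_, rfl⟩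
  have hπs : Function.Surjective π := by rw [hπ]; exact QuotientGroup.mk'_surjective _
  have hπneg : π (hM (-1)) = 1 := by
    rw [hπ]
    exact (QuotientGroup.eq_one_iff _).2 hM1c
  have hgen : Subgroup.closure {π (xM (1 : F)), π (hM ζ), π wM} = ⊤ := by
    have h1 := hM4 ζ hζ
    have h2' : Subgroup.map π (Subgroup.closure {xM (1 : F), hM ζ, wM}) = ⊤ := by
      rw [h1]
      exact Subgroup.map_top_of_surjective π hπs
    rw [MonoidHom.map_closure, Set.image_insert_eq, Set.image_insert_eq, Set.image_singleton] at h2'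
    exact h2'
  have hwh_S : π wM * π (hM ζ) * (π wM)⁻¹ = (π (hM ζ))⁻¹ := by
    have h1 := congrArg π (hM1a ζ)
    simpa only [map_mul, map_inv] using h1
  have hw2_S : π wM ^ 2 = 1 := by rw [← map_pow, hM1b, hπneg]
  have hK1_S : relK1 (π (xM (1 : F))) (π wM) = 1 := by rw [← map_relK1, hM3a, map_one]
  have haz_S : ev (π (xM (1 : F))) (π (hM ζ)) (π wM) az = π (xM (ζ : F)) := by
    rw [slpfin2_ev_map, hAaz]
  have hK2_S : relK2 (ev (π (xM (1 : F))) (π (hM ζ)) (π wM) az) (π (hM ζ)) (π wM) = 1 := by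
    rw [haz_S, ← map_relK2, hM3b ζ, map_one]
  have hArel_S : ∀ r ∈ A, ev (π (xM (1 : F))) (π (hM ζ)) (π wM) r = 1 := fun r hr => by
    rw [slpfin2_ev_map, hArel r hr, map_one]
  have hcardS : Fintype.card F * n * (Fintype.card F + 1) =
      Nat.card (Matrix.ProjectiveSpecialLinearGroup (Fin 2) F) := by
    have h1 : Nat.card (Matrix.ProjectiveSpecialLinearGroup (Fin 2) F) * 2 =
        (Fintype.card F * n * (Fintype.card F + 1)) * 2 := by
      rw [hM6, hq]
      ring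
    exact (Nat.eq_of_mul_eq_mul_right (by norm_num) h1).symm
  -- the common last step
  have hfin : ∀ (G : Type) [Group G] (u h w : G), Subgroup.closure {u, h, w} = ⊤ →
      ∀ (x : F → G), (∀ s t, x (s + t) = x s * x t) →
      (∀ t, h * x t * h⁻¹ = x ((ζ : F) ^ 2 * t)) → x 1 = u →
      h ^ n = 1 → w * h * w⁻¹ = h⁻¹ → w ^ 2 = 1 →
      relK1 u w = 1 → relK2 (x (ζ : F)) h w = 1 →
      Finite G ∧ Nat.card G ≤ Nat.card (Matrix.ProjectiveSpecialLinearGroup (Fin 2) F) := by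
    intro G _ u h w hgenG x hadd hconj hx1 hhn hwh hw2 hK1 hK2
    have hcard := hC1 G ζ hζ u h w n hn0 hgenG x hadd hconj hx1 hhn hwh
      (by rw [hw2]; exact Subgroup.one_mem _) hK1 hK2
    exact ⟨hcard.1, hcard.2.trans (le_of_eq hcardS)⟩
  rcases Nat.even_or_odd n with ⟨m, hm⟩ | ⟨m, hm⟩
  · -- `n` even
    obtain ⟨L, hL⟩ : ∃ L, L = A ++ wordsPE az := ⟨_, rfl⟩
    refine ⟨L.toFinset, ?_, ?_⟩
    · calc L.toFinset.card ≤ L.length := List.toFinset_card_le L
        _ = A.length + 4 := by rw [hL, List.length_append]; rfl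
        _ ≤ 9 := by omega
    · apply hP1 L (π (xM 1)) (π (hM ζ)) (π wM) hgen
      · intro r hr
        rw [hL, List.mem_append] at hr
        rcases hr with hr | hr
        · exact hArel_S r hr
        · exact (slpfin2_ev_wordsPE _ _ _ az).2 ⟨hwh_S, hw2_S, hK1_S, hK2_S⟩ r hr
      · intro G _ u h w hgenG hrel
        have hrelA : ∀ r ∈ A, ev u h w r = 1 := fun r hr =>
          hrel r (by rw [hL]; exact List.mem_append_left _ hr)
        obtain ⟨hwh, hw2, hK1, hK2⟩ := (slpfin2_ev_wordsPE u h w az).1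
          (fun r hr => hrel r (by rw [hL]; exact List.mem_append_right _ hr))
        obtain ⟨x, hadd, hconj, hx1, hxz⟩ := hAx G u h w hrelA
        rw [← hxz] at hK2
        have hneg : ((ζ : F) ^ 2) ^ m = -1 := by
          rw [← pow_mul, show 2 * m = n by omega]
          exact hF4'
        have hh : h ^ (2 * m) = 1 :=
          hN3 G ((ζ : F) ^ 2) x h w m hadd hconj hneg hwh hw2 (by rw [hx1]; exact hK1)
        rw [show 2 * m = n by omega] at hh
        exact hfin G u h w hgenG x hadd hconj hx1 hh hwh hw2 hK1 hK2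
  · -- `n` odd
    obtain ⟨L, hL⟩ : ∃ L, L = A ++ wordsPO n az := ⟨_, rfl⟩
    refine ⟨L.toFinset, ?_, ?_⟩
    · calc L.toFinset.card ≤ L.length := List.toFinset_card_le L
        _ = A.length + 4 := by rw [hL, List.length_append]; rfl
        _ ≤ 9 := by omega
    · apply hP1 L (π (xM 1)) (π (hM ζ)) (π wM) hgen
      · intro r hr
        rw [hL, List.mem_append] at hr
        rcases hr with hr | hr
        · exact hArel_S r hr
        · have hbr_S : braid n (π (hM ζ) * π wM) (π wM) = 1 := by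
            rw [hm, ← map_mul, ← map_braid, hM5 ζ m, ← hm, hζn, hπneg]
          exact (slpfin2_ev_wordsPO _ _ _ n az).2 ⟨hw2_S, hbr_S, hK1_S, hK2_S⟩ r hr
      · intro G _ u h w hgenG hrel
        have hrelA : ∀ r ∈ A, ev u h w r = 1 := fun r hr =>
          hrel r (by rw [hL]; exact List.mem_append_left _ hr)
        obtain ⟨hw2, hbr, hK1, hK2⟩ := (slpfin2_ev_wordsPO u h w n az).1
          (fun r hr => hrel r (by rw [hL]; exact List.mem_append_right _ hr))
        obtain ⟨x, hadd, hconj, hx1, hxz⟩ := hAx G u h w hrelA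
        rw [← hxz] at hK2
        rw [hm] at hbr
        obtain ⟨hwh, hhN⟩ := hN2 G h w m hw2 hbr
        rw [← hm] at hhN
        exact hfin G u h w hgenG x hadd hconj hx1 hhN hwh hw2 hK1 hK2

end Cfsg.Agent.Lib.helper17.SLP
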