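import Mathlib
import Cfsg.Prelude.Def_Classical
import Cfsg.Prelude.Def_KGroupFacts
import Cfsg.Agent.Lib.helper3.SPB.Defs

/-!
# Project SPB (designer helper3), rows C1 (`YY_mul YY_anti YY_opp`) and C2 (`XCs_add XCs_inv`), VERBATIM (helper4).
-/

set_option autoImplicit false

namespace Cfsg.Agent.Lib.helper3.SPB

open Cfsg.Agent.Lib.helper15.St2 Cfsg.Agent.Lib.helper3.STC Cfsg.Agent.Lib.Lead.STD Cfsg.Agent.Lib.Lead.STB
  Cfsg.Agent.Lib.Lead.SPN Cfsg.Agent.Lib.Helper16 Cfsg.Agent.Lib.Helper12.OMB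

universe u v w

section C

variable {l : ℕ} {F : Type u} [Field F]

/-- C1 [S]  `Y_a Y_b = γ_0 γ_a γ_0 γ_b = -γ_0 γ_0 γ_a γ_b = -γ_a γ_b` (`gamB_gam0`, `gam0_sq`; no condition on `a, b`). -/
theorem YY_mul (a b : Fin l ⊕ Fin l) : YY (F := F) a * YY b = -(gamB a * gamB b) := by
  unfold YY
  calc gam0 (F := F) * gamB a * (gam0 * gamB b) = gam0 * (gamB a * gam0) * gamB b := by noncomm_ring
    _ = -(gam0 * gam0 * (gamB a * gamB b)) := by rw [gamB_gam0]; noncomm_ring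
    _ = -(gamB a * gamB b) := by rw [gam0_sq, one_mul]

/-- C1 [S]  `Y_a Y_b = -Y_b Y_a` for `a ≠ ng b` (`YY_mul` twice, `gamB_anti`). -/
theorem YY_anti {a b : Fin l ⊕ Fin l} (hab : a ≠ ng b) : YY (F := F) a * YY b = -(YY b * YY a) := by
  rw [YY_mul, YY_mul, gamB_anti hab]

/-- C1 [S]  `Y_a Y_{-a} + Y_{-a} Y_a = -1` (`YY_mul` twice, `gamB_car a (ng a)`; `ng (ng a) = a`). -/
theorem YY_opp (a : Fin l ⊕ Fin l) : YY (F := F) a * YY (ng a) + YY (ng a) * YY a = -1 := by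
  rw [YY_mul, YY_mul, ← neg_add, gamB_car, ng_ng, if_pos rfl]

/-- C2 [S]  `Units.ext`, `XCs_val`, `YY_sq`: `(1 + tY)(1 + uY) = 1 + (t+u)Y` (model: SPN C5 `XC_add`, `Helper9/SPNC1.lean`). -/
theorem XCs_add (a : Fin l ⊕ Fin l) (t u : F) : XCs (F := F) a t * XCs a u = XCs a (t + u) := by
  apply Units.ext
  rw [Units.val_mul, XCs_val, XCs_val, XCs_val]
  have h0 : (t • YY (F := F) a) * (u • YY a) = 0 := by
    rw [smul_mul_smul_comm, YY_sq, smul_zero]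
  have key : ∀ x y : ClB l F, (1 + x) * (1 + y) = 1 + x + y + x * y := fun x y => by noncomm_ring
  rw [key, h0, add_zero, add_smul, add_assoc]

/-- C2 [S]  `XCs_inv_val`, `XCs_val`, `neg_smul`. -/
theorem XCs_inv (a : Fin l ⊕ Fin l) (t : F) : (XCs (F := F) a t)⁻¹ = XCs a (-t) := by
  apply Units.ext
  rw [XCs_inv_val, XCs_val, neg_smul, sub_eq_add_neg]

end C

end Cfsg.Agent.Lib.helper3.SPB
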