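import Mathlib
import Cfsg.Agent.Lib.helper7.SPC.Defs

/-!
# Project SPC, row C9 (`sq_mul_of_iff`, `sq_iff_of_mul`), verbatim from `helper7/SPC/Skel.lean.txt`.  (helper4)
-/

set_option autoImplicit false

namespace Cfsg.Agent.Lib.helper7.SPC

universe u

open Module

variable {F : Type u} [Field F]

theorem sq_mul_of_iff [Fintype F] (h2 : (2 : F) ≠ 0) (a b : F) (ha : a ≠ 0) (hb : b ≠ 0)
    (h : IsSquare a ↔ IsSquare b) : IsSquare (a * b) := by
  classical
  by_cases hsa : IsSquare a
  · exact hsa.mul (h.mp hsa)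
  · have hsb : ¬ IsSquare b := fun hb' => hsa (h.mpr hb')
    have h1 : quadraticChar F a = -1 := quadraticChar_neg_one_iff_not_isSquare.mpr hsa
    have h3 : quadraticChar F b = -1 := quadraticChar_neg_one_iff_not_isSquare.mpr hsb
    rw [← quadraticChar_one_iff_isSquare (mul_ne_zero ha hb), map_mul, h1, h3]
    norm_num

theorem sq_iff_of_mul (a b : F) (ha : a ≠ 0) (hb : b ≠ 0) (h : IsSquare (a * b)) :
    IsSquare a ↔ IsSquare b := by
  constructor
  · intro hsa
    have e : (a * b) * a⁻¹ = b := by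
      rw [mul_comm a b, mul_assoc, mul_inv_cancel₀ ha, mul_one]
    rw [← e]
    exact h.mul hsa.inv
  · intro hsb
    have e : (a * b) * b⁻¹ = a := by
      rw [mul_assoc, mul_inv_cancel₀ hb, mul_one]
    rw [← e]
    exact h.mul hsb.inv

end Cfsg.Agent.Lib.helper7.SPC
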