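import Mathlib
import Cfsg.Prelude.Def_GeometricClasses
import Cfsg.Agent.Lib.Lead.SPU.Defs
import Cfsg.Agent.Lib.helper4.SPUSTEP3B
import Cfsg.Agent.Lib.Helper1.SPUCONJ
import Cfsg.Agent.Lib.Lead.SPULEMA
import Cfsg.Agent.Lib.Helper25.SPUSTEP1
import Cfsg.Agent.Lib.Helper27.SPUEXZ
import Cfsg.Agent.Lib.Helper25.SPUSTEP2
import Cfsg.Agent.Lib.helper2.SPUSTEP3A

set_option autoImplicit false
set_option linter.unusedVariables false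
set_option linter.unusedSectionVars false

/-!
# Project SPU (S5665), piece CORE : `core` (assembly of `js_conj`, `inC_conj`, `lemA`, `step1`, `exz`, `step2`, `step3a`, `step3b`, `sp_gen`)
-/

namespace Cfsg.Agent.Lib.Lead.SPU

open Matrix Cfsg.Agent.S5646 Cfsg.Agent.S5647 Cfsg.Agent.Lib.Helper28.SpPair

variable {m : ℕ} {F : Type*} [Field F] {j j1 : Matrix (Fin m ⊕ Fin m) (Fin m ⊕ Fin m) F} {c0 : F}
  {M : Subgroup (Matrix.GeneralLinearGroup (Fin m ⊕ Fin m) F)}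

/-- CORE [M] : assembly.  (`j1 := g j g⁻¹`, `js_conj`, `inC_conj` (⇒ `hC1`), `lemA`, `step1`, `exz`, `step2`, `step3a`, `step3b`, `sp_gen`.) -/
theorem core [Fintype F] (hm : 7 ≤ m) (hJ : JS j c0) (hM : M ≤ Cfsg.spGL m F)
    (hC : ∀ g, InC j g → g ∈ M) (g : Matrix.GeneralLinearGroup (Fin m ⊕ Fin m) F) (hg : g ∈ M)
    (hg1 : ¬ ((g : Matrix (Fin m ⊕ Fin m) (Fin m ⊕ Fin m) F) * j = j * (g : Matrix (Fin m ⊕ Fin m) (Fin m ⊕ Fin m) F)))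
    (hg2 : ¬ ((g : Matrix (Fin m ⊕ Fin m) (Fin m ⊕ Fin m) F) * j = -(j * (g : Matrix (Fin m ⊕ Fin m) (Fin m ⊕ Fin m) F)))) :
    Cfsg.spGL m F ≤ M := by
  have hgS : g ∈ Cfsg.spGL m F := hM hg
  have hinv : ((g⁻¹ : Matrix.GeneralLinearGroup (Fin m ⊕ Fin m) F) : Matrix (Fin m ⊕ Fin m) (Fin m ⊕ Fin m) F) *
      (g : Matrix (Fin m ⊕ Fin m) (Fin m ⊕ Fin m) F) = 1 := by
    rw [← Units.val_mul, inv_mul_cancel, Units.val_one]
  have hJ1 := js_conj hJ g hgS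
  have hne : (g : Matrix (Fin m ⊕ Fin m) (Fin m ⊕ Fin m) F) * j *
      ((g⁻¹ : Matrix.GeneralLinearGroup (Fin m ⊕ Fin m) F) : Matrix (Fin m ⊕ Fin m) (Fin m ⊕ Fin m) F) ≠ j := by
    intro h
    apply hg1
    have e : (g : Matrix (Fin m ⊕ Fin m) (Fin m ⊕ Fin m) F) * j *
        ((g⁻¹ : Matrix.GeneralLinearGroup (Fin m ⊕ Fin m) F) : Matrix (Fin m ⊕ Fin m) (Fin m ⊕ Fin m) F) *
        (g : Matrix (Fin m ⊕ Fin m) (Fin m ⊕ Fin m) F) =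
        j * (g : Matrix (Fin m ⊕ Fin m) (Fin m ⊕ Fin m) F) := by rw [h]
    rw [mul_assoc, hinv, mul_one] at e
    exact e
  have hne' : (g : Matrix (Fin m ⊕ Fin m) (Fin m ⊕ Fin m) F) * j *
      ((g⁻¹ : Matrix.GeneralLinearGroup (Fin m ⊕ Fin m) F) : Matrix (Fin m ⊕ Fin m) (Fin m ⊕ Fin m) F) ≠ -j := by
    intro h
    apply hg2
    have e : (g : Matrix (Fin m ⊕ Fin m) (Fin m ⊕ Fin m) F) * j *
        ((g⁻¹ : Matrix.GeneralLinearGroup (Fin m ⊕ Fin m) F) : Matrix (Fin m ⊕ Fin m) (Fin m ⊕ Fin m) F) *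
        (g : Matrix (Fin m ⊕ Fin m) (Fin m ⊕ Fin m) F) =
        -j * (g : Matrix (Fin m ⊕ Fin m) (Fin m ⊕ Fin m) F) := by rw [h]
    rw [mul_assoc, hinv, mul_one, neg_mul] at e
    exact e
  have hC1 : ∀ g', InC ((g : Matrix (Fin m ⊕ Fin m) (Fin m ⊕ Fin m) F) * j *
      ((g⁻¹ : Matrix.GeneralLinearGroup (Fin m ⊕ Fin m) F) : Matrix (Fin m ⊕ Fin m) (Fin m ⊕ Fin m) F)) g' →
      g' ∈ M := by
    intro g' h'
    have h1 := hC _ (inC_conj g hgS g' h')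
    have e : g' = g * (g⁻¹ * g' * g) * g⁻¹ := by group
    rw [e]
    exact M.mul_mem (M.mul_mem hg h1) (M.inv_mem hg)
  obtain ⟨p, hp1, hp⟩ := lemA hm hJ hJ1 hne hne'
  obtain ⟨u0, v0, huv, hu, hv, hSR⟩ := step1 hm hJ hJ1 hM hC hC1 p hp1 hp
  obtain ⟨z, hz, hzu, hzv⟩ := exz hm hJ u0 v0 hu hv
  have hX := step2 hJ hM hC u0 v0 z huv hSR hz hzu hzv
  have h3a := step3a hm hJ hM hC u0 hu hX
  have h3b := step3b hJ hM h3a
  exact sp_gen M (fun v c g' hg' => h3b v c g' hg')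

end Cfsg.Agent.Lib.Lead.SPU
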