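import Cfsg.Agent.Lib.helper14.SQD.Defs
import Cfsg.Agent.Lib.helper14.SQD.DefsU
import Cfsg.Agent.Lib.Helper28.SQDT1

/-!
# SQD row UO7 (`suOdd_le_range`), core: on the statements of UO6 (`mem_range_psiO`) and UF2
(`frobE_frobE`).

Extras: `sqduo7_hs_form`, `sqduo7_hs_det` (a Heisenberg matrix with unitary cocycle preserves the
form `[[J, 0], [0, 1]]` and has determinant `1`), `sqduo7_lev_form`, `sqduo7_lev_det` (the same for
the Levi elements `fromBlocks g 0 0 (g⁻¹)^*`).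
-/

set_option autoImplicit false

namespace Cfsg.Agent.Lib.helper14.SQD

open Cfsg Cfsg.Lie Matrix

universe u v

section UO

theorem sqduo7_tadj_map {F : Type*} [Field F] (τ : F →+* F) (hτ : ∀ x, τ (τ x) = x)
    {m n : Type*} (A : Matrix m n F) : (tadj τ A).map τ = Aᵀ := by
  ext i j
  simp [tadj, hτ]

theorem sqduo7_tadj_transpose {F : Type*} [Field F] (τ : F →+* F) {m n : Type*}
    (A : Matrix m n F) : (tadj τ A)ᵀ = A.map τ := by
  ext i j
  simp [tadj]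

theorem sqduo7_fromBlocks_sub {R : Type*} [Ring R] {l m n o : Type*} (A : Matrix n l R)
    (B : Matrix n m R) (C : Matrix o l R) (D : Matrix o m R) (A' : Matrix n l R)
    (B' : Matrix n m R) (C' : Matrix o l R) (D' : Matrix o m R) :
    Matrix.fromBlocks A B C D - Matrix.fromBlocks A' B' C' D' =
      Matrix.fromBlocks (A - A') (B - B') (C - C') (D - D') := by
  ext (i | i) (j | j) <;> simp

variable {F : Type} [Field F] [CharP F 2] {k : ℕ}

/-- the form identity for a Heisenberg matrix -/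
theorem sqduo7_hs_form (τ : F →+* F) (hτ : ∀ x, τ (τ x) = x) (R : Matrix (Fin 1) (Fin k) F)
    (C : Matrix (Fin k) (Fin k) F) (h : suC τ R C) :
    (hsM τ (1 : Matrix (Fin 1) (Fin 1) F) R C)ᵀ *
        Matrix.fromBlocks (Matrix.fromBlocks 0 1 1 0) 0 0 1 *
        (hsM τ (1 : Matrix (Fin 1) (Fin 1) F) R C).map τ =
      Matrix.fromBlocks (Matrix.fromBlocks (0 : Matrix (Fin k) (Fin k) F) 1 1 0) 0 0 1 := by
  have hC : C.map τ + Cᵀ + Rᵀ * R.map τ = 0 := by
    have h1 : (C + tadj τ C)ᵀ = (tadj τ R * R)ᵀ := by rw [h]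
    rw [Matrix.transpose_add, Matrix.transpose_mul, sqduo7_tadj_transpose,
      sqduo7_tadj_transpose] at h1
    rw [add_comm (C.map τ), h1]
    ext i j
    exact CharTwo.add_self_eq_zero _
  unfold hsM
  simp only [Matrix.fromBlocks_transpose, Matrix.fromBlocks_map, Matrix.fromBlocks_multiply,
    Matrix.transpose_fromRows, Matrix.transpose_fromCols, Matrix.fromRows_map, Matrix.fromCols_map,
    Matrix.fromBlocks_mul_fromRows, Matrix.fromCols_mul_fromBlocks, Matrix.fromRows_mul_fromCols,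
    Matrix.fromCols_mul_fromRows, Matrix.mul_one, Matrix.one_mul, Matrix.mul_zero, Matrix.zero_mul,
    Matrix.transpose_one, Matrix.transpose_zero, add_zero, zero_add,
    Matrix.map_zero _ (map_zero τ), Matrix.map_one _ (map_zero τ) (map_one τ),
    Matrix.fromBlocks_add, sqduo7_tadj_map τ hτ, sqduo7_tadj_transpose, hC]
  refine Matrix.fromBlocks_inj.2 ⟨rfl, ?_, ?_, rfl⟩
  · ext (i | i) j
    · simp
    · simp [CharTwo.add_self_eq_zero]
  · ext i (j | j)
    · simp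
    · simp [CharTwo.add_self_eq_zero]

omit [CharP F 2] in
/-- a Heisenberg matrix has determinant `1` -/
theorem sqduo7_hs_det (τ : F →+* F) (R : Matrix (Fin 1) (Fin k) F)
    (C : Matrix (Fin k) (Fin k) F) :
    (hsM τ (1 : Matrix (Fin 1) (Fin 1) F) R C).det = 1 := by
  unfold hsM
  rw [Matrix.det_fromBlocks_one₂₂, Matrix.fromRows_mul_fromCols, sqduo7_fromBlocks_sub]
  simp only [Matrix.mul_zero, Matrix.zero_mul, sub_zero]
  rw [Matrix.det_fromBlocks_zero₂₁, Matrix.det_one, one_mul]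

omit [CharP F 2] in
/-- the form identity for a Levi element -/
theorem sqduo7_lev_form (τ : F →+* F) (hτ : ∀ x, τ (τ x) = x) (g : GL (Fin k) F) :
    ((embGL 1 (levHom τ g) : GL ((Fin k ⊕ Fin k) ⊕ Fin 1) F) :
        Matrix ((Fin k ⊕ Fin k) ⊕ Fin 1) ((Fin k ⊕ Fin k) ⊕ Fin 1) F)ᵀ *
        Matrix.fromBlocks (Matrix.fromBlocks 0 1 1 0) 0 0 1 *
        ((embGL 1 (levHom τ g) : GL ((Fin k ⊕ Fin k) ⊕ Fin 1) F) :
          Matrix ((Fin k ⊕ Fin k) ⊕ Fin 1) ((Fin k ⊕ Fin k) ⊕ Fin 1) F).map τ =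
      Matrix.fromBlocks (Matrix.fromBlocks (0 : Matrix (Fin k) (Fin k) F) 1 1 0) 0 0 1 := by
  have h1 : (g : Matrix (Fin k) (Fin k) F)ᵀ *
      ((g⁻¹ : GL (Fin k) F) : Matrix (Fin k) (Fin k) F)ᵀ = 1 := by
    rw [← Matrix.transpose_mul, ← Units.val_mul, inv_mul_cancel, Units.val_one,
      Matrix.transpose_one]
  have h2 : ((g⁻¹ : GL (Fin k) F) : Matrix (Fin k) (Fin k) F).map τ *
      (g : Matrix (Fin k) (Fin k) F).map τ = 1 := by
    rw [← Matrix.map_mul, ← Units.val_mul, inv_mul_cancel, Units.val_one,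
      Matrix.map_one _ (map_zero τ) (map_one τ)]
  rw [embGL_coe, levHom_coe]
  simp only [Matrix.fromBlocks_transpose, Matrix.fromBlocks_map, Matrix.fromBlocks_multiply,
    Matrix.mul_one, Matrix.one_mul, Matrix.mul_zero, Matrix.zero_mul,
    Matrix.transpose_one, Matrix.transpose_zero, add_zero, zero_add,
    Matrix.map_zero _ (map_zero τ), Matrix.map_one _ (map_zero τ) (map_one τ),
    sqduo7_tadj_map τ hτ, sqduo7_tadj_transpose, h1, h2]

omit [CharP F 2] in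
/-- a Levi element of a unitriangular matrix has determinant `1` -/
theorem sqduo7_lev_det (τ : F →+* F) (g : GL (Fin k) F) (hg : g ∈ uutGL k F) :
    ((embGL 1 (levHom τ g) : GL ((Fin k ⊕ Fin k) ⊕ Fin 1) F) :
        Matrix ((Fin k ⊕ Fin k) ⊕ Fin 1) ((Fin k ⊕ Fin k) ⊕ Fin 1) F).det = 1 := by
  have h1 : (g : Matrix (Fin k) (Fin k) F).det = 1 := uut_det ((mem_uutGL g).1 hg)
  have h2 : ((g⁻¹ : GL (Fin k) F) : Matrix (Fin k) (Fin k) F).det = 1 :=
    uut_det ((mem_uutGL g⁻¹).1 (Subgroup.inv_mem _ hg))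
  rw [embGL_coe, levHom_coe, Matrix.det_fromBlocks_zero₂₁, Matrix.det_one, mul_one,
    Matrix.det_fromBlocks_zero₂₁, h1, one_mul]
  unfold tadj
  rw [Matrix.det_transpose]
  have h3 : (((g⁻¹ : GL (Fin k) F) : Matrix (Fin k) (Fin k) F).map τ).det =
      τ ((g⁻¹ : GL (Fin k) F) : Matrix (Fin k) (Fin k) F).det := by
    rw [RingHom.map_det]
    rfl
  rw [h3, h2, map_one]

/-- **UO7 core**: on the statements of UO6 and UF2. -/
theorem sqduo7_core (e : ℕ) (a : F) (hUF2 : ∀ x : F, frobE F e (frobE F e x) = x)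
    (hUO6 : ∀ w : GL ((Fin k ⊕ Fin k) ⊕ Fin 1) F,
      w ∈ (psiO (k := k) (F := F) (2 ^ e) a).range ↔
      (w : Matrix ((Fin k ⊕ Fin k) ⊕ Fin 1) ((Fin k ⊕ Fin k) ⊕ Fin 1) F).det = 1 ∧
      (w : Matrix ((Fin k ⊕ Fin k) ⊕ Fin 1) ((Fin k ⊕ Fin k) ⊕ Fin 1) F)ᵀ *
        Matrix.fromBlocks (Matrix.fromBlocks 0 1 1 0) 0 0 1 *
        (w : Matrix ((Fin k ⊕ Fin k) ⊕ Fin 1) ((Fin k ⊕ Fin k) ⊕ Fin 1) F).map (frobE F e) =
        Matrix.fromBlocks (Matrix.fromBlocks 0 1 1 0) 0 0 1) :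
    suOddGrp (k := k) (frobE F e) ≤ (psiO (k := k) (F := F) (2 ^ e) a).range := by
  unfold suOddGrp
  apply sup_le
  · unfold hsGrp
    rw [Subgroup.closure_le]
    rintro w ⟨R, C, hRC, hw⟩
    rw [SetLike.mem_coe, hUO6, hw]
    exact ⟨sqduo7_hs_det _ R C, sqduo7_hs_form _ hUF2 R C hRC⟩
  · rintro w ⟨l, hl, rfl⟩
    obtain ⟨g, hg, rfl⟩ := hl
    rw [hUO6]
    exact ⟨sqduo7_lev_det _ g hg, sqduo7_lev_form _ hUF2 g⟩

end UO

end Cfsg.Agent.Lib.helper14.SQD
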