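import Cfsg.Agent.Lib.helper4.SQDUO7core

/-!
# SQD row UO8 (`suOdd_center`), core: on the statements of UO6 (`mem_range_psiO`) and UF2
(`frobE_frobE`).

Every element of `suOddGrp` fixes `b = e_0`.  If `z` commutes with `h` then `z` fixes `h b`.  The
elements `h` of the range used: the Levi elements of the transvections `1 + E_{j0}` (`b ↦ b + e_j`)
and the swap-conjugates `J' * hsM R C * J'` of the Heisenberg elements
(`b ↦ b + ∑ C_{i0} f_i + R_{00} m`).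
-/

set_option autoImplicit false

namespace Cfsg.Agent.Lib.helper14.SQD

open Cfsg Cfsg.Lie Matrix

universe u v

section UO

variable {F : Type} [Field F] {k : ℕ}

/-- the subgroup of `GL` fixing a vector -/
def sqduo8_fix {ι : Type*} [Fintype ι] [DecidableEq ι] (x : ι → F) : Subgroup (GL ι F) where
  carrier := {z | (z : Matrix ι ι F) *ᵥ x = x}
  one_mem' := by
    show ((1 : GL ι F) : Matrix ι ι F) *ᵥ x = x
    rw [Units.val_one, Matrix.one_mulVec]
  mul_mem' := by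
    intro z w hz hw
    show ((z * w : GL ι F) : Matrix ι ι F) *ᵥ x = x
    rw [Units.val_mul, ← Matrix.mulVec_mulVec, show (w : Matrix ι ι F) *ᵥ x = x from hw,
      show (z : Matrix ι ι F) *ᵥ x = x from hz]
  inv_mem' := by
    intro z hz
    show ((z⁻¹ : GL ι F) : Matrix ι ι F) *ᵥ x = x
    have h1 : ((z⁻¹ : GL ι F) : Matrix ι ι F) *ᵥ ((z : Matrix ι ι F) *ᵥ x) = x := by
      rw [Matrix.mulVec_mulVec, ← Units.val_mul, inv_mul_cancel, Units.val_one, Matrix.one_mulVec]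
    rwa [show (z : Matrix ι ι F) *ᵥ x = x from hz] at h1

theorem sqduo8_mem_fix {ι : Type*} [Fintype ι] [DecidableEq ι] (x : ι → F) (z : GL ι F) :
    z ∈ sqduo8_fix x ↔ (z : Matrix ι ι F) *ᵥ x = x := Iff.rfl

/-- if `z` fixes `x` and commutes with `h`, then `z` fixes `h x` -/
theorem sqduo8_fix_of_comm {ι : Type*} [Fintype ι] [DecidableEq ι] (x : ι → F) (z h : GL ι F)
    (hz : (z : Matrix ι ι F) *ᵥ x = x) (hc : h * z = z * h) :
    (z : Matrix ι ι F) *ᵥ ((h : Matrix ι ι F) *ᵥ x) = (h : Matrix ι ι F) *ᵥ x := by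
  rw [Matrix.mulVec_mulVec, ← Units.val_mul, ← hc, Units.val_mul, ← Matrix.mulVec_mulVec, hz]

/-- the first basis vector -/
def sqduo8_b (hk : 1 ≤ k) : (Fin k ⊕ Fin k) ⊕ Fin 1 → F :=
  Pi.single (Sum.inl (Sum.inl (⟨0, hk⟩ : Fin k))) 1

/-- every element of `suOddGrp` fixes `b` -/
theorem sqduo8_fix_b (τ : F →+* F) (hk : 1 ≤ k) :
    suOddGrp (k := k) τ ≤ sqduo8_fix (sqduo8_b (F := F) hk) := by
  unfold suOddGrp
  apply sup_le
  · unfold hsGrp
    rw [Subgroup.closure_le]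
    rintro w ⟨R, C, -, hw⟩
    rw [SetLike.mem_coe, sqduo8_mem_fix, hw]
    unfold sqduo8_b
    rw [Matrix.mulVec_single_one]
    ext ((i | i) | i)
    · simp [hsM, Matrix.col_apply, Pi.single_apply, Matrix.one_apply]
    · simp [hsM, Matrix.col_apply, Pi.single_apply]
    · simp [hsM, Matrix.col_apply, Pi.single_apply]
  · rintro w ⟨l, hl, rfl⟩
    obtain ⟨g, hg, rfl⟩ := hl
    have hU := (mem_uutGL g).1 hg
    rw [sqduo8_mem_fix, embGL_coe, levHom_coe]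
    unfold sqduo8_b
    rw [Matrix.mulVec_single_one]
    ext ((i | i) | i)
    · simp only [Matrix.col_apply, Matrix.fromBlocks_apply₁₁, Pi.single_apply]
      by_cases hi : i = ⟨0, hk⟩
      · subst hi
        simp [hU.2]
      · have hlt : (⟨0, hk⟩ : Fin k) < i := by
          rw [Fin.lt_def]
          have : i.val ≠ 0 := fun h0 => hi (Fin.ext h0)
          show 0 < i.val
          omega
        have h0 := hU.1 hlt
        simp [hi, h0]
    · simp [Matrix.col_apply, Pi.single_apply]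
    · simp [Matrix.col_apply, Pi.single_apply]

/-- the swap `J' = [[0, 1, 0], [1, 0, 0], [0, 0, 1]]` -/
def sqduo8_J (k : ℕ) (F : Type) [Field F] :
    Matrix ((Fin k ⊕ Fin k) ⊕ Fin 1) ((Fin k ⊕ Fin k) ⊕ Fin 1) F :=
  Matrix.fromBlocks (Matrix.fromBlocks 0 1 1 0) 0 0 1

theorem sqduo8_J_mul : sqduo8_J k F * sqduo8_J k F = 1 := by
  unfold sqduo8_J
  simp only [Matrix.fromBlocks_multiply, Matrix.mul_one, Matrix.one_mul, Matrix.mul_zero,
    Matrix.zero_mul, add_zero, zero_add, Matrix.fromBlocks_one]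

/-- the swap as an element of `GL` -/
def sqduo8_Jg (k : ℕ) (F : Type) [Field F] : GL ((Fin k ⊕ Fin k) ⊕ Fin 1) F :=
  ⟨sqduo8_J k F, sqduo8_J k F, sqduo8_J_mul, sqduo8_J_mul⟩

theorem sqduo8_J_det [CharP F 2] : (sqduo8_J k F).det = 1 := by
  have h1 : (sqduo8_J k F).det * (sqduo8_J k F).det = 1 := by
    rw [← Matrix.det_mul, sqduo8_J_mul, Matrix.det_one]
  have h2 : ((sqduo8_J k F).det + 1) * ((sqduo8_J k F).det + 1) = 0 := by
    have h3 : ((sqduo8_J k F).det + 1) * ((sqduo8_J k F).det + 1) =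
        (sqduo8_J k F).det * (sqduo8_J k F).det + 1 +
          ((sqduo8_J k F).det + (sqduo8_J k F).det) := by ring
    rw [h3, h1, CharTwo.add_self_eq_zero, CharTwo.add_self_eq_zero, add_zero]
  have h4 : (sqduo8_J k F).det + 1 = 0 := by
    rcases mul_eq_zero.1 h2 with h | h <;> exact h
  have h5 : (sqduo8_J k F).det = -1 := eq_neg_of_add_eq_zero_left h4
  rw [h5, CharTwo.neg_eq]

theorem sqduo8_J_form (τ : F →+* F) :
    (sqduo8_J k F)ᵀ * Matrix.fromBlocks (Matrix.fromBlocks 0 1 1 0) 0 0 1 * (sqduo8_J k F).map τ =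
      Matrix.fromBlocks (Matrix.fromBlocks (0 : Matrix (Fin k) (Fin k) F) 1 1 0) 0 0 1 := by
  unfold sqduo8_J
  simp only [Matrix.fromBlocks_transpose, Matrix.fromBlocks_map, Matrix.fromBlocks_multiply,
    Matrix.mul_one, Matrix.one_mul, Matrix.mul_zero, Matrix.zero_mul,
    Matrix.transpose_one, Matrix.transpose_zero, add_zero, zero_add,
    Matrix.map_zero _ (map_zero τ), Matrix.map_one _ (map_zero τ) (map_one τ)]

/-- the swap-conjugate of a Heisenberg matrix -/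
theorem sqduo8_J_hs_J (τ : F →+* F) (R : Matrix (Fin 1) (Fin k) F) (C : Matrix (Fin k) (Fin k) F) :
    sqduo8_J k F * hsM τ (1 : Matrix (Fin 1) (Fin 1) F) R C * sqduo8_J k F =
      Matrix.fromBlocks (Matrix.fromBlocks 1 0 C 1) (Matrix.fromRows 0 (tadj τ R))
        (Matrix.fromCols R 0) 1 := by
  unfold sqduo8_J hsM
  simp only [Matrix.fromBlocks_multiply, Matrix.fromBlocks_mul_fromRows,
    Matrix.fromCols_mul_fromBlocks, Matrix.mul_one, Matrix.one_mul, Matrix.mul_zero,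
    Matrix.zero_mul, add_zero, zero_add]

/-- a Heisenberg matrix as an element of `GL` -/
noncomputable def sqduo8_hs (τ : F →+* F) (R : Matrix (Fin 1) (Fin k) F)
    (C : Matrix (Fin k) (Fin k) F) : GL ((Fin k ⊕ Fin k) ⊕ Fin 1) F :=
  Matrix.GeneralLinearGroup.mkOfDetNeZero (hsM τ (1 : Matrix (Fin 1) (Fin 1) F) R C)
    (by rw [sqduo7_hs_det]; exact one_ne_zero)

theorem sqduo8_hs_val (τ : F →+* F) (R : Matrix (Fin 1) (Fin k) F)
    (C : Matrix (Fin k) (Fin k) F) :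
    ((sqduo8_hs τ R C : GL ((Fin k ⊕ Fin k) ⊕ Fin 1) F) :
      Matrix ((Fin k ⊕ Fin k) ⊕ Fin 1) ((Fin k ⊕ Fin k) ⊕ Fin 1) F) =
      hsM τ (1 : Matrix (Fin 1) (Fin 1) F) R C := rfl

/-- the image of `b` under the swap-conjugate of a Heisenberg element -/
theorem sqduo8_JhsJ_b (τ : F →+* F) (hk : 1 ≤ k) (R : Matrix (Fin 1) (Fin k) F)
    (C : Matrix (Fin k) (Fin k) F) :
    ((sqduo8_Jg k F * sqduo8_hs τ R C * sqduo8_Jg k F : GL ((Fin k ⊕ Fin k) ⊕ Fin 1) F) :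
      Matrix ((Fin k ⊕ Fin k) ⊕ Fin 1) ((Fin k ⊕ Fin k) ⊕ Fin 1) F) *ᵥ sqduo8_b hk =
      Sum.elim (Sum.elim (Pi.single (⟨0, hk⟩ : Fin k) 1) (fun i => C i ⟨0, hk⟩))
        (fun x => R x ⟨0, hk⟩) := by
  have e : ((sqduo8_Jg k F * sqduo8_hs τ R C * sqduo8_Jg k F : GL ((Fin k ⊕ Fin k) ⊕ Fin 1) F) :
      Matrix ((Fin k ⊕ Fin k) ⊕ Fin 1) ((Fin k ⊕ Fin k) ⊕ Fin 1) F) =
      sqduo8_J k F * hsM τ (1 : Matrix (Fin 1) (Fin 1) F) R C * sqduo8_J k F := rfl
  rw [e, sqduo8_J_hs_J]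
  unfold sqduo8_b
  rw [Matrix.mulVec_single_one]
  ext ((i | i) | i)
  · simp [Matrix.col_apply, Pi.single_apply, Matrix.one_apply]
  · simp [Matrix.col_apply]
  · simp [Matrix.col_apply]


/-- the transvection `1 + E_{j0}` as an element of `GL` -/
noncomputable def sqduo8_tv (hk : 1 ≤ k) (j : Fin k) (hj : j ≠ ⟨0, hk⟩) : GL (Fin k) F :=
  Matrix.GeneralLinearGroup.mkOfDetNeZero (Matrix.transvection j (⟨0, hk⟩ : Fin k) (1 : F))
    (by rw [Matrix.det_transvection_of_ne _ _ hj]; exact one_ne_zero)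

theorem sqduo8_tv_val (hk : 1 ≤ k) (j : Fin k) (hj : j ≠ ⟨0, hk⟩) :
    ((sqduo8_tv (F := F) hk j hj : GL (Fin k) F) : Matrix (Fin k) (Fin k) F) =
      Matrix.transvection j (⟨0, hk⟩ : Fin k) (1 : F) := rfl

/-- a Levi element of a matrix of determinant `1` has determinant `1` -/
theorem sqduo8_lev_det (τ : F →+* F) (g : GL (Fin k) F)
    (h1 : (g : Matrix (Fin k) (Fin k) F).det = 1) :
    ((embGL 1 (levHom τ g) : GL ((Fin k ⊕ Fin k) ⊕ Fin 1) F) :
        Matrix ((Fin k ⊕ Fin k) ⊕ Fin 1) ((Fin k ⊕ Fin k) ⊕ Fin 1) F).det = 1 := by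
  have h2 : ((g⁻¹ : GL (Fin k) F) : Matrix (Fin k) (Fin k) F).det = 1 := by
    have h3 : ((g⁻¹ : GL (Fin k) F) : Matrix (Fin k) (Fin k) F).det *
        (g : Matrix (Fin k) (Fin k) F).det = 1 := by
      rw [← Matrix.det_mul, ← Units.val_mul, inv_mul_cancel, Units.val_one, Matrix.det_one]
    rwa [h1, mul_one] at h3
  rw [embGL_coe, levHom_coe, Matrix.det_fromBlocks_zero₂₁, Matrix.det_one, mul_one,
    Matrix.det_fromBlocks_zero₂₁, h1, one_mul]
  unfold tadj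
  rw [Matrix.det_transpose]
  have h3 : (((g⁻¹ : GL (Fin k) F) : Matrix (Fin k) (Fin k) F).map τ).det =
      τ ((g⁻¹ : GL (Fin k) F) : Matrix (Fin k) (Fin k) F).det := by
    rw [RingHom.map_det]
    rfl
  rw [h3, h2, map_one]

/-- the image of `b` under the Levi element of the transvection `1 + E_{j0}` -/
theorem sqduo8_tv_b (τ : F →+* F) (hk : 1 ≤ k) (j : Fin k) (hj : j ≠ ⟨0, hk⟩) :
    ((embGL 1 (levHom τ (sqduo8_tv (F := F) hk j hj)) : GL ((Fin k ⊕ Fin k) ⊕ Fin 1) F) :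
      Matrix ((Fin k ⊕ Fin k) ⊕ Fin 1) ((Fin k ⊕ Fin k) ⊕ Fin 1) F) *ᵥ sqduo8_b hk =
      sqduo8_b hk + Pi.single (Sum.inl (Sum.inl j)) 1 := by
  rw [embGL_coe, levHom_coe, sqduo8_tv_val]
  unfold sqduo8_b
  rw [Matrix.mulVec_single_one]
  ext ((i | i) | i)
  · simp only [Matrix.col_apply, Matrix.fromBlocks_apply₁₁, Matrix.transvection, Matrix.add_apply,
      Matrix.one_apply, Matrix.single_apply, Pi.add_apply, Pi.single_apply, Sum.inl.injEq]
    by_cases h1 : i = ⟨0, hk⟩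
    · by_cases h2 : i = j
      · exact absurd (h2.symm.trans h1) hj
      · have h2' : ¬ j = i := fun h => h2 h.symm
        have hj' : ¬ (⟨0, hk⟩ : Fin k) = j := fun h => hj h.symm
        simp [h1, hj, hj']
    · by_cases h2 : i = j
      · subst h2
        simp [h1]
      · have h2' : ¬ j = i := fun h => h2 h.symm
        simp [h1, h2, h2']
  · simp [Matrix.col_apply, Pi.single_apply]
  · simp [Matrix.col_apply, Pi.single_apply]


/-- cancel a fixed vector -/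
theorem sqduo8_cancel {ι : Type*} [Fintype ι] (A : Matrix ι ι F) (x y : ι → F)
    (hx : A *ᵥ x = x) (hxy : A *ᵥ (x + y) = x + y) : A *ᵥ y = y := by
  rw [Matrix.mulVec_add, hx] at hxy
  exact add_left_cancel hxy

/-- **UO8 core**: on the statements of UO6 and UF2. -/
theorem sqduo8_core [CharP F 2] (e : ℕ) (hk : 1 ≤ k) (a : F) (ha : a ^ 2 ^ e + a = 1)
    (hUF2 : ∀ x : F, frobE F e (frobE F e x) = x)
    (hUO6 : ∀ w : GL ((Fin k ⊕ Fin k) ⊕ Fin 1) F,
      w ∈ (psiO (k := k) (F := F) (2 ^ e) a).range ↔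
      (w : Matrix ((Fin k ⊕ Fin k) ⊕ Fin 1) ((Fin k ⊕ Fin k) ⊕ Fin 1) F).det = 1 ∧
      (w : Matrix ((Fin k ⊕ Fin k) ⊕ Fin 1) ((Fin k ⊕ Fin k) ⊕ Fin 1) F)ᵀ *
        Matrix.fromBlocks (Matrix.fromBlocks 0 1 1 0) 0 0 1 *
        (w : Matrix ((Fin k ⊕ Fin k) ⊕ Fin 1) ((Fin k ⊕ Fin k) ⊕ Fin 1) F).map (frobE F e) =
        Matrix.fromBlocks (Matrix.fromBlocks 0 1 1 0) 0 0 1)
    (z : GL ((Fin k ⊕ Fin k) ⊕ Fin 1) F) (hz : z ∈ suOddGrp (k := k) (frobE F e))
    (hc : ∀ h ∈ (psiO (k := k) (F := F) (2 ^ e) a).range, h * z = z * h) : z = 1 := by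
  obtain ⟨τ, hτdef⟩ : ∃ τ : F →+* F, τ = frobE F e := ⟨_, rfl⟩
  rw [← hτdef] at hUF2 hUO6 hz
  have hτa : τ a = a ^ 2 ^ e := by
    rw [hτdef]
    exact iterateFrobenius_def 2 e a
  obtain ⟨i0, hi0⟩ : ∃ i0 : Fin k, i0 = ⟨0, hk⟩ := ⟨_, rfl⟩
  have hzb : (z : Matrix ((Fin k ⊕ Fin k) ⊕ Fin 1) ((Fin k ⊕ Fin k) ⊕ Fin 1) F) *ᵥ sqduo8_b hk =
      sqduo8_b hk := sqduo8_fix_b τ hk hz
  have hJ : sqduo8_Jg k F ∈ (psiO (k := k) (F := F) (2 ^ e) a).range :=
    (hUO6 _).2 ⟨sqduo8_J_det, sqduo8_J_form τ⟩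
  have hhs : ∀ R C, suC τ R C → sqduo8_hs τ R C ∈ (psiO (k := k) (F := F) (2 ^ e) a).range :=
    fun R C h => (hUO6 _).2 ⟨sqduo7_hs_det _ R C, sqduo7_hs_form _ hUF2 R C h⟩
  have hfixRC : ∀ (R : Matrix (Fin 1) (Fin k) F) (C : Matrix (Fin k) (Fin k) F), suC τ R C →
      (z : Matrix ((Fin k ⊕ Fin k) ⊕ Fin 1) ((Fin k ⊕ Fin k) ⊕ Fin 1) F) *ᵥ
        (Sum.elim (Sum.elim (Pi.single (⟨0, hk⟩ : Fin k) 1) (fun i => C i ⟨0, hk⟩))
          (fun x => R x ⟨0, hk⟩)) =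
        Sum.elim (Sum.elim (Pi.single (⟨0, hk⟩ : Fin k) 1) (fun i => C i ⟨0, hk⟩))
          (fun x => R x ⟨0, hk⟩) := by
    intro R C h
    have hmem := Subgroup.mul_mem _ (Subgroup.mul_mem _ hJ (hhs R C h)) hJ
    have h1 := sqduo8_fix_of_comm _ z _ hzb (hc _ hmem)
    rwa [sqduo8_JhsJ_b] at h1
  -- the vectors `e_j`
  have he : ∀ j : Fin k,
      (z : Matrix ((Fin k ⊕ Fin k) ⊕ Fin 1) ((Fin k ⊕ Fin k) ⊕ Fin 1) F) *ᵥ
        Pi.single (Sum.inl (Sum.inl j)) 1 = Pi.single (Sum.inl (Sum.inl j)) 1 := by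
    intro j
    by_cases hj : j = ⟨0, hk⟩
    · rw [hj]
      exact hzb
    · have hdet : ((sqduo8_tv (F := F) hk j hj : GL (Fin k) F) : Matrix (Fin k) (Fin k) F).det = 1 := by
        rw [sqduo8_tv_val, Matrix.det_transvection_of_ne _ _ hj]
      have hmem : embGL 1 (levHom τ (sqduo8_tv (F := F) hk j hj)) ∈
          (psiO (k := k) (F := F) (2 ^ e) a).range :=
        (hUO6 _).2 ⟨sqduo8_lev_det τ _ hdet, sqduo7_lev_form τ hUF2 _⟩
      have h1 := sqduo8_fix_of_comm _ z _ hzb (hc _ hmem)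
      rw [sqduo8_tv_b] at h1
      exact sqduo8_cancel _ _ _ hzb h1
  -- the Hermitian case: `C + C^* = 0`
  have hfixC : ∀ C : Matrix (Fin k) (Fin k) F, C + tadj τ C = 0 →
      (z : Matrix ((Fin k ⊕ Fin k) ⊕ Fin 1) ((Fin k ⊕ Fin k) ⊕ Fin 1) F) *ᵥ
        (Sum.elim (Sum.elim (0 : Fin k → F) (fun i => C i ⟨0, hk⟩)) (0 : Fin 1 → F)) =
        Sum.elim (Sum.elim (0 : Fin k → F) (fun i => C i ⟨0, hk⟩)) (0 : Fin 1 → F) := by
    intro C hC
    have hs : suC τ (0 : Matrix (Fin 1) (Fin k) F) C := by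
      unfold suC
      rw [hC, Matrix.mul_zero]
    have h1 := hfixRC 0 C hs
    have e1 : (Sum.elim (Sum.elim (Pi.single (⟨0, hk⟩ : Fin k) (1 : F)) (fun i => C i ⟨0, hk⟩))
        (fun x => (0 : Matrix (Fin 1) (Fin k) F) x ⟨0, hk⟩) : (Fin k ⊕ Fin k) ⊕ Fin 1 → F) =
        sqduo8_b hk + Sum.elim (Sum.elim (0 : Fin k → F) (fun i => C i ⟨0, hk⟩)) (0 : Fin 1 → F) := by
      unfold sqduo8_b
      ext ((i | i) | i)
      · simp [Pi.single_apply]
      · simp [Pi.single_apply]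
      · simp [Pi.single_apply]
    rw [e1] at h1
    exact sqduo8_cancel _ _ _ hzb h1
  -- the vectors `f_j`
  have hadd : ∀ A : Matrix (Fin k) (Fin k) F, A + A = 0 := by
    intro A
    ext x y
    exact CharTwo.add_self_eq_zero _
  have htsingle : ∀ i j : Fin k, tadj τ (Matrix.single i j (1 : F)) = Matrix.single j i 1 := by
    intro i j
    ext x y
    simp only [tadj, Matrix.transpose_apply, Matrix.map_apply, Matrix.single_apply]
    by_cases h : i = y ∧ j = x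
    · rw [if_pos h, if_pos ⟨h.2, h.1⟩, map_one]
    · rw [if_neg h, if_neg (fun h' => h ⟨h'.2, h'.1⟩), map_zero]
  have hfC : ∀ (C : Matrix (Fin k) (Fin k) F) (j : Fin k), C + tadj τ C = 0 →
      (∀ i, C i ⟨0, hk⟩ = if i = j then 1 else 0) →
      (z : Matrix ((Fin k ⊕ Fin k) ⊕ Fin 1) ((Fin k ⊕ Fin k) ⊕ Fin 1) F) *ᵥ
        Pi.single (Sum.inl (Sum.inr j)) 1 = Pi.single (Sum.inl (Sum.inr j)) 1 := by
    intro C j hC hcol
    have h1 := hfixC C hC
    have e1 : (Sum.elim (Sum.elim (0 : Fin k → F) (fun i => C i ⟨0, hk⟩)) (0 : Fin 1 → F) :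
        (Fin k ⊕ Fin k) ⊕ Fin 1 → F) = Pi.single (Sum.inl (Sum.inr j)) 1 := by
      ext ((i | i) | i)
      · simp [Pi.single_apply]
      · simp [Pi.single_apply, hcol]
      · simp [Pi.single_apply]
    rwa [e1] at h1
  have hf : ∀ j : Fin k,
      (z : Matrix ((Fin k ⊕ Fin k) ⊕ Fin 1) ((Fin k ⊕ Fin k) ⊕ Fin 1) F) *ᵥ
        Pi.single (Sum.inl (Sum.inr j)) 1 = Pi.single (Sum.inl (Sum.inr j)) 1 := by
    intro j
    by_cases hj : j = ⟨0, hk⟩
    · refine hfC (Matrix.single (⟨0, hk⟩ : Fin k) (⟨0, hk⟩ : Fin k) (1 : F)) j ?_ ?_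
      · rw [htsingle]
        exact hadd _
      · intro i
        rw [hj, Matrix.single_apply]
        by_cases hi : i = ⟨0, hk⟩
        · rw [if_pos hi, if_pos ⟨hi.symm, rfl⟩]
        · rw [if_neg hi, if_neg (fun h => hi h.1.symm)]
    · refine hfC (Matrix.single j (⟨0, hk⟩ : Fin k) (1 : F) +
        Matrix.single (⟨0, hk⟩ : Fin k) j (1 : F)) j ?_ ?_
      · rw [tadj_add, htsingle, htsingle,
          add_comm (Matrix.single (⟨0, hk⟩ : Fin k) j (1 : F)) (Matrix.single j ⟨0, hk⟩ 1)]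
        exact hadd _
      · intro i
        rw [Matrix.add_apply, Matrix.single_apply, Matrix.single_apply]
        have h2 : ¬ ((⟨0, hk⟩ : Fin k) = i ∧ j = ⟨0, hk⟩) := fun h => hj h.2
        rw [if_neg h2, add_zero]
        by_cases hi : i = j
        · rw [if_pos hi, if_pos ⟨hi.symm, rfl⟩]
        · rw [if_neg hi, if_neg (fun h => hi h.1.symm)]
  -- the middle vector
  have hm : ∀ x : Fin 1,
      (z : Matrix ((Fin k ⊕ Fin k) ⊕ Fin 1) ((Fin k ⊕ Fin k) ⊕ Fin 1) F) *ᵥ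
        Pi.single (Sum.inr x) 1 = Pi.single (Sum.inr x) 1 := by
    intro x
    obtain ⟨R, hR⟩ : ∃ R : Matrix (Fin 1) (Fin k) F,
        R = Matrix.single (0 : Fin 1) (⟨0, hk⟩ : Fin k) (1 : F) := ⟨_, rfl⟩
    obtain ⟨C, hC⟩ : ∃ C : Matrix (Fin k) (Fin k) F,
        C = a • Matrix.single (⟨0, hk⟩ : Fin k) (⟨0, hk⟩ : Fin k) (1 : F) := ⟨_, rfl⟩
    have hs : suC τ R C := by
      unfold suC
      ext u v
      rw [hR, hC]
      simp only [tadj, Matrix.add_apply, Matrix.transpose_apply, Matrix.map_apply,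
        Matrix.smul_apply, Matrix.single_apply, Matrix.mul_apply, Fin.sum_univ_one, smul_eq_mul]
      by_cases h1 : (⟨0, hk⟩ : Fin k) = u
      · subst h1
        by_cases h2 : (⟨0, hk⟩ : Fin k) = v
        · subst h2
          simp only [and_self, if_true, mul_one, map_one, map_mul]
          rw [hτa, add_comm]
          exact ha
        · have h2' : ¬ v = (⟨0, hk⟩ : Fin k) := fun h => h2 h.symm
          simp [h2, h2']
      · simp [h1]
    have h1 := hfixRC R C hs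
    have e1 : (Sum.elim (Sum.elim (Pi.single (⟨0, hk⟩ : Fin k) (1 : F))
        (fun i => C i ⟨0, hk⟩)) (fun y => R y ⟨0, hk⟩) : (Fin k ⊕ Fin k) ⊕ Fin 1 → F) =
        (sqduo8_b hk + a • Pi.single (Sum.inl (Sum.inr (⟨0, hk⟩ : Fin k))) 1) +
          Pi.single (Sum.inr x) 1 := by
      unfold sqduo8_b
      rw [hR, hC]
      ext ((i | i) | i)
      · simp [Pi.single_apply]
      · by_cases hi : i = ⟨0, hk⟩
        · subst hi
          simp [Pi.single_apply, Matrix.single_apply]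
        · have hi' : ¬ (⟨0, hk⟩ : Fin k) = i := fun h => hi h.symm
          simp [Pi.single_apply, Matrix.single_apply, hi, hi']
      · have hi : i = x := Subsingleton.elim _ _
        have hi0 : (0 : Fin 1) = i := Subsingleton.elim _ _
        simp [Pi.single_apply, Matrix.single_apply, hi, hi0]
    rw [e1] at h1
    refine sqduo8_cancel _ _ _ ?_ h1
    rw [Matrix.mulVec_add, Matrix.mulVec_smul, hzb, hf]
  -- conclusion
  apply Units.ext
  ext i j
  have hcol : (z : Matrix ((Fin k ⊕ Fin k) ⊕ Fin 1) ((Fin k ⊕ Fin k) ⊕ Fin 1) F) *ᵥ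
      Pi.single j 1 = Pi.single j 1 := by
    rcases j with (j | j) | j
    · exact he j
    · exact hf j
    · exact hm j
  have h1 := congrFun hcol i
  rw [Matrix.mulVec_single_one] at h1
  rw [Units.val_one, Matrix.one_apply]
  simp only [Matrix.col_apply] at h1
  rw [h1, Pi.single_apply]


end UO

end Cfsg.Agent.Lib.helper14.SQD
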