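import Mathlib
import Cfsg.Agent.Lib.Lead.STB.Defs
import Cfsg.Agent.Lib.Lead.STB.Defs3
import Cfsg.Agent.Lib.helper4.STBF18core
import Cfsg.Agent.Lib.Helper16.STBF10
import Cfsg.Agent.Lib.Helper16.STBF10s
import Cfsg.Agent.Lib.Helper25.STBF17
import Cfsg.Agent.Lib.helper15.STBF17s
import Cfsg.Agent.Lib.Helper5.STBF17N

/-!
# Project STB (designer lead; S2094 family), rows F18 (`SysB.InD_one`, `InD_mul`, `InD_mul_s`) and F18b (`SysB.InD_all`), VERBATIM (helper4).
Wrappers of the cores of `helper4.STBF18core` on F10 / F10s (`Helper16`), F17 (`Helper25`), F17s (`helper15`), F17N (`Helper5`).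
-/

set_option autoImplicit false

namespace Cfsg.Agent.Lib.Lead.STB

open Cfsg.Agent.Lib.helper15.St2 Cfsg.Agent.Lib.helper3.STC Cfsg.Agent.Lib.Lead.STD

universe v w

namespace SysB

variable {K : Type*} [Field K] {ι : Type*} [DecidableEq ι] {G : Type*} [Group G] (S : SysB K ι G)

section F
variable (o : ι ⊕ ι)

omit [DecidableEq ι] in
/-- F18 [S]  model STD F18 (`Helper28.STDF18`). -/
theorem InD_one : S.InD o 1 :=
  S.stbf18_one o

theorem InD_mul [Finite K] (a b : ι ⊕ ι) (t : K) {g : G} (hg : S.InD o g) : S.InD o (S.x a b t * g) :=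
  S.stbf18_mul o (fun a b t _ _ hy hp => S.lemA_all o a b t hy hp)
    (fun hk hk' a b t _ _ hy hp => S.lemB o hk hk' a b t hy hp)
    (fun a b t _ _ hy hp => S.lemBN o a b t hy hp) a b t hg

theorem InD_mul_s [Finite K] [Finite ι] (a : ι ⊕ ι) (t : K) {g : G} (hg : S.InD o g) : S.InD o (S.xs a t * g) :=
  S.stbf18_mul_s o (fun a t _ _ hy hp => S.lemA_all_s o a t hy hp)
    (fun hk hk' a t _ _ hy hp => S.lemB_s o hk hk' a t hy hp)
    (fun a t _ _ hy hp => S.lemBN_s o a t hy hp) a t hg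

/-- F18b [S-M]  (`Subgroup.closure_induction` on `g ∈ ⊤ = XQ ⊤ ⊤`; the inverse of a generator is a generator: `XQ_gens_inv`.) -/
theorem InD_all [Finite K] [Finite ι] (hgen : S.XQ (fun _ _ => True) (fun _ => True) = ⊤) (g : G) : S.InD o g :=
  S.stbf18_all o (fun a b t _ hg => S.InD_mul o a b t hg)
    (fun a t _ hg => S.InD_mul_s o a t hg) hgen g

end F

end SysB

end Cfsg.Agent.Lib.Lead.STB
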