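import Mathlib
import Cfsg.Agent.Lib.helper15.St2
import Cfsg.Agent.Lib.helper7.StA
import Cfsg.Agent.Lib.helper7.StC
import Cfsg.Agent.Lib.helper7.StE
import Cfsg.Agent.Lib.helper3.STC.Defs
import Cfsg.Agent.Lib.helper3.STC.Defs2
import Cfsg.Agent.Lib.helper3.STC.Defs3
import Cfsg.Agent.Lib.Helper21.STCM.Vec
import Cfsg.Agent.Lib.Helper24.STCI1
import Cfsg.Agent.Lib.Helper18.STCR7

/-!
# Project STC (S2292, designer helper3), row J1 (`SysC.Rep.Yg_fix_phi_eq_one`) (helper4), VERBATIM.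

On the landed R7 (`Helper18.STCR7`: `Yg_col`) and an own-name copy `stcj1_Yshape` of the R2 statement
(`eq_one_of_Yshape`), proved here from helper21's `Mat.sp_form`, `Mat.sp_eq_one_of_cols`, `Mat.J_apply`.
-/

set_option autoImplicit false

namespace Cfsg.Agent.Lib.helper3.STC

open Cfsg.Agent.Lib.helper15.St2 Cfsg.Agent.Lib.helper7.St Matrix

universe v w

section R0
variable {ι l : Type*} {K : Type*} [Field K]

/-- the value of the symplectic form on two basis vectors -/
theorem stcj1_form_ev [Fintype l] [DecidableEq l] (a b : l ⊕ l) :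
    (ev a : l ⊕ l → K) ⬝ᵥ (Matrix.J l K *ᵥ ev b) = Matrix.J l K a b := by
  unfold ev
  rw [Matrix.mulVec_single_one, single_one_dotProduct]
  rfl

/-- own-name copy of the R2 statement `eq_one_of_Yshape` -/
theorem stcj1_Yshape [Fintype l] [DecidableEq l] {M : Matrix.symplecticGroup l K} {o : l ⊕ l}
    (h0 : (M : Matrix (l ⊕ l) (l ⊕ l) K) *ᵥ ev o = ev o)
    (h : ∀ c, c ≠ o → ∃ r : K, (M : Matrix (l ⊕ l) (l ⊕ l) K) *ᵥ ev c = ev c + r • ev (ng o)) : M = 1 := by
  apply Mat.sp_eq_one_of_cols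
  intro b
  by_cases hb : b = o
  · subst hb
    exact h0
  · obtain ⟨r, hr⟩ := h b hb
    have key := Mat.sp_form M (ev o) (ev b)
    rw [h0, hr, Matrix.mulVec_add, Matrix.mulVec_smul, dotProduct_add, dotProduct_smul,
      stcj1_form_ev, stcj1_form_ev, Mat.J_apply o (ng o), if_pos rfl] at key
    have h2 : r • (-(sg o : K)) = 0 := by
      have := key
      rwa [add_eq_left] at this
    have hr0 : r = 0 := by
      rcases smul_eq_zero.1 h2 with h3 | h3
      · exact h3
      · exact absurd (neg_eq_zero.1 h3) (sg_ne_zero o)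
    have := hr
    rw [hr0, zero_smul, add_zero] at this
    exact this

end R0

namespace SysC

namespace Rep

variable {K : Type*} [Field K] {ι : Type*} {G : Type*} [Group G] {S : SysC K ι G}
  {l : Type*} [Fintype l] [DecidableEq l] (R : S.Rep l)

variable (o : ι ⊕ ι)

/-- J1 [S]  `Yg_col`, `eq_one_of_Yshape` (`Em_ng`). -/
theorem Yg_fix_phi_eq_one {y : G} (hy : y ∈ S.Yg o) (h : R.M y *ᵥ ev (Em R.e o) = ev (Em R.e o)) : R.φ y = 1 := by
  apply stcj1_Yshape (o := Em R.e o) h
  intro c hc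
  obtain ⟨r, hr⟩ := Yg_col R o y hy c hc
  refine ⟨r, ?_⟩
  rw [← stcr7_Em_ng]
  exact hr

end Rep

end SysC

end Cfsg.Agent.Lib.helper3.STC
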