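import Mathlib
import Cfsg.Agent.Lib.helper15.St2
import Cfsg.Agent.Lib.helper7.StA
import Cfsg.Agent.Lib.helper7.StC
import Cfsg.Agent.Lib.helper7.StE
import Cfsg.Agent.Lib.Helper24.STCI1
import Cfsg.Agent.Lib.helper23.STCX2
import Cfsg.Agent.Lib.Helper27.STU.Defs
import Cfsg.Agent.Lib.Helper27.STU.Defs2
import Cfsg.Agent.Lib.helper4.STUN6

/-!
# Project STU (S2291, designer helper27), row A1 (`ALT_mul_Ag`, `ALT_mul_Lg`, `ALT_mul_hs`) (helper4), VERBATIM.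

Self-contained on `STU.Defs`, `STU.Defs2`, helper7's rank one theory and `helper4.STUN6`: own-name copies
`stua1_hs_mul`, `stua1_hs_inv`, `stua1_hs_one` (H1 / B1), `stua1_cj_mem_XQ` (X1 `IsMon.cj_mem_XQ`), `stua1_cj_mem_Ag`, `stua1_cj_mem_Lg` (N3).
-/

set_option autoImplicit false

namespace Cfsg.Agent.Lib.Helper27.STU

open Cfsg.Agent.Lib.helper15.St2 Cfsg.Agent.Lib.helper7.St Cfsg.Agent.Lib.helper3.STC

namespace SysU

variable {F : Type*} [Field F] [StarRing F] {od : Prop} {ι : Type*} {G : Type*} [Group G] (S : SysU F od ι G)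

theorem stua1_st_h {a b : ι ⊕ ι} (hab : a ≠ b) (hab' : a ≠ ng b) (t : F) : (S.st a b hab hab').h t = S.hs a b t := rfl

/-- own-name copy of H1 `hs_mul` -/
theorem stua1_hs_mul [Finite F] {a b : ι ⊕ ι} (hab : a ≠ b) (hab' : a ≠ ng b) (t u : F) (ht : t ≠ 0) (hu : u ≠ 0) :
    S.hs a b t * S.hs a b u = S.hs a b (t * u) :=
  h_mul' (S.st a b hab hab') t u ht hu

/-- own-name copy of H1 `hs_inv` -/
theorem stua1_hs_inv [Finite F] {a b : ι ⊕ ι} (hab : a ≠ b) (hab' : a ≠ ng b) (t : F) (ht : t ≠ 0) :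
    (S.hs a b t)⁻¹ = S.hs a b t⁻¹ :=
  h_inv' (S.st a b hab hab') t ht

/-- own-name copy of B1 `hs_one` -/
theorem stua1_hs_one {a b : ι ⊕ ι} (hab : a ≠ b) (hab' : a ≠ ng b) : S.hs a b 1 = 1 :=
  (S.st a b hab hab').h_one

/-- own-name copy of X1 `IsMon.cj_mem_XQ` -/
theorem stua1_cj_mem_XQ {g : G} {π : Equiv.Perm (ι ⊕ ι)} {d : ι ⊕ ι → F} {d0 : F} (hg : S.IsMon g π d d0)
    {Q Q' : ι ⊕ ι → ι ⊕ ι → Prop} (hQ : ∀ k l, k ≠ l → Q k l → Q' (π k) (π l)) :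
    ∀ z ∈ S.XQ Q, cj g z ∈ S.XQ Q' := by
  intro z hz
  unfold XQ at hz
  induction hz using Subgroup.closure_induction with
  | mem x hx =>
    rcases hx with ⟨a, b, t, hab, hab', hq, rfl⟩ | ⟨a, ξ, hq, rfl⟩
    · rw [hg.2.1 a b hab hab' t]
      refine S.stun6_xs_mem_XQ (fun h => hab (π.injective h)) ?_ (hQ a b hab hq) _
      intro h
      rw [← hg.1.pi_ng] at h
      exact hab' (π.injective h)
    · rw [hg.2.2 a ξ]
      refine S.stun6_xl_mem_XQ ?_ _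
      rw [← hg.1.pi_ng]
      exact hQ a (ng a) (ne_ng a) hq
  | one => rw [cj_one]; exact one_mem _
  | mul x y _ _ hx hy => rw [cj_mul]; exact mul_mem hx hy
  | inv x _ hx => rw [cj_inv]; exact inv_mem hx

section A
variable [DecidableEq ι] (o : ι ⊕ ι)

omit [DecidableEq ι] in
/-- own-name copy of N3 `IsMon.cj_mem_Ag` -/
theorem stua1_cj_mem_Ag {g : G} {π : Equiv.Perm (ι ⊕ ι)} {d : ι ⊕ ι → F} {d0 : F} (hg : S.IsMon g π d d0)
    (hπ : π o = o) : ∀ y ∈ S.Ag o, cj g y ∈ S.Ag o :=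
  S.stua1_cj_mem_XQ hg (fun k _ _ hk => by rw [hk]; exact hπ)

omit [DecidableEq ι] in
/-- own-name copy of N3 `IsMon.cj_mem_Lg` -/
theorem stua1_cj_mem_Lg {g : G} {π : Equiv.Perm (ι ⊕ ι)} {d : ι ⊕ ι → F} {d0 : F} (hg : S.IsMon g π d d0)
    (hπ : π o = o) : ∀ y ∈ S.Lg o, cj g y ∈ S.Lg o := by
  have hπ' : π (ng o) = ng o := by rw [hg.1.pi_ng, hπ]
  refine S.stua1_cj_mem_XQ hg ?_
  rintro k l - ⟨⟨h1, h2⟩, h3, h4⟩
  refine ⟨⟨fun h => h1 (π.injective (h.trans hπ.symm)), fun h => h2 (π.injective (h.trans hπ'.symm))⟩,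
    fun h => h3 (π.injective (h.trans hπ.symm)), fun h => h4 (π.injective (h.trans hπ'.symm))⟩

/-- A1 [S]  model `SysC.ALT_mul_Ag`, `ALT_mul_Lg`, `ALT_mul_h`. -/
theorem ALT_mul_Ag {b : ι ⊕ ι} {s g : G} (hs : s ∈ S.Ag o) (hg : g ∈ S.ALT o b) : s * g ∈ S.ALT o b := by
  obtain ⟨a, ha, l, hl, c, hc, rfl⟩ := hg
  exact ⟨s * a, mul_mem hs ha, l, hl, c, hc, by group⟩

theorem ALT_mul_Lg {b : ι ⊕ ι} {s g : G} (hs : s ∈ S.Lg o) (hsA : ∀ a ∈ S.Ag o, cj s a ∈ S.Ag o) (hg : g ∈ S.ALT o b) :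
    s * g ∈ S.ALT o b := by
  obtain ⟨a, ha, l, hl, c, hc, rfl⟩ := hg
  exact ⟨cj s a, hsA a ha, s * l, mul_mem hs hl, c, hc, by unfold cj; group⟩

theorem ALT_mul_hs [Finite F] (hH : S.HH) {b : ι ⊕ ι} (hb : b ≠ o) (hb' : b ≠ ng o) {t : F} (ht : t ≠ 0) {g : G} (hg : g ∈ S.ALT o b) :
    S.hs o b t * g ∈ S.ALT o b := by
  obtain ⟨a, ha, l, hl, c, hc, rfl⟩ := hg
  have hob : o ≠ b := Ne.symm hb
  have hob' : o ≠ ng b := fun h => hb' (by rw [h, ng_ng])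
  have hm := hH.1 o b hob hob' t ht
  refine ⟨cj (S.hs o b t) a, S.stua1_cj_mem_Ag o hm rfl a ha, cj (S.hs o b t) l,
    S.stua1_cj_mem_Lg o hm rfl l hl, t * c, mul_ne_zero ht hc, ?_⟩
  rw [← S.stua1_hs_mul hob hob' t c ht hc]
  unfold cj; group

end A

end SysU

end Cfsg.Agent.Lib.Helper27.STU
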