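import Mathlib
import Cfsg.Agent.Lib.helper15.St2
import Cfsg.Agent.Lib.helper7.StA
import Cfsg.Agent.Lib.helper7.StC
import Cfsg.Agent.Lib.helper7.StE
import Cfsg.Agent.Lib.Helper24.STCI1
import Cfsg.Agent.Lib.helper23.STCX2
import Cfsg.Agent.Lib.Helper27.STU.Defs
import Cfsg.Agent.Lib.Helper27.STU.Defs2
import Cfsg.Agent.Lib.Helper12.STUN2
import Cfsg.Agent.Lib.Helper24.STUH6
import Cfsg.Agent.Lib.Helper24.STUM3
import Cfsg.Agent.Lib.helper4.STUA2core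

/-!
# Project STU (S2291, designer helper27), row A2 (`SysU.Phat_decomp`) (helper4), VERBATIM.

Wrapper of the core `stua2_core` (`helper4/STUA2core.lean`) on the landed rows N2 `xs_cj_mem_Ag` `xl_cj_mem_Ag` (`Helper12.STUN2`), H5 `hl_chain` (`Helper24.STUM3`), H6 `hs_chain`, H7 `hs_ng` (`Helper24.STUH6`).
-/

set_option autoImplicit false

namespace Cfsg.Agent.Lib.Helper27.STU

open Cfsg.Agent.Lib.helper15.St2 Cfsg.Agent.Lib.helper7.St Cfsg.Agent.Lib.helper3.STC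

namespace SysU

variable {F : Type*} [Field F] [StarRing F] {od : Prop} {ι : Type*} {G : Type*} [Group G] (S : SysU F od ι G)

section A
variable [DecidableEq ι] (o : ι ⊕ ι)

/-- A2 [M]  model `SysC.Phat_decomp` (`STCA2`). -/
theorem Phat_decomp [Finite F] (hF : Hyp F) (hW : S.HW) (hH : S.HH) {b : ι ⊕ ι} (hb : b ≠ o) (hb' : b ≠ ng o) :
    ∀ p ∈ S.Phat o, p ∈ S.ALT o b := by
  have hob : o ≠ b := Ne.symm hb
  have hob' : o ≠ ng b := fun h => hb' (by rw [h, ng_ng])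
  exact S.stua2_core o hF hH hb hb'
    (fun _ _ h1 h2 h3 h4 h5 h6 t => S.xs_cj_mem_Ag o h1 h2 h3 h4 h5 h6 t)
    (fun _ h1 h2 η => S.xl_cj_mem_Ag o h1 h2 η)
    (fun _ _ hξ hη => S.hl_chain hW hH hob hob' hξ hη)
    (fun _ h1 h2 h3 h4 t ht => S.hs_chain hW hH hob hob' h1 h2 h3 h4 t ht)
    (fun t ht _ hζ => S.hs_ng hW hH hob hob' t ht hζ)

end A

end SysU

end Cfsg.Agent.Lib.Helper27.STU

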