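import Mathlib
import Cfsg.Agent.Lib.helper15.St2
import Cfsg.Agent.Lib.helper7.StA
import Cfsg.Agent.Lib.helper7.StC
import Cfsg.Agent.Lib.helper7.StE
import Cfsg.Agent.Lib.Helper24.STCI1
import Cfsg.Agent.Lib.helper23.STCX2
import Cfsg.Agent.Lib.Helper27.STU.Defs
import Cfsg.Agent.Lib.Helper27.STU.Defs2
import Cfsg.Agent.Lib.helper4.STUN6
import Cfsg.Agent.Lib.helper4.STUA1

/-!
# Project STU (S2291, designer helper27), row A2 (`Phat_decomp`) (helper4), CORE.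

`stua2_core`: the Skel3 statement of `Phat_decomp` with the statements of N2 (`xs_cj_mem_Ag`, `xl_cj_mem_Ag`), H5 (`hl_chain`), H6 (`hs_chain`), H7 (`hs_ng`)
(instantiated at the indices `o`, `b`) as hypotheses.  Everything else (X1, N1, N3, H1, H3, B1, LA5 facts) through own-name copies (`stun6_*`, `stua1_*`, `stua2_*`).
-/

set_option autoImplicit false

namespace Cfsg.Agent.Lib.Helper27.STU

open Cfsg.Agent.Lib.helper15.St2 Cfsg.Agent.Lib.helper7.St Cfsg.Agent.Lib.helper3.STC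

/-- own-name copy of LA5 `Lam.exists_c_ne` -/
theorem stua2_exists_c_ne {F : Type*} [Field F] [StarRing F] {od : Prop} (hF : Hyp F) : ∃ ξ : Lam F od, ξ.c ≠ 0 := by
  obtain ⟨c, hc, hs⟩ := hF.ex_skew
  exact ⟨⟨0, c, by rw [hs]; simp, fun _ => rfl⟩, hc⟩

namespace SysU

variable {F : Type*} [Field F] [StarRing F] {od : Prop} {ι : Type*} {G : Type*} [Group G] (S : SysU F od ι G)

/-- own-name copy of H3 `hl_inv` -/
theorem stua2_hl_inv (a : ι ⊕ ι) (ξ η : Lam F od) : (S.hl a ξ η)⁻¹ = S.hl a η ξ := by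
  unfold hl
  group

section A
variable (o : ι ⊕ ι)

theorem stua2_xl_mem_Lg {a : ι ⊕ ι} (ha : a ≠ o) (ha' : a ≠ ng o) (ξ : Lam F od) : S.xl a ξ ∈ S.Lg o :=
  S.stun6_xl_mem_XQ ⟨⟨ha, ha'⟩, fun h => ha' (ng_eq_iff.1 h), fun h => ha (ng_inj.1 h)⟩ ξ

theorem stua2_wl_mem_Lg {a : ι ⊕ ι} (ha : a ≠ o) (ha' : a ≠ ng o) (ξ : Lam F od) : S.wl a ξ ∈ S.Lg o := by
  have hna : ng a ≠ o := fun h => ha' (ng_eq_iff.1 h)
  have hna' : ng a ≠ ng o := fun h => ha (ng_inj.1 h)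
  unfold wl
  exact mul_mem (mul_mem (S.stua2_xl_mem_Lg o ha ha' _) (S.stua2_xl_mem_Lg o hna hna' _)) (S.stua2_xl_mem_Lg o ha ha' _)

theorem stua2_hl_mem_Lg {a : ι ⊕ ι} (ha : a ≠ o) (ha' : a ≠ ng o) (ξ η : Lam F od) : S.hl a ξ η ∈ S.Lg o := by
  unfold hl
  exact mul_mem (S.stua2_wl_mem_Lg o ha ha' ξ) (inv_mem (S.stua2_wl_mem_Lg o ha ha' η))

theorem stua2_xs_mem_Lg {a b : ι ⊕ ι} (hab : a ≠ b) (hab' : a ≠ ng b) (ha : a ≠ o) (ha' : a ≠ ng o) (hb : b ≠ o) (hb' : b ≠ ng o) (t : F) :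
    S.xs a b t ∈ S.Lg o :=
  S.stun6_xs_mem_XQ hab hab' ⟨⟨ha, ha'⟩, hb, hb'⟩ t

theorem stua2_ws_mem_Lg {a b : ι ⊕ ι} (hab : a ≠ b) (hab' : a ≠ ng b) (ha : a ≠ o) (ha' : a ≠ ng o) (hb : b ≠ o) (hb' : b ≠ ng o) (t : F) :
    S.ws a b t ∈ S.Lg o := by
  have hba' : b ≠ ng a := fun h => hab' (by rw [h, ng_ng])
  unfold ws
  exact mul_mem (mul_mem (S.stua2_xs_mem_Lg o hab hab' ha ha' hb hb' _) (S.stua2_xs_mem_Lg o hab.symm hba' hb hb' ha ha' _))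
    (S.stua2_xs_mem_Lg o hab hab' ha ha' hb hb' _)

theorem stua2_hs_mem_Lg {a b : ι ⊕ ι} (hab : a ≠ b) (hab' : a ≠ ng b) (ha : a ≠ o) (ha' : a ≠ ng o) (hb : b ≠ o) (hb' : b ≠ ng o) (t : F) :
    S.hs a b t ∈ S.Lg o := by
  unfold hs
  exact mul_mem (S.stua2_ws_mem_Lg o hab hab' ha ha' hb hb' _) (S.stua2_ws_mem_Lg o hab hab' ha ha' hb hb' _)

variable [DecidableEq ι]

/-- A2 core -/
theorem stua2_core [Finite F] (hF : Hyp F) (hH : S.HH) {b : ι ⊕ ι} (hb : b ≠ o) (hb' : b ≠ ng o)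
    (hN2s : ∀ a c : ι ⊕ ι, a ≠ c → a ≠ ng c → a ≠ o → a ≠ ng o → c ≠ o → c ≠ ng o → ∀ t : F,
      ∀ y ∈ S.Ag o, cj (S.xs a c t) y ∈ S.Ag o)
    (hN2l : ∀ a : ι ⊕ ι, a ≠ o → a ≠ ng o → ∀ η : Lam F od, ∀ y ∈ S.Ag o, cj (S.xl a η) y ∈ S.Ag o)
    (hH5 : ∀ ξ η : Lam F od, ξ.c ≠ 0 → η.c ≠ 0 → S.hs o b (ξ.c / η.c) = S.hl o ξ η * S.hl b η ξ)
    (hH6 : ∀ c : ι ⊕ ι, b ≠ c → b ≠ ng c → o ≠ c → o ≠ ng c → ∀ t : F, t ≠ 0 → S.hs o c t = S.hs o b t * S.hs b c t)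
    (hH7 : ∀ t : F, t ≠ 0 → ∀ ζ : Lam F od, ζ.c ≠ 0 → S.hs o (ng b) t = S.hs o b t * S.hl b (Lam.act t ζ) ζ) :
    ∀ p ∈ S.Phat o, p ∈ S.ALT o b := by
  intro p hp
  have hob : o ≠ b := Ne.symm hb
  have hob' : o ≠ ng b := fun h => hb' (by rw [h, ng_ng])
  have hP : S.Phat o = Subgroup.closure
      (({g | ∃ a c t, a ≠ c ∧ a ≠ ng c ∧ (c ≠ o ∧ a ≠ ng o) ∧ g = S.xs a c t} ∪
          {g | ∃ a ξ, (ng a ≠ o ∧ a ≠ ng o) ∧ g = S.xl a ξ}) ∪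
        ({g | ∃ c t, c ≠ o ∧ c ≠ ng o ∧ t ≠ 0 ∧ g = S.hs o c t} ∪
          {g | ∃ ξ η : Lam F od, ξ.c ≠ 0 ∧ η.c ≠ 0 ∧ g = S.hl o ξ η})) := by
    rw [Subgroup.closure_union]
    rfl
  rw [hP] at hp
  revert p
  refine closure_left_induction' (p := fun p => p ∈ S.ALT o b) ?_ ?_ ?_
  · rintro s (hs | ⟨c, t, hc, hc', ht, rfl⟩ | ⟨ξ, η, hξ, hη, rfl⟩)
    · exact Or.inl (S.stun6_XQ_gens_inv _ s hs)
    · have hoc : o ≠ c := Ne.symm hc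
      have hoc' : o ≠ ng c := fun h => hc' (by rw [h, ng_ng])
      exact Or.inr (Or.inl ⟨c, t⁻¹, hc, hc', inv_ne_zero ht, S.stua1_hs_inv hoc hoc' t ht⟩)
    · exact Or.inr (Or.inr ⟨η, ξ, hη, hξ, S.stua2_hl_inv o ξ η⟩)
  · exact ⟨1, one_mem _, 1, one_mem _, 1, one_ne_zero, by rw [S.stua1_hs_one hob hob']; group⟩
  · rintro s ((⟨a, c, t, hac, hac', ⟨hc, ha'⟩, rfl⟩ | ⟨a, ξ, ⟨hna, ha'⟩, rfl⟩) |
      (⟨c, t, hc, hc', ht, rfl⟩ | ⟨ξ, η, hξ, hη, rfl⟩)) g hg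
    · by_cases ha : a = o
      · subst ha
        exact S.ALT_mul_Ag a (S.stun6_xs_mem_XQ hac hac' rfl t) hg
      by_cases hc' : c = ng o
      · subst hc'
        have hmem : S.xs a (ng o) t ∈ S.Ag o := by
          rw [S.sym a (ng o) hac hac' t, ng_ng]
          have h1 : o ≠ ng a := fun h => ha' (by rw [h, ng_ng])
          have h2 : o ≠ ng (ng a) := by
            rw [ng_ng]
            exact Ne.symm ha
          exact S.stun6_xs_mem_XQ h1 h2 rfl _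
        exact S.ALT_mul_Ag o hmem hg
      · exact S.ALT_mul_Lg o (S.stua2_xs_mem_Lg o hac hac' ha ha' hc hc' t) (hN2s a c hac hac' ha ha' hc hc' t) hg
    · by_cases ha : a = o
      · subst ha
        exact S.ALT_mul_Ag a (S.stun6_xl_mem_XQ rfl ξ) hg
      · exact S.ALT_mul_Lg o (S.stua2_xl_mem_Lg o ha ha' ξ) (hN2l a ha ha' ξ) hg
    · have hoc : o ≠ c := Ne.symm hc
      have hoc' : o ≠ ng c := fun h => hc' (by rw [h, ng_ng])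
      by_cases hcb : c = b
      · subst hcb
        exact S.ALT_mul_hs o hH hb hb' ht hg
      by_cases hcb' : c = ng b
      · subst hcb'
        obtain ⟨ζ, hζ⟩ := stua2_exists_c_ne (od := od) hF
        have hst : star t ≠ 0 := fun h => ht (by simpa using congrArg star h)
        have hact : (Lam.act t ζ).c ≠ 0 := by
          rw [Lam.act_c]
          exact mul_ne_zero (mul_ne_zero ht hst) hζ
        rw [hH7 t ht ζ hζ, mul_assoc]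
        apply S.ALT_mul_hs o hH hb hb' ht
        exact S.ALT_mul_Lg o (S.stua2_hl_mem_Lg o hb hb' _ _)
          (S.stua1_cj_mem_Ag o (hH.2 b (Lam.act t ζ) ζ hact hζ) rfl) hg
      · have hbc : b ≠ c := Ne.symm hcb
        have hbc' : b ≠ ng c := fun h => hcb' (by rw [h, ng_ng])
        rw [hH6 c hbc hbc' hoc hoc' t ht, mul_assoc]
        apply S.ALT_mul_hs o hH hb hb' ht
        exact S.ALT_mul_Lg o (S.stua2_hs_mem_Lg o hbc hbc' hb hb' hc hc' t)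
          (S.stua1_cj_mem_Ag o (hH.1 b c hbc hbc' t ht) rfl) hg
    · have hr : ξ.c / η.c ≠ 0 := div_ne_zero hξ hη
      have e : S.hl o ξ η = S.hs o b (ξ.c / η.c) * S.hl b ξ η := by
        rw [hH5 ξ η hξ hη, ← S.stua2_hl_inv b ξ η, inv_mul_cancel_right]
      rw [e, mul_assoc]
      apply S.ALT_mul_hs o hH hb hb' hr
      exact S.ALT_mul_Lg o (S.stua2_hl_mem_Lg o hb hb' _ _)
        (S.stua1_cj_mem_Ag o (hH.2 b ξ η hξ hη) rfl) hg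

end A

end SysU

end Cfsg.Agent.Lib.Helper27.STU
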