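import Mathlib
import Cfsg.Agent.Lib.helper15.St2
import Cfsg.Agent.Lib.helper7.StA
import Cfsg.Agent.Lib.helper7.StC
import Cfsg.Agent.Lib.helper7.StE
import Cfsg.Agent.Lib.Helper24.STCI1
import Cfsg.Agent.Lib.helper23.STCX2
import Cfsg.Agent.Lib.Helper27.STU.Defs
import Cfsg.Agent.Lib.Helper27.STU.Defs2
import Cfsg.Agent.Lib.helper4.STUN6

/-!
# Project STU (S2291, designer helper27), row N7 (`Yg_decomp2`, `Yjj_le_Lg`, `Yjj_le_Yg`) (helper4), VERBATIM.

Self-contained on the `SysU` axioms, block I of STC and the extras `stun6_*` of `helper4.STUN6`.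
-/

set_option autoImplicit false

namespace Cfsg.Agent.Lib.Helper27.STU

open Cfsg.Agent.Lib.helper15.St2 Cfsg.Agent.Lib.helper7.St Cfsg.Agent.Lib.helper3.STC

namespace SysU

variable {F : Type*} [Field F] [StarRing F] {od : Prop} {ι : Type*} {G : Type*} [Group G] (S : SysU F od ι G)

section N
variable (o : ι ⊕ ι)

/-- N7 [M]  decomposition of `Yg o` along the two root subgroups of a third index `o'` (model `Helper22.STCN7`). -/
theorem Yg_decomp2 {o' : ι ⊕ ι} (ho' : o' ≠ o) (ho'' : o' ≠ ng o) :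
    ∀ y ∈ S.Yg o, ∃ u u' : F, ∃ y'' ∈ S.Yjj o o', y = S.xs o' o u * S.xs (ng o') o u' * y'' := by
  have hoo : ng o ≠ o := ng_ne o
  have hno' : ng o' ≠ o := fun h => ho'' (ng_eq_iff.1 h)
  have hno'' : ng o' ≠ ng o := fun h => ho' (ng_inj.1 h)
  have hnoo' : ng o ≠ o' := fun h => ho'' h.symm
  have hnono' : ng o ≠ ng o' := fun h => ho' (ng_inj.1 h).symm
  -- the long root subgroup `xl (ng o)` commutes with the two short root subgroups
  have hl1 : ∀ (ξ : Lam F od) (u : F), S.xl (ng o) ξ * S.xs o' o u = S.xs o' o u * S.xl (ng o) ξ :=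
    S.comm_ls (ng o) o' o ho' ho'' (by rw [ng_ng]; exact ho') (ne_ng o)
  have hl2 : ∀ (ξ : Lam F od) (u : F), S.xl (ng o) ξ * S.xs (ng o') o u = S.xs (ng o') o u * S.xl (ng o) ξ :=
    S.comm_ls (ng o) (ng o') o hno' hno'' (by rw [ng_ng]; exact hno') (ne_ng o)
  have hlmem : ∀ ξ : Lam F od, S.xl (ng o) ξ ∈ S.Yjj o o' := fun ξ =>
    S.stun6_xl_mem_XQ ⟨ng_ng o, hnoo', hnono'⟩ ξ
  refine closure_left_induction'
    (p := fun y => ∃ u u' : F, ∃ y'' ∈ S.Yjj o o', y = S.xs o' o u * S.xs (ng o') o u' * y'')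
    (S.stun6_XQ_gens_inv _) ?_ ?_
  · exact ⟨0, 0, 1, one_mem _, by rw [S.stun6_xs_zero ho' ho'', S.stun6_xs_zero hno' hno'', one_mul, one_mul]⟩
  · rintro _ (⟨a, b, t, hab, hab', rfl, rfl⟩ | ⟨a, ξ, hQ, rfl⟩) g ⟨u, u', y'', hy'', rfl⟩
    · by_cases ha1 : a = o'
      · subst ha1
        exact ⟨t + u, u', y'', hy'', by rw [← mul_assoc, ← mul_assoc, S.adds a b hab hab']⟩
      by_cases ha2 : a = ng o'
      · subst ha2
        set t' : F := -(star t) with ht'
        have hsym : S.xs (ng o') b t = S.xs (ng b) o' t' := by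
          rw [S.sym (ng o') b hab hab' t, ng_ng]
        have hssl := S.ssl (ng b) o' hnoo' hnono' t' u
        rw [ng_ng] at hssl
        have hAB : S.xs (ng b) o' t' * S.xs o' b u =
            S.xl (ng b) (Lam.tr (t' * u)) * S.xs o' b u * S.xs (ng b) o' t' := by
          rw [← hssl]; group
        refine ⟨u, t + u', S.xl (ng b) (Lam.tr (t' * u)) * y'', mul_mem (hlmem _) hy'', ?_⟩
        calc S.xs (ng o') b t * (S.xs o' b u * S.xs (ng o') b u' * y'')
            = (S.xs (ng o') b t * S.xs o' b u) * S.xs (ng o') b u' * y'' := by group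
          _ = (S.xl (ng b) (Lam.tr (t' * u)) * S.xs o' b u * S.xs (ng o') b t) * S.xs (ng o') b u' * y'' := by
              rw [hsym, hAB]
          _ = (S.xs o' b u * S.xl (ng b) (Lam.tr (t' * u)) * S.xs (ng o') b t) * S.xs (ng o') b u' * y'' := by
              rw [hl1]
          _ = S.xs o' b u * (S.xl (ng b) (Lam.tr (t' * u)) * (S.xs (ng o') b t * S.xs (ng o') b u')) * y'' := by
              group
          _ = S.xs o' b u * (S.xl (ng b) (Lam.tr (t' * u)) * S.xs (ng o') b (t + u')) * y'' := by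
              rw [S.adds (ng o') b hab hab']
          _ = S.xs o' b u * (S.xs (ng o') b (t + u') * S.xl (ng b) (Lam.tr (t' * u))) * y'' := by
              rw [hl2]
          _ = S.xs o' b u * S.xs (ng o') b (t + u') * (S.xl (ng b) (Lam.tr (t' * u)) * y'') := by
              group
      · have hc1 : S.xs a b t * S.xs o' b u = S.xs o' b u * S.xs a b t :=
          S.comm_ss a b o' b hab hab' ho' ho'' (Ne.symm ho') hab (ne_ng b) ha2 _ _
        have hc2 : S.xs a b t * S.xs (ng o') b u' = S.xs (ng o') b u' * S.xs a b t :=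
          S.comm_ss a b (ng o') b hab hab' hno' hno'' (Ne.symm hno') hab (ne_ng b)
            (by rw [ng_ng]; exact ha1) _ _
        refine ⟨u, u', S.xs a b t * y'', mul_mem (S.stun6_xs_mem_XQ hab hab' ⟨rfl, ha1, ha2⟩ t) hy'', ?_⟩
        calc S.xs a b t * (S.xs o' b u * S.xs (ng o') b u' * y'')
            = (S.xs a b t * S.xs o' b u) * S.xs (ng o') b u' * y'' := by group
          _ = S.xs o' b u * (S.xs a b t * S.xs (ng o') b u') * y'' := by rw [hc1]; group
          _ = S.xs o' b u * S.xs (ng o') b u' * (S.xs a b t * y'') := by rw [hc2]; group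
    · -- a long generator `xl a ξ` with `ng a = o`
      have ha : a = ng o := by rw [← hQ, ng_ng]
      subst ha
      refine ⟨u, u', S.xl (ng o) ξ * y'', mul_mem (hlmem ξ) hy'', ?_⟩
      calc S.xl (ng o) ξ * (S.xs o' o u * S.xs (ng o') o u' * y'')
          = (S.xl (ng o) ξ * S.xs o' o u) * S.xs (ng o') o u' * y'' := by group
        _ = S.xs o' o u * (S.xl (ng o) ξ * S.xs (ng o') o u') * y'' := by rw [hl1]; group
        _ = S.xs o' o u * S.xs (ng o') o u' * (S.xl (ng o) ξ * y'') := by rw [hl2]; group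

theorem Yjj_le_Lg {o' : ι ⊕ ι} (ho' : o' ≠ o) (ho'' : o' ≠ ng o) : S.Yjj o o' ≤ S.Lg o' := by
  apply S.stun6_XQ_mono
  rintro a b - ⟨rfl, ha1, ha2⟩
  refine ⟨⟨ha1, ha2⟩, Ne.symm ho', ?_⟩
  intro h
  exact ho'' (ng_eq_iff.1 h.symm)

theorem Yjj_le_Yg (o' : ι ⊕ ι) : S.Yjj o o' ≤ S.Yg o := by
  apply S.stun6_XQ_mono
  rintro a b - ⟨rfl, -⟩
  rfl

end N

end SysU

end Cfsg.Agent.Lib.Helper27.STU
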