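import Mathlib
import Cfsg.Prelude.Def_KGroupFacts
import Cfsg.Agent.Lib.Helper26.OutRigid

set_option autoImplicit false

/-!
# A criterion for the outer automorphism group to have order two

`c` of prime order `p` generates a Sylow subgroup and is self-centralising, `u` acts on `⟨c⟩` as the
`k`-th power map and some element inverts `c`, so that every automorphism can be changed by an inner
one to fix `c` and `u`.  A property `Pat`, preserved by the automorphisms fixing `c` and `u`, holds
for exactly two elements `t`, `t₂`; the elements `c`, `u`, `t` generate; an automorphism fixes `c`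
and `u` and sends `t` to `t₂`.
-/

namespace Cfsg.Agent.Lib.helper4

open Subgroup Cfsg.Agent.Lib.Helper26.OutRigid

/-- an element `x` with `x ^ p = 1` and `x ^ (k - 1) = 1`, where `k - 1` is invertible modulo `p`,
is trivial -/
theorem eq_one_of_pow_pow {G : Type*} [Group G] (p k j : ℕ) (x : G) (hp : 1 < p) (hxp : x ^ p = 1)
    (hxk : x ^ (k - 1) = 1) (hj : j * (k - 1) % p = 1) : x = 1 := by
  have h1 : x ^ (j * (k - 1)) = 1 := by
    rw [mul_comm, pow_mul, hxk, one_pow]
  have h2 : x ^ (j * (k - 1)) = x ^ (j * (k - 1) % p) := by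
    conv_lhs => rw [← Nat.div_add_mod (j * (k - 1)) p]
    rw [pow_add, pow_mul, hxp, one_pow, one_mul]
  rw [h2, hj, pow_one] at h1
  exact h1

/-- after an inner automorphism, an automorphism fixes `c` and `u` -/
theorem exists_inner_fix {G : Type*} [Group G] [Finite G] (p : ℕ) [hp : Fact p.Prime] (k j : ℕ)
    (c u w : G)
    (hfac : (Nat.card G).factorization p = 1) (hc : orderOf c = p)
    (hCc : ∀ h : G, h * c = c * h → h ^ p = 1)
    (hu : u * c * u⁻¹ = c ^ k) (hk1 : 1 ≤ k)
    (hk : ∀ j : ℕ, 0 < j → j < p → ∃ i : ℕ, k ^ i * j % p = 1 ∨ k ^ i * j % p = p - 1)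
    (hw : w * c * w⁻¹ = c⁻¹) (hj : j * (k - 1) % p = 1) (α : MulAut G) :
    ∃ g : G, (MulAut.conj g * α) c = c ∧ (MulAut.conj g * α) u = u := by
  classical
  have hcp : c ^ p = 1 := by rw [← hc, pow_orderOf_eq_one]
  -- first `c`
  have hex : ∃ g : G, g * α c * g⁻¹ = c := by
    obtain ⟨g, hg⟩ := exists_conj_eq_or_inv p k c u hfac hc hu hk α
    rcases hg with hg | hg
    · exact ⟨g, hg⟩
    · refine ⟨w * g, ?_⟩
      have e : w * g * α c * (w * g)⁻¹ = w * (g * α c * g⁻¹) * w⁻¹ := by group
      rw [e, hg]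
      have e2 : w * c⁻¹ * w⁻¹ = (w * c * w⁻¹)⁻¹ := by group
      rw [e2, hw, inv_inv]
  obtain ⟨g, hg⟩ := hex
  set β : MulAut G := MulAut.conj g * α with hβ
  have hβc : β c = c := by
    rw [hβ, MulAut.mul_apply, MulAut.conj_apply, hg]
  -- the image of `u` acts on `c` as `u` does
  have hv : β u * c * (β u)⁻¹ = c ^ k := by
    have h1 : β u * β c * (β u)⁻¹ = (β c) ^ k := by
      rw [← map_inv, ← map_mul, ← map_mul, hu, map_pow]
    rw [hβc] at h1
    exact h1
  set v := β u with hvdef
  have hwc : (v⁻¹ * u) * c = c * (v⁻¹ * u) := by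
    have h1 : v⁻¹ * c ^ k * v = c := by
      rw [← hv]
      group
    calc (v⁻¹ * u) * c = v⁻¹ * (u * c * u⁻¹) * u := by group
      _ = v⁻¹ * c ^ k * v * (v⁻¹ * u) := by rw [hu]; group
      _ = c * (v⁻¹ * u) := by rw [h1]
  have hwmem := mem_zpowers_of_centralizer p c hfac hc hCc _ hwc
  rw [mem_zpowers_iff_mem_range_orderOf, Finset.mem_image] at hwmem
  obtain ⟨m, -, hm⟩ := hwmem
  have huv : u = c ^ (k * m) * v := by
    have h1 : u = v * c ^ m := by rw [hm]; group
    have h2 : v * c ^ m * v⁻¹ = c ^ (k * m) := conj_pow_of_conj hv m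
    rw [h1, ← h2]
    group
  set a := k * m with ha
  set i := j * a with hi
  have hmod : (i + a) % p = (k * i) % p := by
    have h1 : k * i = i + (k - 1) * i := by
      have : k = 1 + (k - 1) := by omega
      calc k * i = (1 + (k - 1)) * i := by rw [← this]
        _ = i + (k - 1) * i := by ring
    have h2 : (k - 1) * i = (j * (k - 1)) * a := by rw [hi]; ring
    have hj' : j * (k - 1) ≡ 1 [MOD p] := by
      unfold Nat.ModEq
      rw [hj, Nat.mod_eq_of_lt hp.out.one_lt]
    have h3 : (j * (k - 1)) * a ≡ a [MOD p] := by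
      have := hj'.mul_right a
      rwa [one_mul] at this
    have h4 : i + a ≡ k * i [MOD p] := by
      rw [h1, h2]
      exact (Nat.ModEq.add_left i h3).symm
    exact h4
  have hpw : c ^ (i + a) = c ^ (k * i) := by
    rw [← hc] at hmod
    rw [← pow_mod_orderOf, hmod, pow_mod_orderOf]
  have hconj : (c ^ i)⁻¹ * v * c ^ i = u := by
    have h1 : v * c ^ i * v⁻¹ = c ^ (k * i) := conj_pow_of_conj hv i
    have h2 : v * c ^ i = c ^ (k * i) * v := by rw [← h1]; group
    calc (c ^ i)⁻¹ * v * c ^ i = (c ^ i)⁻¹ * (v * c ^ i) := by group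
      _ = (c ^ i)⁻¹ * (c ^ (i + a) * v) := by rw [h2, hpw]
      _ = c ^ a * v := by rw [pow_add]; group
      _ = u := huv.symm
  refine ⟨(c ^ i)⁻¹ * g, ?_, ?_⟩
  · have e : MulAut.conj ((c ^ i)⁻¹ * g) * α = MulAut.conj (c ^ i)⁻¹ * β := by
      rw [hβ, map_mul, mul_assoc]
    rw [e, MulAut.mul_apply, MulAut.conj_apply, inv_inv, hβc]
    have : c * c ^ i = c ^ i * c := by rw [← pow_succ', ← pow_succ]
    calc (c ^ i)⁻¹ * c * c ^ i = (c ^ i)⁻¹ * (c * c ^ i) := by group
      _ = c := by rw [this]; group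
  · have e : MulAut.conj ((c ^ i)⁻¹ * g) * α = MulAut.conj (c ^ i)⁻¹ * β := by
      rw [hβ, map_mul, mul_assoc]
    rw [e, MulAut.mul_apply, MulAut.conj_apply, inv_inv]
    exact hconj

/-- the criterion -/
theorem card_out_eq_two_of_rigid {G : Type*} [Group G] [Finite G] (p : ℕ) [hp : Fact p.Prime]
    (k j : ℕ) (c u t t₂ w : G) (σ : MulAut G)
    (hfac : (Nat.card G).factorization p = 1) (hc : orderOf c = p)
    (hCc : ∀ h : G, h * c = c * h → h ^ p = 1)
    (hu : u * c * u⁻¹ = c ^ k) (hk1 : 1 ≤ k)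
    (hk : ∀ j : ℕ, 0 < j → j < p → ∃ i : ℕ, k ^ i * j % p = 1 ∨ k ^ i * j % p = p - 1)
    (hw : w * c * w⁻¹ = c⁻¹) (hj : j * (k - 1) % p = 1)
    (Pat : G → Prop)
    (hPat : ∀ γ : MulAut G, γ c = c → γ u = u → ∀ x, Pat x → Pat (γ x))
    (hPt : Pat t) (hT : ∀ x, Pat x → x = t ∨ x = t₂)
    (hgen : closure {c, u, t} = ⊤)
    (hσc : σ c = c) (hσu : σ u = u) (hσt : σ t = t₂) (hne : t₂ ≠ t) :
    Nat.card (Cfsg.Out G) = 2 := by
  classical
  have hcp : c ^ p = 1 := by rw [← hc, pow_orderOf_eq_one]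
  have key : ∀ α : MulAut G, α ∈ Cfsg.Inn G ∨ ∃ ι ∈ Cfsg.Inn G, α = ι * σ := by
    intro α
    obtain ⟨g, hgc, hgu⟩ := exists_inner_fix p k j c u w hfac hc hCc hu hk1 hk hw hj α
    set γ : MulAut G := MulAut.conj g * α with hγ
    have hα : α = (MulAut.conj g)⁻¹ * γ := by rw [hγ]; group
    rcases hT (γ t) (hPat γ hgc hgu t hPt) with h | h
    · left
      have hγ1 : γ = 1 := by
        apply aut_eq_one_of_closure {c, u, t} hgen
        intro s hs
        rcases hs with rfl | rfl | rfl
        · exact hgc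
        · exact hgu
        · exact h
      rw [hα, hγ1, mul_one]
      exact Subgroup.inv_mem _ ⟨_, rfl⟩
    · right
      have hγσ : σ⁻¹ * γ = 1 := by
        apply aut_eq_one_of_closure {c, u, t} hgen
        intro s hs
        rcases hs with rfl | rfl | rfl
        · rw [MulAut.mul_apply, hgc, MulAut.inv_apply, MulEquiv.symm_apply_eq, hσc]
        · rw [MulAut.mul_apply, hgu, MulAut.inv_apply, MulEquiv.symm_apply_eq, hσu]
        · rw [MulAut.mul_apply, h, MulAut.inv_apply, MulEquiv.symm_apply_eq, hσt]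
      have hγσ' : γ = σ := by
        have := congrArg (fun x => σ * x) hγσ
        simpa using this
      refine ⟨(MulAut.conj g)⁻¹, Subgroup.inv_mem _ ⟨_, rfl⟩, ?_⟩
      rw [hα, hγσ']
  have hσ : σ ∉ Cfsg.Inn G := by
    rintro ⟨h, hh⟩
    have h1 : h * c = c * h := by
      have := congrArg (fun f : MulAut G => f c) hh
      simp only [MulAut.conj_apply] at this
      rw [hσc] at this
      calc h * c = (h * c * h⁻¹) * h := by group
        _ = c * h := by rw [this]
    have h2 : h * u = u * h := by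
      have := congrArg (fun f : MulAut G => f u) hh
      simp only [MulAut.conj_apply] at this
      rw [hσu] at this
      calc h * u = (h * u * h⁻¹) * h := by group
        _ = u * h := by rw [this]
    have hmem := mem_zpowers_of_centralizer p c hfac hc hCc h h1
    rw [mem_zpowers_iff_mem_range_orderOf, Finset.mem_image] at hmem
    obtain ⟨m, -, hm⟩ := hmem
    have h3 : u * c ^ m * u⁻¹ = c ^ (k * m) := conj_pow_of_conj hu m
    have h4 : u * c ^ m * u⁻¹ = c ^ m := by
      rw [hm, ← h2]; group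
    have h5 : (c ^ m) ^ (k - 1) = 1 := by
      have e : c ^ (k * m) = (c ^ m) ^ (k - 1) * c ^ m := by
        rw [← pow_mul, ← pow_add]
        congr 1
        have : k = (k - 1) + 1 := by omega
        calc k * m = ((k - 1) + 1) * m := by rw [← this]
          _ = m * (k - 1) + m := by ring
      rw [h3] at h4
      rw [e] at h4
      exact mul_eq_right.mp h4
    have h6 : (c ^ m) ^ p = 1 := by rw [← pow_mul, mul_comm, pow_mul, hcp, one_pow]
    have h7 : c ^ m = 1 := eq_one_of_pow_pow p k j (c ^ m) hp.out.one_lt h6 h5 hj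
    have h8 : h = 1 := by rw [← hm, h7]
    apply hne
    rw [← hσt, ← hh, h8, map_one, MulAut.one_apply]
  rw [Nat.card_eq_two_iff]
  refine ⟨((1 : MulAut G) : Cfsg.Out G), ((σ : MulAut G) : Cfsg.Out G), ?_, ?_⟩
  · intro h
    rw [QuotientGroup.eq, inv_one, one_mul] at h
    exact hσ h
  · apply Set.eq_univ_of_forall
    intro q
    obtain ⟨α, rfl⟩ := QuotientGroup.mk_surjective q
    rcases key α with h | ⟨ι, hι, h⟩
    · left
      symm
      rw [QuotientGroup.eq, inv_one, one_mul]
      exact h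
    · right
      rw [Set.mem_singleton_iff]
      symm
      rw [QuotientGroup.eq, h]
      have : σ⁻¹ * (ι * σ) = σ⁻¹ * ι * σ := by group
      rw [this]
      exact (Cfsg.innNormal G).conj_mem' ι hι σ

end Cfsg.Agent.Lib.helper4
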