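import Cfsg.Agent.Lib.Helper10.SZC.Defs
import Cfsg.Agent.Lib.Helper10.SZCL1
import Cfsg.Agent.Lib.Helper18.SZCS
import Cfsg.Agent.Lib.helper6.SZCP2
import Cfsg.Agent.Lib.helper6.SZCP3
import Cfsg.Agent.Lib.Helper25.CharBasic
import Cfsg.Agent.Lib.helper4.SZCS10core

/-!
# SZC row S10 (`charDegrees_eq`), verbatim: the six degrees.

One-term wrapper of `h4_szcS10_core` on L1 (`sunflower`), S2 (`V_norm`), S3 (`V_pair`),
S4 (`V_card`), S8 (`exists_shape1`), S9 (`no_shape2`), P2 (`ps_degree`), P3 (`ps_exists`).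
-/

set_option autoImplicit false
open scoped ComplexConjugate

namespace Cfsg.Agent.Lib.Helper10.SZC

section
variable {G : Type*} [Group G] [Fintype G]
variable {q r : ℕ}

/-- S10 -/
theorem charDegrees_eq (D : SzcData G q r) :
    Cfsg.charDegrees G = {1, q ^ 2, q ^ 2 + 1, (q - 1) * (r / 2), (q - 1) * aN q r true,
      (q - 1) * aN q r false} := by
  letI : Fintype (Cfsg.IrrCharacter G) := Fintype.ofFinite _
  exact h4_szcS10_core D (fun hn hp hc => sunflower (Vall D) hn hp hc)
    (fun v hv => V_norm D v hv) (fun v w hv hw hvw => V_pair D v w hv hw hvw)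
    (V_card D true).2.2 (fun h => exists_shape1 D h)
    (fun h => no_shape2 D h) (fun χ hχ => ps_degree D χ hχ) (ps_exists D)

end

end Cfsg.Agent.Lib.Helper10.SZC
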