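import Cfsg.Agent.Lib.helper4.SZChA
import Cfsg.Agent.Lib.helper14.PgV

set_option autoImplicit false
set_option maxRecDepth 100000


/-! The basic checks of the levels of the chain `szCA` and its order. -/

namespace Cfsg.Agent.Lib.helper4

open Cfsg.Agent.Lib.helper23 Cfsg.Agent.Lib.helper14.PV

theorem szachk0x6 : pgChkLvlW0 1782 szaL6 [] = true := by decide +kernel

theorem szachk0x5 : pgChkLvlW0 1782 szaL5 [szaL6] = true := by decide +kernel

theorem szachk0x4 : pgChkLvlW0 1782 szaL4 [szaL5, szaL6] = true := by decide +kernel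

theorem szachk0x3 : pgChkLvlW0 1782 szaL3 [szaL4, szaL5, szaL6] = true := by decide +kernel

theorem szachk0x2 : pgChkLvlW0 1782 szaL2 [szaL3, szaL4, szaL5, szaL6] = true := by decide +kernel

theorem szachk0x1 : pgChkLvlW0 1782 szaL1 [szaL2, szaL3, szaL4, szaL5, szaL6] = true := by decide +kernel

theorem szachk0 : pgChk0W 1782 szCA = true := by
  unfold szCA
  rw [pgChk0W_cons, pgChk0W_cons, pgChk0W_cons, pgChk0W_cons, pgChk0W_cons, pgChk0W_cons, szachk0x1, szachk0x2, szachk0x3, szachk0x4, szachk0x5, szachk0x6]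
  rfl

theorem szaord : pgOrdW 1782 szCA = 448345497600 := by decide +kernel

end Cfsg.Agent.Lib.helper4
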