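import Cfsg.Agent.Lib.helper4.SZChB
import Cfsg.Agent.Lib.helper14.PgV

set_option autoImplicit false
set_option maxRecDepth 100000


/-! The basic checks of the levels of the chain `szCB` and its order. -/

namespace Cfsg.Agent.Lib.helper4

open Cfsg.Agent.Lib.helper23 Cfsg.Agent.Lib.helper14.PV

theorem szbchk0x5 : pgChkLvlW0 1782 szbL5 [] = true := by decide +kernel

theorem szbchk0x4 : pgChkLvlW0 1782 szbL4 [szbL5] = true := by decide +kernel

theorem szbchk0x3 : pgChkLvlW0 1782 szbL3 [szbL4, szbL5] = true := by decide +kernel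

theorem szbchk0x2 : pgChkLvlW0 1782 szbL2 [szbL3, szbL4, szbL5] = true := by decide +kernel

theorem szbchk0x1 : pgChkLvlW0 1782 szbL1 [szbL2, szbL3, szbL4, szbL5] = true := by decide +kernel

theorem szbchk0 : pgChk0W 1782 szCB = true := by
  unfold szCB
  rw [pgChk0W_cons, pgChk0W_cons, pgChk0W_cons, pgChk0W_cons, pgChk0W_cons, szbchk0x1, szbchk0x2, szbchk0x3, szbchk0x4, szbchk0x5]
  rfl

theorem szbord : pgOrdW 1782 szCB = 448345497600 := by decide +kernel

end Cfsg.Agent.Lib.helper4
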