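import Cfsg.Agent.Lib.helper4.SZChD
import Cfsg.Agent.Lib.helper14.PgV

set_option autoImplicit false
set_option maxRecDepth 100000


/-! The basic checks of the levels of the chain `szCD` and its order. -/

namespace Cfsg.Agent.Lib.helper4

open Cfsg.Agent.Lib.helper23 Cfsg.Agent.Lib.helper14.PV

theorem szdchk0x6 : pgChkLvlW0 1782 szdL6 [] = true := by decide +kernel

theorem szdchk0x5 : pgChkLvlW0 1782 szdL5 [szdL6] = true := by decide +kernel

theorem szdchk0x4 : pgChkLvlW0 1782 szdL4 [szdL5, szdL6] = true := by decide +kernel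

theorem szdchk0x3 : pgChkLvlW0 1782 szdL3 [szdL4, szdL5, szdL6] = true := by decide +kernel

theorem szdchk0x2 : pgChkLvlW0 1782 szdL2 [szdL3, szdL4, szdL5, szdL6] = true := by decide +kernel

theorem szdchk0x1 : pgChkLvlW0 1782 szdL1 [szdL2, szdL3, szdL4, szdL5, szdL6] = true := by decide +kernel

theorem szdchk0 : pgChk0W 1782 szCD = true := by
  unfold szCD
  rw [pgChk0W_cons, pgChk0W_cons, pgChk0W_cons, pgChk0W_cons, pgChk0W_cons, pgChk0W_cons, szdchk0x1, szdchk0x2, szdchk0x3, szdchk0x4, szdchk0x5, szdchk0x6]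
  rfl

theorem szdord : pgOrdW 1782 szCD = 448345497600 := by decide +kernel

end Cfsg.Agent.Lib.helper4
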