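import Cfsg.Agent.Lib.helper4.SZChA
import Cfsg.Agent.Lib.Helper26.PgD

set_option autoImplicit false
set_option maxRecDepth 100000

/-! The sporadic Suzuki group on 1782 points: the enumeration of the elements commuting with the
element of order 11, definitions. -/

namespace Cfsg.Agent.Lib.helper4

open Cfsg.Agent.Lib.helper23 Cfsg.Agent.Lib.helper14.PV Cfsg.Agent.Lib.Helper26

noncomputable section

/-- the lookup function of the element of order 11 -/
def szcf (p : ℕ) : ℕ := szlk szTc p

/-- the steps of the first level for the points `lo, …, lo + cnt - 1` -/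
def szEnAPiece (lo cnt : ℕ) : Bool :=
  pgDirPiece 1782 (pgCentTgt 1782 szcf) (pgCentTestQ 1782 11 szcf [11]) szaL1
    [szaL2, szaL3, szaL4, szaL5, szaL6] lo cnt

end

end Cfsg.Agent.Lib.helper4
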