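import Cfsg.Agent.Lib.helper4.SZEnB0

set_option autoImplicit false
set_option maxRecDepth 100000

/-! The sporadic Suzuki group on 1782 points: the enumeration of the elements commuting with the
square `v` of the element `u` of order 10: the involutions `x` among them with
`((c x) (u x)) ^ 11 = 1` are the two listed ones. -/

namespace Cfsg.Agent.Lib.helper4

open Cfsg.Agent.Lib.helper23 Cfsg.Agent.Lib.helper14.PV Cfsg.Agent.Lib.Helper26

theorem szEnB : pgDir 1782 (pgCentTgt 1782 szvf) szTestB szCB
    (fun p => p) (fun p => p) [] = true := by decide +kernel

end Cfsg.Agent.Lib.helper4
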