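import Cfsg.Agent.Lib.helper4.SZChB
import Cfsg.Agent.Lib.Helper26.PgD

set_option autoImplicit false
set_option maxRecDepth 100000

/-! The sporadic Suzuki group on 1782 points: the enumeration of the elements commuting with the
square `v` of the element `u` of order 10, definitions. -/

namespace Cfsg.Agent.Lib.helper4

open Cfsg.Agent.Lib.helper23 Cfsg.Agent.Lib.helper14.PV Cfsg.Agent.Lib.Helper26

noncomputable section

/-- the lookup function of the element of order 11 -/
def szcf' (p : ℕ) : ℕ := szlk szTc p

/-- the lookup function of the element of order 10 -/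
def szuf (p : ℕ) : ℕ := szlk szTu p

/-- the lookup function of its square -/
def szvf (p : ℕ) : ℕ := szuf (szuf p)

/-- the test at the leaves: an involution `x` with `((c x) (u x)) ^ 11 = 1` is one of the two
listed ones; the two conditions are tested at four points first, then the function is stored as a
table -/
def szTestB (f : ℕ → ℕ) : Bool :=
  cond (pgAll 4 (fun p => Nat.beq (f (f p)) p))
    (cond (pgAll 4 (fun p => Nat.beq (pgIter (fun q => szcf' (f (szuf (f q)))) 11 p) p))
      (pgForce (pgMk 11 1782 f) (fun T =>
        cond (pgAll 1782 (fun p => Nat.beq (pgLk 11 T (pgLk 11 T p)) p))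
          (cond (pgAll 1782 (fun p => Nat.beq
              (pgIter (fun q => szcf' (pgLk 11 T (szuf (pgLk 11 T q)))) 11 p) p))
            (pgAll 1782 (fun p => Nat.beq (pgLk 11 T p) (szlk szTt p)) ||
              pgAll 1782 (fun p => Nat.beq (pgLk 11 T p) (szlk szTt2 p)))
            true)
          true))
      true)
    true

/-- the steps of the first level for the points `lo, …, lo + cnt - 1` -/
def szEnBPiece (lo cnt : ℕ) : Bool :=
  pgDirPiece 1782 (pgCentTgt 1782 szvf) szTestB szbL1 [szbL2, szbL3, szbL4, szbL5] lo cnt

end

end Cfsg.Agent.Lib.helper4
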