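import Cfsg.Agent.Lib.helper4.SZChD
import Cfsg.Agent.Lib.helper23.PgW

set_option autoImplicit false
set_option maxRecDepth 100000

/-! The sporadic Suzuki group on 1782 points: relations between the listed elements, checked on
the tables; the elements sift through the chain. -/

namespace Cfsg.Agent.Lib.helper4

open Cfsg.Agent.Lib.helper23

theorem szPc_ok : szPc.ok 1782 = true := by decide +kernel

theorem szPu_ok : szPu.ok 1782 = true := by decide +kernel

theorem szPt_ok : szPt.ok 1782 = true := by decide +kernel

theorem szPt2_ok : szPt2.ok 1782 = true := by decide +kernel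

theorem szPs_ok : szPs.ok 1782 = true := by decide +kernel

/-- `u c = c c u` -/
theorem szRel_uc : pgEq 1782 (fun p => szPu.f (szPc.f p)) (fun p => szPc.f (szPc.f (szPu.f p))) = true := by
  decide +kernel

/-- `c ^ 11 = 1` -/
theorem szRel_c11 : pgEq 1782 (pgIter szPc.f 11) (fun p => p) = true := by decide +kernel

/-- `c ≠ 1` -/
theorem szRel_c1 : pgEq 1782 szPc.f (fun p => p) = false := by decide +kernel

/-- `u ^ 5 c = c⁻¹ u ^ 5` -/
theorem szRel_wc : pgEq 1782 (fun p => pgIter szPu.f 5 (szPc.f p))
    (fun p => szPc.g (pgIter szPu.f 5 p)) = true := by decide +kernel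

/-- `t t = 1` -/
theorem szRel_tt : pgEq 1782 (fun p => szPt.f (szPt.f p)) (fun p => p) = true := by decide +kernel

/-- `t (u u) = (u u) t` -/
theorem szRel_tv : pgEq 1782 (fun p => szPt.f (szPu.f (szPu.f p)))
    (fun p => szPu.f (szPu.f (szPt.f p))) = true := by decide +kernel

/-- `((c t) (u t)) ^ 11 = 1` -/
theorem szRel_pat : pgEq 1782 (pgIter (fun q => szPc.f (szPt.f (szPu.f (szPt.f q)))) 11)
    (fun p => p) = true := by decide +kernel

/-- `s s = 1` -/
theorem szRel_ss : pgEq 1782 (fun p => szPs.f (szPs.f p)) (fun p => p) = true := by decide +kernel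

/-- `s c = c s` -/
theorem szRel_sc : pgEq 1782 (fun p => szPs.f (szPc.f p)) (fun p => szPc.f (szPs.f p)) = true := by
  decide +kernel

/-- `s u = u s` -/
theorem szRel_su : pgEq 1782 (fun p => szPs.f (szPu.f p)) (fun p => szPu.f (szPs.f p)) = true := by
  decide +kernel

/-- `s t = t₂ s` -/
theorem szRel_st : pgEq 1782 (fun p => szPs.f (szPt.f p)) (fun p => szPt2.f (szPs.f p)) = true := by
  decide +kernel

/-- `t₂ ≠ t` -/
theorem szRel_t2t : pgEq 1782 szPt2.f szPt.f = false := by decide +kernel

/-- `c` sifts through the chain of the group generated by the seven involutions -/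
theorem szSift_c : pgSiftW 1782 (List.range 1782) szCD szPc.f = true := by decide +kernel

/-- `u` sifts through the chain -/
theorem szSift_u : pgSiftW 1782 (List.range 1782) szCD szPu.f = true := by decide +kernel

/-- `t` sifts through the chain -/
theorem szSift_t : pgSiftW 1782 (List.range 1782) szCD szPt.f = true := by decide +kernel

/-- `t₂` sifts through the chain -/
theorem szSift_t2 : pgSiftW 1782 (List.range 1782) szCD szPt2.f = true := by decide +kernel

end Cfsg.Agent.Lib.helper4
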