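import Mathlib
import Cfsg.Agent.Lib.Helper12.TC.SuzP3x2160.Link
import Cfsg.Agent.Lib.Helper12.TC.SuzP2x280.Link
import Cfsg.Agent.Lib.Helper12.TC.SuzP1x416.Link
import Cfsg.Agent.Lib.Helper12.TC.Suz1782.Link
import Cfsg.Agent.Lib.Helper12.TC.Suzx1782.Main
import Cfsg.Agent.Lib.helper4.SZChkD
import Cfsg.Agent.Lib.helper4.SZChkA
import Cfsg.Agent.Lib.helper4.SZChkB
import Cfsg.Agent.Lib.helper4.SZRel

set_option autoImplicit false

/-! The sporadic Suzuki group, presented, is isomorphic to the group generated by three listed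
permutations of 1782 points; the two stabiliser chains of this group are valid. -/

namespace Cfsg.Agent.Lib.helper4

open Cfsg.Agent.Lib.helper23 Cfsg.Agent.Lib.helper14.PV Cfsg.Agent.Lib.Helper12.TC

/-- the bound for the order of the presented group -/
theorem sz_finite_card_le : Finite Cfsg.Spor.Suz ∧ Nat.card Cfsg.Spor.Suz ≤ 448345497600 := by
  obtain ⟨f0, c0⟩ := SuzP3x2160.card_eq
  obtain ⟨f1, c1⟩ := SuzP2x280.card_le f0 _ (le_of_eq c0)
  obtain ⟨f2, c2⟩ := SuzP1x416.card_le f1 _ c1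
  obtain ⟨f3, c3⟩ := Suz1782.card_le f2 _ c2
  exact ⟨f3, c3⟩

set_option maxRecDepth 100000 in
theorem szTT0 : pgAll 1782 (fun i => Nat.beq (Suzx1782.TT 0 i) (szlk szT0 i)) = true := by
  decide +kernel

set_option maxRecDepth 100000 in
theorem szTT1 : pgAll 1782 (fun i => Nat.beq (Suzx1782.TT 1 i) (szlk szT1 i)) = true := by
  decide +kernel

set_option maxRecDepth 100000 in
theorem szTT2 : pgAll 1782 (fun i => Nat.beq (Suzx1782.TT 2 i) (szlk szT2 i)) = true := by
  decide +kernel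

set_option maxRecDepth 100000 in
theorem szTT3 : pgAll 1782 (fun i => Nat.beq (Suzx1782.TT 3 i) (szlk szT3 i)) = true := by
  decide +kernel

set_option maxRecDepth 100000 in
theorem szTT4 : pgAll 1782 (fun i => Nat.beq (Suzx1782.TT 4 i) (szlk szT4 i)) = true := by
  decide +kernel

set_option maxRecDepth 100000 in
theorem szTT5 : pgAll 1782 (fun i => Nat.beq (Suzx1782.TT 5 i) (szlk szT5 i)) = true := by
  decide +kernel

set_option maxRecDepth 100000 in
theorem szTT6 : pgAll 1782 (fun i => Nat.beq (Suzx1782.TT 6 i) (szlk szT6 i)) = true := by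
  decide +kernel

/-- the group generated by the seven involutions -/
noncomputable abbrev SZG7 : Subgroup (Equiv.Perm (Fin 1782)) := pgGrpW 1782 szCD

/-- the group generated by the elements of orders 11, 10 and 2 -/
noncomputable abbrev SZG : Subgroup (Equiv.Perm (Fin 1782)) := pgGrpW 1782 szCA

theorem szd_own : pgOwnW szCD = [szG0, szG1, szG2, szG3, szG4, szG5, szG6] := rfl

theorem sza_own : pgOwnW szCA = [szPc, szPu, szPt] := rfl

theorem szb_own : pgOwnW szCB = [szPc, szPu, szPt] := rfl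

theorem szG_ok : ∀ P ∈ [szG0, szG1, szG2, szG3, szG4, szG5, szG6], P.ok 1782 = true := by
  have := pgChk0W_ok (n := 1782) szCD szdchk0
  rw [szd_own] at this
  exact this

theorem sz_rho_gen (ρ : Cfsg.Spor.Suz →* Equiv.Perm (Fin 1782)) (x : ℕ) (T : SzT)
    (hok : (szgen T T).ok 1782 = true)
    (h1 : ∀ i : Fin 1782, ((ρ (PresentedGroup.mk _ (FreeGroup.of (SuzPres.gen x))) i : Fin 1782) : ℕ) =
      Suzx1782.TT x i)
    (h2 : pgAll 1782 (fun i => Nat.beq (Suzx1782.TT x i) (szlk T i)) = true) :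
    ρ (PresentedGroup.mk _ (FreeGroup.of (SuzPres.gen x))) = (szgen T T).perm 1782 := by
  apply Equiv.ext
  intro i
  apply Fin.ext
  rw [PFun.perm_apply hok, h1 i]
  have := (pgAll_iff _ _).1 h2 i.1 i.2
  rw [Nat.beq_eq] at this
  exact this

/-- the permutation representation of the presented group on 1782 points, with the images of the
generators -/
theorem sz_exists_rho : ∃ ρ : Cfsg.Spor.Suz →* Equiv.Perm (Fin 1782),
    (∀ y : Cfsg.Spor.Suz.Gen, ρ (PresentedGroup.mk _ (FreeGroup.of y)) ∈ SZG7) ∧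
    ∀ P ∈ [szG0, szG1, szG2, szG3, szG4, szG5, szG6], P.perm 1782 ∈ ρ.range := by
  obtain ⟨ρ0, h1, -⟩ := Suzx1782.mainRho
  let ρ : Cfsg.Spor.Suz →* Equiv.Perm (Fin 1782) := ρ0
  have hok := szG_ok
  have hmem : ∀ P ∈ [szG0, szG1, szG2, szG3, szG4, szG5, szG6], P.perm 1782 ∈ SZG7 := by
    intro P hP
    apply Subgroup.subset_closure
    rw [szd_own]
    exact ⟨P, hP, rfl⟩
  have e0 := sz_rho_gen ρ 0 szT0 (hok szG0 (by simp)) (fun i => h1 0 (by norm_num) i) szTT0
  have e1 := sz_rho_gen ρ 1 szT1 (hok szG1 (by simp)) (fun i => h1 1 (by norm_num) i) szTT1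
  have e2 := sz_rho_gen ρ 2 szT2 (hok szG2 (by simp)) (fun i => h1 2 (by norm_num) i) szTT2
  have e3 := sz_rho_gen ρ 3 szT3 (hok szG3 (by simp)) (fun i => h1 3 (by norm_num) i) szTT3
  have e4 := sz_rho_gen ρ 4 szT4 (hok szG4 (by simp)) (fun i => h1 4 (by norm_num) i) szTT4
  have e5 := sz_rho_gen ρ 5 szT5 (hok szG5 (by simp)) (fun i => h1 5 (by norm_num) i) szTT5
  have e6 := sz_rho_gen ρ 6 szT6 (hok szG6 (by simp)) (fun i => h1 6 (by norm_num) i) szTT6
  refine ⟨ρ, ?_, ?_⟩
  swap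
  · intro P hP
    simp only [List.mem_cons, List.not_mem_nil, or_false] at hP
    rcases hP with rfl | rfl | rfl | rfl | rfl | rfl | rfl
    · exact ⟨_, e0⟩
    · exact ⟨_, e1⟩
    · exact ⟨_, e2⟩
    · exact ⟨_, e3⟩
    · exact ⟨_, e4⟩
    · exact ⟨_, e5⟩
    · exact ⟨_, e6⟩
  intro y
  cases y
  · show ρ (PresentedGroup.mk _ (FreeGroup.of (SuzPres.gen 0))) ∈ SZG7
    rw [e0]; exact hmem szG0 (by simp)
  · show ρ (PresentedGroup.mk _ (FreeGroup.of (SuzPres.gen 1))) ∈ SZG7
    rw [e1]; exact hmem szG1 (by simp)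
  · show ρ (PresentedGroup.mk _ (FreeGroup.of (SuzPres.gen 2))) ∈ SZG7
    rw [e2]; exact hmem szG2 (by simp)
  · show ρ (PresentedGroup.mk _ (FreeGroup.of (SuzPres.gen 3))) ∈ SZG7
    rw [e3]; exact hmem szG3 (by simp)
  · show ρ (PresentedGroup.mk _ (FreeGroup.of (SuzPres.gen 4))) ∈ SZG7
    rw [e4]; exact hmem szG4 (by simp)
  · show ρ (PresentedGroup.mk _ (FreeGroup.of (SuzPres.gen 5))) ∈ SZG7
    rw [e5]; exact hmem szG5 (by simp)
  · show ρ (PresentedGroup.mk _ (FreeGroup.of (SuzPres.gen 6))) ∈ SZG7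
    rw [e6]; exact hmem szG6 (by simp)

theorem szPc_rep : PgRep szPc.f (szPc.perm 1782) := PgRep.perm szPc_ok

theorem szPu_rep : PgRep szPu.f (szPu.perm 1782) := PgRep.perm szPu_ok

theorem szPt_rep : PgRep szPt.f (szPt.perm 1782) := PgRep.perm szPt_ok

theorem szPt2_rep : PgRep szPt2.f (szPt2.perm 1782) := PgRep.perm szPt2_ok

theorem szPs_rep : PgRep szPs.f (szPs.perm 1782) := PgRep.perm szPs_ok

theorem SZG_le : SZG ≤ SZG7 := by
  show Subgroup.closure (pgSet 1782 (pgOwnW szCA)) ≤ SZG7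
  rw [Subgroup.closure_le, sza_own]
  rintro x ⟨P, hP, rfl⟩
  simp only [List.mem_cons, List.not_mem_nil, or_false] at hP
  rcases hP with rfl | rfl | rfl
  · exact pgSiftW_sound' szCD szdchk0 _ _ szPc_rep szSift_c
  · exact pgSiftW_sound' szCD szdchk0 _ _ szPu_rep szSift_u
  · exact pgSiftW_sound' szCD szdchk0 _ _ szPt_rep szSift_t

theorem SZG_card_ge : 448345497600 ≤ Nat.card SZG := by
  have := pgCardW_ge (n := 1782) szCA szachk0
  rw [szaord] at this
  exact this

/-- the presented group is isomorphic to the permutation group, which has the right order -/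
theorem sz_model : Nonempty (Cfsg.Spor.Suz ≃* SZG) ∧ Nat.card SZG = 448345497600 ∧ SZG = SZG7 := by
  obtain ⟨ρ, hρ, hρ2⟩ := sz_exists_rho
  obtain ⟨hfin, hle⟩ := sz_finite_card_le
  have hr : SZG7 ≤ ρ.range := by
    show Subgroup.closure (pgSet 1782 (pgOwnW szCD)) ≤ ρ.range
    rw [Subgroup.closure_le, szd_own]
    rintro x ⟨P, hP, rfl⟩
    exact hρ2 P hP
  -- cardinalities
  have h1 : Nat.card ρ.range ≤ Nat.card Cfsg.Spor.Suz :=
    Nat.card_le_card_of_surjective _ ρ.rangeRestrict_surjective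
  have h2 : Nat.card SZG ≤ Nat.card SZG7 := Subgroup.card_le_of_le SZG_le
  have h3 : Nat.card SZG7 ≤ Nat.card ρ.range := Subgroup.card_le_of_le hr
  have h4 := SZG_card_ge
  have hc1 : Nat.card SZG = 448345497600 := by omega
  have hc2 : Nat.card ρ.range = Nat.card Cfsg.Spor.Suz := by omega
  have hc3 : Nat.card ρ.range ≤ Nat.card SZG := by omega
  have heq : SZG = ρ.range := Subgroup.eq_of_le_of_card_ge (SZG_le.trans hr) hc3
  have hbij : Function.Bijective ρ.rangeRestrict :=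
    ρ.rangeRestrict_surjective.bijective_of_nat_card_le (le_of_eq hc2.symm)
  have hinj : Function.Injective ρ := by
    intro a b hab
    apply hbij.1
    apply Subtype.ext
    exact hab
  have hc4 : Nat.card SZG7 ≤ Nat.card SZG := by omega
  exact ⟨⟨(MonoidHom.ofInjective hinj).trans (MulEquiv.subgroupCongr heq.symm)⟩, hc1,
    Subgroup.eq_of_le_of_card_ge SZG_le hc4⟩

theorem SZG_card : Nat.card SZG = 448345497600 := sz_model.2.1

theorem SZG_eq7 : SZG = SZG7 := sz_model.2.2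

theorem szCA_valid : PgValidW 1782 szCA := by
  refine (pgValid_of_card (n := 1782) szCA szachk0 ?_).1
  rw [szaord]
  exact le_of_eq SZG_card

theorem szCB_grp : pgGrpW 1782 szCB = SZG := by
  show Subgroup.closure (pgSet 1782 (pgOwnW szCB)) = Subgroup.closure (pgSet 1782 (pgOwnW szCA))
  rw [sza_own, szb_own]

theorem szCB_valid : PgValidW 1782 szCB := by
  refine (pgValid_of_card (n := 1782) szCB szbchk0 ?_).1
  rw [szbord, szCB_grp]
  exact le_of_eq SZG_card

end Cfsg.Agent.Lib.helper4
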