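import Mathlib
import Cfsg.Agent.Lib.helper4.SZModel
import Cfsg.Agent.Lib.helper4.SZEnA
import Cfsg.Agent.Lib.helper4.SZEnB
import Cfsg.Agent.Lib.helper4.SZAbs

set_option autoImplicit false

/-! The sporadic Suzuki group on 1782 points: the relations of the listed elements and the two
centralisers. -/

namespace Cfsg.Agent.Lib.helper4

open Cfsg.Agent.Lib.helper23 Cfsg.Agent.Lib.helper14.PV Cfsg.Agent.Lib.Helper26

/-- the element of order 11 -/
noncomputable def szc : Equiv.Perm (Fin 1782) := szPc.perm 1782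

/-- the element of order 10 -/
noncomputable def szu : Equiv.Perm (Fin 1782) := szPu.perm 1782

/-- the involution -/
noncomputable def szt : Equiv.Perm (Fin 1782) := szPt.perm 1782

/-- the second involution -/
noncomputable def szt2 : Equiv.Perm (Fin 1782) := szPt2.perm 1782

/-- the involution of the points -/
noncomputable def szs : Equiv.Perm (Fin 1782) := szPs.perm 1782

theorem szc_rep : PgRep szPc.f szc := szPc_rep

theorem szu_rep : PgRep szPu.f szu := szPu_rep

theorem szt_rep : PgRep szPt.f szt := szPt_rep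

theorem szt2_rep : PgRep szPt2.f szt2 := szPt2_rep

theorem szs_rep : PgRep szPs.f szs := szPs_rep

theorem szci_rep : PgRep szPc.g szc⁻¹ := PgRep.perm_inv szPc_ok

theorem pgRep_iter {n : ℕ} {f : ℕ → ℕ} {a : Equiv.Perm (Fin n)} (hf : PgRep f a) (k : ℕ) :
    PgRep (pgIter f k) (a ^ k) := fun p => pgIter_perm a f hf k p

theorem szc_pow : szc ^ 11 = 1 :=
  (pgEq_iff (pgRep_iter szc_rep 11) PgRep.one).1 szRel_c11

theorem szc_ne : szc ≠ 1 :=
  (pgEq_false_iff szc_rep PgRep.one).1 szRel_c1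

theorem szu_c : szu * szc = szc * (szc * szu) :=
  (pgEq_iff (PgRep.mul szu_rep szc_rep) (PgRep.mul szc_rep (PgRep.mul szc_rep szu_rep))).1 szRel_uc

theorem szw_c : szu ^ 5 * szc = szc⁻¹ * szu ^ 5 :=
  (pgEq_iff (PgRep.mul (pgRep_iter szu_rep 5) szc_rep)
    (PgRep.mul szci_rep (pgRep_iter szu_rep 5))).1 szRel_wc

theorem szt_sq : szt * szt = 1 :=
  (pgEq_iff (PgRep.mul szt_rep szt_rep) PgRep.one).1 szRel_tt

theorem szt_v : szt * (szu * szu) = szu * (szu * szt) :=
  (pgEq_iff (PgRep.mul szt_rep (PgRep.mul szu_rep szu_rep))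
    (PgRep.mul szu_rep (PgRep.mul szu_rep szt_rep))).1 szRel_tv

theorem szt_pat : (szc * (szt * (szu * szt))) ^ 11 = 1 :=
  (pgEq_iff (pgRep_iter (PgRep.mul szc_rep (PgRep.mul szt_rep (PgRep.mul szu_rep szt_rep))) 11)
    PgRep.one).1 szRel_pat

theorem szs_sq : szs * szs = 1 :=
  (pgEq_iff (PgRep.mul szs_rep szs_rep) PgRep.one).1 szRel_ss

theorem szs_c : szs * szc = szc * szs :=
  (pgEq_iff (PgRep.mul szs_rep szc_rep) (PgRep.mul szc_rep szs_rep)).1 szRel_sc

theorem szs_u : szs * szu = szu * szs :=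
  (pgEq_iff (PgRep.mul szs_rep szu_rep) (PgRep.mul szu_rep szs_rep)).1 szRel_su

theorem szs_t : szs * szt = szt2 * szs :=
  (pgEq_iff (PgRep.mul szs_rep szt_rep) (PgRep.mul szt2_rep szs_rep)).1 szRel_st

theorem szt2_ne : szt2 ≠ szt :=
  (pgEq_false_iff szt2_rep szt_rep).1 szRel_t2t

theorem szc_mem : szc ∈ SZG := by
  apply Subgroup.subset_closure
  rw [sza_own]
  exact ⟨szPc, by simp, rfl⟩

theorem szu_mem : szu ∈ SZG := by
  apply Subgroup.subset_closure
  rw [sza_own]
  exact ⟨szPu, by simp, rfl⟩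

theorem szt_mem : szt ∈ SZG := by
  apply Subgroup.subset_closure
  rw [sza_own]
  exact ⟨szPt, by simp, rfl⟩

theorem szt2_mem : szt2 ∈ SZG := by
  rw [SZG_eq7]
  exact pgSiftW_sound' szCD szdchk0 szPt2.f szt2 szt2_rep szSift_t2

theorem pgSet_three (n : ℕ) (A B C : PFun) :
    pgSet n [A, B, C] = {A.perm n, B.perm n, C.perm n} := by
  ext x
  constructor
  · rintro ⟨P, hP, rfl⟩
    simp only [List.mem_cons, List.not_mem_nil, or_false] at hP
    rcases hP with rfl | rfl | rfl
    · exact Or.inl rfl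
    · exact Or.inr (Or.inl rfl)
    · exact Or.inr (Or.inr rfl)
  · intro hx
    simp only [Set.mem_insert_iff, Set.mem_singleton_iff] at hx
    rcases hx with h | h | h
    · exact ⟨A, by simp, h⟩
    · exact ⟨B, by simp, h⟩
    · exact ⟨C, by simp, h⟩

theorem SZG_eq : SZG = Subgroup.closure {szc, szu, szt} := by
  show Subgroup.closure (pgSet 1782 (pgOwnW szCA)) = _
  rw [sza_own, pgSet_three]
  rfl

/-- the elements commuting with the element of order 11 have order dividing 11 -/
theorem sz_centA (h : Equiv.Perm (Fin 1782)) (hh : h ∈ SZG) (hc : h * szc = szc * h) :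
    h ^ 11 = 1 := by
  obtain ⟨K, hK, e⟩ := pgCentDQ_main (n := 1782) (w := 11) (by norm_num) szCA_valid szcf [11] szc
    szc_rep szEnA h hh hc
  simp only [List.mem_cons, List.not_mem_nil, or_false] at hK
  rw [hK] at e
  exact e

theorem cond_cond_elim {a b X : Bool} (h : cond a (cond b X true) true = true) (ha : a = true)
    (hb : b = true) : X = true := by
  rw [ha, hb] at h
  exact h

theorem szTestB_sound {f : ℕ → ℕ} {h : Equiv.Perm (Fin 1782)} (hf : PgRep f h)
    (ht : szTestB f = true) (h2 : h * h = 1) (hp : (szc * (h * (szu * h))) ^ 11 = 1) :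
    h = szt ∨ h = szt2 := by
  have hcr : PgRep szcf' szc := szc_rep
  have hur : PgRep szuf szu := szu_rep
  have hq1 : pgAll 4 (fun p => Nat.beq (f (f p)) p) = true := by
    rw [pgAll_iff]
    intro p hp4
    rw [Nat.beq_eq]
    have hp' : p < 1782 := by omega
    have := PgRep.mul hf hf ⟨p, hp'⟩
    rw [h2] at this
    exact this
  have hq2 : pgAll 4 (fun p => Nat.beq (pgIter (fun q => szcf' (f (szuf (f q)))) 11 p) p) =
      true := by
    rw [pgAll_iff]
    intro p hp4
    rw [Nat.beq_eq]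
    have hp' : p < 1782 := by omega
    have := pgRep_iter (PgRep.mul hcr (PgRep.mul hf (PgRep.mul hur hf))) 11 ⟨p, hp'⟩
    rw [hp] at this
    exact this
  have h3 := cond_cond_elim ht hq1 hq2
  have h4 := (pgForce_eq _ _).symm.trans h3
  have hlk : PgRep (pgLk 11 (pgMk 11 1782 f)) h := by
    intro p
    rw [pgMk_lk 11 1782 f ?_ p.1 p.2, hf]
    intro k hk
    rw [hf ⟨k, hk⟩]
    exact lt_of_lt_of_le (h ⟨k, hk⟩).2 (by norm_num)
  have hq3 : pgEq 1782 (fun p => pgLk 11 (pgMk 11 1782 f) (pgLk 11 (pgMk 11 1782 f) p))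
      (fun p => p) = true := (pgEq_iff (PgRep.mul hlk hlk) PgRep.one).2 h2
  have hq4 : pgEq 1782 (pgIter (fun q => szcf' (pgLk 11 (pgMk 11 1782 f)
      (szuf (pgLk 11 (pgMk 11 1782 f) q)))) 11) (fun p => p) = true :=
    (pgEq_iff (pgRep_iter (PgRep.mul hcr (PgRep.mul hlk (PgRep.mul hur hlk))) 11) PgRep.one).2 hp
  have h5 := cond_cond_elim h4 hq3 hq4
  rcases Eq.mp (Bool.or_eq_true _ _) h5 with ht | ht
  · left
    exact (pgEq_iff hlk szt_rep).1 ht
  · right
    exact (pgEq_iff hlk szt2_rep).1 ht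

/-- the involutions `x` commuting with the square of the element of order 10 with
`((c x) (u x)) ^ 11 = 1` -/
theorem sz_centB (h : Equiv.Perm (Fin 1782)) (hh : h ∈ SZG) (hv : h * (szu * szu) = szu * szu * h)
    (h2 : h * h = 1) (hp : (szc * h * (szu * h)) ^ 11 = 1) : h = szt ∨ h = szt2 := by
  have hvr : PgRep szvf (szu * szu) := by
    have := PgRep.mul szu_rep szu_rep
    exact this
  have hc : ∀ p : Fin 1782, h ((szu * szu) p) = (szu * szu) (h p) := by
    intro p
    rw [← Equiv.Perm.mul_apply, ← Equiv.Perm.mul_apply, hv]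
  have hh' : h ∈ pgGrpW 1782 szCB := by rw [szCB_grp]; exact hh
  obtain ⟨f, hf, ht⟩ := pgDir_sound (pgCentTgt 1782 szvf) szTestB h (pgCentTgt_sound hvr hc)
    szCB szCB_valid (fun p => p) (fun p => p) 1 [] (fun _ => rfl) (fun _ => by simp)
    (fun _ hq => absurd hq List.not_mem_nil) szEnB h hh' (one_mul h).symm
  apply szTestB_sound hf ht h2
  rw [← mul_assoc]
  exact hp

attribute [irreducible] szc szu szt szt2 szs

end Cfsg.Agent.Lib.helper4
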