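import Mathlib
import Cfsg.Agent.Lib.helper4.SZMain
import Cfsg.Agent.Lib.helper4.OutCongr

set_option autoImplicit false

/-! The outer automorphism group of the sporadic Suzuki group has order 2. -/

namespace Cfsg.Agent.Lib.helper4

open Cfsg.Agent.Lib.helper23

theorem szs_conj_c : szs * szc * szs = szc := by
  rw [szs_c, mul_assoc, szs_sq, mul_one]

theorem szs_conj_u : szs * szu * szs = szu := by
  rw [szs_u, mul_assoc, szs_sq, mul_one]

theorem szs_conj_t : szs * szt * szs = szt2 := by
  rw [szs_t, mul_assoc, szs_sq, mul_one]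

theorem szs_norm (g : Equiv.Perm (Fin 1782)) (hg : g ∈ SZG) : szs * g * szs ∈ SZG := by
  have hg' := hg
  rw [SZG_eq] at hg'
  induction hg' using Subgroup.closure_induction with
  | mem x hx =>
    rcases hx with rfl | rfl | rfl
    · rw [szs_conj_c]; exact szc_mem
    · rw [szs_conj_u]; exact szu_mem
    · rw [szs_conj_t]; exact szt2_mem
  | one =>
    rw [mul_one, szs_sq]
    exact Subgroup.one_mem _
  | mul a b ha hb iha ihb =>
    have ha' : a ∈ SZG := by rw [SZG_eq]; exact ha
    have hb' : b ∈ SZG := by rw [SZG_eq]; exact hb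
    have : szs * (a * b) * szs = (szs * a * szs) * (szs * b * szs) := by
      calc szs * (a * b) * szs = szs * a * 1 * b * szs := by group
        _ = (szs * a * szs) * (szs * b * szs) := by rw [← szs_sq]; group
    rw [this]
    exact Subgroup.mul_mem _ (iha ha') (ihb hb')
  | inv a ha iha =>
    have ha' : a ∈ SZG := by rw [SZG_eq]; exact ha
    have hsi : szs⁻¹ = szs := inv_eq_of_mul_eq_one_left szs_sq
    have : szs * a⁻¹ * szs = (szs * a * szs)⁻¹ := by
      rw [mul_inv_rev, mul_inv_rev, hsi, mul_assoc]
    rw [this]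
    exact Subgroup.inv_mem _ (iha ha')

/-- the automorphism induced by the involution of the points -/
noncomputable def szSigma : MulAut SZG where
  toFun g := ⟨szs * g.1 * szs, szs_norm g.1 g.2⟩
  invFun g := ⟨szs * g.1 * szs, szs_norm g.1 g.2⟩
  left_inv g := by
    apply Subtype.ext
    show szs * (szs * g.1 * szs) * szs = g.1
    calc szs * (szs * g.1 * szs) * szs = (szs * szs) * g.1 * (szs * szs) := by group
      _ = g.1 := by rw [szs_sq, one_mul, mul_one]
  right_inv g := by
    apply Subtype.ext
    show szs * (szs * g.1 * szs) * szs = g.1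
    calc szs * (szs * g.1 * szs) * szs = (szs * szs) * g.1 * (szs * szs) := by group
      _ = g.1 := by rw [szs_sq, one_mul, mul_one]
  map_mul' g h := by
    apply Subtype.ext
    show szs * (g.1 * h.1) * szs = (szs * g.1 * szs) * (szs * h.1 * szs)
    calc szs * (g.1 * h.1) * szs = szs * g.1 * 1 * h.1 * szs := by group
      _ = (szs * g.1 * szs) * (szs * h.1 * szs) := by rw [← szs_sq]; group

theorem szSigma_apply (g : SZG) : (szSigma g : Equiv.Perm (Fin 1782)) = szs * g.1 * szs := rfl

/-- the elements as members of the group -/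
noncomputable def szcG : SZG := ⟨szc, szc_mem⟩

/-- the element of order 10 as a member of the group -/
noncomputable def szuG : SZG := ⟨szu, szu_mem⟩

/-- the involution as a member of the group -/
noncomputable def sztG : SZG := ⟨szt, szt_mem⟩

/-- the second involution as a member of the group -/
noncomputable def szt2G : SZG := ⟨szt2, szt2_mem⟩

theorem sz_fact11 : (448345497600 : ℕ).factorization 11 = 1 := by
  have e : (448345497600 : ℕ) = 11 ^ 1 * 40758681600 := by norm_num
  rw [e, Nat.factorization_mul (by norm_num) (by norm_num),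
    Nat.Prime.factorization_pow (by norm_num)]
  have : (40758681600 : ℕ).factorization 11 = 0 :=
    Nat.factorization_eq_zero_of_not_dvd (by norm_num)
  simp [this]

theorem szcG_order : orderOf szcG = 11 := by
  have : Fact (Nat.Prime 11) := ⟨by norm_num⟩
  apply orderOf_eq_prime
  · apply Subtype.ext
    exact szc_pow
  · intro h
    exact szc_ne (congrArg Subtype.val h)

theorem sz_gen : Subgroup.closure {szcG, szuG, sztG} = (⊤ : Subgroup SZG) := by
  rw [eq_top_iff]
  intro g _
  have hm : (Subgroup.closure {szcG, szuG, sztG}).map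
      (SZG : Subgroup (Equiv.Perm (Fin 1782))).subtype =
      Subgroup.closure ({szc, szu, szt} : Set (Equiv.Perm (Fin 1782))) := by
    rw [MonoidHom.map_closure]
    congr 1
    rw [Set.image_insert_eq, Set.image_pair]
    rfl
  have hg : g.1 ∈ Subgroup.closure ({szc, szu, szt} : Set (Equiv.Perm (Fin 1782))) := by
    rw [← SZG_eq]
    exact g.2
  rw [← hm] at hg
  obtain ⟨g', hg', e⟩ := hg
  have : g' = g := Subtype.ext e
  rwa [this] at hg'

theorem sz_pow_two : ∀ j : Fin 11, 0 < j.1 →
    ∃ i : Fin 10, 2 ^ i.1 * j.1 % 11 = 1 ∨ 2 ^ i.1 * j.1 % 11 = 11 - 1 := by decide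

/-- the pattern which determines the third generator up to two choices -/
def SzPat (x : SZG) : Prop :=
  x * (szuG * szuG) = (szuG * szuG) * x ∧ x * x = 1 ∧ ((szcG * x) * (szuG * x)) ^ 11 = 1

/-- the outer automorphism group of the permutation group has order 2 -/
theorem sz_out_card : Nat.card (Cfsg.Out SZG) = 2 := by
  haveI : Fact (Nat.Prime 11) := ⟨by norm_num⟩
  haveI : Finite SZG := inferInstance
  refine card_out_eq_two_of_rigid 11 2 1 szcG szuG sztG szt2G (szuG ^ 5) szSigma ?_ szcG_order
    ?_ ?_ (by norm_num) ?_ ?_ (by norm_num) SzPat ?_ ?_ ?_ sz_gen ?_ ?_ ?_ ?_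
  · rw [SZG_card]
    exact sz_fact11
  · intro h hc
    apply Subtype.ext
    rw [Subgroup.coe_pow, Subgroup.coe_one]
    apply sz_centA h.1 h.2
    have := congrArg Subtype.val hc
    rw [Subgroup.coe_mul, Subgroup.coe_mul] at this
    exact this
  · have : szuG * szcG = szcG * (szcG * szuG) := Subtype.ext szu_c
    rw [this, mul_assoc, mul_assoc, mul_inv_cancel, mul_one, pow_two]
  · intro j h0 h1
    obtain ⟨i, hi⟩ := sz_pow_two ⟨j, h1⟩ h0
    exact ⟨i.1, hi⟩
  · have : szuG ^ 5 * szcG = szcG⁻¹ * szuG ^ 5 := by
      apply Subtype.ext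
      rw [Subgroup.coe_mul, Subgroup.coe_mul, Subgroup.coe_pow, Subgroup.coe_inv]
      exact szw_c
    rw [this]
    group
  · intro γ hc hu x hx
    obtain ⟨h1, h2, h3⟩ := hx
    refine ⟨?_, ?_, ?_⟩
    · have := congrArg γ h1
      simp only [map_mul, hu] at this
      exact this
    · have := congrArg γ h2
      rw [map_mul, map_one] at this
      exact this
    · have := congrArg γ h3
      simp only [map_pow, map_mul, hc, hu, map_one] at this
      exact this
  · refine ⟨?_, ?_, ?_⟩
    · apply Subtype.ext
      show szt * (szu * szu) = (szu * szu) * szt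
      rw [szt_v, mul_assoc]
    · apply Subtype.ext
      exact szt_sq
    · apply Subtype.ext
      show ((szc * szt) * (szu * szt)) ^ 11 = 1
      rw [mul_assoc]
      exact szt_pat
  · intro x hx
    obtain ⟨h1, h2, h3⟩ := hx
    have e1 : x.1 * (szu * szu) = szu * szu * x.1 := congrArg Subtype.val h1
    have e2 : x.1 * x.1 = 1 := congrArg Subtype.val h2
    have e3 : (szc * x.1 * (szu * x.1)) ^ 11 = 1 := congrArg Subtype.val h3
    rcases sz_centB x.1 x.2 e1 e2 e3 with h | h
    · left
      exact Subtype.ext h
    · right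
      exact Subtype.ext h
  · apply Subtype.ext
    rw [szSigma_apply]
    exact szs_conj_c
  · apply Subtype.ext
    rw [szSigma_apply]
    exact szs_conj_u
  · apply Subtype.ext
    rw [szSigma_apply]
    exact szs_conj_t
  · intro h
    exact szt2_ne (congrArg Subtype.val h)

/-- the outer automorphism group of the sporadic Suzuki group has order 2 -/
theorem suz_out_card : Nat.card (Cfsg.Out Cfsg.Spor.Suz) = 2 := by
  obtain ⟨ι⟩ := sz_model.1
  rw [out_card_congr_equiv ι]
  exact sz_out_card

end Cfsg.Agent.Lib.helper4
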