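import Mathlib
import Cfsg.Prelude.Def_Sporadic_a
import Cfsg.Prelude.Def_SporadicCombinatorics
import Cfsg.Agent.Lib.helper4.SextetStabOrbitsB
import Cfsg.Agent.Lib.helper4.OrbitCoatom

set_option autoImplicit false

namespace Cfsg.Agent.Lib.helper4

open Cfsg MulAction
open scoped Pointwise
open Cfsg.Agent.Lib.Helper12.Golay

theorem s52_arith : ∀ (I : Finset (Fin 4)) (i : Fin 4), i ∈ I →
    (∑ j ∈ I, s52SextN j) ∣ 138240 → I = {i} := by decide

theorem s52_arith_coatom : ∀ I : Finset (Fin (3 + 1)), (0 : Fin (3 + 1)) ∈ I →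
    (∀ i ∈ I, s52SextN i ≠ 0) → (∑ i ∈ I, s52SextN i) ∣ 1771 →
    I = {0} ∨ ∀ i, s52SextN i ≠ 0 → i ∈ I := by decide

theorem s52_inj : Function.Injective s52SextN := by decide

/-- The base case: the orbits of the stabiliser of the standard sextet on sextets. -/
theorem s52_base :
    (∀ i, (orbit ↥(stabilizer M24 S₀) (sextetOfSyn (s52SextRep i))).ncard = s52SextN i) ∧
    ∀ y, y ∈ sextets ↔ ∃ i, y ∈ orbit ↥(stabilizer M24 S₀) (sextetOfSyn (s52SextRep i)) := by
  obtain ⟨h1, h2, h3⟩ := s52Sext_checks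
  have hs : ∀ i, IsSext (s52SextRep i) := fun i => isSext_of_checks (h1 i)
  exact sextet_orbits (stabilizer M24 S₀) stabSGens stabSGens_mem s52SextIns
    s52SextN (by rw [card_stab_S₀]; exact s52_arith) s52SextRep hs h2 h3 (by decide)

theorem isCoatom_stab_S₀ : IsCoatom (stabilizer M24 S₀) := by
  obtain ⟨hc, hF⟩ := s52_base
  have h := isCoatom_of_orbits (G := M24) (k := 3) (fun i => sextetOfSyn (s52SextRep i))
    s52SextN sextets (Set.toFinite _)
    (by
      intro y
      constructor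
      · intro hy
        exact sextets_transitive y hy
      · rintro ⟨g, rfl⟩
        exact smul_sextets g.2 S₀_mem) hc hF s52_inj (by norm_num)
    (by rw [Cfsg.Agent.Lib.helper3.sextets_ncard]; exact s52_arith_coatom)
  exact h

theorem orbit_self_stab {G X : Type*} [Group G] [MulAction G X] (x : X) :
    orbit ↥(stabilizer G x) x = {x} := by
  ext y
  constructor
  · rintro ⟨⟨g, hg⟩, rfl⟩
    exact hg
  · rintro rfl
    exact mem_orbit_self _

theorem sextet_orbits_sextets (S : Finset (Finset GolayPt)) (hS : S ∈ sextets) :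
    ∃ X₁ ∈ sextets, ∃ X₂ ∈ sextets, ∃ X₃ ∈ sextets,
      (orbit ↥(stabilizer M24 S) X₁).ncard = 90 ∧ (orbit ↥(stabilizer M24 S) X₂).ncard = 240 ∧
      (orbit ↥(stabilizer M24 S) X₃).ncard = 1440 ∧
      sextets = {S} ∪ orbit ↥(stabilizer M24 S) X₁ ∪ orbit ↥(stabilizer M24 S) X₂ ∪
        orbit ↥(stabilizer M24 S) X₃ ∧ IsCoatom (stabilizer M24 S) := by
  obtain ⟨hc, hF⟩ := s52_base
  obtain ⟨k, rfl⟩ := sextets_transitive S hS
  have hs : ∀ i, sextetOfSyn (s52SextRep i) ∈ sextets := fun i =>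
    sextetOfSyn_mem (isSext_of_checks (s52Sext_checks.1 i))
  have hinv : ∀ g : M24, ∀ y ∈ sextets, g • y ∈ sextets := fun g y hy => smul_sextets g.2 hy
  refine ⟨k • sextetOfSyn (s52SextRep 1), hinv k _ (hs 1), k • sextetOfSyn (s52SextRep 2),
    hinv k _ (hs 2), k • sextetOfSyn (s52SextRep 3), hinv k _ (hs 3), ?_, ?_, ?_, ?_, ?_⟩
  · rw [ncard_orbit_stabilizer_smul]; exact hc 1
  · rw [ncard_orbit_stabilizer_smul]; exact hc 2
  · rw [ncard_orbit_stabilizer_smul]; exact hc 3
  · ext y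
    rw [orbit_stabilizer_smul, orbit_stabilizer_smul, orbit_stabilizer_smul, Set.mem_union,
      Set.mem_union, Set.mem_union, Set.mem_singleton_iff]
    have hy : y ∈ sextets ↔ k⁻¹ • y ∈ sextets := by
      constructor
      · exact fun h => hinv k⁻¹ y h
      · intro h
        have := hinv k _ h
        rwa [smul_inv_smul] at this
    have himg : ∀ s : Set (Finset (Finset GolayPt)), y ∈ (fun z => k • z) '' s ↔ k⁻¹ • y ∈ s := by
      intro s
      constructor
      · rintro ⟨z, hz, rfl⟩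
        rwa [inv_smul_smul]
      · intro h
        exact ⟨k⁻¹ • y, h, smul_inv_smul k y⟩
    have h0 : y = k • S₀ ↔ k⁻¹ • y ∈ orbit ↥(stabilizer M24 S₀) (sextetOfSyn (s52SextRep 0)) := by
      have e : sextetOfSyn (s52SextRep 0) = S₀ := rfl
      rw [e, orbit_self_stab, Set.mem_singleton_iff, inv_smul_eq_iff]
    rw [hy, hF, himg, himg, himg, h0, exists_fin4, or_assoc, or_assoc]
  · rw [stabilizer_smul_eq_stabilizer_map_conj]
    exact (OrderIso.isCoatom_iff (MulEquiv.mapSubgroup (MulAut.conj k))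
      (stabilizer M24 S₀)).mpr isCoatom_stab_S₀

end Cfsg.Agent.Lib.helper4
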