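import Mathlib
import Cfsg.Prelude.Def_Sporadic
import Cfsg.Agent.Lib.helper4.MathieuSimple

set_option autoImplicit false

namespace Cfsg.Agent.Lib.helper4

open Cfsg

section

variable {α : Type*} [Fintype α] [DecidableEq α]

theorem card_of_sharp (G : Subgroup (Equiv.Perm α)) (n : ℕ) (hn : n ≤ Fintype.card α)
    [MulAction.IsMultiplyPretransitive G α n]
    (hsharp : ∀ x : Fin n ↪ α, MulAction.stabilizer G x = ⊥) :
    Nat.card G = Nat.descFactorial (Fintype.card α) n := by
  have hne : Nonempty (Fin n ↪ α) := by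
    apply Function.Embedding.nonempty_of_card_le
    rw [Fintype.card_fin]
    exact hn
  obtain ⟨x⟩ := hne
  haveI : Finite G := Subtype.finite
  have h := card_stabilizer_emb_mul_card (G := G) n x
  have hs : Nat.card (MulAction.stabilizer G x) = 1 := by
    rw [hsharp x]
    exact Subgroup.card_bot
  have h' : 1 * Nat.card (Fin n ↪ α) = Nat.card G := by
    rw [← hs]
    exact h
  rw [one_mul, Nat.card_eq_fintype_card,
    Fintype.card_embedding_eq, Fintype.card_fin] at h'
  exact h'.symm

theorem emb_two_of_pretrans (G : Subgroup (Equiv.Perm α)) (n : ℕ) (hn2 : 2 ≤ n)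
    (hn : n ≤ Fintype.card α) [MulAction.IsMultiplyPretransitive G α n]
    (a b c : α) (hab : a ≠ b) (hac : a ≠ c) : ∃ g : G, g • a = a ∧ g • b = c := by
  haveI : MulAction.IsMultiplyPretransitive G α 2 :=
    MulAction.isMultiplyPretransitive_of_le (n := n) hn2 (by rw [Nat.card_eq_fintype_card]; exact hn)
  obtain ⟨g, hg⟩ := MulAction.exists_smul_eq G
    (Function.Embedding.embFinTwo hab) (Function.Embedding.embFinTwo hac)
  exact ⟨g, congrArg (fun f => f 0) hg, congrArg (fun f => f 1) hg⟩

theorem emb_three_of_pretrans (G : Subgroup (Equiv.Perm α)) (n : ℕ) (hn3 : 3 ≤ n)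
    (hn : n ≤ Fintype.card α) [MulAction.IsMultiplyPretransitive G α n]
    (a b c d : α) (hab : a ≠ b) (hac : a ≠ c) (hbc : b ≠ c) (had : a ≠ d) (hbd : b ≠ d) :
    ∃ g : G, g • a = a ∧ g • b = b ∧ g • c = d := by
  haveI : MulAction.IsMultiplyPretransitive G α 3 :=
    MulAction.isMultiplyPretransitive_of_le (n := n) hn3 (by rw [Nat.card_eq_fintype_card]; exact hn)
  obtain ⟨g, hg⟩ := MulAction.exists_smul_eq G (emb3 a b c hab hac hbc) (emb3 a b d hab had hbd)
  exact ⟨g, congrArg (fun f => f 0) hg, congrArg (fun f => f 1) hg, congrArg (fun f => f 2) hg⟩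

theorem sharp4_deg11 (hα : Fintype.card α = 11) (G : Subgroup (Equiv.Perm α))
    [MulAction.IsMultiplyPretransitive G α 4]
    (hsharp : ∀ x : Fin 4 ↪ α, MulAction.stabilizer G x = ⊥) : IsM11 G := by
  have hcard : Nat.card G = 7920 := by
    rw [card_of_sharp G 4 (by rw [hα]; norm_num) hsharp, hα]
    rfl
  haveI : Finite G := Subtype.finite
  haveI : Fact (Nat.Prime 11) := ⟨by norm_num⟩
  refine ⟨?_, hcard⟩
  apply simple_of_prime_degree (G := G) (α := α) (Set.univ : Set α) 11 5 720 (by norm_num)
  · rw [Set.ncard_univ, Nat.card_eq_fintype_card, hα]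
  · intro g x _
    exact Set.mem_univ _
  · intro g hg
    apply Subtype.ext
    apply Equiv.ext
    intro x
    exact hg x (Set.mem_univ x)
  · intro a _ b _ c _ hab hac
    exact emb_two_of_pretrans G 4 (by norm_num) (by rw [hα]; norm_num) a b c hab hac
  · rw [hcard]
  · norm_num
  · norm_num
  · exact arith11

theorem sharp5_deg12 (hα : Fintype.card α = 12) (G : Subgroup (Equiv.Perm α))
    [MulAction.IsMultiplyPretransitive G α 5]
    (hsharp : ∀ x : Fin 5 ↪ α, MulAction.stabilizer G x = ⊥) : IsM12 G := by
  have hcard : Nat.card G = 95040 := by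
    rw [card_of_sharp G 5 (by rw [hα]; norm_num) hsharp, hα]
    rfl
  haveI : Finite G := Subtype.finite
  haveI : Fact (Nat.Prime 11) := ⟨by norm_num⟩
  refine ⟨?_, hcard⟩
  have hne : Nonempty α := by
    rw [← Fintype.card_pos_iff, hα]; norm_num
  obtain ⟨a⟩ := hne
  haveI htr : MulAction.IsPretransitive G α := by
    haveI : MulAction.IsMultiplyPretransitive G α 2 :=
      MulAction.isMultiplyPretransitive_of_le (n := 5) (by norm_num)
        (by rw [Nat.card_eq_fintype_card, hα]; norm_num)
    exact MulAction.isPretransitive_of_is_two_pretransitive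
  have hcardS : Nat.card (MulAction.stabilizer G a) = 7920 := by
    have h := card_stabilizer_mul_card (G := G) a
    rw [Nat.card_eq_fintype_card (α := α), hα, hcard] at h
    omega
  have hsimple : IsSimpleGroup (MulAction.stabilizer G a) := by
    apply simple_of_prime_degree (G := MulAction.stabilizer G a) (α := α)
      {x : α | x ≠ a} 11 5 720 (by norm_num)
    · have : {x : α | x ≠ a} = ({a} : Set α)ᶜ := by
        ext x; simp
      rw [this, Set.ncard_compl, Nat.card_eq_fintype_card, hα, Set.ncard_singleton]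
    · intro g x hx hgx
      apply hx
      have hg : (g : G) • a = a := MulAction.mem_stabilizer_iff.mp g.2
      have : (g : G) • x = (g : G) • a := by rw [hg]; exact hgx
      exact MulAction.injective (g : G) this
    · intro g hg
      apply Subtype.ext
      apply Subtype.ext
      apply Equiv.ext
      intro x
      by_cases hx : x = a
      · rw [hx]
        exact MulAction.mem_stabilizer_iff.mp g.2
      · exact hg x hx
    · intro b hb c hc d hd hbc hbd
      obtain ⟨g, hga, hgb, hgc⟩ := emb_three_of_pretrans G 5 (by norm_num) (by rw [hα]; norm_num)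
        a b c d (Ne.symm hb) (Ne.symm hc) hbc (Ne.symm hd) hbd
      exact ⟨⟨g, MulAction.mem_stabilizer_iff.mpr hga⟩, hgb, hgc⟩
    · rw [hcardS]
    · norm_num
    · norm_num
    · exact arith11
  apply simple_of_simple_stabilizer (G := G) (α := α) (Set.univ : Set α) ?_ ?_ ?_ a
    (Set.mem_univ a) hsimple Set.finite_univ
  · rw [Set.ncard_univ, Nat.card_eq_fintype_card, hα]; norm_num
  · rw [Set.ncard_univ, Nat.card_eq_fintype_card, hα]
    exact ne_prime_pow_of_two_three 12 (by norm_num) (by norm_num)
  · intro g x _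
    exact Set.mem_univ _
  · intro g hg
    apply Subtype.ext
    apply Equiv.ext
    intro x
    exact hg x (Set.mem_univ x)
  · intro b _ c _ d _ hbc hbd
    exact emb_two_of_pretrans G 5 (by norm_num) (by rw [hα]; norm_num) b c d hbc hbd

end

end Cfsg.Agent.Lib.helper4
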