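import Mathlib
import Cfsg.Agent.Lib.Helper21.FrobeniusNPC

set_option autoImplicit false

namespace Cfsg.Agent.Lib.helper4

open Subgroup Cfsg.Agent.Lib.Helper21

section

variable {G : Type*} [Group G]

/-- conjugation by a normalizing element, as a permutation of the subgroup -/
def conjPerm (Q : Subgroup G) (g : G) (hg : g ∈ normalizer (Q : Set G)) : Equiv.Perm Q where
  toFun x := ⟨g * x * g⁻¹, (mem_normalizer_iff.mp hg x).mp x.2⟩
  invFun x := ⟨g⁻¹ * x * g, by
    have := (mem_normalizer_iff.mp ((normalizer (Q : Set G)).inv_mem hg) x).mp x.2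
    rwa [inv_inv] at this⟩
  left_inv x := by
    apply Subtype.ext
    show g⁻¹ * (g * x * g⁻¹) * g = x
    group
  right_inv x := by
    apply Subtype.ext
    show g * (g⁻¹ * x * g) * g⁻¹ = x
    group

theorem conjPerm_apply (Q : Subgroup G) (g : G) (hg : g ∈ normalizer (Q : Set G)) (x : Q) :
    ((conjPerm Q g hg x : Q) : G) = g * x * g⁻¹ := rfl

theorem conjPerm_pow (Q : Subgroup G) (g : G) (hg : g ∈ normalizer (Q : Set G)) (k : ℕ) (x : Q) :
    (((conjPerm Q g hg) ^ k) x : G) = g ^ k * x * (g ^ k)⁻¹ := by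
  induction k generalizing x with
  | zero => simp
  | succ k ih =>
    rw [pow_succ', Equiv.Perm.mul_apply, conjPerm_apply, ih, pow_succ']
    group

/-- a minimal-order odd element of `N(Q) \ C(Q)` has its `r`-th power in `C(Q)` for
`r` its smallest prime divisor -/
theorem exists_min_odd [Finite G] (Q : Subgroup G) (g : G) (hg : g ∈ normalizer (Q : Set G))
    (hgc : g ∉ centralizer (Q : Set G)) (hodd : Odd (orderOf g)) :
    ∃ h : G, h ∈ normalizer (Q : Set G) ∧ h ∉ centralizer (Q : Set G) ∧ Odd (orderOf h) ∧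
      ∃ r : ℕ, r.Prime ∧ r ≠ 2 ∧ r ∣ orderOf h ∧ h ^ r ∈ centralizer (Q : Set G) := by
  classical
  have hex : ∃ m : ℕ, ∃ h : G, h ∈ normalizer (Q : Set G) ∧ h ∉ centralizer (Q : Set G) ∧
      Odd (orderOf h) ∧ orderOf h = m := ⟨_, g, hg, hgc, hodd, rfl⟩
  obtain ⟨h, hhN, hhC, hhodd, hhm⟩ := Nat.find_spec hex
  have hmin := fun m hm => Nat.find_min hex (m := m) hm
  set m := Nat.find hex with hmdef
  have hm1 : m ≠ 1 := by
    intro h1
    rw [h1] at hhm
    rw [orderOf_eq_one_iff] at hhm
    apply hhC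
    rw [hhm]
    exact Subgroup.one_mem _
  have hmpos : 0 < m := by
    rw [← hhm]
    exact orderOf_pos h
  set r := m.minFac with hr
  have hrp : r.Prime := Nat.minFac_prime hm1
  have hrm : r ∣ m := Nat.minFac_dvd m
  have hr2 : r ≠ 2 := by
    intro h2
    rw [h2, ← hhm] at hrm
    exact (Nat.not_even_iff_odd.mpr hhodd) (even_iff_two_dvd.mpr hrm)
  refine ⟨h, hhN, hhC, hhodd, r, hrp, hr2, by rw [hhm]; exact hrm, ?_⟩
  by_contra hcon
  have hord : orderOf (h ^ r) = m / r := by
    rw [orderOf_pow' h hrp.ne_zero, hhm, Nat.gcd_eq_right hrm]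
  have hlt : m / r < m := Nat.div_lt_self hmpos hrp.one_lt
  apply hmin (m / r) hlt
  refine ⟨h ^ r, (normalizer (Q : Set G)).pow_mem hhN r, hcon, ?_, hord⟩
  rw [hord]
  have hdvd : m / r ∣ m := Nat.div_dvd_of_dvd hrm
  rw [← hhm] at hdvd
  exact Odd.of_dvd_nat hhodd (by rw [hhm] at hdvd ⊢; exact hdvd)

theorem arith_8 (q f r : ℕ) (hq : q ∣ 8) (hf : f ∣ q) (hlt : f < q) (hr : r.Prime) (hr2 : r ≠ 2)
    (hmod : r ∣ q - f) : (r = 3 ∧ 4 ∣ q) ∨ (r = 7 ∧ q = 8) := by
  have hq8 : q ≤ 8 := Nat.le_of_dvd (by norm_num) hq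
  have hqpos : 0 < q := Nat.pos_of_dvd_of_pos hq (by norm_num)
  have hfpos : 0 < f := Nat.pos_of_dvd_of_pos hf hqpos
  have hrle : r ≤ q - f := Nat.le_of_dvd (by omega) hmod
  have hr2' := hr.two_le
  interval_cases q
  all_goals first
    | (exfalso; revert hq; norm_num; done)
    | skip
  all_goals interval_cases f
  all_goals first
    | (exfalso; revert hf; norm_num; done)
    | skip
  all_goals interval_cases r
  all_goals first
    | (exfalso; exact hr2 rfl)
    | (exfalso; revert hr; norm_num; done)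
    | (exfalso; revert hmod; norm_num; done)
    | (left; exact ⟨rfl, by norm_num⟩)
    | (right; exact ⟨rfl, rfl⟩)

/-- the key local statement: a `2`-subgroup of order dividing 8 normalized but not centralized
by an element of odd order forces `3` (with `4 ∣ |Q|`) or `7` (with `|Q| = 8`) -/
theorem odd_action_small [Finite G] (Q : Subgroup G) (hQ8 : Nat.card Q ∣ 8) (g : G)
    (hg : g ∈ normalizer (Q : Set G)) (hgc : g ∉ centralizer (Q : Set G))
    (hodd : Odd (orderOf g)) :
    (3 ∣ Nat.card G ∧ 4 ∣ Nat.card Q) ∨ (7 ∣ Nat.card G ∧ Nat.card Q = 8) := by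
  classical
  obtain ⟨h, hhN, hhC, hhodd, r, hrp, hr2, hrh, hhr⟩ := exists_min_odd Q g hg hgc hodd
  haveI : Fact r.Prime := ⟨hrp⟩
  haveI : Fintype Q := Fintype.ofFinite Q
  set σ := conjPerm Q h hhN with hσ
  have hσr : σ ^ r ^ 1 = 1 := by
    rw [pow_one]
    ext x
    rw [conjPerm_pow, Equiv.Perm.one_apply]
    have := (mem_centralizer_iff.mp hhr) x x.2
    rw [← this]
    group
  have hmod := Equiv.Perm.card_compl_support_modEq hσr
  set F : Subgroup Q := (centralizer ({h} : Set G)).subgroupOf Q with hF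
  have hFcard : σ.supportᶜ.card = Nat.card F := by
    rw [Nat.card_eq_fintype_card]
    symm
    apply Fintype.card_of_subtype
    intro x
    rw [Finset.mem_compl, Equiv.Perm.notMem_support, hF, mem_subgroupOf,
      mem_centralizer_singleton_iff]
    constructor
    · intro hx
      have h1 : h * (x : G) * h⁻¹ = x := congrArg Subtype.val hx
      symm
      calc h * (x : G) = (h * x * h⁻¹) * h := by group
        _ = x * h := by rw [h1]
    · intro hx
      apply Subtype.ext
      show h * (x : G) * h⁻¹ = x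
      rw [← hx]
      group
  rw [hFcard, ← Nat.card_eq_fintype_card] at hmod
  have hFdvd : Nat.card F ∣ Nat.card Q := Subgroup.card_subgroup_dvd_card F
  have hFlt : Nat.card F < Nat.card Q := by
    have hle : Nat.card F ≤ Nat.card Q := Nat.le_of_dvd Nat.card_pos hFdvd
    rcases Nat.lt_or_ge (Nat.card F) (Nat.card Q) with hlt | hge
    · exact hlt
    exfalso
    have htop : F = ⊤ := Subgroup.eq_top_of_card_eq F (le_antisymm hle hge)
    apply hhC
    rw [mem_centralizer_iff]
    intro x hx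
    have hxF : (⟨x, hx⟩ : Q) ∈ F := by rw [htop]; exact Subgroup.mem_top _
    rw [hF, mem_subgroupOf, mem_centralizer_singleton_iff] at hxF
    exact hxF
  have hdvd : r ∣ Nat.card Q - Nat.card F := (Nat.modEq_iff_dvd' hFlt.le).mp hmod
  have hrG : r ∣ Nat.card G := hrh.trans (orderOf_dvd_natCard h)
  rcases arith_8 _ _ r hQ8 hFdvd hFlt hrp hr2 hdvd with ⟨h3, h4⟩ | ⟨h7, h8⟩
  · left
    exact ⟨h3 ▸ hrG, h4⟩
  · right
    exact ⟨h7 ▸ hrG, h8⟩

end

theorem simple_dvd_12_16_56 {G : Type*} [Group G] [Finite G] [IsSimpleGroup G]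
    (hG : ¬ IsMulCommutative G) (h2 : Even (Nat.card G)) :
    12 ∣ Nat.card G ∨ 16 ∣ Nat.card G ∨ 56 ∣ Nat.card G := by
  haveI : Fact (Nat.Prime 2) := ⟨Nat.prime_two⟩
  by_cases h16 : 16 ∣ Nat.card G
  · exact Or.inr (Or.inl h16)
  let P : Sylow 2 G := default
  have hP8 : Nat.card P ∣ 8 := by
    rw [P.card_eq_multiplicity]
    have hlt : (Nat.card G).factorization 2 < 4 := by
      by_contra hge
      push Not at hge
      apply h16
      have := (Nat.Prime.pow_dvd_iff_le_factorization Nat.prime_two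
        (Nat.card_pos (α := G)).ne').mpr hge
      simpa using this
    have : (2 : ℕ) ^ (Nat.card G).factorization 2 ∣ 2 ^ 3 := pow_dvd_pow 2 (by omega)
    simpa using this
  have hnotF : ¬ FrobHyp 2 G := by
    intro hF
    obtain ⟨N, hNn, hNc⟩ := hF.exists_normal_complement P
    have hcard := hNc.card_mul_card
    rcases hNn.eq_bot_or_eq_top with hbot | htop
    · -- G is a 2-group
      rw [hbot, Subgroup.card_bot, one_mul] at hcard
      have hPtop : (P : Subgroup G) = ⊤ := Subgroup.eq_top_of_card_eq _ hcard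
      have hpg : IsPGroup 2 G := by
        have := P.isPGroup'
        rw [hPtop] at this
        exact IsPGroup.of_equiv this Subgroup.topEquiv
      haveI : Nontrivial G := IsSimpleGroup.toNontrivial
      have hcne : Subgroup.center G ≠ ⊥ := by
        have := hpg.center_nontrivial
        exact (Subgroup.nontrivial_iff_ne_bot _).mp this
      have hctop : Subgroup.center G = ⊤ :=
        ((Subgroup.normal_of_characteristic (Subgroup.center G)).eq_bot_or_eq_top).resolve_left
          hcne
      apply hG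
      refine ⟨⟨fun a b => ?_⟩⟩
      have ha : a ∈ Subgroup.center G := by rw [hctop]; exact Subgroup.mem_top a
      exact (Subgroup.mem_center_iff.mp ha b).symm
    · rw [htop, Subgroup.card_top] at hcard
      have hP1 : Nat.card P = 1 := by
        have hpos : 0 < Nat.card G := Nat.card_pos
        have : Nat.card G * Nat.card P = Nat.card G * 1 := by rw [hcard, mul_one]
        exact Nat.eq_of_mul_eq_mul_left hpos this
      have := P.dvd_card_of_dvd_card (even_iff_two_dvd.mp h2)
      rw [hP1] at this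
      omega
  have hnot : ¬ ∀ Q : Subgroup G, Q ≤ (P : Subgroup G) → ∀ g ∈ normalizer (Q : Set G),
      Nat.Coprime (orderOf g) 2 → g ∈ centralizer (Q : Set G) := fun h => hnotF (frobHyp_of_sylow P h)
  push Not at hnot
  obtain ⟨Q, hQP, g, hgN, hcop, hgC⟩ := hnot
  have hQ8 : Nat.card Q ∣ 8 := (Subgroup.card_dvd_of_le hQP).trans hP8
  have hodd : Odd (orderOf g) := Nat.Coprime.odd_of_right hcop
  have hQG : Nat.card Q ∣ Nat.card G := Subgroup.card_subgroup_dvd_card Q
  rcases odd_action_small Q hQ8 g hgN hgC hodd with ⟨h3, h4⟩ | ⟨h7, h8⟩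
  · left
    have h4G : 4 ∣ Nat.card G := h4.trans hQG
    exact Nat.Coprime.mul_dvd_of_dvd_of_dvd (by norm_num : Nat.Coprime 3 4) h3 h4G
  · right; right
    have h8G : 8 ∣ Nat.card G := h8 ▸ hQG
    exact Nat.Coprime.mul_dvd_of_dvd_of_dvd (by norm_num : Nat.Coprime 7 8) h7 h8G

end Cfsg.Agent.Lib.helper4
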