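import Mathlib
import Cfsg.Agent.Lib.helper8.SylowBasic
import Cfsg.Agent.Lib.helper2.Burnside2
import Cfsg.Agent.Lib.Helper24.BrauerFowler

set_option autoImplicit false

namespace Cfsg.Agent.Lib.helper4

theorem arith_le_100 (n : ℕ) (h1 : 1 ≤ n) (h100 : n ≤ 100) (h60 : n ≠ 60) (h84 : n ≠ 84)
    (h4 : n % 4 ≠ 2) : ∃ p q a b : ℕ, p.Prime ∧ q.Prime ∧ n = p ^ a * q ^ b := by
  interval_cases n
  · exact ⟨2, 3, 0, 0, by norm_num, by norm_num, by norm_num⟩
  · exact absurd rfl h4
  · exact ⟨3, 2, 1, 0, by norm_num, by norm_num, by norm_num⟩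
  · exact ⟨2, 3, 2, 0, by norm_num, by norm_num, by norm_num⟩
  · exact ⟨5, 2, 1, 0, by norm_num, by norm_num, by norm_num⟩
  · exact absurd rfl h4
  · exact ⟨7, 2, 1, 0, by norm_num, by norm_num, by norm_num⟩
  · exact ⟨2, 3, 3, 0, by norm_num, by norm_num, by norm_num⟩
  · exact ⟨3, 2, 2, 0, by norm_num, by norm_num, by norm_num⟩
  · exact absurd rfl h4
  · exact ⟨11, 2, 1, 0, by norm_num, by norm_num, by norm_num⟩
  · exact ⟨2, 3, 2, 1, by norm_num, by norm_num, by norm_num⟩
  · exact ⟨13, 2, 1, 0, by norm_num, by norm_num, by norm_num⟩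
  · exact absurd rfl h4
  · exact ⟨3, 5, 1, 1, by norm_num, by norm_num, by norm_num⟩
  · exact ⟨2, 3, 4, 0, by norm_num, by norm_num, by norm_num⟩
  · exact ⟨17, 2, 1, 0, by norm_num, by norm_num, by norm_num⟩
  · exact absurd rfl h4
  · exact ⟨19, 2, 1, 0, by norm_num, by norm_num, by norm_num⟩
  · exact ⟨2, 5, 2, 1, by norm_num, by norm_num, by norm_num⟩
  · exact ⟨3, 7, 1, 1, by norm_num, by norm_num, by norm_num⟩
  · exact absurd rfl h4
  · exact ⟨23, 2, 1, 0, by norm_num, by norm_num, by norm_num⟩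
  · exact ⟨2, 3, 3, 1, by norm_num, by norm_num, by norm_num⟩
  · exact ⟨5, 2, 2, 0, by norm_num, by norm_num, by norm_num⟩
  · exact absurd rfl h4
  · exact ⟨3, 2, 3, 0, by norm_num, by norm_num, by norm_num⟩
  · exact ⟨2, 7, 2, 1, by norm_num, by norm_num, by norm_num⟩
  · exact ⟨29, 2, 1, 0, by norm_num, by norm_num, by norm_num⟩
  · exact absurd rfl h4
  · exact ⟨31, 2, 1, 0, by norm_num, by norm_num, by norm_num⟩
  · exact ⟨2, 3, 5, 0, by norm_num, by norm_num, by norm_num⟩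
  · exact ⟨3, 11, 1, 1, by norm_num, by norm_num, by norm_num⟩
  · exact absurd rfl h4
  · exact ⟨5, 7, 1, 1, by norm_num, by norm_num, by norm_num⟩
  · exact ⟨2, 3, 2, 2, by norm_num, by norm_num, by norm_num⟩
  · exact ⟨37, 2, 1, 0, by norm_num, by norm_num, by norm_num⟩
  · exact absurd rfl h4
  · exact ⟨3, 13, 1, 1, by norm_num, by norm_num, by norm_num⟩
  · exact ⟨2, 5, 3, 1, by norm_num, by norm_num, by norm_num⟩
  · exact ⟨41, 2, 1, 0, by norm_num, by norm_num, by norm_num⟩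
  · exact absurd rfl h4
  · exact ⟨43, 2, 1, 0, by norm_num, by norm_num, by norm_num⟩
  · exact ⟨2, 11, 2, 1, by norm_num, by norm_num, by norm_num⟩
  · exact ⟨3, 5, 2, 1, by norm_num, by norm_num, by norm_num⟩
  · exact absurd rfl h4
  · exact ⟨47, 2, 1, 0, by norm_num, by norm_num, by norm_num⟩
  · exact ⟨2, 3, 4, 1, by norm_num, by norm_num, by norm_num⟩
  · exact ⟨7, 2, 2, 0, by norm_num, by norm_num, by norm_num⟩
  · exact absurd rfl h4
  · exact ⟨3, 17, 1, 1, by norm_num, by norm_num, by norm_num⟩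
  · exact ⟨2, 13, 2, 1, by norm_num, by norm_num, by norm_num⟩
  · exact ⟨53, 2, 1, 0, by norm_num, by norm_num, by norm_num⟩
  · exact absurd rfl h4
  · exact ⟨5, 11, 1, 1, by norm_num, by norm_num, by norm_num⟩
  · exact ⟨2, 7, 3, 1, by norm_num, by norm_num, by norm_num⟩
  · exact ⟨3, 19, 1, 1, by norm_num, by norm_num, by norm_num⟩
  · exact absurd rfl h4
  · exact ⟨59, 2, 1, 0, by norm_num, by norm_num, by norm_num⟩
  · exact absurd rfl h60
  · exact ⟨61, 2, 1, 0, by norm_num, by norm_num, by norm_num⟩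
  · exact absurd rfl h4
  · exact ⟨3, 7, 2, 1, by norm_num, by norm_num, by norm_num⟩
  · exact ⟨2, 3, 6, 0, by norm_num, by norm_num, by norm_num⟩
  · exact ⟨5, 13, 1, 1, by norm_num, by norm_num, by norm_num⟩
  · exact absurd rfl h4
  · exact ⟨67, 2, 1, 0, by norm_num, by norm_num, by norm_num⟩
  · exact ⟨2, 17, 2, 1, by norm_num, by norm_num, by norm_num⟩
  · exact ⟨3, 23, 1, 1, by norm_num, by norm_num, by norm_num⟩
  · exact absurd rfl h4
  · exact ⟨71, 2, 1, 0, by norm_num, by norm_num, by norm_num⟩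
  · exact ⟨2, 3, 3, 2, by norm_num, by norm_num, by norm_num⟩
  · exact ⟨73, 2, 1, 0, by norm_num, by norm_num, by norm_num⟩
  · exact absurd rfl h4
  · exact ⟨3, 5, 1, 2, by norm_num, by norm_num, by norm_num⟩
  · exact ⟨2, 19, 2, 1, by norm_num, by norm_num, by norm_num⟩
  · exact ⟨7, 11, 1, 1, by norm_num, by norm_num, by norm_num⟩
  · exact absurd rfl h4
  · exact ⟨79, 2, 1, 0, by norm_num, by norm_num, by norm_num⟩
  · exact ⟨2, 5, 4, 1, by norm_num, by norm_num, by norm_num⟩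
  · exact ⟨3, 2, 4, 0, by norm_num, by norm_num, by norm_num⟩
  · exact absurd rfl h4
  · exact ⟨83, 2, 1, 0, by norm_num, by norm_num, by norm_num⟩
  · exact absurd rfl h84
  · exact ⟨5, 17, 1, 1, by norm_num, by norm_num, by norm_num⟩
  · exact absurd rfl h4
  · exact ⟨3, 29, 1, 1, by norm_num, by norm_num, by norm_num⟩
  · exact ⟨2, 11, 3, 1, by norm_num, by norm_num, by norm_num⟩
  · exact ⟨89, 2, 1, 0, by norm_num, by norm_num, by norm_num⟩
  · exact absurd rfl h4
  · exact ⟨7, 13, 1, 1, by norm_num, by norm_num, by norm_num⟩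
  · exact ⟨2, 23, 2, 1, by norm_num, by norm_num, by norm_num⟩
  · exact ⟨3, 31, 1, 1, by norm_num, by norm_num, by norm_num⟩
  · exact absurd rfl h4
  · exact ⟨5, 19, 1, 1, by norm_num, by norm_num, by norm_num⟩
  · exact ⟨2, 3, 5, 1, by norm_num, by norm_num, by norm_num⟩
  · exact ⟨97, 2, 1, 0, by norm_num, by norm_num, by norm_num⟩
  · exact absurd rfl h4
  · exact ⟨3, 11, 2, 1, by norm_num, by norm_num, by norm_num⟩
  · exact ⟨2, 5, 2, 2, by norm_num, by norm_num, by norm_num⟩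

theorem simple_order_le_100 {G : Type*} [Group G] [Finite G] [IsSimpleGroup G]
    (hG : ¬ IsCyclic G) (h : Nat.card G ≤ 100) : Nat.card G = 60 := by
  by_contra h60
  have hns : ¬ Group.IsSolvable G := by
    intro hs
    have hcomm : ∀ a b : G, a * b = b * a := IsSimpleGroup.comm_iff_isSolvable.mpr hs
    let _inst : CommGroup G := { (inferInstance : Group G) with mul_comm := hcomm }
    exact hG (IsSimpleGroup.isCyclic)
  have h1 : 1 ≤ Nat.card G := Nat.card_pos
  by_cases h4 : Nat.card G % 4 = 2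
  · -- 2 * odd
    have hodd : Odd (Nat.card G / 2) := by
      rw [Nat.odd_iff]; omega
    have hg : Nat.card G = 2 * (Nat.card G / 2) := by omega
    obtain ⟨K, hK⟩ := Cfsg.Agent.Lib.Helper24.bf_two_odd _ hodd hg
    haveI : K.Normal := Subgroup.normal_of_index_eq_two hK
    rcases IsSimpleGroup.eq_bot_or_eq_top_of_normal K inferInstance with hb | ht
    · rw [hb, Subgroup.index_bot] at hK
      haveI : Fact (Nat.Prime 2) := ⟨Nat.prime_two⟩
      exact hG (isCyclic_of_prime_card hK)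
    · rw [ht, Subgroup.index_top] at hK
      omega
  · by_cases h84 : Nat.card G = 84
    · haveI : Fact (Nat.Prime 7) := ⟨by norm_num⟩
      have hcard : Nat.card G = 7 ^ 1 * 12 := by rw [h84]; norm_num
      have hmem := Cfsg.Agent.Lib.helper8.h8_nsylow_mem 7 1 12 hcard (by norm_num)
      have hfil : (Nat.divisors 12).filter (fun d => d % 7 = 1) = {1} := by decide
      rw [hfil, Finset.mem_singleton] at hmem
      exact Cfsg.Agent.Lib.helper8.h8_simple_nsylow_ne_one 7 1 12 hcard (by norm_num)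
        (by norm_num) (by norm_num) hmem
    · obtain ⟨p, q, a, b, hp, hq, hn⟩ := arith_le_100 _ h1 h h60 h84 h4
      exact hns (Cfsg.Agent.Lib.helper2.burnside_pq p q a b hp hq hn)

end Cfsg.Agent.Lib.helper4
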