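import Mathlib
import Cfsg.Prelude.Def_Sporadic_a
import Cfsg.Prelude.Def_SporadicCombinatorics
import Cfsg.Agent.Lib.helper4.Syl7
import Cfsg.Agent.Lib.helper4.SextetKerB

set_option autoImplicit false

namespace Cfsg.Agent.Lib.helper4

open Cfsg MulAction
open scoped Pointwise
open Cfsg.Agent.Lib.Helper12.Golay

/-! ### The normaliser of a subgroup of order 7 -/

/-- The standard element of order 7. -/
noncomputable def ρ₇ : Equiv.Perm GolayPt := fperm rho7

theorem tblOf_ρ₇ : tblOf ρ₇ = rho7 := tblOf_fperm (okK_valid rho7_checks.1)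

theorem ρ₇_mem : ρ₇ ∈ M24 := fperm_mem rho7_checks.1

theorem tblOf_ρ₇_pow : ∀ j ≤ 6, tblOf (ρ₇ ^ j) = pw7.getD j [] := by
  obtain ⟨_, _, h0, _, hstep, _⟩ := rho7_checks
  intro j
  induction j with
  | zero => intro _; rw [pow_zero, tblOf_one, h0]
  | succ j ih =>
    intro hj
    rw [pow_succ', tblOf_mul, tblOf_ρ₇, ih (by omega), hstep j (by omega)]

theorem ρ₇_pow_seven : ρ₇ ^ 7 = 1 := by
  apply tblOf_injective
  rw [pow_succ', tblOf_mul, tblOf_ρ₇, tblOf_ρ₇_pow 6 le_rfl, rho7_checks.2.2.2.2.2.1, tblOf_one]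

theorem ρ₇_ne_one : ρ₇ ≠ 1 := by
  intro h
  apply rho7_checks.2.2.2.2.2.2.1
  rw [← tblOf_ρ₇, h, tblOf_one]

theorem orderOf_ρ₇ : orderOf ρ₇ = 7 := by
  have : Fact (Nat.Prime 7) := ⟨by norm_num⟩
  exact orderOf_eq_prime ρ₇_pow_seven ρ₇_ne_one

theorem testPts_lt : ∀ i ∈ testPts, i < 24 := by decide

/-- An element normalising with exponent `j` has its table in the list. -/
theorem tblOf_mem_N126 {n : Equiv.Perm GolayPt} (hn : n ∈ M24) {j : ℕ}
    (hj : j ∈ [1, 2, 3, 4, 5, 6]) (h : n * ρ₇ = ρ₇ ^ j * n) : tblOf n ∈ N126 := by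
  have hj6 : j ≤ 6 := by
    simp only [List.mem_cons, List.not_mem_nil, or_false] at hj
    omega
  obtain ⟨hokR, _, _, _, _, _, _, hfixP, r0, r12, r14, r16, _⟩ := rho7_checks
  have hvR := okK_valid hokR
  set T := tblOf n with hT
  set P := pw7.getD j [] with hP
  have hTlt : ∀ i, T.getD i 0 < 24 := fun i => getD_lt_of_valid (tblOf_lt n) i
  have hrel : ∀ i < 24, T.getD (rho7.getD i 0) 0 = P.getD (T.getD i 0) 0 := by
    intro i hi
    have e := congrArg tblOf h
    rw [tblOf_mul, tblOf_mul, tblOf_ρ₇, tblOf_ρ₇_pow j hj6] at e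
    have e2 : (compTbl (tblOf n) rho7).getD i 0 = (compTbl (pw7.getD j []) (tblOf n)).getD i 0 := by
      rw [e]
    rwa [compTbl_getD _ _ hi, compTbl_getD _ _ hi] at e2
  have hinj : ∀ i < 24, ∀ k < 24, T.getD i 0 = T.getD k 0 → i = k := by
    intro i hi k hk hh
    rw [hT, tblOf_getD n hi, tblOf_getD n hk] at hh
    exact pt_injOn hi hk (n.injective (idx_injective hh))
  have hfix : ∀ f < 24, rho7.getD f 0 = f → T.getD f 0 ∈ [0, 12, 14] := by
    intro f hf hrf
    apply hfixP j hj _ (hTlt f)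
    have := hrel f hf
    rw [hrf] at this
    exact this.symm
  have hc := fam756_complete
  simp only [List.all_eq_true] at hc
  have h5 := hc _ (hfix 0 (by norm_num) r0) _ (hfix 12 (by norm_num) r12) _
    (hfix 14 (by norm_num) r14) (T.getD 16 0) (List.mem_range.mpr (hTlt 16)) j hj
  simp only [Bool.or_eq_true, natBeq_iff, List.any_eq_true, Bool.and_eq_true] at h5
  have hne : ∀ i < 24, ∀ k < 24, i ≠ k → T.getD i 0 ≠ T.getD k 0 :=
    fun i hi k hk hik hh => hik (hinj i hi k hk hh)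
  rcases h5 with (((((hh | hh) | hh) | hh) | hh) | hh) | h5
  · exact absurd hh (hne 0 (by norm_num) 12 (by norm_num) (by norm_num))
  · exact absurd hh (hne 0 (by norm_num) 14 (by norm_num) (by norm_num))
  · exact absurd hh (hne 12 (by norm_num) 14 (by norm_num) (by norm_num))
  · exact absurd hh (hne 16 (by norm_num) 0 (by norm_num) (by norm_num))
  · exact absurd hh (hne 16 (by norm_num) 12 (by norm_num) (by norm_num))
  · exact absurd hh (hne 16 (by norm_num) 14 (by norm_num) (by norm_num))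
  obtain ⟨⟨H, j'⟩, hH, ⟨⟨⟨⟨⟨cj, c0⟩, c1⟩, c2⟩, c3⟩, c4⟩⟩ := h5
  simp only at cj c0 c1 c2 c3 c4
  subst cj
  have hoks := fam756_oks
  rw [List.all_eq_true] at hoks
  have hokH : okK H = true := hoks _ hH
  have c4' : H.getD 17 0 = T.getD 17 0 := by
    rw [c4, ← hP, ← hrel 16 (by norm_num), r16]
  obtain ⟨K, hK, e⟩ := enum5 hn hokH (by
    intro i hi
    have : n (pt (b5 i)) = pt (T.getD (b5 i) 0) := by
      rw [hT, tblOf_getD n (b5_lt i), pt_idx]
    rw [this]
    interval_cases i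
    · show pt (T.getD 0 0) = pt (H.getD 0 0)
      rw [c0]
    · show pt (T.getD 12 0) = pt (H.getD 12 0)
      rw [c1]
    · show pt (T.getD 14 0) = pt (H.getD 14 0)
      rw [c2]
    · show pt (T.getD 16 0) = pt (H.getD 16 0)
      rw [c3]
    · show pt (T.getD 17 0) = pt (H.getD 17 0)
      rw [c4'])
  have hcomp := n126_complete
  rw [List.all_eq_true] at hcomp
  have h6 := hcomp _ hH
  rw [List.all_eq_true] at h6
  have h7 := h6 K hK
  have hq : quickNorm H K j' = true := by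
    unfold quickNorm
    rw [List.all_eq_true]
    intro i hi
    have hi24 := testPts_lt i hi
    rw [natBeq_iff, ← compTbl_getD H K (getD_lt_of_valid hvR.2.1 i), ← compTbl_getD H K hi24, ← e]
    exact hrel i hi24
  simp only at h7
  rw [hq] at h7
  simp only [Bool.not_true, Bool.false_or, List.contains_iff_mem] at h7
  rw [show T = compTbl H K from e]
  exact h7

/-- The listed tables normalise. -/
theorem N126_spec {L : List ℕ} (hL : L ∈ N126) : okK L = true ∧
    ∃ j ∈ [1, 2, 3, 4, 5, 6], fperm L * ρ₇ = ρ₇ ^ j * fperm L := by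
  have h := n126_checks.2.2.1
  rw [List.all_eq_true] at h
  have h1 := h L hL
  rw [Bool.and_eq_true, List.any_eq_true] at h1
  obtain ⟨hok, j, hj, hrel⟩ := h1
  rw [beq_iff_eq] at hrel
  refine ⟨hok, j, hj, ?_⟩
  have hj6 : j ≤ 6 := by
    simp only [List.mem_cons, List.not_mem_nil, or_false] at hj
    omega
  apply tblOf_injective
  rw [tblOf_mul, tblOf_mul, tblOf_fperm (okK_valid hok), tblOf_ρ₇, tblOf_ρ₇_pow j hj6, hrel]

end Cfsg.Agent.Lib.helper4
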