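import Mathlib
import Cfsg.Prelude.Def_Sporadic_a
import Cfsg.Prelude.Def_SporadicCombinatorics
import Cfsg.Agent.Lib.helper4.Syl7B
import Cfsg.Agent.Lib.helper4.ElemOrder3

set_option autoImplicit false

namespace Cfsg.Agent.Lib.helper4

open Cfsg MulAction
open scoped Pointwise
open Cfsg.Agent.Lib.Helper12.Golay

/-! ### Normaliser and centraliser of a cyclic group of order 7, abstractly -/

section abstract

variable {G : Type*} [Group G]

theorem zpow_eq_pow_of_order7 {σ : G} (h7 : orderOf σ = 7) (z : ℤ) :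
    ∃ j ∈ [0, 1, 2, 3, 4, 5, 6], σ ^ z = σ ^ j := by
  have h1 := zpow_mod_orderOf σ z
  rw [h7] at h1
  have hnn : 0 ≤ z % 7 := Int.emod_nonneg z (by norm_num)
  have hlt : z % 7 < 7 := Int.emod_lt_of_pos z (by norm_num)
  refine ⟨(z % 7).toNat, ?_, ?_⟩
  · have : (z % 7).toNat < 7 := by omega
    simp only [List.mem_cons, List.not_mem_nil, or_false]
    omega
  · rw [← h1, ← zpow_natCast, Int.toNat_of_nonneg hnn]
    rfl

theorem mem_normalizer_zpowers7 {σ : G} (h7 : orderOf σ = 7) (n : G) :
    n ∈ Subgroup.normalizer (Subgroup.zpowers σ : Set G) ↔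
      ∃ j ∈ [1, 2, 3, 4, 5, 6], n * σ = σ ^ j * n := by
  constructor
  · intro hn
    have h1 := (Subgroup.mem_normalizer_iff.mp hn σ).mp (Subgroup.mem_zpowers σ)
    obtain ⟨z, hz⟩ := Subgroup.mem_zpowers_iff.mp h1
    obtain ⟨j, hj, hzj⟩ := zpow_eq_pow_of_order7 h7 z
    have hrel : n * σ = σ ^ j * n := by
      rw [← hzj, hz]
      group
    have hj0 : j ≠ 0 := by
      rintro rfl
      rw [pow_zero, one_mul] at hrel
      have : σ = 1 := by
        have := mul_left_cancel (a := n) (b := σ) (c := 1) (by rw [hrel, mul_one])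
        exact this
      rw [this, orderOf_one] at h7
      norm_num at h7
    refine ⟨j, ?_, hrel⟩
    simp only [List.mem_cons, List.not_mem_nil, or_false] at hj ⊢
    omega
  · rintro ⟨j, _, hrel⟩
    have : Finite (Subgroup.zpowers σ : Set G) := by
      have : Finite ↥(Subgroup.zpowers σ) := by
        apply Nat.finite_of_card_ne_zero
        rw [Nat.card_zpowers, h7]
        norm_num
      exact this
    apply Subgroup.mem_normalizer_fintype
    intro h hh
    obtain ⟨z, rfl⟩ := Subgroup.mem_zpowers_iff.mp hh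
    have hc : n * σ * n⁻¹ = σ ^ j := by rw [hrel]; group
    have : n * σ ^ z * n⁻¹ = (σ ^ j) ^ z := by
      rw [← hc, conj_zpow]
    rw [SetLike.mem_coe, this]
    exact Subgroup.zpow_mem _ (Subgroup.pow_mem _ (Subgroup.mem_zpowers σ) j) z

theorem mem_centralizer_zpowers {σ : G} (c : G) :
    c ∈ Subgroup.centralizer (Subgroup.zpowers σ : Set G) ↔ c * σ = σ * c := by
  rw [Subgroup.mem_centralizer_iff]
  constructor
  · intro h
    exact (h σ (Subgroup.mem_zpowers σ)).symm
  · intro h x hx
    obtain ⟨z, rfl⟩ := Subgroup.mem_zpowers_iff.mp hx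
    exact ((Commute.zpow_right (show Commute c σ from h) z).eq).symm

end abstract

end Cfsg.Agent.Lib.helper4
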