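import Mathlib
import Cfsg.Prelude.Def_Sporadic_a
import Cfsg.Prelude.Def_SporadicCombinatorics
import Cfsg.Agent.Lib.helper4.Syl7C

set_option autoImplicit false

namespace Cfsg.Agent.Lib.helper4

open Cfsg MulAction
open scoped Pointwise
open Cfsg.Agent.Lib.Helper12.Golay

/-- The standard element of order 7 as an element of the group of the code. -/
noncomputable def ρM : ↥M24 := ⟨ρ₇, ρ₇_mem⟩

theorem orderOf_ρM : orderOf ρM = 7 := by
  rw [← Subgroup.orderOf_coe]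
  exact orderOf_ρ₇

theorem conj_rel_iff (n k ρ : Equiv.Perm GolayPt) (j : ℕ) :
    n * (k * ρ * k⁻¹) = (k * ρ * k⁻¹) ^ j * n ↔ (k⁻¹ * n * k) * ρ = ρ ^ j * (k⁻¹ * n * k) := by
  rw [conj_pow]
  generalize ρ ^ j = R
  constructor
  · intro h
    calc k⁻¹ * n * k * ρ = k⁻¹ * (n * (k * ρ * k⁻¹)) * k := by group
      _ = k⁻¹ * (k * R * k⁻¹ * n) * k := by rw [h]
      _ = R * (k⁻¹ * n * k) := by group
  · intro h
    calc n * (k * ρ * k⁻¹) = k * (k⁻¹ * n * k * ρ) * k⁻¹ := by group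
      _ = k * (R * (k⁻¹ * n * k)) * k⁻¹ := by rw [h]
      _ = k * R * k⁻¹ * n := by group

/-- The tables of the centraliser. -/
def C42 : List (List ℕ) := N126.filter fun L => compTbl L rho7 == compTbl rho7 L

section

variable (k : ↥M24)

/-- A conjugate of the standard element of order 7. -/
noncomputable def σk : ↥M24 := k * ρM * k⁻¹

theorem orderOf_σk : orderOf (σk k) = 7 := by
  have := MulEquiv.orderOf_eq (MulAut.conj k) ρM
  rw [MulAut.conj_apply] at this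
  unfold σk
  rw [this]
  exact orderOf_ρM

theorem σk_coe : ((σk k : ↥M24) : Equiv.Perm GolayPt) =
    (k : Equiv.Perm GolayPt) * ρ₇ * (k : Equiv.Perm GolayPt)⁻¹ := rfl

theorem rel_iff (n : ↥M24) (j : ℕ) : n * σk k = σk k ^ j * n ↔
    ((k : Equiv.Perm GolayPt)⁻¹ * (n : Equiv.Perm GolayPt) * (k : Equiv.Perm GolayPt)) * ρ₇ =
      ρ₇ ^ j * ((k : Equiv.Perm GolayPt)⁻¹ * (n : Equiv.Perm GolayPt) * (k : Equiv.Perm GolayPt)) := by
  rw [← conj_rel_iff]
  constructor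
  · intro h
    have := congrArg (fun z : ↥M24 => (z : Equiv.Perm GolayPt)) h
    exact this
  · intro h
    exact Subtype.ext h

theorem conj_inj {a b : ↥M24}
    (h : (k : Equiv.Perm GolayPt)⁻¹ * (a : Equiv.Perm GolayPt) * (k : Equiv.Perm GolayPt) =
      (k : Equiv.Perm GolayPt)⁻¹ * (b : Equiv.Perm GolayPt) * (k : Equiv.Perm GolayPt)) : a = b := by
  apply Subtype.ext
  calc (a : Equiv.Perm GolayPt) = (k : Equiv.Perm GolayPt) * ((k : Equiv.Perm GolayPt)⁻¹ *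
        (a : Equiv.Perm GolayPt) * (k : Equiv.Perm GolayPt)) * (k : Equiv.Perm GolayPt)⁻¹ := by group
    _ = (k : Equiv.Perm GolayPt) * ((k : Equiv.Perm GolayPt)⁻¹ *
        (b : Equiv.Perm GolayPt) * (k : Equiv.Perm GolayPt)) * (k : Equiv.Perm GolayPt)⁻¹ := by rw [h]
    _ = b := by group

theorem card_normalizer_σk :
    Nat.card ↥(Subgroup.normalizer (Subgroup.zpowers (σk k) : Set ↥M24)) = 126 := by
  obtain ⟨hlen, hnd, _⟩ := n126_checks
  rw [card_of_tables (fun n : ↥(Subgroup.normalizer (Subgroup.zpowers (σk k) : Set ↥M24)) =>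
    tblOf ((k : Equiv.Perm GolayPt)⁻¹ * (n.1 : Equiv.Perm GolayPt) * (k : Equiv.Perm GolayPt)))
    (fun a b h => Subtype.ext (conj_inj k (tblOf_injective h))) N126 (nodupL_spec hnd) ?_ ?_]
  · exact hlen
  · rintro ⟨n, hn⟩
    obtain ⟨j, hj, hrel⟩ := (mem_normalizer_zpowers7 (orderOf_σk k) n).mp hn
    exact tblOf_mem_N126 (M24.mul_mem (M24.mul_mem (M24.inv_mem k.2) n.2) k.2) hj
      ((rel_iff k n j).mp hrel)
  · intro L hL
    obtain ⟨hok, j, hj, hrel⟩ := N126_spec hL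
    have hmem : (k : Equiv.Perm GolayPt) * fperm L * (k : Equiv.Perm GolayPt)⁻¹ ∈ M24 :=
      M24.mul_mem (M24.mul_mem k.2 (fperm_mem hok)) (M24.inv_mem k.2)
    have hcancel : (k : Equiv.Perm GolayPt)⁻¹ * ((k : Equiv.Perm GolayPt) * fperm L *
        (k : Equiv.Perm GolayPt)⁻¹) * (k : Equiv.Perm GolayPt) = fperm L := by group
    refine ⟨⟨⟨_, hmem⟩, ?_⟩, ?_⟩
    · rw [mem_normalizer_zpowers7 (orderOf_σk k)]
      refine ⟨j, hj, (rel_iff k _ j).mpr ?_⟩
      show ((k : Equiv.Perm GolayPt)⁻¹ * ((k : Equiv.Perm GolayPt) * fperm L *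
        (k : Equiv.Perm GolayPt)⁻¹) * (k : Equiv.Perm GolayPt)) * ρ₇ = _
      rw [hcancel]
      exact hrel
    · show tblOf ((k : Equiv.Perm GolayPt)⁻¹ * ((k : Equiv.Perm GolayPt) * fperm L *
        (k : Equiv.Perm GolayPt)⁻¹) * (k : Equiv.Perm GolayPt)) = L
      rw [hcancel, tblOf_fperm (okK_valid hok)]

theorem comm_iff (c : ↥M24) : c * σk k = σk k * c ↔
    ((k : Equiv.Perm GolayPt)⁻¹ * (c : Equiv.Perm GolayPt) * (k : Equiv.Perm GolayPt)) * ρ₇ =
      ρ₇ * ((k : Equiv.Perm GolayPt)⁻¹ * (c : Equiv.Perm GolayPt) * (k : Equiv.Perm GolayPt)) := by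
  have := rel_iff k c 1
  rwa [pow_one, pow_one] at this

theorem mem_C42_iff {L : List ℕ} (hL : L ∈ N126) :
    L ∈ C42 ↔ fperm L * ρ₇ = ρ₇ * fperm L := by
  have hv := okK_valid (N126_spec hL).1
  unfold C42
  rw [List.mem_filter, beq_iff_eq]
  constructor
  · rintro ⟨_, h⟩
    apply tblOf_injective
    rw [tblOf_mul, tblOf_mul, tblOf_fperm hv, tblOf_ρ₇, h]
  · intro h
    refine ⟨hL, ?_⟩
    have := congrArg tblOf h
    rwa [tblOf_mul, tblOf_mul, tblOf_fperm hv, tblOf_ρ₇] at this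

theorem card_centralizer_σk :
    Nat.card ↥(Subgroup.centralizer (Subgroup.zpowers (σk k) : Set ↥M24)) = 42 := by
  obtain ⟨_, hnd, _, h42, _⟩ := n126_checks
  have hCnd : C42.Nodup := (nodupL_spec hnd).filter _
  rw [card_of_tables (fun n : ↥(Subgroup.centralizer (Subgroup.zpowers (σk k) : Set ↥M24)) =>
    tblOf ((k : Equiv.Perm GolayPt)⁻¹ * (n.1 : Equiv.Perm GolayPt) * (k : Equiv.Perm GolayPt)))
    (fun a b h => Subtype.ext (conj_inj k (tblOf_injective h))) C42 hCnd ?_ ?_]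
  · exact h42
  · rintro ⟨c, hc⟩
    have hrel := (mem_centralizer_zpowers c).mp hc
    have hrel' := (comm_iff k c).mp hrel
    have hN : tblOf ((k : Equiv.Perm GolayPt)⁻¹ * (c : Equiv.Perm GolayPt) *
        (k : Equiv.Perm GolayPt)) ∈ N126 :=
      tblOf_mem_N126 (j := 1) (M24.mul_mem (M24.mul_mem (M24.inv_mem k.2) c.2) k.2) (by decide)
        (by rw [pow_one]; exact hrel')
    show tblOf _ ∈ C42
    rw [mem_C42_iff hN, ← eq_fperm_tblOf]
    exact hrel'
  · intro L hL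
    have hLN : L ∈ N126 := (List.mem_filter.mp hL).1
    obtain ⟨hok, _⟩ := N126_spec hLN
    have hrel := (mem_C42_iff hLN).mp hL
    have hmem : (k : Equiv.Perm GolayPt) * fperm L * (k : Equiv.Perm GolayPt)⁻¹ ∈ M24 :=
      M24.mul_mem (M24.mul_mem k.2 (fperm_mem hok)) (M24.inv_mem k.2)
    have hcancel : (k : Equiv.Perm GolayPt)⁻¹ * ((k : Equiv.Perm GolayPt) * fperm L *
        (k : Equiv.Perm GolayPt)⁻¹) * (k : Equiv.Perm GolayPt) = fperm L := by group
    refine ⟨⟨⟨_, hmem⟩, ?_⟩, ?_⟩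
    · rw [mem_centralizer_zpowers, comm_iff]
      show ((k : Equiv.Perm GolayPt)⁻¹ * ((k : Equiv.Perm GolayPt) * fperm L *
        (k : Equiv.Perm GolayPt)⁻¹) * (k : Equiv.Perm GolayPt)) * ρ₇ = ρ₇ * _
      rw [hcancel]
      exact hrel
    · show tblOf ((k : Equiv.Perm GolayPt)⁻¹ * ((k : Equiv.Perm GolayPt) * fperm L *
        (k : Equiv.Perm GolayPt)⁻¹) * (k : Equiv.Perm GolayPt)) = L
      rw [hcancel, tblOf_fperm (okK_valid hok)]

end

end Cfsg.Agent.Lib.helper4
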