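import Mathlib
import Cfsg.Prelude.Def_Sporadic_a
import Cfsg.Prelude.Def_SporadicCombinatorics
import Cfsg.Agent.Lib.helper4.Syl7D

set_option autoImplicit false

namespace Cfsg.Agent.Lib.helper4

open Cfsg MulAction
open scoped Pointwise
open Cfsg.Agent.Lib.Helper12.Golay

theorem factorization_M24_seven : (Nat.card ↥M24).factorization 7 = 1 := by
  rw [Cfsg.Agent.Lib.helper3.card_M24]
  have h : 244823040 = 7 * 34974720 := by norm_num
  rw [h, Nat.factorization_mul (by norm_num) (by norm_num), Finsupp.add_apply,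
    Nat.Prime.factorization_self (by norm_num), Nat.factorization_eq_zero_of_not_dvd (by norm_num)]

/-- Every subgroup of order 7 is generated by a conjugate of the standard element. -/
theorem exists_conj_of_card_seven (S : Subgroup ↥M24) (hS : Nat.card S = 7) :
    ∃ k : ↥M24, S = Subgroup.zpowers (σk k) := by
  have : Fact (Nat.Prime 7) := ⟨by norm_num⟩
  have h7 : Nat.card ↥(Subgroup.zpowers ρM) = 7 := by rw [Nat.card_zpowers, orderOf_ρM]
  obtain ⟨P, h2⟩ : ∃ P : Sylow 7 ↥M24, (P : Subgroup ↥M24) = S :=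
    ⟨Sylow.ofCard S (by rw [hS, factorization_M24_seven, pow_one]), rfl⟩
  obtain ⟨P₀, h3⟩ : ∃ P₀ : Sylow 7 ↥M24, (P₀ : Subgroup ↥M24) = Subgroup.zpowers ρM :=
    ⟨Sylow.ofCard (Subgroup.zpowers ρM) (by rw [h7, factorization_M24_seven, pow_one]), rfl⟩
  obtain ⟨k, hk⟩ := MulAction.exists_smul_eq ↥M24 P₀ P
  refine ⟨k, ?_⟩
  have h1 := Sylow.coe_subgroup_smul (g := k) (P := P₀)
  rw [hk, h2, h3] at h1
  rw [h1]
  ext x
  rw [Subgroup.mem_pointwise_smul_iff_inv_smul_mem]
  have e : (MulAut.conj k)⁻¹ • x = k⁻¹ * x * k := by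
    rw [MulAut.smul_def, MulAut.conj_inv_apply]
  rw [e, Subgroup.mem_zpowers_iff, Subgroup.mem_zpowers_iff]
  constructor
  · rintro ⟨z, hz⟩
    refine ⟨z, ?_⟩
    unfold σk
    rw [conj_zpow, hz]
    group
  · rintro ⟨z, hz⟩
    refine ⟨z, ?_⟩
    unfold σk at hz
    rw [conj_zpow] at hz
    rw [← hz]
    group

theorem sorted_trio7 : Sorted3 trio7 ∧ D3 trio7 ∈ trios := isTrioK_spec n126_checks.2.2.2.2.2

/-- Normaliser and centraliser of a subgroup of order 7. -/
theorem syl7_main (S : Subgroup ↥M24) (hS : Nat.card S = 7) :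
    Nat.card ↥(Subgroup.normalizer (S : Set ↥M24)) = 126 ∧
    Nat.card ↥(Subgroup.centralizer (S : Set ↥M24)) = 42 ∧
    (∃ x ∈ Subgroup.centralizer (S : Set ↥M24), ∃ y ∈ Subgroup.centralizer (S : Set ↥M24),
      x * y ≠ y * x) ∧
    ∃ T ∈ trios, ∀ n ∈ Subgroup.normalizer (S : Set ↥M24),
      ((n : ↥M24) : Equiv.Perm GolayPt) • T = T := by
  obtain ⟨k, rfl⟩ := exists_conj_of_card_seven S hS
  refine ⟨card_normalizer_σk k, card_centralizer_σk k, ?_, ?_⟩
  · obtain ⟨_, _, _, _, _, _, _, _, _, _, _, _, ha, hb, hca, hcb, hne⟩ := rho7_checks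
    have hoka := (N126_spec ha).1
    have hokb := (N126_spec hb).1
    have hva := okK_valid hoka
    have hvb := okK_valid hokb
    have hcancel : ∀ g : Equiv.Perm GolayPt, (k : Equiv.Perm GolayPt)⁻¹ *
        ((k : Equiv.Perm GolayPt) * g * (k : Equiv.Perm GolayPt)⁻¹) * (k : Equiv.Perm GolayPt) = g :=
      fun g => by group
    have hcomm : ∀ (L : List ℕ) (hok : okK L = true), compTbl L rho7 = compTbl rho7 L →
        (⟨(k : Equiv.Perm GolayPt) * fperm L * (k : Equiv.Perm GolayPt)⁻¹,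
          M24.mul_mem (M24.mul_mem k.2 (fperm_mem hok)) (M24.inv_mem k.2)⟩ : ↥M24) ∈
          Subgroup.centralizer (Subgroup.zpowers (σk k) : Set ↥M24) := by
      intro L hok hc
      rw [mem_centralizer_zpowers, comm_iff]
      show ((k : Equiv.Perm GolayPt)⁻¹ * ((k : Equiv.Perm GolayPt) * fperm L *
        (k : Equiv.Perm GolayPt)⁻¹) * (k : Equiv.Perm GolayPt)) * ρ₇ = ρ₇ * _
      rw [hcancel]
      apply tblOf_injective
      rw [tblOf_mul, tblOf_mul, tblOf_fperm (okK_valid hok), tblOf_ρ₇, hc]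
    refine ⟨_, hcomm c7a hoka hca, _, hcomm c7b hokb hcb, ?_⟩
    intro h
    have h1 := congrArg (fun z : ↥M24 => (z : Equiv.Perm GolayPt)) h
    simp only [Subgroup.coe_mul] at h1
    have h2 : fperm c7a * fperm c7b = fperm c7b * fperm c7a := by
      have e1 : (k : Equiv.Perm GolayPt) * fperm c7a * (k : Equiv.Perm GolayPt)⁻¹ *
          ((k : Equiv.Perm GolayPt) * fperm c7b * (k : Equiv.Perm GolayPt)⁻¹) =
          (k : Equiv.Perm GolayPt) * (fperm c7a * fperm c7b) * (k : Equiv.Perm GolayPt)⁻¹ := by group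
      have e2 : (k : Equiv.Perm GolayPt) * fperm c7b * (k : Equiv.Perm GolayPt)⁻¹ *
          ((k : Equiv.Perm GolayPt) * fperm c7a * (k : Equiv.Perm GolayPt)⁻¹) =
          (k : Equiv.Perm GolayPt) * (fperm c7b * fperm c7a) * (k : Equiv.Perm GolayPt)⁻¹ := by group
      rw [e1, e2] at h1
      exact mul_left_cancel (mul_right_cancel h1)
    apply hne
    have h3 := congrArg tblOf h2
    rwa [tblOf_mul, tblOf_mul, tblOf_fperm hva, tblOf_fperm hvb] at h3
  · obtain ⟨hsort, htrio⟩ := sorted_trio7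
    refine ⟨(k : Equiv.Perm GolayPt) • D3 trio7, Cfsg.Agent.S1557.smul_trios k _ htrio, ?_⟩
    intro n hn
    obtain ⟨j, hj, hrel⟩ := (mem_normalizer_zpowers7 (orderOf_σk k) n).mp hn
    set m := (k : Equiv.Perm GolayPt)⁻¹ * (n : Equiv.Perm GolayPt) * (k : Equiv.Perm GolayPt) with hm
    have hL : tblOf m ∈ N126 :=
      tblOf_mem_N126 (M24.mul_mem (M24.mul_mem (M24.inv_mem k.2) n.2) k.2) hj
        ((rel_iff k n j).mp hrel)
    have hall := n126_checks.2.2.2.2.1
    rw [List.all_eq_true] at hall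
    have hfix := (beq3_iff _ _).mp (hall _ hL)
    have hv := validT_tblOf m
    have e1 := (D3_actT3 hv hsort).1
    rw [hfix, permT_tblOf] at e1
    have e2 : m • D3 trio7 = D3 trio7 := by
      rw [eq_comm, inv_smul_eq_iff] at e1
      exact e1.symm
    have : (n : Equiv.Perm GolayPt) = (k : Equiv.Perm GolayPt) * m * (k : Equiv.Perm GolayPt)⁻¹ := by
      rw [hm]; group
    rw [this, mul_smul, mul_smul, inv_smul_smul, e2]

end Cfsg.Agent.Lib.helper4
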