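import Mathlib
import Cfsg.Agent.Lib.Helper1.MinNormal

set_option autoImplicit false

namespace Cfsg.Agent.Lib.helper4

universe u

theorem absorb_normal {G : Type*} [Group G] (N : Subgroup G) [hN : N.Normal] :
    ∀ (t : ℕ) (H : Fin t → Subgroup G) (j : Fin t), N ≤ H j →
    ∀ (s : Fin t → G), (∀ i, s i ∈ H i) → ∀ n ∈ N,
    ∃ s' : Fin t → G, (∀ i, s' i ∈ H i) ∧ (List.ofFn s).prod * n = (List.ofFn s').prod := by
  intro t
  induction t with
  | zero => intro H j; exact j.elim0
  | succ t ih =>
    intro H j hj s hs n hn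
    rcases Fin.eq_zero_or_eq_succ j with rfl | ⟨j', rfl⟩
    · set g' := (List.ofFn (fun i : Fin t => s i.succ)).prod with hg'
      refine ⟨Fin.cons (s 0 * (g' * n * g'⁻¹)) (fun i => s i.succ), ?_, ?_⟩
      · intro i
        refine Fin.cases ?_ (fun i => ?_) i
        · rw [Fin.cons_zero]
          exact (H 0).mul_mem (hs 0) (hj (hN.conj_mem n hn g'))
        · rw [Fin.cons_succ]
          exact hs i.succ
      · rw [List.ofFn_succ, List.ofFn_succ, List.prod_cons, List.prod_cons]
        simp only [Fin.cons_zero, Fin.cons_succ]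
        rw [← hg']
        group
    · obtain ⟨s'', hs'', hprod⟩ := ih (fun i => H i.succ) j' hj (fun i => s i.succ)
        (fun i => hs i.succ) n hn
      refine ⟨Fin.cons (s 0) s'', ?_, ?_⟩
      · intro i
        refine Fin.cases ?_ (fun i => ?_) i
        · rw [Fin.cons_zero]
          exact hs 0
        · rw [Fin.cons_succ]
          exact hs'' i
      · rw [List.ofFn_succ, List.ofFn_succ, List.prod_cons, List.prod_cons]
        simp only [Fin.cons_zero, Fin.cons_succ]
        rw [mul_assoc, hprod]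

theorem sylow_product_aux (n : ℕ) : ∀ (G : Type u) [Group G] [Finite G] [Group.IsSolvable G],
    Nat.card G = n → ∀ (t : ℕ) (p : Fin t → ℕ) (hp : ∀ i, (p i).Prime)
    (_ : ∀ q : ℕ, q.Prime → q ∣ Nat.card G → ∃ i, p i = q)
    (S : (i : Fin t) → Sylow (p i) G), ∀ g : G, ∃ s : (i : Fin t) → G,
      (∀ i, s i ∈ (S i : Subgroup G)) ∧ g = (List.ofFn s).prod := by
  induction n using Nat.strong_induction_on with
  | _ n ih =>
  intro G _ _ _ hn t p hp hall S g
  haveI : ∀ i, Fact (p i).Prime := fun i => ⟨hp i⟩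
  rcases subsingleton_or_nontrivial G with hsub | hnt
  · exact ⟨fun _ => 1, fun i => Subgroup.one_mem _, Subsingleton.elim _ _⟩
  · obtain ⟨N, hNn, hNne, hNmin⟩ := Cfsg.Agent.Lib.Helper1.exists_minimal_normal (G := G)
    obtain ⟨-, q, hq, hexp⟩ := Cfsg.Agent.Lib.Helper1.minimal_normal_of_solvable N hNne hNmin
    have hNq : IsPGroup q N := by
      intro x
      refine ⟨1, ?_⟩
      rw [pow_one]
      apply Subtype.ext
      rw [Subgroup.coe_pow]
      exact hexp x x.2
    have hqdvd : q ∣ Nat.card G := by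
      obtain ⟨x, hxN, hx1⟩ : ∃ x : G, x ∈ N ∧ x ≠ 1 := by
        obtain ⟨x, hx⟩ := (Subgroup.ne_bot_iff_exists_ne_one (H := N)).mp hNne
        exact ⟨(x : G), x.2, fun h => hx (Subtype.ext h)⟩
      have h1 : orderOf x ∣ q := orderOf_dvd_of_pow_eq_one (hexp x hxN)
      have h2 : orderOf x = q := by
        rcases (Nat.dvd_prime hq).mp h1 with h | h
        · exact absurd (orderOf_eq_one_iff.mp h) hx1
        · exact h
      rw [← h2]
      exact orderOf_dvd_natCard x
    obtain ⟨j, hj⟩ := hall q hq hqdvd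
    have hNj : N ≤ (S j : Subgroup G) := by
      have : IsPGroup (p j) N := by rw [hj]; exact hNq
      exact this.le_sylow_of_normal (S j)
    have hcardN : 1 < Nat.card N := by
      rw [Subgroup.one_lt_card_iff_ne_bot]
      exact hNne
    have hcard : Nat.card (G ⧸ N) < n := by
      rw [← hn, Subgroup.card_eq_card_quotient_mul_card_subgroup N]
      have hpos : 0 < Nat.card (G ⧸ N) := Nat.card_pos
      nlinarith
    have hdvd : Nat.card (G ⧸ N) ∣ Nat.card G := Subgroup.card_quotient_dvd_card N
    have hsurj := QuotientGroup.mk'_surjective N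
    obtain ⟨sbar, hsbar, hg⟩ := ih (Nat.card (G ⧸ N)) hcard (G ⧸ N) rfl t p hp
      (fun q' hq' hd => hall q' hq' (hd.trans hdvd))
      (fun i => (S i).mapSurjective hsurj) (QuotientGroup.mk' N g)
    have hlift : ∀ i, ∃ x ∈ (S i : Subgroup G), QuotientGroup.mk' N x = sbar i := by
      intro i
      have := hsbar i
      rw [Sylow.coe_mapSurjective] at this
      exact Subgroup.mem_map.mp this
    choose s hs hss using hlift
    have hmk : QuotientGroup.mk' N g = QuotientGroup.mk' N (List.ofFn s).prod := by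
      rw [hg, map_list_prod, List.map_ofFn]
      congr 2
      funext i
      exact (hss i).symm
    have hn' : ((List.ofFn s).prod)⁻¹ * g ∈ N := by
      have := hmk.symm
      rw [QuotientGroup.mk'_apply, QuotientGroup.mk'_apply, QuotientGroup.eq] at this
      exact this
    obtain ⟨s', hs', hprod⟩ := absorb_normal N t (fun i => (S i : Subgroup G)) j hNj s hs _ hn'
    refine ⟨s', hs', ?_⟩
    rw [← hprod]
    group

theorem sylow_product {G : Type u} [Group G] [Finite G] [Group.IsSolvable G] (t : ℕ)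
    (p : Fin t → ℕ) (hp : ∀ i, (p i).Prime)
    (hall : ∀ q : ℕ, q.Prime → q ∣ Nat.card G → ∃ i, p i = q)
    (S : (i : Fin t) → Sylow (p i) G) : ∀ g : G, ∃ s : (i : Fin t) → G,
      (∀ i, s i ∈ (S i : Subgroup G)) ∧ g = (List.ofFn s).prod :=
  sylow_product_aux _ G rfl t p hp hall S

end Cfsg.Agent.Lib.helper4
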