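import Mathlib
import Cfsg.Agent.Lib.helper17.T3.DefsC
import Cfsg.Agent.Lib.helper3.SL2Mult
import Cfsg.Agent.Lib.helper23.CEUE1

/-!
# Project T3C (designer helper17, for S2110), row H4 (`SysT.hl_xl`) (helper4), VERBATIM.
The torus element `hl j c = wl j c * (wl j 1)⁻¹` on the long root groups, from the fields `wl_l0 … wl_l5`.
-/

set_option autoImplicit false

namespace Cfsg.Agent.Lib.helper17.T3

open Cfsg.Agent.Lib.helper15.St2 Cfsg.Agent.Lib.helper7.Ce Matrix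

variable {F K : Type*} [Field F] [Field K] [Algebra F K]

variable {C : Cub F K} {G Γ : Type*} [Group G] [Group Γ]

namespace SysT

variable (S : SysT C G)

theorem t3ch4helper4_l0 (j : ZMod 6) (c d : F) (hc : c ≠ 0) :
    cj (S.hl j c) (S.xl j d) = S.xl j (c ^ 2 * d) := by
  have h1 : cj (S.wl j 1) (S.xl (j + 3) d) = S.xl j d := by
    have := S.wl_l3 j 1 d one_ne_zero
    rw [one_pow, one_mul] at this
    exact this
  have h2 : cj (S.wl j 1)⁻¹ (S.xl j d) = S.xl (j + 3) d := cj_inv_of h1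
  unfold SysT.hl
  rw [← cj_cj, h2]
  exact S.wl_l3 j c d hc

theorem t3ch4helper4_l1 (j : ZMod 6) (c d : F) (hc : c ≠ 0) :
    cj (S.hl j c) (S.xl (j + 1) d) = S.xl (j + 1) (c * d) := by
  have h1 : cj (S.wl j 1) (S.xl (j + 2) d) = S.xl (j + 1) d := by
    have := S.wl_l2 j 1 d one_ne_zero
    rw [one_mul] at this
    exact this
  have h2 : cj (S.wl j 1)⁻¹ (S.xl (j + 1) d) = S.xl (j + 2) d := cj_inv_of h1
  unfold SysT.hl
  rw [← cj_cj, h2]
  exact S.wl_l2 j c d hc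

theorem t3ch4helper4_l2 (j : ZMod 6) (c d : F) (hc : c ≠ 0) :
    cj (S.hl j c) (S.xl (j + 2) d) = S.xl (j + 2) (c⁻¹ * d) := by
  have h1 : cj (S.wl j 1) (S.xl (j + 1) (-d)) = S.xl (j + 2) d := by
    have : cj (S.wl j 1) (S.xl (j + 1) (-d)) = S.xl (j + 2) (-((1 : F)⁻¹ * -d)) := S.wl_l1 j 1 (-d) one_ne_zero
    rw [inv_one, one_mul, neg_neg] at this
    exact this
  have h2 : cj (S.wl j 1)⁻¹ (S.xl (j + 2) d) = S.xl (j + 1) (-d) := cj_inv_of h1
  unfold SysT.hl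
  rw [← cj_cj, h2]
  have := S.wl_l1 j c (-d) hc
  rw [mul_neg, neg_neg] at this
  exact this

theorem t3ch4helper4_l3 (j : ZMod 6) (c d : F) (hc : c ≠ 0) :
    cj (S.hl j c) (S.xl (j + 3) d) = S.xl (j + 3) (c⁻¹ ^ 2 * d) := by
  have h1 : cj (S.wl j 1) (S.xl j d) = S.xl (j + 3) d := by
    have : cj (S.wl j 1) (S.xl j d) = S.xl (j + 3) ((1 : F)⁻¹ ^ 2 * d) := S.wl_l0 j 1 d one_ne_zero
    rw [inv_one, one_pow, one_mul] at this
    exact this
  have h2 : cj (S.wl j 1)⁻¹ (S.xl (j + 3) d) = S.xl j d := cj_inv_of h1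
  unfold SysT.hl
  rw [← cj_cj, h2]
  exact S.wl_l0 j c d hc

theorem t3ch4helper4_l4 (j : ZMod 6) (c d : F) (hc : c ≠ 0) :
    cj (S.hl j c) (S.xl (j + 4) d) = S.xl (j + 4) (c⁻¹ * d) := by
  have h1 : cj (S.wl j 1) (S.xl (j + 5) d) = S.xl (j + 4) d := by
    have : cj (S.wl j 1) (S.xl (j + 5) d) = S.xl (j + 4) ((1 : F)⁻¹ * d) := S.wl_l5 j 1 d one_ne_zero
    rw [inv_one, one_mul] at this
    exact this
  have h2 : cj (S.wl j 1)⁻¹ (S.xl (j + 4) d) = S.xl (j + 5) d := cj_inv_of h1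
  unfold SysT.hl
  rw [← cj_cj, h2]
  exact S.wl_l5 j c d hc

theorem t3ch4helper4_l5 (j : ZMod 6) (c d : F) (hc : c ≠ 0) :
    cj (S.hl j c) (S.xl (j + 5) d) = S.xl (j + 5) (c * d) := by
  have h1 : cj (S.wl j 1) (S.xl (j + 4) (-d)) = S.xl (j + 5) d := by
    have := S.wl_l4 j 1 (-d) one_ne_zero
    rw [one_mul, neg_neg] at this
    exact this
  have h2 : cj (S.wl j 1)⁻¹ (S.xl (j + 5) d) = S.xl (j + 4) (-d) := cj_inv_of h1
  unfold SysT.hl
  rw [← cj_cj, h2]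
  have := S.wl_l4 j c (-d) hc
  rw [mul_neg, neg_neg] at this
  exact this

/-- [H4] [M] (`wl_l0 … wl_l5`) -/
theorem hl_xl (j i : ZMod 6) (c d : F) (hc : c ≠ 0) : cj (S.hl j c) (S.xl (j + i) d) = S.xl (j + i) (dhl i c * d) := by
  have hi : i = 0 ∨ i = 1 ∨ i = 2 ∨ i = 3 ∨ i = 4 ∨ i = 5 := by
    revert i; decide
  rcases hi with rfl | rfl | rfl | rfl | rfl | rfl
  · rw [add_zero]; exact S.t3ch4helper4_l0 j c d hc
  · exact S.t3ch4helper4_l1 j c d hc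
  · exact S.t3ch4helper4_l2 j c d hc
  · exact S.t3ch4helper4_l3 j c d hc
  · exact S.t3ch4helper4_l4 j c d hc
  · exact S.t3ch4helper4_l5 j c d hc

end SysT

end Cfsg.Agent.Lib.helper17.T3
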