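import Mathlib
import Cfsg.Agent.Lib.helper8.T3M.Rel
import Cfsg.Agent.Lib.helper8.TDMU1
import Cfsg.Agent.Lib.Helper19.T3A.Defs

/-!
# Project T3M (designer helper8; matrix side of S2110), row U1 (`t3m_uprod_inj`) (helper4), VERBATIM.
The product of the six positive root elements of the twisted system is `1` only if all parameters vanish: collect the word into
the order of `tdmu1_inj12` (`t3mu1helper4_collect`, generic parameters) and compare with the trivial word.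
-/

set_option autoImplicit false
set_option linter.unusedSimpArgs false
set_option linter.unnecessarySeqFocus false
set_option linter.unreachableTactic false
set_option linter.unusedTactic false
set_option linter.unusedVariables false
set_option maxRecDepth 4000

namespace Cfsg.Agent.Lib.helper8.T3M

open Cfsg.Lie Cfsg.Lie.ChevalleyDatum Matrix
open Cfsg.Agent.Lib.helper8
open Cfsg.Agent.Lib.helper23.TD4V
open Cfsg.Agent.Lib.helper17.T3
open Cfsg.Agent.Lib.helper15.St2 Cfsg.Agent.Lib.helper7.Ce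

universe u

variable {K : Type u} [Field K] {q : ℕ}

section Coll

attribute [local irreducible] X

set_option maxHeartbeats 3200000 in
/-- the word of the six positive root elements (generic parameters), collected into the order of `tdmu1_inj12` -/
theorem t3mu1helper4_collect (a0 b0 c0 l0 a1 b1 c1 l1 a2 b2 c2 l2 : K) {p : K}
    (hp : p = l1 - a1 * a2 - c1 * c2 - b1 * b2 + l0 * l2) :
    (XS3 0 a0 b0 c0 * XL3 0 l0 * XS3 1 a1 b1 c1 * XL3 1 l1 * XS3 2 a2 b2 c2 * XL3 2 l2 : GG K) =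
      XA a0 b0 c0 * (X 14 (-l2) * (XAB (-a2) b2 c2 * (X2AB (-b1) (-c1) a1 * (X 22 l0 * X 23 p)))) := by
  have key : (XS3 0 a0 b0 c0 * XL3 0 l0 * XS3 1 a1 b1 c1 * XL3 1 l1 * XS3 2 a2 b2 c2 * XL3 2 l2 : GG K) * 1 =
      (XA a0 b0 c0 * (X 14 (-l2) * (XAB (-a2) b2 c2 * (X2AB (-b1) (-c1) a1 * (X 22 l0 * X 23 p))))) * 1 := by
    subst hp
    simp only [XS3_0, XS3_1, XS3_2, XL3_0, XL3_1, XL3_2, XA, XAB, X2AB, mul_assoc, t3mc_t_12_13, t3mc_t_12_14, t3mc_t_12_15, t3mc_t_12_16, t3mc_t_12_17, t3mc_t_12_18, t3mc_t_12_19, t3mc_t_12_20, t3mc_t_12_21, t3mc_t_12_22, t3mc_t_12_23, t3mc_t_13_14, t3mc_t_13_15, t3mc_t_13_16, t3mc_t_13_17, t3mc_t_13_18, t3mc_t_13_19, t3mc_t_13_20, t3mc_t_13_21, t3mc_t_13_22, t3mc_t_13_23, t3mc_t_14_15, t3mc_t_14_16, t3mc_t_14_17, t3mc_t_14_18, t3mc_t_14_19, t3mc_t_14_20, t3mc_t_14_21, t3mc_t_14_22, t3mc_t_14_23, t3mc_t_15_16, t3mc_t_15_17, t3mc_t_15_18, t3mc_t_15_19, t3mc_t_15_20, t3mc_t_15_21,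 t3mc_t_15_22, t3mc_t_15_23, t3mc_t_16_17, t3mc_t_16_18, t3mc_t_16_19, t3mc_t_16_20, t3mc_t_16_21, t3mc_t_16_22, t3mc_t_16_23, t3mc_t_17_18, t3mc_t_17_19, t3mc_t_17_20, t3mc_t_17_21, t3mc_t_17_22, t3mc_t_17_23, t3mc_t_18_19, t3mc_t_18_20, t3mc_t_18_21, t3mc_t_18_22, t3mc_t_18_23, t3mc_t_19_20, t3mc_t_19_21, t3mc_t_19_22, t3mc_t_19_23, t3mc_t_20_21, t3mc_t_20_22, t3mc_t_20_23, t3mc_t_21_22, t3mc_t_21_23, t3mc_t_22_23, t3mc_m_12, t3mc_m_13, t3mc_m_14, t3mc_m_15, t3mc_m_16, t3mc_m_17, t3mc_m_18, t3mc_m_19, t3mc_m_20, t3mc_m_21, t3mc_m_22, t3mc_m_23]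
    repeat (first
      | with_reducible rfl
      | refine t3mc_cs (by first | rfl | ring1 | (field_simp; ring1) | (field_simp; first | done | fail)) ?_
      | refine t3mc_skL (by first | rfl | ring1 | (field_simp; ring1) | (field_simp; first | done | fail)) ?_
      | refine t3mc_skR (by first | rfl | ring1 | (field_simp; ring1) | (field_simp; first | done | fail)) ?_)
  exact (mul_one _).symm.trans (key.trans (mul_one _))

end Coll

/-- **U1** [M].  Collect the word (12 letters `X 18 … X 14`, see `XS3_0 … XL3_2`) into the order of `tdmu1_inj12`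
(`XA * (X 14 * (XAB * (X2AB * (X 22 * X 23))))`, `Cfsg.Agent.Lib.helper8.TDMU1`) with the rules `t3mc_t_r_s` (as in `T3M/G_*.lean`); the new parameters are the old
ones plus products of earlier ones (triangular), so `tdmu1_inj12` against the word with all parameters `0` gives the claim. -/
theorem t3m_uprod_inj (D : Dat K q) (s0 : K) (l0 : D.Fx) (s1 : K) (l1 : D.Fx) (s2 : K) (l2 : D.Fx)
    (h : XS D 0 s0 * XL D 0 l0 * XS D 1 s1 * XL D 1 l1 * XS D 2 s2 * XL D 2 l2 = 1) :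
    s0 = 0 ∧ l0 = 0 ∧ s1 = 0 ∧ l1 = 0 ∧ s2 = 0 ∧ l2 = 0 := by
  rw [XS_def, XS_def, XS_def, XL_def, XL_def, XL_def, val6_0, val6_1, val6_2,
    t3mu1helper4_collect s0 (D.f s0) (D.f (D.f s0)) (l0 : K) s1 (D.f s1) (D.f (D.f s1)) (l1 : K) s2 (D.f s2)
      (D.f (D.f s2)) (l2 : K) rfl] at h
  have h1 : (1 : GG K) = XA 0 0 0 * (X 14 0 * (XAB 0 0 0 * (X2AB 0 0 0 * (X 22 0 * X 23 0)))) := by
    unfold XA XAB X2AB
    simp only [t3mc_zero, mul_one]
  rw [h1] at h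
  obtain ⟨e1, -, -, e4, e5, -, -, -, -, e10, e11, e12⟩ := Cfsg.Agent.Lib.helper8.TDM.tdmu1_inj12 _ _ _ _ _ _ _ _ _ _ _ _ _ _ _ _ _ _ _ _ _ _ _ _ h
  have hs2 : s2 = 0 := neg_eq_zero.1 e5
  have hl2 : (l2 : K) = 0 := neg_eq_zero.1 e4
  rw [e10, hs2, hl2, e11] at e12
  have hl1 : (l1 : K) = 0 := by
    simpa using e12
  exact ⟨e1, Subtype.ext e11, e10, Subtype.ext hl1, hs2, Subtype.ext hl2⟩

end Cfsg.Agent.Lib.helper8.T3M
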