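import Mathlib
import Cfsg.Agent.Lib.helper8.T3M.Rel
import Cfsg.Agent.Lib.helper8.TDMU1
import Cfsg.Agent.Lib.Helper19.T3A.Defs
import Cfsg.Agent.Lib.helper8.ChevBN2

/-!
# Project T3M (designer helper8; matrix side of S2110), row U2 (`t3m_pos_mem_U`) (helper4), VERBATIM.
-/

set_option autoImplicit false

namespace Cfsg.Agent.Lib.helper8.T3M

open Cfsg.Lie Cfsg.Lie.ChevalleyDatum Matrix
open Cfsg.Agent.Lib.helper8
open Cfsg.Agent.Lib.helper23.TD4V
open Cfsg.Agent.Lib.helper17.T3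
open Cfsg.Agent.Lib.helper15.St2 Cfsg.Agent.Lib.helper7.Ce

universe u

variable {K : Type u} [Field K] {q : ℕ}

/-- **U2** [S].  `h8xU_mem_U` (`ChevBN2`) for the positive roots `12 … 23`. -/
theorem t3m_pos_mem_U (D : Dat K q) :
    (∀ t, XS D 0 t ∈ chevD4.posUnipotent K) ∧ (∀ t, XS D 1 t ∈ chevD4.posUnipotent K) ∧
    (∀ t, XS D 2 t ∈ chevD4.posUnipotent K) ∧ (∀ c, XL D 0 c ∈ chevD4.posUnipotent K) ∧
    (∀ c, XL D 1 c ∈ chevD4.posUnipotent K) ∧ (∀ c, XL D 2 c ∈ chevD4.posUnipotent K) := by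
  have hX : ∀ r, chevD4.IsPosRoot r → ∀ t : K, X r t ∈ chevD4.posUnipotent K :=
    fun r hr t => h8xU_mem_U chevD4 hB r hr t
  refine ⟨fun t => ?_, fun t => ?_, fun t => ?_, fun c => ?_, fun c => ?_, fun c => ?_⟩
  · rw [XS_def, val6_0, XS3_0]
    exact mul_mem (mul_mem (hX 18 (by decide) _) (hX 13 (by decide) _)) (hX 12 (by decide) _)
  · rw [XS_def, val6_1, XS3_1]
    exact mul_mem (mul_mem (hX 20 (by decide) _) (hX 21 (by decide) _)) (hX 17 (by decide) _)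
  · rw [XS_def, val6_2, XS3_2]
    exact mul_mem (mul_mem (hX 19 (by decide) _) (hX 16 (by decide) _)) (hX 15 (by decide) _)
  · rw [XL_def, val6_0, XL3_0]
    exact hX 22 (by decide) _
  · rw [XL_def, val6_1, XL3_1]
    exact hX 23 (by decide) _
  · rw [XL_def, val6_2, XL3_2]
    exact hX 14 (by decide) _

end Cfsg.Agent.Lib.helper8.T3M
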