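import Cfsg.Agent.Lib.helper23.TD4V.Defs

/-!
# TD4V row J1 (`rank_one`), core: from the statement of J0 (`phi_root`) at the root `r`.

Extra: `td4vj1_sl2` (the `SL₂` identity `U(s) L(t) = L(t/d) D(d) U(s/d)`, `d = 1 + s t`).
-/

set_option autoImplicit false

namespace Cfsg.Agent.Lib.helper23.TD4V

open Cfsg.Lie Cfsg.Lie.ChevalleyDatum Matrix
open Cfsg.Agent.Lib.helper8 Cfsg.Agent.Lib.helper8.TD4
open Cfsg.Agent.Lib.helper23.P4V

universe u v

section J

variable {K : Type u} [Field K]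

/-- `U(s) L(t) = L(t/d) D(d) U(s/d)`, `d = 1 + s t`. -/
theorem td4vj1_sl2 (s t : K) (hd : 1 + s * t ≠ 0) :
    (h8slU s * h8slL t : Matrix.SpecialLinearGroup (Fin 2) K) =
      h8slL (t / (1 + s * t)) * h8slD (1 + s * t) * h8slU (s / (1 + s * t)) := by
  have hd' : 1 + t * s ≠ 0 := by rwa [mul_comm] at hd
  apply h8sl_ext
  · simp [h8slU_val, h8slL_val, h8slD_val _ hd, Matrix.mul_apply]
  · simp [h8slU_val, h8slL_val, h8slD_val _ hd, Matrix.mul_apply]
    field_simp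
  · simp [h8slU_val, h8slL_val, h8slD_val _ hd, Matrix.mul_apply]
    field_simp
  · simp [h8slU_val, h8slL_val, h8slD_val _ hd, Matrix.mul_apply]
    field_simp
    ring

/-- **J1 core**: `rank_one` from the statement of J0 at `r`. -/
theorem td4vj1_core (r : ℕ)
    (hJ0 : ∃ φ : Matrix.SpecialLinearGroup (Fin 2) K →* GG K,
      (∀ t, φ (h8slU t) = X r t) ∧ (∀ t, φ (h8slL t) = X (23 - r) t) ∧
      (∀ c : K, c ≠ 0 → φ (h8slD c) = hh r c))
    (s t : K) (hd : 1 + s * t ≠ 0) :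
    X r s * X (23 - r) t =
      X (23 - r) (t / (1 + s * t)) * hh r (1 + s * t) * X r (s / (1 + s * t)) := by
  obtain ⟨φ, hU, hL, hD⟩ := hJ0
  rw [← hU s, ← hL t, ← map_mul, td4vj1_sl2 s t hd, map_mul, map_mul, hU, hL, hD _ hd]

end J

end Cfsg.Agent.Lib.helper23.TD4V
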