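import Mathlib
import Cfsg.Agent.Lib.helper8.TDM.Defs
import Cfsg.Agent.Lib.helper23.TD4VComm0
import Cfsg.Agent.Lib.helper23.TD4VComm1
import Cfsg.Agent.Lib.helper23.TD4VComm2
import Cfsg.Agent.Lib.helper23.TD4VComm3

/-!
# Project TDM = S2192 (designer helper8), rows I8 + I3 (helper4), VERBATIM:
`conj_14_22` (I8), `comm_14`, `comm_22`, `comm_23` (I3): commutation of the long root elements `X 14`, `X 22`, `X 23` with the twisted root elements.
All from helper23's commutator rules `td4vc_c_r_s`.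
-/

set_option autoImplicit false

namespace Cfsg.Agent.Lib.helper8.TDM

open Cfsg.Lie Cfsg.Lie.ChevalleyDatum Matrix
open Cfsg.Agent.Lib.helper8 Cfsg.Agent.Lib.helper8.TD4
open Cfsg.Agent.Lib.helper23.TD4V

universe u

section I

variable {K : Type u} [Field K] [Fintype K] (q : ℕ)

/-- a commuting element commutes with a product of three -/
theorem tdmi3_comm3 {G : Type*} [Monoid G] {g a b c : G} (ha : Commute g a) (hb : Commute g b) (hc : Commute g c) :
    Commute g (a * b * c) :=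
  (ha.mul_right hb).mul_right hc

/-- **I3** [S-M] (all three). -/
theorem comm_14 (u s : K) : Commute (X 14 u : GG K) (Xab q s) ∧ Commute (X 14 u : GG K) (X2ab q s) := by
  refine ⟨?_, ?_⟩
  · unfold Xab XAB
    exact tdmi3_comm3 (td4vc_c_19_14 _ _) (td4vc_c_16_14 _ _) (td4vc_c_15_14 _ _)
  · unfold X2ab X2AB
    exact tdmi3_comm3 (td4vc_c_20_14 _ _) (td4vc_c_21_14 _ _) (td4vc_c_17_14 _ _)

theorem comm_22 (c s : K) : Commute (X 22 c : GG K) (Xa q s) ∧ Commute (X 22 c : GG K) (Xab q s) ∧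
    Commute (X 22 c : GG K) (X2ab q s) ∧ Commute (X 22 c : GG K) (X 23 s) := by
  refine ⟨?_, ?_, ?_, ?_⟩
  · unfold Xa XA
    exact tdmi3_comm3 (td4vc_c_18_22 _ _) (td4vc_c_13_22 _ _) (td4vc_c_12_22 _ _)
  · unfold Xab XAB
    exact tdmi3_comm3 (td4vc_c_19_22 _ _) (td4vc_c_16_22 _ _) (td4vc_c_15_22 _ _)
  · unfold X2ab X2AB
    exact tdmi3_comm3 (td4vc_c_20_22 _ _) (td4vc_c_21_22 _ _) (td4vc_c_17_22 _ _)
  · exact td4vc_c_23_22 _ _

theorem comm_23 (c s : K) : Commute (X 23 c : GG K) (Xa q s) ∧ Commute (X 23 c : GG K) (Xab q s) ∧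
    Commute (X 23 c : GG K) (X2ab q s) ∧ Commute (X 23 c : GG K) (X 14 s) := by
  refine ⟨?_, ?_, ?_, ?_⟩
  · unfold Xa XA
    exact tdmi3_comm3 (td4vc_c_18_23 _ _) (td4vc_c_13_23 _ _) (td4vc_c_12_23 _ _)
  · unfold Xab XAB
    exact tdmi3_comm3 (td4vc_c_19_23 _ _) (td4vc_c_16_23 _ _) (td4vc_c_15_23 _ _)
  · unfold X2ab X2AB
    exact tdmi3_comm3 (td4vc_c_20_23 _ _) (td4vc_c_21_23 _ _) (td4vc_c_17_23 _ _)
  · exact td4vc_c_14_23 _ _

/-- **I8** [S].  `td4vc_c_22_14`. -/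
theorem conj_14_22 (u c : K) : (X 14 u : GG K) * X 22 c * (X 14 u)⁻¹ = X 22 c * X 23 (u * c) := by
  rw [td4vc_c_22_14 c u, mul_assoc (X 22 c), td4vc_c_23_14 (c * u) u, ← mul_assoc, mul_inv_cancel_right, mul_comm c u]

end I

end Cfsg.Agent.Lib.helper8.TDM
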