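import Cfsg.Agent.Lib.helper7.TO.Basic
import Cfsg.Agent.Lib.helper4.TOG2core
import Cfsg.Agent.Lib.helper6.TOSYMP1
import Cfsg.Agent.Lib.Helper18.TOSGALGA
import Cfsg.Agent.Lib.Helper13.TOSGALGB
import Cfsg.Agent.Lib.Helper13.TOSGALGC
import Cfsg.Agent.Lib.helper8.TOG1

/-!
# Project TO, piece G2: `sgPure_all` verbatim (the core is in `helper4/TOG2core`).
-/

set_option autoImplicit false

namespace Cfsg.Agent.Lib.helper7.TO

open Matrix Cfsg.Agent.Lib.helper7.TP Cfsg.Agent.Lib.Helper28.SympAbs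
open scoped Kronecker

variable {a b : ℕ} {F : Type*} [Field F]

/-- the hypothesis bundle of the cores of G2 / G3, from the landed pieces -/
theorem tog2_hyp (C : Ctx a b F) (ha : 2 ≤ a) (hb : 6 ≤ b)
    (M : Subgroup (Matrix.GeneralLinearGroup (Fin a × Fin b) F)) (hT : C.T1 ≤ M) (h : C.SgA M) :
    tog2_Hyp C M where
  ex := sg_ex C
  mul := sgq_mul C
  comm := sg_comm C
  iff := isSgV_iff_isSgQ C
  g1 := fun u w z c hwz t ht => sgA_all C ha (by omega) M hT h u w z c hwz t ht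
  symp := fun w w' => exists_hyp_perp2 C.hf₂ (by omega) w w'

theorem sgPure_all (C : Ctx a b F) (ha : 2 ≤ a) (hb : 6 ≤ b)
    (M : Subgroup (Matrix.GeneralLinearGroup (Fin a × Fin b) F)) (hT : C.T1 ≤ M) (h : C.SgA M)
    (u u' : Fin a → F) (w w' : Fin b → F) (c : F) (hperp : C.f₁ u u' * C.f₂ w w' = 0)
    (t : Matrix.GeneralLinearGroup (Fin a × Fin b) F)
    (ht : C.IsSgV t (ten u w) (ten u' w') c) : t ∈ M :=
  tog2_core C ha M (tog2_hyp C ha hb M hT h) u u' w w' c hperp t ht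

end Cfsg.Agent.Lib.helper7.TO
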