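import Cfsg.Agent.Lib.helper7.TO.Basic
import Cfsg.Agent.Lib.helper4.TOG2core
import Cfsg.Agent.Lib.helper4.TOG3core
import Cfsg.Agent.Lib.helper4.TOG2

/-!
# Project TO, piece G3: `sgQ_pure` verbatim (the core is in `helper4/TOG3core`).
-/

set_option autoImplicit false

namespace Cfsg.Agent.Lib.helper7.TO

open Matrix Cfsg.Agent.Lib.helper7.TP Cfsg.Agent.Lib.Helper28.SympAbs
open scoped Kronecker

variable {a b : ℕ} {F : Type*} [Field F]

theorem sgQ_pure (C : Ctx a b F) (ha : 2 ≤ a) (hb : 6 ≤ b)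
    (M : Subgroup (Matrix.GeneralLinearGroup (Fin a × Fin b) F)) (hT : C.T1 ≤ M) (h : C.SgA M)
    (u : Fin a → F) (w : Fin b → F) (v : Fin a × Fin b → F) (hv : C.f (ten u w) v = 0)
    (t : Matrix.GeneralLinearGroup (Fin a × Fin b) F) (ht : C.IsSgQ t (ten u w) v) : t ∈ M :=
  tog3_core C ha M (tog2_hyp C ha hb M hT h) u w v hv t ht

end Cfsg.Agent.Lib.helper7.TO
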