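import Cfsg.Agent.Lib.Helper28.TOO.Defs2

/-!
# Project TOO, row GC8 (core): `std_of_le_perp` with the needed instances of rows GA6 (`NV_ker`),
GA7 (`xpl_mem_T1`) and GC5 (`c1_img`) taken as hypotheses.
-/

set_option autoImplicit false
set_option linter.unusedVariables false
set_option linter.unusedSectionVars false

namespace Cfsg.Agent.Lib.Helper28.TOO

open Matrix
open scoped Kronecker
open Cfsg.Agent.Lib.helper7.TP Cfsg.Agent.Lib.Helper21.TS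

variable {a b : ℕ} {F : Type*} [Field F]
variable {J1 : Matrix (Fin a) (Fin a) F} {J2 : Matrix (Fin b) (Fin b) F}

theorem toogc8_inv_mulVec {ι : Type*} [Fintype ι] [DecidableEq ι]
    (g : Matrix.GeneralLinearGroup ι F) (v : ι → F) :
    (g : Matrix ι ι F) *ᵥ (((g⁻¹ : Matrix.GeneralLinearGroup ι F) : Matrix ι ι F) *ᵥ v) = v := by
  rw [Matrix.mulVec_mulVec, ← Units.val_mul, mul_inv_cancel, Units.val_one, Matrix.one_mulVec]

theorem toogc8_inv_mulVec' {ι : Type*} [Fintype ι] [DecidableEq ι]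
    (g : Matrix.GeneralLinearGroup ι F) (v : ι → F) :
    ((g⁻¹ : Matrix.GeneralLinearGroup ι F) : Matrix ι ι F) *ᵥ ((g : Matrix ι ι F) *ᵥ v) = v := by
  rw [Matrix.mulVec_mulVec, ← Units.val_mul, inv_mul_cancel, Units.val_one, Matrix.one_mulVec]

theorem toogc8_JV_symm (C : OCtx J1 J2) : (JV J1 J2)ᵀ = JV J1 J2 := by
  ext ⟨i, j⟩ ⟨i', j'⟩
  have e1 : J1 i' i = J1 i i' := by
    have := congrFun (congrFun C.sym1 i) i'
    simpa using this
  have e2 : J2 j' j = J2 j j' := by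
    have := congrFun (congrFun C.sym2 j) j'
    simpa using this
  simp only [JV, Matrix.transpose_apply, Matrix.kroneckerMap_apply, e1, e2]

/-- the action of a conjugate `g (1 + c N) g⁻¹` -/
theorem toogc8_conj_act {ι : Type*} [Fintype ι] [DecidableEq ι]
    (g x : Matrix.GeneralLinearGroup ι F) (N : Matrix ι ι F) (c : F)
    (hx : (x : Matrix ι ι F) = 1 + c • N) (v : ι → F) :
    ((g * x * g⁻¹ : Matrix.GeneralLinearGroup ι F) : Matrix ι ι F) *ᵥ v =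
      v + c • ((g : Matrix ι ι F) *ᵥ (N *ᵥ
        (((g⁻¹ : Matrix.GeneralLinearGroup ι F) : Matrix ι ι F) *ᵥ v))) := by
  rw [Units.val_mul, Units.val_mul, ← Matrix.mulVec_mulVec, ← Matrix.mulVec_mulVec, hx,
    Matrix.add_mulVec, Matrix.one_mulVec, Matrix.mulVec_add, toogc8_inv_mulVec, Matrix.smul_mulVec,
    Matrix.mulVec_smul]

/-- GC8 (core). -/
theorem toogc8_core (C : OCtx J1 J2)
    (M : Subgroup (Matrix.GeneralLinearGroup (Fin a × Fin b) F)) (hT : T1 J1 J2 ≤ M)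
    (hMO : M ≤ OV J1 J2) (hS : StabPl (a := a) J2 M)
    (g : Matrix.GeneralLinearGroup (Fin a × Fin b) F) (hg : g ∈ M)
    (w₀₁ w₀₂ w₁ w₂ : Fin b → F) (h₀ : IsTS J2 w₀₁ w₀₂) (hw : IsTS J2 w₁ w₂)
    (hle : img g (Lpl (a := a) w₀₁ w₀₂) ≤ perp (JV J1 J2) (Lpl (a := a) w₁ w₂))
    (hxpl : InM (T1 J1 J2) (1 + (1 : F) • NV (a := a) J2 w₀₁ w₀₂))
    (hker : ∀ v : Fin a × Fin b → F, NV (a := a) J2 w₀₁ w₀₂ *ᵥ v = 0 ↔
      v ∈ perp (JV J1 J2) (Lpl (a := a) w₀₁ w₀₂))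
    (hc1img : ∀ h γ : Matrix.GeneralLinearGroup (Fin a × Fin b) F, h ∈ K0 a b F → h ∈ OV J1 J2 →
      (h : Matrix (Fin a × Fin b) (Fin a × Fin b) F) =
        (γ : Matrix (Fin a × Fin b) (Fin a × Fin b) F) * (1 + (1 : F) • NV (a := a) J2 w₀₁ w₀₂) *
          ((γ⁻¹ : Matrix.GeneralLinearGroup (Fin a × Fin b) F) :
            Matrix (Fin a × Fin b) (Fin a × Fin b) F) →
      Std J2 (img γ (Lpl (a := a) w₀₁ w₀₂))) :
    Std J2 (img g (Lpl (a := a) w₀₁ w₀₂)) := by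
  obtain ⟨x₀, hx₀T, hx₀c⟩ := hxpl
  have hx₀M : x₀ ∈ M := hT hx₀T
  have hyM : g * x₀ * g⁻¹ ∈ M := M.mul_mem (M.mul_mem hg hx₀M) (M.inv_mem hg)
  have hgiso := (mem_Iso_iff_bf (JV J1 J2) g).mp (hMO hg)
  have hsymm := toogc8_JV_symm C
  have hfix : ∀ l ∈ Lpl (a := a) w₁ w₂,
      ((g * x₀ * g⁻¹ : Matrix.GeneralLinearGroup (Fin a × Fin b) F) :
        Matrix (Fin a × Fin b) (Fin a × Fin b) F) *ᵥ l = l := by
    intro l hl
    have hz : NV (a := a) J2 w₀₁ w₀₂ *ᵥ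
        (((g⁻¹ : Matrix.GeneralLinearGroup (Fin a × Fin b) F) :
          Matrix (Fin a × Fin b) (Fin a × Fin b) F) *ᵥ l) = 0 := by
      rw [hker]
      intro s₀ hs₀
      rw [← hgiso, toogc8_inv_mulVec, bf_symm hsymm]
      exact hle ((mem_img g _ _).mpr ⟨s₀, hs₀, rfl⟩) l hl
    rw [toogc8_conj_act g x₀ _ 1 hx₀c, hz, Matrix.mulVec_zero, smul_zero, add_zero]
  have hK : g * x₀ * g⁻¹ ∈ K0 a b F :=
    hS _ hyM w₁ w₂ w₁ w₂ hw hw (fun v hv => by rw [hfix v hv]; exact hv)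
  exact hc1img _ g hK (hMO hyM) (by rw [Units.val_mul, Units.val_mul, hx₀c])

end Cfsg.Agent.Lib.Helper28.TOO
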