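import Cfsg.Agent.Lib.Helper28.TOO.Defs2
import Cfsg.Agent.Lib.helper4.TOOGC8core

/-!
# Project TOO, row GC7 (core): MEET, with the needed instances of rows GA6 (`NV_sq`, `NV_ker`,
`NV_range`), GA7 (`xpl_mem_T1`), GC5 (`c1_img`), GC6 (`pgrp`) taken as hypotheses.

Sylow trick in `D = ⟨x, y⟩`, `x = x_W(1)`, `y = g x_{W₀}(1) g⁻¹`: `P` a Sylow `p`-subgroup of `D`
containing `x`, `d ∈ D` with `d y d⁻¹ ∈ P`; `P ≤ K0` (pgrp), so `d y d⁻¹ = (d g) x_{W₀}(1) (d g)⁻¹ ∈ K0`,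
`d S = L_{W'}` (c1_img); every element of `D` fixes `L^⊥ ∩ S^⊥` pointwise and moves every vector by an
element of `L + S`.
-/

set_option autoImplicit false
set_option linter.unusedVariables false
set_option linter.unusedSectionVars false

namespace Cfsg.Agent.Lib.Helper28.TOO

open Matrix
open scoped Kronecker Pointwise
open Cfsg.Agent.Lib.helper7.TP Cfsg.Agent.Lib.Helper21.TS

variable {a b : ℕ} {F : Type*} [Field F]
variable {J1 : Matrix (Fin a) (Fin a) F} {J2 : Matrix (Fin b) (Fin b) F}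

/-- the abstract Sylow trick: two `p`-elements `x, y`; if every `p`-subgroup of `⟨x, y⟩` containing `x`
lies in `T`, some `⟨x, y⟩`-conjugate of `y` lies in `T`. -/
theorem toogc7_sylow {G : Type*} [Group G] [Finite G] (p : ℕ) [Fact p.Prime] (T : Subgroup G)
    (x y : G) (hx : ∃ k : ℕ, x ^ p ^ k = 1) (hy : ∃ k : ℕ, y ^ p ^ k = 1)
    (hQ : ∀ Q : Subgroup G, IsPGroup p Q → Q ≤ Subgroup.closure ({x, y} : Set G) → x ∈ Q → Q ≤ T) :
    ∃ d ∈ Subgroup.closure ({x, y} : Set G), d * y * d⁻¹ ∈ T := by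
  classical
  set D : Subgroup G := Subgroup.closure ({x, y} : Set G) with hD
  have hxD : x ∈ D := Subgroup.subset_closure (by simp)
  have hyD : y ∈ D := Subgroup.subset_closure (by simp)
  obtain ⟨kx, hkx⟩ := hx
  obtain ⟨ky, hky⟩ := hy
  let xD : D := ⟨x, hxD⟩
  let yD : D := ⟨y, hyD⟩
  have hxDp : xD ^ p ^ kx = 1 := by
    apply Subtype.ext
    rw [Subgroup.coe_pow, Subgroup.coe_one]
    exact hkx
  have hyDp : yD ^ p ^ ky = 1 := by
    apply Subtype.ext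
    rw [Subgroup.coe_pow, Subgroup.coe_one]
    exact hky
  have hZx : IsPGroup p (Subgroup.zpowers xD) := by
    intro z
    obtain ⟨n, hn⟩ := Subgroup.mem_zpowers_iff.mp z.2
    refine ⟨kx, ?_⟩
    apply Subtype.ext
    rw [Subgroup.coe_pow, Subgroup.coe_one, ← hn, ← zpow_natCast, ← _root_.zpow_mul, mul_comm, _root_.zpow_mul,
      zpow_natCast, hxDp, _root_.one_zpow]
  have hZy : IsPGroup p (Subgroup.zpowers yD) := by
    intro z
    obtain ⟨n, hn⟩ := Subgroup.mem_zpowers_iff.mp z.2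
    refine ⟨ky, ?_⟩
    apply Subtype.ext
    rw [Subgroup.coe_pow, Subgroup.coe_one, ← hn, ← zpow_natCast, ← _root_.zpow_mul, mul_comm, _root_.zpow_mul,
      zpow_natCast, hyDp, _root_.one_zpow]
  obtain ⟨P, hP⟩ := hZx.exists_le_sylow
  obtain ⟨P', hP'⟩ := hZy.exists_le_sylow
  obtain ⟨d, hd⟩ := MulAction.exists_smul_eq D P' P
  have hxP : xD ∈ P := hP (Subgroup.mem_zpowers xD)
  have hyP' : yD ∈ P' := hP' (Subgroup.mem_zpowers yD)
  have hdy : d * yD * d⁻¹ ∈ P := by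
    have h0 : (MulAut.conj d) • yD ∈ (MulAut.conj d) • (P' : Subgroup D) :=
      Subgroup.smul_mem_pointwise_smul yD (MulAut.conj d) (P' : Subgroup D) hyP'
    have h1 : ((d • P' : Sylow p D) : Subgroup D) = (MulAut.conj d) • (P' : Subgroup D) :=
      Sylow.coe_subgroup_smul
    rw [← h1, hd] at h0
    have h2 : d * yD * d⁻¹ ∈ (P : Subgroup D) := by
      simpa [MulAut.smul_def, MulAut.conj_apply] using h0
    exact h2
  have hQp : IsPGroup p ((P : Subgroup D).map D.subtype) := P.2.map D.subtype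
  have hQD : (P : Subgroup D).map D.subtype ≤ D := by
    rintro _ ⟨z, _, rfl⟩
    exact z.2
  have hxQ : x ∈ (P : Subgroup D).map D.subtype := ⟨xD, hxP, rfl⟩
  have hQT := hQ _ hQp hQD hxQ
  refine ⟨(d : G), d.2, ?_⟩
  apply hQT
  refine ⟨d * yD * d⁻¹, hdy, ?_⟩
  simp [yD]

theorem toogc7_pow {ι : Type*} [Fintype ι] [DecidableEq ι] (N : Matrix ι ι F) (hN : N * N = 0)
    (c : F) (n : ℕ) : (1 + c • N) ^ n = 1 + ((n : F) * c) • N := by
  induction n with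
  | zero => simp
  | succ n ih =>
    rw [pow_succ, ih]
    simp only [Matrix.add_mul, Matrix.mul_add, Matrix.one_mul, Matrix.mul_one, Matrix.smul_mul,
      Matrix.mul_smul, hN, smul_zero, add_zero, Nat.cast_succ, add_mul, one_mul, add_smul]
    abel

/-- GC7 (core). -/
theorem toogc7_core [Fintype F] (p : ℕ) [Fact p.Prime] [CharP F p] (C : OCtx J1 J2)
    (M : Subgroup (Matrix.GeneralLinearGroup (Fin a × Fin b) F)) (hT : T1 J1 J2 ≤ M)
    (hMO : M ≤ OV J1 J2)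
    (g : Matrix.GeneralLinearGroup (Fin a × Fin b) F) (hg : g ∈ M)
    (w₀₁ w₀₂ w₁ w₂ : Fin b → F) (h₀ : IsTS J2 w₀₁ w₀₂) (hw : IsTS J2 w₁ w₂)
    (hNVsq : ∀ w₁ w₂ : Fin b → F, IsTS J2 w₁ w₂ →
      NV (a := a) J2 w₁ w₂ * NV (a := a) J2 w₁ w₂ = 0)
    (hNVker : ∀ w₁ w₂ : Fin b → F, IsTS J2 w₁ w₂ → ∀ v : Fin a × Fin b → F,
      NV (a := a) J2 w₁ w₂ *ᵥ v = 0 ↔ v ∈ perp (JV J1 J2) (Lpl (a := a) w₁ w₂))
    (hNVrange : ∀ w₁ w₂ : Fin b → F, IsTS J2 w₁ w₂ → ∀ v : Fin a × Fin b → F,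
      (∃ v' : Fin a × Fin b → F, NV (a := a) J2 w₁ w₂ *ᵥ v' = v) ↔ v ∈ Lpl (a := a) w₁ w₂)
    (hxpl : ∀ w₁ w₂ : Fin b → F, IsTS J2 w₁ w₂ → ∀ c : F,
      InM (T1 J1 J2) (1 + c • NV (a := a) J2 w₁ w₂))
    (hpgrp : ∀ Q : Subgroup (Matrix.GeneralLinearGroup (Fin a × Fin b) F), Q ≤ M → IsPGroup p Q →
      ∀ w₁ w₂ : Fin b → F, IsTS J2 w₁ w₂ → ∀ c : F, c ≠ 0 →
      InM Q (1 + c • NV (a := a) J2 w₁ w₂) → Q ≤ K0 a b F)
    (hc1img : ∀ h γ : Matrix.GeneralLinearGroup (Fin a × Fin b) F, h ∈ K0 a b F → h ∈ OV J1 J2 →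
      ∀ w₁ w₂ : Fin b → F, IsTS J2 w₁ w₂ → ∀ c : F, c ≠ 0 →
      (h : Matrix (Fin a × Fin b) (Fin a × Fin b) F) =
        (γ : Matrix (Fin a × Fin b) (Fin a × Fin b) F) * (1 + c • NV (a := a) J2 w₁ w₂) *
          ((γ⁻¹ : Matrix.GeneralLinearGroup (Fin a × Fin b) F) :
            Matrix (Fin a × Fin b) (Fin a × Fin b) F) →
      Std J2 (img γ (Lpl (a := a) w₁ w₂))) :
    ∃ w₁' w₂' : Fin b → F, IsTS J2 w₁' w₂' ∧
      img g (Lpl (a := a) w₀₁ w₀₂) ⊓ perp (JV J1 J2) (Lpl (a := a) w₁ w₂) ≤ Lpl (a := a) w₁' w₂' ∧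
      Lpl (a := a) w₁' w₂' ≤ Lpl (a := a) w₁ w₂ ⊔ img g (Lpl (a := a) w₀₁ w₀₂) := by
  classical
  have hp0 : ((p : ℕ) : F) = 0 := CharP.cast_eq_zero F p
  have hgiso := (mem_Iso_iff_bf (JV J1 J2) g).mp (hMO hg)
  obtain ⟨N, hN⟩ : ∃ N : Matrix (Fin a × Fin b) (Fin a × Fin b) F, N = NV (a := a) J2 w₁ w₂ :=
    ⟨_, rfl⟩
  obtain ⟨N₀, hN₀⟩ : ∃ N₀ : Matrix (Fin a × Fin b) (Fin a × Fin b) F,
      N₀ = NV (a := a) J2 w₀₁ w₀₂ := ⟨_, rfl⟩
  have hNN : N * N = 0 := by rw [hN]; exact hNVsq w₁ w₂ hw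
  have hNN₀ : N₀ * N₀ = 0 := by rw [hN₀]; exact hNVsq w₀₁ w₀₂ h₀
  obtain ⟨x, hxT, hxc⟩ := hxpl w₁ w₂ hw 1
  obtain ⟨x₀, hx₀T, hx₀c⟩ := hxpl w₀₁ w₀₂ h₀ 1
  rw [← hN] at hxc
  rw [← hN₀] at hx₀c
  have hxM : x ∈ M := hT hxT
  have hx₀M : x₀ ∈ M := hT hx₀T
  obtain ⟨y, hy⟩ : ∃ y : Matrix.GeneralLinearGroup (Fin a × Fin b) F, y = g * x₀ * g⁻¹ :=
    ⟨_, rfl⟩
  have hyM : y ∈ M := by
    rw [hy]
    exact M.mul_mem (M.mul_mem hg hx₀M) (M.inv_mem hg)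
  have hxp : x ^ p ^ 1 = 1 := by
    apply Units.ext
    rw [pow_one, Units.val_pow_eq_pow_val, hxc, toogc7_pow N hNN, hp0, zero_mul, zero_smul,
      add_zero, Units.val_one]
  have hx₀p : x₀ ^ p ^ 1 = 1 := by
    apply Units.ext
    rw [pow_one, Units.val_pow_eq_pow_val, hx₀c, toogc7_pow N₀ hNN₀, hp0, zero_mul, zero_smul,
      add_zero, Units.val_one]
  have hyp : y ^ p ^ 1 = 1 := by
    rw [hy, conj_pow, hx₀p, mul_one, mul_inv_cancel]
  have hDM : Subgroup.closure ({x, y} : Set (Matrix.GeneralLinearGroup (Fin a × Fin b) F)) ≤ M := by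
    rw [Subgroup.closure_le]
    rintro z hz
    rcases hz with rfl | hz
    · exact hxM
    · rw [Set.mem_singleton_iff] at hz
      rw [hz]
      exact hyM
  -- the Sylow trick
  obtain ⟨d, hd, hdK⟩ := toogc7_sylow p (K0 a b F) x y ⟨1, hxp⟩ ⟨1, hyp⟩
    (fun Q hQp hQD hxQ => hpgrp Q (hQD.trans hDM) hQp w₁ w₂ hw 1 one_ne_zero
      ⟨x, hxQ, by rw [hxc, hN]⟩)
  have hdM : d ∈ M := hDM hd
  have hdyM : d * y * d⁻¹ ∈ M := M.mul_mem (M.mul_mem hdM hyM) (M.inv_mem hdM)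
  have hconj : ((d * y * d⁻¹ : Matrix.GeneralLinearGroup (Fin a × Fin b) F) :
      Matrix (Fin a × Fin b) (Fin a × Fin b) F) =
      ((d * g : Matrix.GeneralLinearGroup (Fin a × Fin b) F) :
        Matrix (Fin a × Fin b) (Fin a × Fin b) F) * (1 + (1 : F) • NV (a := a) J2 w₀₁ w₀₂) *
      (((d * g)⁻¹ : Matrix.GeneralLinearGroup (Fin a × Fin b) F) :
        Matrix (Fin a × Fin b) (Fin a × Fin b) F) := by
    have h1 : d * y * d⁻¹ = (d * g) * x₀ * (d * g)⁻¹ := by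
      rw [hy]
      group
    rw [h1, Units.val_mul, Units.val_mul, hx₀c, hN₀]
  obtain ⟨w₁', w₂', hTS', himg⟩ := hc1img _ (d * g) hdK (hMO hdyM) w₀₁ w₀₂ h₀ 1 one_ne_zero hconj
  -- action of the generators
  have hx_act : ∀ v : Fin a × Fin b → F,
      (x : Matrix (Fin a × Fin b) (Fin a × Fin b) F) *ᵥ v = v + N *ᵥ v := by
    intro v
    rw [hxc, Matrix.add_mulVec, Matrix.one_mulVec, one_smul]
  have hy_act : ∀ v : Fin a × Fin b → F,
      (y : Matrix (Fin a × Fin b) (Fin a × Fin b) F) *ᵥ v =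
        v + (g : Matrix (Fin a × Fin b) (Fin a × Fin b) F) *ᵥ (N₀ *ᵥ
          (((g⁻¹ : Matrix.GeneralLinearGroup (Fin a × Fin b) F) :
            Matrix (Fin a × Fin b) (Fin a × Fin b) F) *ᵥ v)) := by
    intro v
    rw [hy, toogc8_conj_act g x₀ N₀ 1 hx₀c, one_smul]
  -- the invariant of the closure
  have hP : ∀ d' ∈ Subgroup.closure ({x, y} :
      Set (Matrix.GeneralLinearGroup (Fin a × Fin b) F)),
      (∀ v : Fin a × Fin b → F, v ∈ perp (JV J1 J2) (Lpl (a := a) w₁ w₂) →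
        v ∈ perp (JV J1 J2) (img g (Lpl (a := a) w₀₁ w₀₂)) →
        (d' : Matrix (Fin a × Fin b) (Fin a × Fin b) F) *ᵥ v = v) ∧
      (∀ v : Fin a × Fin b → F, ∃ l ∈ Lpl (a := a) w₁ w₂, ∃ s ∈ img g (Lpl (a := a) w₀₁ w₀₂),
        (d' : Matrix (Fin a × Fin b) (Fin a × Fin b) F) *ᵥ v = v + l + s) := by
    intro d' hd'
    induction hd' using Subgroup.closure_induction with
    | mem z hz =>
      rcases hz with rfl | hz
      · constructor
        · intro v hv1 _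
          have h0 : N *ᵥ v = 0 := by rw [hN]; exact (hNVker w₁ w₂ hw v).mpr hv1
          rw [hx_act, h0, add_zero]
        · intro v
          refine ⟨N *ᵥ v, ?_, 0, Submodule.zero_mem _, ?_⟩
          · rw [hN]
            exact (hNVrange w₁ w₂ hw _).mp ⟨v, rfl⟩
          · rw [hx_act, add_zero]
      · rw [Set.mem_singleton_iff] at hz
        subst hz
        constructor
        · intro v _ hv2
          have hz : N₀ *ᵥ (((g⁻¹ : Matrix.GeneralLinearGroup (Fin a × Fin b) F) :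
              Matrix (Fin a × Fin b) (Fin a × Fin b) F) *ᵥ v) = 0 := by
            rw [hN₀, hNVker w₀₁ w₀₂ h₀]
            intro s₀ hs₀
            rw [← hgiso, toogc8_inv_mulVec]
            exact hv2 _ ((mem_img g _ _).mpr ⟨s₀, hs₀, rfl⟩)
          rw [hy_act, hz, Matrix.mulVec_zero, add_zero]
        · intro v
          refine ⟨0, Submodule.zero_mem _, (g : Matrix (Fin a × Fin b) (Fin a × Fin b) F) *ᵥ (N₀ *ᵥ
            (((g⁻¹ : Matrix.GeneralLinearGroup (Fin a × Fin b) F) :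
              Matrix (Fin a × Fin b) (Fin a × Fin b) F) *ᵥ v)), ?_, ?_⟩
          · rw [mem_img]
            refine ⟨_, ?_, rfl⟩
            rw [hN₀]
            exact (hNVrange w₀₁ w₀₂ h₀ _).mp ⟨_, rfl⟩
          · rw [hy_act, add_zero]
    | one =>
      constructor
      · intro v _ _
        rw [Units.val_one, Matrix.one_mulVec]
      · intro v
        refine ⟨0, Submodule.zero_mem _, 0, Submodule.zero_mem _, ?_⟩
        rw [Units.val_one, Matrix.one_mulVec, add_zero, add_zero]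
    | mul z z' _ _ ihz ihz' =>
      constructor
      · intro v hv1 hv2
        rw [Units.val_mul, ← Matrix.mulVec_mulVec, ihz'.1 v hv1 hv2, ihz.1 v hv1 hv2]
      · intro v
        obtain ⟨l₁, hl₁, s₁, hs₁, h1⟩ := ihz'.2 v
        obtain ⟨l₂, hl₂, s₂, hs₂, h2⟩ :=
          ihz.2 ((z' : Matrix (Fin a × Fin b) (Fin a × Fin b) F) *ᵥ v)
        refine ⟨l₁ + l₂, Submodule.add_mem _ hl₁ hl₂, s₁ + s₂, Submodule.add_mem _ hs₁ hs₂, ?_⟩
        rw [Units.val_mul, ← Matrix.mulVec_mulVec, h2, h1]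
        abel
    | inv z _ ihz =>
      constructor
      · intro v hv1 hv2
        have h1 := ihz.1 v hv1 hv2
        have h2 := toogc8_inv_mulVec' z v
        rw [h1] at h2
        exact h2
      · intro v
        obtain ⟨l₁, hl₁, s₁, hs₁, h1⟩ := ihz.2
          (((z⁻¹ : Matrix.GeneralLinearGroup (Fin a × Fin b) F) :
            Matrix (Fin a × Fin b) (Fin a × Fin b) F) *ᵥ v)
        rw [toogc8_inv_mulVec] at h1
        refine ⟨-l₁, Submodule.neg_mem _ hl₁, -s₁, Submodule.neg_mem _ hs₁, ?_⟩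
        have h1' : ((z⁻¹ : Matrix.GeneralLinearGroup (Fin a × Fin b) F) :
            Matrix (Fin a × Fin b) (Fin a × Fin b) F) *ᵥ v = v - l₁ - s₁ := by
          rw [eq_sub_iff_add_eq, eq_sub_iff_add_eq, add_right_comm]
          exact h1.symm
        rw [h1']
        abel
  obtain ⟨hfix, hmove⟩ := hP d hd
  -- `L_{W₀}` is totally singular
  have hL₀ : ∀ v₀ ∈ Lpl (a := a) w₀₁ w₀₂, v₀ ∈ perp (JV J1 J2) (Lpl (a := a) w₀₁ w₀₂) := by
    intro v₀ hv₀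
    obtain ⟨v', hv'⟩ := (hNVrange w₀₁ w₀₂ h₀ v₀).mpr hv₀
    rw [← hNVker w₀₁ w₀₂ h₀, ← hv', Matrix.mulVec_mulVec, hNVsq w₀₁ w₀₂ h₀, Matrix.zero_mulVec]
  have hdg_act : ∀ v₀ : Fin a × Fin b → F,
      (d : Matrix (Fin a × Fin b) (Fin a × Fin b) F) *ᵥ
        ((g : Matrix (Fin a × Fin b) (Fin a × Fin b) F) *ᵥ v₀) =
      ((d * g : Matrix.GeneralLinearGroup (Fin a × Fin b) F) :
        Matrix (Fin a × Fin b) (Fin a × Fin b) F) *ᵥ v₀ := by
    intro v₀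
    rw [Matrix.mulVec_mulVec, ← Units.val_mul]
  refine ⟨w₁', w₂', hTS', ?_, ?_⟩
  · rintro v ⟨hvS, hvL⟩
    obtain ⟨v₀, hv₀, rfl⟩ := (mem_img g _ _).mp hvS
    have hvS' : (g : Matrix (Fin a × Fin b) (Fin a × Fin b) F) *ᵥ v₀ ∈
        perp (JV J1 J2) (img g (Lpl (a := a) w₀₁ w₀₂)) := by
      intro s hs
      obtain ⟨s₀, hs₀, rfl⟩ := (mem_img g _ _).mp hs
      rw [hgiso]
      exact hL₀ v₀ hv₀ s₀ hs₀
    have h1 := hfix _ hvL hvS'
    rw [← himg, ← h1, hdg_act]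
    exact (mem_img (d * g) _ _).mpr ⟨v₀, hv₀, rfl⟩
  · intro v hv
    rw [← himg] at hv
    obtain ⟨v₀, hv₀, rfl⟩ := (mem_img (d * g) _ _).mp hv
    obtain ⟨l, hl, s, hs, h1⟩ := hmove ((g : Matrix (Fin a × Fin b) (Fin a × Fin b) F) *ᵥ v₀)
    rw [← hdg_act, h1]
    have hgS : (g : Matrix (Fin a × Fin b) (Fin a × Fin b) F) *ᵥ v₀ ∈
        img g (Lpl (a := a) w₀₁ w₀₂) := (mem_img g _ _).mpr ⟨v₀, hv₀, rfl⟩
    have e1 : (g : Matrix (Fin a × Fin b) (Fin a × Fin b) F) *ᵥ v₀ + l + s =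
        l + ((g : Matrix (Fin a × Fin b) (Fin a × Fin b) F) *ᵥ v₀ + s) := by abel
    rw [e1]
    exact Submodule.add_mem_sup hl (Submodule.add_mem _ hgS hs)

end Cfsg.Agent.Lib.Helper28.TOO
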