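import Cfsg.Agent.Lib.Helper28.TOO.Defs2
import Cfsg.Agent.Lib.helper4.TOOGC8core
import Cfsg.Agent.Lib.Helper13.TOOGA6
import Cfsg.Agent.Lib.Helper13.TOOGC4
import Cfsg.Agent.Lib.helper2.TOOGA7

/-! # Project TOO, row GC8 (verbatim wrapper of `toogc8_core`). -/

set_option autoImplicit false
set_option linter.unusedVariables false
set_option linter.unusedSectionVars false

namespace Cfsg.Agent.Lib.Helper28.TOO

open Matrix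
open scoped Kronecker
open Cfsg.Agent.Lib.helper7.TP Cfsg.Agent.Lib.Helper21.TS

variable {a b : ℕ} {F : Type*} [Field F]
variable {J1 : Matrix (Fin a) (Fin a) F} {J2 : Matrix (Fin b) (Fin b) F}

/-- GC8 [M]. `e = 2a`: if `S = g L_{W₀} ≤ L_W^⊥` then `S` is standard.  (`y = g x_{W₀}(1) g⁻¹` fixes `L_W` pointwise
[`N' l = g N₀ g⁻¹ l = 0` as `g⁻¹ l ⊥ L_{W₀}`], so `y ∈ K0` by `StabPl`, then c1_img.) -/
theorem std_of_le_perp (C : OCtx J1 J2) (ha : 1 ≤ a) (hab : a < b)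
    (M : Subgroup (Matrix.GeneralLinearGroup (Fin a × Fin b) F)) (hT : T1 J1 J2 ≤ M) (hMO : M ≤ OV J1 J2) (hb : 5 ≤ b)
    (hS : StabPl (a := a) J2 M)
    (g : Matrix.GeneralLinearGroup (Fin a × Fin b) F) (hg : g ∈ M)
    (w₀₁ w₀₂ w₁ w₂ : Fin b → F) (h₀ : IsTS J2 w₀₁ w₀₂) (hw : IsTS J2 w₁ w₂)
    (hle : img g (Lpl (a := a) w₀₁ w₀₂) ≤ perp (JV J1 J2) (Lpl (a := a) w₁ w₂)) :
    Std J2 (img g (Lpl (a := a) w₀₁ w₀₂)) :=
  toogc8_core C M hT hMO hS g hg w₀₁ w₀₂ w₁ w₂ h₀ hw hle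
    (xpl_mem_T1 C hb w₀₁ w₀₂ h₀ 1)
    (NV_ker C w₀₁ w₀₂ h₀)
    (fun h γ hK hO hconj => c1_img C ha hab h γ hK hO w₀₁ w₀₂ h₀ 1 one_ne_zero hconj)

end Cfsg.Agent.Lib.Helper28.TOO
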