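import Cfsg.Agent.Lib.Helper21.TS.Basic

/-!
# Project TS, piece NONSING: core of `tt_nonsing` (rank-2 trick: singular `w` ⟹ all `w`)

The statements of `sing_ex` (HYPB) and `tt_zero tt_conj tt_smul tt_hyp` (TVCL) are taken as hypotheses.
-/

set_option autoImplicit false
set_option linter.unusedSectionVars false
set_option linter.unusedVariables false

namespace Cfsg.Agent.Lib.Helper21.TS

open Matrix
open scoped Kronecker
open Cfsg.Agent.Lib.helper7.TP

variable {ι : Type*} [Fintype ι] [DecidableEq ι] {a b : ℕ} {F : Type*} [Field F]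
  {J1 : Matrix (Fin a) (Fin a) F} {J2 : Matrix (Fin b) (Fin b) F}
  {M : Subgroup (Matrix.GeneralLinearGroup (Fin a × Fin b) F)}

theorem tsnonsing_ten_zero (w : Fin b → F) : ten (0 : Fin a → F) w = 0 := by
  funext p; simp [ten]

/-- a singular `s` with `2 f(s, π) = Q(π)`, from a hyperbolic pair. -/
theorem tsnonsing_s_ex {J : Matrix ι ι F} (hJ : Jᵀ = J) (two : (2 : F) ≠ 0)
    {w w' : ι → F} (hw : bf J w w = 0) (hw' : bf J w' w' = 0) (hww' : bf J w w' = 1) (π : ι → F) :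
    ∃ s : ι → F, bf J s s = 0 ∧ 2 * bf J s π = bf J π π := by
  obtain ⟨h, hh⟩ : ∃ h : F, 2 * h = 1 := ⟨2⁻¹, mul_inv_cancel₀ two⟩
  by_cases h1 : bf J w π = 0
  · by_cases h2 : bf J w' π = 0
    · refine ⟨h • (w - (h * bf J π π) • w' + π), ?_, ?_⟩
      · have hw'w : bf J w' w = 1 := by rw [bf_symm hJ, hww']
        have hπw : bf J π w = 0 := by rw [bf_symm hJ, h1]
        have hπw' : bf J π w' = 0 := by rw [bf_symm hJ, h2]
        simp only [bf_smul_left, bf_smul_right, bf_add_left, bf_add_right, bf_sub_left, bf_sub_right,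
          hw, hw', hww', hw'w, h1, h2, hπw, hπw']
        linear_combination (-(h * h * bf J π π)) * hh
      · simp only [bf_smul_left, bf_add_left, bf_sub_left, h1, h2]
        linear_combination (bf J π π) * hh
    · refine ⟨(h * bf J π π / bf J w' π) • w', ?_, ?_⟩
      · rw [bf_smul_left, bf_smul_right, hw', mul_zero, mul_zero]
      · rw [bf_smul_left, div_mul_cancel₀ _ h2]
        linear_combination (bf J π π) * hh
  · refine ⟨(h * bf J π π / bf J w π) • w, ?_, ?_⟩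
    · rw [bf_smul_left, bf_smul_right, hw, mul_zero, mul_zero]
    · rw [bf_smul_left, div_mul_cancel₀ _ h1]
      linear_combination (bf J π π) * hh

/-- the rank-2 trick: `s`, `w₂` singular with `f₂(s,w₂) ≠ 0` ⟹ `u ⊗ (s + w₂) ∈ TT`. -/
theorem tsnonsing_step (C : Ctx J1 J2) (hT0 : T0 J1 J2 ≤ M)
    (hconj : ∀ (h : Matrix.GeneralLinearGroup (Fin a × Fin b) F), h ∈ M →
      ∀ (v : Fin a × Fin b → F), TT J1 J2 M v →
        TT J1 J2 M ((h : Matrix (Fin a × Fin b) (Fin a × Fin b) F) *ᵥ v))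
    (hsmul : ∀ (v : Fin a × Fin b → F), TT J1 J2 M v → ∀ c : F, TT J1 J2 M (c • v))
    (hhyp : ∀ (v v' : Fin a × Fin b → F), TT J1 J2 M v → TT J1 J2 M v' →
      bf (JV J1 J2) v v' ≠ 0 → TT J1 J2 M (v + v'))
    (hsing : ∀ (u : Fin a → F) (w : Fin b → F), bf J2 w w = 0 → TT J1 J2 M (ten u w))
    {u u₁ : Fin a → F} {s w₂ : Fin b → F} (hu1 : bf J1 u u₁ = 1) (hs : bf J2 s s = 0)
    (hw₂ : bf J2 w₂ w₂ = 0) (hsw : bf J2 s w₂ ≠ 0) :
    TT J1 J2 M (ten u (s + w₂)) := by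
  have huu : bf J1 u u = 0 := bf_self_alt C.alt C.two u
  have hu1u1 : bf J1 u₁ u₁ = 0 := bf_self_alt C.alt C.two u₁
  have hu1' : bf J1 u₁ u = -1 := by rw [bf_alt C.alt, hu1]
  have hws : bf J2 w₂ s = bf J2 s w₂ := bf_symm C.sym _ _
  have hJVt : (JV J1 J2)ᵀ = -JV J1 J2 := JV_transpose C.alt C.sym
  -- the vector `x`
  have hx : TT J1 J2 M (ten u₁ s + ten (u₁ + u) w₂) := by
    apply hhyp _ _ (hsing _ _ hs) (hsing _ _ hw₂)
    rw [bf_JV_ten, bf_add_right, hu1u1, hu1', zero_add, neg_one_mul]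
    exact neg_ne_zero.mpr hsw
  -- the element `k = t_u(1) ⊗ 1`
  have hk : kronG (tvG J1 u huu 1) (1 : Matrix.GeneralLinearGroup (Fin b) F) ∈ M :=
    hT0 (kronG_mem_T0 (tvG_mem_Iso C.alt u huu 1) (one_mem _))
  have hkx := hconj _ hk _ hx
  have hkt : ∀ (u' : Fin a → F) (w' : Fin b → F),
      ((kronG (tvG J1 u huu 1) (1 : Matrix.GeneralLinearGroup (Fin b) F) :
        Matrix.GeneralLinearGroup (Fin a × Fin b) F) :
          Matrix (Fin a × Fin b) (Fin a × Fin b) F) *ᵥ ten u' w'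
        = ten (u' + bf J1 u u' • u) w' := by
    intro u' w'
    rw [kronG_mulVec_ten, tvG_coe, tvm_mulVec, one_mul, Units.val_one, Matrix.one_mulVec]
  have hkx_eq : ((kronG (tvG J1 u huu 1) (1 : Matrix.GeneralLinearGroup (Fin b) F) :
        Matrix.GeneralLinearGroup (Fin a × Fin b) F) :
          Matrix (Fin a × Fin b) (Fin a × Fin b) F) *ᵥ (ten u₁ s + ten (u₁ + u) w₂)
      = (ten u₁ s + ten (u₁ + u) w₂) + ten u (s + w₂) := by
    rw [Matrix.mulVec_add, hkt, hkt, bf_add_right, hu1, huu, add_zero, one_smul]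
    funext p
    simp only [ten, Pi.add_apply]
    ring
  rw [hkx_eq] at hkx
  have hne : bf (JV J1 J2) ((ten u₁ s + ten (u₁ + u) w₂) + ten u (s + w₂))
      ((-1 : F) • (ten u₁ s + ten (u₁ + u) w₂)) ≠ 0 := by
    have hxx : bf (JV J1 J2) (ten u₁ s + ten (u₁ + u) w₂) (ten u₁ s + ten (u₁ + u) w₂) = 0 :=
      bf_self_alt hJVt C.two _
    have hyx : bf (JV J1 J2) (ten u (s + w₂)) (ten u₁ s + ten (u₁ + u) w₂) = 2 * bf J2 s w₂ := by
      rw [bf_add_right, bf_JV_ten, bf_JV_ten, bf_add_right, bf_add_left, bf_add_left, hu1, huu, hs,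
        hw₂, hws]
      ring
    rw [bf_smul_right, bf_add_left, hxx, hyx]
    intro h0
    have h2 : (2 : F) * bf J2 s w₂ = 0 := by linear_combination -h0
    rcases mul_eq_zero.mp h2 with h | h
    · exact C.two h
    · exact hsw h
  have hfinal := hhyp _ _ hkx (hsmul _ hx (-1)) hne
  have e : (ten u₁ s + ten (u₁ + u) w₂) + ten u (s + w₂) + (-1 : F) • (ten u₁ s + ten (u₁ + u) w₂)
      = ten u (s + w₂) := by
    rw [neg_one_smul]; abel
  rwa [e] at hfinal

/-- NONSING core: `tt_nonsing` with the statements of `sing_ex` and of `tt_zero tt_conj tt_smul tt_hyp` as hypotheses. -/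
theorem tsnonsing_core (C : Ctx J1 J2) (hT0 : T0 J1 J2 ≤ M)
    (hsx : ∃ w w' : Fin b → F, bf J2 w w = 0 ∧ bf J2 w' w' = 0 ∧ bf J2 w w' = 1)
    (h0 : TT J1 J2 M 0)
    (hconj : ∀ (h : Matrix.GeneralLinearGroup (Fin a × Fin b) F), h ∈ M →
      ∀ (v : Fin a × Fin b → F), TT J1 J2 M v →
        TT J1 J2 M ((h : Matrix (Fin a × Fin b) (Fin a × Fin b) F) *ᵥ v))
    (hsmul : ∀ (v : Fin a × Fin b → F), TT J1 J2 M v → ∀ c : F, TT J1 J2 M (c • v))
    (hhyp : ∀ (v v' : Fin a × Fin b → F), TT J1 J2 M v → TT J1 J2 M v' →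
      bf (JV J1 J2) v v' ≠ 0 → TT J1 J2 M (v + v'))
    (hsing : ∀ (u : Fin a → F) (w : Fin b → F), bf J2 w w = 0 → TT J1 J2 M (ten u w)) :
    ∀ (u : Fin a → F) (w : Fin b → F), TT J1 J2 M (ten u w) := by
  intro u π
  by_cases hν : bf J2 π π = 0
  · exact hsing u π hν
  by_cases hu : u = 0
  · rw [hu, tsnonsing_ten_zero]; exact h0
  obtain ⟨w₁, w₁', hw₁, hw₁', hw₁₁⟩ := hsx
  obtain ⟨s, hs, hsπ⟩ := tsnonsing_s_ex C.sym C.two hw₁ hw₁' hw₁₁ π
  obtain ⟨y, hy⟩ := bf_nondeg C.det1 hu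
  have hu1 : bf J1 u ((bf J1 u y)⁻¹ • y) = 1 := by rw [bf_smul_right, inv_mul_cancel₀ hy]
  have hπs : bf J2 π s = bf J2 s π := bf_symm C.sym _ _
  have hw₂ : bf J2 (π - s) (π - s) = 0 := by
    rw [bf_sub_left, bf_sub_right, bf_sub_right, hs, hπs]
    linear_combination -hsπ
  have hsw : bf J2 s (π - s) ≠ 0 := by
    rw [bf_sub_right, hs, sub_zero]
    intro h
    apply hν
    rw [← hsπ, h, mul_zero]
  have := tsnonsing_step C hT0 hconj hsmul hhyp hsing hu1 hs hw₂ hsw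
  rwa [add_sub_cancel] at this

end Cfsg.Agent.Lib.Helper21.TS
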