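import Mathlib
import Cfsg.Agent.Lib.helper4.PrimSolv

set_option autoImplicit false

namespace Cfsg.Agent.Lib.helper4

open Subgroup

section

variable {G : Type*} [Group G]

/-- two subgroups that are complements of the same normal subgroup inside the same overgroup
are isomorphic. -/
theorem nonempty_mulEquiv_of_common_complement (N H K : Subgroup G) [N.Normal]
    (hH : H ⊓ N = ⊥) (hK : K ⊓ N = ⊥) (hsup : H ⊔ N = K ⊔ N) : Nonempty (H ≃* K) := by
  have inj : ∀ L : Subgroup G, L ⊓ N = ⊥ →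
      Function.Injective ((QuotientGroup.mk' N).comp L.subtype) := by
    intro L hL
    rw [injective_iff_map_eq_one]
    intro x hx
    have h1 : (x : G) ∈ N := by
      rw [MonoidHom.comp_apply, QuotientGroup.mk'_apply, QuotientGroup.eq_one_iff] at hx
      exact hx
    have h2 : (x : G) ∈ L ⊓ N := ⟨x.2, h1⟩
    rw [hL, Subgroup.mem_bot] at h2
    exact Subtype.ext h2
  have rng : ∀ L : Subgroup G, ((QuotientGroup.mk' N).comp L.subtype).range
      = (L ⊔ N).map (QuotientGroup.mk' N) := by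
    intro L
    rw [MonoidHom.range_comp, Subgroup.range_subtype, Subgroup.map_sup,
      QuotientGroup.map_mk'_self, sup_bot_eq]
  have e1 := MonoidHom.ofInjective (inj H hH)
  have e2 := MonoidHom.ofInjective (inj K hK)
  have heq : ((QuotientGroup.mk' N).comp H.subtype).range
      = ((QuotientGroup.mk' N).comp K.subtype).range := by
    rw [rng H, rng K, hsup]
  exact ⟨e1.trans ((MulEquiv.subgroupCongr heq).trans e2.symm)⟩

theorem inf_eq_bot_of_min_normal (A B : Subgroup G) [hAn : A.Normal] [hBn : B.Normal]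
    (hA : A ≠ ⊥)
    (hAmin : ∀ K : Subgroup G, K.Normal → K ≤ A → K = ⊥ ∨ K = A)
    (hBmin : ∀ K : Subgroup G, K.Normal → K ≤ B → K = ⊥ ∨ K = B) (hAB : A ≠ B) :
    A ⊓ B = ⊥ := by
  have hn : (A ⊓ B).Normal := inferInstance
  rcases hAmin _ hn inf_le_left with h | h
  · exact h
  · exfalso
    have hle : A ≤ B := by rw [← h]; exact inf_le_right
    rcases hBmin A hAn hle with h' | h'
    · exact hA h'
    · exact hAB h'

theorem centralizer_eq_of_corefree (U : Subgroup G) (hU : IsCoatom U) (hcore : U.normalCore = ⊥)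
    (A B : Subgroup G) [hAn : A.Normal] [hBn : B.Normal] (hA : A ≠ ⊥) (hB : B ≠ ⊥)
    (hdisj : A ⊓ B = ⊥) : Subgroup.centralizer (A : Set G) = B := by
  have hcomm : ∀ a ∈ A, ∀ b ∈ B, a * b = b * a := fun a ha b hb =>
    Subgroup.commute_of_normal_of_disjoint A B hAn hBn (disjoint_iff.mpr hdisj) a b ha hb
  have hBC : B ≤ Subgroup.centralizer (A : Set G) := by
    intro b hb
    rw [Subgroup.mem_centralizer_iff]
    intro a ha
    exact hcomm a ha b hb
  apply le_antisymm _ hBC
  intro c hc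
  have hsup := sup_eq_top_of_corefree U hU hcore B hB
  have h1 : c ∈ (B ⊔ U : Subgroup G) := by rw [hsup]; exact Subgroup.mem_top c
  rw [← SetLike.mem_coe, Subgroup.normal_mul] at h1
  obtain ⟨b, hb, u, hu, rfl⟩ := Set.mem_mul.mp h1
  have hu' : u ∈ U ⊓ Subgroup.centralizer (A : Set G) := by
    refine ⟨hu, ?_⟩
    have : u = b⁻¹ * (b * u) := by group
    rw [this]
    exact Subgroup.mul_mem _ (Subgroup.inv_mem _ (hBC hb)) hc
  rw [inf_centralizer_eq_bot U hU hcore A hA, Subgroup.mem_bot] at hu'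
  rw [hu', mul_one]
  exact hb

theorem two_min_normal [Finite G] (U : Subgroup G) (hU : IsCoatom U) (hcore : U.normalCore = ⊥)
    (A B : Subgroup G) [hAn : A.Normal] [hBn : B.Normal] (hA : A ≠ ⊥) (hB : B ≠ ⊥)
    (hAmin : ∀ K : Subgroup G, K.Normal → K ≤ A → K = ⊥ ∨ K = A)
    (hBmin : ∀ K : Subgroup G, K.Normal → K ≤ B → K = ⊥ ∨ K = B) (hAB : A ≠ B) :
    Subgroup.centralizer (B : Set G) = A ∧ Subgroup.centralizer (A : Set G) = B ∧
    Subgroup.IsComplement' A U ∧ Subgroup.IsComplement' B U ∧ ¬ IsMulCommutative A ∧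
    Nonempty (A ≃* B) ∧ Nonempty (A ≃* ↥((A ⊔ B) ⊓ U)) := by
  have hdisj : A ⊓ B = ⊥ := inf_eq_bot_of_min_normal A B hA hAmin hBmin hAB
  have hdisj' : B ⊓ A = ⊥ := by rw [inf_comm]; exact hdisj
  have hCA : Subgroup.centralizer (A : Set G) = B :=
    centralizer_eq_of_corefree U hU hcore A B hA hB hdisj
  have hCB : Subgroup.centralizer (B : Set G) = A :=
    centralizer_eq_of_corefree U hU hcore B A hB hA hdisj'
  have hUA : U ⊓ A = ⊥ := by
    have := inf_centralizer_eq_bot U hU hcore B hB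
    rwa [hCB] at this
  have hUB : U ⊓ B = ⊥ := by
    have := inf_centralizer_eq_bot U hU hcore A hA
    rwa [hCA] at this
  have hsupA := sup_eq_top_of_corefree U hU hcore A hA
  have hsupB := sup_eq_top_of_corefree U hU hcore B hB
  have compl : ∀ (N : Subgroup G) [N.Normal], U ⊓ N = ⊥ → N ⊔ U = ⊤ →
      Subgroup.IsComplement' N U := by
    intro N _ h1 h2
    apply Subgroup.isComplement'_of_disjoint_and_mul_eq_univ
    · rw [disjoint_iff, inf_comm]; exact h1
    · rw [← Subgroup.normal_mul, h2]; rfl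
  -- the isomorphisms
  have iso : ∀ (A B : Subgroup G) [A.Normal] [B.Normal], A ⊓ B = ⊥ → U ⊓ B = ⊥ → B ⊔ U = ⊤ →
      Nonempty (A ≃* ↥((A ⊔ B) ⊓ U)) := by
    intro A B _ _ hdisj hUB hsupB
    apply nonempty_mulEquiv_of_common_complement B A ((A ⊔ B) ⊓ U) hdisj
    · rw [eq_bot_iff, ← hUB]
      exact le_inf (inf_le_left.trans inf_le_right) inf_le_right
    · apply le_antisymm
      · intro x hx
        have h1 : x ∈ (B ⊔ U : Subgroup G) := by rw [hsupB]; exact Subgroup.mem_top x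
        rw [← SetLike.mem_coe, Subgroup.normal_mul] at h1
        obtain ⟨b, hb, u, hu, rfl⟩ := Set.mem_mul.mp h1
        have hbAB : b ∈ A ⊔ B := (le_sup_right : B ≤ A ⊔ B) hb
        have hu' : u ∈ (A ⊔ B) ⊓ U := by
          refine ⟨?_, hu⟩
          have : u = b⁻¹ * (b * u) := by group
          rw [this]
          exact Subgroup.mul_mem _ (Subgroup.inv_mem _ hbAB) hx
        exact Subgroup.mul_mem _ ((le_sup_right : B ≤ (A ⊔ B) ⊓ U ⊔ B) hb)
          ((le_sup_left : (A ⊔ B) ⊓ U ≤ (A ⊔ B) ⊓ U ⊔ B) hu')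
      · exact sup_le inf_le_left le_sup_right
  have isoA := iso A B hdisj hUB hsupB
  have isoB := iso B A hdisj' hUA hsupA
  refine ⟨hCB, hCA, compl A hUA hsupA, compl B hUB hsupB, ?_, ?_, isoA⟩
  · intro hAc
    have hAle : A ≤ Subgroup.centralizer (A : Set G) := by
      intro a ha
      rw [Subgroup.mem_centralizer_iff]
      intro a' ha'
      exact (Cfsg.Agent.Lib.Helper1.isMulCommutative_subgroup_iff A).mp hAc a' ha' a ha
    rw [hCA] at hAle
    have : A ≤ A ⊓ B := le_inf le_rfl hAle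
    rw [hdisj] at this
    exact hA (le_bot_iff.mp this)
  · obtain ⟨e1⟩ := isoA
    obtain ⟨e2⟩ := isoB
    have heq : (B ⊔ A) ⊓ U = (A ⊔ B) ⊓ U := by rw [sup_comm]
    exact ⟨e1.trans ((MulEquiv.subgroupCongr heq).symm.trans e2.symm)⟩

end

end Cfsg.Agent.Lib.helper4
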