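import Mathlib
import Cfsg.Agent.Lib.Helper18.PRL.Defs
import Cfsg.Agent.Lib.Helper21.MaxClassP
import Cfsg.Agent.Lib.helper4.UE.Defs
import Cfsg.Agent.Lib.helper4.UEA
import Cfsg.Agent.Lib.helper23.UECARD
import Cfsg.Agent.Lib.helper23.UESTEP

/-!
# UE-MAIN: every p-group of maximal class of order at least p^4 has an element whose
centralizer has order at most p^2 (induction on the order, through `G / Z(G)`).
-/

set_option autoImplicit false

namespace Cfsg.Agent.Lib.helper4.UE

open Cfsg.Agent.Lib.Helper18.PRL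
open scoped commutatorElement

universe u

theorem h4ue_main_aux (p : ℕ) [Fact p.Prime] :
    ∀ (n : ℕ) (X : Type u) [Group X] [Finite X], MC p X n → 4 ≤ n →
      ∃ s : X, Nat.card (Subgroup.centralizer ({s} : Set X)) ≤ p ^ 2 := by
  intro n
  induction n with
  | zero => intro X _ _ _ h4; omega
  | succ k ih =>
    intro X _ _ hMC h4
    rcases Nat.lt_or_ge k 4 with hk | hk
    · -- `k + 1 = 4`: only `K_2`
      have hk3 : k = 3 := by omega
      subst hk3
      have hne : K X 2 ≠ ⊤ := K_ne_top hMC (by omega) 2 le_rfl (by omega)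
      obtain ⟨s, hs⟩ : ∃ s : X, s ∉ K X 2 := by
        by_contra hcon
        exact hne (eq_top_iff.2 fun x _ => by_contra fun hx => hcon ⟨x, hx⟩)
      refine ⟨s, card_centralizer_le_of_not_ts hMC (by omega) s ?_⟩
      intro j hj hj'
      have hj2 : j = 2 := by omega
      subst hj2
      exact hs
    · obtain ⟨-, hQcard, hQclass⟩ :=
        Helper21.mc_center_card p (k + 1) (by omega) X hMC.1 hMC.2
      have hQ : MC p (X ⧸ Subgroup.center X) k := by
        refine ⟨by simpa using hQcard, ?_⟩
        rw [hQclass]; omega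
      have hq := ih (X ⧸ Subgroup.center X) hQ hk
      obtain ⟨s, hs⟩ := exists_not_ts_of_quotient hMC (by omega) hq
      exact ⟨s, card_centralizer_le_of_not_ts hMC (by omega) s hs⟩

section mc
variable {p : ℕ} [Fact p.Prime] {G : Type u} [Group G] [Finite G] {n : ℕ}

/-- UE-MAIN (leader): uniform elements exist. -/
theorem exists_small_centralizer (h : MC p G n) (hn : 4 ≤ n) :
    ∃ s : G, Nat.card (Subgroup.centralizer ({s} : Set G)) ≤ p ^ 2 :=
  h4ue_main_aux p n G h hn

end mc

end Cfsg.Agent.Lib.helper4.UE
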