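import Cfsg.Agent.Lib.helper6.UTP.Defs

/-!
# Project UTP, piece PLANE (core): all isotropic vectors of `⟨u, u'⟩ ⊗ B` are in `XSu`.
The core takes the statement of `xsu_pair` (piece XSAPI) for the given `M` as a hypothesis.
-/

set_option autoImplicit false
set_option linter.unusedVariables false
set_option linter.unusedSectionVars false

namespace Cfsg.Agent.Lib.helper6.UTP

open Matrix
open scoped Kronecker
open Cfsg.Agent.Lib.helper7.TP

variable {F : Type*} [Field F] {a b : ℕ}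

theorem utpplane_ten_zero (u : Fin a → F) : ten u (0 : Fin b → F) = 0 := by
  funext p
  simp [ten]

/-- a non-zero skew scalar -/
theorem utpplane_skew (σ : F ≃+* F) (hσ : Inv2 σ) : ∃ c₀ : F, c₀ ≠ 0 ∧ σ c₀ = -c₀ := by
  obtain ⟨x, hx⟩ := hσ.moved
  refine ⟨x - σ x, fun h => hx (sub_eq_zero.1 h).symm, ?_⟩
  rw [map_sub, hσ.invol, neg_sub]

/-- `hf m ·` is onto for `m ≠ 0` -/
theorem utpplane_onto (σ : F ≃+* F) (hσ : Inv2 σ) {m : Fin b → F} (hm : m ≠ 0) (t : F) :
    ∃ m'' : Fin b → F, hf σ m m'' = t := by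
  obtain ⟨y₀, hy₀⟩ : ∃ y₀, hf σ m y₀ ≠ 0 := by
    by_contra hcon
    push Not at hcon
    exact hm (hf_nondeg' σ hσ m hcon)
  refine ⟨σ (t / hf σ m y₀) • y₀, ?_⟩
  rw [hf_smul_right, hσ.invol, div_mul_cancel₀ _ hy₀]

theorem utpplane_core (σ : F ≃+* F) (hσ : Inv2 σ)
    (M : Subgroup (Matrix.GeneralLinearGroup (Fin a × Fin b) F))
    (hpair : ∀ {y z : Fin a × Fin b → F}, y ∈ XSu σ M → z ∈ XSu σ M → hf σ y z ≠ 0 →
      σ (hf σ y z) = -hf σ y z → y + z ∈ XSu σ M)
    (h1 : ∀ (u : Fin a → F) (m : Fin b → F), cj σ u ⬝ᵥ u = 0 → ten u m ∈ XSu σ M)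
    (u u' : Fin a → F) (hu : cj σ u ⬝ᵥ u = 0) (hu' : cj σ u' ⬝ᵥ u' = 0) (huu' : hf σ u u' ≠ 0)
    (m m' : Fin b → F)
    (hv : hf σ (ten u m + ten u' m') (ten u m + ten u' m') = 0) : ten u m + ten u' m' ∈ XSu σ M := by
  have huu : hf σ u u = 0 := (iso_iff σ u).1 hu
  have hu'u' : hf σ u' u' = 0 := (iso_iff σ u').1 hu'
  have hskew : σ (hf σ (ten u m) (ten u' m')) = -hf σ (ten u m) (ten u' m') := by
    rw [hf_add_left, hf_add_right, hf_add_right, hf_ten σ u u, huu, zero_mul, hf_ten σ u' u', hu'u',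
      zero_mul, add_zero, zero_add, hf_herm σ hσ (ten u' m') (ten u m)] at hv
    exact eq_neg_of_add_eq_zero_right hv
  by_cases h0 : hf σ (ten u m) (ten u' m') = 0
  · have hmm' : hf σ m m' = 0 := by
      rw [hf_ten] at h0
      rcases mul_eq_zero.1 h0 with h | h
      · exact absurd h huu'
      · exact h
    by_cases hm : m = 0
    · rw [hm, utpplane_ten_zero, zero_add]
      exact h1 u' m' hu'
    · obtain ⟨c₀, hc₀, hc₀s⟩ := utpplane_skew σ hσ
      obtain ⟨m'', hm''⟩ := utpplane_onto σ hσ hm (c₀ / hf σ u u')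
      have hm2 : hf σ u u' * hf σ m m'' = c₀ := by
        rw [hm'', mul_div_cancel₀ _ huu']
      have e1 : hf σ (ten u m) (ten u' (m' - m'')) = -c₀ := by
        rw [hf_ten, hf_sub_right, hmm', zero_sub, mul_neg, hm2]
      have s1 : ten u m + ten u' (m' - m'') ∈ XSu σ M :=
        hpair (h1 u m hu) (h1 u' _ hu') (by rw [e1]; exact neg_ne_zero.2 hc₀)
          (by rw [e1, map_neg, hc₀s])
      have e2 : hf σ (ten u m + ten u' (m' - m'')) (ten u' m'') = c₀ := by
        rw [hf_add_left, hf_ten, hf_ten, hu'u', zero_mul, add_zero, hm2]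
      have s2 := hpair s1 (h1 u' m'' hu') (by rw [e2]; exact hc₀) (by rw [e2]; exact hc₀s)
      have e3 : ten u m + ten u' (m' - m'') + ten u' m'' = ten u m + ten u' m' := by
        rw [add_assoc, ← ten_add_right, sub_add_cancel]
      rw [← e3]
      exact s2
  · exact hpair (h1 u m hu) (h1 u' m' hu') h0 hskew

end Cfsg.Agent.Lib.helper6.UTP
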