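import Cfsg.Agent.Lib.helper6.UTP.Defs
import Cfsg.Agent.Lib.helper4.UTPPLANEcore
import Cfsg.Agent.Lib.Helper18.UTPXSAPI

/-!
# Project UTP, piece PLANE: `xs_plane` verbatim (the core is in `helper4/UTPPLANEcore`).
-/

set_option autoImplicit false
set_option linter.unusedVariables false
set_option linter.unusedSectionVars false

namespace Cfsg.Agent.Lib.helper6.UTP

open Matrix
open scoped Kronecker
open Cfsg.Agent.Lib.helper7.TP

variable {F : Type*} [Field F] {a b : ℕ}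

theorem xs_plane (σ : F ≃+* F) (hσ : Inv2 σ)
    (M : Subgroup (Matrix.GeneralLinearGroup (Fin a × Fin b) F))
    (h1 : ∀ (u : Fin a → F) (m : Fin b → F), cj σ u ⬝ᵥ u = 0 → ten u m ∈ XSu σ M)
    (u u' : Fin a → F) (hu : cj σ u ⬝ᵥ u = 0) (hu' : cj σ u' ⬝ᵥ u' = 0) (huu' : hf σ u u' ≠ 0)
    (m m' : Fin b → F)
    (hv : hf σ (ten u m + ten u' m') (ten u m + ten u' m') = 0) : ten u m + ten u' m' ∈ XSu σ M :=
  utpplane_core σ hσ M (fun hy hz hyz hskew => xsu_pair σ hσ M hy hz hyz hskew) h1 u u' hu hu' huu'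
    m m' hv

end Cfsg.Agent.Lib.helper6.UTP
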