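import Mathlib
import Cfsg.Agent.Lib.helper4.WielandtFamilyB

set_option autoImplicit false

namespace Cfsg.Agent.Lib.helper4

open Subgroup
open Pointwise

universe u

theorem zipper_unique_max {G : Type u} [Group G] [Finite G] (A : Subgroup G)
    (U : Set (Subgroup G)) (hU : U.Nonempty) (S : Subgroup G → Set (Subgroup G))
    (hS : ∀ V B : Subgroup G, B ∈ S V ↔
      (∃ g : G, B = MulAut.conj g • A) ∧ B ≤ V ∧ (B.subgroupOf V).IsSubnormal)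
    (h2 : ∀ V ∈ U, ∀ W ∈ U, ∀ B ∈ S W, B ≤ V → B ∈ S V)
    (h3 : ∀ V ∈ U, ∀ W ∈ U, ∃ X ∈ U,
      Subgroup.normalizer ((sSup (S V ∩ S W) : Subgroup G) : Set G) ≤ X) :
    ∃ M ∈ U, ∀ V ∈ U, V ≤ M := by
  classical
  have hfin : U.Finite := Set.toFinite U
  have hmax : ∀ V ∈ U, ∃ M, V ≤ M ∧ Maximal (· ∈ U) M := fun V hV => hfin.exists_le_maximal hV
  -- S V is closed under V-conjugation
  have hcl : ∀ V : Subgroup G, ∀ B ∈ S V, ∀ m ∈ V, MulAut.conj m • B ∈ S V := by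
    intro V B hB m hm
    rw [hS] at hB ⊢
    obtain ⟨⟨g, rfl⟩, hBV, hBsn⟩ := hB
    refine ⟨⟨m * g, ?_⟩, ?_, ?_⟩
    · rw [map_mul, mul_smul]
    · exact Subgroup.conj_smul_le_of_le hBV ⟨m, hm⟩
    · rw [← Subgroup.conj_smul_subgroupOf hBV ⟨m, hm⟩]
      exact hBsn.smul _
  by_contra hcon
  push Not at hcon
  obtain ⟨V₀, hV₀⟩ := hU
  obtain ⟨M₀, hV₀M₀, hM₀⟩ := hmax V₀ hV₀
  obtain ⟨V₁, hV₁U, hV₁⟩ := hcon M₀ hM₀.prop
  obtain ⟨M₀', hV₁M₀', hM₀'⟩ := hmax V₁ hV₁U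
  have hne₀ : M₀ ≠ M₀' := by
    rintro rfl
    exact hV₁ hV₁M₀'
  let P : Set (Subgroup G × Subgroup G) :=
    {q | Maximal (· ∈ U) q.1 ∧ Maximal (· ∈ U) q.2 ∧ q.1 ≠ q.2}
  have hPne : P.Nonempty := ⟨(M₀, M₀'), hM₀, hM₀', hne₀⟩
  obtain ⟨⟨M₁, M₂⟩, hq, hqmax⟩ :=
    Set.exists_max_image P (fun q => (S q.1 ∩ S q.2).ncard) (Set.toFinite P) hPne
  have key : ∀ M₁ M₂ : Subgroup G, (M₁, M₂) ∈ P →
      (∀ b ∈ P, (S b.1 ∩ S b.2).ncard ≤ (S M₁ ∩ S M₂).ncard) →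
      ∀ M₃, Maximal (· ∈ U) M₃ →
      Subgroup.normalizer ((sSup (S M₁ ∩ S M₂) : Subgroup G) : Set G) ≤ M₃ → M₁ = M₃ := by
    intro M₁ M₂ hq hqmax M₃ hM₃ hN
    obtain ⟨hM₁, hM₂, hne⟩ := hq
    by_cases hSig : S M₁ ∩ S M₂ = S M₁
    · have hle : M₁ ≤ M₃ := by
        refine le_trans ?_ hN
        rw [hSig]
        exact le_normalizer_sSup_of_conj_closed M₁ (S M₁) (hcl M₁)
      exact hM₁.eq_of_le hM₃.prop hle
    · have hss : S M₁ ∩ S M₂ ⊂ S M₁ :=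
        ⟨Set.inter_subset_left, fun h => hSig (Set.Subset.antisymm Set.inter_subset_left h)⟩
      obtain ⟨X₁, hX₁S, hX₁n, hX₁N⟩ := wielandt_family_rel M₁ (S M₁) (S M₁ ∩ S M₂)
        (fun B hB => ((hS M₁ B).mp hB).2.1) (fun B hB => ((hS M₁ B).mp hB).2.2)
        (hcl M₁) hss
      by_contra hne13
      have hmem : (M₁, M₃) ∈ P := ⟨hM₁, hM₃, hne13⟩
      have hle := hqmax _ hmem
      have hlt : (S M₁ ∩ S M₂).ncard < (S M₁ ∩ S M₃).ncard := by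
        apply Set.ncard_lt_ncard _ (Set.toFinite _)
        refine ⟨?_, ?_⟩
        · intro B hB
          refine ⟨hB.1, ?_⟩
          apply h2 M₃ hM₃.prop M₁ hM₁.prop B hB.1
          exact ((le_sSup hB).trans Subgroup.le_normalizer).trans hN
        · intro h
          have h4 : X₁ ∈ S M₁ ∩ S M₃ :=
            ⟨hX₁S, h2 M₃ hM₃.prop M₁ hM₁.prop X₁ hX₁S (hX₁N.trans hN)⟩
          exact hX₁n (h h4)
      simp only at hle
      omega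
  obtain ⟨X, hXU, hX⟩ := h3 M₁ hq.1.prop M₂ hq.2.1.prop
  obtain ⟨M₃, hXM₃, hM₃⟩ := hmax X hXU
  have e1 : M₁ = M₃ := key M₁ M₂ hq hqmax M₃ hM₃ (hX.trans hXM₃)
  have e2 : M₂ = M₃ := by
    apply key M₂ M₁ ⟨hq.2.1, hq.1, hq.2.2.symm⟩ _ M₃ hM₃
    · rw [Set.inter_comm]
      exact hX.trans hXM₃
    · intro b hb
      rw [Set.inter_comm (S M₂)]
      exact hqmax b hb
  exact hq.2.2 (e1.trans e2.symm)

end Cfsg.Agent.Lib.helper4
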